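import Cfsg.Statements.S3778
-- import your own Cfsg.Agent.* helpers here

set_option autoImplicit false
open Cfsg

namespace Cfsg.Agent.S3778

open Subgroup
open scoped commutatorElement

variable {G : Type*} [Group G]

/-- The centralizer of `γ_i / γ_{i+2}`. -/
def twoStep (i : ℕ) : Subgroup G :=
  (Subgroup.centralizer (((⊤ : Subgroup G).lowerCentralSeries i).map
    (QuotientGroup.mk' ((⊤ : Subgroup G).lowerCentralSeries (i + 2))) : Set _)).comap
    (QuotientGroup.mk' ((⊤ : Subgroup G).lowerCentralSeries (i + 2)))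

theorem mem_twoStep {i : ℕ} {x : G} :
    x ∈ twoStep i ↔ ∀ g ∈ (⊤ : Subgroup G).lowerCentralSeries i,
      ⁅g, x⁆ ∈ (⊤ : Subgroup G).lowerCentralSeries (i + 2) := by
  simp only [twoStep, Subgroup.mem_comap, Subgroup.mem_centralizer_iff]
  constructor
  · intro h g hg
    have := h _ (Subgroup.mem_map_of_mem _ hg)
    rwa [← QuotientGroup.eq_one_iff, ← QuotientGroup.mk'_apply, map_commutatorElement,
      commutatorElement_eq_one_iff_mul_comm]
  · rintro h _ ⟨g, hg, rfl⟩
    rw [← commutatorElement_eq_one_iff_mul_comm, ← map_commutatorElement, QuotientGroup.mk'_apply,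
      QuotientGroup.eq_one_iff]
    exact h g hg

theorem step_lt {i : ℕ} {x : G} (hx : x ∉ twoStep i) :
    (⊤ : Subgroup G).lowerCentralSeries (i + 1) ⊔ Subgroup.centralizer {x} <
      (⊤ : Subgroup G).lowerCentralSeries i ⊔ Subgroup.centralizer {x} := by
  refine lt_of_le_of_ne (sup_le_sup_right (Subgroup.lowerCentralSeries_antitone _ i.le_succ) _)
    fun h => hx (mem_twoStep.mpr fun g hg => ?_)
  have hg' : g ∈ (⊤ : Subgroup G).lowerCentralSeries (i + 1) ⊔ Subgroup.centralizer {x} :=
    h ▸ Subgroup.mem_sup_left hg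
  obtain ⟨l, hl, z, hz, rfl⟩ := Subgroup.mem_sup_of_normal_left.mp hg'
  have hzx : z * x = x * z := Subgroup.mem_centralizer_singleton_iff.mp hz
  have e : ⁅l * z, x⁆ = ⁅l, x⁆ := by
    rw [commutatorElement_def, commutatorElement_def,
      show l * z * x * (l * z)⁻¹ * x⁻¹ = l * (z * x) * z⁻¹ * l⁻¹ * x⁻¹ by group, hzx]
    group
  rw [e]
  exact Subgroup.commutator_mem_commutator hl (Subgroup.mem_top x)

theorem count_bound [Finite G] {p : ℕ} [hp : Fact p.Prime] (hG : IsPGroup p G) (x : G)
    [DecidablePred fun i : ℕ => x ∉ twoStep (G := G) i] (n : ℕ) :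
    p ^ ((Finset.range n).filter fun i => x ∉ twoStep (G := G) i).card ≤
      (Subgroup.centralizer ({x} : Set G)).index := by
  suffices h : ∀ n, p ^ ((Finset.range n).filter fun i => x ∉ twoStep (G := G) i).card ≤
      ((⊤ : Subgroup G).lowerCentralSeries n ⊔ Subgroup.centralizer {x}).index from
    (h n).trans (Nat.le_of_dvd (Nat.pos_of_ne_zero Subgroup.index_ne_zero_of_finite)
      (Subgroup.index_dvd_of_le le_sup_right))
  intro n
  induction n with
  | zero => simp [Subgroup.index_top]
  | succ n ih =>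
    set D := (⊤ : Subgroup G).lowerCentralSeries n ⊔ Subgroup.centralizer {x}
    set D' := (⊤ : Subgroup G).lowerCentralSeries (n + 1) ⊔ Subgroup.centralizer {x}
    have hle : D' ≤ D := sup_le_sup_right (Subgroup.lowerCentralSeries_antitone _ n.le_succ) _
    have hmul := Subgroup.relIndex_mul_index hle
    have hpos : 0 < D'.relIndex D := Nat.pos_of_ne_zero Subgroup.index_ne_zero_of_finite
    rw [Finset.range_add_one, Finset.filter_insert]
    split
    · rename_i hx
      rw [Finset.card_insert_of_notMem (by simp), pow_succ', ← hmul]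
      obtain ⟨k, hk⟩ := (hG.to_subgroup D).index (D'.subgroupOf D)
      refine Nat.mul_le_mul ?_ ih
      have hk' : D'.relIndex D = p ^ k := hk
      have hk0 : k ≠ 0 := fun h => (step_lt hx).not_ge (Subgroup.relIndex_eq_one.mp (by rw [hk', h, pow_zero]))
      rw [hk']
      exact Nat.le_self_pow hk0 p
    · exact ih.trans (hmul ▸ Nat.le_mul_of_pos_left _ hpos)

theorem twoStep_ne_top [Group.IsNilpotent G] {i : ℕ} (hi : i + 1 < Group.nilpotencyClass G) :
    twoStep (G := G) i ≠ ⊤ := by
  intro h
  set L := (⊤ : Subgroup G).lowerCentralSeries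
  have hstep : L (i + 1) ≤ L (i + 2) := by
    show ⁅L i, (⊤ : Subgroup G)⁆ ≤ _
    exact Subgroup.commutator_le.mpr fun g hg x _ => mem_twoStep.mp (h ▸ Subgroup.mem_top x) g hg
  have hall : ∀ j, L (i + 1) ≤ L (i + 1 + j) := by
    intro j
    induction j with
    | zero => exact le_rfl
    | succ j ih => exact hstep.trans (Subgroup.commutator_mono ih le_rfl)
  have hbot : L (i + 1) = ⊥ := eq_bot_iff.mpr ((hall (Group.nilpotencyClass G)).trans
    ((Subgroup.lowerCentralSeries_antitone _ (Nat.le_add_left _ _)).trans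
      Subgroup.lowerCentralSeries_nilpotencyClass.le))
  exact absurd (Subgroup.lowerCentralSeries_eq_bot_iff_nilpotencyClass_le.mp hbot) (by omega)

/-- If G is a finite p-group in which every conjugacy class has at most p^b elements (every element has centralizer of index at most p^b), then G is abelian when b = 0, and when b ≥ 1 its nilpotency class c satisfies (c − 1)(p − 1) < bp, that is c < bp/(p − 1) + 1, and hence c ≤ 2b. -/
theorem result {G : Type*} [Group G] [Finite G] {p : ℕ} [Fact p.Prime] (hG : IsPGroup p G) (b : ℕ) (hb : ∀ x : G, (Subgroup.centralizer ({x} : Set G)).index ≤ p ^ b) : ∃ c : ℕ, (⊤ : Subgroup G).lowerCentralSeries c = ⊥ ∧ (b ≠ 0 → (c - 1) * (p - 1) < b * p ∧ c ≤ 2 * b) ∧ (b = 0 → c ≤ 1) := by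
  classical
  haveI := hG.isNilpotent
  haveI := Fintype.ofFinite G
  have hp := (Fact.out : p.Prime).two_le
  set c := Group.nilpotencyClass G
  set m : G → ℕ := fun x => ((Finset.range (c - 1)).filter fun i => x ∉ twoStep (G := G) i).card
  have hm : ∀ x, m x ≤ b := fun x =>
    (Nat.pow_le_pow_iff_right hp).mp ((count_bound hG x (c - 1)).trans (hb x))
  have hkey : (c - 1) * ((p - 1) * Fintype.card G) ≤ p * ∑ x, m x := by
    have hsum : ∑ x, m x =
        ∑ i ∈ Finset.range (c - 1), (Finset.univ.filter fun x : G => x ∉ twoStep i).card := by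
      simp only [m, Finset.card_filter]
      exact Finset.sum_comm
    rw [hsum, Finset.mul_sum]
    refine le_trans (le_of_eq ?_) (Finset.card_nsmul_le_sum (Finset.range (c - 1)) _
      ((p - 1) * Fintype.card G) fun i hi => ?_)
    · rw [Finset.card_range, smul_eq_mul]
    have hi' := Finset.mem_range.mp hi
    obtain ⟨k, hk⟩ := hG.index (twoStep (G := G) i)
    have hk0 : k ≠ 0 := fun h => twoStep_ne_top (G := G) (i := i) (by omega)
      (Subgroup.index_eq_one.mp (by rw [hk, h, pow_zero]))
    have hcard := (twoStep (G := G) i).card_mul_index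
    have hge : p * Nat.card (twoStep (G := G) i) ≤ Fintype.card G := by
      rw [← Nat.card_eq_fintype_card, ← hcard, hk, mul_comm p]
      exact Nat.mul_le_mul_left _ (Nat.le_self_pow hk0 p)
    have hc : (Finset.univ.filter fun x : G => x ∉ twoStep i).card =
        Fintype.card G - Nat.card (twoStep (G := G) i) := by
      rw [← Fintype.card_subtype, Fintype.card_subtype_compl, Nat.card_eq_fintype_card]
    rw [hc, Nat.mul_sub, Nat.sub_mul, one_mul]
    omega
  have hone : m 1 = 0 := by simp [m]
  have hle : ∑ x, m x ≤ b * (Fintype.card G - 1) := by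
    rw [← Finset.add_sum_erase _ _ (Finset.mem_univ (1 : G)), hone, zero_add, mul_comm]
    refine (Finset.sum_le_card_nsmul _ _ b fun x _ => hm x).trans (le_of_eq ?_)
    rw [Finset.card_erase_of_mem (Finset.mem_univ _), Finset.card_univ, smul_eq_mul]
  refine ⟨c, Subgroup.lowerCentralSeries_nilpotencyClass, fun hb0 => ?_, fun hb0 => ?_⟩
  · have hlt : (c - 1) * (p - 1) < b * p := by
      have hn : 0 < Fintype.card G := Fintype.card_pos
      have h1 : (c - 1) * (p - 1) * Fintype.card G < b * p * Fintype.card G := by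
        have h2 := hkey.trans (Nat.mul_le_mul_left p hle)
        have h3 : p * (b * (Fintype.card G - 1)) < p * (b * Fintype.card G) :=
          Nat.mul_lt_mul_of_pos_left (Nat.mul_lt_mul_of_pos_left (by omega) (by omega)) (by omega)
        calc (c - 1) * (p - 1) * Fintype.card G = (c - 1) * ((p - 1) * Fintype.card G) := mul_assoc _ _ _
          _ < p * (b * Fintype.card G) := lt_of_le_of_lt h2 h3
          _ = b * p * Fintype.card G := by ring
      exact Nat.lt_of_mul_lt_mul_right h1
    refine ⟨hlt, ?_⟩
    by_contra hc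
    have h4 : 2 * b * (p - 1) ≤ (c - 1) * (p - 1) := Nat.mul_le_mul_right _ (by omega)
    have h5 : b * p ≤ b * (2 * (p - 1)) := Nat.mul_le_mul_left b (by omega)
    have h6 : 2 * b * (p - 1) = b * (2 * (p - 1)) := by ring
    omega
  · by_contra hc
    subst hb0
    have h0 : ∑ x, m x = 0 := by simpa using hle
    rw [h0, mul_zero] at hkey
    have : 0 < (c - 1) * ((p - 1) * Fintype.card G) :=
      Nat.mul_pos (by omega) (Nat.mul_pos (by omega) Fintype.card_pos)
    omega

end Cfsg.Agent.S3778
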