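import Cfsg.Statements.S3780
import Cfsg.Agent.Lib.PGroup.Generators
import Cfsg.Agent.Lib.OddOmega.Basic

set_option autoImplicit false
open Cfsg

namespace Cfsg.Agent.S3780

/-- Let V be a finite abelian p-group and α an automorphism of V of order p whose fixed-point subgroup has order p^n. Then V can be generated by pn elements: some subset of V with at most pn elements generates V. -/
theorem result {V : Type*} [CommGroup V] [Finite V] {p : ℕ} [Fact p.Prime] (hV : IsPGroup p V) (α : MulAut V) (hα : orderOf α = p) (n : ℕ) (hfix : Nat.card {v : V // α v = v} = p ^ n) : ∃ S : Finset V, S.card ≤ p * n ∧ Subgroup.closure (S : Set V) = ⊤ := by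
  classical
  have hp : p.Prime := Fact.out
  set φ : V →* V := powMonoidHom p with hφ
  set W := φ.ker with hW
  have hinv : ∀ w : W, α (w : V) ∈ W := fun w => by
    have h1 : (w : V) ^ p = 1 := w.2
    show (α (w : V)) ^ p = 1
    rw [← map_pow, h1, map_one]
  let f : AddMonoid.End (Additive W) :=
    MonoidHom.toAdditive ((α.toMonoidHom.comp W.subtype).codRestrict W hinv)
  let g : AddMonoid.End (Additive W) := f - 1
  have hchar : (p : AddMonoid.End (Additive W)) = 0 := by
    refine DFunLike.ext _ _ fun w => ?_
    rw [AddMonoid.End.natCast_apply]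
    apply Additive.toMul.injective
    refine Subtype.ext ?_
    show ((Additive.toMul w : W) : V) ^ p = 1
    exact (Additive.toMul w).2
  have hfpow : ∀ k : ℕ, ∀ w : Additive W,
      ((Additive.toMul ((f ^ k) w) : W) : V) = (α ^ k) ((Additive.toMul w : W) : V) := by
    intro k
    induction k with
    | zero => intro w; simp
    | succ k ih =>
      intro w
      show ((Additive.toMul ((f ^ (k + 1)) w) : W) : V) = _
      rw [pow_succ', pow_succ', MulAut.mul_apply, ← ih]
      rfl
  have hfp : f ^ p = 1 := by
    refine DFunLike.ext _ _ fun w => Additive.toMul.injective (Subtype.ext ?_)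
    rw [hfpow, ← hα, pow_orderOf_eq_one]
    rfl
  have hgp : g ^ p = 0 := by
    obtain ⟨c, hc⟩ := (Commute.one_right g).exists_add_pow_prime_eq hp
    rw [hchar] at hc
    simp only [zero_mul, add_zero, one_pow] at hc
    rw [show g + 1 = f from sub_add_cancel f 1, hfp] at hc
    exact right_eq_add.mp hc
  have hker1 : Nat.card (AddMonoidHom.ker g) ≤ p ^ n := by
    rw [← hfix]
    refine Nat.card_le_card_of_injective (fun w => ⟨((Additive.toMul w.1 : W) : V), ?_⟩) ?_
    · have h1 : f w.1 - w.1 = 0 := w.2
      exact congrArg (fun u : Additive W => ((Additive.toMul u : W) : V)) (sub_eq_zero.mp h1)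
    · intro a b h
      exact Subtype.ext (Additive.toMul.injective (Subtype.ext (congrArg Subtype.val h :)))
  have hkerk : ∀ k : ℕ, Nat.card (AddMonoidHom.ker (g ^ k)) ≤ p ^ (k * n) := by
    intro k
    induction k with
    | zero =>
      rw [zero_mul, pow_zero]
      refine Finite.card_le_one_iff_subsingleton.mpr ⟨fun a b => Subtype.ext ?_⟩
      have ha : (g ^ 0) a.1 = 0 := a.2
      have hb : (g ^ 0) b.1 = 0 := b.2
      rw [pow_zero] at ha hb
      exact ha.trans hb.symm
    | succ k ih =>
      let ψ : AddMonoidHom.ker (g ^ (k + 1)) →+ AddMonoidHom.ker (g ^ k) :=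
        ((g : Additive W →+ Additive W).comp (AddMonoidHom.ker (g ^ (k + 1))).subtype).codRestrict _
          fun w => by
            show (g ^ k) (g w.1) = 0
            have h1 : (g ^ (k + 1)) w.1 = 0 := w.2
            exact (DFunLike.congr_fun (pow_succ g k) w.1).symm.trans h1
      have hk : Nat.card ψ.ker ≤ p ^ n := by
        refine le_trans (Nat.card_le_card_of_injective (fun w => (⟨w.1.1, ?_⟩ : AddMonoidHom.ker g)) ?_) hker1
        · exact congrArg Subtype.val (w.2 : ψ w.1 = 0)
        · intro a b h
          exact Subtype.ext (Subtype.ext (congrArg Subtype.val h :))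
      rw [← ψ.ker.card_mul_index, AddSubgroup.index_ker, Nat.succ_mul, pow_add p, mul_comm]
      exact Nat.mul_le_mul ((Nat.card_le_card_of_injective _ Subtype.val_injective).trans ih) hk
  have hWcard : Nat.card W ≤ p ^ (p * n) := by
    refine le_trans (Nat.card_le_card_of_injective
      (fun w : W => (⟨Additive.ofMul w, ?_⟩ : AddMonoidHom.ker (g ^ p))) ?_) (hkerk p)
    · show (g ^ p) (Additive.ofMul w) = 0
      rw [hgp]; rfl
    · intro a b h
      exact Additive.ofMul.injective (congrArg Subtype.val h :)
  refine CfsgLib.PGroup.exists_generators hV φ.range ?_ ?_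
  · rintro _ ⟨v, rfl⟩
    exact CfsgLib.OddOmega.pow_mem_frattini hV v
  · have h1 := φ.ker.card_mul_index
    have h2 := φ.range.card_mul_index
    rw [Subgroup.index_ker] at h1
    have h3 : Nat.card φ.range * φ.range.index = Nat.card φ.range * Nat.card W := by
      rw [h2, ← h1, hW, mul_comm]
    rw [Nat.eq_of_mul_eq_mul_left Nat.card_pos h3]
    exact hWcard

end Cfsg.Agent.S3780
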