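import Cfsg.Statements.S3781
import Cfsg.Agent.Lib.Coprime.Action

set_option autoImplicit false
set_option linter.style.haveILetI false
open Cfsg

namespace Cfsg.Agent.S3781

open scoped commutatorElement

/-- iterated commutator with the whole group -/
noncomputable def it {G : Type*} [Group G] (L : Subgroup G) : ℕ → Subgroup G
  | 0 => L
  | j + 1 => ⁅it L j, (⊤ : Subgroup G)⁆

variable {G : Type*} [Group G]

theorem it_normal (L : Subgroup G) [L.Normal] : ∀ j, (it L j).Normal
  | 0 => by show L.Normal; infer_instance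
  | j + 1 => by
    haveI := it_normal L j
    show (⁅it L j, (⊤ : Subgroup G)⁆ : Subgroup G).Normal
    infer_instance

theorem it_add (L : Subgroup G) : ∀ j, it (it L 1) j = it L (j + 1)
  | 0 => rfl
  | j + 1 => by
    show ⁅it (it L 1) j, (⊤ : Subgroup G)⁆ = ⁅it L (j + 1), (⊤ : Subgroup G)⁆
    rw [it_add L j]

theorem it_mono {L M : Subgroup G} (h : L ≤ M) : ∀ j, it L j ≤ it M j
  | 0 => h
  | j + 1 => Subgroup.commutator_mono (it_mono h j) le_rfl

theorem it_antitone (L : Subgroup G) [L.Normal] : Antitone (it L) :=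
  antitone_nat_of_succ_le fun j => by
    haveI := it_normal L j
    exact Subgroup.commutator_le_left _ _

theorem it_le_lcs (L : Subgroup G) : ∀ j, it L j ≤ (⊤ : Subgroup G).lowerCentralSeries j
  | 0 => le_top
  | j + 1 => Subgroup.commutator_mono (it_le_lcs L j) le_rfl

theorem rotate_le (A B C N : Subgroup G) [N.Normal] (h1 : ⁅⁅B, C⁆, A⁆ ≤ N)
    (h2 : ⁅⁅C, A⁆, B⁆ ≤ N) : ⁅⁅A, B⁆, C⁆ ≤ N := by
  have key : ∀ X : Subgroup G, X ≤ N ↔ X.map (QuotientGroup.mk' N) = ⊥ := fun X => by
    rw [Subgroup.map_eq_bot_iff, QuotientGroup.ker_mk']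
  rw [key] at h1 h2 ⊢
  simp only [Subgroup.map_commutator] at h1 h2 ⊢
  exact Subgroup.commutator_commutator_eq_bot_of_rotate h1 h2

theorem commutator_lcs_le : ∀ (j : ℕ) (L : Subgroup G), L.Normal →
    ⁅L, (⊤ : Subgroup G).lowerCentralSeries j⁆ ≤ it L (j + 1)
  | 0, L, _ => le_rfl
  | j + 1, L, hL => by
    haveI := hL
    haveI := it_normal L (j + 1 + 1)
    rw [Subgroup.commutator_comm, Subgroup.lowerCentralSeries_succ]
    refine rotate_le _ _ _ _ ?_ ?_
    · rw [Subgroup.commutator_comm (⊤ : Subgroup G) L]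
      exact (commutator_lcs_le j (it L 1) (it_normal L 1)).trans (it_add L (j + 1)).le
    · exact Subgroup.commutator_mono (commutator_lcs_le j L hL) le_rfl

theorem eq_bot_of_le_commutator [Finite G] [Group.IsNilpotent G] {K : Subgroup G}
    (h : K ≤ ⁅K, (⊤ : Subgroup G)⁆) : K = ⊥ := by
  obtain ⟨c, hc⟩ := (Subgroup.isNilpotent_iff_lowerCentralSeries (⊤ : Subgroup G)).mp inferInstance
  have : ∀ j, K ≤ it K j := by
    intro j
    induction j with
    | zero => exact le_rfl
    | succ j ih => exact h.trans (Subgroup.commutator_mono ih le_rfl)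
  exact le_bot_iff.mp ((this c).trans ((it_le_lcs K c).trans hc.le))

theorem it_le_of_relIndex [Finite G] [Group.IsNilpotent G] {p : ℕ} (hp : p.Prime) (K : Subgroup G) [K.Normal] :
    ∀ (m : ℕ) (L : Subgroup G), L.Normal → K ≤ L → K.relIndex L = p ^ m → it L m ≤ K := by
  intro m
  induction m using Nat.strong_induction_on with
  | _ m IH =>
  intro L hL hKL hidx
  haveI := hL
  haveI := it_normal L 1
  rcases Nat.eq_zero_or_pos m with rfl | hm
  · exact Subgroup.relIndex_eq_one.mp (hidx.trans (pow_zero p))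
  set M := it L 1 ⊔ K with hM
  have hML : M ≤ L := sup_le (it_antitone L (Nat.zero_le 1)) hKL
  have hne : M ≠ L := by
    intro he
    have hall : ∀ j, L ≤ it L j ⊔ K := by
      intro j
      induction j with
      | zero => exact le_sup_left
      | succ j ih =>
        haveI := it_normal L j
        haveI := it_normal L (j + 1)
        refine he.ge.trans (sup_le ?_ le_sup_right)
        refine (Subgroup.commutator_mono ih le_rfl).trans (Subgroup.commutator_le.mpr fun x hx g hg => ?_)
        obtain ⟨a, ha, k, hk, rfl⟩ := Subgroup.mem_sup_of_normal_right.mp hx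
        rw [show ⁅a * k, g⁆ = a * ⁅k, g⁆ * a⁻¹ * ⁅a, g⁆ by simp only [commutatorElement_def]; group]
        refine mul_mem (Subgroup.mem_sup_right (Subgroup.Normal.conj_mem inferInstance _
          (Subgroup.commutator_le_left K ⊤ (Subgroup.commutator_mem_commutator hk hg)) a))
          (Subgroup.mem_sup_left (Subgroup.commutator_mem_commutator ha hg))
    obtain ⟨c, hc⟩ := (Subgroup.isNilpotent_iff_lowerCentralSeries (⊤ : Subgroup G)).mp inferInstance
    have h0 : it L c = ⊥ := le_bot_iff.mp ((it_le_lcs L c).trans hc.le)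
    have := hall c
    rw [h0, bot_sup_eq] at this
    have h1 := Subgroup.relIndex_eq_one.mpr this
    rw [h1] at hidx
    exact absurd hidx (ne_of_lt (Nat.one_lt_pow hm.ne' hp.one_lt))
  have hmul := Subgroup.relIndex_mul_relIndex K M L le_sup_right hML
  rw [hidx] at hmul
  obtain ⟨m', -, hm'⟩ := (Nat.dvd_prime_pow hp).mp (Dvd.intro _ hmul)
  have hlt : m' < m := by
    by_contra hge
    refine hne (le_antisymm hML (Subgroup.relIndex_eq_one.mp ?_))
    have hpos : 0 < p ^ m := pow_pos hp.pos m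
    have hle : p ^ m ≤ p ^ m' := Nat.pow_le_pow_right hp.pos (not_lt.mp hge)
    rw [hm'] at hmul
    rcases Nat.eq_zero_or_pos (M.relIndex L) with h0 | hpo
    · rw [h0, mul_zero] at hmul; omega
    · by_contra hne1
      have h2 : p ^ m' * 2 ≤ p ^ m' * M.relIndex L := Nat.mul_le_mul_left _ (by omega)
      omega
  have hMn : M.Normal := inferInstance
  haveI := hMn
  have h1 := IH m' hlt M hMn le_sup_right hm'
  obtain ⟨d, rfl⟩ : ∃ d, m = d + 1 := ⟨m - 1, by omega⟩
  rw [← it_add L d]
  exact ((it_mono (le_sup_left : it L 1 ≤ M) d).trans (it_antitone M (by omega : m' ≤ d))).trans h1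

/-- Let G be a finite p-group and n ≥ 1, and write γ_1(G) = G, γ_{k+1}(G) = [γ_k(G), G], and likewise γ_k(N) for a subgroup N. Let N be a normal subgroup of G contained in γ_n(G). If i > 1 and γ_{i+1}(N) ≠ 1, then |γ_i(N) : γ_{i+1}(N)| ≥ p^n. -/
theorem result {G : Type*} [Group G] [Finite G] {p : ℕ} [Fact p.Prime] (hG : IsPGroup p G) (n : ℕ) (hn : 1 ≤ n) (N : Subgroup G) [N.Normal] (hN : N ≤ (⊤ : Subgroup G).lowerCentralSeries (n - 1)) (i : ℕ) (hi : 1 < i) (hne : N.lowerCentralSeries i ≠ ⊥) : p ^ n ≤ (N.lowerCentralSeries i).relIndex (N.lowerCentralSeries (i - 1)) := by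
  have hp : p.Prime := Fact.out
  haveI := hG.isNilpotent
  obtain ⟨i, rfl⟩ : ∃ j, i = j + 1 := ⟨i - 1, by omega⟩
  rw [Nat.add_sub_cancel]
  have hn' : ∀ j, (N.lowerCentralSeries j).Normal := by
    intro j
    induction j with
    | zero => assumption
    | succ j ih => rw [Subgroup.lowerCentralSeries_succ]; infer_instance
  haveI := hn' i
  haveI := hn' (i + 1)
  have hKL : N.lowerCentralSeries (i + 1) ≤ N.lowerCentralSeries i :=
    N.lowerCentralSeries_antitone (Nat.le_succ i)
  obtain ⟨k, hk⟩ := IsPGroup.iff_card.mp (hG.to_subgroup (N.lowerCentralSeries i))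
  obtain ⟨m, -, hm⟩ := (Nat.dvd_prime_pow hp).mp
    (hk ▸ Dvd.intro _ (CfsgLib.Coprime.relIndex_mul_card_inf (N.lowerCentralSeries (i + 1)) (N.lowerCentralSeries i)))
  by_contra hlt
  rw [hm] at hlt
  have hmn : m < n := (Nat.pow_lt_pow_iff_right hp.one_lt).mp (not_le.mp hlt)
  refine hne (eq_bot_of_le_commutator ?_)
  have h1 : N.lowerCentralSeries (i + 1) ≤ it (N.lowerCentralSeries i) (n - 1 + 1) := by
    rw [Subgroup.lowerCentralSeries_succ]
    exact (Subgroup.commutator_mono le_rfl hN).trans (commutator_lcs_le (n - 1) _ inferInstance)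
  refine h1.trans ((it_antitone (N.lowerCentralSeries i) (show m + 1 ≤ n - 1 + 1 by omega)).trans ?_)
  exact Subgroup.commutator_mono (it_le_of_relIndex hp _ m _ inferInstance hKL hm) le_rfl
end Cfsg.Agent.S3781
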