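import Cfsg.Statements.S3784
import Mathlib

set_option autoImplicit false
set_option linter.style.haveILetI false
open Cfsg

namespace Cfsg.Agent.S3784

/-- Let p, q be primes and a, b positive integers with p^a = q^b + 1. Then either p = 2, b = 1, a is prime and q = 2^a − 1; or q = 2, a = 1, b is a power of 2 and p = 2^b + 1; or p^a = 9 and q^b = 8. -/
theorem result (p q a b : ℕ) (hp : p.Prime) (hq : q.Prime) (ha : 1 ≤ a) (hb : 1 ≤ b) (h : p ^ a = q ^ b + 1) : (p = 2 ∧ b = 1 ∧ a.Prime ∧ q + 1 = 2 ^ a) ∨ (q = 2 ∧ a = 1 ∧ (∃ m : ℕ, b = 2 ^ m) ∧ p = 2 ^ b + 1) ∨ (p ^ a = 9 ∧ q ^ b = 8) := by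
  rcases hp.eq_two_or_odd' with rfl | hpo
  · refine Or.inl ⟨rfl, ?_⟩
    have hqo : Odd q := hq.odd_of_ne_two fun e => by
      subst e
      have h1 : 2 ∣ 2 ^ a := dvd_pow_self 2 (by omega)
      have h2 : 2 ∣ 2 ^ b := dvd_pow_self 2 (by omega)
      omega
    obtain ⟨r, rfl⟩ := hqo
    have hr : 1 ≤ r := by have := hq.two_le; omega
    rcases Nat.even_or_odd b with ⟨c, rfl⟩ | ⟨c, rfl⟩
    · exfalso
      rw [← two_mul, pow_mul, show (2 * r + 1) ^ 2 = 4 * (r * (r + 1)) + 1 by ring] at h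
      have h1 : (4 * (r * (r + 1)) + 1) ^ c % 4 = 1 := by rw [Nat.pow_mod]; simp
      rcases Nat.lt_or_ge a 2 with h2 | h2
      · rw [show a = 1 by omega, pow_one] at h
        have h3 : 1 < (4 * (r * (r + 1)) + 1) ^ c := Nat.one_lt_pow (by omega) (by nlinarith)
        omega
      · have : 4 ∣ 2 ^ a := dvd_trans (by norm_num) (pow_dvd_pow 2 h2)
        omega
    · have hmod : (2 * r + 1) ^ (2 * c + 1) % (2 * (2 * r + 2)) = 2 * r + 1 := by
        rw [pow_succ, pow_mul, Nat.mul_mod, Nat.pow_mod,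
          show (2 * r + 1) ^ 2 % (2 * (2 * r + 2)) = 1 by
            rw [show (2 * r + 1) ^ 2 = 1 + r * (2 * (2 * r + 2)) by ring, Nat.add_mul_mod_self_right]
            exact Nat.mod_eq_of_lt (by omega)]
        simp only [one_pow, Nat.mod_mod]
        rw [Nat.one_mod_eq_one.mpr (by omega), one_mul, Nat.mod_mod]
        exact Nat.mod_eq_of_lt (by omega)
      have hd : 2 ^ a % (2 * (2 * r + 2)) = 2 * r + 2 := by
        rw [h, Nat.add_mod, hmod, Nat.one_mod_eq_one.mpr (by omega)]
        exact Nat.mod_eq_of_lt (by omega)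
      have hdvd : (2 * r + 2) ∣ 2 ^ a := by
        have := Nat.div_add_mod (2 ^ a) (2 * (2 * r + 2))
        rw [hd] at this
        exact ⟨2 * (2 ^ a / (2 * (2 * r + 2))) + 1, by linarith [this]⟩
      obtain ⟨e, hea, he⟩ := (Nat.dvd_prime_pow Nat.prime_two).mp hdvd
      rw [he] at hd
      have hae : a = e := by
        by_contra hne
        have : 2 * 2 ^ e ∣ 2 ^ a := by rw [← pow_succ']; exact pow_dvd_pow 2 (by omega)
        rw [Nat.mod_eq_zero_of_dvd] at hd
        · have := Nat.two_pow_pos e; omega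
        · exact this
      subst hae
      have hb1 : (2 * r + 1) ^ (2 * c + 1) = (2 * r + 1) ^ 1 := by rw [pow_one]; omega
      have hc : 2 * c + 1 = 1 := Nat.pow_right_injective (by omega) hb1
      refine ⟨hc, ?_, by omega⟩
      have hpr : (2 ^ a - 1).Prime := by rwa [show 2 ^ a - 1 = 2 * r + 1 by omega]
      have ha1 : a ≠ 1 := fun e => by rw [e] at hpr; exact Nat.not_prime_one hpr
      exact (Nat.prime_of_pow_sub_one_prime (by omega) hpr).2
  · have hq2 : q = 2 := by
      rcases hq.eq_two_or_odd' with e | e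
      · exact e
      · exfalso
        have h1 := hpo.pow (n := a)
        have h2 := e.pow (n := b)
        rw [Nat.odd_iff] at h1 h2
        omega
    subst hq2
    obtain ⟨r, rfl⟩ := hpo
    have hr : 1 ≤ r := by have := hp.two_le; omega
    rcases Nat.even_or_odd a with ⟨c, rfl⟩ | ⟨c, rfl⟩
    · refine Or.inr (Or.inr ?_)
      rw [← mul_two, pow_mul] at h ⊢
      set u := (2 * r + 1) ^ c
      have hu : 3 ≤ u := le_trans (by omega) (Nat.le_self_pow (by omega) _)
      obtain ⟨v, hv⟩ : ∃ v, u = v + 1 := ⟨u - 1, by omega⟩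
      have h1 : v * (v + 2) = 2 ^ b := by rw [hv] at h; nlinarith
      obtain ⟨i, -, hi⟩ := (Nat.dvd_prime_pow Nat.prime_two).mp (h1 ▸ dvd_mul_right v (v + 2) : v ∣ 2 ^ b)
      obtain ⟨j, -, hj⟩ := (Nat.dvd_prime_pow Nat.prime_two).mp (h1 ▸ dvd_mul_left (v + 2) v : (v + 2) ∣ 2 ^ b)
      have hv2 : v = 2 := by
        rcases Nat.lt_or_ge i 2 with h2 | h2
        · interval_cases i <;> omega
        · have e1 : 4 ∣ 2 ^ i := dvd_trans (by norm_num) (pow_dvd_pow 2 h2)
          have hij : i < j := (Nat.pow_lt_pow_iff_right (by norm_num)).mp (by omega : 2 ^ i < 2 ^ j)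
          have e2 : 4 ∣ 2 ^ j := dvd_trans (by norm_num) (pow_dvd_pow 2 (show 2 ≤ j by omega))
          omega
      rw [hv2] at h1 hv
      rw [hv]
      norm_num
      omega
    · refine Or.inr (Or.inl ⟨rfl, ?_⟩)
      have hmod : (2 * r + 1) ^ (2 * c + 1) % (2 * (2 * r)) = 2 * r + 1 := by
        rw [pow_succ, pow_mul, Nat.mul_mod, Nat.pow_mod,
          show (2 * r + 1) ^ 2 % (2 * (2 * r)) = 1 by
            rw [show (2 * r + 1) ^ 2 = 1 + (r + 1) * (2 * (2 * r)) by ring, Nat.add_mul_mod_self_right]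
            exact Nat.mod_eq_of_lt (by omega)]
        simp only [one_pow, Nat.mod_mod]
        rw [Nat.one_mod_eq_one.mpr (by omega), one_mul, Nat.mod_mod]
        exact Nat.mod_eq_of_lt (by omega)
      rw [h] at hmod
      have hd : 2 ^ b % (2 * (2 * r)) = 2 * r := by
        have := Nat.div_add_mod (2 ^ b + 1) (2 * (2 * r))
        rw [hmod] at this
        rw [show 2 ^ b = 2 * r + (2 ^ b + 1) / (2 * (2 * r)) * (2 * (2 * r)) by linarith, Nat.add_mul_mod_self_right]
        exact Nat.mod_eq_of_lt (by omega)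
      have hdvd : (2 * r) ∣ 2 ^ b := by
        have := Nat.div_add_mod (2 ^ b) (2 * (2 * r))
        rw [hd] at this
        exact ⟨2 * (2 ^ b / (2 * (2 * r))) + 1, by linarith [this]⟩
      obtain ⟨e, hea, he⟩ := (Nat.dvd_prime_pow Nat.prime_two).mp hdvd
      rw [he] at hd
      have hae : b = e := by
        by_contra hne
        have : 2 * 2 ^ e ∣ 2 ^ b := by rw [← pow_succ']; exact pow_dvd_pow 2 (by omega)
        rw [Nat.mod_eq_zero_of_dvd] at hd
        · have := Nat.two_pow_pos e; omega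
        · exact this
      subst hae
      have hb1 : (2 * r + 1) ^ (2 * c + 1) = (2 * r + 1) ^ 1 := by rw [pow_one]; omega
      have hc : 2 * c + 1 = 1 := Nat.pow_right_injective (by omega) hb1
      refine ⟨hc, ?_, by omega⟩
      exact Nat.pow_of_pow_add_prime (a := 2) (n := b) (by norm_num) (by omega) (by rwa [show 2 ^ b + 1 = 2 * r + 1 by omega])

end Cfsg.Agent.S3784
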