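import Cfsg.Statements.S3785
import Cfsg.Agent.Lib.Fitting.Basic
import Cfsg.Agent.Lib.Transfer.SmallElements
import Cfsg.Agent.Lib.PSolvable.Core

set_option autoImplicit false
set_option linter.style.haveILetI false
open Cfsg

namespace Cfsg.Agent.S3785

open CfsgLib

variable {G : Type*} [Group G] [Finite G]

theorem le_of_forall_sylow {L H : Subgroup G}
    (h : ∀ (r : ℕ) (_ : Fact r.Prime) (R : Sylow r L), (R : Subgroup L).map L.subtype ≤ H) :
    L ≤ H := by
  suffices Nat.card L ∣ Nat.card ↥(L ⊓ H) from inf_eq_left.mp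
    (Subgroup.eq_of_le_of_card_ge inf_le_left (Nat.le_of_dvd Nat.card_pos this))
  rw [← Nat.factorization_le_iff_dvd Nat.card_pos.ne' Nat.card_pos.ne']
  intro r
  by_cases hr : r.Prime
  swap
  · simp [Nat.factorization_eq_zero_of_not_prime _ hr]
  haveI := Fact.mk hr
  let R : Sylow r L := default
  have h2 : r ^ (Nat.card L).factorization r ∣ Nat.card ↥(L ⊓ H) := by
    rw [← R.card_eq_multiplicity, ← Subgroup.card_map_of_injective L.subtype_injective]
    exact Subgroup.card_dvd_of_le (le_inf (Subgroup.map_subtype_le _) (h r ⟨hr⟩ R))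
  exact (hr.pow_dvd_iff_le_factorization Nat.card_pos.ne').mp h2

theorem mem_pCore_of_mem_fitting {r : ℕ} [Fact r.Prime] {x : G} (hx : x ∈ Cfsg.fittingSubgroup G)
    (hr : ∃ k, orderOf x = r ^ k) : x ∈ Cfsg.pCore r G := by
  haveI := CfsgLib.Fitting.fittingSubgroup_normal (G := G)
  set F := Cfsg.fittingSubgroup G
  haveI : Group.IsNilpotent F := CfsgLib.Fitting.fittingSubgroup_isNilpotent
  obtain ⟨k, hk⟩ := hr
  have hp : IsPGroup r (Subgroup.zpowers (⟨x, hx⟩ : F)) := IsPGroup.of_card (n := k) (by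
    rw [Nat.card_zpowers, ← Subgroup.orderOf_coe, hk])
  obtain ⟨R, hR⟩ := hp.exists_le_sylow
  have htfae : Group.IsNilpotent F ↔
      ∀ (q : ℕ) (_hq : Fact q.Prime) (P : Sylow q F), (P : Subgroup F).Normal :=
    (Group.isNilpotent_of_finite_tfae (G := F)).out 0 3
  haveI : (R : Subgroup F).Normal := htfae.mp inferInstance r inferInstance R
  haveI := R.characteristic_of_normal inferInstance
  exact CfsgLib.Fitting.le_pCore (CfsgLib.PSolvable.normal_map_of_characteristic F (R : Subgroup F))
    (R.2.map _) ⟨⟨x, hx⟩, hR (Subgroup.mem_zpowers _), rfl⟩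

/-- Let G be a finite solvable group whose Fitting subgroup F(G) has odd order. If an element g of G commutes with every element of prime order of F(G), then g ∈ F(G). -/
theorem result {G : Type*} [Group G] [Finite G] (hG : Group.IsSolvable G) (hodd : Odd (Nat.card (Cfsg.fittingSubgroup G))) (g : G) (hg : ∀ x ∈ Cfsg.fittingSubgroup G, (orderOf x).Prime → g * x = x * g) : g ∈ Cfsg.fittingSubgroup G := by
  set F := Cfsg.fittingSubgroup G with hF
  haveI := CfsgLib.Fitting.fittingSubgroup_normal (G := G)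
  haveI := hG
  set Ω : Set G := {x | x ∈ F ∧ (orderOf x).Prime} with hΩ
  set C := Subgroup.centralizer Ω with hC
  have hgC : g ∈ C := fun x hx => (hg x hx.1 hx.2).symm
  haveI hCn : C.Normal := by
    refine ⟨fun c hc y => fun x hx => ?_⟩
    have h1 : y⁻¹ * x * y ∈ Ω := by
      refine ⟨by simpa using Subgroup.Normal.conj_mem inferInstance x hx.1 y⁻¹, ?_⟩
      rw [show y⁻¹ * x * y = (MulAut.conj y⁻¹).toMonoidHom x by simp,
        orderOf_injective (MulAut.conj y⁻¹).toMonoidHom (MulAut.conj y⁻¹).injective]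
      exact hx.2
    have h2 := hc _ h1
    calc x * (y * c * y⁻¹) = y * ((y⁻¹ * x * y) * c) * y⁻¹ := by group
      _ = y * (c * (y⁻¹ * x * y)) * y⁻¹ := by rw [h2]
      _ = y * c * y⁻¹ * x := by group
  -- `r'`-elements of `C` centralise `O_r(G)`
  have hfix : ∀ r : ℕ, Fact r.Prime → ∀ c ∈ C, (orderOf c).Coprime r →
      c ∈ Subgroup.centralizer (Cfsg.pCore r G : Set G) := by
    intro r _ c hc hco
    haveI := CfsgLib.Fitting.pCore_normal (G := G) r
    refine CfsgLib.Transfer.mem_centralizer_of_fixes_small (CfsgLib.Fitting.pCore_isPGroup r)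
      (Subgroup.le_normalizer_of_normal (Subgroup.mem_top c)) hco fun a ha hsmall => ?_
    by_cases ha1 : a = 1
    · simp [ha1]
    have haF : a ∈ F := CfsgLib.Fitting.pCore_le_fittingSubgroup r ha
    have hord : orderOf a ∣ Nat.card F := Subgroup.orderOf_dvd_natCard F haF
    have hor : orderOf a = r := by
      rcases hsmall with h | ⟨rfl, h⟩
      · exact orderOf_eq_prime h ha1
      · exfalso
        obtain ⟨j, -, hj⟩ := (Nat.dvd_prime_pow Nat.prime_two).mp
          (orderOf_dvd_of_pow_eq_one (show a ^ 2 ^ 2 = 1 from h))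
        rw [hj] at hord
        rcases j with _ | j
        · exact ha1 (orderOf_eq_one_iff.mp (by rw [hj, pow_zero]))
        · exact (Nat.not_even_iff_odd.mpr hodd) (even_iff_two_dvd.mpr
            (dvd_trans (dvd_pow_self 2 (Nat.succ_ne_zero j)) hord))
    have hmem : a ∈ Ω := ⟨haF, hor ▸ Fact.out⟩
    rw [← hc a hmem, mul_inv_cancel_right]
  suffices hCF : C ≤ F from hCF hgC
  refine le_of_forall_sylow fun q hq R => ?_
  set K := C ⊓ ⨅ (r : ℕ) (_ : r.Prime ∧ r ≠ q), Subgroup.centralizer (Cfsg.pCore r G : Set G) with hK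
  haveI hKn : K.Normal := by
    haveI : ∀ r : ℕ, (Subgroup.centralizer (Cfsg.pCore r G : Set G)).Normal := fun r => by
      haveI := CfsgLib.Fitting.pCore_normal (G := G) r
      infer_instance
    haveI : (⨅ (r : ℕ) (_ : r.Prime ∧ r ≠ q), Subgroup.centralizer (Cfsg.pCore r G : Set G)).Normal :=
      Subgroup.normal_iInf_normal fun r => Subgroup.normal_iInf_normal fun _ => inferInstance
    exact Subgroup.normal_inf_normal _ _
  have hcent : ∀ k ∈ K, (orderOf k).Coprime q → ∀ y ∈ K, y * k = k * y := by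
    intro k hk hkq y hy
    obtain ⟨hkC, hkI⟩ := Subgroup.mem_inf.mp hk
    have hyI := (Subgroup.mem_inf.mp hy).2
    simp only [Subgroup.mem_iInf] at hkI hyI
    have hkF : k ∈ F := by
      refine CfsgLib.PSolvable.centralizer_fittingSubgroup_le (fun f hf => ?_)
      have : F ≤ Subgroup.centralizer ({k} : Set G) := by
        refine le_of_forall_sylow fun r hr R => ?_
        rintro _ ⟨z, hz, rfl⟩
        obtain ⟨j, hj⟩ := IsPGroup.iff_orderOf.mp R.2 ⟨z, hz⟩
        have hz' : (z : G) ∈ Cfsg.pCore r G := mem_pCore_of_mem_fitting z.2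
          ⟨j, by rw [← hj, Subgroup.orderOf_mk, Subgroup.orderOf_coe]⟩
        refine Subgroup.mem_centralizer_singleton_iff.mpr ?_
        by_cases h : r = q
        · subst h; exact hfix r hr k hkC hkq _ hz'
        · exact hkI r ⟨hr.out, h⟩ _ hz'
      exact Subgroup.mem_centralizer_singleton_iff.mp (this hf)
    have : Subgroup.zpowers k ≤ Subgroup.centralizer ({y} : Set G) := by
      refine le_of_forall_sylow fun r hr R => ?_
      rintro _ ⟨z, hz, rfl⟩
      refine Subgroup.mem_centralizer_singleton_iff.mpr ?_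
      obtain ⟨j, hj⟩ := IsPGroup.iff_orderOf.mp R.2 ⟨z, hz⟩
      have hj' : orderOf (z : G) = r ^ j := by
        rw [← hj, Subgroup.orderOf_mk, Subgroup.orderOf_coe]
      by_cases h : r = q
      · subst h
        have h1 : orderOf (z : G) ∣ orderOf k := by
          rw [← Nat.card_zpowers k]
          exact Subgroup.orderOf_dvd_natCard _ z.2
        rw [hj'] at h1
        have h2 : r ^ j = 1 :=
          Nat.eq_one_of_dvd_coprimes (hkq.pow_right j) h1 dvd_rfl
        have h3 : (z : G) = 1 := orderOf_eq_one_iff.mp (hj'.trans h2)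
        simp [h3]
      · exact hyI r ⟨hr.out, h⟩ _
          (mem_pCore_of_mem_fitting ((Subgroup.zpowers_le.mpr hkF) z.2) ⟨j, hj'⟩)
    exact (Subgroup.mem_centralizer_singleton_iff.mp (this (Subgroup.mem_zpowers k))).symm
  have hKF : K ≤ F := by
    refine CfsgLib.Fitting.le_fittingSubgroup hKn ?_
    have hq' : IsPGroup q (K ⧸ Subgroup.center K) := by
      intro z
      obtain ⟨k, rfl⟩ := QuotientGroup.mk_surjective z
      refine ⟨(orderOf k).factorization q, ?_⟩
      rw [← QuotientGroup.mk_pow, QuotientGroup.eq_one_iff, Subgroup.mem_center_iff]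
      intro y
      refine Subtype.ext (hcent _ (k ^ _).2 ?_ y y.2)
      rw [Subgroup.orderOf_coe, orderOf_pow_of_dvd (pow_ne_zero _ hq.out.ne_zero) (Nat.ordProj_dvd _ _)]
      exact (Nat.coprime_ordCompl hq.out (orderOf_pos k).ne').symm
    haveI := hq'.isNilpotent
    exact Group.of_quotient_center_nilpotent inferInstance
  rintro _ ⟨z, hz, rfl⟩
  refine hKF (Subgroup.mem_inf.mpr ⟨z.2, ?_⟩)
  simp only [Subgroup.mem_iInf]
  intro r hr
  obtain ⟨j, hj⟩ := IsPGroup.iff_orderOf.mp R.2 ⟨z, hz⟩
  refine hfix r ⟨hr.1⟩ _ z.2 ?_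
  rw [Subgroup.coe_subtype,
    show orderOf (z : G) = q ^ j by rw [← hj, Subgroup.orderOf_mk, Subgroup.orderOf_coe]]
  exact ((Nat.coprime_primes hq.out hr.1).mpr (Ne.symm hr.2)).pow_left j
end Cfsg.Agent.S3785
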