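import Cfsg.Statements.S3786
import Cfsg.Agent.S3784
import Cfsg.Agent.Lib.HallHigman.FermatSeries
-- import your own Cfsg.Agent.* helpers here

set_option autoImplicit false
open Cfsg

namespace Cfsg.Agent.S3786

/-- The Hall–Higman bound on p-length. Let p be an odd prime and G a finite p-soluble group whose Sylow p-subgroups have exponent dividing p^e. (a) If p is not of the form 2^k + 1, or if the Sylow 2-subgroups of G are abelian, then G has p-length at most e. (b) In every case G has p-length at most 2e. -/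
theorem result {G : Type*} [Group G] [Finite G] {p : ℕ} [Fact p.Prime] (hp : p ≠ 2) (hG : Cfsg.IsPSolvable p G) (e : ℕ) (hexp : ∀ (P : Sylow p G), ∀ x ∈ (P : Subgroup G), x ^ p ^ e = 1) : (((¬ ∃ k : ℕ, p = 2 ^ k + 1) ∨ ∀ S : Sylow 2 G, IsMulCommutative (S : Subgroup G)) → Cfsg.PLengthLE p e G) ∧ Cfsg.PLengthLE p (2 * e) G := by
  have hone : ∀ n₀ : ℕ, 1 ≤ p ^ n₀ := fun n₀ => Nat.one_le_pow _ _ (Fact.out : p.Prime).pos
  have hpart : ((¬ ∃ k : ℕ, p = 2 ^ k + 1) ∨ ∀ S : Sylow 2 G, IsMulCommutative (S : Subgroup G)) →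
      Cfsg.PLengthLE p e G := by
    intro hor
    refine CfsgLib.HallHigman.pLengthLE_of_exp hG ?_ e hexp
    rintro ⟨n₀, q, m, h1, hq, h2, h3, h4⟩
    rcases hor with hnf | hab
    · rcases Cfsg.Agent.S3784.result p q n₀ m Fact.out hq h1 h2 (by have := hone n₀; omega) with
        h | h | ⟨h9, -⟩
      · exact hp h.1
      · exact hnf ⟨m, h.2.2.2⟩
      · have h3' : p ∣ 3 ^ 2 := by rw [show 3 ^ 2 = p ^ n₀ by omega]; exact dvd_pow_self p (by omega)
        exact hnf ⟨1, (Nat.prime_dvd_prime_iff_eq Fact.out Nat.prime_three).mp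
          ((Fact.out : p.Prime).dvd_of_dvd_pow h3')⟩
    · haveI := Fact.mk hq
      by_cases h2q : q = 2
      · subst h2q
        exact h4 default (hab default)
      · have hpo : Odd (p ^ n₀) := ((Fact.out : p.Prime).odd_of_ne_two hp).pow
        have hqo : Odd (q ^ m) := (hq.odd_of_ne_two h2q).pow
        rw [← h3] at hqo
        obtain ⟨a, ha⟩ := hpo
        obtain ⟨b, hb⟩ := hqo
        have := hone n₀
        omega
  refine ⟨hpart, ?_⟩
  by_cases hF : ∃ k : ℕ, p = 2 ^ k + 1
  · obtain ⟨k, hk⟩ := hF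
    exact CfsgLib.HallHigman.pLengthLE_two_mul hG hk
      (Nat.pos_of_ne_zero fun h => hp (by rw [hk, h]; rfl)) e hexp
  · exact CfsgLib.HallHigman.pLengthLE_mono (by omega) (hpart (Or.inl hF))

end Cfsg.Agent.S3786
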