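import Cfsg.Statements.S3787
import Cfsg.Agent.S3784
import Cfsg.Agent.Lib.HallHigman.Wreath
-- import your own Cfsg.Agent.* helpers here

set_option autoImplicit false
open Cfsg

namespace Cfsg.Agent.S3787

/-- Let G be a finite p-soluble group, p an odd prime not of the form 2^k + 1, and suppose the wreath product C_p ≀ C_p (of order p^(p+1)) is not involved in a Sylow p-subgroup of G: no section of a Sylow p-subgroup is isomorphic to it. Then G has p-length at most 1. -/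
theorem result {G : Type*} [Group G] [Finite G] {p : ℕ} [Fact p.Prime] (hp2 : p ≠ 2) (hnf : (¬ ∃ k : ℕ, p = 2 ^ k + 1)) (hG : Cfsg.IsPSolvable p G) (P : Sylow p G) (hwr : ∀ (W : Type) [Group W] [Finite W], (∃ (B : Subgroup W) (t : W), B.Normal ∧ IsMulCommutative B ∧ (∀ b ∈ B, b ^ p = 1) ∧ Nat.card B = p ^ p ∧ orderOf t = p ∧ t ∉ B ∧ Nat.card W = p ^ (p + 1) ∧ Nat.card ↥(B ⊓ Subgroup.centralizer ({t} : Set W)) = p) → ¬ Cfsg.Involves W ↥(P : Subgroup G)) : Cfsg.PLengthLE p 1 G := by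
  refine CfsgLib.HallHigman.pLengthLE_one hG ?_ P fun W _ _ h => hwr W h
  rintro ⟨n₀, q, m, h1, hq, h2, h3, -⟩
  have hp1 : 1 ≤ p ^ n₀ := Nat.one_le_pow _ _ (Fact.out : p.Prime).pos
  rcases Cfsg.Agent.S3784.result p q n₀ m Fact.out hq h1 h2 (by omega) with h | h | ⟨h9, -⟩
  · exact hp2 h.1
  · exact hnf ⟨m, h.2.2.2⟩
  · have h3' : p ∣ 3 ^ 2 := by rw [show 3 ^ 2 = p ^ n₀ by omega]; exact dvd_pow_self p (by omega)
    exact hnf ⟨1, (Nat.prime_dvd_prime_iff_eq Fact.out Nat.prime_three).mp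
      ((Fact.out : p.Prime).dvd_of_dvd_pow h3')⟩

end Cfsg.Agent.S3787
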