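import Cfsg.Statements.S3788
import Cfsg.Agent.Lib.PushUp.Key
import Cfsg.Agent.Lib.PSolvable.Omega
import Cfsg.Agent.Lib.Layer.PComponent
import Cfsg.Agent.Lib.PSolvable.Constrained

set_option autoImplicit false
set_option linter.style.haveILetI false
open Cfsg

namespace Cfsg.Agent.S3788

open scoped commutatorElement

open CfsgLib.PushUp (conj_fix_iff mem_centralizer_iff_conj centralizer_mono pair exists_inverted exists_odd_pow cd)
open Cfsg.Agent.S4022 (cj cj_mul card_cj cyclic_unique cj_smul)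
open Cfsg.Agent.S4270 (mem_normalizer_of_cj cj_cancel)

/-- The `p'`-analogue of the Hall–Higman lemma. -/
theorem centralizer_pPrimeCore_le {X : Type*} [Group X] [Finite X] {p : ℕ} [Fact p.Prime]
    (hsol : Cfsg.IsPSolvable p X) (hO : Cfsg.pCore p X = ⊥) :
    Subgroup.centralizer (Cfsg.pPrimeCore p X : Set X) ≤ Cfsg.pPrimeCore p X := by
  haveI := CfsgLib.Transfer.pPrimeCore_normal p X
  set R := Cfsg.pPrimeCore p X with hR
  have hRc : (Nat.card R).Coprime p := CfsgLib.Transfer.pPrimeCore_coprime p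
  set C := Subgroup.centralizer (R : Set X) with hC
  obtain ⟨n, H, h0, hlast, hmono, hn, hfac⟩ := hsol
  suffices ∀ i, C ⊓ H i ≤ R by
    have h := this (Fin.last n)
    rwa [hlast, inf_top_eq] at h
  intro i
  induction i using Fin.induction with
  | zero => rw [h0, inf_bot_eq]; exact bot_le
  | succ i ih =>
    haveI := hn i.succ
    haveI := hn i.castSucc
    set N := C ⊓ H i.succ with hN
    haveI : N.Normal := Subgroup.normal_inf_normal _ _
    have hdvd : R.relIndex N ∣ (H i.castSucc).relIndex (H i.succ) := by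
      have h1 : R.relIndex N ∣ (C ⊓ H i.castSucc).relIndex N :=
        Subgroup.relIndex_dvd_of_le_left _ ih
      refine h1.trans ?_
      rw [hN, inf_comm C, inf_comm C]
      exact CfsgLib.PSolvable.relIndex_inf_dvd _ _ _ (hmono i.castSucc_le_succ)
    have hmul := CfsgLib.Coprime.relIndex_mul_card_inf R N
    have hRN : (Nat.card ↥(R ⊓ N)).Coprime p :=
      hRc.coprime_dvd_left (Subgroup.card_dvd_of_le inf_le_left)
    rcases hfac i with ⟨m, hm⟩ | hc
    · obtain ⟨k, -, hk⟩ := (Nat.dvd_prime_pow Fact.out).mp (hm ▸ hdvd)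
      obtain ⟨B, hBN, hsup, hdis, hB⟩ := CfsgLib.Coprime.exists_complement_of_coprime
        (N := R) (S := N) Subgroup.le_normalizer_of_normal (by rw [hk]; exact hRN.pow_right k)
      have hBcomm : ∀ z ∈ R ⊓ N, ∀ b ∈ B, z * b = b * z := fun z hz b hb =>
        (Subgroup.mem_inf.mp (hBN hb)).1 z (Subgroup.mem_inf.mp hz).1
      have hBn : (B.subgroupOf N).Normal := by
        rw [Subgroup.normal_subgroupOf_iff_le_normalizer hBN]
        have h1 : R ⊓ N ⊔ B ≤ Subgroup.normalizer (B : Set X) :=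
          sup_le (fun z hz => Subgroup.centralizer_le_normalizer _
            fun b hb => (hBcomm z hz b hb).symm) Subgroup.le_normalizer
        rwa [hsup] at h1
      have hBbot : B = ⊥ := by
        have h1 : B.subgroupOf N ≤ Cfsg.pCore p N :=
          CfsgLib.Fitting.le_pCore hBn
            ((IsPGroup.of_card (n := k) (hB.trans hk)).comap_of_injective _ N.subtype_injective)
        have h2 := (Subgroup.map_mono (f := N.subtype) h1).trans (CfsgLib.PSolvable.map_pCore_le N)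
        rwa [hO, Subgroup.map_subgroupOf_eq_of_le hBN, le_bot_iff] at h2
      rw [hBbot, sup_bot_eq] at hsup
      exact hsup ▸ inf_le_left
    · refine CfsgLib.Transfer.le_pPrimeCore inferInstance ?_
      rw [← hmul]
      exact (hc.coprime_dvd_left hdvd).mul_left hRN

/-- An element of `p'`-period stabilizing a chain with fixed difference fixes. -/
theorem fix_coprime {X : Type*} [Group X] {p : ℕ} {y v k : X} (hk : k ^ p = 1) (hyk : y * k * y⁻¹ = k)
    (h : y * v * y⁻¹ = v * k) {n : ℕ} (hn : n.Coprime p) (hfix : y ^ n = 1) : k = 1 := by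
  have hpow : ∀ m : ℕ, y ^ m * v * (y ^ m)⁻¹ = v * k ^ m := by
    intro m
    induction m with
    | zero => simp
    | succ m ih =>
      have hc : y * k ^ m * y⁻¹ = k ^ m := by rw [← conj_pow, hyk]
      calc y ^ (m + 1) * v * (y ^ (m + 1))⁻¹ = y * (y ^ m * v * (y ^ m)⁻¹) * y⁻¹ := by
            rw [pow_succ']; group
        _ = (y * v * y⁻¹) * (y * k ^ m * y⁻¹) := by rw [ih]; group
        _ = v * k ^ (m + 1) := by rw [h, hc, pow_succ', mul_assoc]
  have h1 := hpow n
  rw [hfix, one_mul, inv_one, mul_one] at h1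
  exact orderOf_eq_one_iff.mp (Nat.eq_one_of_dvd_coprimes hn
    (orderOf_dvd_of_pow_eq_one (mul_eq_left.mp h1.symm)) (orderOf_dvd_of_pow_eq_one hk))

/-- The core of the argument. -/
theorem core {X : Type*} [Group X] [Finite X] {p : ℕ} [hp : Fact p.Prime]
    (hsol : Cfsg.IsPSolvable p X) (h : p ≠ 2 ∨ ¬ Cfsg.Involves (Equiv.Perm (Fin 4)) X)
    {V : Subgroup X} [V.Normal] (hV : ∀ v ∈ V, v ^ p = 1)
    (hVc : V ≤ Subgroup.centralizer (V : Set X)) (hCV : Subgroup.centralizer (V : Set X) ≤ V)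
    (hred : Cfsg.pCore p (X ⧸ V) = ⊥) {b : X} (hbp : b ^ p ∈ V)
    (hbB : ∀ w ∈ V, b * w * b⁻¹ * w⁻¹ ∈ Subgroup.zpowers (b ^ p)) : b ∈ V := by
  classical
  by_contra hb
  set π := QuotientGroup.mk' V with hπ
  have hπs : Function.Surjective π := QuotientGroup.mk'_surjective V
  have hπ1 : ∀ {g : X}, π g = 1 ↔ g ∈ V := fun {g} => QuotientGroup.eq_one_iff g
  have hVp : IsPGroup p V := fun v => ⟨1, Subtype.ext (by
    rw [pow_one, SubmonoidClass.coe_pow]; exact hV v v.2)⟩
  have hsolQ : Cfsg.IsPSolvable p (X ⧸ V) :=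
    CfsgLib.PSolvable.isPSolvable_of_surjective π hπs hsol
  set R := Cfsg.pPrimeCore p (X ⧸ V) with hR
  haveI : R.Normal := CfsgLib.Transfer.pPrimeCore_normal p _
  have hRc : (Nat.card R).Coprime p := CfsgLib.Transfer.pPrimeCore_coprime p
  have hbR : ¬ π b ∈ Subgroup.centralizer (R : Set (X ⧸ V)) := fun hc => hb (hπ1.mp (by
    have h1 := centralizer_pPrimeCore_le hsolQ hred hc
    have h2 : (π b) ^ p = 1 := by rw [← map_pow]; exact hπ1.mpr hbp
    exact orderOf_eq_one_iff.mp (Nat.eq_one_of_dvd_coprimes hRc (R.orderOf_dvd_natCard h1)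
      (orderOf_dvd_of_pow_eq_one h2))))
  set z := b ^ p with hz
  have hzp : z ^ p = 1 := hV z hbp
  have hzV : Subgroup.zpowers z ≤ V := Subgroup.zpowers_le.mpr hbp
  have hcm : ∀ {u w : X}, u ∈ V → w ∈ V → u * w = w * u := fun hu hw =>
    Subgroup.mem_centralizer_iff.mp (hVc hw) _ hu
  have hconjV : ∀ (g : X) {w : X}, w ∈ V → g * w * g⁻¹ ∈ V := fun g w hw =>
    Subgroup.Normal.conj_mem inferInstance w hw g
  -- the commutator map
  let f : V →* X :=
    { toFun := fun w => b * w * b⁻¹ * (w : X)⁻¹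
      map_one' := by simp
      map_mul' := fun u w => by
        calc b * ((u : X) * w) * b⁻¹ * ((u : X) * w)⁻¹
            = (b * u * b⁻¹) * (b * w * b⁻¹ * (w : X)⁻¹) * (u : X)⁻¹ := by group
          _ = (b * u * b⁻¹) * ((u : X)⁻¹ * (b * w * b⁻¹ * (w : X)⁻¹)) := by
              rw [mul_assoc, hcm (inv_mem u.2) (mul_mem (hconjV b w.2) (inv_mem w.2))]
          _ = _ := (mul_assoc _ _ _).symm }
  by_cases hp2 : p = 2
  · subst hp2
    have hS4 := h.resolve_left (fun h => h rfl)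
    have hVsq : ∀ w ∈ V, w * w = 1 := fun w hw => by rw [← pow_two]; exact hV w hw
    obtain ⟨B₂, hB₂, hidx, xb, hxb, hxB₂, db, hdR, hd1, hinv, -⟩ :=
      exists_inverted (B := Subgroup.zpowers (π b)) (R := R)
        (fun a ha => by
          obtain ⟨i, rfl⟩ := Subgroup.mem_zpowers_iff.mp ha
          have hsq : π b * π b = 1 := by rw [← pow_two, ← map_pow]; exact hπ1.mpr hbp
          rw [← zpow_add, ← two_mul, zpow_mul, zpow_two, hsq, one_zpow])
        Subgroup.le_normalizer_of_normal (Nat.coprime_two_right.mp hRc) (fun hc => hbR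
          (Subgroup.le_centralizer_iff.mp hc (Subgroup.mem_zpowers _)))
    have hxeq : xb = π b := by
      obtain ⟨i, rfl⟩ := Subgroup.mem_zpowers_iff.mp hxb
      have hsq : π b * π b = 1 := by rw [← pow_two, ← map_pow]; exact hπ1.mpr hbp
      rcases Int.even_or_odd i with ⟨j, rfl⟩ | ⟨j, rfl⟩
      · exfalso
        refine hxB₂ ?_
        rw [show j + j = 2 * j by ring, zpow_mul, zpow_two, hsq, one_zpow]
        exact one_mem _
      · rw [zpow_add_one, zpow_mul, zpow_two, hsq, one_zpow, one_mul]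
    subst hxeq
    have hdodd : Odd (orderOf db) :=
      (Nat.coprime_two_right.mp hRc).of_dvd_nat (R.orderOf_dvd_natCard hdR)
    obtain ⟨d0, hd0⟩ := hπs db
    obtain ⟨k, m, hkodd, hm⟩ := CfsgLib.PushUp.odd_lift π d0 hd0 hdodd
    set d := d0 ^ 2 ^ k with hd
    have hπd : π d = db ^ 2 ^ k := by rw [hd, map_pow, hd0]
    have hinv' : π b * π d * (π b)⁻¹ = (π d)⁻¹ := by rw [hπd, ← conj_pow, hinv, inv_pow]
    set D₁ := Subgroup.centralizer (Subgroup.zpowers b : Set X) with hD₁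
    have hidx1 : D₁.relIndex V ≤ 2 := by
      have hker : D₁.subgroupOf V = f.ker := by
        ext w
        rw [Subgroup.mem_subgroupOf, MonoidHom.mem_ker, hD₁]
        show _ ↔ b * w * b⁻¹ * (w : X)⁻¹ = 1
        rw [mul_inv_eq_one]
        refine ⟨fun hw => conj_fix_iff.mpr (Subgroup.mem_centralizer_iff.mp hw b
          (Subgroup.mem_zpowers b)).symm, fun hw => ?_⟩
        exact CfsgLib.Coprime.mem_centralizer_singleton_zpowers
          (Subgroup.mem_centralizer_singleton_iff.mpr (conj_fix_iff.mp hw))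
      rw [Subgroup.relIndex, hker, Subgroup.index_ker]
      refine (Subgroup.card_le_of_le (show f.range ≤ Subgroup.zpowers z from ?_)).trans ?_
      · rintro _ ⟨w, rfl⟩; exact hbB w w.2
      · rw [Nat.card_zpowers]; exact orderOf_le_of_pow_eq_one two_pos hzp
    set D := D₁ ⊓ V ⊓ (cj d (D₁ ⊓ V)) with hD
    have hidxD : D.relIndex V ≤ 4 := by
      have h1 : (D₁ ⊓ V).relIndex V ≤ 2 := by rw [Subgroup.inf_relIndex_right]; exact hidx1
      have h2 : (cj d (D₁ ⊓ V)).relIndex V ≤ 2 := by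
        have e := Subgroup.relIndex_map_map_of_injective (D₁ ⊓ V) V (f := (MulAut.conj d).toMonoidHom)
          (MulAut.conj d).injective
        rw [show V.map (MulAut.conj d).toMonoidHom = V from Cfsg.Agent.S4022.cj_normal d V] at e
        exact e.le.trans h1
      exact Subgroup.relIndex_inf_le.trans (Nat.mul_le_mul h1 h2)
    have hbD : ∀ {w : X}, w ∈ D₁ → b * w * b⁻¹ = w := fun hw =>
      conj_fix_iff.mpr (Subgroup.mem_centralizer_iff.mp hw b (Subgroup.mem_zpowers b)).symm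
    have hdD : d ∈ Subgroup.centralizer (D : Set X) := mem_centralizer_iff_conj.mpr fun w hw => by
      obtain ⟨⟨hw1, hwV⟩, u, ⟨hu, huV⟩, rfl⟩ := hw
      have e1 : b * (d * b * d⁻¹) * d ^ 2 ∈ V := by
        rw [← hπ1, map_mul, map_mul, map_mul, map_mul, map_inv, map_pow]
        have hxx : π b * π b = 1 := by rw [← map_mul, ← pow_two]; exact hπ1.mpr hbp
        calc π b * (π d * π b * (π d)⁻¹) * π d ^ 2
            = π b * π d * (π b)⁻¹ * (π b * π b) * π d := by group
          _ = 1 := by rw [hinv', hxx]; group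
      set w := d * u * d⁻¹ with hwdef
      change b * (d * b * d⁻¹) * d ^ 2 ∈ V at e1
      have hfix2 : d * b * d⁻¹ * w * (d * b * d⁻¹)⁻¹ = w :=
        calc d * b * d⁻¹ * w * (d * b * d⁻¹)⁻¹ = d * (b * u * b⁻¹) * d⁻¹ := by rw [hwdef]; group
          _ = w := by rw [hbD hu]
      have h2 : b * (d * b * d⁻¹) * d ^ 2 * w * (b * (d * b * d⁻¹) * d ^ 2)⁻¹ = w :=
        mem_centralizer_iff_conj.mp (hVc e1) w hwV
      have hd2 : d ^ 2 * w * (d ^ 2)⁻¹ = w :=
        calc d ^ 2 * w * (d ^ 2)⁻¹ = (b * (d * b * d⁻¹))⁻¹ *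
              (b * (d * b * d⁻¹) * d ^ 2 * w * (b * (d * b * d⁻¹) * d ^ 2)⁻¹) *
              (b * (d * b * d⁻¹)) := by group
          _ = (d * b * d⁻¹)⁻¹ * (b⁻¹ * w * b) * (d * b * d⁻¹) := by rw [h2]; group
          _ = w := by
            have e3 : b * w * b⁻¹ = w := hbD hw1
            rw [show b⁻¹ * w * b = w by nth_rw 1 [← e3]; group]
            nth_rw 1 [← hfix2]; group
      exact conj_fix_iff.mpr (Subgroup.mem_centralizer_singleton_iff.mp
        (CfsgLib.PushUp.centralizer_fix_sq hkodd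
          (Subgroup.mem_centralizer_singleton_iff.mpr (conj_fix_iff.mp hd2).symm))).symm
    have hdV : d ∈ Subgroup.centralizer (V : Set X) :=
      pair hS4 (inf_le_left.trans inf_le_right) hVp
        (hVc.trans ((centralizer_mono (inf_le_left.trans inf_le_right)).trans
          (Subgroup.centralizer_le_normalizer _))) hidxD
        (Subgroup.le_normalizer_of_normal (Subgroup.mem_top b))
        (Subgroup.le_normalizer_of_normal (Subgroup.mem_top d))
        (mem_centralizer_iff_conj.mpr fun w hw => hbD hw.1.1) hdD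
        (fun w hw => by
          have h1 : d * (b * d * b⁻¹) ∈ V := by
            rw [← hπ1, map_mul, map_mul, map_mul, map_inv, hinv', mul_inv_cancel]
          calc b * d * b⁻¹ * w * (b * d * b⁻¹)⁻¹ = d⁻¹ * (d * (b * d * b⁻¹) * w *
                (d * (b * d * b⁻¹))⁻¹) * d := by group
            _ = d⁻¹ * w * d := by rw [mem_centralizer_iff_conj.mp (hVc h1) w hw])
        hkodd (by rw [pow_orderOf_eq_one]; exact one_mem _)
    exact hd1 (by rw [← hm, hπ1.mpr (hCV hdV), one_pow])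
  -- `p` odd
  set L := R.comap π with hL
  have hVL : V ≤ L := fun w hw => by
    rw [hL, Subgroup.mem_comap, hπ1.mpr hw]; exact one_mem _
  have hidxL : V.relIndex L = Nat.card R := by
    have h1 := Subgroup.relIndex_ker (K := L) π
    rw [hπ, QuotientGroup.ker_mk'] at h1
    rw [h1, hL, Subgroup.map_comap_eq_self_of_surjective hπs]
  obtain ⟨j, hj⟩ := IsPGroup.iff_card.mp hVp
  obtain ⟨Q, hQL, hQsup, hQdis, hQcard⟩ := CfsgLib.Coprime.exists_complement_of_coprime
    (N := V) (S := L) Subgroup.le_normalizer_of_normal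
    (by rw [inf_eq_left.mpr hVL, hidxL, hj]; exact hRc.symm.pow_left j)
  rw [inf_eq_left.mpr hVL] at hQsup hQdis
  rw [hidxL] at hQcard
  have hVQ : (Nat.card V).Coprime (Nat.card Q) := by
    rw [hj, hQcard]; exact hRc.symm.pow_left j
  haveI : L.Normal := inferInstanceAs (R.comap π).Normal
  haveI : IsMulCommutative V := Subgroup.le_centralizer_iff_isMulCommutative.mp hVc
  haveI : Group.IsSolvable V := CfsgLib.Coprime.isSolvable_of_isMulCommutative V
  obtain ⟨x, hxV, hx⟩ := CfsgLib.Coprime.exists_conj_of_coprime (N := V) (H := Q) (K := cj b Q)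
    Subgroup.le_normalizer_of_normal hVQ (by rw [card_cj]; exact hVQ) (by
      have h1 := congrArg (cj b) hQsup
      rw [Cfsg.Agent.S4022.cj_sup, Cfsg.Agent.S4022.cj_normal b V, Cfsg.Agent.S4022.cj_normal b L] at h1
      rw [h1, hQsup]) (Or.inl inferInstance)
  rw [cj_smul] at hx
  set c := x⁻¹ * b with hc
  have hcQ : c ∈ Subgroup.normalizer (Q : Set X) :=
    mem_normalizer_of_cj (by rw [hc, cj_mul, ← hx, cj_cancel])
  have hcw : ∀ {w : X}, w ∈ V → c * w * c⁻¹ = b * w * b⁻¹ := fun {w} hw => by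
    calc c * w * c⁻¹ = x⁻¹ * (b * w * b⁻¹) * x := by rw [hc]; group
      _ = x⁻¹ * (x * (b * w * b⁻¹)) := by rw [mul_assoc, ← hcm hxV (hconjV b hw)]
      _ = _ := inv_mul_cancel_left _ _
  have hfz : ∀ {w : X}, w ∈ V → c * w * c⁻¹ * w⁻¹ ∈ Subgroup.zpowers z := fun {w} hw => by
    rw [hcw hw]; exact hbB w hw
  have hbz : ∀ {t : X}, t ∈ Subgroup.zpowers z → c * t * c⁻¹ = t := fun {t} ht => by
    rw [hcw (hzV ht)]
    obtain ⟨i, rfl⟩ := Subgroup.mem_zpowers_iff.mp ht
    exact conj_fix_iff.mpr (((Commute.refl b).pow_right p).zpow_right i).symm.eq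
  -- `z` is fixed by `Q`
  set fx := c * x * c⁻¹ * x⁻¹ with hfx
  have hfxV : fx ∈ V := mul_mem (hconjV c hxV) (inv_mem hxV)
  have hfxc : c * fx * c⁻¹ = fx := hbz (hfz hxV)
  have hpow : ∀ n : ℕ, (x * c) ^ n = x ^ n * fx ^ n.choose 2 * c ^ n := by
    intro n
    induction n with
    | zero => simp
    | succ n ih =>
      have hcn : c ^ n * x * (c ^ n)⁻¹ = fx ^ n * x := by
        clear ih
        induction n with
        | zero => simp
        | succ n ih =>
          calc c ^ (n + 1) * x * (c ^ (n + 1))⁻¹ = c * (c ^ n * x * (c ^ n)⁻¹) * c⁻¹ := by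
                rw [pow_succ']; group
            _ = (c * fx * c⁻¹) ^ n * (c * x * c⁻¹) := by rw [ih, conj_pow]; group
            _ = fx ^ n * (fx * x) := by rw [hfxc, show c * x * c⁻¹ = fx * x by rw [hfx]; group]
            _ = fx ^ (n + 1) * x := by rw [← mul_assoc, pow_succ]
      have h3 : fx ^ n.choose 2 * (fx ^ n * x) = x * fx ^ (n + 1).choose 2 := by
        rw [← mul_assoc, ← pow_add, hcm (pow_mem hfxV _) hxV, add_comm,
          Nat.choose_succ_succ' n 1, Nat.choose_one_right]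
      calc (x * c) ^ (n + 1) = x ^ n * fx ^ n.choose 2 * c ^ n * (x * c) := by rw [pow_succ, ih]
        _ = x ^ n * (fx ^ n.choose 2 * (c ^ n * x * (c ^ n)⁻¹)) * (c ^ n * c) := by group
        _ = x ^ n * (x * fx ^ (n + 1).choose 2) * c ^ (n + 1) := by rw [hcn, h3, pow_succ]
        _ = _ := by rw [← mul_assoc, ← pow_succ]
  have hzc : z = c ^ p := by
    have e : b = x * c := by rw [hc]; group
    obtain ⟨q, hq⟩ := hp.out.dvd_choose_self two_ne_zero
      (lt_of_le_of_ne hp.out.two_le (Ne.symm hp2))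
    rw [hz, e, hpow, hV x hxV, hq, pow_mul, hV fx hfxV, one_pow, one_mul, one_mul]
  have hzQ : ∀ {t : X}, t ∈ Subgroup.zpowers z → ∀ q ∈ Q, q * t * q⁻¹ = t := by
    intro t ht q hq
    have hzN : z ∈ Subgroup.normalizer (Q : Set X) := hzc ▸ pow_mem hcQ p
    have htN := Subgroup.zpowers_le.mpr hzN ht
    have h1 : q * t * q⁻¹ * t⁻¹ = 1 := by
      refine Subgroup.mem_bot.mp (hQdis.le (Subgroup.mem_inf.mpr ⟨mul_mem (hconjV q (hzV ht)) (inv_mem (hzV ht)), ?_⟩))
      rw [show q * t * q⁻¹ * t⁻¹ = q * (t * q⁻¹ * t⁻¹) by group]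
      exact mul_mem hq ((Subgroup.mem_normalizer_iff.mp htN _).mp (inv_mem hq))
    exact mul_inv_eq_one.mp h1
  have hcQc : ∀ q ∈ Q, c * q * c⁻¹ = q := by
    intro q hq
    set q' := c * q * c⁻¹ with hq'
    have hq'Q : q' ∈ Q := (Subgroup.mem_normalizer_iff.mp hcQ q).mp hq
    set r := q⁻¹ * q' with hr
    have hrQ : r ∈ Q := mul_mem (inv_mem hq) hq'Q
    have hrV : r ∈ V := hCV (mem_centralizer_iff_conj.mpr fun w hw => by
      set t := c * w * c⁻¹ * w⁻¹ with ht
      set g := c * (q * w * q⁻¹) * c⁻¹ * (q * w * q⁻¹)⁻¹ with hg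
      have htz : t ∈ Subgroup.zpowers z := hfz hw
      have hgz : g ∈ Subgroup.zpowers z := hfz (hconjV q hw)
      have e1 : q' * w * q'⁻¹ = g * (q * w * q⁻¹) * t⁻¹ := by
        have : g * (q * w * q⁻¹) = q' * t * q'⁻¹ * (q' * w * q'⁻¹) := by
          rw [hg, ht, hq']; group
        rw [this, hzQ htz q' hq'Q, hcm (hzV htz) (hconjV q' hw), mul_inv_cancel_right]
      have e2 : r * w * r⁻¹ = w * (g * t⁻¹) := by
        calc r * w * r⁻¹ = q⁻¹ * (q' * w * q'⁻¹) * q := by rw [hr]; group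
          _ = (q⁻¹ * g * q⁻¹⁻¹) * w * (q⁻¹ * t⁻¹ * q⁻¹⁻¹) := by rw [e1]; group
          _ = g * w * t⁻¹ := by rw [hzQ hgz _ (inv_mem hq), hzQ (inv_mem htz) _ (inv_mem hq)]
          _ = _ := by rw [hcm (hzV hgz) hw, mul_assoc]
      have hn : (orderOf r).Coprime p :=
        (hQcard ▸ hRc).coprime_dvd_left (Q.orderOf_dvd_natCard hrQ)
      have h1 : g * t⁻¹ = 1 := fix_coprime (hV _ (mul_mem (hzV hgz) (inv_mem (hzV htz))))
        (hzQ (mul_mem hgz (inv_mem htz)) r hrQ) e2 hn (pow_orderOf_eq_one r)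
      rw [e2, h1, mul_one])
    have h1 : r = 1 := Subgroup.mem_bot.mp (hQdis.le ⟨hrV, hrQ⟩)
    exact (inv_mul_eq_one.mp h1).symm
  refine hbR (mem_centralizer_iff_conj.mpr fun rb hr => ?_)
  obtain ⟨l, rfl⟩ := hπs rb
  obtain ⟨v, hv, q, hq, rfl⟩ := Subgroup.mem_sup_of_normal_left.mp (hQsup.ge (show l ∈ L from hr))
  have hb' : π b = π c := by rw [hc, map_mul, map_inv, hπ1.mpr hxV, inv_one, one_mul]
  rw [map_mul π v q, hπ1.mpr hv, one_mul, hb', ← map_inv, ← map_mul π c q, ← map_mul, hcQc q hq]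

/-- The case `O_{p'}(G) = 1`. -/
theorem reduced {G : Type*} [Group G] [Finite G] {p : ℕ} [hp : Fact p.Prime] (hG : Cfsg.IsPSolvable p G)
    (hO : Cfsg.pPrimeCore p G = ⊥) (P : Sylow p G) (A : Subgroup G) (hAP : A ≤ (P : Subgroup G))
    (hAn : (P : Subgroup G) ≤ Subgroup.normalizer (A : Set G)) [IsCyclic A]
    (h : p ≠ 2 ∨ ¬ Cfsg.Involves (Equiv.Perm (Fin 4)) G) : A ≤ Cfsg.pCore p G := by
  classical
  set U := Cfsg.pCore p G with hU
  haveI : U.Normal := CfsgLib.Fitting.pCore_normal p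
  have hUp : IsPGroup p U := CfsgLib.Fitting.pCore_isPGroup p
  have hCU : Subgroup.centralizer (U : Set G) ≤ U := CfsgLib.PSolvable.centralizer_pCore_le hG hO
  have hUP : U ≤ (P : Subgroup G) := fun u hu => CfsgLib.Fitting.mem_pCore_iff_forall_sylow.mp hu P
  set Φ := (frattini U).map U.subtype with hΦ
  haveI : Φ.Normal := CfsgLib.PSolvable.normal_map_of_characteristic U _
  have hΦU : Φ ≤ U := Subgroup.map_subtype_le _
  obtain ⟨hcom, hpowΦ⟩ := CfsgLib.PSolvable.commutator_le_frattini hUp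
  set φ := QuotientGroup.mk' Φ with hφ
  have hφs : Function.Surjective φ := QuotientGroup.mk'_surjective Φ
  have hφ1 : ∀ {g : G}, φ g = 1 ↔ g ∈ Φ := fun {g} => QuotientGroup.eq_one_iff g
  set V := U.map φ with hV
  haveI : V.Normal := Subgroup.Normal.map inferInstance φ hφs
  have hVe : ∀ v ∈ V, v ^ p = 1 := by
    rintro _ ⟨u, hu, rfl⟩
    rw [← map_pow]
    exact hφ1.mpr ⟨_, hpowΦ ⟨u, hu⟩, rfl⟩
  have hVc : V ≤ Subgroup.centralizer (V : Set (G ⧸ Φ)) := by
    rintro _ ⟨u, hu, rfl⟩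
    refine mem_centralizer_iff_conj.mpr ?_
    rintro _ ⟨w, hw, rfl⟩
    rw [← map_inv, ← map_mul, ← map_mul, ← mul_inv_eq_one, ← map_inv, ← map_mul]
    refine hφ1.mpr ⟨⁅(⟨u, hu⟩ : U), ⟨w, hw⟩⁆, hcom (Subgroup.commutator_mem_commutator
      (Subgroup.mem_top _) (Subgroup.mem_top _)), rfl⟩
  have hcomapV : V.comap φ = U := by
    rw [hV, Subgroup.comap_map_eq, hφ, QuotientGroup.ker_mk', sup_eq_left.mpr hΦU]
  have hCV : Subgroup.centralizer (V : Set (G ⧸ Φ)) ≤ V := by
    set C₀ := (Subgroup.centralizer (V : Set (G ⧸ Φ))).comap φ with hC₀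
    haveI : C₀.Normal := inferInstanceAs ((Subgroup.centralizer (V : Set (G ⧸ Φ))).comap φ).Normal
    have hC₀p : IsPGroup p C₀ := by
      refine CfsgLib.PSolvable.isPGroup_of_forall_coprime fun g hg hgo => ?_
      have hgC : Subgroup.zpowers g ≤ Subgroup.centralizer (U : Set G) := by
        obtain ⟨j, hj⟩ := IsPGroup.iff_card.mp (hUp.to_subgroup (frattini U))
        refine CfsgLib.Coprime.le_centralizer_of_frattini Subgroup.le_normalizer_of_normal ?_ ?_
        · rw [Nat.card_zpowers, hj]; exact hgo.pow_right j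
        · intro a ha k hk
          have haC : a ∈ C₀ := Subgroup.zpowers_le.mpr hg ha
          refine hφ1.mp ?_
          rw [map_mul, map_mul, map_mul, map_inv, map_inv, mul_inv_eq_one]
          exact mem_centralizer_iff_conj.mp haC _ ⟨k, hk, rfl⟩
      obtain ⟨j, hj⟩ := hUp ⟨g, hCU (hgC (Subgroup.mem_zpowers g))⟩
      exact orderOf_eq_one_iff.mp (Nat.eq_one_of_dvd_coprimes (hgo.pow_right j) dvd_rfl
        (orderOf_dvd_of_pow_eq_one (congrArg Subtype.val hj)))
    intro x hx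
    obtain ⟨g, rfl⟩ := hφs x
    exact ⟨g, CfsgLib.Fitting.le_pCore inferInstance hC₀p hx, rfl⟩
  have hred : Cfsg.pCore p ((G ⧸ Φ) ⧸ V) = ⊥ := by
    haveI := CfsgLib.Fitting.pCore_normal (G := (G ⧸ Φ) ⧸ V) p
    set ψ := (QuotientGroup.mk' V).comp φ with hψ
    have hψs : Function.Surjective ψ := (QuotientGroup.mk'_surjective V).comp hφs
    have hkp : IsPGroup p ψ.ker := by
      rw [hψ, ← MonoidHom.comap_ker, QuotientGroup.ker_mk', hcomapV]; exact hUp
    have h1 : (Cfsg.pCore p ((G ⧸ Φ) ⧸ V)).comap ψ ≤ U :=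
      CfsgLib.Fitting.le_pCore inferInstance
        ((CfsgLib.Fitting.pCore_isPGroup p).comap_of_ker_isPGroup ψ hkp)
    rw [eq_bot_iff]
    intro x hx
    obtain ⟨g, rfl⟩ := hψs x
    exact Subgroup.mem_bot.mpr ((QuotientGroup.eq_one_iff _).mpr ⟨g, h1 hx, rfl⟩)
  by_contra hAU
  obtain ⟨b, ⟨hbA, hbU⟩, hmin⟩ := (Set.toFinite {a : G | a ∈ A ∧ a ∉ U}).exists_minimalFor
    (fun a => orderOf a) _ (SetLike.not_le_iff_exists.mp hAU)
  have hbP : b ∈ (P : Subgroup G) := hAP hbA
  have hbp : b ^ p ∈ U := by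
    by_contra hbp
    obtain ⟨j, hj⟩ := P.2 ⟨b, hbP⟩
    have hb1 : b ≠ 1 := fun e => hbU (e ▸ one_mem _)
    have hle := hmin ⟨pow_mem hbA p, hbp⟩
    have hdvd : p ∣ orderOf b := by
      obtain ⟨i, -, hi⟩ := (Nat.dvd_prime_pow hp.out).mp
        (orderOf_dvd_of_pow_eq_one (congrArg Subtype.val hj : b ^ p ^ j = 1))
      rcases i with _ | i
      · exact absurd (orderOf_eq_one_iff.mp (hi.trans (pow_zero p))) hb1
      · exact hi ▸ dvd_pow_self p (Nat.succ_ne_zero i)
    have hlt : orderOf (b ^ p) < orderOf b := by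
      rw [orderOf_pow_of_dvd hp.out.ne_zero hdvd]
      exact Nat.div_lt_self (orderOf_pos b) hp.out.one_lt
    exact absurd (hle hlt.le) (not_le.mpr hlt)
  have hBn : ∀ g ∈ (P : Subgroup G), g * b * g⁻¹ ∈ Subgroup.zpowers b := by
    intro g hg
    have e : Subgroup.zpowers (g * b * g⁻¹) = Subgroup.zpowers b := cyclic_unique
      (Subgroup.zpowers_le.mpr ((Subgroup.mem_normalizer_iff.mp (hAn hg) b).mp hbA))
      (Subgroup.zpowers_le.mpr hbA) (by
        rw [Nat.card_zpowers, Nat.card_zpowers, ← MulAut.conj_apply, MulEquiv.orderOf_eq])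
    exact e ▸ Subgroup.mem_zpowers _
  refine hbU (hcomapV.le (show φ b ∈ V from core ?_ ?_ hVe hVc hCV hred ?_ ?_))
  · exact CfsgLib.PSolvable.isPSolvable_of_surjective φ hφs hG
  · exact h.imp_right fun h4 h' => h4 (CfsgLib.Offender.involves_of_surjective φ hφs h')
  · rw [← map_pow]; exact ⟨_, hbp, rfl⟩
  rintro _ ⟨u, hu, rfl⟩
  have hw : b * u * b⁻¹ * u⁻¹ ∈ Subgroup.zpowers b := by
    have h1 : u * b⁻¹ * u⁻¹ ∈ Subgroup.zpowers b := by
      have := inv_mem (hBn u (hUP hu))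
      simpa [mul_assoc] using this
    rw [show b * u * b⁻¹ * u⁻¹ = b * (u * b⁻¹ * u⁻¹) by group]
    exact mul_mem (Subgroup.mem_zpowers b) h1
  have hwU : b * u * b⁻¹ * u⁻¹ ∈ U :=
    mul_mem (Subgroup.Normal.conj_mem inferInstance u hu b) (inv_mem hu)
  obtain ⟨i, hi⟩ := Subgroup.mem_zpowers_iff.mp hw
  have hpi : (p : ℤ) ∣ i := by
    by_contra hpi
    have hco : IsCoprime i (p : ℤ) :=
      ((Nat.prime_iff_prime_int.mp hp.out).coprime_iff_not_dvd.mpr hpi).symm
    obtain ⟨s, t, hst⟩ := hco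
    refine hbU ?_
    rw [← zpow_one b, ← hst, zpow_add, mul_comm s, mul_comm t, zpow_mul, zpow_mul, zpow_natCast]
    exact mul_mem (zpow_mem (hi ▸ hwU) s) (zpow_mem hbp t)
  obtain ⟨k, rfl⟩ := hpi
  simp only [← map_inv, ← map_mul, ← map_pow]
  refine ⟨k, ?_⟩
  show φ (b ^ p) ^ k = _
  rw [← map_zpow, ← hi, zpow_mul, zpow_natCast]

/-- Let G be a finite p-soluble group, P a Sylow p-subgroup of G and A a cyclic normal subgroup of P. If p is odd, or if no section of G is isomorphic to the symmetric group of degree 4, then A ≤ O_{p',p}(G). -/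
theorem result {G : Type*} [Group G] [Finite G] {p : ℕ} [Fact p.Prime] (hG : Cfsg.IsPSolvable p G) (P : Sylow p G) (A : Subgroup G) (hAP : A ≤ (P : Subgroup G)) (hAn : (P : Subgroup G) ≤ Subgroup.normalizer (A : Set G)) (hA : IsCyclic A) (h : p ≠ 2 ∨ ¬ Cfsg.Involves (Equiv.Perm (Fin 4)) G) : A ≤ Cfsg.pPrimePCore p G := by
  haveI := CfsgLib.Transfer.pPrimeCore_normal p G
  set f := QuotientGroup.mk' (Cfsg.pPrimeCore p G) with hf
  have hfs : Function.Surjective f := QuotientGroup.mk'_surjective _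
  haveI : IsCyclic (A.map f) :=
    isCyclic_of_surjective (f.subgroupMap A) (f.subgroupMap_surjective A)
  intro a ha
  show f a ∈ Cfsg.pCore p (G ⧸ Cfsg.pPrimeCore p G)
  refine reduced (CfsgLib.PSolvable.isPSolvable_of_surjective f hfs hG)
    (CfsgLib.Layer.pPrimeCore_quotient_eq_bot p) (P.mapSurjective hfs) (A.map f)
    (by rw [Sylow.coe_mapSurjective]; exact Subgroup.map_mono hAP)
    (by rw [Sylow.coe_mapSurjective]
        exact (Subgroup.map_mono hAn).trans (Subgroup.le_normalizer_map f))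
    (h.imp_right fun h4 h' => h4 (CfsgLib.Offender.involves_of_surjective f hfs h'))
    ⟨a, ha, rfl⟩

end Cfsg.Agent.S3788
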