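import Cfsg.Statements.S3793
import Cfsg.Agent.Lib.HallHigman.FpfPower.Induction

set_option autoImplicit false
open Cfsg

namespace Cfsg.Agent.S3793

/-- The Shult–Gross Theorem: let p be an odd prime and G a finite solvable group with an automorphism σ of order p^n fixing only the identity. Then G has Fitting height at most n: G has Fitting height at most m when there is a chain of normal subgroups 1 = F₀ ≤ F₁ ≤ ⋯ ≤ F_m = G with each F_{i+1}/F_i nilpotent. -/
theorem result {G : Type*} [Group G] [Finite G] (hG : Group.IsSolvable G) {p : ℕ} (hp : p.Prime) (hp2 : p ≠ 2) (σ : MulAut G) (n : ℕ) (hσ : orderOf σ = p ^ n) (hfpf : ∀ g : G, σ g = g → g = 1) : ∃ F : Fin (n + 1) → Subgroup G, F 0 = ⊥ ∧ F (Fin.last n) = ⊤ ∧ Monotone F ∧ (∀ i, (F i).Normal) ∧ ∀ i : Fin n, ∃ k : ℕ, (F i.succ).lowerCentralSeries k ≤ F i.castSucc := by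
  rcases Nat.eq_zero_or_pos n with rfl | hn
  · rw [pow_zero, orderOf_eq_one_iff] at hσ
    subst hσ
    refine (CfsgLib.FitLen.exists_chain_iff 0).2 ?_
    exact le_bot_iff.1 fun g _ => hfpf g rfl
  haveI := Fact.mk hp
  -- the semidirect product with the operator
  let A := Subgroup.zpowers σ
  have hpG : ¬ p ∣ Nat.card G := by
    intro hd
    have hA : IsPGroup p A := IsPGroup.of_card (n := n) (by rw [Nat.card_zpowers, hσ])
    obtain ⟨g, hg, hg1⟩ := hA.exists_fixed_point_of_prime_dvd_card_of_fixed_point G hd (a := 1)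
      fun a => map_one (a : MulAut G)
    exact hg1 (hfpf g (hg (⟨σ, Subgroup.mem_zpowers σ⟩ : A))).symm
  haveI : Finite (G ⋊[A.subtype] A) := Finite.of_equiv (G × A) SemidirectProduct.equivProd.symm
  set x : G ⋊[A.subtype] A := SemidirectProduct.inr ⟨σ, Subgroup.mem_zpowers σ⟩ with hx
  set N := (SemidirectProduct.inl : G →* G ⋊[A.subtype] A).range with hN
  have hNn : N.Normal := by
    rw [hN, SemidirectProduct.range_inl_eq_ker_rightHom]
    infer_instance
  have hconj : ∀ g : G, x * SemidirectProduct.inl g * x⁻¹ = SemidirectProduct.inl (σ g) := fun g =>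
    ((SemidirectProduct.inl_aut (φ := A.subtype) (⟨σ, Subgroup.mem_zpowers σ⟩ : A) g).trans (by
      rw [map_inv])).symm
  have hxp : x ^ p ^ n = 1 := by
    rw [hx, ← map_pow, show (⟨σ, Subgroup.mem_zpowers σ⟩ : A) ^ p ^ n = 1 from
      Subtype.ext (by simpa [← hσ] using pow_orderOf_eq_one σ), map_one]
  haveI := hG
  have h := CfsgLib.HallHigman.FpfPower.iterResid_eq_bot hp hp2 n n x N hNn
    (Group.isSolvable_of_surjective (MonoidHom.rangeRestrict_surjective _))
    (by rwa [hN, Nat.card_congr (MonoidHom.ofInjective SemidirectProduct.inl_injective).toEquiv.symm])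
    hxp
    (by
      rintro _ ⟨g, rfl⟩ hg
      have h1 := hconj g
      rw [hg, mul_inv_cancel_right] at h1
      rw [hfpf g (SemidirectProduct.inl_injective h1).symm, map_one])
    (fun g _ => by rw [hxp, one_mul, mul_one])
  refine (CfsgLib.FitLen.exists_chain_iff n).2 ?_
  rw [hN, MonoidHom.range_eq_map, ← CfsgLib.FitLen.iterResid_map] at h
  exact (Subgroup.map_eq_bot_iff_of_injective _ SemidirectProduct.inl_injective).1 h

end Cfsg.Agent.S3793
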