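import Mathlib

/-!
# The coprime core of Ward's theorem

An elementary abelian group `A` of order `p²` acts compatibly on a finite group `H` and on an
`H`-module `V`, with no common fixed points.  Averaging over cyclic subgroups of `A` shows that a
group `T` fixed by some `a ∈ A#` centralizes every minimal `r`-subgroup that it normalizes.
-/

set_option autoImplicit false
set_option linter.style.haveILetI false

namespace Cfsg.Agent.S3796

open scoped commutatorElement

universe u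

theorem exists_pow_pow_eq {M : Type*} [Monoid M] {c : M} {p j : ℕ} (hp : p.Prime) (hc : c ^ p = 1)
    (hj : ¬ p ∣ j) : ∃ m : ℕ, (c ^ j) ^ m = c := by
  obtain ⟨m, -, hm⟩ := Nat.exists_mul_mod_eq_one_of_coprime (hp.coprime_iff_not_dvd.mpr hj).symm hp.one_lt
  refine ⟨m, ?_⟩
  rw [← pow_mul, ← Nat.mod_add_div (j * m) p, hm, pow_add, pow_mul, hc, one_pow, mul_one, pow_one]

theorem smul_fix_pow {M X : Type*} [Monoid M] [MulAction M X] {c : M} {x : X} (h : c • x = x) :
    ∀ n : ℕ, c ^ n • x = x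
  | 0 => by rw [pow_zero, one_smul]
  | n + 1 => by rw [pow_succ, mul_smul, h, smul_fix_pow h n]

theorem sum_pow_fixed {M V : Type*} [Monoid M] [AddCommMonoid V] [DistribMulAction M V] {p : ℕ} {c : M}
    (hc : c ^ p = 1) (v : V) :
    c • (∑ j ∈ Finset.range p, c ^ j • v) = ∑ j ∈ Finset.range p, c ^ j • v := by
  rcases Nat.eq_zero_or_pos p with rfl | hp
  · simp
  obtain ⟨q, rfl⟩ : ∃ q, p = q + 1 := ⟨p - 1, by omega⟩
  rw [Finset.smul_sum, Finset.sum_range_succ]
  conv_rhs => rw [Finset.sum_range_succ']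
  simp only [smul_smul, ← pow_succ', hc, pow_zero]

/-- The averaging identity for two commuting elements of order `p`. -/
theorem gen_mem {M V : Type*} [Monoid M] [AddCommGroup V] [DistribMulAction M V] {p : ℕ} (hp : p.Prime)
    {a b : M} (ha : a ^ p = 1) (hb : b ^ p = 1) (hab : Commute a b) (S : AddSubgroup V) (v : V)
    (h1 : ∀ j < p, a • (∑ i ∈ Finset.range p, a ^ i • b ^ j • v) = ∑ i ∈ Finset.range p, a ^ i • b ^ j • v →
      ∑ i ∈ Finset.range p, a ^ i • b ^ j • v ∈ S)
    (h2 : ∀ i < p, (a ^ i * b) • (∑ j ∈ Finset.range p, (a ^ i * b) ^ j • v) =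
      ∑ j ∈ Finset.range p, (a ^ i * b) ^ j • v → ∑ j ∈ Finset.range p, (a ^ i * b) ^ j • v ∈ S) :
    p • v ∈ S := by
  classical
  have hterm : ∀ i j, (a ^ i * b) ^ j • v = (a ^ j) ^ i • b ^ j • v := fun i j => by
    rw [(hab.pow_left i).mul_pow, mul_smul, ← pow_mul, ← pow_mul, mul_comm]
  have hsum : ∑ i ∈ Finset.range p, ∑ j ∈ Finset.range p, (a ^ i * b) ^ j • v ∈ S :=
    sum_mem fun i hi => h2 i (Finset.mem_range.mp hi) (sum_pow_fixed (by
      rw [(hab.pow_left i).mul_pow, hb, mul_one, ← pow_mul, mul_comm, pow_mul, ha, one_pow]) v)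
  rw [Finset.sum_comm] at hsum
  simp only [hterm] at hsum
  rw [← Finset.add_sum_erase _ _ (Finset.mem_range.mpr hp.pos)] at hsum
  have h0 : ∑ i ∈ Finset.range p, (a ^ 0) ^ i • b ^ 0 • v = p • v := by simp
  rw [h0] at hsum
  refine (S.add_mem_cancel_right ?_).mp hsum
  refine sum_mem fun j hj => ?_
  obtain ⟨hj0, hj⟩ := Finset.mem_erase.mp hj
  have hjp : ¬ p ∣ j := fun h => hj0 (Nat.eq_zero_of_dvd_of_lt h (Finset.mem_range.mp hj))
  -- the powers of `a ^ j` run over those of `a`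
  have hreindex : ∑ i ∈ Finset.range p, (a ^ j) ^ i • b ^ j • v = ∑ i ∈ Finset.range p, a ^ i • b ^ j • v := by
    have hmod : ∀ n, a ^ n = a ^ (n % p) := fun n => by
      conv_lhs => rw [← Nat.mod_add_div n p, pow_add, pow_mul, ha, one_pow, mul_one]
    have hinj : Set.InjOn (fun i => j * i % p) (Finset.range p : Set ℕ) := fun i hi i' hi' e => by
      have e' : j * i ≡ j * i' [MOD p] := e
      have := Nat.ModEq.cancel_left_of_coprime (hp.coprime_iff_not_dvd.mpr hjp) e'
      exact Nat.ModEq.eq_of_lt_of_lt this (Finset.mem_range.mp hi) (Finset.mem_range.mp hi')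
    have himg : (Finset.range p).image (fun i => j * i % p) = Finset.range p :=
      Finset.eq_of_subset_of_card_le (fun x hx => by
        obtain ⟨i, -, rfl⟩ := Finset.mem_image.mp hx
        exact Finset.mem_range.mpr (Nat.mod_lt _ hp.pos)) (by rw [Finset.card_image_of_injOn hinj])
    conv_rhs => rw [← himg, Finset.sum_image hinj]
    exact Finset.sum_congr rfl fun i _ => by rw [← pow_mul, hmod]
  rw [hreindex]
  refine h1 j (Finset.mem_range.mp hj) ?_
  exact sum_pow_fixed ha _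

/-- The elements of a subgroup form a `c`-invariant finite set. -/
def IsInv (A : Type*) {G : Type*} [Group A] [Group G] [MulDistribMulAction A G] (N : Subgroup G) : Prop :=
  ∀ (c : A), ∀ x ∈ N, c • x ∈ N

theorem exists_fixed_lift {A G : Type*} [Group A] [Finite A] [Group G] [Finite G] [MulDistribMulAction A G]
    {p : ℕ} [Fact p.Prime] {c : A} (hc : c ^ p = 1) (N : Subgroup G)
    (hN : ∀ x ∈ N, c • x ∈ N) (hpN : ¬ p ∣ Nat.card N) {x : G} (hx : x⁻¹ * c • x ∈ N) :
    ∃ y : G, c • y = y ∧ x⁻¹ * y ∈ N := by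
  have hcn : ∀ (n : ℕ), ∀ y ∈ N, c ^ n • y ∈ N := by
    intro n
    induction n with
    | zero => intro y hy; rwa [pow_zero, one_smul]
    | succ n ih => intro y hy; rw [pow_succ', mul_smul]; exact hN _ (ih y hy)
  have hxn : ∀ n : ℕ, x⁻¹ * c ^ n • x ∈ N := by
    intro n
    induction n with
    | zero => simp
    | succ n ih =>
      have := N.mul_mem hx (hN _ ih)
      rw [smul_mul', smul_inv', smul_smul, ← pow_succ'] at this
      simpa [mul_assoc] using this
  let S := {y : G // x⁻¹ * y ∈ N}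
  have hstab : ∀ e ∈ Subgroup.zpowers c, ∀ y : G, x⁻¹ * y ∈ N → x⁻¹ * e • y ∈ N := by
    intro e he y hy
    obtain ⟨n, rfl⟩ := (mem_powers_iff_mem_zpowers.mpr he : e ∈ Submonoid.powers c)
    have := N.mul_mem (hxn n) (hcn n _ hy)
    rw [smul_mul', smul_inv'] at this
    simpa [mul_assoc] using this
  letI : MulAction (Subgroup.zpowers c) S :=
    { smul := fun e y => ⟨(e : A) • y.1, hstab e e.2 y.1 y.2⟩
      one_smul := fun y => Subtype.ext (one_smul A y.1)
      mul_smul := fun e f y => Subtype.ext (mul_smul (e : A) f y.1) }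
  have hP : IsPGroup p (Subgroup.zpowers c) := fun e => ⟨1, Subtype.ext (by
    obtain ⟨n, hn⟩ := Subgroup.mem_zpowers_iff.mp e.2
    rw [pow_one, SubmonoidClass.coe_pow, OneMemClass.coe_one, ← hn, ← zpow_natCast, ← zpow_mul, mul_comm, zpow_mul,
      zpow_natCast, hc, one_zpow])⟩
  have hcard : Nat.card S = Nat.card N := Nat.card_congr
    { toFun := fun y => ⟨x⁻¹ * y.1, y.2⟩
      invFun := fun n => ⟨x * n.1, by rw [inv_mul_cancel_left]; exact n.2⟩
      left_inv := fun y => Subtype.ext (by simp)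
      right_inv := fun n => Subtype.ext (by simp) }
  obtain ⟨y, hy⟩ := hP.nonempty_fixed_point_of_prime_not_dvd_card (α := S) (by rwa [hcard])
  exact ⟨y.1, congrArg Subtype.val (hy ⟨c, Subgroup.mem_zpowers c⟩), y.2⟩

/-- A nilpotent group is generated by the fixed points of the nonidentity elements. -/
theorem generate {A R : Type*} [CommGroup A] [Finite A] [Group R] [Finite R] [Group.IsNilpotent R]
    [MulDistribMulAction A R] {p : ℕ} (hp : p.Prime) (hpR : ¬ p ∣ Nat.card R) {a b : A} (ha : a ^ p = 1)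
    (hb : b ^ p = 1) (ha1 : a ≠ 1) (hb1 : b ∉ Subgroup.zpowers a) (D : Subgroup R)
    (hD : ∀ c : A, c ≠ 1 → ∀ x : R, c • x = x → x ∈ D) : D = ⊤ := by
  classical
  haveI := Fact.mk hp
  -- modulo the derived subgroup
  let N := commutator R
  let Q := Abelianization R
  let π : R →* Q := Abelianization.of
  have hker : π.ker = N := Abelianization.ker_of R
  have hπ : Function.Surjective π := QuotientGroup.mk'_surjective _
  have hNinv : ∀ (c : A), ∀ x ∈ N, c • x ∈ N := fun c x hx =>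
    (Abelianization.commutator_subset_ker ((π).comp (MulDistribMulAction.toMonoidHom R c)) hx |> fun h =>
      hker ▸ (MonoidHom.mem_ker.mpr h : c • x ∈ π.ker))
  let φ : A → Q →* Q := fun c => Abelianization.map (MulDistribMulAction.toMonoidHom R c)
  have hφ : ∀ c x, φ c (π x) = π (c • x) := fun c x => rfl
  letI : DistribMulAction A (Additive Q) :=
    { smul := fun c v => Additive.ofMul (φ c v.toMul)
      one_smul := fun v => by
        obtain ⟨x, hx⟩ := hπ v.toMul
        show Additive.ofMul (φ 1 v.toMul) = v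
        rw [← hx, hφ, one_smul, hx]; rfl
      mul_smul := fun c d v => by
        obtain ⟨x, hx⟩ := hπ v.toMul
        show Additive.ofMul (φ (c * d) v.toMul) = Additive.ofMul (φ c (φ d v.toMul))
        rw [← hx, hφ, hφ, hφ, mul_smul]
      smul_zero := fun c => congrArg Additive.ofMul (map_one (φ c))
      smul_add := fun c v w => congrArg Additive.ofMul (map_mul (φ c) v.toMul w.toMul) }
  let S : AddSubgroup (Additive Q) := Subgroup.toAddSubgroup (D.map π)
  have hS : ∀ c : A, c ^ p = 1 → c ≠ 1 → ∀ w : Additive Q, c • w = w → w ∈ S := by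
    intro c hc hc1 w hw
    obtain ⟨x, hx⟩ := hπ w.toMul
    have hw' : π (c • x) = π x := by
      rw [← hφ, hx]
      exact congrArg Additive.toMul hw
    obtain ⟨y, hy, hy'⟩ := exists_fixed_lift hc N (hNinv c)
      (fun h => hpR (h.trans N.card_subgroup_dvd_card)) (x := x)
      (by rw [← hker, MonoidHom.mem_ker, map_mul, map_inv, hw', inv_mul_cancel])
    refine ⟨y, hD c hc1 y hy, ?_⟩
    rw [← hker, MonoidHom.mem_ker, map_mul, map_inv, inv_mul_eq_one] at hy'
    rw [← hy', hx]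
  have hall : ∀ v : Additive Q, v ∈ S := by
    intro v
    have h := gen_mem hp ha hb (Commute.all a b) S v (fun j _ h => hS a ha ha1 _ h)
      (fun i _ h => hS _ (by rw [mul_pow, hb, mul_one, ← pow_mul, mul_comm, pow_mul, ha, one_pow])
        (fun e => hb1 (by
          rw [show b = (a ^ i)⁻¹ from eq_inv_of_mul_eq_one_right e]
          exact inv_mem (pow_mem (Subgroup.mem_zpowers a) i))) _ h)
    have hcop : (Nat.card (Additive Q)).Coprime p := (hp.coprime_iff_not_dvd.mpr fun h => hpR (h.trans (by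
      show Nat.card (R ⧸ N) ∣ Nat.card R
      exact Subgroup.card_quotient_dvd_card N))).symm
    obtain ⟨m, hm⟩ := (nsmulCoprime hcop).surjective v
    have hm' : p • m = v := hm
    rw [← hm']
    have h2 := gen_mem hp ha hb (Commute.all a b) S m (fun j _ h => hS a ha ha1 _ h)
      (fun i _ h => hS _ (by rw [mul_pow, hb, mul_one, ← pow_mul, mul_comm, pow_mul, ha, one_pow])
        (fun e => hb1 (by
          rw [show b = (a ^ i)⁻¹ from eq_inv_of_mul_eq_one_right e]
          exact inv_mem (pow_mem (Subgroup.mem_zpowers a) i))) _ h)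
    exact h2
  have hsup : D ⊔ commutator R = ⊤ := by
    rw [eq_top_iff]
    intro x _
    obtain ⟨d, hd, hdx⟩ := hall (Additive.ofMul (π x))
    have : d⁻¹ * x ∈ N := by rw [← hker, MonoidHom.mem_ker, map_mul, map_inv, inv_mul_eq_one]; exact hdx
    simpa using Subgroup.mul_mem _ (Subgroup.mem_sup_left (T := commutator R) hd) (Subgroup.mem_sup_right this)
  by_contra hne
  obtain ⟨M, hM, hle⟩ := (IsCoatomic.eq_top_or_exists_le_coatom D).resolve_left hne
  have hMn : M.Normal := Subgroup.NormalizerCondition.normal_of_coatom M Group.normalizerCondition_of_isNilpotent hM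
  haveI := hMn
  have hcM : commutator R ≤ M := by
    haveI : IsSimpleGroup (R ⧸ M) := by
      haveI : Nontrivial (R ⧸ M) := QuotientGroup.nontrivial_iff.mpr hM.1
      refine ⟨fun H hH => ?_⟩
      have hle : M ≤ H.comap (QuotientGroup.mk' M) := fun x hx => by
        rw [Subgroup.mem_comap, show QuotientGroup.mk' M x = 1 from (QuotientGroup.eq_one_iff x).mpr hx]
        exact one_mem _
      rcases eq_or_lt_of_le hle with h | h
      · left
        rw [eq_bot_iff]
        intro y hy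
        obtain ⟨x, rfl⟩ := QuotientGroup.mk'_surjective M y
        exact (QuotientGroup.eq_one_iff x).mpr (h.ge hy)
      · right
        rw [eq_top_iff]
        intro y _
        obtain ⟨x, rfl⟩ := QuotientGroup.mk'_surjective M y
        exact (hM.2 _ h).ge (Subgroup.mem_top x)
    haveI : Group.IsSolvable (R ⧸ M) := inferInstance
    have hcomm := IsSimpleGroup.comm_iff_isSolvable.mpr (inferInstance : Group.IsSolvable (R ⧸ M))
    rw [commutator_def, Subgroup.commutator_le]
    intro x _ y _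
    rw [← QuotientGroup.eq_one_iff]
    show QuotientGroup.mk' M ⁅x, y⁆ = 1
    rw [map_commutatorElement, commutatorElement_eq_one_iff_mul_comm]
    exact hcomm _ _
  exact hM.1 (top_le_iff.mp (hsup ▸ sup_le hle hcM))

/-- The action of `A` on an invariant subgroup. -/
@[reducible] def subAct {A G : Type*} [Group A] [Group G] [MulDistribMulAction A G] (R : Subgroup G)
    (hR : IsInv A R) : MulDistribMulAction A R where
  smul c x := ⟨c • (x : G), hR c x x.2⟩
  one_smul x := Subtype.ext (one_smul A (x : G))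
  mul_smul c d x := Subtype.ext (mul_smul c d (x : G))
  smul_mul c x y := Subtype.ext (smul_mul' c (x : G) (y : G))
  smul_one c := Subtype.ext (smul_one c)

theorem generate_sub {A G : Type*} [CommGroup A] [Finite A] [Group G] [Finite G] [MulDistribMulAction A G]
    {p : ℕ} (hp : p.Prime) (hpG : ¬ p ∣ Nat.card G) {a b : A} (ha : a ^ p = 1)
    (hb : b ^ p = 1) (ha1 : a ≠ 1) (hb1 : b ∉ Subgroup.zpowers a) (R : Subgroup G) (hRn : Group.IsNilpotent R)
    (hR : IsInv A R) (D : Subgroup G) (hD : ∀ c : A, c ≠ 1 → ∀ x ∈ R, c • x = x → x ∈ D) : R ≤ D := by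
  haveI := hRn
  letI := subAct R hR
  have h := generate (R := R) hp (fun h => hpG (h.trans R.card_subgroup_dvd_card)) ha hb ha1 hb1 (D.subgroupOf R)
    fun c hc x hx => hD c hc x x.2 (congrArg Subtype.val hx)
  exact Subgroup.subgroupOf_eq_top.mp h

theorem exists_not_mem_zpowers {A : Type*} [Group A] [Finite A] {p : ℕ} (hp : p.Prime) (hA : Nat.card A = p ^ 2)
    (hexp : ∀ c : A, c ^ p = 1) (b : A) : ∃ c : A, c ∉ Subgroup.zpowers b := by
  by_contra h
  push Not at h
  have h1 : Nat.card A ∣ p := by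
    rw [← Subgroup.card_top, ← show Subgroup.zpowers b = ⊤ from (Subgroup.eq_top_iff' _).mpr h, Nat.card_zpowers]
    exact orderOf_dvd_of_pow_eq_one (hexp b)
  have h2 := Nat.le_of_dvd hp.pos h1
  rw [hA] at h2
  have := hp.two_le
  nlinarith

theorem zpowers_sup_eq_top {A : Type*} [Group A] [Finite A] {p : ℕ} (hp : p.Prime) (hA : Nat.card A = p ^ 2)
    (hexp : ∀ c : A, c ^ p = 1) {b c : A} (hb : b ≠ 1) (hc : c ∉ Subgroup.zpowers b) :
    Subgroup.zpowers b ⊔ Subgroup.zpowers c = ⊤ := by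
  haveI := Fact.mk hp
  set L := Subgroup.zpowers b ⊔ Subgroup.zpowers c
  have hbc : Subgroup.zpowers b < L := lt_of_le_of_ne le_sup_left fun e =>
    hc (e.ge (Subgroup.mem_sup_right (Subgroup.mem_zpowers c)))
  have hbo : Nat.card (Subgroup.zpowers b) = p := by rw [Nat.card_zpowers, orderOf_eq_prime (hexp b) hb]
  obtain ⟨k, hk, hkL⟩ := (Nat.dvd_prime_pow hp).mp (hA ▸ L.card_subgroup_dvd_card)
  apply Subgroup.eq_top_of_card_eq
  rw [hA, hkL]
  have hk2 : 2 ≤ k := by
    by_contra h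
    have h1 : Nat.card L ≤ p := by
      rw [hkL]; exact (Nat.pow_le_pow_right hp.pos (show k ≤ 1 by omega)).trans (pow_one p).le
    exact hbc.ne (Subgroup.eq_of_le_of_card_ge le_sup_left (by rw [hbo]; exact h1))
  rw [show k = 2 by omega]

/-- Everything fixed by a generating pair is fixed. -/
theorem fixed_of_span {A G : Type*} [Group A] [Finite A] [MulAction A G] {p : ℕ} (hp : p.Prime) (hA : Nat.card A = p ^ 2)
    (hexp : ∀ c : A, c ^ p = 1) {b c : A} (hb : b ≠ 1) (hc : c ∉ Subgroup.zpowers b) {x : G} (h1 : b • x = x)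
    (h2 : c • x = x) (e : A) : e • x = x := by
  have hle : Subgroup.zpowers b ⊔ Subgroup.zpowers c ≤ MulAction.stabilizer A x :=
    sup_le (Subgroup.zpowers_le.mpr h1) (Subgroup.zpowers_le.mpr h2)
  rw [zpowers_sup_eq_top hp hA hexp hb hc] at hle
  exact hle (Subgroup.mem_top e)

theorem mem_zpowers_symm {A : Type*} [Group A] [Finite A] {p : ℕ} (hp : p.Prime) (hexp : ∀ c : A, c ^ p = 1)
    {b c : A} (hc1 : c ≠ 1) (hc : c ∈ Subgroup.zpowers b) : b ∈ Subgroup.zpowers c := by
  haveI := Fact.mk hp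
  have hb : b ≠ 1 := fun e => hc1 (by rw [e, Subgroup.zpowers_one_eq_bot, Subgroup.mem_bot] at hc; exact hc)
  have h : Subgroup.zpowers c = Subgroup.zpowers b := Subgroup.eq_of_le_of_card_ge (Subgroup.zpowers_le.mpr hc)
    (by rw [Nat.card_zpowers, Nat.card_zpowers, orderOf_eq_prime (hexp b) hb, orderOf_eq_prime (hexp c) hc1])
  exact h ▸ Subgroup.mem_zpowers b

section Averaging

variable {A H V : Type u} [Group A] [Group H] [Finite H] [AddCommGroup V] [MulDistribMulAction A H]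
  [DistribMulAction A V] [DistribMulAction H V]

/-- An element fixing the fixed points of `c` fixes everything without `Z`-average. -/
theorem key (hcompat : ∀ (c : A) (h : H) (v : V), c • h • v = (c • h) • c • v) {p : ℕ} (hp : p.Prime)
    {c : A} (hc : c ^ p = 1) (Z : Subgroup H) [Fintype Z] (hZ : ∀ z ∈ Z, c • z ∈ Z)
    (hZc : ∀ z ∈ Z, c • z = z → z = 1) (hcop : ∀ v : V, Nat.card Z • v = 0 → v = 0)
    {x : H} (hxZ : ∀ z ∈ Z, x * z = z * x) (hfix : ∀ v : V, c • v = v → x • v = v) {v : V}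
    (hv : ∑ z : Z, (z : H) • v = 0) : x • v = v := by
  classical
  have hZn : ∀ n : ℕ, ∀ z ∈ Z, c ^ n • z ∈ Z := by
    intro n
    induction n with
    | zero => intro z hz; rwa [pow_zero, one_smul]
    | succ n ih => intro z hz; rw [pow_succ', mul_smul]; exact hZ _ (ih z hz)
  have hnorm : ∀ n : ℕ, ∑ z : Z, (z : H) • c ^ n • v = 0 := by
    intro n
    let f : Z → Z := fun z => ⟨c ^ n • (z : H), hZn n z z.2⟩
    have hf : Function.Bijective f := Finite.injective_iff_bijective.mp fun a b e =>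
      Subtype.ext (MulAction.injective (c ^ n) (congrArg Subtype.val e))
    rw [← Fintype.sum_equiv (Equiv.ofBijective f hf) (fun z : Z => c ^ n • (z : H) • v)
      (fun z : Z => (z : H) • c ^ n • v) (fun z => hcompat (c ^ n) (z : H) v), ← Finset.smul_sum, hv, smul_zero]
  let P := fun z : Z => (z : H)⁻¹ • ∑ j ∈ Finset.range p, c ^ j • (z : H) • v
  have hx : ∀ z : Z, x • P z = P z := fun z => by
    show x • (z : H)⁻¹ • _ = _
    rw [smul_smul, hxZ _ (inv_mem z.2), mul_smul, hfix _ (sum_pow_fixed hc _)]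
  have hsum : ∑ z : Z, P z = Nat.card Z • v := by
    simp only [P, Finset.smul_sum]
    rw [Finset.sum_comm, ← Finset.add_sum_erase _ _ (Finset.mem_range.mpr hp.pos)]
    have h0 : ∑ z : Z, (z : H)⁻¹ • c ^ 0 • (z : H) • v = Nat.card Z • v := by
      simp [inv_smul_smul, Nat.card_eq_fintype_card]
    rw [h0, add_eq_left]
    refine Finset.sum_eq_zero fun j hj => ?_
    obtain ⟨hj0, hj⟩ := Finset.mem_erase.mp hj
    have hjp : ¬ p ∣ j := fun h => hj0 (Nat.eq_zero_of_dvd_of_lt h (Finset.mem_range.mp hj))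
    let g : Z → Z := fun z => ⟨(z : H)⁻¹ * c ^ j • (z : H), mul_mem (inv_mem z.2) (hZn j z z.2)⟩
    have hg : Function.Bijective g := Finite.injective_iff_bijective.mp fun a b e => by
      have e' : (a : H)⁻¹ * c ^ j • (a : H) = (b : H)⁻¹ * c ^ j • (b : H) := congrArg Subtype.val e
      have h1 : c ^ j • ((b : H) * (a : H)⁻¹) = (b : H) * (a : H)⁻¹ := by
        rw [smul_mul', smul_inv']
        rw [inv_mul_eq_iff_eq_mul] at e'
        rw [e']
        group
      obtain ⟨m, hm⟩ := exists_pow_pow_eq hp hc hjp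
      have h2 : c • ((b : H) * (a : H)⁻¹) = (b : H) * (a : H)⁻¹ := by
        conv_lhs => rw [← hm]
        exact smul_fix_pow h1 m
      exact Subtype.ext (mul_inv_eq_one.mp (hZc _ (mul_mem b.2 (inv_mem a.2)) h2)).symm
    have h1 : ∀ z : Z, (z : H)⁻¹ • c ^ j • (z : H) • v = ((g z : Z) : H) • c ^ j • v := fun z => by
      rw [hcompat, smul_smul]
    rw [Fintype.sum_equiv (Equiv.ofBijective g hg) (fun z : Z => (z : H)⁻¹ • c ^ j • (z : H) • v)
      (fun z : Z => (z : H) • c ^ j • v) h1]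
    exact hnorm j
  have h : Nat.card Z • (x • v - v) = 0 := by
    have h3 : x • ∑ z : Z, P z = ∑ z : Z, P z := by rw [Finset.smul_sum]; exact Finset.sum_congr rfl fun z _ => hx z
    rw [hsum] at h3
    rw [nsmul_sub, ← h3, sub_eq_zero]
    exact (map_nsmul (DistribSMul.toAddMonoidHom V x) _ v).symm
  exact sub_eq_zero.mp (hcop _ h)

theorem eq_zero_of_fixed (Z : Subgroup H) [Fintype Z] {w : V} (hcop : ∀ v : V, Nat.card Z • v = 0 → v = 0)
    (hw : ∑ z : Z, (z : H) • w = 0) (hfix : ∀ z ∈ Z, z • w = w) : w = 0 := by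
  refine hcop w ?_
  rw [Finset.sum_congr rfl fun z _ => hfix _ z.2, Finset.sum_const, Finset.card_univ] at hw
  rwa [Nat.card_eq_fintype_card]

theorem sum_smul_sub (Z : Subgroup H) [Fintype Z] {z₀ : H} (hz : z₀ ∈ Z) (v : V) :
    ∑ z : Z, (z : H) • (z₀ • v - v) = 0 := by
  simp only [smul_sub, smul_smul, Finset.sum_sub_distrib]
  rw [sub_eq_zero]
  exact Fintype.sum_equiv (Equiv.mulRight (⟨z₀, hz⟩ : Z)) _ (fun z : Z => (z : H) • v) fun z => rfl

theorem norm_commute (Z : Subgroup H) [Fintype Z] {x : H} (h : ∀ z ∈ Z, x * z = z * x) {v : V}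
    (hv : ∑ z : Z, (z : H) • v = 0) : ∑ z : Z, (z : H) • x • v = 0 := by
  have h1 : ∀ z : Z, (z : H) • x • v = x • (z : H) • v := fun z => by rw [smul_smul, ← h _ z.2, mul_smul]
  simp only [h1, ← Finset.smul_sum, hv, smul_zero]

end Averaging

/-- The data: a group `A` of type `(p, p)` without fixed points, `T` fixed by `a` and normalizing the
`r`-group `R`. -/
structure Setup (A H V : Type u) [CommGroup A] [Group H] [AddCommGroup V] [MulDistribMulAction A H]
    [DistribMulAction A V] [DistribMulAction H V] (p r : ℕ) (a : A) (R T : Subgroup H) : Prop where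
  hp : p.Prime
  hr : r.Prime
  cardA : Nat.card A = p ^ 2
  expA : ∀ c : A, c ^ p = 1
  ha : a ≠ 1
  hpH : ¬ p ∣ Nat.card H
  compat : ∀ (c : A) (h : H) (v : V), c • h • v = (c • h) • c • v
  fpfH : ∀ h : H, (∀ c : A, c • h = h) → h = 1
  fpfV : ∀ v : V, (∀ c : A, c • v = v) → v = 0
  faithful : ∀ h : H, (∀ v : V, h • v = v) → h = 1
  hrV : ∀ v : V, r • v = 0 → v = 0
  pR : IsPGroup r R
  invR : IsInv A R
  invT : IsInv A T
  norm : ∀ t ∈ T, ∀ x ∈ R, t * x * t⁻¹ ∈ R
  cop : (Nat.card R).Coprime (Nat.card T)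
  hnil : ∀ c : A, c ≠ 1 → ∀ x ∈ R, c • x = x → ∀ v : V, c • v = v → x • v = v
  hTa : ∀ t ∈ T, a • t = t
  hCa : ∀ x ∈ R, a • x = x → ∀ t ∈ T, t * x = x * t
  hmin : ∀ R' : Subgroup H, R' ≤ R → R' ≠ R → IsInv A R' → (∀ t ∈ T, ∀ x ∈ R', t * x * t⁻¹ ∈ R') →
    ∀ t ∈ T, ∀ x ∈ R', t * x = x * t

namespace Setup

variable {A H V : Type u} [CommGroup A] [Finite A] [Group H] [Finite H] [AddCommGroup V] [MulDistribMulAction A H]
    [DistribMulAction A V] [DistribMulAction H V] {p r : ℕ} {a : A} {R T : Subgroup H}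

theorem cardR_smul (S : Setup A H V p r a R T) {Z : Subgroup H} (hZ : Z ≤ R) {v : V}
    (hv : Nat.card Z • v = 0) : v = 0 := by
  haveI := Fact.mk S.hr
  obtain ⟨k, hk⟩ := IsPGroup.iff_card.mp (S.pR.to_le hZ)
  rw [hk] at hv
  clear hk
  induction k generalizing v with
  | zero => rwa [pow_zero, one_nsmul] at hv
  | succ k ih => rw [pow_succ', mul_nsmul'] at hv; exact ih (S.hrV _ hv)

theorem fixed_inv (S : Setup A H V p r a R T) (b : A) {x : H} (h : b • x = x) (c : A) : b • c • x = c • x := by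
  rw [smul_smul, mul_comm, mul_smul, h]

theorem eq_one_of_fixed (S : Setup A H V p r a R T) {b c : A} (hb : b ≠ 1) (hc : c ∉ Subgroup.zpowers b) {x : H}
    (h1 : b • x = x) (h2 : c • x = x) : x = 1 :=
  S.fpfH x (fixed_of_span S.hp S.cardA S.expA hb hc h1 h2)

theorem generate_le (S : Setup A H V p r a R T) {R' : Subgroup H} (hle : R' ≤ R) (hinv : IsInv A R')
    (D : Subgroup H) (hD : ∀ c : A, c ≠ 1 → ∀ x ∈ R', c • x = x → x ∈ D) : R' ≤ D := by
  haveI := Fact.mk S.hr
  obtain ⟨b, hb⟩ := exists_not_mem_zpowers S.hp S.cardA S.expA a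
  exact generate_sub S.hp S.hpH (S.expA a) (S.expA b) S.ha hb R' (S.pR.to_le hle).isNilpotent hinv D hD

theorem exists_fixed_ne_one (S : Setup A H V p r a R T) {R' : Subgroup H} (hle : R' ≤ R) (hinv : IsInv A R')
    (hne : R' ≠ ⊥) : ∃ c : A, c ≠ 1 ∧ ∃ z ∈ R', c • z = z ∧ z ≠ 1 := by
  by_contra h
  push Not at h
  exact hne (le_bot_iff.mp (S.generate_le hle hinv ⊥ fun c hc x hx hcx => Subgroup.mem_bot.mpr (h c hc x hx hcx)))

/-- The subgroup `[R, T]`. -/
def comm (R T : Subgroup H) : Subgroup H :=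
  Subgroup.closure {g | ∃ x ∈ R, ∃ t ∈ T, g = x⁻¹ * (t * x * t⁻¹)}

theorem comm_eq (S : Setup A H V p r a R T) (hnc : ∃ t ∈ T, ∃ x ∈ R, t * x ≠ x * t) : comm R T = R := by
  classical
  by_contra hne
  obtain ⟨t, ht, x, hx, htx⟩ := hnc
  have hle : comm R T ≤ R := (Subgroup.closure_le _).mpr (by
    rintro g ⟨x, hx, t, ht, rfl⟩
    exact R.mul_mem (R.inv_mem hx) (S.norm t ht x hx))
  have hinv : IsInv A (comm R T) := fun c g hg => by
    induction hg using Subgroup.closure_induction with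
    | mem g hg =>
      obtain ⟨x, hx, t, ht, rfl⟩ := hg
      exact Subgroup.subset_closure ⟨c • x, S.invR c x hx, c • t, S.invT c t ht, by simp only [smul_mul', smul_inv']⟩
    | one => rw [smul_one]; exact one_mem _
    | mul g g' _ _ h h' => rw [smul_mul']; exact mul_mem h h'
    | inv g _ h => rw [smul_inv']; exact inv_mem h
  have hnT : ∀ s ∈ T, ∀ g ∈ comm R T, s * g * s⁻¹ ∈ comm R T := fun s hs g hg => by
    induction hg using Subgroup.closure_induction with
    | mem g hg =>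
      obtain ⟨x, hx, t, ht, rfl⟩ := hg
      exact Subgroup.subset_closure ⟨s * x * s⁻¹, S.norm s hs x hx, s * t * s⁻¹, T.mul_mem (T.mul_mem hs ht) (T.inv_mem hs), by group⟩
    | one => simp
    | mul g g' _ _ h h' =>
      have := mul_mem h h'
      simpa [mul_assoc] using this
    | inv g _ h =>
      have := inv_mem h
      simpa [mul_assoc] using this
  have hcen := S.hmin _ hle hne hinv hnT
  have hg : x⁻¹ * (t * x * t⁻¹) ∈ comm R T := Subgroup.subset_closure ⟨x, hx, t, ht, rfl⟩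
  set g := x⁻¹ * (t * x * t⁻¹) with hgdef
  have hpow : ∀ n : ℕ, t ^ n * x * (t ^ n)⁻¹ = x * g ^ n := by
    intro n
    induction n with
    | zero => simp
    | succ n ih =>
      have e : t * g ^ n * t⁻¹ = g ^ n := by rw [hcen t ht _ (pow_mem hg n), mul_inv_cancel_right]
      calc t ^ (n + 1) * x * (t ^ (n + 1))⁻¹ = t * (t ^ n * x * (t ^ n)⁻¹) * t⁻¹ := by rw [pow_succ']; group
        _ = (t * x * t⁻¹) * (t * g ^ n * t⁻¹) := by rw [ih]; group
        _ = x * g * g ^ n := by rw [e, hgdef]; group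
        _ = x * g ^ (n + 1) := by rw [pow_succ', mul_assoc]
  have h1 := hpow (orderOf t)
  rw [pow_orderOf_eq_one, inv_one, one_mul, mul_one] at h1
  have hg1 : g = 1 := orderOf_eq_one_iff.mp (Nat.eq_one_of_dvd_coprimes S.cop
    (R.orderOf_dvd_natCard (hle hg))
    ((orderOf_dvd_of_pow_eq_one (mul_eq_left.mp h1.symm)).trans (T.orderOf_dvd_natCard ht)))
  rw [hgdef, inv_mul_eq_one, eq_mul_inv_iff_mul_eq] at hg1
  exact htx hg1.symm

theorem derived_central (S : Setup A H V p r a R T) (hnc : ∃ t ∈ T, ∃ x ∈ R, t * x ≠ x * t) :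
    ⁅R, R⁆ ≠ R ∧ (∀ t ∈ T, ∀ z ∈ ⁅R, R⁆, t * z = z * t) ∧ ∀ x ∈ R, ∀ z ∈ ⁅R, R⁆, x * z = z * x := by
  classical
  haveI := Fact.mk S.hr
  have hle : ⁅R, R⁆ ≤ R := Subgroup.commutator_le.mpr fun x hx y hy => by
    rw [commutatorElement_def]
    exact R.mul_mem (R.mul_mem (R.mul_mem hx hy) (R.inv_mem hx)) (R.inv_mem hy)
  have hne : ⁅R, R⁆ ≠ R := by
    intro e
    haveI : Group.IsNilpotent R := S.pR.isNilpotent
    haveI : Nontrivial R := by
      obtain ⟨t, ht, x, hx, htx⟩ := hnc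
      refine (Subgroup.nontrivial_iff_ne_bot R).mpr fun e' => htx ?_
      rw [e', Subgroup.mem_bot] at hx
      rw [hx, one_mul, mul_one]
    have h := (inferInstance : Group.IsSolvable R)
    have h1 := Group.IsSolvable.commutator_lt_top_of_nontrivial (G := R)
    have h2 : (commutator R).map R.subtype = ⁅R, R⁆ := Subgroup.map_subtype_commutator R
    rw [e] at h2
    exact h1.ne (Subgroup.map_injective R.subtype_injective (by rw [h2, ← MonoidHom.range_eq_map, Subgroup.range_subtype]))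
  have hinv : IsInv A ⁅R, R⁆ := fun c z hz => by
    have h : Subgroup.map (MulDistribMulAction.toMonoidHom H c) ⁅R, R⁆ ≤ ⁅R, R⁆ := by
      rw [Subgroup.map_commutator]
      exact Subgroup.commutator_mono (by rintro _ ⟨y, hy, rfl⟩; exact S.invR c y hy)
        (by rintro _ ⟨y, hy, rfl⟩; exact S.invR c y hy)
    exact h ⟨z, hz, rfl⟩
  have hnT : ∀ t ∈ T, ∀ z ∈ ⁅R, R⁆, t * z * t⁻¹ ∈ ⁅R, R⁆ := fun t ht z hz => by
    have h : Subgroup.map (MulAut.conj t).toMonoidHom ⁅R, R⁆ ≤ ⁅R, R⁆ := by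
      rw [Subgroup.map_commutator]
      exact Subgroup.commutator_mono (by rintro _ ⟨y, hy, rfl⟩; exact S.norm t ht y hy)
        (by rintro _ ⟨y, hy, rfl⟩; exact S.norm t ht y hy)
    exact h ⟨z, hz, rfl⟩
  have hT := S.hmin _ hle hne hinv hnT
  refine ⟨hne, hT, fun x hx z hz => ?_⟩
  have hsub : comm R T ≤ Subgroup.centralizer {z} := (Subgroup.closure_le _).mpr (by
    rintro g ⟨y, hy, t, ht, rfl⟩
    rw [SetLike.mem_coe, Subgroup.mem_centralizer_singleton_iff]
    set e := z * y * z⁻¹ * y⁻¹ with he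
    have hemem : e ∈ ⁅R, R⁆ := Subgroup.commutator_mem_commutator (hle hz) hy
    have hzy : z * y * z⁻¹ = e * y := by rw [he]; group
    have hte : t * e * t⁻¹ = e := by rw [hT t ht e hemem, mul_inv_cancel_right]
    have htz : t * z = z * t := hT t ht z hz
    have hzy' : z * (t * y * t⁻¹) * z⁻¹ = e * (t * y * t⁻¹) := by
      have htzi : z * t = t * z := htz.symm
      calc z * (t * y * t⁻¹) * z⁻¹ = (z * t) * y * (z * t)⁻¹ := by group
        _ = t * (z * y * z⁻¹) * t⁻¹ := by rw [htzi]; group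
        _ = (t * e * t⁻¹) * (t * y * t⁻¹) := by rw [hzy]; group
        _ = e * (t * y * t⁻¹) := by rw [hte]
    have hconj : z * (y⁻¹ * (t * y * t⁻¹)) * z⁻¹ = y⁻¹ * (t * y * t⁻¹) := by
      calc z * (y⁻¹ * (t * y * t⁻¹)) * z⁻¹ = (z * y * z⁻¹)⁻¹ * (z * (t * y * t⁻¹) * z⁻¹) := by group
        _ = y⁻¹ * (t * y * t⁻¹) := by rw [hzy, hzy']; group
    exact (mul_inv_eq_iff_eq_mul.mp hconj).symm)
  rw [S.comm_eq hnc] at hsub
  exact Subgroup.mem_centralizer_singleton_iff.mp (hsub hx)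

theorem fixed_mem_derived (S : Setup A H V p r a R T) (hnc : ∃ t ∈ T, ∃ x ∈ R, t * x ≠ x * t) {x : H}
    (hx : x ∈ R) (hfix : ∀ t ∈ T, t * x = x * t) : x ∈ ⁅R, R⁆ := by
  classical
  haveI : Fintype T := Fintype.ofFinite T
  let cj : T → R →* R := fun t =>
    { toFun := fun y => ⟨(t : H) * y * (t : H)⁻¹, S.norm t t.2 y y.2⟩
      map_one' := Subtype.ext (by simp)
      map_mul' := fun u v => Subtype.ext (by simp [mul_assoc]) }
  let ν : R →* Abelianization R :=
    { toFun := fun y => ∏ t : T, Abelianization.of (cj t y)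
      map_one' := by simp
      map_mul' := fun u v => by simp [Finset.prod_mul_distrib] }
  have hgen : (comm R T).subgroupOf R ≤ ν.ker := by
    intro y hy
    have h : (comm R T) ≤ ν.ker.map R.subtype := (Subgroup.closure_le _).mpr (by
      rintro g ⟨u, hu, t, ht, rfl⟩
      refine ⟨(⟨u, hu⟩ : R)⁻¹ * cj ⟨t, ht⟩ ⟨u, hu⟩, ?_, rfl⟩
      rw [SetLike.mem_coe, MonoidHom.mem_ker, map_mul, map_inv, inv_mul_eq_one]
      show ∏ s : T, Abelianization.of (cj s ⟨u, hu⟩) = ∏ s : T, Abelianization.of (cj s (cj ⟨t, ht⟩ ⟨u, hu⟩))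
      have h2 : ∀ s : T, cj s (cj ⟨t, ht⟩ ⟨u, hu⟩) = cj (s * ⟨t, ht⟩) ⟨u, hu⟩ := fun s => Subtype.ext (by simp [cj, mul_assoc])
      simp only [h2]
      exact (Fintype.prod_equiv (Equiv.mulRight (⟨t, ht⟩ : T)) _ (fun s : T => Abelianization.of (cj s ⟨u, hu⟩)) fun s => rfl).symm)
    obtain ⟨y', hy', e⟩ := h (Subgroup.mem_subgroupOf.mp hy)
    rwa [show y = y' from Subtype.ext e.symm]
  have h0 : (⟨x, hx⟩ : R) ∈ ν.ker := hgen (Subgroup.mem_subgroupOf.mpr ((S.comm_eq hnc).symm ▸ hx))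
  have h1 : ν ⟨x, hx⟩ = Abelianization.of (⟨x, hx⟩ : R) ^ Nat.card T := by
    show ∏ t : T, Abelianization.of (cj t ⟨x, hx⟩) = _
    rw [Finset.prod_congr rfl fun t _ => show Abelianization.of (cj t ⟨x, hx⟩) = Abelianization.of (⟨x, hx⟩ : R) from
      congrArg _ (Subtype.ext (by show (t : H) * x * (t : H)⁻¹ = x; rw [hfix t t.2, mul_inv_cancel_right])),
      Finset.prod_const, Finset.card_univ, Nat.card_eq_fintype_card]
  rw [MonoidHom.mem_ker, h1] at h0
  have h2 : Abelianization.of (⟨x, hx⟩ : R) = 1 := orderOf_eq_one_iff.mp (Nat.eq_one_of_dvd_coprimes S.cop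
    ((orderOf_map_dvd _ _).trans (orderOf_dvd_natCard _)) (orderOf_dvd_of_pow_eq_one h0))
  have h3 : (⟨x, hx⟩ : R) ∈ commutator R := by rw [← Abelianization.ker_of R, MonoidHom.mem_ker, h2]
  exact (Subgroup.map_subtype_commutator R).le ⟨_, h3, rfl⟩

theorem fixed_bijective (S : Setup A H V p r a R T) {b : A} (hb : a ∉ Subgroup.zpowers b) (hb1 : b ≠ 1) :
    ∀ u ∈ T, ∃ t ∈ T, t⁻¹ * b • t = u := by
  intro u hu
  let g : T → T := fun t => ⟨(t : H)⁻¹ * b • (t : H), T.mul_mem (T.inv_mem t.2) (S.invT b t t.2)⟩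
  have hg : Function.Injective g := fun t s e => by
    have e' : (t : H)⁻¹ * b • (t : H) = (s : H)⁻¹ * b • (s : H) := congrArg Subtype.val e
    have h1 : b • ((s : H) * (t : H)⁻¹) = (s : H) * (t : H)⁻¹ := by
      rw [smul_mul', smul_inv']
      rw [inv_mul_eq_iff_eq_mul] at e'
      rw [e']
      group
    exact Subtype.ext (mul_inv_eq_one.mp (S.eq_one_of_fixed hb1 hb h1 (S.hTa _ (T.mul_mem s.2 (T.inv_mem t.2))))).symm
  obtain ⟨t, ht⟩ := (Finite.injective_iff_surjective.mp hg) ⟨u, hu⟩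
  exact ⟨t, t.2, congrArg Subtype.val ht⟩

theorem fixed_bijective' (S : Setup A H V p r a R T) {b : A} (hb : a ∉ Subgroup.zpowers b) (hb1 : b ≠ 1) :
    ∀ u ∈ T, ∃ t ∈ T, b • t * t⁻¹ = u := by
  intro u hu
  obtain ⟨t, ht, e⟩ := S.fixed_bijective hb hb1 u⁻¹ (T.inv_mem hu)
  refine ⟨t⁻¹, T.inv_mem ht, ?_⟩
  rw [inv_inv, smul_inv', ← inv_inj, ← e, mul_inv_rev, inv_inv]

theorem case_nonabelian (S : Setup A H V p r a R T) (hnc : ∃ t ∈ T, ∃ x ∈ R, t * x ≠ x * t)
    (hne : ⁅R, R⁆ ≠ ⊥) : False := by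
  classical
  obtain ⟨-, hzT, hzR⟩ := S.derived_central hnc
  have hle : ⁅R, R⁆ ≤ R := Subgroup.commutator_le.mpr fun x hx y hy => by
    rw [commutatorElement_def]
    exact R.mul_mem (R.mul_mem (R.mul_mem hx hy) (R.inv_mem hx)) (R.inv_mem hy)
  have hinv : IsInv A ⁅R, R⁆ := fun c z hz => by
    have h : Subgroup.map (MulDistribMulAction.toMonoidHom H c) ⁅R, R⁆ ≤ ⁅R, R⁆ := by
      rw [Subgroup.map_commutator]
      exact Subgroup.commutator_mono (by rintro _ ⟨y, hy, rfl⟩; exact S.invR c y hy)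
        (by rintro _ ⟨y, hy, rfl⟩; exact S.invR c y hy)
    exact h ⟨z, hz, rfl⟩
  obtain ⟨b, hb1, z₀, hz₀R, hz₀b, hz₀1⟩ := S.exists_fixed_ne_one hle hinv hne
  let Z : Subgroup H :=
    { carrier := {z | z ∈ ⁅R, R⁆ ∧ b • z = z}
      one_mem' := ⟨one_mem _, smul_one b⟩
      mul_mem' := fun h h' => ⟨mul_mem h.1 h'.1, by rw [smul_mul', h.2, h'.2]⟩
      inv_mem' := fun h => ⟨inv_mem h.1, by rw [smul_inv', h.2]⟩ }
  haveI : Fintype Z := Fintype.ofFinite Z
  have hcop : ∀ v : V, Nat.card Z • v = 0 → v = 0 := fun v hv =>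
    S.cardR_smul (Z := Z) (fun z hz => hle hz.1) hv
  let W : V → Prop := fun v => ∑ z : Z, (z : H) • v = 0
  have hWinv : ∀ x : H, (∀ z ∈ Z, x * z = z * x) → ∀ v, W v → W (x • v) := fun x hx v hv => norm_commute Z hx hv
  -- the kernel on the module
  let N : Subgroup H :=
    { carrier := {x | x ∈ R ∧ ∀ v, W v → x • v = v}
      one_mem' := ⟨one_mem _, fun v _ => one_smul H v⟩
      mul_mem' := fun h h' => ⟨mul_mem h.1 h'.1, fun v hv => by rw [mul_smul, h'.2 v hv, h.2 v hv]⟩
      inv_mem' := fun h => ⟨inv_mem h.1, fun v hv => by conv_lhs => rw [← h.2 v hv, inv_smul_smul]⟩ }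
  have hNconj : ∀ g : H, (∀ z ∈ Z, g * z = z * g) → (∀ x ∈ R, g * x * g⁻¹ ∈ R) → ∀ x ∈ N, g * x * g⁻¹ ∈ N := by
    intro g hg hgR x hx
    refine ⟨hgR x hx.1, fun v hv => ?_⟩
    have hgi : ∀ z ∈ Z, g⁻¹ * z = z * g⁻¹ := fun z hz => (show Commute g z from hg z hz).inv_left.eq
    rw [mul_smul, mul_smul, hx.2 _ (hWinv _ hgi v hv), smul_inv_smul]
  have hcR : ∀ y ∈ R, ∀ x ∈ N, y * x * y⁻¹ ∈ N := fun y hy => hNconj y (fun z hz => hzR y hy z hz.1)
    fun x hx => R.mul_mem (R.mul_mem hy hx) (R.inv_mem hy)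
  have hcT : ∀ t ∈ T, ∀ x ∈ N, t * x * t⁻¹ ∈ N := fun t ht => hNconj t (fun z hz => hzT t ht z hz.1) (S.norm t ht)
  have hZinv : ∀ (c : A), ∀ z ∈ Z, c • z ∈ Z := fun c z hz => ⟨hinv c z hz.1, S.fixed_inv b hz.2 c⟩
  have hNfix : ∀ c : A, c ∉ Subgroup.zpowers b → ∀ x ∈ R, c • x = x → x ∈ N := fun c hc x hx hcx =>
    ⟨hx, fun v hv => key S.compat S.hp (S.expA c) Z (hZinv c) (fun z hz hcz => S.eq_one_of_fixed hb1 hc hz.2 hcz) hcop
      (fun z hz => hzR x hx z hz.1) (S.hnil c (fun e => hc (e ▸ one_mem _)) x hx hcx) hv⟩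
  have hRN : ⁅R, R⁆ ≤ N := by
    by_cases hab : a ∈ Subgroup.zpowers b
    · let D : Subgroup H :=
        { carrier := {x | ∃ n ∈ N, ∃ z ∈ ⁅R, R⁆, x = n * z}
          one_mem' := ⟨1, one_mem _, 1, one_mem _, (one_mul _).symm⟩
          mul_mem' := by
            rintro _ _ ⟨n, hn, z, hz, rfl⟩ ⟨n', hn', z', hz', rfl⟩
            refine ⟨n * n', mul_mem hn hn', z * z', mul_mem hz hz', ?_⟩
            have e := hzR n' hn'.1 z hz
            calc n * z * (n' * z') = n * (z * n') * z' := by group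
              _ = n * n' * (z * z') := by rw [← e]; group
          inv_mem' := by
            rintro _ ⟨n, hn, z, hz, rfl⟩
            refine ⟨n⁻¹, inv_mem hn, z⁻¹, inv_mem hz, ?_⟩
            rw [mul_inv_rev, hzR n⁻¹ (inv_mem hn.1) z⁻¹ (inv_mem hz)] }
      have hRD : R ≤ D := S.generate_le le_rfl S.invR D fun c hc x hx hcx => by
        by_cases hcb : c ∈ Subgroup.zpowers b
        · have hbc := mem_zpowers_symm S.hp S.expA hc hcb
          have hac : a ∈ Subgroup.zpowers c := Subgroup.zpowers_le.mpr hbc hab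
          have hax : a • x = x := (Subgroup.zpowers_le.mpr (show c ∈ MulAction.stabilizer A x from hcx)) hac
          exact ⟨1, one_mem _, x, S.fixed_mem_derived hnc hx (S.hCa x hx hax), (one_mul x).symm⟩
        · exact ⟨x, hNfix c hcb x hx hcx, 1, one_mem _, (mul_one x).symm⟩
      refine Subgroup.commutator_le.mpr fun x hx y hy => ?_
      obtain ⟨n, hn, z, hz, rfl⟩ := hRD hx
      obtain ⟨n', hn', z', hz', rfl⟩ := hRD hy
      have e : ⁅n * z, n' * z'⁆ = ⁅n, n'⁆ := by
        have c1 : ∀ y ∈ R, y * z = z * y := fun y hy => hzR y hy z hz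
        have c2 : ∀ y ∈ R, y * z' = z' * y := fun y hy => hzR y hy z' hz'
        simp only [commutatorElement_def, mul_inv_rev]
        calc n * z * (n' * z') * (z⁻¹ * n⁻¹) * (z'⁻¹ * n'⁻¹)
            = n * (z * (n' * z')) * z⁻¹ * n⁻¹ * z'⁻¹ * n'⁻¹ := by group
          _ = n * n' * (z' * n⁻¹) * z'⁻¹ * n'⁻¹ := by rw [← c1 _ (R.mul_mem hn'.1 (hle hz'))]; group
          _ = n * n' * n⁻¹ * n'⁻¹ := by rw [← c2 _ (R.inv_mem hn.1)]; group
      rw [e, commutatorElement_def]
      exact mul_mem (mul_mem (mul_mem hn hn') (inv_mem hn)) (inv_mem hn')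
    · -- `b` fixes `R / N`, so `T` centralizes it
      let D : Subgroup H :=
        { carrier := {x | x ∈ R ∧ x⁻¹ * b • x ∈ N}
          one_mem' := ⟨one_mem _, by simp⟩
          mul_mem' := fun {x y} hx hy => ⟨mul_mem hx.1 hy.1, by
            have h1 := hcR y⁻¹ (inv_mem hy.1) _ hx.2
            have := mul_mem h1 hy.2
            rw [smul_mul', mul_inv_rev]
            simpa [mul_assoc] using this⟩
          inv_mem' := fun {x} hx => ⟨inv_mem hx.1, by
            have := hcR x hx.1 _ (inv_mem hx.2)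
            rw [smul_inv', inv_inv]
            simpa [mul_assoc] using this⟩ }
      have hRD : R ≤ D := S.generate_le le_rfl S.invR D fun c hc x hx hcx => by
        refine ⟨hx, ?_⟩
        by_cases hcb : c ∈ Subgroup.zpowers b
        · have hbc := mem_zpowers_symm S.hp S.expA hc hcb
          have hbx : b • x = x := (Subgroup.zpowers_le.mpr (show c ∈ MulAction.stabilizer A x from hcx)) hbc
          rw [hbx, inv_mul_cancel]; exact one_mem _
        · exact mul_mem (inv_mem (hNfix c hcb x hx hcx))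
            (hNfix c hcb _ (S.invR b x hx) (S.fixed_inv c hcx b))
      refine hle.trans ?_
      rw [← S.comm_eq hnc]
      refine (Subgroup.closure_le _).mpr ?_
      rintro g ⟨y, hy, u, hu, rfl⟩
      obtain ⟨t, ht, rfl⟩ := S.fixed_bijective hab hb1 u hu
      -- `t * y * t⁻¹` and `y` are fixed modulo `N`
      have h1 : (t * y * t⁻¹)⁻¹ * b • (t * y * t⁻¹) ∈ N := (hRD (S.norm t ht y hy)).2
      have h2 : y⁻¹ * b • y ∈ N := (hRD hy).2
      have h3 := hcT t⁻¹ (inv_mem ht) _ h1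
      simp only [smul_mul', smul_inv'] at h3
      set w := t⁻¹ * b • t with hw
      have hwT : w ∈ T := T.mul_mem (T.inv_mem ht) (S.invT b t ht)
      have h4 : y⁻¹ * (w * b • y * w⁻¹) ∈ N := by
        have e : t⁻¹ * ((t * y * t⁻¹)⁻¹ * (b • t * b • y * (b • t)⁻¹)) * t⁻¹⁻¹ = y⁻¹ * (w * b • y * w⁻¹) := by
          rw [hw]; group
        rwa [e] at h3
      have h5 := mul_mem h4 (inv_mem (hcT w hwT _ h2))
      have e : y⁻¹ * (w * b • y * w⁻¹) * (w * (y⁻¹ * b • y) * w⁻¹)⁻¹ = y⁻¹ * (w * y * w⁻¹) := by group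
      rwa [e] at h5
  refine hz₀1 (S.faithful z₀ fun v => ?_)
  have hW : W (z₀ • v - v) := sum_smul_sub Z ⟨hz₀R, hz₀b⟩ v
  have h0 : z₀ • v - v = 0 :=
    eq_zero_of_fixed Z hcop hW fun z hz => (hRN hz.1).2 _ hW
  exact sub_eq_zero.mp h0

theorem case_abelian (S : Setup A H V p r a R T) (hnc : ∃ t ∈ T, ∃ x ∈ R, t * x ≠ x * t)
    (hab : ⁅R, R⁆ = ⊥) : False := by
  classical
  haveI := Fact.mk S.hr
  have hcomm : ∀ x ∈ R, ∀ y ∈ R, x * y = y * x := fun x hx y hy => by
    have h : ⁅x, y⁆ ∈ (⊥ : Subgroup H) := hab ▸ Subgroup.commutator_mem_commutator hx hy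
    rwa [Subgroup.mem_bot, commutatorElement_eq_one_iff_mul_comm] at h
  have hfixT : ∀ x ∈ R, (∀ t ∈ T, t * x = x * t) → x = 1 := fun x hx h => by
    have := S.fixed_mem_derived hnc hx h
    rwa [hab, Subgroup.mem_bot] at this
  have hfixa : ∀ x ∈ R, a • x = x → x = 1 := fun x hx h => hfixT x hx (S.hCa x hx h)
  -- exponent `r`
  have hexp : ∀ x ∈ R, x ^ r = 1 := by
    let Ω : Subgroup H :=
      { carrier := {x | x ∈ R ∧ x ^ r = 1}
        one_mem' := ⟨one_mem _, one_pow r⟩
        mul_mem' := fun {x y} hx hy => ⟨mul_mem hx.1 hy.1, by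
          rw [(show Commute x y from hcomm x hx.1 y hy.1).mul_pow, hx.2, hy.2, one_mul]⟩
        inv_mem' := fun {x} hx => ⟨inv_mem hx.1, by rw [inv_pow, hx.2, inv_one]⟩ }
    by_cases hΩ : Ω = R
    · exact fun x hx => (hΩ.ge hx : x ∈ Ω).2
    exfalso
    have hc := S.hmin Ω (fun x hx => hx.1) hΩ
      (fun c x hx => ⟨S.invR c x hx.1, by rw [← smul_pow', hx.2, smul_one]⟩)
      (fun t ht x hx => ⟨S.norm t ht x hx.1, by rw [conj_pow, hx.2, mul_one, mul_inv_cancel]⟩)
    obtain ⟨t, ht, x, hx, htx⟩ := hnc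
    have hR1 : x ≠ 1 := fun e => htx (by rw [e, mul_one, one_mul])
    obtain ⟨k, hk⟩ := IsPGroup.iff_orderOf.mp S.pR ⟨x, hx⟩
    rw [Subgroup.orderOf_mk] at hk
    rcases k with _ | k
    · rw [pow_zero, orderOf_eq_one_iff] at hk; exact hR1 hk
    have hy : x ^ r ^ k ∈ Ω := ⟨pow_mem hx _, by rw [← pow_mul, ← pow_succ, ← hk, pow_orderOf_eq_one]⟩
    have h1 := hfixT _ hy.1 fun s hs => hc s hs _ hy
    rw [← orderOf_dvd_iff_pow_eq_one, hk] at h1
    have := (Nat.pow_dvd_pow_iff_le_right S.hr.one_lt).mp h1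
    omega
  let M := Multiplicative (ZMod r)
  -- active functionals
  let Active : (R →* M) → Prop := fun f =>
    ∃ v : V, (∀ x : R, f x = 1 → (x : H) • v = v) ∧ ∃ x : R, (x : H) • v ≠ v
  have hgen : ∀ (f : R →* M) (x : R), f x ≠ 1 → ∀ y : R, ∃ n : ℕ, f ((x ^ n)⁻¹ * y) = 1 := fun f x hx y => by
    obtain ⟨n, hn⟩ : f y ∈ Submonoid.powers (f x) := mem_powers_of_prime_card (p := r) (by simp [M]) hx
    exact ⟨n, by rw [map_mul, map_inv, map_pow, show f x ^ n = f y from hn, inv_mul_cancel]⟩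
  let act : A → R →* R := fun c =>
    { toFun := fun x => ⟨c • (x : H), S.invR c x x.2⟩
      map_one' := Subtype.ext (smul_one c)
      map_mul' := fun x y => Subtype.ext (smul_mul' c (x : H) (y : H)) }
  have hb : ∀ f : R →* M, Active f → ∃ b : A, b ≠ 1 ∧ a ∉ Subgroup.zpowers b ∧ ∀ x : R, f (act b x) = f x := by
    rintro f ⟨v, hker, x₁, hx₁⟩
    have hex : ∃ c : A, c ≠ 1 ∧ ∃ x : R, c • (x : H) = x ∧ f x ≠ 1 := by
      by_contra h
      push Not at h
      have hle : R ≤ f.ker.map R.subtype := S.generate_le le_rfl S.invR _ fun c hc x hx hcx =>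
        ⟨⟨x, hx⟩, h c hc ⟨x, hx⟩ hcx, rfl⟩
      obtain ⟨y, hy, e⟩ := hle x₁.2
      exact hx₁ (hker x₁ (Subtype.ext e ▸ hy))
    obtain ⟨b, hb1, x₀, hx₀b, hx₀f⟩ := hex
    have hab' : a ∉ Subgroup.zpowers b := fun h => by
      have hax : a • (x₀ : H) = x₀ :=
        (Subgroup.zpowers_le.mpr (show b ∈ MulAction.stabilizer A (x₀ : H) from hx₀b)) h
      exact hx₀f (by rw [show x₀ = 1 from Subtype.ext (hfixa _ x₀.2 hax), map_one])
    let Z : Subgroup H :=
      { carrier := {z | z ∈ R ∧ b • z = z}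
        one_mem' := ⟨one_mem _, smul_one b⟩
        mul_mem' := fun h h' => ⟨mul_mem h.1 h'.1, by rw [smul_mul', h.2, h'.2]⟩
        inv_mem' := fun h => ⟨inv_mem h.1, by rw [smul_inv', h.2]⟩ }
    haveI : Fintype Z := Fintype.ofFinite Z
    have hcop : ∀ v : V, Nat.card Z • v = 0 → v = 0 := fun v hv =>
      S.cardR_smul (Z := Z) (fun z hz => hz.1) hv
    have hxv : (x₀ : H) • v ≠ v := fun h => hx₁ (by
      obtain ⟨n, hn⟩ := hgen f x₀ hx₀f x₁
      have e : (x₁ : H) = ((x₀ ^ n : R) : H) * (((x₀ ^ n)⁻¹ * x₁ : R) : H) := by simp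
      rw [e, mul_smul, hker _ hn, SubmonoidClass.coe_pow]
      exact smul_fix_pow h n)
    set u := (x₀ : H) • v - v
    have huW : ∑ z : Z, (z : H) • u = 0 := sum_smul_sub Z ⟨x₀.2, hx₀b⟩ v
    have hku : ∀ x : R, f x = 1 → (x : H) • u = u := fun x hx => by
      simp only [u, smul_sub, smul_smul]
      rw [hcomm _ x.2 _ x₀.2, mul_smul, hker x hx]
    have hkey : ∀ c : A, c ∉ Subgroup.zpowers b → ∀ x : R, c • (x : H) = x → f x = 1 := by
      intro c hc x hcx
      have hu : (x : H) • u = u := key S.compat S.hp (S.expA c) Z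
        (fun z hz => ⟨S.invR c z hz.1, S.fixed_inv b hz.2 c⟩)
        (fun z hz hcz => S.eq_one_of_fixed hb1 hc hz.2 hcz) hcop
        (fun z hz => hcomm _ x.2 z hz.1) (S.hnil c (fun e => hc (e ▸ one_mem _)) _ x.2 hcx) huW
      by_contra hfx
      have hall : ∀ y : R, (y : H) • u = u := fun y => by
        obtain ⟨n, hn⟩ := hgen f x hfx y
        have e : (y : H) = ((x ^ n : R) : H) * (((x ^ n)⁻¹ * y : R) : H) := by simp
        rw [e, mul_smul, hku _ hn, SubmonoidClass.coe_pow]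
        exact smul_fix_pow hu n
      exact hxv (sub_eq_zero.mp (eq_zero_of_fixed Z hcop huW fun z hz => hall ⟨z, hz.1⟩))
    refine ⟨b, hb1, hab', ?_⟩
    let D : Subgroup R :=
      { carrier := {x | f (act b x) = f x}
        one_mem' := by simp
        mul_mem' := fun {x y} hx hy => by
          simp only [Set.mem_ofPred_eq] at hx hy ⊢
          rw [map_mul, map_mul, map_mul, hx, hy]
        inv_mem' := fun {x} hx => by
          simp only [Set.mem_ofPred_eq] at hx ⊢
          rw [map_inv, map_inv, map_inv, hx] }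
    have hle : R ≤ D.map R.subtype := S.generate_le le_rfl S.invR _ fun c hc x hx hcx => by
      refine ⟨⟨x, hx⟩, ?_, rfl⟩
      show f (act b ⟨x, hx⟩) = f ⟨x, hx⟩
      by_cases hcb : c ∈ Subgroup.zpowers b
      · have hbx : b • x = x :=
          (Subgroup.zpowers_le.mpr (show c ∈ MulAction.stabilizer A x from hcx)) (mem_zpowers_symm S.hp S.expA hc hcb)
        exact congrArg f (Subtype.ext hbx)
      · rw [hkey c hcb ⟨x, hx⟩ hcx, hkey c hcb _ (S.fixed_inv c hcx b)]
    intro x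
    obtain ⟨y, hy, e⟩ := hle x.2
    rw [← show y = x from Subtype.ext e]
    exact hy
  have hfa : ∀ f : R →* M, Active f → ¬ ∀ x : R, f (act a x) = f x := by
    rintro f ⟨v, hker, x₁, hx₁⟩ h
    let g : R → R := fun x => act a x * x⁻¹
    have hg : Function.Injective g := fun x y e => by
      have e' : a • (x : H) * (x : H)⁻¹ = a • (y : H) * (y : H)⁻¹ := congrArg Subtype.val e
      have h1 : a • ((x : H) * (y : H)⁻¹) = (x : H) * (y : H)⁻¹ := by
        have hc := hcomm _ x.2 _ (R.inv_mem y.2)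
        rw [smul_mul', smul_inv']
        calc a • (x : H) * (a • (y : H))⁻¹ = (a • (x : H) * (x : H)⁻¹) * (x : H) * (a • (y : H))⁻¹ := by group
          _ = (a • (y : H) * (y : H)⁻¹) * (x : H) * (a • (y : H))⁻¹ := by rw [e']
          _ = a • (y : H) * ((y : H)⁻¹ * x) * (a • (y : H))⁻¹ := by group
          _ = (y : H)⁻¹ * x := by
            rw [hcomm _ (S.invR a _ y.2) _ (R.mul_mem (R.inv_mem y.2) x.2), mul_inv_cancel_right]
          _ = (x : H) * (y : H)⁻¹ := hc.symm
      exact Subtype.ext (mul_inv_eq_one.mp (hfixa _ (R.mul_mem x.2 (R.inv_mem y.2)) h1))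
    obtain ⟨y, hy⟩ := Finite.injective_iff_surjective.mp hg x₁
    exact hx₁ (hker x₁ (by rw [← hy, map_mul, map_inv, h, mul_inv_cancel]))
  let cj : (t : H) → t ∈ T → R →* R := fun t ht =>
    { toFun := fun x => ⟨t * x * t⁻¹, S.norm t ht x x.2⟩
      map_one' := Subtype.ext (by simp)
      map_mul' := fun x y => Subtype.ext (by simp [mul_assoc]) }
  have hTf : ∀ f : R →* M, Active f → ∀ (t : H) (ht : t ∈ T) (x : R), f (cj t ht x) = f x := by
    intro f hf
    obtain ⟨b, hb1, hab', hbf⟩ := hb f hf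
    have hbi : ∀ (k : ℕ) (x : R), f (act (b ^ k) x) = f x := by
      intro k
      induction k with
      | zero => intro x; exact congrArg f (Subtype.ext (by simp [act]))
      | succ k ih =>
        intro x
        rw [show act (b ^ (k + 1)) x = act (b ^ k) (act b x) from Subtype.ext (by simp [act, pow_succ, mul_smul]), ih, hbf]
    -- every translate of `f` is fixed by `b`
    have htr : ∀ (t : H) (ht : t ∈ T) (x : R), f (cj t ht (act b x)) = f (cj t ht x) := by
      intro t ht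
      have hact : Active (f.comp (cj t ht)) := by
        obtain ⟨v, hker, x, hx⟩ := hf
        refine ⟨t⁻¹ • v, fun y hy => ?_, ⟨t⁻¹ * x * t, by simpa using S.norm t⁻¹ (inv_mem ht) x x.2⟩, fun h => ?_⟩
        · have h1 := hker _ hy
          change (t * (y : H) * t⁻¹) • v = v at h1
          rw [mul_smul, mul_smul] at h1
          rw [← inv_smul_smul t ((y : H) • t⁻¹ • v), h1]
        · refine hx ?_
          change (t⁻¹ * (x : H) * t) • t⁻¹ • v = t⁻¹ • v at h
          rw [smul_smul, mul_inv_cancel_right, mul_smul] at h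
          exact MulAction.injective t⁻¹ h
      obtain ⟨b', hb'1, -, hb'f⟩ := hb _ hact
      have hb'k : ∀ (k : ℕ) (x : R), f (cj t ht (act (b' ^ k) x)) = f (cj t ht x) := by
        intro k
        induction k with
        | zero => intro x; exact congrArg f (Subtype.ext (by simp [act, cj]))
        | succ k ih =>
          intro x
          rw [show act (b' ^ (k + 1)) x = act (b' ^ k) (act b' x) from Subtype.ext (by simp [act, pow_succ, mul_smul]), ih]
          exact hb'f x
      by_cases hbb : b' ∈ Subgroup.zpowers b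
      · obtain ⟨k, rfl⟩ := mem_powers_iff_mem_zpowers.mpr (mem_zpowers_symm S.hp S.expA hb'1 hbb)
        exact hb'k k
      exfalso
      -- write `a` with `b` and `b'`
      obtain ⟨i, j, hij⟩ : ∃ i j : ℕ, a = b ^ i * b' ^ j := by
        have h : a ∈ Subgroup.zpowers b ⊔ Subgroup.zpowers b' := by
          rw [zpowers_sup_eq_top S.hp S.cardA S.expA hb1 hbb]; trivial
        rw [Subgroup.mem_sup] at h
        obtain ⟨u, hu, w, hw, e⟩ := h
        obtain ⟨i, rfl⟩ := mem_powers_iff_mem_zpowers.mpr hu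
        obtain ⟨j, rfl⟩ := mem_powers_iff_mem_zpowers.mpr hw
        exact ⟨i, j, e.symm⟩
      set t2 := b ^ i • t
      have ht2 : t2 ∈ T := S.invT _ t ht
      set σ := t2 * t⁻¹
      have hσ : σ ∈ T := T.mul_mem ht2 (T.inv_mem ht)
      -- `f` absorbs `a` twisted by `σ`
      have hσf : ∀ x : R, f (act a (cj σ hσ x)) = f x := by
        intro x
        set y : R := ⟨t⁻¹ * x * t, by simpa using S.norm t⁻¹ (inv_mem ht) x x.2⟩
        have hy : cj t ht y = x := Subtype.ext (by simp [cj, y, mul_assoc])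
        rw [← hy, ← hb'k j y, ← hbi i (cj t ht (act (b' ^ j) y))]
        refine congrArg f (Subtype.ext ?_)
        show a • (σ * (t * (y : H) * t⁻¹) * σ⁻¹) = b ^ i • (t * b' ^ j • (y : H) * t⁻¹)
        have e1 : σ * (t * (y : H) * t⁻¹) * σ⁻¹ = t2 * (y : H) * t2⁻¹ := by simp only [σ]; group
        have L : ∀ z : H, a • (t2 * z * t2⁻¹) = t2 * a • z * t2⁻¹ := fun z => by
          rw [smul_mul', smul_mul', smul_inv', S.hTa t2 ht2]
        have L' : ∀ z : H, b ^ i • (t * z * t⁻¹) = t2 * b ^ i • z * t2⁻¹ := fun z => by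
          rw [smul_mul', smul_mul', smul_inv']
        rw [e1, L, L', smul_smul, ← hij]
      have hiter : ∀ (n : ℕ) (x : R), f (act (a ^ n) (cj (σ ^ n) (pow_mem hσ n) x)) = f x := by
        intro n
        induction n with
        | zero => intro x; exact congrArg f (Subtype.ext (by simp [act, cj]))
        | succ n ih =>
          intro x
          conv_rhs => rw [← hσf x, ← ih (act a (cj σ hσ x))]
          refine congrArg f (Subtype.ext ?_)
          show a ^ (n + 1) • (σ ^ (n + 1) * (x : H) * (σ ^ (n + 1))⁻¹) =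
            a ^ n • (σ ^ n * a • (σ * (x : H) * σ⁻¹) * (σ ^ n)⁻¹)
          have e : σ ^ n * a • (σ * (x : H) * σ⁻¹) * (σ ^ n)⁻¹ = a • (σ ^ n * (σ * (x : H) * σ⁻¹) * (σ ^ n)⁻¹) := by
            rw [smul_mul' a (σ ^ n * (σ * (x : H) * σ⁻¹)), smul_mul' a (σ ^ n), smul_inv', S.hTa _ (pow_mem hσ n)]
          rw [e, smul_smul, ← pow_succ]
          congr 1
          rw [pow_succ σ n]
          group
      obtain ⟨m, hm⟩ := exists_pow_pow_eq S.hp (S.expA a) (j := Nat.card T)
        (fun h => S.hpH (h.trans T.card_subgroup_dvd_card))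
      have h1 : σ ^ Nat.card T = 1 := by
        have := congrArg Subtype.val (pow_card_eq_one' (x := (⟨σ, hσ⟩ : T)))
        rwa [SubmonoidClass.coe_pow] at this
      have h2 : ∀ (k : ℕ) (x : R), f (act ((a ^ Nat.card T) ^ k) x) = f x := by
        intro k
        induction k with
        | zero => intro x; exact congrArg f (Subtype.ext (by simp [act]))
        | succ k ih =>
          intro x
          rw [show act ((a ^ Nat.card T) ^ (k + 1)) x = act ((a ^ Nat.card T) ^ k) (act (a ^ Nat.card T) x) from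
            Subtype.ext (by simp [act, pow_succ, mul_smul]), ih]
          conv_rhs => rw [← hiter (Nat.card T) x]
          exact congrArg f (Subtype.ext (by simp [act, cj, h1]))
      exact hfa f hf fun x => by have := h2 m x; rwa [hm] at this
    intro s hs x
    obtain ⟨t, ht, hts⟩ := S.fixed_bijective' hab' hb1 s hs
    set y : R := ⟨t⁻¹ * x * t, by simpa using S.norm t⁻¹ (inv_mem ht) x x.2⟩
    have hy : cj t ht y = x := Subtype.ext (by simp [cj, y, mul_assoc])
    have e1 : f (cj (b • t) (S.invT b t ht) (act b y)) = f (cj t ht y) := by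
      rw [← hbf (cj t ht y)]
      exact congrArg f (Subtype.ext (by simp [act, cj, smul_mul', smul_inv']))
    have e2 := htr (b • t) (S.invT b t ht) y
    have e3 : cj s hs x = cj (b • t) (S.invT b t ht) y := Subtype.ext (by
      show s * (x : H) * s⁻¹ = b • t * (t⁻¹ * x * t) * (b • t)⁻¹
      rw [← hts]; group)
    rw [e3, ← e2, e1, hy]
  -- active functionals separate points
  obtain ⟨t, ht, x₀, hx₀, htx⟩ := hnc
  set x : R := (cj t ht ⟨x₀, hx₀⟩) * (⟨x₀, hx₀⟩ : R)⁻¹ with hxdef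
  have hx1 : x ≠ 1 := fun e => htx (by
    have h := congrArg Subtype.val (mul_inv_eq_one.mp e)
    exact mul_inv_eq_iff_eq_mul.mp h)
  let X := Subgroup.zpowers (x : H)
  haveI : Fintype X := Fintype.ofFinite X
  have hXR : X ≤ R := Subgroup.zpowers_le.mpr x.2
  have hcop : ∀ v : V, Nat.card X • v = 0 → v = 0 := fun v hv => S.cardR_smul hXR hv
  obtain ⟨v₀, hv₀⟩ : ∃ v : V, (x : H) • v ≠ v := by
    by_contra h
    push Not at h
    exact hx1 (Subtype.ext (S.faithful _ h))
  let C := {K : Subgroup H | K ≤ R ∧ ∃ w : V, w ≠ 0 ∧ ∑ z : X, (z : H) • w = 0 ∧ ∀ k ∈ K, k • w = w}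
  have hC : ⊥ ∈ C := ⟨bot_le, (x : H) • v₀ - v₀, sub_ne_zero.mpr hv₀,
    sum_smul_sub X (Subgroup.mem_zpowers _) v₀, fun k hk => by rw [Subgroup.mem_bot.mp hk, one_smul]⟩
  obtain ⟨K, hKmax⟩ := (Set.toFinite C).exists_maximal ⟨⊥, hC⟩
  obtain ⟨hKR, w, hw0, hwX, hwK⟩ := hKmax.prop
  have hxK : (x : H) ∉ K := fun h => hw0 (eq_zero_of_fixed X hcop hwX fun z hz =>
    hwK z (Subgroup.zpowers_le.mpr h hz))
  let U : AddSubgroup V :=
    { carrier := {u | ∑ z : X, (z : H) • u = 0 ∧ ∀ k ∈ K, k • u = u}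
      zero_mem' := ⟨by simp, fun k _ => smul_zero k⟩
      add_mem' := fun {u u'} hu hu' => ⟨by simp [smul_add, Finset.sum_add_distrib, hu.1, hu'.1],
        fun k hk => by rw [smul_add, hu.2 k hk, hu'.2 k hk]⟩
      neg_mem' := fun {u} hu => ⟨by simp [hu.1], fun k hk => by rw [smul_neg, hu.2 k hk]⟩ }
  have hUinv : ∀ y ∈ R, ∀ u ∈ U, y • u ∈ U := fun y hy u hu =>
    ⟨norm_commute X (fun z hz => hcomm y hy z (hXR hz)) hu.1, fun k hk => by
      rw [smul_smul, hcomm k (hKR hk) y hy, mul_smul, hu.2 k hk]⟩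
  have hUfix : ∀ y ∈ R, y ∉ K → ∀ u ∈ U, y • u = u → u = 0 := fun y hy hyK u hu hyu => by
    by_contra hu0
    have h : K ⊔ Subgroup.zpowers y ∈ C := ⟨sup_le hKR (Subgroup.zpowers_le.mpr hy), u, hu0, hu.1, fun k hk =>
      (sup_le (fun k hk => hu.2 k hk) (Subgroup.zpowers_le.mpr hyu) :
        K ⊔ Subgroup.zpowers y ≤ MulAction.stabilizer H u) hk⟩
    exact hyK (hKmax.le_of_ge h le_sup_left (Subgroup.mem_sup_right (Subgroup.mem_zpowers y)))
  have hcover : ∀ y : R, ∃ i : ℕ, (x : H) ^ i * y ∈ K := by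
    intro y
    by_contra h
    push Not at h
    have hsum : ∀ (g : H), g ∈ R → ∀ u ∈ U, ∑ i ∈ Finset.range r, g ^ i • u ∈ U := fun g hg u hu =>
      U.sum_mem fun i _ => hUinv _ (pow_mem hg i) u hu
    have hy' : (y : H) ∈ R := y.2
    have hr0 : r • w ∈ (⊥ : AddSubgroup V) := gen_mem S.hr (hexp x x.2) (hexp y y.2) (hcomm x x.2 y y.2) ⊥ w
      (fun i _ hf => AddSubgroup.mem_bot.mpr (hUfix x x.2 hxK _ (hsum x x.2 _ (hUinv _ (pow_mem hy' i) w ⟨hwX, hwK⟩)) hf))
      (fun i _ hf => AddSubgroup.mem_bot.mpr (hUfix _ (mul_mem (pow_mem x.2 i) hy') (h i) _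
        (hsum _ (mul_mem (pow_mem x.2 i) hy') w ⟨hwX, hwK⟩) hf))
    exact hw0 (S.hrV w (AddSubgroup.mem_bot.mp hr0))
  -- the functional with kernel `K`
  letI : CommGroup R := { (inferInstance : Group R) with mul_comm := fun u v => Subtype.ext (hcomm _ u.2 _ v.2) }
  let Q := R ⧸ K.subgroupOf R
  let π : R →* Q := QuotientGroup.mk' (K.subgroupOf R)
  have hπx : π x ≠ 1 := fun e => hxK ((QuotientGroup.eq_one_iff (N := K.subgroupOf R) x).mp e)
  have hQcard : Nat.card Q = r := by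
    have htop : Subgroup.zpowers (π x) = ⊤ := by
      rw [eq_top_iff]
      intro q _
      obtain ⟨y, rfl⟩ := QuotientGroup.mk'_surjective (K.subgroupOf R) q
      obtain ⟨i, hi⟩ := hcover y
      have h1 : π (x ^ i * y) = 1 := (QuotientGroup.eq_one_iff _).mpr (by simpa [Subgroup.mem_subgroupOf] using hi)
      rw [map_mul, map_pow] at h1
      show π y ∈ _
      rw [eq_inv_of_mul_eq_one_right h1]
      exact inv_mem (pow_mem (Subgroup.mem_zpowers _) i)
    rw [← Subgroup.card_top (G := Q), ← htop, Nat.card_zpowers]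
    exact orderOf_eq_prime (by rw [← map_pow, show x ^ r = 1 from Subtype.ext (by simpa using hexp x x.2), map_one]) hπx
  haveI : IsCyclic Q := isCyclic_of_prime_card hQcard
  let e : Q ≃* M := mulEquivOfCyclicCardEq (by rw [hQcard]; simp [M])
  let f : R →* M := e.toMonoidHom.comp π
  have hf : Active f := ⟨w, fun y hy => hwK y ((QuotientGroup.eq_one_iff (N := K.subgroupOf R) y).mp (e.injective (hy.trans (map_one e).symm))),
    x, fun h => hw0 (eq_zero_of_fixed X hcop hwX fun z hz => by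
      obtain ⟨k, rfl⟩ := Subgroup.mem_zpowers_iff.mp hz
      exact zpow_mem (show (x : H) ∈ MulAction.stabilizer H w from h) k)⟩
  refine hπx (e.injective ?_)
  show f x = e 1
  rw [map_one, hxdef, map_mul, map_inv, hTf f hf t ht, mul_inv_cancel]

/-- `T` centralizes `R`. -/
theorem commutes (S : Setup A H V p r a R T) : ∀ t ∈ T, ∀ x ∈ R, t * x = x * t := by
  by_contra h
  push Not at h
  by_cases hab : ⁅R, R⁆ = ⊥
  · exact S.case_abelian h hab
  · exact S.case_nonabelian h hab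

end Setup

end Cfsg.Agent.S3796
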