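import Cfsg.Statements.S3796
import Cfsg.Agent.S3796Core
import Cfsg.Agent.S0033
import Cfsg.Agent.Lib.Fitting.Basic
import Cfsg.Agent.Lib.Char.PiPart
import Cfsg.Agent.Lib.FrobCompl.Basic

set_option autoImplicit false
set_option linter.style.haveILetI false
set_option maxHeartbeats 1000000
open Cfsg

namespace Cfsg.Agent.S3796

open scoped commutatorElement

open scoped Pointwise

universe u

section

variable {A G : Type u} [CommGroup A] [Finite A] [Group G] [Finite G] [MulDistribMulAction A G]

theorem isPGroup_of_exp {p : ℕ} (hexp : ∀ c : A, c ^ p = 1) : IsPGroup p A :=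
  fun c => ⟨1, by rw [pow_one]; exact hexp c⟩

theorem not_dvd_card {p : ℕ} [Fact p.Prime] (hexp : ∀ c : A, c ^ p = 1)
    (hfpf : ∀ g : G, (∀ c : A, c • g = g) → g = 1) : ¬ p ∣ Nat.card G := by
  intro h
  obtain ⟨b, hb, hb1⟩ := (isPGroup_of_exp hexp).exists_fixed_point_of_prime_dvd_card_of_fixed_point G h
    (a := (1 : G)) (fun c => smul_one c)
  exact hb1 (hfpf b hb).symm

theorem exists_fixed_lift_all {p : ℕ} [Fact p.Prime] (hexp : ∀ c : A, c ^ p = 1) (N : Subgroup G)
    (hN : IsInv A N) (hpN : ¬ p ∣ Nat.card N) {x : G} (hx : ∀ c : A, x⁻¹ * c • x ∈ N) :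
    ∃ y : G, (∀ c : A, c • y = y) ∧ x⁻¹ * y ∈ N := by
  let S := {y : G // x⁻¹ * y ∈ N}
  letI : MulAction A S :=
    { smul := fun c y => ⟨c • y.1, by
        have := N.mul_mem (hx c) (hN c _ y.2)
        rw [smul_mul', smul_inv'] at this
        simpa [mul_assoc] using this⟩
      one_smul := fun y => Subtype.ext (one_smul A y.1)
      mul_smul := fun c d y => Subtype.ext (mul_smul c d y.1) }
  have hcard : Nat.card S = Nat.card N := Nat.card_congr
    { toFun := fun y => ⟨x⁻¹ * y.1, y.2⟩
      invFun := fun n => ⟨x * n.1, by rw [inv_mul_cancel_left]; exact n.2⟩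
      left_inv := fun y => Subtype.ext (by simp)
      right_inv := fun n => Subtype.ext (by simp) }
  obtain ⟨y, hy⟩ := (isPGroup_of_exp hexp).nonempty_fixed_point_of_prime_not_dvd_card (α := S) (by rwa [hcard])
  exact ⟨y.1, fun c => congrArg Subtype.val (hy c), y.2⟩

/-- The action on the quotient by an invariant normal subgroup. -/
@[reducible] def quotAct (N : Subgroup G) [N.Normal] (hN : IsInv A N) : MulDistribMulAction A (G ⧸ N) :=
  have hle : ∀ c : A, N ≤ N.comap (MulDistribMulAction.toMonoidHom G c) := fun c x hx => hN c x hx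
  { smul := fun c x => QuotientGroup.map N N (MulDistribMulAction.toMonoidHom G c) (hle c) x
    one_smul := fun x => by
      obtain ⟨g, rfl⟩ := QuotientGroup.mk'_surjective N x
      exact congrArg (QuotientGroup.mk' N) (one_smul A g)
    mul_smul := fun c d x => by
      obtain ⟨g, rfl⟩ := QuotientGroup.mk'_surjective N x
      exact congrArg (QuotientGroup.mk' N) (mul_smul c d g)
    smul_mul := fun c => map_mul (QuotientGroup.map N N (MulDistribMulAction.toMonoidHom G c) (hle c))
    smul_one := fun c => map_one (QuotientGroup.map N N (MulDistribMulAction.toMonoidHom G c) (hle c)) }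

theorem quot_fpf {p : ℕ} [Fact p.Prime] (hexp : ∀ c : A, c ^ p = 1)
    (hfpf : ∀ g : G, (∀ c : A, c • g = g) → g = 1) (N : Subgroup G) [N.Normal] (hN : IsInv A N) :
    letI := quotAct N hN
    ∀ x : G ⧸ N, (∀ c : A, c • x = x) → x = 1 := by
  intro x hx
  obtain ⟨g, rfl⟩ := QuotientGroup.mk'_surjective N x
  obtain ⟨y, hy, hyN⟩ := exists_fixed_lift_all hexp N hN
    (fun h => not_dvd_card hexp hfpf (h.trans N.card_subgroup_dvd_card)) (x := g)
    (fun c => QuotientGroup.eq.mp (hx c).symm)
  rw [hfpf y hy, mul_one] at hyN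
  exact (QuotientGroup.eq_one_iff g).mpr (N.inv_mem_iff.mp hyN)

omit [Finite A] [Finite G] in
theorem isInv_map (N : Subgroup G) (hN : IsInv A N) (C : Subgroup N) [hC : C.Characteristic] :
    IsInv A (C.map N.subtype) := by
  rintro c _ ⟨x, hx, rfl⟩
  let φ : N ≃* N :=
    { toFun := fun y => ⟨c • (y : G), hN c y y.2⟩
      invFun := fun y => ⟨c⁻¹ • (y : G), hN c⁻¹ y y.2⟩
      left_inv := fun y => Subtype.ext (inv_smul_smul c (y : G))
      right_inv := fun y => Subtype.ext (smul_inv_smul c (y : G))
      map_mul' := fun y z => Subtype.ext (smul_mul' c (y : G) (z : G)) }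
  refine ⟨φ x, ?_, rfl⟩
  have := hC.fixed φ
  rw [← this] at hx
  exact hx

omit [Finite A] [Finite G] in
theorem isInv_inf {M N : Subgroup G} (hM : IsInv A M) (hN : IsInv A N) : IsInv A (M ⊓ N) :=
  fun c x hx => ⟨hM c x hx.1, hN c x hx.2⟩

omit [Finite A] [Finite G] in
theorem isInv_centralizer {N : Subgroup G} (hN : IsInv A N) : IsInv A (Subgroup.centralizer (N : Set G)) := by
  intro c x hx
  rw [Subgroup.mem_centralizer_iff]
  intro y hy
  have h := Subgroup.mem_centralizer_iff.mp hx (c⁻¹ • y) (hN c⁻¹ y hy)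
  have := congrArg (fun z => c • z) h
  simpa using this

theorem exists_inv_sylow {p : ℕ} [Fact p.Prime] (hexp : ∀ c : A, c ^ p = 1) (hpG : ¬ p ∣ Nat.card G)
    (s : ℕ) [Fact s.Prime] : ∃ S : Sylow s G, IsInv A (S : Subgroup G) := by
  haveI : Fact p.Prime := inferInstance
  obtain ⟨P⟩ := (inferInstance : Nonempty (Sylow s G))
  have hd : ¬ p ∣ Nat.card (Sylow s G) := fun h =>
    hpG ((h.trans (P.card_dvd_index)).trans (P : Subgroup G).index_dvd_card)
  obtain ⟨S, hS⟩ := (isPGroup_of_exp hexp).nonempty_fixed_point_of_prime_not_dvd_card (α := Sylow s G) hd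
  refine ⟨S, fun c x hx => ?_⟩
  have h : c • (S : Subgroup G) = S := congrArg Sylow.toSubgroup (hS c)
  rw [← h]
  exact Subgroup.smul_mem_pointwise_smul x c _ hx

end

theorem commute_in {G : Type*} [Group G] [Finite G] {X : Subgroup G} (hX : Group.IsNilpotent X) {x y : G}
    (hx : x ∈ X) (hy : y ∈ X) (h : (orderOf x).Coprime (orderOf y)) : x * y = y * x := by
  haveI := hX
  exact congrArg Subtype.val (CfsgLib.Char.PiPart.commute_of_coprime (x := (⟨x, hx⟩ : X)) (y := ⟨y, hy⟩)
    (by rw [Subgroup.orderOf_mk, Subgroup.orderOf_mk]; exact h)).eq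

theorem nilpotent_map {G Q : Type*} [Group G] [Group Q] (f : G →* Q) {L : Subgroup G}
    (hL : Group.IsNilpotent L) : Group.IsNilpotent (L.map f) :=
  haveI := hL
  Group.nilpotent_of_surjective (f.subgroupMap L) (f.subgroupMap_surjective L)

theorem nilpotent_le {G : Type*} [Group G] {A B : Subgroup G} (h : A ≤ B) (hB : Group.IsNilpotent B) :
    Group.IsNilpotent A :=
  haveI := hB
  (Group.isNilpotent_congr (Subgroup.subgroupOfEquivOfLe h)).mp inferInstance

theorem lcs_le_comap {G Q : Type*} [Group G] [Group Q] (f : G →* Q) {k : ℕ} {F : Subgroup Q}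
    (hk : (⊤ : Subgroup Q).lowerCentralSeries k ≤ F) : (⊤ : Subgroup G).lowerCentralSeries k ≤ F.comap f := by
  rw [← Subgroup.map_le_iff_le_comap, Subgroup.map_lowerCentralSeries]
  exact (Subgroup.lowerCentralSeries_mono k le_top).trans hk

/-- The fixed points of a nonidentity element form a nilpotent group. -/
theorem fixed_nilpotent {A G : Type u} [CommGroup A] [Finite A] [Group G] [Finite G] [MulDistribMulAction A G]
    {p : ℕ} (hp : p.Prime) (hA : Nat.card A = p ^ 2) (hexp : ∀ c : A, c ^ p = 1)
    (hfpf : ∀ g : G, (∀ c : A, c • g = g) → g = 1) {c : A} (hc : c ≠ 1) :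
    ∃ L : Subgroup G, (∀ x : G, x ∈ L ↔ c • x = x) ∧ Group.IsNilpotent L := by
  haveI := Fact.mk hp
  let L : Subgroup G :=
    { carrier := {x | c • x = x}
      one_mem' := smul_one c
      mul_mem' := fun {x y} hx hy => by show c • (x * y) = x * y; rw [smul_mul', hx, hy]
      inv_mem' := fun {x} hx => by show c • x⁻¹ = x⁻¹; rw [smul_inv', hx] }
  refine ⟨L, fun x => Iff.rfl, ?_⟩
  obtain ⟨b, hb⟩ := exists_not_mem_zpowers hp hA hexp c
  have hinv : IsInv A L := fun d x hx => by
    show c • d • x = d • x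
    rw [smul_smul, mul_comm, mul_smul, show c • x = x from hx]
  letI := subAct L hinv
  let φ : MulAut L := MulDistribMulAction.toMulAut A L b
  have hφ : MonoidHom.FixedPointFree ((φ : L ≃* L) : L →* L) := fun x hx =>
    Subtype.ext (hfpf x fun e => fixed_of_span hp hA hexp hc hb x.2 (congrArg Subtype.val hx) e)
  by_cases h1 : φ = 1
  · haveI : Subsingleton L := ⟨fun x y => by
      rw [hφ x (by rw [h1]; rfl), hφ y (by rw [h1]; rfl)]⟩
    exact Group.isNilpotent_of_subsingleton
  exact Cfsg.Agent.S0033.result φ hφ p hp (orderOf_eq_prime (by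
    show (MulDistribMulAction.toMulAut A L b) ^ p = 1
    rw [← map_pow, hexp, map_one]) h1)

theorem main (n : ℕ) : ∀ (G A : Type u) [Group G] [Finite G] [Group.IsSolvable G] [CommGroup A] [Finite A]
    [MulDistribMulAction A G], Nat.card G = n → ∀ (p : ℕ), p.Prime → Nat.card A = p ^ 2 → (∀ c : A, c ^ p = 1) →
    (∀ g : G, (∀ c : A, c • g = g) → g = 1) →
    ∃ F : Subgroup G, F.Normal ∧ Group.IsNilpotent F ∧ ∃ k : ℕ, (⊤ : Subgroup G).lowerCentralSeries k ≤ F := by
  induction n using Nat.strong_induction_on with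
  | _ n ih =>
    intro G A _ _ _ _ _ _ hn p hp hA hexp hfpf
    classical
    haveI := Fact.mk hp
    have hpG := not_dvd_card hexp hfpf
    rcases subsingleton_or_nontrivial G with hs | hs
    · exact ⟨⊥, inferInstance, inferInstance, 0, (Subsingleton.elim _ _ : _ = (⊥ : Subgroup G)).le⟩
    have hrec : ∀ (N : Subgroup G) [N.Normal], IsInv A N → N ≠ ⊥ → ∃ F : Subgroup (G ⧸ N), F.Normal ∧
        Group.IsNilpotent F ∧ ∃ k : ℕ, (⊤ : Subgroup (G ⧸ N)).lowerCentralSeries k ≤ F := by
      intro N _ hN hN1
      letI := quotAct N hN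
      haveI : Group.IsSolvable (G ⧸ N) := solvable_of_surjective (QuotientGroup.mk'_surjective N)
      refine ih (Nat.card (G ⧸ N)) ?_ (G ⧸ N) A rfl p hp hA hexp (quot_fpf hexp hfpf N hN)
      rw [← hn, N.card_eq_card_quotient_mul_card_subgroup]
      exact lt_mul_of_one_lt_right Nat.card_pos (N.one_lt_card_iff_ne_bot.mpr hN1)
    -- a minimal invariant normal subgroup
    obtain ⟨V, hVmin⟩ := (Set.toFinite {N : Subgroup G | N.Normal ∧ IsInv A N ∧ N ≠ ⊥}).exists_minimal
      ⟨⊤, inferInstance, fun c x _ => Subgroup.mem_top _, top_ne_bot⟩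
    obtain ⟨hVn, hVinv, hV1⟩ := hVmin.prop
    haveI := hVn
    have hVle : ∀ N : Subgroup G, N.Normal → IsInv A N → N ≠ ⊥ → N ≤ V → N = V := fun N h1 h2 h3 h4 =>
      le_antisymm h4 (hVmin.le_of_le ⟨h1, h2, h3⟩ h4)
    by_cases huniq : ∃ V' : Subgroup G, V'.Normal ∧ IsInv A V' ∧ V' ≠ ⊥ ∧ V ⊓ V' = ⊥
    · obtain ⟨V', hV'n, hV'inv, hV'1, hdis⟩ := huniq
      haveI := hV'n
      obtain ⟨F₁, hF₁n, hF₁, k₁, hk₁⟩ := hrec V hVinv hV1
      obtain ⟨F₂, hF₂n, hF₂, k₂, hk₂⟩ := hrec V' hV'inv hV'1
      haveI := hF₁n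
      haveI := hF₂n
      let F := F₁.comap (QuotientGroup.mk' V) ⊓ F₂.comap (QuotientGroup.mk' V')
      refine ⟨F, Subgroup.normal_inf_normal _ _, ?_, max k₁ k₂, le_inf ?_ ?_⟩
      · let f : F →* F₁ × F₂ :=
          MonoidHom.prod (((QuotientGroup.mk' V).comp F.subtype).codRestrict F₁ fun x => x.2.1)
            (((QuotientGroup.mk' V').comp F.subtype).codRestrict F₂ fun x => x.2.2)
        have hf : Function.Injective f := by
          rw [← MonoidHom.ker_eq_bot_iff, eq_bot_iff]
          intro x hx
          have h := MonoidHom.mem_ker.mp hx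
          have h1 : (x : G) ∈ V := (QuotientGroup.eq_one_iff _).mp (congrArg (fun z : F₁ × F₂ => (z.1 : G ⧸ V)) h)
          have h2 : (x : G) ∈ V' := (QuotientGroup.eq_one_iff _).mp (congrArg (fun z : F₁ × F₂ => (z.2 : G ⧸ V')) h)
          have h3 : (x : G) ∈ V ⊓ V' := ⟨h1, h2⟩
          rw [hdis, Subgroup.mem_bot] at h3
          exact Subtype.ext h3
        haveI := hF₁
        haveI := hF₂
        exact (Group.isNilpotent_congr (MonoidHom.ofInjective hf).symm).mp inferInstance
      · exact (Subgroup.lowerCentralSeries_antitone _ (le_max_left _ _)).trans (lcs_le_comap _ hk₁)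
      · exact (Subgroup.lowerCentralSeries_antitone _ (le_max_right _ _)).trans (lcs_le_comap _ hk₂)
    push Not at huniq
    have hVsub : ∀ N : Subgroup G, N.Normal → IsInv A N → N ≠ ⊥ → V ≤ N := fun N h1 h2 h3 =>
      (hVle (V ⊓ N) (Subgroup.normal_inf_normal _ _) (isInv_inf hVinv h2) (huniq N h1 h2 h3) inf_le_left).ge.trans inf_le_right
    have hVab : ∀ x ∈ V, ∀ y ∈ V, x * y = y * x := by
      intro x hx y hy
      have hinv : IsInv A ⁅V, V⁆ := fun c z hz => by
        have h : Subgroup.map (MulDistribMulAction.toMonoidHom G c) ⁅V, V⁆ ≤ ⁅V, V⁆ := by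
          rw [Subgroup.map_commutator]
          exact Subgroup.commutator_mono (by rintro _ ⟨w, hw, rfl⟩; exact hVinv c w hw)
            (by rintro _ ⟨w, hw, rfl⟩; exact hVinv c w hw)
        exact h ⟨z, hz, rfl⟩
      have hlt := Group.IsSolvable.commutator_lt_of_ne_bot (G := G) hV1
      have h0 : ⁅V, V⁆ = ⊥ := by
        by_contra h
        exact hlt.ne (hVle _ inferInstance hinv h hlt.le)
      have h : ⁅x, y⁆ ∈ ⁅V, V⁆ := Subgroup.commutator_mem_commutator hx hy
      rwa [h0, Subgroup.mem_bot, commutatorElement_eq_one_iff_mul_comm] at h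
    haveI : IsMulCommutative V := ⟨⟨fun x y => Subtype.ext (hVab x x.2 y y.2)⟩⟩
    obtain ⟨q, hq, hqV⟩ := Nat.exists_prime_and_dvd (V.one_lt_card_iff_ne_bot.mpr hV1).ne'
    haveI := Fact.mk hq
    have hVq : IsPGroup q V := by
      obtain ⟨P⟩ := (inferInstance : Nonempty (Sylow q V))
      haveI hPn : (P : Subgroup V).Normal := inferInstance
      haveI : (P : Subgroup V).Characteristic := P.characteristic_of_normal hPn
      have h : (P : Subgroup V).map V.subtype = V := hVle _ inferInstance (isInv_map V hVinv _)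
        (fun e => P.ne_bot_of_dvd_card hqV ((Subgroup.map_eq_bot_iff_of_injective _ V.subtype_injective).mp e))
        (Subgroup.map_subtype_le _)
      have h2 := P.isPGroup'.map V.subtype
      rwa [h] at h2
    let C := Subgroup.centralizer (V : Set G)
    have hVC : V ≤ C := fun x hx => Subgroup.mem_centralizer_iff.mpr fun y hy => hVab y hy x hx
    have hCinv : IsInv A C := isInv_centralizer hVinv
    have hC1 : C ≠ ⊥ := fun e => hV1 (le_bot_iff.mp (e ▸ hVC))
    haveI : C.Normal := inferInstance
    letI := quotAct C hCinv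
    let H := G ⧸ C
    let π : G →* H := QuotientGroup.mk' C
    have hπ : Function.Surjective π := QuotientGroup.mk'_surjective C
    by_cases hHnil : Group.IsNilpotent H
    · obtain ⟨F₁, hF₁n, hF₁, k₁, hk₁⟩ := hrec V hVinv hV1
      haveI := hF₁n
      haveI := hF₁
      obtain ⟨k₂, hk₂⟩ := Subgroup.nilpotent_iff_lowerCentralSeries.mp hHnil
      let F := F₁.comap (QuotientGroup.mk' V) ⊓ C
      refine ⟨F, Subgroup.normal_inf_normal _ _, ?_, max k₁ k₂, le_inf ?_ ?_⟩
      · refine Subgroup.isNilpotent_of_ker_le_center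
          (((QuotientGroup.mk' V).comp F.subtype).codRestrict F₁ fun x => x.2.1) ?_
        intro x hx
        rw [Subgroup.mem_center_iff]
        intro y
        have h1 : (x : G) ∈ V := (QuotientGroup.eq_one_iff _).mp (congrArg Subtype.val (MonoidHom.mem_ker.mp hx))
        exact Subtype.ext (Subgroup.mem_centralizer_iff.mp y.2.2 x h1).symm
      · exact (Subgroup.lowerCentralSeries_antitone _ (le_max_left _ _)).trans (lcs_le_comap _ hk₁)
      · refine (Subgroup.lowerCentralSeries_antitone _ (le_max_right _ _)).trans ((lcs_le_comap π hk₂.le).trans ?_)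
        rw [MonoidHom.comap_bot, QuotientGroup.ker_mk']
    exfalso
    -- the faithful action of `H` on `V`
    letI : CommGroup V := { (inferInstance : Group V) with mul_comm := fun x y => Subtype.ext (hVab x x.2 y y.2) }
    let ρ : H →* MulAut V := QuotientGroup.lift C (MulAut.conjNormal (H := V)) (fun g hg => MulEquiv.ext fun v => Subtype.ext (by
      show g * (v : G) * g⁻¹ = v
      rw [← Subgroup.mem_centralizer_iff.mp hg v v.2, mul_inv_cancel_right]))
    letI : DistribMulAction H (Additive V) :=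
      { smul := fun h v => Additive.ofMul (ρ h v.toMul)
        one_smul := fun v => by show Additive.ofMul (ρ 1 v.toMul) = v; rw [map_one]; rfl
        mul_smul := fun g h v => by show Additive.ofMul (ρ (g * h) v.toMul) = _; rw [map_mul]; rfl
        smul_zero := fun h => congrArg Additive.ofMul (map_one (ρ h))
        smul_add := fun h v w => congrArg Additive.ofMul (map_mul (ρ h) v.toMul w.toMul) }
    letI := subAct V hVinv
    letI : DistribMulAction A (Additive V) :=
      { smul := fun c v => Additive.ofMul (c • v.toMul)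
        one_smul := fun v => congrArg Additive.ofMul (one_smul A v.toMul)
        mul_smul := fun c d v => congrArg Additive.ofMul (mul_smul c d v.toMul)
        smul_zero := fun c => congrArg Additive.ofMul (smul_one c)
        smul_add := fun c v w => congrArg Additive.ofMul (smul_mul' c v.toMul w.toMul) }
    have hactH : ∀ (g : G) (v : Additive V), (((π g • v).toMul : V) : G) = g * (v.toMul : G) * g⁻¹ := fun g v => rfl
    have hactA : ∀ (c : A) (v : Additive V), (((c • v).toMul : V) : G) = c • (v.toMul : G) := fun c v => rfl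
    have hext : ∀ v w : Additive V, (v.toMul : G) = w.toMul → v = w := fun v w h =>
      Additive.toMul.injective (Subtype.ext h)
    have hfaith : ∀ h : H, (∀ v : Additive V, h • v = v) → h = 1 := by
      intro h hh
      obtain ⟨g, rfl⟩ := hπ h
      refine (QuotientGroup.eq_one_iff g).mpr (Subgroup.mem_centralizer_iff.mpr fun y hy => ?_)
      have := hactH g (Additive.ofMul ⟨y, hy⟩)
      rw [hh] at this
      exact eq_mul_inv_iff_mul_eq.mp this
    have hpH : ¬ p ∣ Nat.card H := fun h => hpG (h.trans (Subgroup.card_quotient_dvd_card C))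
    have hfpfH : ∀ h : H, (∀ c : A, c • h = h) → h = 1 := quot_fpf hexp hfpf C hCinv
    obtain ⟨F₀, hF₀n, hF₀, k₀, hk₀⟩ := hrec C hCinv hC1
    let F := Cfsg.fittingSubgroup H
    haveI hFn : F.Normal := CfsgLib.Fitting.fittingSubgroup_normal
    haveI hFnil : Group.IsNilpotent F := CfsgLib.Fitting.fittingSubgroup_isNilpotent
    have hkF : (⊤ : Subgroup H).lowerCentralSeries k₀ ≤ F := hk₀.trans (CfsgLib.Fitting.le_fittingSubgroup hF₀n hF₀)
    have hFinv : IsInv A F := by
      intro c x hx
      let φ : H →* H := MulDistribMulAction.toMonoidHom H c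
      have hs : Function.Surjective φ := fun y => ⟨c⁻¹ • y, smul_inv_smul c y⟩
      exact CfsgLib.Fitting.le_fittingSubgroup (hFn.map φ hs) (nilpotent_map φ hFnil) ⟨x, hx, rfl⟩
    have hsylF : ∀ (r : ℕ) [Fact r.Prime] (R : Sylow r F), ((R : Subgroup F).map F.subtype).Normal ∧
        IsInv A ((R : Subgroup F).map F.subtype) := by
      intro r _ R
      haveI hRn : (R : Subgroup F).Normal := R.normal_of_normalizerCondition Group.normalizerCondition_of_isNilpotent
      haveI : (R : Subgroup F).Characteristic := R.characteristic_of_normal hRn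
      exact ⟨inferInstance, isInv_map F hFinv _⟩
    have hq1 : ∀ (R : Sylow q F), (R : Subgroup F).map F.subtype = ⊥ := by
      intro R
      obtain ⟨hQn, hQinv⟩ := hsylF q R
      set Q := (R : Subgroup F).map F.subtype
      let U : Subgroup G :=
        { carrier := {x | x ∈ V ∧ ∀ g : G, π g ∈ Q → g * x * g⁻¹ = x}
          one_mem' := ⟨one_mem _, fun g _ => by simp⟩
          mul_mem' := fun {x y} hx hy => ⟨mul_mem hx.1 hy.1, fun g hg => by rw [← conj_mul, hx.2 g hg, hy.2 g hg]⟩
          inv_mem' := fun {x} hx => ⟨inv_mem hx.1, fun g hg => by rw [← conj_inv, hx.2 g hg]⟩ }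
      have hUn : U.Normal := ⟨fun x hx g => ⟨hVn.conj_mem x hx.1 g, fun d hd => by
        have h1 := hx.2 (g⁻¹ * d * g) (by
          rw [map_mul, map_mul, map_inv]
          have h2 := hQn.conj_mem _ hd (π g)⁻¹
          rwa [inv_inv] at h2)
        calc d * (g * x * g⁻¹) * d⁻¹ = g * ((g⁻¹ * d * g) * x * (g⁻¹ * d * g)⁻¹) * g⁻¹ := by group
          _ = g * x * g⁻¹ := by rw [h1]⟩⟩
      have hUinv : IsInv A U := fun c x hx => ⟨hVinv c x hx.1, fun d hd => by
        have h1 := hx.2 (c⁻¹ • d) (hQinv c⁻¹ _ hd)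
        have h2 := congrArg (fun z => c • z) h1
        simpa [smul_mul', smul_inv'] using h2⟩
      have hU1 : U ≠ ⊥ := by
        intro e
        letI : MulAction Q (Additive V) :=
          { smul := fun h v => (h : H) • v
            one_smul := fun v => one_smul H v
            mul_smul := fun g h v => mul_smul (g : H) h v }
        have hqd : q ∣ Nat.card (Additive V) := hqV
        obtain ⟨v, hv, hv0⟩ := (R.isPGroup'.map F.subtype : IsPGroup q Q).exists_fixed_point_of_prime_dvd_card_of_fixed_point
          (Additive V) hqd (a := (0 : Additive V)) (fun h => smul_zero (h : H))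
        refine hv0 (hext 0 v ?_)
        have hmem : (v.toMul : G) ∈ U := ⟨v.toMul.2, fun g hg => by
          rw [← hactH]; exact congrArg (fun w : Additive V => (w.toMul : G)) (hv ⟨π g, hg⟩)⟩
        rw [e, Subgroup.mem_bot] at hmem
        rw [hmem]; rfl
      have hUV := hVle U hUn hUinv hU1 fun x hx => hx.1
      rw [eq_bot_iff]
      intro h hh
      rw [Subgroup.mem_bot]
      refine hfaith h fun v => hext _ _ ?_
      obtain ⟨g, rfl⟩ := hπ h
      rw [hactH]
      exact ((hUV.ge v.toMul.2 : (v.toMul : G) ∈ U)).2 g hh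
    -- a Sylow subgroup outside the Fitting subgroup
    obtain ⟨s, hs, S, hSinv, hSF⟩ : ∃ (s : ℕ) (_ : Fact s.Prime) (S : Sylow s H), IsInv A (S : Subgroup H) ∧
        ¬ (S : Subgroup H) ≤ F := by
      by_contra h
      push Not at h
      have hdvd : Nat.card H ∣ Nat.card F := by
        refine (Nat.factorization_le_iff_dvd Nat.card_pos.ne' Nat.card_pos.ne').mp fun s => ?_
        by_cases hs : s.Prime
        swap; · simp [Nat.factorization_eq_zero_of_not_prime _ hs]
        haveI := Fact.mk hs
        obtain ⟨S, hS⟩ := exists_inv_sylow hexp hpH s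
        have h1 := Subgroup.card_dvd_of_le (h s inferInstance S hS)
        rw [S.card_eq_multiplicity] at h1
        exact (hs.pow_dvd_iff_le_factorization Nat.card_pos.ne').mp h1
      have hFt : F = ⊤ := Subgroup.eq_top_of_le_card F (Nat.le_of_dvd Nat.card_pos hdvd)
      exact hHnil (Group.isNilpotent_top.mp (hFt ▸ hFnil))
    obtain ⟨r, hr, hrs, R₀, hnc⟩ : ∃ (r : ℕ) (_ : Fact r.Prime), r ≠ s ∧ ∃ R : Sylow r F,
        ¬ (S : Subgroup H) ≤ Subgroup.centralizer (((R : Subgroup F).map F.subtype : Subgroup H) : Set H) := by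
      by_contra h
      push Not at h
      have hnorm : F ≤ Subgroup.normalizer ((S : Subgroup H) : Set H) := by
        have hdvd : Nat.card F ∣ Nat.card ↥(F ⊓ Subgroup.normalizer ((S : Subgroup H) : Set H)) := by
          refine (Nat.factorization_le_iff_dvd Nat.card_pos.ne' Nat.card_pos.ne').mp fun r => ?_
          by_cases hr : r.Prime
          swap; · simp [Nat.factorization_eq_zero_of_not_prime _ hr]
          haveI := Fact.mk hr
          let R : Sylow r F := default
          have hle : (R : Subgroup F).map F.subtype ≤ F ⊓ Subgroup.normalizer ((S : Subgroup H) : Set H) := by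
            refine le_inf (Subgroup.map_subtype_le _) ?_
            by_cases hrs : r = s
            · subst hrs
              haveI := (hsylF r R).1
              exact (IsPGroup.le_sylow_of_normal (R.isPGroup'.map F.subtype) S).trans Subgroup.le_normalizer
            · exact le_trans (fun x hx => Subgroup.mem_centralizer_iff.mpr fun y hy =>
                (Subgroup.mem_centralizer_iff.mp (h r inferInstance hrs R hy) x hx).symm)
                (Subgroup.centralizer_le_normalizer _)
          have h1 := Subgroup.card_dvd_of_le hle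
          rw [Subgroup.card_map_of_injective F.subtype_injective, R.card_eq_multiplicity] at h1
          exact (hr.pow_dvd_iff_le_factorization Nat.card_pos.ne').mp h1
        exact (Subgroup.eq_of_le_of_card_ge inf_le_left (Nat.le_of_dvd Nat.card_pos hdvd)).ge.trans inf_le_right
      let πF := QuotientGroup.mk' F
      haveI : Group.IsNilpotent (H ⧸ F) := Subgroup.nilpotent_iff_lowerCentralSeries.mpr ⟨k₀, by
        rw [← Subgroup.map_top_of_surjective πF (QuotientGroup.mk'_surjective F), ← Subgroup.map_lowerCentralSeries,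
          Subgroup.map_eq_bot_iff, QuotientGroup.ker_mk']
        exact hkF⟩
      let M := F ⊔ (S : Subgroup H)
      haveI hMn : M.Normal := by
        let S' := S.mapSurjective (QuotientGroup.mk'_surjective F)
        haveI : (S' : Subgroup (H ⧸ F)).Normal := S'.normal_of_normalizerCondition Group.normalizerCondition_of_isNilpotent
        have : M = (S' : Subgroup (H ⧸ F)).comap πF := by
          rw [Sylow.coe_mapSurjective, Subgroup.comap_map_eq, QuotientGroup.ker_mk', sup_comm]
        rw [this]; infer_instance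
      let SM := S.subtype (show (S : Subgroup H) ≤ M from le_sup_right)
      haveI hSMn : (SM : Subgroup M).Normal := by
        rw [Sylow.coe_subtype]
        exact (Subgroup.normal_subgroupOf_iff_le_normalizer le_sup_right).mpr (sup_le hnorm Subgroup.le_normalizer)
      haveI : (SM : Subgroup M).Characteristic := SM.characteristic_of_normal hSMn
      have hSn : ((S : Subgroup H)).Normal := by
        have h1 : (SM : Subgroup M).map M.subtype = (S : Subgroup H) := by
          rw [Sylow.coe_subtype, Subgroup.map_subgroupOf_eq_of_le le_sup_right]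
        rw [← h1]; infer_instance
      exact hSF (CfsgLib.Fitting.le_fittingSubgroup hSn S.isPGroup'.isNilpotent)
    obtain ⟨hRn, hRinv⟩ := hsylF r R₀
    set R := (R₀ : Subgroup F).map F.subtype with hRdef
    -- an element fixed by some nonidentity element of `A`
    have hb : ∃ c : A, c ≠ 1 ∧ ∃ x ∈ (S : Subgroup H), c • x = x ∧ x ∉ Subgroup.centralizer (R : Set H) := by
      by_contra h
      push Not at h
      obtain ⟨a, ha⟩ : ∃ a : A, a ≠ 1 := by
        haveI : Nontrivial A := Finite.one_lt_card_iff_nontrivial.mp (by rw [hA]; nlinarith [hp.two_le])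
        exact exists_ne 1
      obtain ⟨b, hb⟩ := exists_not_mem_zpowers hp hA hexp a
      exact hnc (generate_sub hp hpH (hexp a) (hexp b) ha hb _ S.isPGroup'.isNilpotent hSinv _ h)
    obtain ⟨a, ha, x₁, hx₁S, hx₁a, hx₁R⟩ := hb
    obtain ⟨L, hL, hLnil⟩ := fixed_nilpotent hp hA hexp hfpf ha
    let T : Subgroup H :=
      { carrier := {x | x ∈ (S : Subgroup H) ∧ a • x = x}
        one_mem' := ⟨one_mem _, smul_one a⟩
        mul_mem' := fun h h' => ⟨mul_mem h.1 h'.1, by rw [smul_mul', h.2, h'.2]⟩
        inv_mem' := fun h => ⟨inv_mem h.1, by rw [smul_inv', h.2]⟩ }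
    obtain ⟨R', hR'min⟩ := (Set.toFinite {X : Subgroup H | X ≤ R ∧ IsInv A X ∧
        (∀ t ∈ T, ∀ x ∈ X, t * x * t⁻¹ ∈ X) ∧ ∃ t ∈ T, ∃ x ∈ X, t * x ≠ x * t}).exists_minimal ⟨R, le_rfl, hRinv,
      fun t _ x hx => hRn.conj_mem x hx t, by
        by_contra h
        push Not at h
        exact hx₁R (Subgroup.mem_centralizer_iff.mpr fun y hy => (h x₁ ⟨hx₁S, hx₁a⟩ y hy).symm)⟩
    obtain ⟨hR'R, hR'inv, hR'T, t₁, ht₁, x₂, hx₂, hne⟩ := hR'min.prop
    have hrq : r ≠ q := by
      rintro rfl
      have hx := hR'R hx₂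
      rw [hRdef, hq1 R₀, Subgroup.mem_bot] at hx
      exact hne (by rw [hx, mul_one, one_mul])
    have hpR : IsPGroup r R := R₀.isPGroup'.map F.subtype
    have hpR' : IsPGroup r R' := hpR.to_le hR'R
    have hpT : IsPGroup s T := S.isPGroup'.to_le fun x hx => hx.1
    have hcop : (Nat.card R').Coprime (Nat.card T) := by
      obtain ⟨i, hi⟩ := IsPGroup.iff_card.mp hpR'
      obtain ⟨j, hj⟩ := IsPGroup.iff_card.mp hpT
      rw [hi, hj]
      exact ((Nat.coprime_primes hr.out hs.out).mpr hrs).pow i j
    have hlift : ∀ (c : A) (h : H), c • h = h → ∃ g : G, c • g = g ∧ π g = h := by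
      intro c h hh
      obtain ⟨g, rfl⟩ := hπ h
      obtain ⟨y, hy, hyC⟩ := exists_fixed_lift (hexp c) C (hCinv c) (fun h => hpG (h.trans C.card_subgroup_dvd_card))
        (x := g) (QuotientGroup.eq.mp hh.symm)
      exact ⟨y, hy, (QuotientGroup.eq.mpr hyC).symm⟩
    have hrV : ∀ v : Additive V, r • v = 0 → v = 0 := by
      intro v hv
      obtain ⟨j, hj⟩ := IsPGroup.iff_card.mp hVq
      exact AddMonoid.addOrderOf_eq_one_iff.mp (Nat.eq_one_of_dvd_coprimes
        (((Nat.coprime_primes hr.out hq).mpr hrq).pow_right j) (addOrderOf_dvd_of_nsmul_eq_zero hv)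
        ((addOrderOf_dvd_natCard v).trans (show Nat.card (Additive V) ∣ q ^ j from hj ▸ dvd_refl (Nat.card V))))
    have hnil : ∀ c : A, c ≠ 1 → ∀ x ∈ R', c • x = x → ∀ v : Additive V, c • v = v → x • v = v := by
      intro c hc x hx hcx v hcv
      obtain ⟨L', hL', hL'nil⟩ := fixed_nilpotent hp hA hexp hfpf hc
      obtain ⟨g, hg, rfl⟩ := hlift c x hcx
      have hvL : (v.toMul : G) ∈ L' := (hL' _).mpr (by rw [← hactA, hcv])
      set e := (orderOf g).factorization q
      set g' := g ^ q ^ e
      have hg'q : ¬ q ∣ orderOf g' := by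
        rw [orderOf_pow_of_dvd (pow_ne_zero e hq.ne_zero) (Nat.ordProj_dvd _ q)]
        exact Nat.not_dvd_ordCompl hq (orderOf_pos g).ne'
      have hcm : g' * (v.toMul : G) = (v.toMul : G) * g' := by
        refine commute_in hL'nil ((hL' _).mpr (by rw [smul_pow', hg])) hvL ?_
        obtain ⟨j, hj⟩ := IsPGroup.iff_card.mp hVq
        exact (((hq.coprime_iff_not_dvd.mpr hg'q).symm).pow_right j).coprime_dvd_right
          (hj ▸ V.orderOf_dvd_natCard v.toMul.2)
      have hfix : π g' • v = v := hext _ _ (by rw [hactH, hcm, mul_inv_cancel_right])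
      obtain ⟨i, hi⟩ := IsPGroup.iff_orderOf.mp hpR' ⟨π g, hx⟩
      rw [Subgroup.orderOf_mk] at hi
      obtain ⟨m, hm⟩ := exists_pow_eq_self_of_coprime (n := q ^ e) (x := π g) (by
        rw [hi]; exact (((Nat.coprime_primes hq hr.out).mpr hrq.symm).pow e i))
      rw [← hm, ← map_pow]
      exact smul_fix_pow hfix m
    have hCa : ∀ x ∈ R', a • x = x → ∀ t ∈ T, t * x = x * t := by
      intro x hx hax t ht
      obtain ⟨g, hg, rfl⟩ := hlift a x hax
      obtain ⟨d, hd, rfl⟩ := hlift a t ht.2
      refine commute_in (nilpotent_map π hLnil) ⟨d, (hL d).mpr hd, rfl⟩ ⟨g, (hL g).mpr hg, rfl⟩ ?_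
      exact (hcop.symm.coprime_dvd_left (T.orderOf_dvd_natCard ht)).coprime_dvd_right (R'.orderOf_dvd_natCard hx)
    have hfpfV : ∀ v : Additive V, (∀ c : A, c • v = v) → v = 0 := fun v hv =>
      hext _ _ (hfpf _ fun c => by rw [← hactA, hv c])
    have hcompat : ∀ (c : A) (h : H) (v : Additive V), c • h • v = (c • h) • c • v := by
      intro c h v
      obtain ⟨g, rfl⟩ := hπ h
      refine hext _ _ ?_
      show c • (g * (v.toMul : G) * g⁻¹) = (c • g) * c • (v.toMul : G) * (c • g)⁻¹
      rw [smul_mul', smul_mul', smul_inv']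
    have hTinv : IsInv A T := fun c x hx => ⟨hSinv c x hx.1, by rw [smul_smul, mul_comm, mul_smul, hx.2]⟩
    have hSetup : Setup A H (Additive V) p r a R' T :=
      { hp := hp, hr := hr.out, cardA := hA, expA := hexp, ha := ha, hpH := hpH, compat := hcompat,
        fpfH := hfpfH, fpfV := hfpfV, faithful := hfaith, hrV := hrV, pR := hpR', invR := hR'inv, invT := hTinv,
        norm := hR'T, cop := hcop, hnil := hnil, hTa := fun t ht => ht.2, hCa := hCa,
        hmin := fun X hXle hXne hXinv hXT t ht x hx => by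
          by_contra h
          exact hXne (le_antisymm hXle (hR'min.le_of_le ⟨hXle.trans hR'R, hXinv, hXT, t, ht, x, hx, h⟩ hXle)) }
    exact hne (hSetup.commutes t₁ ht₁ x₂ hx₂)


/-- Ward's Theorem: let G be a finite solvable group and A an elementary abelian group of automorphisms of G of order p² (p a prime) with no non-identity common fixed point. Then G has Fitting height at most 2: G has Fitting height at most m when there is a chain of normal subgroups 1 = F₀ ≤ F₁ ≤ ⋯ ≤ F_m = G with each F_{i+1}/F_i nilpotent. -/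
theorem result {G : Type*} [Group G] [Finite G] (hG : Group.IsSolvable G) {p : ℕ} (hp : p.Prime) (A : Subgroup (MulAut G)) (hA : Cfsg.IsElementaryAbelian p A) (hcard : Nat.card A = p ^ 2) (hfpf : ∀ g : G, (∀ a ∈ A, a g = g) → g = 1) : ∃ F : Fin (2 + 1) → Subgroup G, F 0 = ⊥ ∧ F (Fin.last 2) = ⊤ ∧ Monotone F ∧ (∀ i, (F i).Normal) ∧ ∀ i : Fin 2, ∃ k : ℕ, (F i.succ).lowerCentralSeries k ≤ F i.castSucc := by
  haveI := hG
  haveI := Fact.mk hp
  letI : CommGroup A :=
    { (inferInstance : Group A) with mul_comm := fun a b => hA.1.is_comm.comm a b }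
  letI : MulDistribMulAction A G :=
    { smul := fun a g => (a : MulAut G) g
      one_smul := fun g => rfl
      mul_smul := fun a b g => rfl
      smul_mul := fun a => map_mul (a : MulAut G)
      smul_one := fun a => map_one (a : MulAut G) }
  obtain ⟨F, hFn, hF, k, hk⟩ := main _ G A rfl p hp hcard (fun c => Subtype.ext (hA.2 c c.2))
    fun g hg => hfpf g fun a ha => hg ⟨a, ha⟩
  refine ⟨![⊥, F, ⊤], rfl, rfl, ?_, ?_, ?_⟩
  · refine Fin.monotone_iff_le_succ.mpr fun i => ?_
    fin_cases i <;> simp
  · intro i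
    fin_cases i
    · exact (inferInstance : (⊥ : Subgroup G).Normal)
    · exact hFn
    · exact (inferInstance : (⊤ : Subgroup G).Normal)
  · intro i
    haveI := hF
    fin_cases i
    · exact ⟨Group.nilpotencyClass F, (Subgroup.lowerCentralSeries_eq_bot_of_nilpotencyClass_le (S := F) le_rfl).le⟩
    · exact ⟨k, hk⟩
end Cfsg.Agent.S3796
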