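import Cfsg.Statements.S3797
import Cfsg.Agent.Lib.TwoLength.Main
import Cfsg.Agent.Lib.PSolvable.Constrained

set_option autoImplicit false
open Cfsg

namespace Cfsg.Agent.S3797

theorem homocyclic {A : Type*} [Group A] [Finite A] (hcomm : ∀ a b : A, a * b = b * a)
    (hA : IsPGroup 2 A) {u : A} (hu1 : u ≠ 1) (hu2 : u ^ 2 = 1)
    (htrans : ∀ x y : A, x ≠ 1 → x ^ 2 = 1 → y ≠ 1 → y ^ 2 = 1 → ∃ a : MulAut A, a x = y) :
    ∃ m r : ℕ, Nonempty (A ≃* (Fin r → Multiplicative (ZMod (2 ^ m)))) := by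
  classical
  letI : CommGroup A := { (inferInstance : Group A) with mul_comm := hcomm }
  haveI : Fact (Nat.Prime 2) := ⟨Nat.prime_two⟩
  have hexists : ∃ f, ∀ z : A, z ^ 2 ^ f = 1 := by
    obtain ⟨k, hk⟩ := IsPGroup.iff_card.mp hA
    exact ⟨k, fun z => hk ▸ pow_card_eq_one'⟩
  obtain ⟨f, hf, hfmin⟩ : ∃ f, (∀ z : A, z ^ 2 ^ f = 1) ∧ ∀ f' < f, ¬ ∀ z : A, z ^ 2 ^ f' = 1 :=
    ⟨Nat.find hexists, Nat.find_spec hexists, fun f' hf' => Nat.find_min hexists hf'⟩
  obtain ⟨e, rfl⟩ : ∃ e, f = e + 1 := by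
    refine Nat.exists_eq_add_one.mpr (Nat.pos_of_ne_zero fun h0 => hu1 ?_)
    subst h0
    simpa using hf u
  obtain ⟨z₀, hz₀⟩ : ∃ z : A, z ^ 2 ^ e ≠ 1 := by
    by_contra hh
    push Not at hh
    exact hfmin e (Nat.lt_succ_self e) hh
  have hroot : ∀ x : A, x ≠ 1 → x ^ 2 = 1 → ∃ z : A, z ^ 2 ^ e = x := by
    intro x hx1 hx2
    obtain ⟨a, ha⟩ := htrans (z₀ ^ 2 ^ e) x hz₀ (by rw [← pow_mul, ← pow_succ, hf]) hx1 hx2
    exact ⟨a z₀, by rw [← map_pow, ha]⟩
  obtain ⟨ι, hι, n, hn1, ⟨E⟩⟩ := CommGroup.equiv_prod_multiplicative_zmod_of_finite A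
  have hn : ∀ i, n i = 2 ^ (e + 1) := by
    intro i
    set g : (j : ι) → Multiplicative (ZMod (n j)) := Pi.mulSingle i (Multiplicative.ofAdd 1) with hg
    have hgo : orderOf (Multiplicative.ofAdd (1 : ZMod (n i))) = n i := by
      rw [orderOf_ofAdd_eq_addOrderOf, ZMod.addOrderOf_one]
    have hall : ∀ y : (j : ι) → Multiplicative (ZMod (n j)), y ^ 2 ^ (e + 1) = 1 := fun y => by
      obtain ⟨a, rfl⟩ := E.surjective y
      rw [← map_pow, hf, map_one]
    have hdvd : n i ∣ 2 ^ (e + 1) := by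
      rw [← hgo]
      refine orderOf_dvd_of_pow_eq_one ?_
      have := congrFun (hall g) i
      simpa [hg] using this
    obtain ⟨k, hk, hik⟩ := (Nat.dvd_prime_pow Nat.prime_two).mp hdvd
    rw [hik]
    by_contra hne
    have hke : k ≤ e := by
      rcases Nat.lt_or_ge k (e + 1) with h | h
      · omega
      · exact absurd (by rw [show k = e + 1 by omega]) hne
    obtain ⟨k', rfl⟩ : ∃ k', k = k' + 1 := by
      refine Nat.exists_eq_add_one.mpr (Nat.pos_of_ne_zero fun h0 => ?_)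
      have := hn1 i
      rw [hik, h0] at this
      omega
    set x := E.symm (g ^ 2 ^ k') with hx
    have hxi : (g ^ 2 ^ k') i ≠ 1 := by
      intro h1
      rw [Pi.pow_apply, hg, Pi.mulSingle_eq_same] at h1
      have := orderOf_dvd_of_pow_eq_one h1
      rw [hgo, hik, Nat.pow_dvd_pow_iff_le_right (by norm_num : 1 < 2)] at this
      omega
    have hg2 : (g ^ 2 ^ k') ^ 2 = 1 := by
      rw [← pow_mul, ← pow_succ, ← hik, hg, ← Pi.mulSingle_pow]
      rw [show Multiplicative.ofAdd (1 : ZMod (n i)) ^ n i = 1 by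
        conv_lhs => arg 2; rw [← hgo]
        exact pow_orderOf_eq_one _, Pi.mulSingle_one]
    obtain ⟨z, hz⟩ := hroot x
      (fun h1 => hxi (by rw [E.symm.map_eq_one_iff.mp h1]; rfl)) (by rw [hx, ← map_pow, hg2, map_one])
    refine hxi ?_
    have h2 : g ^ 2 ^ k' = E z ^ 2 ^ e := by rw [← map_pow, hz, hx, E.apply_symm_apply]
    rw [h2, Pi.pow_apply]
    have h3 : orderOf (E z i) ∣ 2 ^ e := by
      refine dvd_trans ?_ (pow_dvd_pow 2 hke)
      rw [← hik]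
      exact (orderOf_dvd_natCard (E z i)).trans (by rw [Nat.card_congr Multiplicative.toAdd, Nat.card_zmod])
    exact orderOf_dvd_iff_pow_eq_one.mp h3
  haveI := hι
  refine ⟨e + 1, Fintype.card ι, ⟨E.trans ?_⟩⟩
  refine (MulEquiv.piCongrRight fun i => ?_).trans
    { Equiv.arrowCongr (Fintype.equivFin ι) (Equiv.refl _) with map_mul' := fun _ _ => rfl }
  exact (ZMod.ringEquivCongr (hn i)).toAddEquiv.toMultiplicative

theorem pow_card_of_mem {G : Type*} [Group G] {K : Subgroup G} {g : G} (hg : g ∈ K) :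
    g ^ Nat.card K = 1 := by
  have h : (⟨g, hg⟩ : K) ^ Nat.card K = 1 := pow_card_eq_one'
  exact congrArg Subtype.val h

/-- The quotient by the odd core inherits the hypotheses. -/
theorem not_dvd_index_quotient {G : Type*} [Group G] [Finite G] (hG : Group.IsSolvable G)
    (S : Subgroup G) (hS : IsPGroup 2 S)
    (htwo : ∃ x y : G, x ∈ S ∧ y ∈ S ∧ x ≠ y ∧ x ≠ 1 ∧ x ^ 2 = 1 ∧ y ≠ 1 ∧ y ^ 2 = 1)
    (hconj : ∀ x y : G, x ≠ 1 → x ^ 2 = 1 → y ≠ 1 → y ^ 2 = 1 → IsConj x y)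
    [(Cfsg.pPrimeCore 2 G).Normal] :
    ¬ 2 ∣ (Cfsg.pCore 2 (G ⧸ Cfsg.pPrimeCore 2 G)).index := by
  haveI : Fact (Nat.Prime 2) := ⟨Nat.prime_two⟩
  haveI := hG
  set K := Cfsg.pPrimeCore 2 G with hK
  have hKodd : Odd (Nat.card K) := Nat.coprime_two_right.mp (CfsgLib.Transfer.pPrimeCore_coprime 2)
  refine CfsgLib.TwoLength.not_dvd_index_pCore_two inferInstance
    (CfsgLib.PSolvable.pPrimeCore_eq_bot_of_ker (QuotientGroup.mk'_surjective K) (QuotientGroup.ker_mk' K))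
    ?_ ?_
  · obtain ⟨x, y, hxS, hyS, hxy, hx1, hx2, hy1, hy2⟩ := htwo
    have hinj : ∀ g ∈ S, g ∈ K → g = 1 := by
      intro g hgS hgK
      obtain ⟨m, hm⟩ := hS ⟨g, hgS⟩
      exact CfsgLib.TwoLength.eq_one_of_two_pow_of_odd (by simpa using congrArg Subtype.val hm) hKodd
        (pow_card_of_mem hgK)
    refine ⟨x, y, fun e => hxy ?_, fun e => hx1 (hinj x hxS ((QuotientGroup.eq_one_iff x).mp e)), ?_,
      fun e => hy1 (hinj y hyS ((QuotientGroup.eq_one_iff y).mp e)), ?_⟩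
    · exact inv_mul_eq_one.mp (hinj _ (S.mul_mem (S.inv_mem hxS) hyS) (QuotientGroup.eq.mp e))
    · rw [← QuotientGroup.mk_pow, hx2, QuotientGroup.mk_one]
    · rw [← QuotientGroup.mk_pow, hy2, QuotientGroup.mk_one]
  · have hlift : ∀ a : G ⧸ K, a ≠ 1 → a ^ 2 = 1 → ∃ g : G, (g : G ⧸ K) = a ∧ g ≠ 1 ∧ g ^ 2 = 1 := by
      intro a ha1 ha2
      obtain ⟨g, rfl⟩ := QuotientGroup.mk_surjective a
      have hgK : g ^ 2 ∈ K := by rwa [← QuotientGroup.eq_one_iff, QuotientGroup.mk_pow]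
      obtain ⟨j, hj⟩ := hKodd
      have e : ((g ^ (2 * j + 1) : G) : G ⧸ K) = g := by
        rw [QuotientGroup.mk_pow, pow_succ, pow_mul, ha2, one_pow, one_mul]
      refine ⟨g ^ (2 * j + 1), e, fun h1 => ha1 (by rw [← e, h1, QuotientGroup.mk_one]), ?_⟩
      rw [← pow_mul, mul_comm, pow_mul, ← hj]
      exact pow_card_of_mem hgK
    intro a b ha1 ha2 hb1 hb2
    obtain ⟨g, rfl, hg1, hg2⟩ := hlift a ha1 ha2
    obtain ⟨g', rfl, hg'1, hg'2⟩ := hlift b hb1 hb2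
    exact (QuotientGroup.mk' K).map_isConj (hconj g g' hg1 hg2 hg'1 hg'2)

theorem step {G : Type*} [Group G] (p : ℕ) [Fact p.Prime] [Finite G] (U : Subgroup G) [U.Normal]
    (h : ¬ p ∣ (Cfsg.pCore p (G ⧸ U)).index) (W : Subgroup G) [W.Normal]
    (hW : W = (Cfsg.pCore p (G ⧸ U)).comap (QuotientGroup.mk' U)) :
    (Cfsg.pPrimeCore p (G ⧸ W)).comap (QuotientGroup.mk' W) = ⊤ := by
  rw [eq_top_iff]
  intro g _
  rw [Subgroup.mem_comap]
  have hidx : W.index = (Cfsg.pCore p (G ⧸ U)).index := by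
    rw [hW, Subgroup.index_comap_of_surjective _ (QuotientGroup.mk'_surjective U)]
  have htop : (⊤ : Subgroup (G ⧸ W)) ≤ Cfsg.pPrimeCore p (G ⧸ W) := by
    refine CfsgLib.Transfer.le_pPrimeCore inferInstance ?_
    rw [Subgroup.card_top]
    show W.index.Coprime p
    rw [hidx]
    exact ((Fact.out : p.Prime).coprime_iff_not_dvd.mpr h).symm
  exact htop (Subgroup.mem_top _)

/-- Conjugate elements of `S` are conjugate in `N(S)` when `S O(G)` is normal. -/
theorem exists_normalizer_conj {G : Type*} [Group G] [Finite G] (S : Sylow 2 G) (K : Subgroup G) [K.Normal]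
    (hKodd : Odd (Nat.card K)) (hidx : ¬ 2 ∣ (Cfsg.pCore 2 (G ⧸ K)).index) {x y g : G}
    (hx : x ∈ (S : Subgroup G)) (hy : y ∈ (S : Subgroup G)) (hg : g * x * g⁻¹ = y) :
    ∃ n ∈ Subgroup.normalizer ((S : Subgroup G) : Set G), n * x * n⁻¹ = y := by
  haveI : Fact (Nat.Prime 2) := ⟨Nat.prime_two⟩
  haveI := CfsgLib.Fitting.pCore_normal (G := G ⧸ K) 2
  set L := (Cfsg.pCore 2 (G ⧸ K)).comap (QuotientGroup.mk' K) with hL
  have hKL : K ≤ L := fun z hz => by
    rw [hL, Subgroup.mem_comap, QuotientGroup.mk'_apply, (QuotientGroup.eq_one_iff z).mpr hz]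
    exact Subgroup.one_mem _
  have hidxL : ¬ 2 ∣ L.index := by
    rwa [hL, Subgroup.index_comap_of_surjective _ (QuotientGroup.mk'_surjective K)]
  -- `S ≤ L`
  have hSL : (S : Subgroup G) ≤ L := by
    intro z hz
    obtain ⟨m, hm⟩ := S.isPGroup' ⟨z, hz⟩
    have hzm : z ^ 2 ^ m = 1 := by simpa using congrArg Subtype.val hm
    rw [← QuotientGroup.eq_one_iff]
    refine CfsgLib.TwoLength.eq_one_of_two_pow_of_odd (n := L.index) (m := m)
      (by rw [← QuotientGroup.mk_pow, hzm, QuotientGroup.mk_one])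
      (Nat.odd_iff.mpr (Nat.two_dvd_ne_zero.mp hidxL)) ?_
    exact pow_card_eq_one' (G := G ⧸ L)
  -- `L = K S`
  have hLeq : K ⊔ (S : Subgroup G) = L := by
    refine le_antisymm (sup_le hKL hSL) ?_
    obtain ⟨k, hk⟩ := IsPGroup.iff_card.mp (CfsgLib.Fitting.pCore_isPGroup (G := G ⧸ K) 2)
    have hcL : Nat.card L = Nat.card K * 2 ^ k := by
      rw [hL, CfsgLib.PSolvable.card_comap_of_surjective (QuotientGroup.mk'_surjective K),
        QuotientGroup.ker_mk', hk]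
    refine (Subgroup.eq_of_le_of_card_ge (sup_le hKL hSL) ?_).ge
    refine Nat.le_of_dvd Nat.card_pos ?_
    rw [hcL]
    refine ((Nat.coprime_two_right.mpr hKodd).pow_right k).mul_dvd_of_dvd_of_dvd
      (Subgroup.card_dvd_of_le le_sup_left) (dvd_trans ?_ (Subgroup.card_dvd_of_le le_sup_right))
    rw [S.card_eq_multiplicity, Nat.pow_dvd_pow_iff_le_right (by norm_num : 1 < 2)]
    exact (Nat.prime_two.pow_dvd_iff_le_factorization Nat.card_pos.ne').mp
      (hk ▸ (Subgroup.card_subgroup_dvd_card _).trans (Subgroup.card_quotient_dvd_card K))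
  -- Frattini
  have htop : Subgroup.normalizer ((S : Subgroup G) : Set G) ⊔ L = ⊤ :=
    Sylow.normalizer_sup_eq_top' S hSL
  rw [← hLeq, sup_comm K, ← sup_assoc, sup_eq_left.mpr Subgroup.le_normalizer] at htop
  obtain ⟨o, ho, n, hn, rfl⟩ := Subgroup.mem_sup_of_normal_left.mp
    (show g ∈ K ⊔ Subgroup.normalizer ((S : Subgroup G) : Set G) by rw [sup_comm, htop]; trivial)
  refine ⟨n, hn, ?_⟩
  have hx' : n * x * n⁻¹ ∈ (S : Subgroup G) := (Subgroup.mem_normalizer_iff.mp hn x).mp hx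
  have hmemS : y * (n * x * n⁻¹)⁻¹ ∈ (S : Subgroup G) := Subgroup.mul_mem _ hy (Subgroup.inv_mem _ hx')
  have hmemK : y * (n * x * n⁻¹)⁻¹ ∈ K := by
    rw [← hg, show o * n * x * (o * n)⁻¹ * (n * x * n⁻¹)⁻¹ =
      o * (n * x * n⁻¹ * o⁻¹ * (n * x * n⁻¹)⁻¹) by group]
    exact K.mul_mem ho ((inferInstance : K.Normal).conj_mem _ (K.inv_mem ho) _)
  obtain ⟨m, hm⟩ := S.isPGroup' ⟨_, hmemS⟩
  have h1 := CfsgLib.TwoLength.eq_one_of_two_pow_of_odd
    (x := y * (n * x * n⁻¹)⁻¹) (by simpa using congrArg Subtype.val hm) hKodd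
    (pow_card_of_mem hmemK)
  exact (mul_inv_eq_one.mp h1).symm

/-- Let G be a finite solvable group of even order whose Sylow 2-subgroups contain more than one involution, and suppose all involutions of G are conjugate. Then G has 2-length at most 1, and a Sylow 2-subgroup S of G is either homocyclic (a direct product of cyclic groups of one common order) or a non-abelian 2-group with more than one involution admitting a solvable group of automorphisms transitive on its involutions. -/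
theorem result {G : Type*} [Group G] [Finite G] (hG : Group.IsSolvable G) (heven : Even (Nat.card G)) (S : Sylow 2 G) (htwo : ∃ x y : G, x ∈ (S : Subgroup G) ∧ y ∈ (S : Subgroup G) ∧ x ≠ y ∧ x ≠ 1 ∧ x ^ 2 = 1 ∧ y ≠ 1 ∧ y ^ 2 = 1) (hconj : ∀ x y : G, x ≠ 1 → x ^ 2 = 1 → y ≠ 1 → y ^ 2 = 1 → IsConj x y) : Cfsg.PLengthLE 2 1 G ∧ ((∃ m r : ℕ, Nonempty (↥(S : Subgroup G) ≃* (Fin r → Multiplicative (ZMod (2 ^ m))))) ∨ (¬ IsMulCommutative (S : Subgroup G) ∧ ∃ Y : Subgroup (MulAut ↥(S : Subgroup G)), Group.IsSolvable Y ∧ ∀ x y : ↥(S : Subgroup G), x ≠ 1 → x ^ 2 = 1 → y ≠ 1 → y ^ 2 = 1 → ∃ a ∈ Y, a x = y)) := by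
  haveI : Fact (Nat.Prime 2) := ⟨Nat.prime_two⟩
  haveI := hG
  haveI := CfsgLib.Transfer.pPrimeCore_normal 2 G
  have key := not_dvd_index_quotient hG (S : Subgroup G) S.isPGroup' htwo hconj
  have h1 : (Cfsg.upperPSeries 2 G 1).1 = Cfsg.pPrimeCore 2 G := by
    haveI := (Cfsg.upperPSeries 2 G 0).2
    show (Cfsg.pPrimeCore 2 (G ⧸ (⊥ : Subgroup G))).comap (QuotientGroup.mk' ⊥) = _
    rw [← CfsgLib.PSolvable.map_equiv_pPrimeCore (QuotientGroup.quotientBot (G := G))]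
    ext g
    simp only [Subgroup.mem_comap, Subgroup.mem_map]
    exact ⟨fun hg => ⟨_, hg, rfl⟩, fun ⟨q, hq, hqg⟩ => by
      have : q = (g : G ⧸ (⊥ : Subgroup G)) := QuotientGroup.quotientBot.injective hqg
      rw [QuotientGroup.mk'_apply, ← this]; exact hq⟩
  have key' : ¬ 2 ∣ (Cfsg.pCore 2 (G ⧸ (Cfsg.upperPSeries 2 G 1).1)).index := by
    have : ∀ (U : Subgroup G) [U.Normal], U = Cfsg.pPrimeCore 2 G →
        ¬ 2 ∣ (Cfsg.pCore 2 (G ⧸ U)).index := by
      intro U _ hU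
      subst hU
      exact key
    exact this _ h1
  refine ⟨step 2 (Cfsg.upperPSeries 2 G 1).1 key' (Cfsg.upperPSeries 2 G 2).1 rfl, ?_⟩
  set Y : Subgroup (MulAut (S : Subgroup G)) := (S : Subgroup G).normalizerMonoidHom.range with hY
  have htrans : ∀ x y : (S : Subgroup G), x ≠ 1 → x ^ 2 = 1 → y ≠ 1 → y ^ 2 = 1 → ∃ a ∈ Y, a x = y := by
    intro x y hx1 hx2 hy1 hy2
    obtain ⟨g, hg⟩ := isConj_iff.mp (hconj (x : G) y (fun e => hx1 (Subtype.ext e))
      (by simpa using congrArg Subtype.val hx2) (fun e => hy1 (Subtype.ext e))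
      (by simpa using congrArg Subtype.val hy2))
    obtain ⟨n, hn, hnxy⟩ := exists_normalizer_conj S (Cfsg.pPrimeCore 2 G)
      (Nat.coprime_two_right.mp (CfsgLib.Transfer.pPrimeCore_coprime 2)) key x.2 y.2 hg
    exact ⟨_, ⟨⟨n, hn⟩, rfl⟩, Subtype.ext hnxy⟩
  by_cases hab : IsMulCommutative (S : Subgroup G)
  · left
    obtain ⟨x, y, hxS, -, -, hx1, hx2, -, -⟩ := htwo
    exact homocyclic (fun a b => hab.is_comm.comm a b) S.isPGroup' (u := ⟨x, hxS⟩)
      (fun e => hx1 (congrArg Subtype.val e)) (Subtype.ext (by simpa using hx2))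
      fun a b ha1 ha2 hb1 hb2 => (htrans a b ha1 ha2 hb1 hb2).imp fun _ h => h.2
  · exact Or.inr ⟨hab, Y, solvable_of_surjective (MonoidHom.rangeRestrict_surjective _), htrans⟩

end Cfsg.Agent.S3797
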