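import Cfsg.Statements.S3798
import Cfsg.Agent.Lib.PLengthOne.Basic
import Cfsg.Agent.Lib.PSolvable.Constrained

set_option autoImplicit false
open Cfsg

namespace Cfsg.Agent.S3798

theorem step {G : Type*} [Group G] (p : ℕ) [Fact p.Prime] [Finite G] (U : Subgroup G) [U.Normal]
    (h : ¬ p ∣ (Cfsg.pCore p (G ⧸ U)).index) (W : Subgroup G) [W.Normal]
    (hW : W = (Cfsg.pCore p (G ⧸ U)).comap (QuotientGroup.mk' U)) :
    (Cfsg.pPrimeCore p (G ⧸ W)).comap (QuotientGroup.mk' W) = ⊤ := by
  rw [eq_top_iff]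
  intro g _
  rw [Subgroup.mem_comap]
  have hidx : W.index = (Cfsg.pCore p (G ⧸ U)).index := by
    rw [hW, Subgroup.index_comap_of_surjective _ (QuotientGroup.mk'_surjective U)]
  have htop : (⊤ : Subgroup (G ⧸ W)) ≤ Cfsg.pPrimeCore p (G ⧸ W) := by
    refine CfsgLib.Transfer.le_pPrimeCore inferInstance ?_
    rw [Subgroup.card_top]
    show W.index.Coprime p
    rw [hidx]
    exact ((Fact.out : p.Prime).coprime_iff_not_dvd.mpr h).symm
  exact htop (Subgroup.mem_top _)


/-- The Gaschütz–Yen Theorem: let G be a finite p-soluble group, p an odd prime dividing its order, such that the automorphism group of G permutes the subgroups of G of order p transitively. Then G has p-length at most 1. -/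
theorem result {G : Type*} [Group G] [Finite G] {p : ℕ} [Fact p.Prime] (hp : p ≠ 2) (hdvd : p ∣ Nat.card G) (hG : Cfsg.IsPSolvable p G) (htrans : ∀ U V : Subgroup G, Nat.card U = p → Nat.card V = p → ∃ a : MulAut G, U.map a.toMonoidHom = V) : Cfsg.PLengthLE p 1 G := by
  have key := CfsgLib.PLengthOne.not_dvd_index_pCore_quotient hp hdvd hG htrans
  have h1 : (Cfsg.upperPSeries p G 1).1 = Cfsg.pPrimeCore p G := by
    haveI := (Cfsg.upperPSeries p G 0).2
    show (Cfsg.pPrimeCore p (G ⧸ (⊥ : Subgroup G))).comap (QuotientGroup.mk' ⊥) = _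
    rw [← CfsgLib.PSolvable.map_equiv_pPrimeCore (QuotientGroup.quotientBot (G := G))]
    ext g
    simp only [Subgroup.mem_comap, Subgroup.mem_map]
    exact ⟨fun hg => ⟨_, hg, rfl⟩, fun ⟨q, hq, hqg⟩ => by
      have : q = (g : G ⧸ (⊥ : Subgroup G)) := QuotientGroup.quotientBot.injective hqg
      rw [QuotientGroup.mk'_apply, ← this]; exact hq⟩
  have key' : ¬ p ∣ (Cfsg.pCore p (G ⧸ (Cfsg.upperPSeries p G 1).1)).index := by
    have : ∀ (U : Subgroup G) [U.Normal], U = Cfsg.pPrimeCore p G →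
        ¬ p ∣ (Cfsg.pCore p (G ⧸ U)).index := by
      intro U _ hU
      subst hU
      exact key
    exact this _ h1
  exact step p (Cfsg.upperPSeries p G 1).1 key' (Cfsg.upperPSeries p G 2).1 rfl

end Cfsg.Agent.S3798
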