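import Cfsg.Statements.S3799
import Cfsg.Agent.Lib.Critical.Basic
import Cfsg.Agent.Lib.PSolvable.Omega

set_option autoImplicit false
open Cfsg

namespace Cfsg.Agent.S3799

open Matrix
open scoped commutatorElement

variable {p n : ℕ}

/-- The first row index. -/
def i0 : Fin (n + 2) := 0
/-- The last row index. -/
def iL : Fin (n + 2) := Fin.last (n + 1)

/-- A vector supported on the middle indices. -/
def mid (a : Fin n → ZMod p) : Fin (n + 2) → ZMod p := Fin.cons 0 (Fin.snoc a 0)

/-- The unit vector. -/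
def uv (i : Fin (n + 2)) : Fin (n + 2) → ZMod p := Pi.single i 1

/-- The nilpotent part. -/
def nil' (a b : Fin n → ZMod p) (c : ZMod p) : Matrix (Fin (n + 2)) (Fin (n + 2)) (ZMod p) :=
  vecMulVec (uv i0) (mid a) + vecMulVec (mid b) (uv iL) + c • vecMulVec (uv i0) (uv iL)

/-- The Heisenberg matrices. -/
def heis (a b : Fin n → ZMod p) (c : ZMod p) : Matrix (Fin (n + 2)) (Fin (n + 2)) (ZMod p) :=
  1 + nil' a b c

theorem mid_add (a a' : Fin n → ZMod p) : mid (a + a') = mid a + mid a' := by
  funext i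
  refine Fin.cases ?_ (fun j => ?_) i
  · simp [mid]
  · simp only [mid, Pi.add_apply, Fin.cons_succ]
    refine Fin.lastCases ?_ (fun k => ?_) j <;> simp

theorem mid_zero : mid (0 : Fin n → ZMod p) = 0 := by
  funext i
  refine Fin.cases ?_ (fun j => ?_) i
  · simp [mid]
  · simp only [mid, Pi.zero_apply, Fin.cons_succ]
    refine Fin.lastCases ?_ (fun k => ?_) j <;> simp

theorem mid_dot (a b : Fin n → ZMod p) : mid a ⬝ᵥ mid b = a ⬝ᵥ b := by
  simp [dotProduct, mid, Fin.sum_univ_succ (n := n + 1), Fin.sum_univ_castSucc (n := n)]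

theorem mid_uv0 (a : Fin n → ZMod p) : mid a ⬝ᵥ uv i0 = 0 := by
  simp [uv, i0, dotProduct_single, mid]

theorem uvL_mid (a : Fin n → ZMod p) : uv iL ⬝ᵥ mid a = 0 := by
  simp [uv, iL, single_dotProduct, mid, ← Fin.succ_last]

theorem uvL_uv0 : (uv iL : Fin (n + 2) → ZMod p) ⬝ᵥ uv i0 = 0 := by
  simp [uv, iL, i0, single_dotProduct, ← Fin.succ_last]

theorem nil_mul (a b a' b' : Fin n → ZMod p) (c c' : ZMod p) :
    nil' a b c * nil' a' b' c' = (a ⬝ᵥ b') • vecMulVec (uv i0) (uv iL) := by
  simp only [nil', mul_add, add_mul, Matrix.mul_smul, Matrix.smul_mul, vecMulVec_mul_vecMulVec,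
    vecMulVec_smul, mid_uv0, mid_dot, uvL_mid, uvL_uv0, zero_smul, smul_zero, vecMulVec_zero,
    add_zero, zero_add]

theorem heis_mul (a b a' b' : Fin n → ZMod p) (c c' : ZMod p) :
    heis a b c * heis a' b' c' = heis (a + a') (b + b') (c + c' + a ⬝ᵥ b') := by
  rw [heis, heis, heis, add_mul, one_mul, mul_add, mul_one, nil_mul]
  simp only [nil', mid_add, vecMulVec_add, add_vecMulVec, add_smul]
  abel

theorem heis_zero : heis (0 : Fin n → ZMod p) 0 0 = 1 := by
  simp [heis, nil', mid_zero]

/-- The Heisenberg matrices as units. -/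
def heisU (t : (Fin n → ZMod p) × (Fin n → ZMod p) × ZMod p) :
    Matrix.GeneralLinearGroup (Fin (n + 2)) (ZMod p) where
  val := heis t.1 t.2.1 t.2.2
  inv := heis (-t.1) (-t.2.1) (-t.2.2 + t.1 ⬝ᵥ t.2.1)
  val_inv := by
    rw [heis_mul, add_neg_cancel, add_neg_cancel, dotProduct_neg,
      show t.2.2 + (-t.2.2 + t.1 ⬝ᵥ t.2.1) + -(t.1 ⬝ᵥ t.2.1) = 0 by ring, heis_zero]
  inv_val := by
    rw [heis_mul, neg_add_cancel, neg_add_cancel, neg_dotProduct,
      show -t.2.2 + t.1 ⬝ᵥ t.2.1 + t.2.2 + -(t.1 ⬝ᵥ t.2.1) = 0 by ring, heis_zero]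

/-- The subgroup of Heisenberg matrices. -/
def heisSub (p n : ℕ) : Subgroup (Matrix.GeneralLinearGroup (Fin (n + 2)) (ZMod p)) where
  carrier := Set.range heisU
  one_mem' := ⟨(0, 0, 0), Units.ext heis_zero⟩
  mul_mem' := by
    rintro _ _ ⟨t, rfl⟩ ⟨s, rfl⟩
    exact ⟨(t.1 + s.1, t.2.1 + s.2.1, t.2.2 + s.2.2 + t.1 ⬝ᵥ s.2.1),
      Units.ext (heis_mul _ _ _ _ _ _).symm⟩
  inv_mem' := by
    rintro _ ⟨t, rfl⟩
    exact ⟨(-t.1, -t.2.1, -t.2.2 + t.1 ⬝ᵥ t.2.1), Units.ext rfl⟩

/-- The element with given coordinates. -/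
def elt (t : (Fin n → ZMod p) × (Fin n → ZMod p) × ZMod p) : heisSub p n := ⟨heisU t, t, rfl⟩

theorem elt_mul (t s : (Fin n → ZMod p) × (Fin n → ZMod p) × ZMod p) :
    elt t * elt s = elt (t.1 + s.1, t.2.1 + s.2.1, t.2.2 + s.2.2 + t.1 ⬝ᵥ s.2.1) :=
  Subtype.ext (Units.ext (heis_mul _ _ _ _ _ _))

theorem elt_injective : Function.Injective (elt : _ → heisSub p n) := by
  intro t s h
  have h1 : heis t.1 t.2.1 t.2.2 = heis s.1 s.2.1 s.2.2 := congrArg (fun w : heisSub p n => ((w : Matrix.GeneralLinearGroup (Fin (n + 2)) (ZMod p)) : Matrix (Fin (n + 2)) (Fin (n + 2)) (ZMod p))) h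
  have e : ∀ i j, nil' t.1 t.2.1 t.2.2 i j = nil' s.1 s.2.1 s.2.2 i j := fun i j => by
    have := congrFun (congrFun h1 i) j
    simpa [heis] using this
  refine Prod.ext (funext fun k => ?_) (Prod.ext (funext fun k => ?_) ?_)
  · have := e i0 k.castSucc.succ
    simpa [nil', vecMulVec_apply, uv, i0, iL, mid, ← Fin.succ_last, Fin.succ_ne_zero] using this
  · have := e k.castSucc.succ iL
    simpa [nil', vecMulVec_apply, uv, i0, iL, mid, ← Fin.succ_last, Fin.succ_ne_zero] using this
  · have := e i0 iL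
    simpa [nil', vecMulVec_apply, uv, i0, iL, mid, ← Fin.succ_last, Fin.succ_ne_zero] using this

theorem elt_surjective : Function.Surjective (elt : _ → heisSub p n) := by
  rintro ⟨_, t, rfl⟩
  exact ⟨t, rfl⟩

theorem elt_pow (t : (Fin n → ZMod p) × (Fin n → ZMod p) × ZMod p) : ∀ k : ℕ,
    elt t ^ k = elt ((k : ZMod p) • t.1, (k : ZMod p) • t.2.1,
      (k : ZMod p) * t.2.2 + (k.choose 2 : ZMod p) * (t.1 ⬝ᵥ t.2.1)) := by
  intro k
  induction k with
  | zero => simp; exact Subtype.ext (Units.ext heis_zero.symm)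
  | succ k ih =>
    rw [pow_succ, ih, elt_mul, Nat.choose_succ_succ k 1, Nat.choose_one_right]
    refine congrArg elt (Prod.ext ?_ (Prod.ext ?_ ?_))
    · simp [add_smul]
    · simp [add_smul]
    · simp [smul_dotProduct]; ring


/-- For every odd prime p and every n ≥ 1 there is an extraspecial p-group of order p^(1+2n) and exponent p; concretely, the general linear group of degree n + 2 over the field with p elements contains such a subgroup. -/
theorem result (p : ℕ) [Fact p.Prime] (hp : p ≠ 2) (n : ℕ) (hn : 1 ≤ n) : ∃ E : Subgroup (Matrix.GeneralLinearGroup (Fin (n + 2)) (ZMod p)), Cfsg.IsExtraspecial p ↥E ∧ Nat.card E = p ^ (1 + 2 * n) ∧ ∀ x ∈ E, x ^ p = 1 := by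
  refine ⟨heisSub p n, ?_, ?_, ?_⟩
  rotate_left
  · rw [← Nat.card_congr (Equiv.ofBijective _ ⟨elt_injective, elt_surjective⟩), Nat.card_prod,
      Nat.card_prod, Nat.card_fun, Nat.card_zmod, Nat.card_fin, pow_add, pow_one, pow_mul]
    ring
  · intro x hx
    obtain ⟨t, ht⟩ := elt_surjective ⟨x, hx⟩
    have h1 : elt t ^ p = 1 := by
      obtain ⟨q, hq⟩ := (Fact.out : p.Prime).dvd_choose_self two_ne_zero
        (lt_of_le_of_ne (Fact.out : p.Prime).two_le hp.symm)
      rw [elt_pow, hq]
      simp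
      exact Subtype.ext (Units.ext heis_zero)
    rw [ht] at h1
    exact congrArg Subtype.val h1
  · classical
    have hP : IsPGroup p (heisSub p n) := IsPGroup.of_card (n := 1 + 2 * n) (by
      rw [← Nat.card_congr (Equiv.ofBijective _ ⟨elt_injective, elt_surjective⟩), Nat.card_prod,
        Nat.card_prod, Nat.card_fun, Nat.card_zmod, Nat.card_fin, pow_add, pow_one, pow_mul]
      ring)
    have hmem : ∀ t : (Fin n → ZMod p) × (Fin n → ZMod p) × ZMod p,
        elt t ∈ Subgroup.center (heisSub p n) ↔ t.1 = 0 ∧ t.2.1 = 0 := by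
      intro t
      rw [Subgroup.mem_center_iff]
      constructor
      · intro h
        have key : ∀ a b : Fin n → ZMod p, a ⬝ᵥ t.2.1 = t.1 ⬝ᵥ b := by
          intro a b
          have h1 := h (elt (a, b, 0))
          rw [elt_mul, elt_mul] at h1
          have := congrArg (fun w : (Fin n → ZMod p) × (Fin n → ZMod p) × ZMod p => w.2.2)
            (elt_injective h1)
          simpa using this
        refine ⟨funext fun i => ?_, funext fun i => ?_⟩
        · simpa using (key 0 (Pi.single i 1)).symm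
        · simpa using key (Pi.single i 1) 0
      · rintro ⟨h1, h2⟩ g
        obtain ⟨s, rfl⟩ := elt_surjective g
        rw [elt_mul, elt_mul]
        refine congrArg elt (Prod.ext ?_ (Prod.ext ?_ ?_)) <;> simp [h1, h2, add_comm]
    have hZc : Nat.card (Subgroup.center (heisSub p n)) = p := by
      let f : ZMod p → Subgroup.center (heisSub p n) := fun c => ⟨elt (0, 0, c), (hmem _).mpr ⟨rfl, rfl⟩⟩
      have hf : Function.Bijective f := by
        refine ⟨fun c d h => ?_, fun z => ?_⟩
        · exact congrArg (fun w : (Fin n → ZMod p) × (Fin n → ZMod p) × ZMod p => w.2.2)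
            (elt_injective (congrArg Subtype.val h))
        · obtain ⟨t, ht⟩ := elt_surjective z.1
          obtain ⟨h1, h2⟩ := (hmem t).mp (ht ▸ z.2)
          refine ⟨t.2.2, Subtype.ext ?_⟩
          show elt (0, 0, t.2.2) = z.1
          rw [← ht]
          exact congrArg elt (Prod.ext h1.symm (Prod.ext h2.symm rfl))
      rw [← Nat.card_congr (Equiv.ofBijective f hf), Nat.card_zmod]
    have hle : commutator (heisSub p n) ≤ Subgroup.center (heisSub p n) := by
      rw [commutator_def, Subgroup.commutator_le]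
      intro g _ h _
      obtain ⟨t, rfl⟩ := elt_surjective g
      obtain ⟨s, rfl⟩ := elt_surjective h
      obtain ⟨r, hr⟩ := elt_surjective ⁅elt t, elt s⁆
      have h1 : ⁅elt t, elt s⁆ * (elt s * elt t) = elt t * elt s := by
        simp only [commutatorElement_def]; group
      rw [← hr, elt_mul, elt_mul, elt_mul] at h1
      have e := elt_injective h1
      rw [← hr, hmem]
      have e1 := congrArg Prod.fst e
      have e2 := congrArg (fun w : (Fin n → ZMod p) × (Fin n → ZMod p) × ZMod p => w.2.1) e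
      simp only at e1 e2
      exact ⟨by rwa [add_comm s.1, add_eq_right] at e1, by rwa [add_comm s.2.1, add_eq_right] at e2⟩
    have heq : commutator (heisSub p n) = Subgroup.center (heisSub p n) := by
      refine Subgroup.eq_of_le_of_card_ge hle ?_
      rw [hZc]
      have hne : commutator (heisSub p n) ≠ ⊥ := by
        intro hb
        have hc : elt ((Pi.single ⟨0, hn⟩ 1 : Fin n → ZMod p), 0, 0) ∈ Subgroup.center (heisSub p n) := by
          rw [Subgroup.mem_center_iff]
          intro g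
          rw [← commutatorElement_eq_one_iff_mul_comm, ← Subgroup.mem_bot, ← hb, commutator_def]
          exact Subgroup.commutator_mem_commutator (Subgroup.mem_top _) (Subgroup.mem_top _)
        have := congrFun ((hmem _).mp hc).1 ⟨0, hn⟩
        simp at this
      obtain ⟨k, hk⟩ := IsPGroup.iff_card.mp (hP.to_subgroup (commutator (heisSub p n)))
      rw [hk]
      refine Nat.le_self_pow ?_ p
      rintro rfl
      exact hne (Subgroup.eq_bot_of_card_eq _ (hk.trans (pow_zero p)))
    refine ⟨⟨hP, le_antisymm ?_ ?_, heq⟩, hZc⟩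
    · refine CfsgLib.Critical.frattini_le_of_elementary (p := p) _ hle fun g => ?_
      obtain ⟨t, rfl⟩ := elt_surjective g
      rw [elt_pow, hmem]
      simp
    · exact heq ▸ (CfsgLib.PSolvable.commutator_le_frattini hP).1

end Cfsg.Agent.S3799
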