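import Cfsg.Statements.S3800
import Mathlib
import Cfsg.Agent.Lib.Coprime.SchurZassenhaus

set_option autoImplicit false
set_option linter.style.haveILetI false
open Cfsg

namespace Cfsg.Agent.S3800

/-- Let G be a finite group, N a normal subgroup of G whose order is prime to p, and P a p-subgroup of G. Then in G/N the normalizer of the image of P is the image of N_G(P), and the centralizer of the image of P is the image of C_G(P). -/
theorem result {G : Type*} [Group G] [Finite G] {p : ℕ} [Fact p.Prime] (N : Subgroup G) [N.Normal] (hN : (Nat.card N).Coprime p) (P : Subgroup G) (hP : IsPGroup p P) : Subgroup.normalizer ((P.map (QuotientGroup.mk' N)) : Set (G ⧸ N)) = (Subgroup.normalizer (P : Set G)).map (QuotientGroup.mk' N) ∧ Subgroup.centralizer ((P.map (QuotientGroup.mk' N)) : Set (G ⧸ N)) = (Subgroup.centralizer (P : Set G)).map (QuotientGroup.mk' N) := by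
  classical
  set f := QuotientGroup.mk' N with hf
  have hsurj : Function.Surjective f := QuotientGroup.mk'_surjective _
  have hker : ∀ g, f g = 1 ↔ g ∈ N := fun g => QuotientGroup.eq_one_iff g
  obtain ⟨n, hn⟩ := IsPGroup.iff_card.mp hP
  have hNP : P ⊓ N = ⊥ := CfsgLib.Coprime.inf_eq_bot_of_coprime_card (by
    rw [hn]; exact (hN.symm).pow_left n)
  set L := P ⊔ N with hL
  haveI : (N.subgroupOf L).Normal := inferInstance
  have hLcomap : (P.map f).comap f = L := by
    rw [Subgroup.comap_map_eq, hf, QuotientGroup.ker_mk']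
  have hcardL : Nat.card L = Nat.card N * Nat.card P := by
    rw [hL, sup_comm]
    exact CfsgLib.Coprime.card_sup_of_normalizer
      (by rw [Subgroup.normalizer_eq_top]; exact le_top) (by rw [inf_comm]; exact hNP)
  let PL : Sylow p L := Sylow.ofCard (P.subgroupOf L) (by
    rw [Nat.card_congr (Subgroup.subgroupOfEquivOfLe le_sup_left).toEquiv, hcardL, hn,
      Nat.factorization_mul Nat.card_pos.ne' (pow_ne_zero _ (Fact.out : p.Prime).ne_zero),
      Finsupp.add_apply, Nat.factorization_eq_zero_of_not_dvd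
        ((Fact.out : p.Prime).coprime_iff_not_dvd.mp hN.symm), zero_add,
      Nat.factorization_pow, Finsupp.smul_apply, (Fact.out : p.Prime).factorization_self,
      smul_eq_mul, mul_one])
  have hNor : Subgroup.normalizer ((P.map f : Subgroup (G ⧸ N)) : Set (G ⧸ N)) =
      (Subgroup.normalizer (P : Set G)).map f := by
    refine le_antisymm (fun y hy => ?_) (Subgroup.le_normalizer_map f)
    obtain ⟨x, rfl⟩ := hsurj y
    have hxL : ∀ l, l ∈ L ↔ x * l * x⁻¹ ∈ L := fun l => by
      rw [← hLcomap, Subgroup.mem_comap, Subgroup.mem_comap, map_mul, map_mul, map_inv]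
      exact Subgroup.mem_normalizer_iff.mp hy (f l)
    have hle : P.map (MulAut.conj x).toMonoidHom ≤ L := by
      rintro _ ⟨q, hq, rfl⟩
      exact (hxL q).mp (Subgroup.mem_sup_left hq)
    let PX : Sylow p L := Sylow.ofCard ((P.map (MulAut.conj x).toMonoidHom).subgroupOf L) (by
      rw [Nat.card_congr (Subgroup.subgroupOfEquivOfLe hle).toEquiv,
        Subgroup.card_map_of_injective (MulAut.conj x).injective, ← PL.card_eq_multiplicity]
      exact (Nat.card_congr (Subgroup.subgroupOfEquivOfLe le_sup_left).toEquiv).symm)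
    obtain ⟨⟨l, hl⟩, hle'⟩ := MulAction.exists_smul_eq L PX PL
    obtain ⟨q, hq, k, hk, rfl⟩ : ∃ q ∈ P, ∃ k ∈ N, l = q * k := by
      rw [← SetLike.mem_coe, hL, Subgroup.mul_normal] at hl
      obtain ⟨q, hq, k, hk, rfl⟩ := Set.mem_mul.mp hl
      exact ⟨q, hq, k, hk, rfl⟩
    have hconj : ∀ a ∈ P, q * k * x * a * (q * k * x)⁻¹ ∈ P := by
      intro a ha
      have h1 : (⟨q * k, hl⟩ : L) * ⟨x * a * x⁻¹, hle ⟨a, ha, rfl⟩⟩ * (⟨q * k, hl⟩ : L)⁻¹ ∈
          (((⟨q * k, hl⟩ : L) • PX : Sylow p L) : Subgroup L) :=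
        Subgroup.smul_mem_pointwise_smul _ (MulAut.conj (⟨q * k, hl⟩ : L)) _
          (show x * a * x⁻¹ ∈ P.map (MulAut.conj x).toMonoidHom from ⟨a, ha, rfl⟩)
      rw [hle'] at h1
      have h2 : q * k * (x * a * x⁻¹) * (q * k)⁻¹ ∈ P := h1
      rwa [show q * k * x * a * (q * k * x)⁻¹ = q * k * (x * a * x⁻¹) * (q * k)⁻¹ by group]
    have hkx : k * x ∈ Subgroup.normalizer (P : Set G) := by
      have h3 : q * k * x ∈ Subgroup.normalizer (P : Set G) := by
        rw [CfsgLib.Coprime.mem_normalizer_iff_conj_smul, CfsgLib.Coprime.conj_smul_eq_map]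
        refine Subgroup.eq_of_le_of_card_ge ?_ ?_
        · rintro _ ⟨a, ha, rfl⟩
          exact hconj a ha
        · rw [Subgroup.card_map_of_injective (MulAut.conj (q * k * x)).injective]
      have := mul_mem ((Subgroup.normalizer (P : Set G)).inv_mem (Subgroup.le_normalizer hq)) h3
      rwa [show q⁻¹ * (q * k * x) = k * x by group] at this
    exact ⟨k * x, hkx, by rw [map_mul, (hker k).mpr hk, one_mul]⟩
  refine ⟨hNor, le_antisymm (fun y hy => ?_) ?_⟩
  · have hy' : y ∈ Subgroup.normalizer ((P.map f : Subgroup (G ⧸ N)) : Set (G ⧸ N)) :=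
      Subgroup.centralizer_le_normalizer _ hy
    rw [hNor] at hy'
    obtain ⟨x, hx, rfl⟩ := hy'
    refine ⟨x, fun a ha => ?_, rfl⟩
    have h1 : x * a * x⁻¹ * a⁻¹ ∈ P ⊓ N := by
      refine ⟨mul_mem ((Subgroup.mem_normalizer_iff.mp hx a).mp ha) (P.inv_mem ha), (hker _).mp ?_⟩
      have h2 : f a * f x = f x * f a := hy (f a) (Subgroup.mem_map_of_mem f ha)
      rw [map_mul, map_mul, map_mul, map_inv, map_inv, ← h2]
      group
    rw [hNP, Subgroup.mem_bot] at h1
    exact ((mul_inv_eq_iff_eq_mul.mp (mul_inv_eq_one.mp h1))).symm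
  · rintro _ ⟨x, hx, rfl⟩ _ ⟨a, ha, rfl⟩
    rw [← map_mul, ← map_mul, hx a ha]

end Cfsg.Agent.S3800
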