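import Cfsg.Statements.S3802
import Mathlib
import Cfsg.Agent.Lib.Subnormal.Sup

set_option autoImplicit false
set_option linter.style.haveILetI false
open Cfsg

namespace Cfsg.Agent.S3802

/-- Let G be a finite group, M a maximal subgroup of G and N a subnormal subgroup of G contained in M. Then N is contained in every conjugate of M, that is, N lies in the core of M in G. -/
theorem result {G : Type*} [Group G] [Finite G] (M N : Subgroup G) (hM : IsCoatom M) (hN : N.IsSubnormal) (hNM : N ≤ M) :
    N ≤ Subgroup.normalCore M := by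
  classical
  set K := M.normalCore with hK
  set f := QuotientGroup.mk' K with hf
  have hsurj : Function.Surjective f := QuotientGroup.mk'_surjective _
  have hKM : K ≤ M := Subgroup.normalCore_le M
  have hcom : (M.map f).comap f = M := by
    rw [Subgroup.comap_map_eq, hf, QuotientGroup.ker_mk', sup_eq_left.mpr hKM]
  by_contra hne
  have hN' : N.map f ≠ ⊥ := by
    rw [Ne, Subgroup.map_eq_bot_iff, hf, QuotientGroup.ker_mk']
    exact hne
  have hMt : M.map f ≠ ⊤ := fun e => hM.1 (by rw [← hcom, e, Subgroup.comap_top])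
  obtain ⟨A, hA⟩ := Set.Finite.exists_minimal (Set.toFinite {A : Subgroup (G ⧸ K) | A.Normal ∧ A ≠ ⊥})
    ⟨⊤, inferInstance, fun e => hN' (le_bot_iff.mp (e ▸ le_top))⟩
  haveI := hA.prop.1
  have hAn := CfsgLib.Subnormal.minimal_normal_le_normalizer (hN.map hsurj) (N := A)
    (fun B hB hB1 hBA => le_antisymm hBA (hA.le_of_le ⟨hB, hB1⟩ hBA))
  have hAM : ¬ A ≤ M.map f := by
    intro h
    have h1 : A.comap f ≤ K := by
      exact Subgroup.normal_le_normalCore.mpr ((Subgroup.comap_mono h).trans hcom.le)
    apply hA.prop.2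
    rw [← Subgroup.map_comap_eq_self_of_surjective hsurj A, Subgroup.map_eq_bot_iff, hf,
      QuotientGroup.ker_mk']
    exact h1
  have htop : M.map f ⊔ A = ⊤ := by
    have hlt : M < M ⊔ A.comap f := lt_of_le_of_ne le_sup_left fun e => hAM (by
      rw [← Subgroup.map_comap_eq_self_of_surjective hsurj A]
      exact Subgroup.map_mono (le_sup_right.trans e.ge))
    have h2 := congrArg (Subgroup.map f) (hM.2 _ hlt)
    rwa [Subgroup.map_sup, Subgroup.map_comap_eq_self_of_surjective hsurj A,
      Subgroup.map_top_of_surjective f hsurj] at h2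
  have hle : Subgroup.normalClosure (N.map f : Set (G ⧸ K)) ≤ M.map f := by
    refine Subgroup.closure_le _ |>.mpr fun y hy => ?_
    obtain ⟨x, hx, hc⟩ := Group.mem_conjugatesOfSet_iff.mp hy
    obtain ⟨g, rfl⟩ := isConj_iff.mp hc
    have hg : g ∈ ((M.map f ⊔ A : Subgroup (G ⧸ K)) : Set (G ⧸ K)) := by rw [htop]; trivial
    rw [Subgroup.mul_normal] at hg
    obtain ⟨m, hm, a, ha, rfl⟩ := Set.mem_mul.mp hg
    have hax : a * x * a⁻¹ ∈ M.map f :=
      Subgroup.map_mono hNM ((Subgroup.mem_normalizer_iff.mp (hAn ha) x).mp hx)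
    have := mul_mem (mul_mem hm hax) ((M.map f).inv_mem hm)
    rwa [show m * (a * x * a⁻¹) * m⁻¹ = m * a * x * (m * a)⁻¹ by group] at this
  have h3 : (Subgroup.normalClosure (N.map f : Set (G ⧸ K))).comap f ≤ K := by
    exact Subgroup.normal_le_normalCore.mpr ((Subgroup.comap_mono hle).trans hcom.le)
  exact hne fun x hx => h3 (Subgroup.subset_normalClosure (Subgroup.mem_map_of_mem f hx))

end Cfsg.Agent.S3802
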