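import Cfsg.Statements.S3803
import Mathlib
import Cfsg.Agent.Lib.Coprime.Action
import Cfsg.Agent.Lib.HSub.Small
import Cfsg.Agent.Lib.Transfer.SmallElements
import Cfsg.Agent.Lib.Conjugacy.TransferAverage
import Cfsg.Agent.Lib.Spectrum.ThreePrimes
-- import your own Cfsg.Agent.* helpers here

set_option autoImplicit false
open Cfsg

namespace Cfsg.Agent.S3803

open CfsgLib

variable {X : Type*} [Group X] [Finite X]

theorem conj_map_eq {a : X} {Q : Subgroup X} (h : a ∈ Subgroup.normalizer (Q : Set X)) :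
    ∀ q, q ∈ Q ↔ a * q * a⁻¹ ∈ Q :=
  Subgroup.mem_normalizer_iff.mp h

/-- An element of odd order fixing every maximal subgroup of a `2`-group centralises it. -/
theorem centralizes_of_coatoms (Q : Subgroup X) (hQ : IsPGroup 2 Q) {a : X}
    (haQ : a ∈ Subgroup.normalizer (Q : Set X)) (ha : (orderOf a).Coprime 2)
    (h : ∀ M : Subgroup Q, IsCoatom M → a ∈ Subgroup.normalizer ((M.map Q.subtype : Subgroup X) : Set X)) :
    a ∈ Subgroup.centralizer (Q : Set X) := by
  classical
  haveI : Fact (Nat.Prime 2) := ⟨Nat.prime_two⟩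
  refine Coprime.le_centralizer_of_frattini (A := Subgroup.zpowers a) (Subgroup.zpowers_le.mpr haQ) ?_ ?_
    (Subgroup.mem_zpowers a)
  · rw [Nat.card_zpowers]
    obtain ⟨n, hn⟩ := IsPGroup.iff_card.mp (hQ.to_subgroup (frattini Q))
    rw [hn]
    exact ha.pow_right n
  · intro z hz k hk
    have hzQ : z ∈ Subgroup.normalizer (Q : Set X) := Subgroup.zpowers_le.mpr haQ hz
    have hk' : z * k * z⁻¹ ∈ Q := (conj_map_eq hzQ k).mp hk
    refine ⟨⟨z * k * z⁻¹, hk'⟩ * ⟨k, hk⟩⁻¹, ?_, rfl⟩
    show _ ∈ (frattini Q : Subgroup Q)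
    simp only [frattini, Order.radical, Subgroup.mem_iInf]
    intro M hM
    obtain ⟨hn, hi⟩ := Conjugacy.coatom_normal_index hQ hM
    haveI := hn
    have hzM : z ∈ Subgroup.normalizer ((M.map Q.subtype : Subgroup X) : Set X) :=
      Subgroup.zpowers_le.mpr (h M hM) hz
    have hiff : (⟨k, hk⟩ : Q) ∈ M ↔ (⟨z * k * z⁻¹, hk'⟩ : Q) ∈ M := by
      have e : ∀ q : Q, q ∈ M ↔ (q : X) ∈ M.map Q.subtype := fun q =>
        (Subgroup.mem_map_iff_mem Q.subtype_injective).symm
      rw [e, e]
      exact conj_map_eq hzM k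
    rw [Subgroup.mul_mem_iff_of_index_two hi, inv_mem_iff]
    exact hiff.symm


/-- Let P be a 2-subgroup and A a subgroup of odd order of a finite group, with A normalizing P. Let D ≤ P with 1 < |D| < |P|. If every subgroup of P of order |D|, and also every subgroup of P of order 4 in case |D| = 2, is normalized by A, then A centralizes P. -/
theorem result {X : Type*} [Group X] [Finite X] (P A D : Subgroup X) (hP : IsPGroup 2 P) (hA : Odd (Nat.card A))
    (hAP : A ≤ Subgroup.normalizer (P : Set X)) (hDP : D ≤ P) (hD1 : 1 < Nat.card D) (hD2 : Nat.card D < Nat.card P)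
    (hinv : ∀ E : Subgroup X, E ≤ P → (Nat.card E = Nat.card D ∨ (Nat.card D = 2 ∧ Nat.card E = 4)) → A ≤ Subgroup.normalizer (E : Set X)) :
    A ≤ Subgroup.centralizer (P : Set X) := by
  classical
  haveI : Fact (Nat.Prime 2) := ⟨Nat.prime_two⟩
  intro a ha
  obtain ⟨d, hd⟩ := (hP.to_le hDP).exists_card_eq
  obtain ⟨b, hb⟩ := hP.exists_card_eq
  have haP := hAP ha
  have hac : (orderOf a).Coprime 2 := (Nat.coprime_two_right).mpr
    (Odd.of_dvd_nat hA (Subgroup.orderOf_dvd_natCard A ha))
  have hdb : d < b := by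
    rw [hd, hb] at hD2
    exact (Nat.pow_lt_pow_iff_right (by norm_num)).mp hD2
  -- cyclic invariant subgroups are centralised
  have hcyc : ∀ Q : Subgroup X, Q ≤ P → IsCyclic Q → a ∈ Subgroup.normalizer (Q : Set X) →
      a ∈ Subgroup.centralizer (Q : Set X) := by
    intro Q hQ hQc haQ
    refine centralizes_of_coatoms Q (hP.to_le hQ) haQ hac fun M _ => ?_
    have hMQ : M.map Q.subtype ≤ Q := Subgroup.map_subtype_le _
    have hle : (M.map Q.subtype).map (MulAut.conj a).toMonoidHom ≤ Q := by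
      rintro _ ⟨q, hq, rfl⟩
      exact (conj_map_eq haQ q).mp (hMQ hq)
    have hcard : Nat.card ↥((M.map Q.subtype).map (MulAut.conj a).toMonoidHom) = Nat.card M := by
      rw [Subgroup.card_map_of_injective (MulAut.conj a).injective,
        Subgroup.card_map_of_injective Q.subtype_injective]
    have heq : (M.map Q.subtype).map (MulAut.conj a).toMonoidHom = M.map Q.subtype := by
      haveI := hQc
      refine CfsgLib.Spectrum.eq_of_card_eq_cyclic_aux hle hMQ ?_
      rw [hcard, Subgroup.card_map_of_injective Q.subtype_injective]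
    refine Subgroup.mem_normalizer_fintype fun q hq => ?_
    have h2 : a * q * a⁻¹ ∈ (M.map Q.subtype).map (MulAut.conj a).toMonoidHom := ⟨q, hq, rfl⟩
    rwa [heq] at h2
  -- subgroups of order `2 ^ d` are centralised
  have hsub : ∀ E : Subgroup X, E ≤ P → Nat.card E = 2 ^ d → a ∈ Subgroup.centralizer (E : Set X) := by
    intro E hE hEc
    obtain ⟨F, hEF, hFP, hFc⟩ := HSub.exists_between hP hE (m := d + 1)
      (by rw [hEc]; exact Nat.pow_le_pow_right (by norm_num) (by omega))
      (by rw [hb]; exact Nat.pow_le_pow_right (by norm_num) hdb)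
    have hFp := hP.to_le hFP
    have hMn : ∀ M : Subgroup F, IsCoatom M →
        a ∈ Subgroup.normalizer ((M.map F.subtype : Subgroup X) : Set X) := by
      intro M hM
      refine hinv _ ((Subgroup.map_subtype_le _).trans hFP) (Or.inl ?_) ha
      rw [Subgroup.card_map_of_injective F.subtype_injective, hd]
      have h2 := M.card_mul_index
      rw [(Conjugacy.coatom_normal_index hFp hM).2, hFc, pow_succ] at h2
      exact Nat.eq_of_mul_eq_mul_right (by norm_num) h2
    by_cases hc : IsCyclic F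
    · haveI : IsCyclic E := isCyclic_of_injective (Subgroup.inclusion hEF) (Subgroup.inclusion_injective _)
      exact hcyc E hE inferInstance (hinv E hE (Or.inl (by rw [hEc, hd])) ha)
    · haveI : Nontrivial F := Finite.one_lt_card_iff_nontrivial.mp (by
        rw [hFc]; exact Nat.one_lt_pow (by omega) (by norm_num))
      obtain ⟨M1, hM1, -⟩ := (eq_top_or_exists_le_coatom (⊥ : Subgroup F)).resolve_left bot_ne_top
      obtain ⟨x, hx⟩ : ∃ x : F, x ∉ M1 := by
        by_contra h
        push Not at h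
        exact hM1.1 (eq_top_iff.mpr fun x _ => h x)
      obtain ⟨M2, hM2, hxM2⟩ := (eq_top_or_exists_le_coatom (Subgroup.zpowers x)).resolve_left
        (fun e => hc ⟨x, fun y => Subgroup.mem_zpowers_iff.mp (e ▸ Subgroup.mem_top y)⟩)
      have hne : M1 ≠ M2 := fun e => hx (e.symm ▸ hxM2 (Subgroup.mem_zpowers x))
      have htop : M1 ⊔ M2 = ⊤ := hM1.2 _ (lt_of_le_of_ne le_sup_left fun e => by
        have h21 : M2 ≤ M1 := le_sup_right.trans_eq e.symm
        exact hM1.1 (hM2.2 M1 (lt_of_le_of_ne h21 hne.symm)))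
      have hFa : a ∈ Subgroup.normalizer (F : Set X) := by
        have e : (M1.map F.subtype) ⊔ (M2.map F.subtype) = F := by
          rw [← Subgroup.map_sup, htop, ← MonoidHom.range_eq_map, Subgroup.range_subtype]
        rw [← e]
        exact Coprime.le_normalizer_sup_of_le (A := Subgroup.zpowers a)
          (Subgroup.zpowers_le.mpr (hMn M1 hM1)) (Subgroup.zpowers_le.mpr (hMn M2 hM2))
          (Subgroup.mem_zpowers a)
      have h := centralizes_of_coatoms F hFp hFa hac hMn
      exact Subgroup.centralizer_le hEF h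
  refine Transfer.mem_centralizer_of_fixes_small hP haP hac fun x hx hxs => ?_
  obtain ⟨k, hk⟩ := IsPGroup.iff_orderOf.mp hP ⟨x, hx⟩
  rw [← Subgroup.orderOf_coe] at hk
  change orderOf x = 2 ^ k at hk
  have fin : ∀ Q : Subgroup X, x ∈ Q → a ∈ Subgroup.centralizer (Q : Set X) → a * x * a⁻¹ = x :=
    fun Q hxQ h => mul_inv_eq_iff_eq_mul.mpr (h x hxQ).symm
  have hk2 : k ≤ 2 := by
    have h4 : x ^ 4 = 1 := by
      rcases hxs with h | ⟨-, h⟩
      · rw [show (4 : ℕ) = 2 * 2 from rfl, pow_mul, h, one_pow]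
      · exact h
    have h5 := orderOf_dvd_of_pow_eq_one h4
    rw [hk] at h5
    exact (Nat.pow_dvd_pow_iff_le_right (show 1 < 2 by norm_num)).mp
      (show 2 ^ k ∣ 2 ^ 2 by simpa using h5)
  by_cases hkd : k ≤ d
  · obtain ⟨E, hxE, hEP, hEc⟩ := HSub.exists_between hP (Subgroup.zpowers_le.mpr hx) (m := d)
      (by rw [Nat.card_zpowers, hk]; exact Nat.pow_le_pow_right (by norm_num) hkd)
      (by rw [hb]; exact Nat.pow_le_pow_right (by norm_num) hdb.le)
    exact fin E (hxE (Subgroup.mem_zpowers x)) (hsub E hEP hEc)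
  · have hd0 : 0 < d := by
      by_contra h
      rw [hd, show d = 0 by omega] at hD1
      norm_num at hD1
    have hd1 : d = 1 := by omega
    have hkk : k = 2 := by omega
    refine fin _ (Subgroup.mem_zpowers x) (hcyc _ (Subgroup.zpowers_le.mpr hx) inferInstance
      (hinv _ (Subgroup.zpowers_le.mpr hx) (Or.inr ⟨?_, ?_⟩) ha))
    · rw [hd, hd1]; norm_num
    · rw [Nat.card_zpowers, hk, hkk]; norm_num

end Cfsg.Agent.S3803
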