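import Cfsg.Statements.S3804
import Mathlib
-- import your own Cfsg.Agent.* helpers here

set_option autoImplicit false
open Cfsg

namespace Cfsg.Agent.S3804

open Pointwise

/-- The size of a product set of two subgroups. -/
theorem ncard_mul_mul_card_inf {X : Type*} [Group X] [Finite X] (A B : Subgroup X) :
    ((A : Set X) * (B : Set X)).ncard * Nat.card ↥(A ⊓ B) = Nat.card A * Nat.card B := by
  classical
  have hset : (A : Set X) * (B : Set X) = QuotientGroup.mk ⁻¹' (MulAction.orbit A ((1 : X) : X ⧸ B)) := by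
    ext x
    constructor
    · rintro ⟨a, ha, b, hb, rfl⟩
      refine ⟨⟨a, ha⟩, ?_⟩
      show QuotientGroup.mk (a * 1) = QuotientGroup.mk (a * b)
      rw [QuotientGroup.eq]; simpa using hb
    · rintro ⟨⟨a, ha⟩, h⟩
      change QuotientGroup.mk (a * 1) = QuotientGroup.mk x at h
      rw [QuotientGroup.eq, mul_one] at h
      exact ⟨a, ha, a⁻¹ * x, h, by simp⟩
  have hst : MulAction.stabilizer A ((1 : X) : X ⧸ B) = B.subgroupOf A := by
    ext k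
    rw [MulAction.mem_stabilizer_iff, Subgroup.mem_subgroupOf]
    show QuotientGroup.mk ((k : X) * 1) = QuotientGroup.mk (1 : X) ↔ _
    rw [QuotientGroup.eq]; simp
  rw [hset, ← Nat.card_coe_set_eq, QuotientGroup.card_preimage_mk, Nat.card_coe_set_eq, ← MulAction.index_stabilizer,
    hst, mul_assoc, mul_comm (Nat.card A) (Nat.card B)]
  congr 1
  have h := (B.subgroupOf A).card_mul_index
  rw [← Nat.card_congr (Subgroup.subgroupOfEquivOfLe (inf_le_left : A ⊓ B ≤ A)).toEquiv,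
    Subgroup.inf_subgroupOf_left, mul_comm]
  exact h

/-- Let G and H be subgroups of a finite group with G normalizing H, fix a real number α > 0, and for a subgroup A of G put m(A) = |A|^α · |C_H(A)|. Let A and B be nontrivial subgroups of G at which m attains its maximum over all nontrivial subgroups of G, and assume that A ∩ B ≠ 1 or that this maximum is at least |H|. Then AB = BA is a subgroup at which m is again maximal, C_H(A ∩ B) = C_H(A) C_H(B), and if A ∩ B ≠ 1 then m is maximal at A ∩ B as well. -/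
theorem result {X : Type*} [Group X] [Finite X] (G H : Subgroup X) (hGH : G ≤ Subgroup.normalizer (H : Set X)) (α : ℝ) (hα : 0 < α)
    (A B : Subgroup X) (hA : A ≤ G) (hB : B ≤ G) (hA1 : A ≠ ⊥) (hB1 : B ≠ ⊥)
    (hAmax : ∀ A' : Subgroup X, A' ≤ G → A' ≠ ⊥ → (fun A : Subgroup X => ((Nat.card A : ℝ) ^ α) * (Nat.card ↥(H ⊓ Subgroup.centralizer (A : Set X)) : ℝ)) A' ≤ (fun A : Subgroup X => ((Nat.card A : ℝ) ^ α) * (Nat.card ↥(H ⊓ Subgroup.centralizer (A : Set X)) : ℝ)) A)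
    (hBmax : ∀ A' : Subgroup X, A' ≤ G → A' ≠ ⊥ → (fun A : Subgroup X => ((Nat.card A : ℝ) ^ α) * (Nat.card ↥(H ⊓ Subgroup.centralizer (A : Set X)) : ℝ)) A' ≤ (fun A : Subgroup X => ((Nat.card A : ℝ) ^ α) * (Nat.card ↥(H ⊓ Subgroup.centralizer (A : Set X)) : ℝ)) B)
    (hcase : A ⊓ B ≠ ⊥ ∨ (Nat.card H : ℝ) ≤ (fun A : Subgroup X => ((Nat.card A : ℝ) ^ α) * (Nat.card ↥(H ⊓ Subgroup.centralizer (A : Set X)) : ℝ)) A) :
    (∀ a ∈ A, ∀ b ∈ B, ∃ b' ∈ B, ∃ a' ∈ A, a * b = b' * a') ∧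
    (∀ A' : Subgroup X, A' ≤ G → A' ≠ ⊥ → (fun A : Subgroup X => ((Nat.card A : ℝ) ^ α) * (Nat.card ↥(H ⊓ Subgroup.centralizer (A : Set X)) : ℝ)) A' ≤ (fun A : Subgroup X => ((Nat.card A : ℝ) ^ α) * (Nat.card ↥(H ⊓ Subgroup.centralizer (A : Set X)) : ℝ)) (A ⊔ B)) ∧
    (∀ h ∈ H ⊓ Subgroup.centralizer ((A ⊓ B : Subgroup X) : Set X), ∃ u ∈ H ⊓ Subgroup.centralizer (A : Set X), ∃ v ∈ H ⊓ Subgroup.centralizer (B : Set X), h = u * v) ∧
    (A ⊓ B ≠ ⊥ → ∀ A' : Subgroup X, A' ≤ G → A' ≠ ⊥ → (fun A : Subgroup X => ((Nat.card A : ℝ) ^ α) * (Nat.card ↥(H ⊓ Subgroup.centralizer (A : Set X)) : ℝ)) A' ≤ (fun A : Subgroup X => ((Nat.card A : ℝ) ^ α) * (Nat.card ↥(H ⊓ Subgroup.centralizer (A : Set X)) : ℝ)) (A ⊓ B)) := by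
  classical
  let C : Subgroup X → Subgroup X := fun A => H ⊓ Subgroup.centralizer (A : Set X)
  let m : Subgroup X → ℝ := fun A => ((Nat.card A : ℝ) ^ α) * (Nat.card ↥(C A) : ℝ)
  have hpos : ∀ A : Subgroup X, (0 : ℝ) < Nat.card A := fun A => Nat.cast_pos.mpr Nat.card_pos
  have hmpos : ∀ A, 0 < m A := fun A => mul_pos (Real.rpow_pos_of_pos (hpos A) α) (hpos _)
  have hAB : m A = m B := le_antisymm (hBmax A hA hA1) (hAmax B hB hB1)
  have hJ1 : A ⊔ B ≠ ⊥ := fun h => hA1 (eq_bot_iff.mpr (h ▸ le_sup_left))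
  have hJ : m (A ⊔ B) ≤ m A := hAmax _ (sup_le hA hB) hJ1
  have hI : m (A ⊓ B) ≤ m A := by
    by_cases h : A ⊓ B = ⊥
    · rw [h]
      refine le_trans ?_ (hcase.resolve_left (fun h' => h' h))
      show ((Nat.card (⊥ : Subgroup X) : ℝ) ^ α) * (Nat.card ↥(C ⊥) : ℝ) ≤ Nat.card H
      rw [Subgroup.card_bot, Nat.cast_one, Real.one_rpow, one_mul]
      exact_mod_cast Subgroup.card_le_of_le inf_le_left
    · exact hAmax _ (inf_le_left.trans hA) h
  -- product sets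
  let P : Set X := (A : Set X) * (B : Set X)
  have hP : P ⊆ ((A ⊔ B : Subgroup X) : Set X) := by
    rintro _ ⟨a, ha, b, hb, rfl⟩
    exact Subgroup.mul_mem_sup ha hb
  let Q : Set X := (C A : Set X) * (C B : Set X)
  have hQ : Q ⊆ (C (A ⊓ B) : Set X) := by
    rintro _ ⟨u, hu, v, hv, rfl⟩
    refine mul_mem (S := Subgroup X) ⟨hu.1, ?_⟩ ⟨hv.1, ?_⟩
    · exact Subgroup.centralizer_le (fun x hx => hx.1) hu.2
    · exact Subgroup.centralizer_le (fun x hx => hx.2) hv.2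
  have hCJ : C A ⊓ C B = C (A ⊔ B) := by
    show (H ⊓ Subgroup.centralizer (A : Set X)) ⊓ (H ⊓ Subgroup.centralizer (B : Set X)) =
      H ⊓ Subgroup.centralizer ((A ⊔ B : Subgroup X) : Set X)
    rw [Subgroup.sup_eq_closure A B, Subgroup.centralizer_closure, ← inf_inf_distrib_left]
    congr 1
    ext x
    simp only [Subgroup.mem_inf, Subgroup.mem_centralizer_iff, Set.mem_union, SetLike.mem_coe]
    exact ⟨fun h y hy => hy.elim (h.1 y) (h.2 y), fun h => ⟨fun y hy => h y (Or.inl hy), fun y hy => h y (Or.inr hy)⟩⟩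
  have e1 : (P.ncard : ℝ) * Nat.card ↥(A ⊓ B) = Nat.card A * Nat.card B := by
    exact_mod_cast ncard_mul_mul_card_inf A B
  have e2 : (Q.ncard : ℝ) * Nat.card ↥(C (A ⊔ B)) = Nat.card ↥(C A) * Nat.card ↥(C B) := by
    rw [← hCJ]; exact_mod_cast ncard_mul_mul_card_inf (C A) (C B)
  have l1 : P.ncard ≤ Nat.card ↥(A ⊔ B) := by
    rw [← SetLike.coe_sort_coe, Nat.card_coe_set_eq]; exact Set.ncard_le_ncard hP (Set.toFinite _)
  have l2 : Q.ncard ≤ Nat.card ↥(C (A ⊓ B)) := by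
    rw [← SetLike.coe_sort_coe, Nat.card_coe_set_eq]; exact Set.ncard_le_ncard hQ (Set.toFinite _)
  have hprod : m (A ⊓ B) * m (A ⊔ B) =
      ((Nat.card ↥(A ⊓ B) : ℝ) * Nat.card ↥(A ⊔ B)) ^ α * ((Nat.card ↥(C (A ⊓ B)) : ℝ) * Nat.card ↥(C (A ⊔ B))) := by
    show ((Nat.card ↥(A ⊓ B) : ℝ) ^ α * (Nat.card ↥(C (A ⊓ B)) : ℝ)) * ((Nat.card ↥(A ⊔ B) : ℝ) ^ α * (Nat.card ↥(C (A ⊔ B)) : ℝ)) = _
    rw [Real.mul_rpow (hpos _).le (hpos _).le]; ring
  have hprod2 : m A * m B = ((P.ncard : ℝ) * Nat.card ↥(A ⊓ B)) ^ α * ((Q.ncard : ℝ) * Nat.card ↥(C (A ⊔ B))) := by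
    show ((Nat.card A : ℝ) ^ α * (Nat.card ↥(C A) : ℝ)) * ((Nat.card B : ℝ) ^ α * (Nat.card ↥(C B) : ℝ)) = _
    rw [e1, e2, Real.mul_rpow (hpos _).le (hpos _).le]; ring
  have hP0 : (0 : ℝ) < P.ncard := Nat.cast_pos.mpr ((Set.ncard_pos (Set.toFinite _)).mpr ⟨1, 1, one_mem A, 1, one_mem B, one_mul 1⟩)
  have hQ0 : (0 : ℝ) < Q.ncard := Nat.cast_pos.mpr ((Set.ncard_pos (Set.toFinite _)).mpr ⟨1, 1, one_mem (C A), 1, one_mem (C B), one_mul 1⟩)
  have l1' : (P.ncard : ℝ) * Nat.card ↥(A ⊓ B) ≤ (Nat.card ↥(A ⊓ B) : ℝ) * Nat.card ↥(A ⊔ B) := by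
    rw [mul_comm]; exact mul_le_mul_of_nonneg_left (Nat.cast_le.mpr l1) (hpos _).le
  have l2' : (Q.ncard : ℝ) * Nat.card ↥(C (A ⊔ B)) ≤ (Nat.card ↥(C (A ⊓ B)) : ℝ) * Nat.card ↥(C (A ⊔ B)) :=
    mul_le_mul_of_nonneg_right (Nat.cast_le.mpr l2) (hpos _).le
  have hge : m A * m B ≤ m (A ⊓ B) * m (A ⊔ B) := by
    rw [hprod, hprod2]
    exact mul_le_mul (Real.rpow_le_rpow (mul_pos hP0 (hpos _)).le l1' hα.le) l2'
      (mul_pos hQ0 (hpos _)).le (Real.rpow_pos_of_pos (mul_pos (hpos _) (hpos _)) α).le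
  have hmI : m (A ⊓ B) = m A := by
    refine le_antisymm hI ?_
    by_contra h
    push Not at h
    have := mul_lt_mul h hJ (hmpos _) (hmpos _).le
    rw [← hAB] at hge; linarith
  have hmJ : m (A ⊔ B) = m A := by
    refine le_antisymm hJ ?_
    rw [hmI, ← hAB] at hge
    exact le_of_mul_le_mul_left hge (hmpos A)
  have heq : m (A ⊓ B) * m (A ⊔ B) = m A * m B := by rw [hmI, hmJ, hAB]
  have hP' : P = ((A ⊔ B : Subgroup X) : Set X) := by
    refine Set.eq_of_subset_of_ncard_le hP ?_ (Set.toFinite _)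
    rw [← Nat.card_coe_set_eq, SetLike.coe_sort_coe]
    by_contra h
    push Not at h
    have h' : (P.ncard : ℝ) * Nat.card ↥(A ⊓ B) < (Nat.card ↥(A ⊓ B) : ℝ) * Nat.card ↥(A ⊔ B) := by
      rw [mul_comm]; exact mul_lt_mul_of_pos_left (Nat.cast_lt.mpr h) (hpos _)
    have := mul_lt_mul (Real.rpow_lt_rpow (mul_pos hP0 (hpos _)).le h' hα) l2' (mul_pos hQ0 (hpos _))
      (Real.rpow_pos_of_pos (mul_pos (hpos _) (hpos _)) α).le
    rw [← hprod, ← hprod2, heq] at this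
    exact lt_irrefl _ this
  have hQ' : Q = (C (A ⊓ B) : Set X) := by
    refine Set.eq_of_subset_of_ncard_le hQ ?_ (Set.toFinite _)
    rw [← Nat.card_coe_set_eq, SetLike.coe_sort_coe]
    by_contra h
    push Not at h
    have h' : (Q.ncard : ℝ) * Nat.card ↥(C (A ⊔ B)) < (Nat.card ↥(C (A ⊓ B)) : ℝ) * Nat.card ↥(C (A ⊔ B)) :=
      mul_lt_mul_of_pos_right (Nat.cast_lt.mpr h) (hpos _)
    have := mul_lt_mul' (Real.rpow_le_rpow (mul_pos hP0 (hpos _)).le l1' hα.le) h'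
      (mul_pos hQ0 (hpos _)).le (Real.rpow_pos_of_pos (mul_pos (hpos _) (hpos _)) α)
    rw [← hprod, ← hprod2, heq] at this
    exact lt_irrefl _ this
  refine ⟨fun a ha b hb => ?_, fun A' h1 h2 => (hAmax A' h1 h2).trans hmJ.ge, fun h hh => ?_,
    fun _ A' h1 h2 => (hAmax A' h1 h2).trans hmI.ge⟩
  · have h : (a * b)⁻¹ ∈ P := by rw [hP']; exact inv_mem (S := Subgroup X) (Subgroup.mul_mem_sup ha hb)
    obtain ⟨a', ha', b', hb', e⟩ := h
    refine ⟨b'⁻¹, inv_mem hb', a'⁻¹, inv_mem ha', ?_⟩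
    have := congrArg (·⁻¹) e
    simp only [mul_inv_rev, inv_inv] at this
    exact this.symm
  · obtain ⟨u, hu, v, hv, rfl⟩ := (hQ'.ge hh : h ∈ Q)
    exact ⟨u, hu, v, hv, rfl⟩

end Cfsg.Agent.S3804
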