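import Cfsg.Statements.S3806
import Cfsg.Agent.Lib.PGroup.MaximalClassSection
-- import your own Cfsg.Agent.* helpers here

set_option autoImplicit false
open Cfsg

namespace Cfsg.Agent.S3806

/-- Let p be a prime and S a finite p-group of order pⁿ (n ≥ 2) of maximal nilpotency class n − 1 whose sectional p-rank is exactly k (every section has p-rank at most k, and some section has p-rank k). If p ≥ k + 2 then the order of S is at most p^(2k). -/
theorem result {S : Type*} [Group S] [Finite S] (p : ℕ) [Fact p.Prime] (hS : IsPGroup p S) [Group.IsNilpotent S]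
    (n : ℕ) (hn : 2 ≤ n) (hcard : Nat.card S = p ^ n) (hmax : Group.nilpotencyClass S = n - 1)
    (k : ℕ) (hk : 1 ≤ k) (hsr : Cfsg.SectionalPRankLE p k S ∧ ¬ Cfsg.SectionalPRankLE p (k - 1) S)
    (hpk : k + 2 ≤ p) : Nat.card S ≤ p ^ (2 * k) := by
  classical
  have hp := (Fact.out : p.Prime)
  rw [hcard]
  refine Nat.pow_le_pow_right hp.pos ?_
  by_contra hlt
  push Not at hlt
  have hn3 : 3 ≤ n := by omega
  have hk1 : k ≠ 1 := by
    rintro rfl
    set N := (CfsgLib.Regular.gam 2 : Subgroup S)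
    have hcardN := CfsgLib.MaxClassSection.card_gam hcard hmax hn3 le_rfl (by omega)
    have hN : Nat.card (S ⧸ N) = p ^ 2 := by
      have := Subgroup.card_eq_card_quotient_mul_card_subgroup N
      rw [hcard, hcardN, show n = 2 + (n - 2) by omega, pow_add, Nat.add_sub_cancel_left] at this
      exact (Nat.eq_of_mul_eq_mul_right (pow_pos hp.pos _) this).symm
    have hexp := CfsgLib.MaxClassSection.pow_mem_gam hcard hmax hn3 2 le_rfl hp.two_le hn3
    let M : Subgroup ↥(⊤ : Subgroup S) := N.subgroupOf ⊤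
    have : M.Normal := Subgroup.normal_subgroupOf
    have hcomm : IsMulCommutative ↥(⊤ : Subgroup (↥(⊤ : Subgroup S) ⧸ M)) := by
      refine ⟨⟨fun a b => Subtype.ext ?_⟩⟩
      obtain ⟨a', ha⟩ := QuotientGroup.mk_surjective a.1
      obtain ⟨b', hb⟩ := QuotientGroup.mk_surjective b.1
      show a.1 * b.1 = b.1 * a.1
      rw [← ha, ← hb]
      refine commutatorElement_eq_one_iff_commute.mp
        ((map_commutatorElement (QuotientGroup.mk' M) a' b').symm.trans
          ((QuotientGroup.eq_one_iff _).mpr ?_))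
      exact Subgroup.mem_subgroupOf.mpr
        (CfsgLib.Regular.gam_comm (show (a' : S) ∈ CfsgLib.Regular.gam 1 by simp [CfsgLib.Regular.gam])
          (show (b' : S) ∈ CfsgLib.Regular.gam 1 by simp [CfsgLib.Regular.gam]))
    have h := hsr.1 ⊤ M ⊤ hcomm fun a _ => by
      obtain ⟨a', rfl⟩ := QuotientGroup.mk_surjective a
      rw [← QuotientGroup.mk_pow, QuotientGroup.eq_one_iff]
      exact Subgroup.mem_subgroupOf.mpr (hexp _)
    have hM : Nat.card (↥(⊤ : Subgroup S) ⧸ M) = p ^ 2 := by
      rw [← Subgroup.index_eq_card, ← Subgroup.relIndex, Subgroup.relIndex_top_right,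
        Subgroup.index_eq_card, hN]
    rw [Nat.card_congr Subgroup.topEquiv.toEquiv, hM, pow_one] at h
    exact absurd h (not_le.mpr (by nlinarith [hp.two_le]))
  have hk2 : 2 ≤ k := by omega
  set N := (CfsgLib.Regular.gam (2 * k + 1) : Subgroup S)
  set π := QuotientGroup.mk' N with hπ
  have hπs := QuotientGroup.mk'_surjective N
  have hmapN : (CfsgLib.Regular.gam (2 * k + 1) : Subgroup (S ⧸ N)) = ⊥ := by
    rw [← CfsgLib.MaxClassSection.gam_map π hπs, hπ, QuotientGroup.map_mk'_self]
  have hpow : ∀ x : S ⧸ N, x ^ p ∈ (CfsgLib.Regular.gam (k + 2) : Subgroup (S ⧸ N)) := by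
    intro x
    obtain ⟨x, rfl⟩ := hπs x
    rw [← CfsgLib.MaxClassSection.gam_map π hπs, ← map_pow]
    exact Subgroup.mem_map_of_mem _
      (CfsgLib.MaxClassSection.pow_mem_gam hcard hmax hn3 (k + 2) (by omega) hpk (by omega) x)
  set A := (CfsgLib.Regular.gam k : Subgroup S) with hA
  obtain ⟨s, hsA, hs'⟩ := SetLike.not_le_iff_exists.mp
    (CfsgLib.MaxClassSection.gam_not_le_succ hcard hmax hn3 hk2 (by omega))
  have hcent : ∀ u ∈ (CfsgLib.Regular.gam (k + 1) : Subgroup S), ∀ b ∈ A, Commute (π u) (π b) := by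
    intro u hu b hb
    refine commutatorElement_eq_one_iff_commute.mp ((map_commutatorElement π u b).symm.trans
      ((QuotientGroup.eq_one_iff _).mpr ?_))
    exact CfsgLib.Regular.gam_anti (by omega) (CfsgLib.Regular.gam_comm hu hb)
  have hscent : ∀ b ∈ A, Commute (π b) (π s) := by
    let H : Subgroup S := A ⊓ (Subgroup.centralizer ({π s} : Set (S ⧸ N))).comap π
    have hH : A ≤ H := CfsgLib.MaxClassSection.gam_le_of_mem hcard hmax hn3 hk2 (by omega)
      inf_le_left (fun u hu => ⟨CfsgLib.Regular.gam_anti (by omega) hu,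
        Subgroup.mem_centralizer_singleton_iff.mpr (hcent u hu s hsA).eq⟩)
      ⟨hsA, Subgroup.mem_centralizer_singleton_iff.mpr rfl⟩ hs'
    exact fun b hb => Subgroup.mem_centralizer_singleton_iff.mp (hH hb).2
  have hcommA : ∀ a ∈ A, ∀ b ∈ A, Commute (π a) (π b) := by
    intro a ha b hb
    let H : Subgroup S := A ⊓ (Subgroup.centralizer ({π b} : Set (S ⧸ N))).comap π
    have hH : A ≤ H := CfsgLib.MaxClassSection.gam_le_of_mem hcard hmax hn3 hk2 (by omega)
      inf_le_left (fun u hu => ⟨CfsgLib.Regular.gam_anti (by omega) hu,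
        Subgroup.mem_centralizer_singleton_iff.mpr (hcent u hu b hb).eq⟩)
      ⟨hsA, Subgroup.mem_centralizer_singleton_iff.mpr (hscent b hb).symm.eq⟩ hs'
    exact Subgroup.mem_centralizer_singleton_iff.mp (hH ha).2
  have hexp := CfsgLib.MaxClassSection.exponent_gam hk2 hpk hmapN hpow (by
    rw [← CfsgLib.MaxClassSection.gam_map π hπs]
    rintro _ ⟨a, ha, rfl⟩ _ ⟨b, hb, rfl⟩
    exact hcommA a ha b hb)
  let M : Subgroup ↥A := N.subgroupOf A
  have : M.Normal := Subgroup.normal_subgroupOf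
  have hcomm : IsMulCommutative ↥(⊤ : Subgroup (↥A ⧸ M)) := by
    refine ⟨⟨fun a b => Subtype.ext ?_⟩⟩
    obtain ⟨a', ha⟩ := QuotientGroup.mk_surjective a.1
    obtain ⟨b', hb⟩ := QuotientGroup.mk_surjective b.1
    show a.1 * b.1 = b.1 * a.1
    rw [← ha, ← hb]
    refine commutatorElement_eq_one_iff_commute.mp
      ((map_commutatorElement (QuotientGroup.mk' M) a' b').symm.trans
        ((QuotientGroup.eq_one_iff _).mpr ?_))
    refine Subgroup.mem_subgroupOf.mpr ((QuotientGroup.eq_one_iff _).mp ?_)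
    exact (map_commutatorElement π (a' : S) b').trans
      (commutatorElement_eq_one_iff_commute.mpr (hcommA _ a'.2 _ b'.2))
  have h := hsr.1 A M ⊤ hcomm fun a _ => by
    obtain ⟨a', rfl⟩ := QuotientGroup.mk_surjective a
    rw [← QuotientGroup.mk_pow, QuotientGroup.eq_one_iff]
    refine Subgroup.mem_subgroupOf.mpr ((QuotientGroup.eq_one_iff _).mp ?_)
    show π ((a' : S) ^ p) = 1
    rw [map_pow]
    refine hexp _ ?_
    rw [← CfsgLib.MaxClassSection.gam_map π hπs]
    exact Subgroup.mem_map_of_mem _ a'.2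
  have hcA : Nat.card ↥A = p ^ (n - k) :=
    CfsgLib.MaxClassSection.card_gam hcard hmax hn3 hk2 (by omega)
  have hcN : Nat.card ↥N = p ^ (n - (2 * k + 1)) :=
    CfsgLib.MaxClassSection.card_gam hcard hmax hn3 (by omega) hlt
  have hM : Nat.card (↥A ⧸ M) = p ^ (k + 1) := by
    have h1 := Subgroup.card_eq_card_quotient_mul_card_subgroup M
    rw [Nat.card_congr (Subgroup.subgroupOfEquivOfLe
        (CfsgLib.Regular.gam_anti (by omega) : N ≤ A)).toEquiv, hcA, hcN,
      show n - k = (k + 1) + (n - (2 * k + 1)) by omega, pow_add] at h1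
    exact (Nat.eq_of_mul_eq_mul_right (pow_pos hp.pos _) h1).symm
  rw [Nat.card_congr Subgroup.topEquiv.toEquiv, hM] at h
  exact absurd h (not_le.mpr (Nat.pow_lt_pow_right hp.one_lt (by omega)))
end Cfsg.Agent.S3806
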