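import Cfsg.Statements.S3807
import Cfsg.Agent.Lib.PGroup.MaximalClass
-- import your own Cfsg.Agent.* helpers here

set_option autoImplicit false
open Cfsg CfsgLib
open scoped commutatorElement

namespace Cfsg.Agent.S3807

/-- Let S be a non-abelian finite p-group with an abelian subgroup A of index p. Then [S : Z(S)] = p·#[S,S], and either [S,S] has order p, S/Z(S) is elementary abelian of order p², and S has exactly p + 1 abelian subgroups of index p; or [S,S] has order at least p² and A is the only abelian subgroup of index p in S. -/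
theorem result {S : Type*} [Group S] [Finite S] (p : ℕ) [Fact p.Prime] (hS : IsPGroup p S) (hna : ¬ IsMulCommutative S)
    (A : Subgroup S) (hA : IsMulCommutative ↥A) (hAi : A.index = p) :
    (Subgroup.center S).index = p * Nat.card (commutator S) ∧
      ((Nat.card (commutator S) = p ∧ Cfsg.IsElementaryAbelian p (⊤ : Subgroup (S ⧸ Subgroup.center S)) ∧
          Nat.card (S ⧸ Subgroup.center S) = p ^ 2 ∧
          Nat.card {B : Subgroup S // IsMulCommutative ↥B ∧ B.index = p} = p + 1) ∨
        (p ^ 2 ≤ Nat.card (commutator S) ∧ ∀ B : Subgroup S, IsMulCommutative ↥B → B.index = p → B = A)) := by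
  classical
  have hp : p.Prime := Fact.out
  have hAn : A.Normal := Subgroup.normal_of_index_eq_minFac_card (by
    obtain ⟨n, hn⟩ := IsPGroup.iff_card.mp hS
    rcases n with _ | n
    · exfalso
      have : Subsingleton S := (Nat.card_eq_one_iff_unique.mp (by simpa using hn)).1
      exact hna ⟨⟨fun a b => Subsingleton.elim _ _⟩⟩
    · rw [hn, Nat.pow_minFac n.succ_ne_zero, hp.minFac_eq, hAi])
  have hcomm : ∀ a ∈ A, ∀ b ∈ A, a * b = b * a := fun a ha b hb => congrArg Subtype.val (hA.is_comm.comm (⟨a, ha⟩ : A) ⟨b, hb⟩)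
  obtain ⟨x, hxA⟩ : ∃ x, x ∉ A := by
    by_contra! h
    rw [show A = ⊤ from eq_top_iff.mpr fun y _ => h y, Subgroup.index_top] at hAi
    exact hp.ne_one hAi.symm
  have hgen : ∀ B : Subgroup S, A ≤ B → x ∈ B → B = ⊤ := fun B hB hx => by
    have h := Subgroup.relIndex_mul_index hB
    rw [hAi] at h
    rcases hp.eq_one_or_self_of_dvd B.index (Dvd.intro_left _ h) with e | e
    · exact Subgroup.index_eq_one.mp e
    · rw [e, mul_eq_right₀ hp.ne_zero, Subgroup.relIndex_eq_one] at h
      exact absurd (h hx) hxA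
  have hZA : Subgroup.center S ≤ A := by
    intro z hz
    by_contra hzA
    refine hna ⟨⟨fun u v => ?_⟩⟩
    have h := Subgroup.relIndex_mul_index (le_sup_left : A ≤ A ⊔ Subgroup.zpowers z)
    rw [hAi] at h
    have htop : A ⊔ Subgroup.zpowers z = ⊤ := by
      rcases hp.eq_one_or_self_of_dvd _ (Dvd.intro_left _ h) with e | e
      · exact Subgroup.index_eq_one.mp e
      · rw [e, mul_eq_right₀ hp.ne_zero, Subgroup.relIndex_eq_one] at h
        exact absurd (h (Subgroup.mem_sup_right (Subgroup.mem_zpowers z))) hzA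
    have hc : A ⊔ Subgroup.zpowers z ≤ Subgroup.centralizer (A : Set S) := sup_le
      (fun a ha => Subgroup.mem_centralizer_iff.mpr fun b hb => hcomm b hb a ha)
      (Subgroup.zpowers_le.mpr (Subgroup.mem_centralizer_iff.mpr fun b _ => (Subgroup.mem_center_iff.mp hz b)))
    have hA' : A ≤ Subgroup.center S := fun a ha => Subgroup.mem_center_iff.mpr fun g =>
      (Subgroup.mem_centralizer_iff.mp (hc (htop ▸ Subgroup.mem_top g)) a ha).symm
    have hall : (⊤ : Subgroup S) ≤ Subgroup.center S := htop ▸ sup_le hA' (Subgroup.zpowers_le.mpr hz)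
    exact (Subgroup.mem_center_iff.mp (hall (Subgroup.mem_top v)) u)
  let φ : A →* S :=
    { toFun := fun a => ⁅(a : S), x⁆
      map_one' := commutatorElement_one_left _
      map_mul' := fun a b => by
        show ⁅(a : S) * b, x⁆ = ⁅(a : S), x⁆ * ⁅(b : S), x⁆
        have hb : ⁅(b : S), x⁆ ∈ A := by
          rw [commutatorElement_def, mul_assoc, mul_assoc]
          refine mul_mem b.2 ?_
          rw [← mul_assoc]
          exact hAn.conj_mem _ (inv_mem b.2) x
        have ha : ⁅(a : S), x⁆ ∈ A := by
          rw [commutatorElement_def, mul_assoc, mul_assoc]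
          refine mul_mem a.2 ?_
          rw [← mul_assoc]
          exact hAn.conj_mem _ (inv_mem a.2) x
        rw [commutatorElement_mul_left_eq_conj_mul, hcomm a a.2 _ hb, mul_inv_cancel_right, hcomm _ hb _ ha] }
  have hrangeA : φ.range ≤ A := by
    rintro _ ⟨a, rfl⟩
    show ⁅(a : S), x⁆ ∈ A
    rw [commutatorElement_def, mul_assoc, mul_assoc]
    refine mul_mem a.2 ?_
    rw [← mul_assoc]
    exact hAn.conj_mem _ (inv_mem a.2) x
  have hrn : φ.range.Normal := by
    refine Subgroup.normalizer_eq_top_iff.mp (hgen _ (fun a ha => ?_) ?_)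
    · exact Subgroup.mem_normalizer_iff.mpr fun y => by
        constructor
        · intro hy
          rw [hcomm a ha y (hrangeA hy), mul_inv_cancel_right]; exact hy
        · intro hy
          have hyA : y ∈ A := by
            have := hAn.conj_mem _ (hrangeA hy) a⁻¹
            simpa [mul_assoc] using this
          rwa [hcomm a ha y hyA, mul_inv_cancel_right] at hy
    · have hfw : ∀ y ∈ φ.range, x * y * x⁻¹ ∈ φ.range := by
        rintro _ ⟨a, rfl⟩
        refine ⟨⟨x * a * x⁻¹, hAn.conj_mem _ a.2 x⟩, ?_⟩
        show ⁅x * (a : S) * x⁻¹, x⁆ = x * ⁅(a : S), x⁆ * x⁻¹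
        simp only [commutatorElement_def]; group
      let ψ : φ.range → φ.range := fun y => ⟨x * y * x⁻¹, hfw y y.2⟩
      have hψ : Function.Surjective ψ := Finite.injective_iff_surjective.mp fun u v e => Subtype.ext (by
        simpa [ψ] using congrArg Subtype.val e)
      refine Subgroup.mem_normalizer_iff.mpr fun y => ⟨hfw y, fun hy => ?_⟩
      obtain ⟨w, hw⟩ := hψ ⟨_, hy⟩
      have hw' : x * (w : S) * x⁻¹ = x * y * x⁻¹ := congrArg Subtype.val hw
      rw [← mul_left_cancel (mul_right_cancel hw')]; exact w.2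
  have hcom : commutator S = φ.range := by
    refine le_antisymm ?_ ?_
    · rw [commutator_def, Subgroup.commutator_le]
      intro u _ v _
      rw [← QuotientGroup.eq_one_iff, ← QuotientGroup.mk'_apply, map_commutatorElement, commutatorElement_eq_one_iff_mul_comm]
      let f := QuotientGroup.mk' φ.range
      have hx' : ∀ a ∈ A, f a * f x = f x * f a := fun a ha => by
        rw [← commutatorElement_eq_one_iff_mul_comm, ← map_commutatorElement]
        exact (QuotientGroup.eq_one_iff _).mpr ⟨⟨a, ha⟩, rfl⟩
      have hA1 : A ≤ (Subgroup.centralizer {f x}).comap f := fun a ha =>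
        Subgroup.mem_centralizer_singleton_iff.mpr (hx' a ha)
      have hAc : ∀ a ∈ A, ∀ g, f g * f a = f a * f g := fun a ha g => by
        have h1 : A ≤ (Subgroup.centralizer {f a}).comap f := fun b hb => Subgroup.mem_centralizer_singleton_iff.mpr (by rw [← map_mul, hcomm b hb a ha, map_mul])
        exact Subgroup.mem_centralizer_singleton_iff.mp
          ((hgen _ h1 (Subgroup.mem_centralizer_singleton_iff.mpr (hx' a ha).symm)).ge (Subgroup.mem_top g))
      have hxc : ∀ g, f g * f x = f x * f g := fun g => Subgroup.mem_centralizer_singleton_iff.mp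
        ((hgen _ hA1 (Subgroup.mem_centralizer_singleton_iff.mpr rfl)).ge (Subgroup.mem_top g))
      have hv : v ∈ (Subgroup.center (S ⧸ φ.range)).comap f := (hgen ((Subgroup.center (S ⧸ φ.range)).comap f)
        (fun a ha => Subgroup.mem_center_iff.mpr fun g => by
          obtain ⟨g, rfl⟩ := QuotientGroup.mk'_surjective _ g; exact hAc a ha g)
        (Subgroup.mem_center_iff.mpr fun g => by
          obtain ⟨g, rfl⟩ := QuotientGroup.mk'_surjective _ g; exact hxc g)).ge (Subgroup.mem_top v)
      exact Subgroup.mem_center_iff.mp hv (f u)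
    · rintro _ ⟨a, rfl⟩
      exact Subgroup.commutator_mem_commutator (Subgroup.mem_top _) (Subgroup.mem_top _)
  have hker : φ.ker = (Subgroup.center S).subgroupOf A := by
    ext a
    rw [MonoidHom.mem_ker, Subgroup.mem_subgroupOf]
    show ⁅(a : S), x⁆ = 1 ↔ _
    rw [commutatorElement_eq_one_iff_mul_comm]
    refine ⟨fun h => Subgroup.mem_center_iff.mpr fun g => ?_, fun h => (Subgroup.mem_center_iff.mp h x).symm⟩
    have : Subgroup.centralizer {(a : S)} = ⊤ := hgen _
      (fun b hb => Subgroup.mem_centralizer_singleton_iff.mpr (hcomm b hb a a.2))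
      (Subgroup.mem_centralizer_singleton_iff.mpr h.symm)
    exact Subgroup.mem_centralizer_singleton_iff.mp (this ▸ Subgroup.mem_top g)
  have hidx : (Subgroup.center S).index = p * Nat.card (commutator S) := by
    rw [hcom, ← Subgroup.index_ker, hker, mul_comm, ← hAi]
    exact (Subgroup.relIndex_mul_index hZA).symm
  refine ⟨hidx, ?_⟩
  have hother : ∀ B : Subgroup S, IsMulCommutative ↥B → B.index = p → B ≠ A → (Subgroup.center S).index ≤ p * p := by
    intro B hB hBi hne
    have hBA : ¬ B ≤ A := fun h => hne (Subgroup.eq_of_le_of_card_ge h (le_of_eq (by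
      have h1 := A.card_mul_index; have h2 := B.card_mul_index
      rw [hAi] at h1; rw [hBi] at h2
      exact Nat.eq_of_mul_eq_mul_right hp.pos (h1.trans h2.symm))))
    obtain ⟨b, hb, hbA⟩ := SetLike.not_le_iff_exists.mp hBA
    have hle : A ⊓ B ≤ Subgroup.center S := fun c hc => Subgroup.mem_center_iff.mpr fun g => by
      have h := Subgroup.relIndex_mul_index (le_sup_left : A ≤ A ⊔ B)
      rw [hAi] at h
      have htop : A ⊔ B = ⊤ := by
        rcases hp.eq_one_or_self_of_dvd _ (Dvd.intro_left _ h) with e | e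
        · exact Subgroup.index_eq_one.mp e
        · rw [e, mul_eq_right₀ hp.ne_zero, Subgroup.relIndex_eq_one] at h
          exact absurd (h (Subgroup.mem_sup_right hb)) hbA
      have hcc : A ⊔ B ≤ Subgroup.centralizer {c} := sup_le
        (fun a ha => Subgroup.mem_centralizer_singleton_iff.mpr (hcomm a ha c hc.1))
        (fun b hb => Subgroup.mem_centralizer_singleton_iff.mpr
          (congrArg Subtype.val (hB.is_comm.comm (⟨b, hb⟩ : B) ⟨c, hc.2⟩)))
      exact Subgroup.mem_centralizer_singleton_iff.mp (hcc (htop ▸ Subgroup.mem_top g))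
    refine le_trans (Nat.le_of_dvd ?_ (Subgroup.index_dvd_of_le hle)) ?_
    · exact Nat.pos_of_ne_zero Subgroup.index_ne_zero_of_finite
    · calc (A ⊓ B).index ≤ A.index * B.index := Subgroup.index_inf_le
        _ = p * p := by rw [hAi, hBi]
  obtain ⟨k, hk⟩ := IsPGroup.iff_card.mp (hS.to_subgroup (commutator S))
  rcases Nat.lt_or_ge k 2 with hk2 | hk2
  · left
    have hk1 : k = 1 := by
      rcases (show k = 0 ∨ k = 1 by omega) with rfl | rfl
      · exfalso
        have hb : commutator S = ⊥ := Subgroup.eq_bot_of_card_eq _ (by simpa using hk)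
        refine hna ⟨⟨fun u v => ?_⟩⟩
        have h1 : ⁅u, v⁆ = 1 := Subgroup.mem_bot.mp (hb ▸ Subgroup.commutator_mem_commutator (Subgroup.mem_top u) (Subgroup.mem_top v))
        exact commutatorElement_eq_one_iff_mul_comm.mp h1
      · rfl
    subst hk1
    rw [pow_one] at hk
    have hQ : Nat.card (S ⧸ Subgroup.center S) = p ^ 2 := by rw [← Subgroup.index_eq_card, hidx, hk, pow_two]
    have hQc : IsMulCommutative (S ⧸ Subgroup.center S) := ⟨⟨(IsPGroup.commGroupOfCardEqPrimeSq hQ).mul_comm⟩⟩
    have hexp : ∀ q : S ⧸ Subgroup.center S, q ^ p = 1 := by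
      intro q
      by_contra hq
      obtain ⟨d, hd, hd'⟩ := (Nat.dvd_prime_pow hp).mp (hQ ▸ orderOf_dvd_natCard q)
      have hd2 : d = 2 := by
        by_contra hne
        refine hq (orderOf_dvd_iff_pow_eq_one.mp (hd' ▸ ?_))
        conv_rhs => rw [← pow_one p]
        exact pow_dvd_pow p (by omega)
      have hcyc : IsCyclic (S ⧸ Subgroup.center S) := isCyclic_of_orderOf_eq_card q (by rw [hd', hd2, hQ])
      exact hna ⟨⟨fun a b => commutative_of_cyclic_center_quotient (QuotientGroup.mk' (Subgroup.center S))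
        (by rw [QuotientGroup.ker_mk']) a b⟩⟩
    refine ⟨hk, ⟨⟨⟨fun a b => Subtype.ext (hQc.is_comm.comm (a : S ⧸ Subgroup.center S) b)⟩⟩, fun q _ => hexp q⟩, hQ, ?_⟩
    rw [← MaxClass.card_lines hQ hexp]
    let f := QuotientGroup.mk' (Subgroup.center S)
    have hf : Function.Surjective f := QuotientGroup.mk'_surjective _
    have hcZ : ∀ B : Subgroup S, IsMulCommutative ↥B → B.index = p → Subgroup.center S ≤ B := by
      intro B hB hBi z hz
      by_contra hzB
      have h := Subgroup.relIndex_mul_index (le_sup_left : B ≤ B ⊔ Subgroup.zpowers z)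
      rw [hBi] at h
      have htop : B ⊔ Subgroup.zpowers z = ⊤ := by
        rcases hp.eq_one_or_self_of_dvd _ (Dvd.intro_left _ h) with e | e
        · exact Subgroup.index_eq_one.mp e
        · rw [e, mul_eq_right₀ hp.ne_zero, Subgroup.relIndex_eq_one] at h
          exact absurd (h (Subgroup.mem_sup_right (Subgroup.mem_zpowers z))) hzB
      have hBc : B ≤ Subgroup.center S := fun b hb => Subgroup.mem_center_iff.mpr fun g => by
        have hcc : B ⊔ Subgroup.zpowers z ≤ Subgroup.centralizer {b} := sup_le
          (fun c hc => Subgroup.mem_centralizer_singleton_iff.mpr (congrArg Subtype.val (hB.is_comm.comm (⟨c, hc⟩ : B) ⟨b, hb⟩)))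
          (Subgroup.zpowers_le.mpr (Subgroup.mem_centralizer_singleton_iff.mpr (Subgroup.mem_center_iff.mp hz b).symm))
        exact Subgroup.mem_centralizer_singleton_iff.mp (hcc (htop ▸ Subgroup.mem_top g))
      have hall : (⊤ : Subgroup S) ≤ Subgroup.center S := htop ▸ sup_le hBc (Subgroup.zpowers_le.mpr hz)
      exact hna ⟨⟨fun u v => Subgroup.mem_center_iff.mp (hall (Subgroup.mem_top v)) u⟩⟩
    refine Nat.card_congr
      { toFun := fun B => ⟨B.1.map f, ?_⟩
        invFun := fun L => ⟨L.1.comap f, ?_, ?_⟩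
        left_inv := fun B => Subtype.ext (Subgroup.comap_map_eq_self (by rw [QuotientGroup.ker_mk']; exact hcZ B.1 B.2.1 B.2.2))
        right_inv := fun L => Subtype.ext (Subgroup.map_comap_eq_self_of_surjective hf L.1) }
    · have h := (B.1.map f).card_mul_index
      rw [Subgroup.index_map_eq _ hf (by rw [QuotientGroup.ker_mk']; exact hcZ B.1 B.2.1 B.2.2), B.2.2, hQ, pow_two] at h
      exact Nat.eq_of_mul_eq_mul_right hp.pos h
    · have : IsCyclic L.1 := isCyclic_of_prime_card L.2
      let g : (L.1.comap f) →* L.1 := (f.comp (L.1.comap f).subtype).codRestrict L.1 fun b => b.2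
      refine ⟨⟨fun a b => commutative_of_cyclic_center_quotient g ?_ a b⟩⟩
      intro a ha
      refine Subgroup.mem_center_iff.mpr fun b => Subtype.ext ?_
      have hz : (a : S) ∈ Subgroup.center S := (QuotientGroup.eq_one_iff _).mp (congrArg Subtype.val (MonoidHom.mem_ker.mp ha))
      exact Subgroup.mem_center_iff.mp hz b
    · rw [Subgroup.index_comap_of_surjective _ hf]
      have h := L.1.card_mul_index
      rw [L.2, hQ, pow_two] at h
      exact Nat.eq_of_mul_eq_mul_left hp.pos h
  · right
    refine ⟨hk ▸ Nat.pow_le_pow_right hp.pos hk2, fun B hB hBi => by_contra fun hne => ?_⟩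
    have h := hother B hB hBi hne
    rw [hidx, hk] at h
    have h2 : p ^ 2 ≤ p ^ k := Nat.pow_le_pow_right hp.pos hk2
    have := hp.two_le
    nlinarith

end Cfsg.Agent.S3807
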