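import Cfsg.Statements.S3808
import Cfsg.Agent.Lib.Extraspecial.Basics

set_option autoImplicit false
open Cfsg
open scoped commutatorElement

namespace Cfsg.Agent.S3808

/-- Let S be a finite p-group with an extraspecial subgroup Q of index p. Then either Z(S) = Z(Q), or S = Q·Z(S) and Z(S) has order p². -/
theorem result {S : Type*} [Group S] [Finite S] (p : ℕ) [Fact p.Prime] (hS : IsPGroup p S) (Q : Subgroup S) (hQ : Cfsg.IsExtraspecial p ↥Q) (hQi : Q.index = p) :
    Subgroup.center S = (Subgroup.center ↥Q).map Q.subtype ∨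
      (Q ⊔ Subgroup.center S = ⊤ ∧ Nat.card (Subgroup.center S) = p ^ 2) := by
  haveI : Group.IsNilpotent S := hS.isNilpotent
  have hQn : Q.Normal := Subgroup.NormalizerCondition.normal_of_coatom Q
    (Group.normalizerCondition_of_isNilpotent (G := S)) ⟨fun h => by
      rw [h, Subgroup.index_top] at hQi
      exact (Fact.out : p.Prime).one_lt.ne hQi, fun K hK => by
      rw [← Subgroup.index_eq_one]
      refine ((Nat.dvd_prime Fact.out).mp (hQi ▸ Subgroup.index_dvd_of_le hK.le)).resolve_right fun e => ?_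
      have h1 := Subgroup.relIndex_mul_index hK.le
      rw [e, hQi] at h1
      exact hK.not_ge (Subgroup.relIndex_eq_one.mp
        (Nat.eq_of_mul_eq_mul_right (Fact.out : p.Prime).pos (h1.trans (one_mul p).symm)))⟩
  set Zq := (Subgroup.center ↥Q).map Q.subtype with hZq
  haveI : Zq.Normal := by rw [hZq]; infer_instance
  have hcard : Nat.card Zq = p := by
    rw [hZq, Subgroup.card_map_of_injective Q.subtype_injective, hQ.2]
  have hsmall : Zq ≤ Subgroup.center S := by
    have hne : Zq ≠ ⊥ := fun e => by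
      rw [e, Subgroup.card_bot] at hcard
      exact (Fact.out : p.Prime).one_lt.ne hcard
    have h2 := CfsgLib.Critical.inf_center_ne_bot Zq hne
    have h3 : Zq ⊓ Subgroup.center S = Zq := by
      refine Subgroup.eq_of_le_of_card_ge inf_le_left ?_
      rw [hcard]
      have h4 := Subgroup.card_dvd_of_le (inf_le_left : Zq ⊓ Subgroup.center S ≤ Zq)
      rw [hcard] at h4
      rcases (Nat.dvd_prime Fact.out).mp h4 with e | e
      · exact absurd (Subgroup.eq_bot_of_card_eq _ e) h2
      · exact e.ge
    exact h3 ▸ inf_le_right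
  have hint : Q ⊓ Subgroup.center S = Zq := by
    refine le_antisymm ?_ (le_inf (Subgroup.map_subtype_le _) hsmall)
    rintro a ⟨ha, haZ⟩
    exact ⟨⟨a, ha⟩, Subgroup.mem_center_iff.mpr fun g => Subtype.ext
      (Subgroup.mem_center_iff.mp haZ g), rfl⟩
  by_cases hle : Subgroup.center S ≤ Q
  · left
    rw [← hint, inf_eq_right.mpr hle]
  right
  have htop : Q ⊔ Subgroup.center S = ⊤ := by
    rw [← Subgroup.index_eq_one]
    refine ((Nat.dvd_prime Fact.out).mp
      (hQi ▸ Subgroup.index_dvd_of_le (le_sup_left : Q ≤ Q ⊔ Subgroup.center S))).resolve_right fun e => hle ?_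
    have h1 := Subgroup.relIndex_mul_index (le_sup_left : Q ≤ Q ⊔ Subgroup.center S)
    rw [e, hQi] at h1
    exact le_sup_right.trans (Subgroup.relIndex_eq_one.mp
      (Nat.eq_of_mul_eq_mul_right (Fact.out : p.Prime).pos (h1.trans (one_mul p).symm)))
  refine ⟨htop, ?_⟩
  have h1 : Q.relIndex (Subgroup.center S) = p := by
    rw [← Subgroup.relIndex_sup_right, sup_comm, htop, Subgroup.relIndex_top_right, hQi]
  have h2 := Subgroup.relIndex_mul_relIndex ⊥ (Q ⊓ Subgroup.center S) (Subgroup.center S) bot_le inf_le_right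
  rw [Subgroup.relIndex_bot_left, Subgroup.relIndex_bot_left, hint, hcard, ← hint,
    Subgroup.inf_relIndex_right, h1] at h2
  rw [← h2, sq]

end Cfsg.Agent.S3808
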