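import Cfsg.Statements.S3809
import Cfsg.Agent.Lib.Extraspecial.Basics

set_option autoImplicit false
open Cfsg
open scoped commutatorElement

namespace Cfsg.Agent.S3809

/-- Let S be a finite p-group with an extraspecial subgroup of index p. Then S has order p^(2+2n) for some n ≥ 1, derived length at most 3, and exponent dividing p³. -/
theorem result {S : Type*} [Group S] [Finite S] (p : ℕ) [Fact p.Prime] (hS : IsPGroup p S) (Q : Subgroup S) (hQ : Cfsg.IsExtraspecial p ↥Q) (hQi : Q.index = p) :
    (∃ n : ℕ, 1 ≤ n ∧ Nat.card S = p ^ (2 + 2 * n)) ∧ derivedSeries S 3 = ⊥ ∧ ∀ x : S, x ^ (p ^ 3) = 1 := by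
  have hp : p.Prime := Fact.out
  haveI : Group.IsNilpotent S := hS.isNilpotent
  haveI hQn : Q.Normal := Subgroup.NormalizerCondition.normal_of_coatom Q
    (Group.normalizerCondition_of_isNilpotent (G := S)) ⟨fun h => by
      rw [h, Subgroup.index_top] at hQi
      exact hp.one_lt.ne hQi, fun K hK => by
      rw [← Subgroup.index_eq_one]
      refine ((Nat.dvd_prime hp).mp (hQi ▸ Subgroup.index_dvd_of_le hK.le)).resolve_right fun e => ?_
      have h1 := Subgroup.relIndex_mul_index hK.le
      rw [e, hQi] at h1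
      exact hK.not_ge (Subgroup.relIndex_eq_one.mp
        (Nat.eq_of_mul_eq_mul_right hp.pos (h1.trans (one_mul p).symm)))⟩
  obtain ⟨n, hn, hcard⟩ := CfsgLib.Extraspecial.card_eq _ _ hQ rfl
  have hpow : ∀ x : S, x ^ p ∈ Q := fun x => by
    rw [← QuotientGroup.eq_one_iff, QuotientGroup.mk_pow, ← hQi, Subgroup.index_eq_card]
    exact pow_card_eq_one'
  refine ⟨⟨n, hn, ?_⟩, ?_, fun x => ?_⟩
  · rw [← Q.card_mul_index, hcard, hQi]; ring
  · have h1 : derivedSeries S 1 ≤ Q := by
      haveI : IsCyclic (S ⧸ Q) := isCyclic_of_prime_card (p := p) (by rw [← Subgroup.index_eq_card, hQi])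
      letI := IsCyclic.commGroup (α := S ⧸ Q)
      rw [derivedSeries_succ, derivedSeries_zero, Subgroup.commutator_le]
      intro a _ b _
      rw [← QuotientGroup.ker_mk' Q, MonoidHom.mem_ker, map_commutatorElement,
        commutatorElement_eq_one_iff_mul_comm, mul_comm]
    have h2 : derivedSeries S 2 ≤ (Subgroup.center Q).map Q.subtype := by
      rw [derivedSeries_succ]
      refine (Subgroup.commutator_mono h1 h1).trans ?_
      rw [← hQ.1.2.2, commutator_def, Subgroup.map_commutator, ← MonoidHom.range_eq_map,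
        Subgroup.range_subtype]
    rw [derivedSeries_succ, eq_bot_iff]
    refine (Subgroup.commutator_mono h2 h2).trans ?_
    rw [← Subgroup.map_commutator, le_bot_iff, Subgroup.map_eq_bot_iff]
    refine le_trans (le_of_eq ?_) bot_le
    rw [Subgroup.commutator_eq_bot_iff_le_centralizer]
    exact fun a ha b _ => Subgroup.mem_center_iff.mp ha b
  · have h1 : (⟨x ^ p, hpow x⟩ : Q) ^ p ∈ Subgroup.center Q :=
      CfsgLib.Extraspecial.pow_mem_center hQ _
    have h2 : (⟨_, h1⟩ : Subgroup.center Q) ^ p = 1 :=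
      orderOf_dvd_iff_pow_eq_one.mp ((orderOf_dvd_natCard _).trans (dvd_of_eq hQ.2))
    have h3 := congrArg (fun w : Subgroup.center Q => ((w : Q) : S)) h2
    simp only [Subgroup.coe_pow, Subgroup.coe_one] at h3
    rw [show p ^ 3 = p * p * p by ring, pow_mul, pow_mul]
    exact h3

end Cfsg.Agent.S3809
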