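import Cfsg.Statements.S3810
import Cfsg.Agent.Lib.Extraspecial.Basics

set_option autoImplicit false
open Cfsg
open scoped commutatorElement

namespace Cfsg.Agent.S3810

/-- Let S be a finite p-group with an extraspecial subgroup of index p. Then S has an abelian subgroup of index p if and only if S has order p⁴. -/
theorem result {S : Type*} [Group S] [Finite S] (p : ℕ) [Fact p.Prime] (hS : IsPGroup p S) (Q : Subgroup S) (hQ : Cfsg.IsExtraspecial p ↥Q) (hQi : Q.index = p) :
    (∃ A : Subgroup S, IsMulCommutative ↥A ∧ A.index = p) ↔ Nat.card S = p ^ 4 := by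
  have hp : p.Prime := Fact.out
  obtain ⟨n, hn, hcard⟩ := CfsgLib.Extraspecial.card_eq _ _ hQ rfl
  refine ⟨fun ⟨A, hA, hAi⟩ => ?_, fun h => CfsgLib.Extraspecial.exists_abelian_index h⟩
  have hS4 : Nat.card S = p ^ (1 + 2 * n + 1) := by
    rw [← Q.card_mul_index, hcard, hQi, ← pow_succ]
  suffices n = 1 by rw [hS4, this]
  by_contra hn1
  haveI := hA
  have hB : IsMulCommutative (A.subgroupOf Q) := ⟨⟨fun a b => Subtype.ext (Subtype.ext
    (congrArg Subtype.val (hA.is_comm.comm (⟨_, a.2⟩ : A) ⟨_, b.2⟩) :))⟩⟩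
  have hBi : (A.subgroupOf Q).index = A.relIndex Q := rfl
  have hrel : A.relIndex Q ≤ p := (Subgroup.relIndex_le_of_le_right (le_top : Q ≤ ⊤) (by rw [Subgroup.relIndex_top_right, hAi]; exact hp.ne_zero)).trans_eq (by rw [Subgroup.relIndex_top_right, hAi])
  obtain ⟨i, -, hi⟩ := (Nat.dvd_prime_pow hp).mp (hcard ▸ Subgroup.index_dvd_card (A.subgroupOf Q))
  rw [hBi] at hi
  rcases Nat.eq_zero_or_pos i with rfl | hi0
  · rw [pow_zero, ← hBi, Subgroup.index_eq_one] at hi
    rw [hi] at hB
    have hcomm : commutator ↥Q = ⊥ := by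
      rw [commutator_def, Subgroup.commutator_eq_bot_iff_le_centralizer]
      intro a _ b _
      exact congrArg Subtype.val (hB.is_comm.comm ⟨b, Subgroup.mem_top b⟩ ⟨a, Subgroup.mem_top a⟩)
    have h2 := hQ.2
    rw [← hQ.1.2.2, hcomm, Subgroup.card_bot] at h2
    exact hp.one_lt.ne h2
  · have hip : A.relIndex Q = p := le_antisymm hrel (hi ▸ Nat.le_self_pow hi0.ne' p)
    have h3 := CfsgLib.Extraspecial.card_le_of_abelian hQ _ hB (hBi.trans hip)
    rw [hcard] at h3
    have := (Nat.pow_le_pow_iff_right hp.one_lt).mp h3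
    omega

end Cfsg.Agent.S3810
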