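import Cfsg.Statements.S3811
import Cfsg.Agent.Lib.SoftSub.Main
set_option autoImplicit false
open Cfsg

namespace Cfsg.Agent.S3811

/-- Let P be a finite p-group and E an abelian subgroup of P that contains its centralizer, has index p in its normalizer, and has index at least p² in P. Then the subgroups of P containing E are totally ordered by inclusion, each proper one has index p in its normalizer (so they form the normalizer tower of E, with all steps of index p), and the i-th member of the tower above E has nilpotency class i + 1 whenever it is a proper subgroup of P. -/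
theorem result {P : Type*} [Group P] [Finite P] (p : ℕ) [Fact p.Prime] (hP : IsPGroup p P)
    (E : Subgroup P) (hEab : IsMulCommutative ↥E) (hC : Subgroup.centralizer (E : Set P) ≤ E)
    (hN : (E.subgroupOf (Subgroup.normalizer (E : Set P))).index = p) (hidx : p ^ 2 ≤ E.index) :
    (∀ K L : Subgroup P, E ≤ K → E ≤ L → K ≤ L ∨ L ≤ K) ∧
      (∀ K : Subgroup P, E ≤ K → K ≠ ⊤ → (K.subgroupOf (Subgroup.normalizer (K : Set P))).index = p) ∧
      ∀ (i : ℕ) (K : Subgroup P) [Group.IsNilpotent ↥K], E ≤ K → K ≠ ⊤ → K.index * p ^ i = E.index →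
        Group.nilpotencyClass ↥K = i + 1 := by
  have hnor : ∀ K : Subgroup P, (K.subgroupOf (Subgroup.normalizer (K : Set P))).index = p ↔
      K.index = p * (Subgroup.normalizer (K : Set P)).index := fun K => by
    rw [← Subgroup.relIndex_mul_index (H := K) Subgroup.le_normalizer, Subgroup.relIndex]
    exact ⟨fun e => by rw [e], fun e =>
      Nat.eq_of_mul_eq_mul_right (Nat.pos_of_ne_zero Subgroup.index_ne_zero_of_finite) e⟩
  have hS : CfsgLib.SoftSub.Soft p E :=
    ⟨fun a ha b hb => congrArg Subtype.val (hEab.is_comm.comm (⟨a, ha⟩ : E) ⟨b, hb⟩), hC, (hnor E).mp hN, hidx⟩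
  obtain ⟨hstep, hcl⟩ := CfsgLib.SoftSub.tower _ hP rfl E hS
  refine ⟨CfsgLib.SoftSub.comparable hP hstep _ E rfl le_rfl, fun K hK hKt => (hnor K).mpr (hstep K hK hKt), ?_⟩
  intro i K _ hK hKt hi
  have key : ∀ m, (⊤ : Subgroup K).lowerCentralSeries m = ⊥ ↔ K.lowerCentralSeries m = ⊥ := fun m => by
    rw [← Subgroup.top_subtype_lowerCentralSeries K m, Subgroup.map_eq_bot_iff_of_injective _ K.subtype_injective]
  refine le_antisymm (Subgroup.lowerCentralSeries_eq_bot_iff_nilpotencyClass_le.mp ((key _).mpr (hcl i K hK hKt hi))) ?_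
  rcases i with _ | j
  · by_contra h
    have h1 := (key 0).mp (Subgroup.lowerCentralSeries_eq_bot_iff_nilpotencyClass_le.mpr
      (show Group.nilpotencyClass K ≤ 0 by omega))
    rw [Subgroup.lowerCentralSeries_zero] at h1
    subst h1
    have hE : E = ⊥ := le_bot_iff.mp hK
    subst hE
    refine hKt (eq_top_iff.mpr fun g _ => ?_)
    exact hC (Subgroup.mem_centralizer_iff.mpr fun e he => by
      rw [Subgroup.mem_bot.mp he, one_mul, mul_one])
  · by_contra h
    exact CfsgLib.SoftSub.lcs_ne_bot hP hC hstep hK hKt hi ((key (j + 1)).mp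
      (Subgroup.lowerCentralSeries_eq_bot_iff_nilpotencyClass_le.mpr (show Group.nilpotencyClass K ≤ j + 1 by omega)))

end Cfsg.Agent.S3811
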