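import Cfsg.Statements.S3814
import Cfsg.Agent.Lib.FourPrimes.Main
-- import your own Cfsg.Agent.* helpers here

set_option autoImplicit false
open Cfsg

namespace Cfsg.Agent.S3814

/-- A criterion for nonsolvability from element orders: let G be a finite group and σ a set of at least four primes such that for all distinct p, q ∈ σ the product pq is the order of some element of G, while for all pairwise distinct p, q, r ∈ σ no element of G has order pqr. Then G is not solvable. -/
theorem result {G : Type*} [Group G] [Finite G]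
    (σ : Finset ℕ) (hσ : 4 ≤ σ.card) (hprime : ∀ p ∈ σ, p.Prime)
    (h2 : ∀ p ∈ σ, ∀ q ∈ σ, p ≠ q → ∃ g : G, orderOf g = p * q)
    (h3 : ∀ p ∈ σ, ∀ q ∈ σ, ∀ r ∈ σ, p ≠ q → q ≠ r → p ≠ r → ∀ g : G, orderOf g ≠ p * q * r) :
    ¬ Group.IsSolvable G := by
  intro hs
  classical
  obtain ⟨τ, hτσ, hτ⟩ := Finset.exists_subset_card_eq hσ
  refine CfsgLib.FourPrimes.not_solvable τ _ G rfl ⟨hτ, fun p hp => hprime p (hτσ hp), ?_, ?_⟩
  · intro p hp q hq hpq
    obtain ⟨g, hg⟩ := h2 p (hτσ hp) q (hτσ hq) hpq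
    obtain ⟨h1, h2', h3'⟩ := CfsgLib.FourPrimes.pair_of_order (hprime p (hτσ hp)).ne_zero
      (hprime q (hτσ hq)).ne_zero hg
    exact ⟨_, _, h1, h2', h3'⟩
  · intro p hp q hq r hr hpq hqr hpr x y z hx hy hz hxy hxz hyz
    refine h3 p (hτσ hp) q (hτσ hq) r (hτσ hr) hpq hqr hpr (x * y * z) ?_
    have hxy' := CfsgLib.FourPrimes.order_of_pair (hprime p (hτσ hp)) (hprime q (hτσ hq)) hpq hx hy hxy
    rw [(hxz.mul_left hyz).orderOf_mul_eq_mul_orderOf_of_coprime (by
      rw [hxy', hz]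
      exact ((Nat.coprime_primes (hprime p (hτσ hp)) (hprime r (hτσ hr))).mpr hpr).mul_left
        ((Nat.coprime_primes (hprime q (hτσ hq)) (hprime r (hτσ hr))).mpr hqr)), hxy', hz]

end Cfsg.Agent.S3814
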