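import Cfsg.Statements.S3815
import Mathlib
import Cfsg.Prelude.Def_Solvable

set_option autoImplicit false
set_option linter.style.haveILetI false
open Cfsg

namespace Cfsg.Agent.S3815

/-- Let G be a finite group, p a prime and d ∈ G an element of order prime to p. If dg has order prime to p for every element g ∈ G of order prime to p, then d ∈ O_{p'}(G). -/
theorem result {G : Type*} [Group G] [Finite G] {p : ℕ} [Fact p.Prime]
    (d : G) (hd : (orderOf d).Coprime p)
    (h : ∀ g : G, (orderOf g).Coprime p → (orderOf (d * g)).Coprime p) :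
    d ∈ Cfsg.pPrimeCore p G := by
  classical
  set S := Group.conjugatesOfSet ({d} : Set G) with hS
  have hcop : ∀ x g : G, (orderOf g).Coprime p → (orderOf (x * g * x⁻¹)).Coprime p := fun x g hg => by
    rwa [← MulAut.conj_apply, MulEquiv.orderOf_eq]
  have hmul : ∀ x ∈ Submonoid.closure S, ∀ g : G, (orderOf g).Coprime p → (orderOf (x * g)).Coprime p := by
    intro x hx
    induction hx using Submonoid.closure_induction with
    | mem y hy =>
      intro g hg
      obtain ⟨u, hu, hc⟩ := Group.mem_conjugatesOfSet_iff.mp hy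
      rw [Set.mem_singleton_iff] at hu
      subst hu
      obtain ⟨c, rfl⟩ := isConj_iff.mp hc
      have h1 : (orderOf (c⁻¹ * g * c)).Coprime p := by
        have := hcop c⁻¹ g hg
        rwa [inv_inv] at this
      have h2 := hcop c _ (h _ h1)
      rwa [show c * (u * (c⁻¹ * g * c)) * c⁻¹ = c * u * c⁻¹ * g by group] at h2
    | one => intro g hg; rwa [one_mul]
    | mul a b _ _ ha hb => intro g hg; rw [mul_assoc]; exact ha _ (hb g hg)
  have hd' : d ∈ Subgroup.normalClosure ({d} : Set G) :=
    Subgroup.subset_normalClosure (Set.mem_singleton d)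
  refine le_sSup (a := Subgroup.normalClosure ({d} : Set G))
    (s := {N : Subgroup G | N.Normal ∧ (Nat.card N).Coprime p}) ⟨Subgroup.normalClosure_normal, ?_⟩ hd'
  rw [Nat.coprime_comm, (Fact.out : p.Prime).coprime_iff_not_dvd]
  intro hdvd
  obtain ⟨x, hx⟩ := exists_prime_orderOf_dvd_card' p hdvd
  have hxS : (x : G) ∈ Submonoid.closure S := by
    have h1 : (x : G) ∈ (Subgroup.closure S).toSubmonoid := x.2
    rwa [Subgroup.closure_toSubmonoid_of_finite] at h1
  have h2 := hmul _ hxS 1 (by rw [orderOf_one]; exact Nat.coprime_one_left p)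
  rw [mul_one, Subgroup.orderOf_coe, hx, Nat.coprime_self] at h2
  exact (Fact.out : p.Prime).ne_one h2

end Cfsg.Agent.S3815
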