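import Cfsg.Statements.S3816
import Cfsg.Agent.Lib.FixedGen.Main

set_option autoImplicit false
open Cfsg
open CfsgLib.FixedGen

namespace Cfsg.Agent.S3816

/-- Let p be an odd prime, H a finite solvable group of order prime to p, and x an automorphism of H of order p (so P = ⟨x⟩ has prime order p > 2 and acts coprimely on H). For h ∈ H let [h, P] be the subgroup generated by the commutators h⁻¹·xⁱ(h), and let [H, P] be the subgroup generated by all of these. Then the fixed points of x in [H, P] are generated by the fixed points of x in the subgroups [h, P], h ∈ H. -/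
theorem result {H : Type*} [Group H] [Finite H]
    [Group.IsSolvable H] {p : ℕ} [Fact p.Prime] (hp : p ≠ 2) (hcop : (Nat.card H).Coprime p)
    (x : MulAut H) (hx : orderOf x = p) :
    Subgroup.closure {c : H | ∃ h : H, ∃ i : ℕ, c = h⁻¹ * (x ^ i) h} ⊓ (x : H →* H).eqLocus (MonoidHom.id H) =
      ⨆ h : H, Subgroup.closure {c : H | ∃ i : ℕ, c = h⁻¹ * (x ^ i) h} ⊓ (x : H →* H).eqLocus (MonoidHom.id H) := by
  set φ : ↥(Subgroup.zpowers x) →* MulAut H := (Subgroup.zpowers x).subtype with hφ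
  let G := SemidirectProduct H (Subgroup.zpowers x) φ
  let il : H →* G := SemidirectProduct.inl
  let a : G := SemidirectProduct.inr ⟨x, Subgroup.mem_zpowers x⟩
  haveI : Finite G := Finite.of_equiv _ (SemidirectProduct.equivProd (φ := φ)).symm
  have hinj : Function.Injective il := SemidirectProduct.inl_injective
  have hconj : ∀ (i : ℕ) (h : H), a ^ i * il h * (a ^ i)⁻¹ = il ((x ^ i) h) := by
    intro i h
    have h1 := SemidirectProduct.inl_aut (φ := φ) ((⟨x, Subgroup.mem_zpowers x⟩ : ↥(Subgroup.zpowers x)) ^ i) h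
    simp only [map_inv, map_pow] at h1
    exact h1.symm
  have hrange : il.range = (⊤ : Subgroup H).map il := MonoidHom.range_eq_map il
  have hN : a ∈ Subgroup.normalizer (il.range : Set G) := mem_normalizer_of_conj_le
    (by rintro _ ⟨h, rfl⟩; exact ⟨_, (by simpa using (hconj 1 h).symm)⟩)
  have hap : a ^ p = 1 := by
    simp only [a, ← map_pow]
    rw [show (⟨x, Subgroup.mem_zpowers x⟩ : ↥(Subgroup.zpowers x)) ^ p = 1 from
      Subtype.ext (by simpa [hx] using pow_orderOf_eq_one x), map_one]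
  have hcard : Nat.card il.range = Nat.card H :=
    (Nat.card_congr (MonoidHom.ofInjective hinj).toEquiv).symm
  have main := dd_inf_centralizer_le hp _ a il.range hap hN (by rw [hcard]; exact hcop)
    (Group.isSolvable_of_surjective (f := il.rangeRestrict) il.rangeRestrict_surjective) rfl
  have hcm : ∀ h : H, cm a (il h)
      = (Subgroup.closure {c : H | ∃ i : ℕ, c = h⁻¹ * (x ^ i) h}).map il := by
    intro h
    rw [cm, MonoidHom.map_closure]
    congr 1
    ext y
    constructor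
    · rintro ⟨i, rfl⟩
      exact ⟨h⁻¹ * (x ^ i) h, ⟨i, rfl⟩, by rw [map_mul, map_inv, hconj]⟩
    · rintro ⟨_, ⟨i, rfl⟩, rfl⟩
      exact ⟨i, by rw [map_mul, map_inv, hconj]⟩
  have hdd : dd a il.range
      = (Subgroup.closure {c : H | ∃ h : H, ∃ i : ℕ, c = h⁻¹ * (x ^ i) h}).map il := by
    rw [dd, MonoidHom.map_closure]
    congr 1
    ext y
    constructor
    · rintro ⟨_, ⟨h, rfl⟩, i, rfl⟩
      exact ⟨h⁻¹ * (x ^ i) h, ⟨h, i, rfl⟩, by rw [map_mul, map_inv, hconj]⟩
    · rintro ⟨_, ⟨h, i, rfl⟩, rfl⟩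
      exact ⟨il h, ⟨h, rfl⟩, i, by rw [map_mul, map_inv, hconj]⟩
  have hfix : ∀ h : H, h ∈ (x : H →* H).eqLocus (MonoidHom.id H) ↔
      il h ∈ Subgroup.centralizer ({a} : Set G) := by
    intro h
    have h1 := hconj 1 h
    rw [pow_one, pow_one] at h1
    rw [mem_centralizer_self_iff, ← mul_inv_eq_iff_eq_mul, h1, hinj.eq_iff]
    rfl
  refine le_antisymm ?_ ?_
  · intro c hc
    obtain ⟨hcD, hcf⟩ := Subgroup.mem_inf.mp hc
    have h2 := main (Subgroup.mem_inf.mpr ⟨hdd ▸ Subgroup.mem_map_of_mem il hcD, (hfix c).mp hcf⟩)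
    have hle : kk a il.range ≤ (⨆ h : H, Subgroup.closure {c : H | ∃ i : ℕ, c = h⁻¹ * (x ^ i) h} ⊓
        (x : H →* H).eqLocus (MonoidHom.id H)).map il := by
      refine iSup_le ?_
      rintro ⟨_, h, rfl⟩ y hy
      obtain ⟨hy1, hy2⟩ := Subgroup.mem_inf.mp hy
      rw [hcm h] at hy1
      obtain ⟨z, hz, rfl⟩ := hy1
      exact Subgroup.mem_map_of_mem il (Subgroup.mem_iSup_of_mem h
        (Subgroup.mem_inf.mpr ⟨hz, (hfix z).mpr hy2⟩))
    obtain ⟨z, hz, hze⟩ := hle h2
    exact hinj hze ▸ hz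
  · refine iSup_le fun h => inf_le_inf_right _ (Subgroup.closure_mono ?_)
    rintro c ⟨i, rfl⟩
    exact ⟨h, i, rfl⟩

end Cfsg.Agent.S3816
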