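import Cfsg.Statements.S3818
import Cfsg.Agent.Lib.FixBound.Main

set_option autoImplicit false
open Cfsg

namespace Cfsg.Agent.S3818

/-- Let G be a finite solvable group and P a subgroup of G of prime order p > 3 whose conjugates generate G. Let V be a faithful irreducible representation of G over a field of positive characteristic, finite-dimensional. Then the subspace of V fixed by P has dimension less than half the dimension of V. -/
theorem result {G : Type*} [Group G] [Finite G] [Group.IsSolvable G]
    {p : ℕ} [Fact p.Prime] (hp : 3 < p) (P : Subgroup G) (hP : Nat.card P = p) (hgen : Subgroup.normalClosure (P : Set G) = ⊤)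
    {k : Type*} [Field k] (ℓ : ℕ) [Fact ℓ.Prime] [CharP k ℓ]
    {V : Type*} [AddCommGroup V] [Module k V] [FiniteDimensional k V]
    (ρ : Representation k G V) [ρ.IsIrreducible] (hfaith : Function.Injective ρ) :
    2 * Module.finrank k ↥(⨅ g : ↥P, LinearMap.ker (ρ (g : G) - LinearMap.id)) < Module.finrank k V := by
  classical
  haveI : IsCyclic P := isCyclic_of_prime_card hP
  obtain ⟨⟨x, hx⟩, hgenx⟩ := IsCyclic.exists_generator (α := P)
  have hxp : x ^ p = 1 := by
    have h : (⟨x, hx⟩ : P) ^ p = 1 := hP ▸ pow_card_eq_one'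
    simpa using congrArg Subtype.val h
  have hle : (P : Set G) ⊆ Subgroup.normalClosure ({x} : Set G) := by
    intro g hg
    obtain ⟨n, hn⟩ := hgenx ⟨g, hg⟩
    have hg' : g = x ^ n := by simpa using (congrArg Subtype.val hn).symm
    rw [hg']
    exact Subgroup.zpow_mem _ (Subgroup.subset_normalClosure (Set.mem_singleton x)) n
  have hgen' : Subgroup.normalClosure ({x} : Set G) = ⊤ :=
    top_le_iff.mp (hgen.ge.trans (Subgroup.normalClosure_le_normal hle))
  have hxne : x ≠ 1 := by
    rintro rfl
    have hbot : P = ⊥ := (Subgroup.eq_bot_iff_forall P).mpr fun g hg => by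
      obtain ⟨n, hn⟩ := hgenx ⟨g, hg⟩
      simpa using (congrArg Subtype.val hn).symm
    rw [hbot, Subgroup.card_bot] at hP
    exact (Fact.out : p.Prime).one_lt.ne hP
  haveI : Nontrivial V := by
    rcases subsingleton_or_nontrivial V with h | h
    · exact absurd (hfaith (LinearMap.ext fun v => Subsingleton.elim _ _)) hxne
    · exact h
  have hirr : ∀ U : Submodule k V, (∀ g, ∀ v ∈ U, ρ g v ∈ U) → U = ⊥ ∨ U = ⊤ := by
    intro U hU
    rcases IsSimpleOrder.eq_bot_or_eq_top (⟨U, fun g v hv => hU g v hv⟩ : Subrepresentation ρ) with h | h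
    · exact Or.inl (congrArg Subrepresentation.toSubmodule h)
    · exact Or.inr (congrArg Subrepresentation.toSubmodule h)
  have h5 : 5 ≤ p := by
    rcases Nat.lt_or_ge p 5 with h | h
    · have : p = 4 := by omega
      exact absurd (this ▸ (Fact.out : p.Prime)) (by norm_num)
    · exact h
  have h := CfsgLib.FixBound.two_mul_fix_lt ρ hirr hfaith (Fact.out : p.Prime) h5 hxp hxne hgen'
  refine lt_of_le_of_lt (Nat.mul_le_mul_left 2 (Submodule.finrank_mono ?_)) h
  exact iInf_le (fun g : P => LinearMap.ker (ρ (g : G) - LinearMap.id)) ⟨x, hx⟩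

end Cfsg.Agent.S3818
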