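import Cfsg.Statements.S3819
import Cfsg.Agent.Lib.Coprime.Action
import Cfsg.Agent.Lib.PSolvable.Core
import Cfsg.Agent.Lib.Transfer.Basic
import Cfsg.Agent.Lib.Fitting.Basic
import Cfsg.Agent.Lib.Signalizer.Radical
-- import your own Cfsg.Agent.* helpers here

set_option autoImplicit false
open Cfsg

open CfsgLib
open scoped Pointwise commutatorElement

namespace Cfsg.Agent.S3819

/-- `O_{q'}(L)` inside the ambient group. -/
abbrev core {G : Type*} [Group G] (q : ℕ) (L : Subgroup G) : Subgroup G :=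
  (Cfsg.pPrimeCore q L).map L.subtype

theorem core_coprime {G : Type*} [Group G] [Finite G] (q : ℕ) (L : Subgroup G) :
    (Nat.card (core q L)).Coprime q := by
  rw [core, Subgroup.card_map_of_injective L.subtype_injective]
  exact Transfer.pPrimeCore_coprime q

theorem le_normalizer_core {G : Type*} [Group G] (q : ℕ) (L : Subgroup G) :
    L ≤ Subgroup.normalizer (core q L : Set G) := by
  haveI := Transfer.pPrimeCore_normal q L
  have h := Subgroup.le_normalizer_map (H := Cfsg.pPrimeCore q L) L.subtype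
  rwa [Subgroup.normalizer_eq_top_iff.mpr inferInstance, ← MonoidHom.range_eq_map,
    Subgroup.range_subtype] at h

/-- What normalizes `L` normalizes `O_{q'}(L)`. -/
theorem normalizer_le_core {G : Type*} [Group G] [Finite G] {q : ℕ} [Fact q.Prime] (L : Subgroup G) :
    Subgroup.normalizer (L : Set G) ≤ Subgroup.normalizer (core q L : Set G) := by
  intro g hg
  refine Subgroup.mem_normalizer_fintype ?_
  rintro _ ⟨x, hx, rfl⟩
  let e : L ≃* L := MulEquiv.ofBijective
    ({ toFun := fun y => ⟨g * y * g⁻¹, (Subgroup.mem_normalizer_iff.mp hg _).mp y.2⟩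
       map_one' := Subtype.ext (by simp)
       map_mul' := fun a b => Subtype.ext (by simp [mul_assoc]) } : L →* L)
    (by
      have hinj : Function.Injective (fun y : L =>
          (⟨g * y * g⁻¹, (Subgroup.mem_normalizer_iff.mp hg _).mp y.2⟩ : L)) := fun a b h => by
        have := congrArg Subtype.val h
        exact Subtype.ext (by simpa using this)
      exact ⟨hinj, Finite.surjective_of_injective hinj⟩)
  haveI := Transfer.pPrimeCore_normal q L
  have hle : (Cfsg.pPrimeCore q L).map e.toMonoidHom ≤ Cfsg.pPrimeCore q L :=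
    Transfer.le_pPrimeCore (Subgroup.Normal.map inferInstance _ e.surjective) (by
      rw [Subgroup.card_map_of_injective e.injective]
      exact Transfer.pPrimeCore_coprime q)
  exact ⟨e x, hle ⟨x, hx, rfl⟩, rfl⟩

/-- The balanced case: no normal `q'`-subgroup inside `H`. -/
theorem reduced {G : Type*} [Group G] [Finite G] {p q : ℕ} [Fact p.Prime] [Fact q.Prime]
    (H P W E : Subgroup G) [H.Normal] (hP : IsPGroup p P) (hHP : (Nat.card H).Coprime p)
    (htop : H ⊔ P = ⊤) (hsol : Group.IsSolvable ↥⁅H, P⁆)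
    (hfree : ∀ N : Subgroup G, N.Normal → N ≤ H → (Nat.card N).Coprime q → N = ⊥)
    (z : G) (hzP : z ∈ Subgroup.centralizer (P : Set G)) (hzq : IsPGroup q (Subgroup.zpowers z))
    (hWH : W ≤ H) (hWq : (Nat.card W).Coprime q) (hWz : W ≤ Subgroup.centralizer ({z} : Set G))
    (hPW : P ≤ Subgroup.normalizer (W : Set G))
    (hCW : H ⊓ Subgroup.centralizer ({z} : Set G) ≤ Subgroup.normalizer (W : Set G))
    (hEH : E ≤ H) (hEP : E ≤ Subgroup.centralizer (P : Set G)) (hEq : (Nat.card E).Coprime q)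
    (hCE : H ⊓ Subgroup.centralizer (P : Set G) ≤ Subgroup.normalizer (E : Set G)) :
    ⁅W, P⁆ = ⊥ ∧ W ⊓ E = ⊥ := by
  have hPH : P ≤ Subgroup.normalizer (H : Set G) := Subgroup.le_normalizer_of_normal
  obtain ⟨a, ha⟩ := IsPGroup.iff_card.mp hP
  have hcop : (Nat.card P).Coprime (Nat.card H) := by
    rw [ha]; exact (Nat.Coprime.pow_left a hHP.symm)
  have hPsol : Group.IsSolvable P := by
    haveI : Group.IsNilpotent P := hP.isNilpotent
    infer_instance
  have hcc := Coprime.commutator_commutator_eq hPH hcop (Or.inl hPsol)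
  set L := ⁅H, P⁆ with hL
  have hLH : L ≤ H := Coprime.commutator_le_left_of_le_normalizer hPH
  haveI hLn : L.Normal := by
    rw [← Subgroup.normalizer_eq_top_iff, eq_top_iff, ← htop]
    refine sup_le ?_ (Coprime.le_normalizer_commutator hPH Subgroup.le_normalizer)
    calc H = L ⊔ (H ⊓ Subgroup.centralizer (P : Set G)) :=
        (Coprime.commutator_sup_centralizer hPH hcop (Or.inl hPsol)).symm
      _ ≤ _ := sup_le Subgroup.le_normalizer (Coprime.le_normalizer_commutator
          (inf_le_left.trans Subgroup.le_normalizer)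
          (inf_le_right.trans (Subgroup.centralizer_le_normalizer _)))
  -- `R = O_q(L)` is self-centralizing in `L`
  haveI := Fitting.pCore_normal (G := L) q
  haveI := Transfer.pPrimeCore_normal q L
  have hOL : Cfsg.pPrimeCore q L = ⊥ := by
    have h := hfree ((Cfsg.pPrimeCore q L).map L.subtype) inferInstance
      ((Subgroup.map_subtype_le _).trans hLH) (core_coprime q L)
    rwa [Subgroup.map_eq_bot_iff_of_injective _ L.subtype_injective] at h
  have hCR := PSolvable.centralizer_pCore_le (PSolvable.isPSolvable_of_isSolvable (p := q) hsol) hOL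
  set R := (Cfsg.pCore q L).map L.subtype with hR
  have hRL : R ≤ L := Subgroup.map_subtype_le _
  haveI : (Cfsg.pCore q L).Characteristic := Signalizer.pCore_characteristic q
  haveI hRn : R.Normal := inferInstance
  have hRq : IsPGroup q R := (Fitting.pCore_isPGroup q).map _
  have hCLR : L ⊓ Subgroup.centralizer (R : Set G) ≤ R := by
    rintro x ⟨hxL, hxC⟩
    refine ⟨⟨x, hxL⟩, hCR ?_, rfl⟩
    intro y hy
    exact Subtype.ext (hxC y ⟨y, hy, rfl⟩)
  -- `W` centralizes `R`
  have hWR : W ≤ Subgroup.centralizer (R : Set G) := by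
    refine Coprime.pxq hzq hWq ?_ hRq Subgroup.le_normalizer_of_normal
      Subgroup.le_normalizer_of_normal ?_
    · rw [Subgroup.zpowers_le]
      exact fun w hw => (hWz hw z rfl).symm
    · rintro r ⟨hrR, hrz⟩ w hw
      have hrC : r ∈ H ⊓ Subgroup.centralizer ({z} : Set G) := ⟨hLH (hRL hrR), by
        intro y hy; rw [Set.mem_singleton_iff.mp hy]; exact hrz z (Subgroup.mem_zpowers z)⟩
      have h1 : ⁅w, r⁆ ∈ W := by
        rw [commutatorElement_def, mul_assoc w r, mul_assoc]
        exact W.mul_mem hw ((Subgroup.mem_normalizer_iff.mp (hCW hrC) _).mp (W.inv_mem hw))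
      have h2 : ⁅w, r⁆ ∈ R := by
        rw [commutatorElement_def]
        exact R.mul_mem (hRn.conj_mem r hrR w) (R.inv_mem hrR)
      have h3 : ⁅w, r⁆ = 1 := by
        rw [← Subgroup.mem_bot]
        have hWR0 : W ⊓ R = ⊥ := Coprime.inf_eq_bot_of_coprime_card (by
          obtain ⟨k, hk⟩ := IsPGroup.iff_card.mp hRq
          rw [hk]; exact hWq.pow_right k)
        exact hWR0 ▸ ⟨h1, h2⟩
      exact commutatorElement_eq_one_iff_mul_comm.mp h3
  have hWL : W ⊓ L = ⊥ := by
    rw [eq_bot_iff]
    rintro x ⟨hxW, hxL⟩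
    have hxR : x ∈ R := hCLR ⟨hxL, hWR hxW⟩
    have hWR0 : W ⊓ R = ⊥ := Coprime.inf_eq_bot_of_coprime_card (by
      obtain ⟨k, hk⟩ := IsPGroup.iff_card.mp hRq
      rw [hk]; exact hWq.pow_right k)
    exact hWR0 ▸ ⟨hxW, hxR⟩
  have hWP : ⁅W, P⁆ = ⊥ := le_bot_iff.mp (hWL ▸ le_inf
    (Coprime.commutator_le_left_of_le_normalizer hPW) (Subgroup.commutator_mono hWH le_rfl))
  refine ⟨hWP, ?_⟩
  -- `W ⊓ E` centralizes `L`
  have hDL : W ⊓ E ≤ Subgroup.centralizer (L : Set G) := by
    rintro d ⟨hdW, -⟩ l hl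
    set r := d * l * d⁻¹ * l⁻¹ with hr
    have hrL : r ∈ L := L.mul_mem (hLn.conj_mem l hl d) (L.inv_mem hl)
    have hd := hWR hdW
    have hrC : r ∈ Subgroup.centralizer (R : Set G) := by
      have h2 : l * d⁻¹ * l⁻¹ ∈ Subgroup.centralizer (R : Set G) :=
        Subgroup.Normal.conj_mem inferInstance _ (inv_mem hd) l
      rw [hr, show d * l * d⁻¹ * l⁻¹ = d * (l * d⁻¹ * l⁻¹) by group]
      exact mul_mem hd h2
    have hrR : r ∈ R := hCLR ⟨hrL, hrC⟩
    have hdr : d * r = r * d := (hd r hrR).symm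
    have hiter : ∀ n : ℕ, d ^ n * l * (d ^ n)⁻¹ = r ^ n * l := by
      intro n
      induction n with
      | zero => simp
      | succ n ih =>
        have hc : d * r ^ n = r ^ n * d := ((show Commute d r from hdr).pow_right n).eq
        calc d ^ (n + 1) * l * (d ^ (n + 1))⁻¹ = d * (d ^ n * l * (d ^ n)⁻¹) * d⁻¹ := by
              rw [pow_succ']; group
          _ = (d * r ^ n) * l * d⁻¹ := by rw [ih]; group
          _ = r ^ n * (d * l * d⁻¹) := by rw [hc]; group
          _ = r ^ (n + 1) * l := by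
              rw [show d * l * d⁻¹ = r * l by rw [hr]; group, pow_succ]; group
    have h1 := hiter (orderOf d)
    rw [pow_orderOf_eq_one, one_mul, inv_one, mul_one] at h1
    have hr1 : r ^ orderOf d = 1 := mul_eq_right.mp h1.symm
    have hcopd : (orderOf r).Coprime (orderOf d) := by
      obtain ⟨k, hk⟩ := hRq ⟨r, hrR⟩
      have hk' : orderOf r ∣ q ^ k := orderOf_dvd_of_pow_eq_one (congrArg Subtype.val hk)
      have hdq : (orderOf d).Coprime q := hWq.coprime_dvd_left
        (Subgroup.orderOf_dvd_natCard _ hdW)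
      exact (hdq.pow_right k).symm.coprime_dvd_left hk'
    have : r = 1 := orderOf_eq_one_iff.mp
      (hcopd.eq_one_of_dvd (orderOf_dvd_of_pow_eq_one hr1))
    rw [hr, mul_inv_eq_one, mul_inv_eq_iff_eq_mul] at this
    exact this.symm
  -- `K = C_H(L)`
  set K := H ⊓ Subgroup.centralizer (L : Set G) with hK
  haveI hKn : K.Normal := inferInstance
  have hEK : ∀ x ∈ W ⊓ E, x ∈ E ⊓ K := fun x hx => ⟨hx.2, hWH hx.1, hDL hx⟩
  have hPK : P ≤ Subgroup.normalizer (K : Set G) := Subgroup.le_normalizer_of_normal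
  have hcopK : (Nat.card P).Coprime (Nat.card K) :=
    hcop.coprime_dvd_right (Subgroup.card_dvd_of_le inf_le_left)
  have hKgen := Coprime.commutator_sup_centralizer hPK hcopK (Or.inl hPsol)
  have hKPR : ⁅K, P⁆ ≤ R := by
    refine le_trans (le_inf (Subgroup.commutator_mono inf_le_left le_rfl)
      ((Coprime.commutator_le_left_of_le_normalizer hPK).trans (inf_le_right.trans
        (Subgroup.centralizer_le hRL)))) hCLR
  have hKN : K ≤ Subgroup.normalizer ((E ⊓ K : Subgroup G) : Set G) := by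
    conv_lhs => rw [← hKgen]
    refine sup_le ?_ ?_
    · intro r hr
      refine Subgroup.centralizer_le_normalizer _ fun e he => ?_
      exact ((he.2.2 : e ∈ Subgroup.centralizer (L : Set G)) r (hRL (hKPR hr))).symm
    · exact Coprime.le_normalizer_inf_of_le
        ((inf_le_inf_right _ inf_le_left).trans hCE) (inf_le_left.trans Subgroup.le_normalizer)
  haveI : ((E ⊓ K).subgroupOf K).Normal := Subgroup.normal_subgroupOf_of_le_normalizer hKN
  have hbot := hfree ((Cfsg.pPrimeCore q K).map K.subtype) inferInstance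
    ((Subgroup.map_subtype_le _).trans inf_le_left) (core_coprime q K)
  have hle : (E ⊓ K).subgroupOf K ≤ Cfsg.pPrimeCore q K := Transfer.le_pPrimeCore inferInstance (by
    rw [Nat.card_congr (Subgroup.subgroupOfEquivOfLe inf_le_right).toEquiv]
    exact hEq.coprime_dvd_left (Subgroup.card_dvd_of_le inf_le_left))
  rw [eq_bot_iff]
  intro x hx
  rw [← hbot]
  exact ⟨⟨x, (hEK x hx).2⟩, hle (hEK x hx), rfl⟩

/-- Let G be a finite group with Sylow p-subgroup P and H = O_{p'}(G), and suppose G = PH and the commutator subgroup [H, P] is solvable. Let q be a prime and z an element of q-power order of C_H(P). Then (O_{q'}(C_H(z)) ∩ O_{q'}(C_H(P))) · [O_{q'}(C_H(z)), P] ≤ O_{q'}(H). -/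
theorem result {G : Type*} [Group G] [Finite G] {p : ℕ} [Fact p.Prime]
    (P : Sylow p G) (hPH : Cfsg.pPrimeCore p G ⊔ (P : Subgroup G) = ⊤)
    (hsol : Group.IsSolvable ↥⁅Cfsg.pPrimeCore p G, (P : Subgroup G)⁆)
    {q : ℕ} [Fact q.Prime] (z : G) (hzH : z ∈ Cfsg.pPrimeCore p G) (hzP : z ∈ Subgroup.centralizer ((P : Subgroup G) : Set G))
    (hz : ∃ k : ℕ, orderOf z = q ^ k) :
    ((Cfsg.pPrimeCore q ↥(Cfsg.pPrimeCore p G ⊓ Subgroup.centralizer ({z} : Set G))).map
        (Cfsg.pPrimeCore p G ⊓ Subgroup.centralizer ({z} : Set G)).subtype ⊓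
      (Cfsg.pPrimeCore q ↥(Cfsg.pPrimeCore p G ⊓ Subgroup.centralizer ((P : Subgroup G) : Set G))).map
        (Cfsg.pPrimeCore p G ⊓ Subgroup.centralizer ((P : Subgroup G) : Set G)).subtype) ⊔
    ⁅(Cfsg.pPrimeCore q ↥(Cfsg.pPrimeCore p G ⊓ Subgroup.centralizer ({z} : Set G))).map
        (Cfsg.pPrimeCore p G ⊓ Subgroup.centralizer ({z} : Set G)).subtype, (P : Subgroup G)⁆ ≤
    (Cfsg.pPrimeCore q ↥(Cfsg.pPrimeCore p G)).map (Cfsg.pPrimeCore p G).subtype := by
  have hH : (Cfsg.pPrimeCore p G).Normal := Transfer.pPrimeCore_normal p G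
  have hHp : (Nat.card (Cfsg.pPrimeCore p G)).Coprime p := Transfer.pPrimeCore_coprime p
  set H := Cfsg.pPrimeCore p G with hHdef
  set PS : Subgroup G := (P : Subgroup G) with hPS
  change core q (H ⊓ Subgroup.centralizer ({z} : Set G)) ⊓
      core q (H ⊓ Subgroup.centralizer (PS : Set G)) ⊔
    ⁅core q (H ⊓ Subgroup.centralizer ({z} : Set G)), PS⁆ ≤ core q H
  set Cz := H ⊓ Subgroup.centralizer ({z} : Set G) with hCz
  set CP := H ⊓ Subgroup.centralizer (PS : Set G) with hCP
  set N := core q H with hN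
  haveI hNn : N.Normal := inferInstance
  have hNH : N ≤ H := Subgroup.map_subtype_le _
  have hNq : (Nat.card N).Coprime q := core_coprime q H
  let f := QuotientGroup.mk' N
  have hf : Function.Surjective f := QuotientGroup.mk'_surjective N
  have hker : f.ker = N := QuotientGroup.ker_mk' N
  haveI : (H.map f).Normal := hH.map f hf
  have hzk : IsPGroup q (Subgroup.zpowers z) := by
    obtain ⟨k, hk⟩ := hz
    exact IsPGroup.of_card (n := k) (by rw [Nat.card_zpowers, hk])
  have hPn : PS ≤ Subgroup.normalizer (H : Set G) := Subgroup.le_normalizer_of_normal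
  have hcop : (Nat.card PS).Coprime (Nat.card H) := by
    obtain ⟨a, ha⟩ := IsPGroup.iff_card.mp P.2
    rw [hPS, ha]; exact Nat.Coprime.pow_left a hHp.symm
  have hPsol : Group.IsSolvable PS := by
    haveI : Group.IsNilpotent PS := (P.2 : IsPGroup p PS).isNilpotent
    infer_instance
  -- `P` and `C_H(z)`
  have hPz : PS ≤ Subgroup.centralizer ({z} : Set G) := by
    intro x hx y hy
    rw [Set.mem_singleton_iff.mp hy]
    exact (hzP x hx).symm
  have hPCz : PS ≤ Subgroup.normalizer (Cz : Set G) :=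
    Coprime.le_normalizer_inf_of_le hPn (hPz.trans Subgroup.le_normalizer)
  -- lifting the centralizer of `z`
  have hliftz : H.map f ⊓ Subgroup.centralizer ({f z} : Set (G ⧸ N)) ≤ Cz.map f := by
    rintro _ ⟨⟨k, hk, rfl⟩, hkz⟩
    have hcz : (Nat.card N).Coprime (Nat.card (Subgroup.zpowers z)) := by
      obtain ⟨k, hk⟩ := IsPGroup.iff_card.mp hzk
      rw [hk]; exact hNq.pow_right k
    have hkzN : (k * z * k⁻¹) * z⁻¹ ∈ N := by
      rw [← hker, MonoidHom.mem_ker]
      simp only [map_mul, map_inv]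
      rw [← hkz (f z) rfl, mul_inv_cancel_right, mul_inv_cancel]
    have hsup : N ⊔ Subgroup.zpowers z = N ⊔ Subgroup.zpowers (k * z * k⁻¹) := by
      refine le_antisymm (sup_le le_sup_left ?_) (sup_le le_sup_left ?_) <;>
        rw [Subgroup.zpowers_le]
      · have hm := mul_mem (inv_mem (Subgroup.mem_sup_left (T := Subgroup.zpowers (k * z * k⁻¹)) hkzN))
          (Subgroup.mem_sup_right (S := N) (Subgroup.mem_zpowers (k * z * k⁻¹)))
        rwa [show (k * z * k⁻¹ * z⁻¹)⁻¹ * (k * z * k⁻¹) = z by group] at hm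
      · rw [show k * z * k⁻¹ = (k * z * k⁻¹ * z⁻¹) * z by group]
        exact mul_mem (Subgroup.mem_sup_left hkzN)
          (Subgroup.mem_sup_right (Subgroup.mem_zpowers _))
    obtain ⟨n, hn, hne⟩ := Coprime.exists_conj_of_coprime
      (H := Subgroup.zpowers z) (K := Subgroup.zpowers (k * z * k⁻¹))
      Subgroup.le_normalizer_of_normal hcz
      (by rw [Nat.card_zpowers, show orderOf (k * z * k⁻¹) = orderOf z from (MulAut.conj k).orderOf_eq z, ← Nat.card_zpowers]; exact hcz) hsup
      (Or.inr inferInstance)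
    have hnk : n⁻¹ * k * z * (n⁻¹ * k)⁻¹ ∈ Subgroup.zpowers z := by
      have h1 : k * z * k⁻¹ ∈ MulAut.conj n • Subgroup.zpowers z := by
        rw [hne]; exact Subgroup.mem_zpowers _
      have h2 := Coprime.mem_conj_smul_iff.mp h1
      simpa [mul_assoc] using h2
    have hnkN : n⁻¹ * k * z * (n⁻¹ * k)⁻¹ * z⁻¹ ∈ N := by
      rw [← hker, MonoidHom.mem_ker]
      have hfn : f n = 1 := by rw [← MonoidHom.mem_ker, hker]; exact hn
      simp only [map_mul, map_inv, hfn, inv_one, one_mul]
      rw [← hkz (f z) rfl, mul_inv_cancel_right, mul_inv_cancel]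
    have heq : n⁻¹ * k * z * (n⁻¹ * k)⁻¹ = z := by
      have hb := Coprime.inf_eq_bot_of_coprime_card hcz
      rw [← mul_inv_eq_one, ← Subgroup.mem_bot, ← hb]
      exact ⟨hnkN, (Subgroup.zpowers z).mul_mem hnk ((Subgroup.zpowers z).inv_mem (Subgroup.mem_zpowers z))⟩
    refine ⟨n⁻¹ * k, ⟨H.mul_mem (H.inv_mem (hNH hn)) hk, ?_⟩, ?_⟩
    · intro y hy
      rw [Set.mem_singleton_iff.mp hy]
      exact (mul_inv_eq_iff_eq_mul.mp heq).symm
    · have hfn : f n = 1 := by rw [← MonoidHom.mem_ker, hker]; exact hn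
      rw [map_mul, map_inv, hfn, inv_one, one_mul]
  have hliftP : H.map f ⊓ Subgroup.centralizer ((PS.map f : Subgroup (G ⧸ N)) : Set (G ⧸ N)) ≤
      CP.map f := (Coprime.map_inf_centralizer hPn hcop (Or.inl hPsol) f).ge
  have hcopmap : ∀ {X : Subgroup G} {r : ℕ}, (Nat.card X).Coprime r →
      (Nat.card (X.map f)).Coprime r := fun {X r} h => h.coprime_dvd_left (Subgroup.card_map_dvd X f)
  have hfree : ∀ M : Subgroup (G ⧸ N), M.Normal → M ≤ H.map f → (Nat.card M).Coprime q → M = ⊥ := by
    intro M hM hMH hMq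
    set M' := M.comap f with hM'
    have hM'H : M' ≤ H := by
      refine (Subgroup.comap_mono hMH).trans ?_
      rw [Subgroup.comap_map_eq, hker]
      exact sup_le le_rfl hNH
    have hM'q : (Nat.card M').Coprime q := by
      have hNM : N ≤ M' := hker.symm.le.trans (f.ker_le_comap M)
      have h1 := Subgroup.relIndex_mul_relIndex ⊥ N M' bot_le hNM
      rw [Subgroup.relIndex_bot_left, Subgroup.relIndex_bot_left] at h1
      rw [← h1]
      refine hNq.mul_left ?_
      have : N.relIndex M' = Nat.card M := by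
        have h2 := Subgroup.relIndex_map_map f N M'
        rw [hker, sup_idem, sup_eq_left.mpr hNM, hM', Subgroup.map_comap_eq_self_of_surjective hf,
          (Subgroup.map_eq_bot_iff N).mpr hker.ge, Subgroup.relIndex_bot_left] at h2
        exact h2.symm
      rw [this]; exact hMq
    haveI : M'.Normal := hM.comap f
    have : M' ≤ N := fun x hx => ⟨⟨x, hM'H hx⟩, (Transfer.le_pPrimeCore (N := M'.subgroupOf H)
      inferInstance (by rwa [Nat.card_congr (Subgroup.subgroupOfEquivOfLe hM'H).toEquiv]))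
        (show (⟨x, hM'H hx⟩ : H) ∈ M'.subgroupOf H from hx), rfl⟩
    rw [← Subgroup.map_comap_eq_self_of_surjective hf M, eq_bot_iff, Subgroup.map_le_iff_le_comap]
    exact this.trans (hker.symm.le.trans (f.ker_le_comap _))
  have hsol' : Group.IsSolvable ↥⁅H.map f, PS.map f⁆ := by
    rw [← Subgroup.map_commutator]
    exact Coprime.isSolvable_map f hsol
  obtain ⟨h1, h2⟩ := reduced (p := p) (q := q) (H.map f) (PS.map f) ((core q Cz).map f)
    ((core q CP).map f) ((P.2 : IsPGroup p PS).map f) (hcopmap hHp)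
    (by rw [← Subgroup.map_sup, hPH, Subgroup.map_top_of_surjective f hf]) hsol' hfree (f z)
    (by
      rintro _ ⟨x, hx, rfl⟩
      rw [← map_mul, ← map_mul, hzP x hx])
    (by rw [← MonoidHom.map_zpowers]; exact hzk.map f)
    (Subgroup.map_mono ((Subgroup.map_subtype_le _).trans inf_le_left))
    (hcopmap (core_coprime q Cz))
    (by
      rintro _ ⟨x, hx, rfl⟩ y hy
      rw [Set.mem_singleton_iff.mp hy, ← map_mul, ← map_mul]
      exact congrArg f ((Subgroup.map_subtype_le _ hx).2 z rfl))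
    ((Subgroup.map_mono (hPCz.trans (normalizer_le_core Cz))).trans
      (Subgroup.le_normalizer_map f))
    (hliftz.trans ((Subgroup.map_mono (le_normalizer_core q Cz)).trans
      (Subgroup.le_normalizer_map f)))
    (Subgroup.map_mono ((Subgroup.map_subtype_le _).trans inf_le_left))
    (by
      rintro _ ⟨x, hx, rfl⟩ _ ⟨y, hy, rfl⟩
      rw [← map_mul, ← map_mul]
      exact congrArg f ((Subgroup.map_subtype_le _ hx).2 y hy))
    (hcopmap (core_coprime q CP))
    (hliftP.trans ((Subgroup.map_mono (le_normalizer_core q CP)).trans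
      (Subgroup.le_normalizer_map f)))
  refine sup_le ?_ ?_
  · intro x hx
    rw [← hker, MonoidHom.mem_ker, ← Subgroup.mem_bot, ← h2]
    exact ⟨⟨x, hx.1, rfl⟩, ⟨x, hx.2, rfl⟩⟩
  · rw [← hker, ← Subgroup.map_eq_bot_iff, Subgroup.map_commutator]
    exact h1

end Cfsg.Agent.S3819
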