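import Cfsg.Statements.S3820
import Mathlib

set_option autoImplicit false
set_option linter.style.haveILetI false
open Cfsg

namespace Cfsg.Agent.S3820

/-- Call a subgroup H of G pronormal if H and gHg⁻¹ are conjugate inside ⟨H, gHg⁻¹⟩ for every g ∈ G. Let S ≤ H ≤ G be subgroups of a finite group with S pronormal in G (for instance S a Sylow subgroup). Then H is pronormal in G if and only if H and gHg⁻¹ are conjugate inside ⟨H, gHg⁻¹⟩ for every g ∈ N_G(S). In particular H is pronormal whenever N_G(S) ≤ H. -/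
theorem result {G : Type*} [Group G] [Finite G] (S H : Subgroup G) (hSH : S ≤ H)
    (hS : Cfsg.IsPronormal S) :
    Cfsg.IsPronormal H ↔
      ∀ g ∈ Subgroup.normalizer (S : Set G), ∃ w ∈ H ⊔ H.map (MulAut.conj g).toMonoidHom,
        H.map (MulAut.conj g).toMonoidHom = H.map (MulAut.conj w).toMonoidHom := by
  constructor
  · intro h g _
    exact h g
  · intro h g
    obtain ⟨x, hx, hxS⟩ := hS g
    have hxJ : x ∈ H ⊔ H.map (MulAut.conj g).toMonoidHom :=
      (sup_le_sup hSH (Subgroup.map_mono hSH)) hx
    have hconj : ∀ (a b : G) (K : Subgroup G), (K.map (MulAut.conj b).toMonoidHom).map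
        (MulAut.conj a).toMonoidHom = K.map (MulAut.conj (a * b)).toMonoidHom := by
      intro a b K
      rw [Subgroup.map_map]
      congr 1
      ext y
      simp [mul_assoc]
    have hn : x⁻¹ * g ∈ Subgroup.normalizer (S : Set G) := by
      have h1 : S.map (MulAut.conj (x⁻¹ * g)).toMonoidHom = S := by
        rw [← hconj, hxS, hconj, inv_mul_cancel]
        ext y
        simp
      rw [Subgroup.mem_normalizer_iff]
      intro y
      constructor
      · intro hy
        rw [← h1]
        exact ⟨y, hy, rfl⟩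
      · intro hy
        rw [← h1] at hy
        obtain ⟨z, hz, hzy⟩ := hy
        have : z = y := (MulAut.conj (x⁻¹ * g)).injective hzy
        exact this ▸ hz
    obtain ⟨w, hw, hwH⟩ := h _ hn
    have hle : H.map (MulAut.conj (x⁻¹ * g)).toMonoidHom ≤
        H ⊔ H.map (MulAut.conj g).toMonoidHom := by
      rintro _ ⟨y, hy, rfl⟩
      have h2 : g * y * g⁻¹ ∈ H ⊔ H.map (MulAut.conj g).toMonoidHom :=
        Subgroup.mem_sup_right ⟨y, hy, rfl⟩
      have h3 := Subgroup.mul_mem _ (Subgroup.mul_mem _ (Subgroup.inv_mem _ hxJ) h2) hxJ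
      simpa [mul_assoc] using h3
    refine ⟨x * w, Subgroup.mul_mem _ hxJ ((sup_le le_sup_left hle) hw), ?_⟩
    rw [← hconj x w, ← hwH, hconj, mul_inv_cancel_left]

end Cfsg.Agent.S3820
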