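import Cfsg.Statements.S3821
import Mathlib

set_option autoImplicit false
open Cfsg

namespace Cfsg.Agent.S3821

/-- Let A be a normal subgroup of the finite group G and H a subgroup of A. Then H is pronormal in G (H and gHg⁻¹ conjugate inside ⟨H, gHg⁻¹⟩ for every g ∈ G) if and only if H is pronormal in A and G = A · N_G(H). -/
theorem result {G : Type*} [Group G] [Finite G] (A H : Subgroup G) [A.Normal] (hHA : H ≤ A) :
    Cfsg.IsPronormal H ↔ (Cfsg.IsPronormal (H.subgroupOf A) ∧ A ⊔ Subgroup.normalizer (H : Set G) = ⊤) := by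
  have hmap : ∀ a : A, ((H.subgroupOf A).map (MulAut.conj a).toMonoidHom).map A.subtype =
      H.map (MulAut.conj (a : G)).toMonoidHom := by
    intro a
    rw [Subgroup.map_map, show (A.subtype).comp (MulAut.conj a).toMonoidHom =
      ((MulAut.conj (a : G)).toMonoidHom).comp A.subtype from rfl, ← Subgroup.map_map,
      Subgroup.map_subgroupOf_eq_of_le hHA]
  have hbase : (H.subgroupOf A).map A.subtype = H := Subgroup.map_subgroupOf_eq_of_le hHA
  have hcomp : ∀ g h : G, (H.map (MulAut.conj g).toMonoidHom).map (MulAut.conj h).toMonoidHom =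
      H.map (MulAut.conj (h * g)).toMonoidHom := by
    intro g h
    rw [Subgroup.map_map]; congr 1; ext y; simp [mul_assoc]
  constructor
  · intro hp
    refine ⟨fun a => ?_, ?_⟩
    · obtain ⟨x, hx, he⟩ := hp (a : G)
      have hx2 : x ∈ ((H.subgroupOf A) ⊔ (H.subgroupOf A).map (MulAut.conj a).toMonoidHom).map A.subtype := by
        rw [Subgroup.map_sup, hbase, hmap a]; exact hx
      obtain ⟨x', hx', rfl⟩ := hx2
      refine ⟨x', hx', Subgroup.map_injective A.subtype_injective ?_⟩
      rw [hmap, hmap]; exact he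
    · rw [eq_top_iff]
      intro g _
      obtain ⟨x, hx, he⟩ := hp g
      have hxA : x ∈ A := by
        refine (sup_le hHA ?_ : H ⊔ H.map (MulAut.conj g).toMonoidHom ≤ A) hx
        rintro _ ⟨h, hh, rfl⟩
        exact (inferInstance : A.Normal).conj_mem h (hHA hh) g
      have hn : x⁻¹ * g ∈ Subgroup.normalizer (H : Set G) := by
        rw [Subgroup.mem_normalizer_iff_map_conj_eq]
        have := congrArg (fun K => K.map (MulAut.conj x⁻¹).toMonoidHom) he
        rw [hcomp, hcomp, inv_mul_cancel] at this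
        exact this.trans (by rw [map_one]; exact Subgroup.map_id H)
      rw [show g = x * (x⁻¹ * g) by group]
      exact Subgroup.mul_mem_sup hxA hn
  · rintro ⟨hp, hsup⟩ g
    have hg : g ∈ A ⊔ Subgroup.normalizer (H : Set G) := hsup ▸ Subgroup.mem_top g
    rw [← SetLike.mem_coe, Subgroup.normal_mul] at hg
    obtain ⟨a, ha, n, hn, rfl⟩ := hg
    have he : H.map (MulAut.conj (a * n)).toMonoidHom = H.map (MulAut.conj a).toMonoidHom := by
      rw [← hcomp n a, show H.map (MulAut.conj n).toMonoidHom = H from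
        Subgroup.mem_normalizer_iff_map_conj_eq.mp hn]
    obtain ⟨x, hx, hxe⟩ := hp ⟨a, ha⟩
    refine ⟨x, ?_, ?_⟩
    · rw [he, ← hmap ⟨a, ha⟩]
      conv => arg 1; arg 1; rw [← hbase]
      rw [← Subgroup.map_sup]
      exact ⟨x, hx, rfl⟩
    · rw [he, ← hmap ⟨a, ha⟩, ← hmap x, hxe]

end Cfsg.Agent.S3821
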