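import Cfsg.Statements.S3822
import Cfsg.Agent.Lib.FixBound.Centralize

set_option autoImplicit false
open Cfsg

namespace Cfsg.Agent.S3822

/-- Let G be a finite group and P a subgroup of prime order p > 3. Consider the solvable subgroups A of G of the form A = ⟨P, aPa⁻¹⟩ for some a ∈ A, and let A be maximal under inclusion among them. Then for every nilpotent subgroup V of G normalized by A, the subgroup F(A)V generated by the Fitting subgroup of A and V is nilpotent. -/
theorem result {G : Type*} [Group G] [Finite G]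
    {p : ℕ} [Fact p.Prime] (hp : 3 < p) (P : Subgroup G) (hP : Nat.card P = p) (A : Subgroup G)
    (hA : Group.IsSolvable ↥A ∧ ∃ a ∈ A, A = P ⊔ P.map (MulAut.conj a).toMonoidHom)
    (hmax : ∀ B : Subgroup G, A ≤ B → Group.IsSolvable ↥B → (∃ b ∈ B, B = P ⊔ P.map (MulAut.conj b).toMonoidHom) → B = A)
    (V : Subgroup G) (hV : Group.IsNilpotent ↥V) (hAV : A ≤ Subgroup.normalizer (V : Set G)) :
    Group.IsNilpotent ↥((Cfsg.fittingSubgroup ↥A).map A.subtype ⊔ V) := by
  classical
  obtain ⟨hAs, a, haA, hAeq⟩ := hA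
  have h5 : 5 ≤ p := by
    rcases Nat.lt_or_ge p 5 with h | h
    · have : p = 4 := by omega
      exact absurd (this ▸ (Fact.out : p.Prime)) (by norm_num)
    · exact h
  set F := (Cfsg.fittingSubgroup ↥A).map A.subtype with hFdef
  have hF : Group.IsNilpotent F := by
    haveI := CfsgLib.Fitting.fittingSubgroup_isNilpotent (G := A)
    exact Group.nilpotent_of_mulEquiv
      (Subgroup.equivMapOfInjective (Cfsg.fittingSubgroup A) A.subtype A.subtype_injective)
  refine CfsgLib.FixBound.isNilpotent_sup_of_coprime_commute hF hV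
    ((Subgroup.map_subtype_le _).trans hAV) fun r s hr hs hrs f hf v hv ⟨i, hi⟩ hvs => ?_
  haveI := Fact.mk hs
  obtain ⟨Vs, hVsp, hVs⟩ := CfsgLib.FixBound.exists_rPart hV s
  refine CfsgLib.FixBound.commute_of_maximal h5 P A hP hAs haA hAeq hmax (r := s) _ Vs le_rfl hVsp ?_ f hf ?_ v
    ((hVs v).mpr ⟨hv, hvs⟩)
  · intro g hg
    refine Subgroup.mem_normalizer_fintype fun y hy => ?_
    obtain ⟨hyV, j, hj⟩ := (hVs y).mp hy
    exact (hVs _).mpr ⟨(Subgroup.mem_normalizer_iff.mp (hAV hg) y).mp hyV, j,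
      by rw [conj_pow, hj, mul_one, mul_inv_cancel]⟩
  · exact (((Nat.coprime_primes hr hs).mpr hrs).pow_left i).coprime_dvd_left (orderOf_dvd_of_pow_eq_one hi)

end Cfsg.Agent.S3822
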