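import Cfsg.Statements.S3824
import Mathlib
import Cfsg.Agent.Lib.Char.Burnside
import Cfsg.Agent.Lib.Coprime.Action

set_option autoImplicit false
set_option linter.style.haveILetI false
open Cfsg

namespace Cfsg.Agent.S3824

universe u

theorem relIndex_sup_normal {G : Type*} [Group G] [Finite G] (A N : Subgroup G) [N.Normal] :
    A.relIndex (A ⊔ N) = A.relIndex N := by
  have h1 := CfsgLib.Coprime.relIndex_mul_card_inf A (A ⊔ N)
  rw [inf_eq_left.mpr (le_sup_left : A ≤ A ⊔ N)] at h1
  have h2 := CfsgLib.Coprime.relIndex_mul_card_inf A N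
  have h3 := CfsgLib.Coprime.card_sup_mul_card_inf (K := N) (S := A) Subgroup.le_normalizer_of_normal
  rw [sup_comm N A, inf_comm N A] at h3
  refine Nat.eq_of_mul_eq_mul_right (Nat.mul_pos (Nat.card_pos (α := A))
    (Nat.card_pos (α := ↥(A ⊓ N)))) ?_
  rw [← mul_assoc, h1, h3, mul_comm (Nat.card A), ← mul_assoc, h2]

theorem main (k : ℕ) : ∀ (G : Type u) [Group G] [Finite G], Nat.card G = k →
    ∀ A : Subgroup G, IsMulCommutative A → (∃ j : ℕ, A.index = 2 ^ j) → Group.IsSolvable G := by
  induction k using Nat.strong_induction_on with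
  | _ k IH =>
  intro G _ _ hk A hA hidx
  subst hk
  obtain ⟨j, hj⟩ := hidx
  by_cases hA1 : A = ⊥
  · subst hA1
    rw [Subgroup.index_bot] at hj
    haveI : Group.IsNilpotent G := (IsPGroup.of_card (p := 2) hj).isNilpotent (hp := ⟨Nat.prime_two⟩)
    infer_instance
  obtain ⟨a, ha, ha1⟩ := (Subgroup.bot_or_exists_ne_one A).resolve_left hA1
  haveI : Nontrivial G := ⟨⟨a, 1, ha1⟩⟩
  by_cases hN : ∀ N : Subgroup G, N.Normal → N = ⊥ ∨ N = ⊤
  · haveI : IsSimpleGroup G := ⟨hN⟩
    have hle : A ≤ Subgroup.centralizer ({a} : Set G) := fun x hx =>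
      Subgroup.mem_centralizer_singleton_iff.mpr
        (congrArg Subtype.val (mul_comm' (⟨x, hx⟩ : A) ⟨a, ha⟩))
    obtain ⟨i, -, hi⟩ := (Nat.dvd_prime_pow Nat.prime_two).mp (hj ▸ Subgroup.index_dvd_of_le hle)
    have hp := CfsgLib.Char.prime_card_of_prime_power_class 2 i Nat.prime_two a ha1 hi
    haveI : Fact (Nat.card G).Prime := ⟨hp⟩
    haveI : IsCyclic G := isCyclic_of_prime_card rfl
    exact Group.isSolvable_of_comm fun x y => mul_comm' (M := G) x y
  push Not at hN
  obtain ⟨N, hN, hN0, hN1⟩ := hN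
  haveI := hN
  have hsub : Group.IsSolvable N := by
    refine IH _ ?_ N rfl (A.subgroupOf N) inferInstance ?_
    · exact (Subgroup.card_le_card_group N).lt_of_ne fun h => hN1 (Subgroup.eq_top_of_card_eq N h)
    · have h1 : (A.subgroupOf N).index ∣ 2 ^ j := by
        show A.relIndex N ∣ 2 ^ j
        rw [← relIndex_sup_normal, ← hj]
        exact Subgroup.relIndex_dvd_index_of_le le_sup_left
      obtain ⟨i, -, hi⟩ := (Nat.dvd_prime_pow Nat.prime_two).mp h1
      exact ⟨i, hi⟩
  have hquo : Group.IsSolvable (G ⧸ N) := by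
    refine IH _ ?_ (G ⧸ N) rfl (A.map (QuotientGroup.mk' N)) inferInstance ?_
    · rw [Subgroup.card_eq_card_quotient_mul_card_subgroup N]
      exact lt_mul_of_one_lt_right Nat.card_pos (N.one_lt_card_iff_ne_bot.mpr hN0)
    · obtain ⟨i, -, hi⟩ := (Nat.dvd_prime_pow Nat.prime_two).mp
        (hj ▸ Subgroup.index_map_dvd A (QuotientGroup.mk'_surjective N))
      exact ⟨i, hi⟩
  exact Group.isSolvable_of_ker_le_range N.subtype (QuotientGroup.mk' N)
    (by rw [QuotientGroup.ker_mk', Subgroup.range_subtype])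

/-- Every finite group having an abelian subgroup whose index is a power of 2 is solvable. -/
theorem result {G : Type*} [Group G] [Finite G]
    (A : Subgroup G) (hA : IsMulCommutative A) (hidx : ∃ k : ℕ, A.index = 2 ^ k) : Group.IsSolvable G := by
  exact main _ G rfl A hA hidx

end Cfsg.Agent.S3824
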