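import Cfsg.Statements.S3825
import Mathlib
-- import your own Cfsg.Agent.* helpers here

set_option autoImplicit false
open Cfsg
open scoped commutatorElement

namespace Cfsg.Agent.S3825

/-- Let U be a subgroup of a finite group H and w an involution of H normalizing U and commuting with exactly two elements of U, the identity and y. If V is a non-cyclic elementary abelian 2-subgroup of U containing y which is normal in U and invariant under w, then V is a Sylow 2-subgroup of U, V has order 4, and U/V is abelian. -/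
theorem result {H : Type*} [Group H] [Finite H] (U : Subgroup H) (w : H) (hw : orderOf w = 2)
    (hwU : w ∈ Subgroup.normalizer (U : Set H)) (y : H) (hy : y ≠ 1) (hyU : y ∈ U)
    (hfix : ∀ u ∈ U, w * u * w⁻¹ = u ↔ (u = 1 ∨ u = y))
    (V : Subgroup H) (hVU : V ≤ U) (hVn : (V.subgroupOf U).Normal) (hVw : ∀ v ∈ V, w * v * w⁻¹ ∈ V)
    (hVe : Cfsg.IsElementaryAbelian 2 V) (hVc : ¬ IsCyclic ↥V) (hyV : y ∈ V) :
    ¬ 2 ∣ V.relIndex U ∧ Nat.card ↥V = 4 ∧ ⁅U, U⁆ ≤ V := by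
  classical
  obtain ⟨hcomm, hsq⟩ := hVe
  have hw2 : w * w = 1 := by
    have := orderOf_dvd_iff_pow_eq_one.mp (dvd_of_eq hw); rwa [pow_two] at this
  have hwinv : w⁻¹ = w := inv_eq_of_mul_eq_one_left hw2
  have hVcomm : ∀ a ∈ V, ∀ b ∈ V, a * b = b * a := fun a ha b hb => congrArg Subtype.val (hcomm.is_comm.comm (⟨a, ha⟩ : V) ⟨b, hb⟩)
  have hV2 : ∀ v ∈ V, v * v = 1 := fun v hv => by
    by_cases h : v = 1
    · rw [h, one_mul]
    · have := hsq v hv; rwa [pow_two] at this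
  have hyy : y * y = 1 := hV2 y hyV
  -- the map `v ↦ v⁻¹ w v w⁻¹` on `V`
  let φ : V →* V :=
    { toFun := fun v => ⟨(v : H)⁻¹ * (w * v * w⁻¹), mul_mem (inv_mem v.2) (hVw v v.2)⟩
      map_one' := Subtype.ext (by simp)
      map_mul' := fun a b => Subtype.ext (by
        show ((a : H) * b)⁻¹ * (w * ((a : H) * b) * w⁻¹) = (a : H)⁻¹ * (w * a * w⁻¹) * ((b : H)⁻¹ * (w * b * w⁻¹))
        rw [← mul_assoc ((a : H)⁻¹ * (w * a * w⁻¹)),
          hVcomm _ (mul_mem (inv_mem a.2) (hVw a a.2)) _ (inv_mem b.2)]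
        group) }
  have hfix' : ∀ u ∈ U, w * u * w⁻¹ = u → u ∈ V := fun u hu h => by
    rcases (hfix u hu).mp h with rfl | rfl
    exacts [one_mem V, hyV]
  have hy' : w * y * w⁻¹ = y := (hfix y hyU).mpr (Or.inr rfl)
  have hker : φ.ker = Subgroup.zpowers (⟨y, hyV⟩ : V) := by
    ext v
    rw [MonoidHom.mem_ker]
    constructor
    · intro h
      have h' : w * (v : H) * w⁻¹ = v := by
        have := congrArg Subtype.val h
        change (v : H)⁻¹ * (w * v * w⁻¹) = 1 at this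
        rwa [inv_mul_eq_one, eq_comm] at this
      rcases (hfix v (hVU v.2)).mp h' with e | e
      · rw [show v = 1 from Subtype.ext e]; exact one_mem _
      · rw [show v = ⟨y, hyV⟩ from Subtype.ext e]; exact Subgroup.mem_zpowers _
    · intro h
      refine MonoidHom.mem_ker.mp ((Subgroup.zpowers_le.mpr ?_) h)
      exact MonoidHom.mem_ker.mpr (Subtype.ext (show y⁻¹ * (w * y * w⁻¹) = 1 by rw [hy', inv_mul_cancel]))
  have hkc : Nat.card φ.ker = 2 := by
    rw [hker, Nat.card_zpowers]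
    refine orderOf_eq_prime (Subtype.ext (by simpa [pow_two] using hyy)) fun h => hy (congrArg Subtype.val h)
  have hrange : φ.range ≤ φ.ker := by
    rintro _ ⟨v, rfl⟩
    refine MonoidHom.mem_ker.mpr (Subtype.ext ?_)
    show ((v : H)⁻¹ * (w * v * w⁻¹))⁻¹ * (w * ((v : H)⁻¹ * (w * v * w⁻¹)) * w⁻¹) = 1
    have hvi : (v : H)⁻¹ = v := inv_eq_of_mul_eq_one_left (hV2 v v.2)
    rw [show w * ((v : H)⁻¹ * (w * v * w⁻¹)) * w⁻¹ = (w * (v : H)⁻¹ * w⁻¹) * ((w * w) * v * (w * w)⁻¹) by group,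
      hw2, inv_one, one_mul, mul_one, hvi, hVcomm _ (hVw v v.2) _ v.2]
    exact inv_mul_cancel _
  have hcard : Nat.card V = 4 := by
    have h := φ.ker.card_mul_index
    rw [Subgroup.index_ker, hkc] at h
    have h2 := Subgroup.card_le_of_le hrange
    rw [hkc] at h2
    have h3 : 0 < Nat.card φ.range := Nat.card_pos
    by_contra hne
    have hV2' : Nat.card V = 2 := by rw [← h] at hne ⊢; omega
    exact hVc (isCyclic_of_prime_card (p := 2) hV2')
  -- `w` acts on `U/V` fixed-point-freely, hence by inversion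
  let σ : MulAut U :=
    { toFun := fun u => ⟨w * u * w⁻¹, (Subgroup.mem_normalizer_iff.mp hwU u).mp u.2⟩
      invFun := fun u => ⟨w * u * w⁻¹, (Subgroup.mem_normalizer_iff.mp hwU u).mp u.2⟩
      left_inv := fun u => Subtype.ext (by
        show w * (w * (u : H) * w⁻¹) * w⁻¹ = u
        rw [show w * (w * (u : H) * w⁻¹) * w⁻¹ = (w * w) * u * (w * w)⁻¹ by group, hw2]; simp)
      right_inv := fun u => Subtype.ext (by
        show w * (w * (u : H) * w⁻¹) * w⁻¹ = u
        rw [show w * (w * (u : H) * w⁻¹) * w⁻¹ = (w * w) * u * (w * w)⁻¹ by group, hw2]; simp)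
      map_mul' := fun a b => Subtype.ext (by
        show w * ((a : H) * b) * w⁻¹ = (w * a * w⁻¹) * (w * b * w⁻¹)
        group) }
  let V' := V.subgroupOf U
  have hσV : V'.map σ.toMonoidHom = V' := by
    refine le_antisymm ?_ fun u hu => ⟨σ u, hVw _ hu, ?_⟩
    · rintro _ ⟨u, hu, rfl⟩; exact hVw _ hu
    · exact σ.left_inv u
  let τ : MulAut (U ⧸ V') := QuotientGroup.congr V' V' σ hσV
  have hτmk : ∀ u : U, τ (QuotientGroup.mk u) = QuotientGroup.mk (σ u) := fun u => rfl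
  have hfpf : ∀ x, τ x = x → x = 1 := fun x hx => by
    obtain ⟨u, rfl⟩ := QuotientGroup.mk_surjective x
    rw [hτmk, eq_comm, QuotientGroup.eq] at hx
    rw [QuotientGroup.eq_one_iff]
    show (u : H) ∈ V
    have hd : (u : H)⁻¹ * (w * u * w⁻¹) ∈ V := hx
    have hdfix : w * ((u : H)⁻¹ * (w * u * w⁻¹)) * w⁻¹ = (u : H)⁻¹ * (w * u * w⁻¹) := by
      rw [show w * ((u : H)⁻¹ * (w * u * w⁻¹)) * w⁻¹ = (w * u * w⁻¹)⁻¹ * ((w * w) * u * (w * w)⁻¹) by group,
        hw2, inv_one, one_mul, mul_one]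
      calc (w * (u : H) * w⁻¹)⁻¹ * u = ((u : H)⁻¹ * (w * u * w⁻¹))⁻¹ := by group
        _ = _ := inv_eq_of_mul_eq_one_left (hV2 _ hd)
    have hmem : (⟨_, hd⟩ : V) ∈ φ.range := by
      have heq : φ.range = φ.ker := Subgroup.eq_of_le_of_card_ge hrange (by
        have h := φ.ker.card_mul_index
        rw [Subgroup.index_ker, hkc, hcard] at h
        rw [hkc]; omega)
      rw [heq]
      refine MonoidHom.mem_ker.mpr (Subtype.ext ?_)
      show ((u : H)⁻¹ * (w * u * w⁻¹))⁻¹ * (w * ((u : H)⁻¹ * (w * u * w⁻¹)) * w⁻¹) = 1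
      rw [hdfix, inv_mul_cancel]
    obtain ⟨v, hv⟩ := hmem
    have hv' : (v : H)⁻¹ * (w * v * w⁻¹) = (u : H)⁻¹ * (w * u * w⁻¹) := congrArg Subtype.val hv
    have := hfix' ((u : H) * (v : H)⁻¹) (mul_mem u.2 (inv_mem (hVU v.2))) (by
      rw [show w * ((u : H) * (v : H)⁻¹) * w⁻¹ = (w * u * w⁻¹) * (w * v * w⁻¹)⁻¹ by group,
        show w * (v : H) * w⁻¹ = v * ((u : H)⁻¹ * (w * u * w⁻¹)) by rw [← hv']; group]
      group)
    simpa using mul_mem this v.2
  have hττ : ∀ x, τ (τ x) = x := fun x => by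
    obtain ⟨u, rfl⟩ := QuotientGroup.mk_surjective x
    rw [hτmk, hτmk]; exact congrArg _ (σ.left_inv u)
  have hinv : ∀ x, τ x = x⁻¹ := fun x => by
    have hinj : Function.Injective fun x => x⁻¹ * τ x := fun a b e => by
      refine mul_inv_eq_one.mp (hfpf _ ?_)
      simp only at e
      rw [map_mul, map_inv, show τ a = a * (b⁻¹ * τ b) by rw [← e]; group]; group
    obtain ⟨a, rfl⟩ := Finite.injective_iff_surjective.mp hinj x
    show τ (a⁻¹ * τ a) = (a⁻¹ * τ a)⁻¹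
    rw [map_mul, map_inv, hττ]; group
  refine ⟨?_, hcard, ?_⟩
  · intro h2
    obtain ⟨x, hx⟩ := exists_prime_orderOf_dvd_card' (G := U ⧸ V') 2 (by
      rwa [← Subgroup.index_eq_card])
    have : x⁻¹ = x := inv_eq_of_mul_eq_one_left (by rw [← pow_two, ← hx, pow_orderOf_eq_one])
    rw [hfpf x (by rw [hinv, this]), orderOf_one] at hx
    norm_num at hx
  · rw [Subgroup.commutator_le]
    intro a ha b hb
    have hab : (QuotientGroup.mk ⟨a, ha⟩ : U ⧸ V') * QuotientGroup.mk ⟨b, hb⟩ =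
        QuotientGroup.mk ⟨b, hb⟩ * QuotientGroup.mk ⟨a, ha⟩ := by
      set x : U ⧸ V' := QuotientGroup.mk ⟨a, ha⟩
      set z : U ⧸ V' := QuotientGroup.mk ⟨b, hb⟩
      have h := hinv (x * z)
      rw [map_mul, hinv, hinv, mul_inv_rev] at h
      calc x * z = (z⁻¹ * x⁻¹)⁻¹ := by group
        _ = (x⁻¹ * z⁻¹)⁻¹ := by rw [h]
        _ = z * x := by group
    have h1 : (QuotientGroup.mk (⁅(⟨a, ha⟩ : U), ⟨b, hb⟩⁆) : U ⧸ V') = 1 := by
      rw [commutatorElement_def, QuotientGroup.mk_mul, QuotientGroup.mk_mul, QuotientGroup.mk_mul,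
        QuotientGroup.mk_inv, QuotientGroup.mk_inv, hab]
      group
    exact ((QuotientGroup.eq_one_iff (N := V') _).mp h1 : (⁅(⟨a, ha⟩ : U), ⟨b, hb⟩⁆ : U) ∈ V')

end Cfsg.Agent.S3825
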