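import Cfsg.Statements.S3835
import Mathlib
import Cfsg.Agent.Lib.Qd.Upper
import Cfsg.Agent.Lib.Perm.AlternatingSylowAbelian
-- import your own Cfsg.Agent.* helpers here

set_option autoImplicit false
open Cfsg

namespace Cfsg.Agent.S3835

open scoped MatrixGroups
open CfsgLib CfsgLib.Qd CfsgLib.Perm.AltAbelian

/-- The affine action of `SL(2, p)` and the translations on the plane. -/
def affPerm {p : ℕ} (g : SL(2, ZMod p)) (v : Fin 2 → ZMod p) : Equiv.Perm (Fin 2 → ZMod p) where
  toFun x := g.1.mulVec x + v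
  invFun x := (g⁻¹).1.mulVec (x - v)
  left_inv x := by
    simp only [add_sub_cancel_right, Matrix.mulVec_mulVec, ← Matrix.SpecialLinearGroup.coe_mul,
      inv_mul_cancel, Matrix.SpecialLinearGroup.coe_one, Matrix.one_mulVec]
  right_inv x := by
    simp only [Matrix.mulVec_mulVec, ← Matrix.SpecialLinearGroup.coe_mul, mul_inv_cancel,
      Matrix.SpecialLinearGroup.coe_one, Matrix.one_mulVec, sub_add_cancel]

noncomputable def toPerm (p : ℕ) : ↥(Cfsg.qd p) →* Equiv.Perm (Fin 2 → ZMod p) :=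
  MonoidHom.mk' (fun x => affPerm (el_surj x).choose (el_surj x).choose_spec.choose) fun x y => by
    have hv := (el_surj x).choose_spec.choose_spec
    have hw := (el_surj y).choose_spec.choose_spec
    have hu := (el_surj (x * y)).choose_spec.choose_spec
    have h : el _ _ = el _ _ * el _ _ := hu.trans (congrArg₂ (· * ·) hv.symm hw.symm)
    rw [el_mul] at h
    obtain ⟨h1, h2⟩ := el_inj h
    refine Equiv.ext fun z => ?_
    rw [Equiv.Perm.mul_apply]
    show (el_surj (x * y)).choose.1.mulVec z + (el_surj (x * y)).choose_spec.choose =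
      (el_surj x).choose.1.mulVec ((el_surj y).choose.1.mulVec z + (el_surj y).choose_spec.choose) +
        (el_surj x).choose_spec.choose
    rw [h2, h1, Matrix.mulVec_add, Matrix.mulVec_mulVec, Matrix.SpecialLinearGroup.coe_mul]
    abel

theorem toPerm_el {p : ℕ} (g : SL(2, ZMod p)) (v : Fin 2 → ZMod p) :
    toPerm p (el g v) = affPerm g v := by
  obtain ⟨h1, h2⟩ := el_inj (el_surj (el g v)).choose_spec.choose_spec
  show affPerm _ _ = affPerm g v
  rw [h2, h1]

theorem toPerm_injective (p : ℕ) : Function.Injective (toPerm p) := by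
  intro x y h
  obtain ⟨g, v, rfl⟩ := el_surj x
  obtain ⟨k, w, rfl⟩ := el_surj y
  rw [toPerm_el, toPerm_el] at h
  have e : ∀ z, g.1.mulVec z + v = k.1.mulVec z + w := fun z => DFunLike.congr_fun h z
  have h2 : v = w := by simpa using e 0
  have h1 : g = k := Subtype.ext (Matrix.ext fun i j => by
    have := congrFun (add_right_cancel ((e (Pi.single j 1)).trans (by rw [h2]))) i
    simpa using this)
  rw [h1, h2]

theorem sign_toPerm {p : ℕ} [Fact p.Prime] (hp : p ≠ 2) (x : ↥(Cfsg.qd p)) :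
    Equiv.Perm.sign (toPerm p x) = 1 := by
  have hodd : Odd p := (Fact.out : p.Prime).eq_two_or_odd'.resolve_left hp
  obtain ⟨g, v, rfl⟩ := el_surj x
  have hsplit : el g v = el 1 v * el g 0 := by
    rw [el_mul, one_mul, Matrix.mulVec_zero, add_zero]
  rw [hsplit, map_mul, map_mul]
  have hv : Equiv.Perm.sign (toPerm p (el 1 v)) = 1 := by
    refine sign_eq_one_of_pow_eq_one hodd ?_
    have h : ∀ n : ℕ, el 1 v ^ n = el 1 (n • v) := by
      intro n
      induction n with
      | zero => simp [el_one]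
      | succ n ih => rw [pow_succ, ih, el_one_add, succ_nsmul]
    have h0 : p • v = 0 := by ext i : 1; simp
    rw [← map_pow, h, h0, el_one, map_one]
  let ι : SL(2, ZMod p) →* ↥(Cfsg.qd p) :=
    MonoidHom.mk' (fun g => el g 0) fun a b => by rw [el_mul, Matrix.mulVec_zero, add_zero]
  let χ := Equiv.Perm.sign.comp ((toPerm p).comp ι)
  have hpow : ∀ z : SL(2, ZMod p), z ^ p = 1 → z ∈ χ.ker := fun z hz => by
    refine sign_eq_one_of_pow_eq_one (g := toPerm p (ι z)) hodd ?_
    rw [← map_pow, ← map_pow, hz, map_one, map_one]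
  have hK : χ.ker = ⊤ := eq_top_of_up_lo (hpow _ (SL2.up_pow (p := p) 1)) (by
    refine hpow _ ?_
    rw [← weyl_conj, conj_pow, SL2.up_pow (p := p), mul_one, mul_inv_cancel])
  have hg : g ∈ χ.ker := hK ▸ Subgroup.mem_top g
  rw [hv, one_mul]
  exact hg

theorem exists_alt_hom {m n : ℕ} (h : m ≤ n) :
    ∃ f : alternatingGroup (Fin m) →* alternatingGroup (Fin n), Function.Injective f := by
  refine ⟨((Equiv.Perm.viaEmbeddingHom (Fin.castLEEmb h)).comp
    (alternatingGroup (Fin m)).subtype).codRestrict _ fun w => ?_, fun u v huv => ?_⟩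
  · rw [Equiv.Perm.mem_alternatingGroup]
    show Equiv.Perm.sign (Equiv.Perm.viaEmbedding (w : Equiv.Perm (Fin m)) (Fin.castLEEmb h)) = 1
    rw [sign_viaEmbedding]
    exact w.2
  · exact Subtype.ext (Equiv.Perm.viaEmbeddingHom_injective _ (congrArg Subtype.val huv))

theorem not_involves {p : ℕ} [Fact p.Prime] (hp : p ≠ 2) {n : ℕ} (hn : n < p ^ 2) :
    ¬ Cfsg.Involves ↥(Cfsg.qd p) ↥(alternatingGroup (Fin n)) := by
  classical
  rintro ⟨K, R, hR, ⟨e⟩⟩
  have h9 : 9 ≤ p ^ 2 := by
    have : 3 ≤ p := by have := (Fact.out : p.Prime).two_le; omega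
    calc 9 = 3 ^ 2 := by norm_num
      _ ≤ p ^ 2 := Nat.pow_le_pow_left this 2
  obtain ⟨f, hf⟩ := exists_alt_hom (le_max_left n 6)
  let π : K →* ↥(Cfsg.qd p) := e.toMonoidHom.comp (QuotientGroup.mk' (R.subgroupOf K))
  have hπ : Function.Surjective π := e.surjective.comp (QuotientGroup.mk'_surjective _)
  let T : Sylow p K := default
  let T' : Sylow p ↥(Cfsg.qd p) := T.mapSurjective hπ
  obtain ⟨Q, hQ⟩ := exists_sylow_upper (p := p)
  -- the image of `T` is abelian
  have hT : ∀ a ∈ (T : Subgroup K), ∀ b ∈ (T : Subgroup K), a * b = b * a := by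
    let j : K →* alternatingGroup (Fin (max n 6)) := f.comp K.subtype
    have hj : Function.Injective j := hf.comp Subtype.val_injective
    obtain ⟨S, hS⟩ := (T.isPGroup'.map j).exists_le_sylow
    haveI hab := (sylow_isMulCommutative_iff (p := p) (le_max_right n 6) S).mpr
      (max_lt hn (by omega))
    intro a ha b hb
    apply hj
    rw [map_mul, map_mul]
    exact congrArg Subtype.val (hab.is_comm.comm ⟨j a, hS ⟨a, ha, rfl⟩⟩ ⟨j b, hS ⟨b, hb, rfl⟩⟩)
  have hT' : ∀ a ∈ (T' : Subgroup ↥(Cfsg.qd p)), ∀ b ∈ (T' : Subgroup ↥(Cfsg.qd p)),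
      a * b = b * a := by
    intro a ha b hb
    rw [Sylow.coe_mapSurjective] at ha hb
    obtain ⟨a', ha', rfl⟩ := ha
    obtain ⟨b', hb', rfl⟩ := hb
    rw [← map_mul, ← map_mul, hT a' ha' b' hb']
  let φ := T'.equiv Q
  have hQab : ∀ x y : (Q : Subgroup ↥(Cfsg.qd p)), x * y = y * x := fun x y => by
    apply φ.symm.injective
    rw [map_mul, map_mul]
    exact Subtype.ext (hT' _ (φ.symm x).2 _ (φ.symm y).2)
  have hmem : ∀ s a b, el3 s a b ∈ (Q : Subgroup ↥(Cfsg.qd p)) := fun s a b =>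
    hQ.symm ▸ mem_upper_iff.mpr ⟨s, a, b, rfl⟩
  have h := congrArg Subtype.val (hQab ⟨el3 1 0 0, hmem 1 0 0⟩ ⟨el3 0 0 1, hmem 0 0 1⟩)
  simp only [Subgroup.coe_mul, el3_mul] at h
  obtain ⟨-, h2, -⟩ := el3_inj h
  simp at h2


/-- Let p be an odd prime and n a natural number. The alternating group of degree n has a subgroup isomorphic to Qd(p) (the natural semidirect product of an elementary abelian group of order p² by SL₂(p)) if and only if n ≥ p²; and if n < p² then Qd(p) is not even involved in it. -/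
theorem result {p : ℕ} [Fact p.Prime] (hp : p ≠ 2) (n : ℕ) : ((∃ H : Subgroup (alternatingGroup (Fin n)), Nonempty (↥H ≃* ↥(Cfsg.qd p))) ↔ p ^ 2 ≤ n) ∧ (n < p ^ 2 → ¬ Cfsg.Involves ↥(Cfsg.qd p) ↥(alternatingGroup (Fin n))) := by
  refine ⟨⟨?_, fun h => ?_⟩, not_involves hp⟩
  · rintro ⟨H, ⟨e⟩⟩
    by_contra h
    refine not_involves hp (not_le.mp h) ⟨H, ⊥, inferInstance, ⟨?_⟩⟩
    exact ((QuotientGroup.quotientMulEquivOfEq (Subgroup.bot_subgroupOf H)).trans
      QuotientGroup.quotientBot).trans e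
  · classical
    obtain ⟨e⟩ := Function.Embedding.nonempty_of_card_le (α := Fin 2 → ZMod p) (β := Fin n)
      (by simpa using h)
    let ψ : ↥(Cfsg.qd p) →* alternatingGroup (Fin n) :=
      ((Equiv.Perm.viaEmbeddingHom e).comp (toPerm p)).codRestrict _ fun x => by
        rw [Equiv.Perm.mem_alternatingGroup]
        show Equiv.Perm.sign (Equiv.Perm.viaEmbedding (toPerm p x) e) = 1
        rw [sign_viaEmbedding]
        exact sign_toPerm hp x
    have hψ : Function.Injective ψ := fun u v huv => toPerm_injective p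
      (Equiv.Perm.viaEmbeddingHom_injective e (congrArg Subtype.val huv))
    exact ⟨ψ.range, ⟨(MonoidHom.ofInjective hψ).symm⟩⟩

end Cfsg.Agent.S3835
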