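import Cfsg.Statements.S3838
import Cfsg.Agent.Lib.Transfer.TateFrattini
import Cfsg.Agent.Lib.Fusion.MetacyclicTwo
import Cfsg.Agent.Lib.ZJ.RealBase

set_option autoImplicit false
open Cfsg

namespace Cfsg.Agent.S3838

open scoped commutatorElement


/-- Let G be a finite group with Sylow p-subgroup P such that N_G(P) has a normal p-complement. Then N_G(Q) has a normal p-complement for every subgroup Q with [P, P] ≤ Q ≤ Φ(P). -/
theorem result {G : Type*} [Group G] [Finite G] {p : ℕ} [Fact p.Prime] (P : Sylow p G) (hN : Cfsg.HasNormalPComplement p ↥(Subgroup.normalizer ((P : Subgroup G) : Set G))) (Q : Subgroup G) (h1 : (commutator ↥(P : Subgroup G)).map (P : Subgroup G).subtype ≤ Q) (h2 : Q ≤ (frattini ↥(P : Subgroup G)).map (P : Subgroup G).subtype) : Cfsg.HasNormalPComplement p ↥(Subgroup.normalizer (Q : Set G)) := by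
  have hQP : Q ≤ (P : Subgroup G) := h2.trans (Subgroup.map_subtype_le _)
  have hPQn : (P : Subgroup G) ≤ Subgroup.normalizer (Q : Set G) := by
    intro x hx
    refine CfsgLib.ZJ.mem_normalizer_of_conj_mem fun y hy => ?_
    have h3 : ⁅x, y⁆ ∈ Q := h1 ⟨⁅(⟨x, hx⟩ : (P : Subgroup G)), ⟨y, hQP hy⟩⁆,
      Subgroup.commutator_mem_commutator (Subgroup.mem_top _) (Subgroup.mem_top _), rfl⟩
    rw [show x * y * x⁻¹ = ⁅x, y⁆ * y by rw [commutatorElement_def]; group]
    exact mul_mem h3 hy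
  set N := Subgroup.normalizer (Q : Set G) with hNdef
  let S : Sylow p N := P.subtype hPQn
  have hS : (S : Subgroup N) = (P : Subgroup G).subgroupOf N := Sylow.coe_subtype ..
  haveI hQn : (Q.subgroupOf N).Normal :=
    (Subgroup.normal_subgroupOf_iff_le_normalizer Subgroup.le_normalizer).mpr le_rfl
  set π := QuotientGroup.mk' (Q.subgroupOf N) with hπdef
  have hπ : Function.Surjective π := QuotientGroup.mk'_surjective _
  let Sb := S.mapSurjective hπ
  have hSbc : (Sb : Subgroup _) = (S : Subgroup N).map π := Sylow.coe_mapSurjective _ _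
  have hab : IsMulCommutative (Sb : Subgroup (N ⧸ Q.subgroupOf N)) := by
    refine ⟨⟨fun a b => Subtype.ext ?_⟩⟩
    obtain ⟨x, hx, ha⟩ := hSbc.le a.2
    obtain ⟨y, hy, hb⟩ := hSbc.le b.2
    show (a : N ⧸ Q.subgroupOf N) * b = b * a
    rw [← ha, ← hb, ← commutatorElement_eq_one_iff_mul_comm, ← map_commutatorElement, hπdef,
      QuotientGroup.mk'_apply, QuotientGroup.eq_one_iff, Subgroup.mem_subgroupOf]
    exact h1 ⟨⁅(⟨(x : G), Subgroup.mem_subgroupOf.mp (hS.le hx)⟩ : (P : Subgroup G)),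
        ⟨(y : G), Subgroup.mem_subgroupOf.mp (hS.le hy)⟩⁆,
      Subgroup.commutator_mem_commutator (Subgroup.mem_top _) (Subgroup.mem_top _), rfl⟩
  have hburn : Subgroup.normalizer ((Sb : Subgroup (N ⧸ Q.subgroupOf N)) : Set (N ⧸ Q.subgroupOf N))
      ≤ Subgroup.centralizer ((Sb : Subgroup (N ⧸ Q.subgroupOf N)) : Set (N ⧸ Q.subgroupOf N)) := by
    intro z hz
    obtain ⟨n, rfl⟩ := hπ z
    have hker : π.ker ≤ (S : Subgroup N) := by
      rw [QuotientGroup.ker_mk', hS]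
      exact fun x hx => hQP hx
    have hn : n ∈ Subgroup.normalizer ((S : Subgroup N) : Set N) := by
      refine CfsgLib.ZJ.mem_normalizer_of_conj_mem fun x hx => ?_
      have h3 := (Subgroup.mem_normalizer_iff.mp hz (π x)).mp (hSbc.ge ⟨x, hx, rfl⟩)
      rw [← map_inv, ← map_mul, ← map_mul] at h3
      obtain ⟨w, hw, e⟩ := hSbc.le h3
      have h4 : w⁻¹ * (n * x * n⁻¹) ∈ π.ker := by
        rw [MonoidHom.mem_ker, map_mul, map_inv, ← e, inv_mul_cancel]
      simpa using mul_mem hw (hker h4)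
    have hnG : (n : G) ∈ Subgroup.normalizer ((P : Subgroup G) : Set G) :=
      CfsgLib.ZJ.mem_normalizer_of_conj_mem fun x hx =>
        hS.le ((Subgroup.mem_normalizer_iff.mp hn ⟨x, hPQn hx⟩).mp (hS.ge hx))
    set M := Subgroup.normalizer ((P : Subgroup G) : Set G) with hMdef
    haveI := CfsgLib.Transfer.pResidual_normal p M
    have hK := (CfsgLib.Transfer.hasNormalPComplement_iff_pResidual.mp hN)
    obtain ⟨a, ha, c, hc, hac⟩ := Subgroup.mem_sup_of_normal_right.mp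
      ((CfsgLib.Transfer.sylow_sup_pResidual (P.subtype (Subgroup.le_normalizer :
        (P : Subgroup G) ≤ M))).ge (Subgroup.mem_top ⟨(n : G), hnG⟩))
    have haP : (a : G) ∈ (P : Subgroup G) := by
      rw [Sylow.coe_subtype] at ha
      exact ha
    have hcc : ∀ x ∈ (P : Subgroup G), (c : G) * x * (c : G)⁻¹ = x := by
      intro x hx
      have h3 : c * ⟨x, Subgroup.le_normalizer hx⟩ * c⁻¹ * (⟨x, Subgroup.le_normalizer hx⟩ : M)⁻¹
          ∈ Cfsg.pResidual p M := by
        rw [mul_assoc, mul_assoc, ← mul_assoc (⟨x, _⟩ : M)]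
        exact mul_mem hc (Subgroup.Normal.conj_mem inferInstance _ (inv_mem hc) _)
      have h4 : (c : G) * x * (c : G)⁻¹ * x⁻¹ ∈ (P : Subgroup G) :=
        mul_mem ((Subgroup.mem_normalizer_iff.mp c.2 x).mp hx) (inv_mem hx)
      obtain ⟨k, hk⟩ := P.2 ⟨_, h4⟩
      have hord : orderOf ((c : G) * x * (c : G)⁻¹ * x⁻¹) = 1 := Nat.eq_one_of_dvd_coprimes
        (((Fact.out : p.Prime).coprime_iff_not_dvd.mpr hK).pow_left k)
        (orderOf_dvd_of_pow_eq_one (congrArg Subtype.val hk))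
        (by
          have h5 := Subgroup.orderOf_dvd_natCard _ h3
          rw [← Subgroup.orderOf_coe] at h5
          exact h5)
      exact mul_inv_eq_one.mp (orderOf_eq_one_iff.mp hord)
    intro y hy
    obtain ⟨x, hx, rfl⟩ := hSbc.le hy
    have hxP : (x : G) ∈ (P : Subgroup G) := Subgroup.mem_subgroupOf.mp (hS.le hx)
    rw [← map_mul, ← map_mul, hπdef, QuotientGroup.mk'_apply, QuotientGroup.mk'_apply,
      QuotientGroup.eq, Subgroup.mem_subgroupOf]
    show ((x : G) * n)⁻¹ * ((n : G) * x) ∈ Q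
    have hn' : (n : G) = a * c := (congrArg Subtype.val hac).symm
    have h6 : ⁅(x : G)⁻¹, (a : G)⁆ ∈ Q := h1 ⟨⁅(⟨(x : G), hxP⟩ : (P : Subgroup G))⁻¹, ⟨a, haP⟩⁆,
      Subgroup.commutator_mem_commutator (Subgroup.mem_top _) (Subgroup.mem_top _), rfl⟩
    have hnx : ((x : G) * n)⁻¹ * ((n : G) * x) = (n : G)⁻¹ * ⁅(x : G)⁻¹, (a : G)⁆ * n := by
      have e2 : (n : G) * x = a * x * c := by
        rw [hn', mul_assoc (a : G), mul_inv_eq_iff_eq_mul.mp (hcc x hxP), ← mul_assoc]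
      rw [e2, hn', commutatorElement_def]
      group
    rw [hnx]
    exact (Subgroup.mem_normalizer_iff''.mp n.2 _).mp h6
  have hnpcQ : Cfsg.HasNormalPComplement p (N ⧸ Q.subgroupOf N) :=
    CfsgLib.Transfer.hasNormalPComplement_of_normalizer_le_centralizer Sb hburn
  refine CfsgLib.Transfer.hasNormalPComplement_of_le_frattini S fun x hx => ?_
  have h3 : π x ∈ (Sb : Subgroup _) ⊓ Cfsg.pResidual p (N ⧸ Q.subgroupOf N) :=
    ⟨hSbc.ge ⟨x, hx.1, rfl⟩,
      (CfsgLib.Transfer.map_pResidual π hπ).le ⟨x, hx.2, rfl⟩⟩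
  have hxQ : (x : G) ∈ Q := by
    obtain ⟨k, hk⟩ := Sb.2 ⟨_, h3.1⟩
    have hord : orderOf (π x) = 1 := Nat.eq_one_of_dvd_coprimes
      (((Fact.out : p.Prime).coprime_iff_not_dvd.mpr
        (CfsgLib.Transfer.hasNormalPComplement_iff_pResidual.mp hnpcQ)).pow_left k)
      (orderOf_dvd_of_pow_eq_one (congrArg Subtype.val hk))
      (Subgroup.orderOf_dvd_natCard _ h3.2)
    exact Subgroup.mem_subgroupOf.mp ((QuotientGroup.eq_one_iff x).mp (orderOf_eq_one_iff.mp hord))
  obtain ⟨y, hy, hye⟩ := h2 hxQ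
  let e : ↥(P : Subgroup G) ≃* ↥(S : Subgroup N) :=
    (Subgroup.subgroupOfEquivOfLe hPQn).symm.trans (MulEquiv.subgroupCongr hS.symm)
  exact ⟨e y, (CfsgLib.Fusion.frattini_mem_iff_of_equiv e y).mpr hy, Subtype.ext hye⟩

end Cfsg.Agent.S3838
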