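import Cfsg.Statements.S3839
import Cfsg.Agent.Lib.Transfer.Frobenius
import Cfsg.Agent.Lib.Coprime.Action

set_option autoImplicit false
set_option linter.style.haveILetI false
open Cfsg

namespace Cfsg.Agent.S3839

open scoped Pointwise

variable {G : Type*} [Group G] [Finite G] {p : ℕ} [Fact p.Prime]

/-- Frattini argument inside `N_G(Q)`: a `p'`-element lies in a normal `M` once the `p'`-elements normalizing
`Q` and the Sylow subgroup `T` of `M` centralize `Q`. -/
theorem mem_of_maximal {Q M : Subgroup G} {N : Subgroup G} [(M.subgroupOf N).Normal] (hMN : M ≤ N)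
    (hC : N ⊓ Subgroup.centralizer (Q : Set G) ≤ M) (T : Subgroup G) (hT : T ≤ M)
    (hTp : IsPGroup p T) (hTi : ¬ p ∣ T.relIndex M)
    (hstep : ∀ n ∈ N, n ∈ Subgroup.normalizer (T : Set G) → (orderOf n).Coprime p →
      n ∈ Subgroup.centralizer (Q : Set G))
    {g : G} (hg : g ∈ N) (hgc : (orderOf g).Coprime p) : g ∈ M := by
  classical
  set M0 := M.subgroupOf N with hM0
  have hle : T.subgroupOf N ≤ M0 := fun x hx => hT hx
  set T0 := (T.subgroupOf N).subgroupOf M0 with hT0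
  have hT0p : IsPGroup p T0 :=
    (hTp.comap_of_injective N.subtype N.subtype_injective).comap_of_injective M0.subtype M0.subtype_injective
  have hT0i : ¬ p ∣ T0.index := by
    rw [hT0, ← Subgroup.relIndex, hM0, Subgroup.relIndex_subgroupOf hMN]
    exact hTi
  have hfr := Sylow.normalizer_sup_eq_top (hT0p.toSylow hT0i)
  rw [IsPGroup.toSylow_coe, hT0, Subgroup.map_subgroupOf_eq_of_le hle] at hfr
  have hg' : (⟨g, hg⟩ : N) ∈ Subgroup.normalizer ((T.subgroupOf N : Subgroup N) : Set N) ⊔ M0 := by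
    rw [hfr]; exact Subgroup.mem_top _
  obtain ⟨n, hn, m, hm, hnm⟩ := Subgroup.mem_sup_of_normal_right.mp hg'
  -- the coprime part of `n` has the same image
  obtain ⟨a, r, -, -, hcop, -⟩ := CfsgLib.Transfer.exists_pow_coprime_part (p := p) (n : G)
  set π := QuotientGroup.mk' M0 with hπ
  have hπn : π n = π ⟨g, hg⟩ := by
    rw [← hnm, map_mul, show π m = 1 from (QuotientGroup.eq_one_iff m).mpr hm, mul_one]
  have hTN : T ≤ N := hT.trans hMN
  have hnT : (n : G) ∈ Subgroup.normalizer (T : Set G) := by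
    rw [Subgroup.mem_normalizer_iff]
    intro x
    constructor
    · intro hx
      exact (Subgroup.mem_normalizer_iff.mp hn ⟨x, hTN hx⟩).mp hx
    · intro hx
      have hxN : x ∈ N := by
        have := mul_mem (mul_mem (inv_mem n.2) (hTN hx)) n.2
        rwa [show (n : G)⁻¹ * ((n : G) * x * (n : G)⁻¹) * n = x by group] at this
      exact (Subgroup.mem_normalizer_iff.mp hn ⟨x, hxN⟩).mpr hx
  have h1 : n ^ p ^ a ∈ M0 := by
    show ((n ^ p ^ a : N) : G) ∈ M
    refine hC ⟨(n ^ p ^ a).2, ?_⟩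
    rw [Subgroup.coe_pow]
    exact hstep _ (pow_mem n.2 _) (pow_mem hnT _) hcop
  have h2 : π ⟨g, hg⟩ ^ p ^ a = 1 := by
    rw [← hπn, ← map_pow]
    exact (QuotientGroup.eq_one_iff _).mpr h1
  have h3 : orderOf (π ⟨g, hg⟩) ∣ orderOf g := by
    refine (orderOf_map_dvd _ _).trans ?_
    rw [← Subgroup.orderOf_coe]
  exact (QuotientGroup.eq_one_iff (⟨g, hg⟩ : N)).mp (orderOf_eq_one_iff.mp (Nat.eq_one_of_dvd_coprimes
    (hgc.pow_right a) h3 (orderOf_dvd_of_pow_eq_one h2)))

/-- `p'`-elements normalizing a subgroup of `S` centralize it. -/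
theorem centralizes (S : Sylow p G) (D : Subgroup G) (hD : Cfsg.IsStronglyClosed D (S : Subgroup G))
    (hU : ∀ U : Subgroup G, U ≤ D → D ⊓ Subgroup.centralizer (U : Set G) ≤ U →
      Cfsg.HasNormalPComplement p ↥(Subgroup.normalizer (U : Set G))) :
    ∀ (k : ℕ) (Q : Subgroup G), Q ≤ (S : Subgroup G) → Nat.card D - Nat.card ↥(Q ⊓ D) = k →
      ∀ g ∈ Subgroup.normalizer (Q : Set G), (orderOf g).Coprime p → g ∈ Subgroup.centralizer (Q : Set G) := by
  classical
  intro k
  induction k using Nat.strong_induction_on with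
  | _ k IH =>
  -- it suffices to treat fully normalized subgroups
  suffices main : ∀ Q : Subgroup G, Q ≤ (S : Subgroup G) → Nat.card D - Nat.card ↥(Q ⊓ D) = k →
      ¬ p ∣ (S : Subgroup G).relIndex (Subgroup.normalizer (Q : Set G)) →
      ∀ g ∈ Subgroup.normalizer (Q : Set G), (orderOf g).Coprime p → g ∈ Subgroup.centralizer (Q : Set G) by
    intro Q hQ hk g hg hgc
    set N := Subgroup.normalizer (Q : Set G) with hN
    obtain ⟨S₀⟩ := (inferInstance : Nonempty (Sylow p N))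
    obtain ⟨S₁, hS₁⟩ := (S₀.2.map N.subtype).exists_le_sylow
    obtain ⟨a, ha⟩ := MulAction.exists_smul_eq G S₁ S
    have hconj : ∀ x ∈ (S₁ : Subgroup G), a * x * a⁻¹ ∈ (S : Subgroup G) := fun x hx => by
      rw [← ha]; exact ⟨x, hx, rfl⟩
    have hQS : ∀ x ∈ Q, a * x * a⁻¹ ∈ (S : Subgroup G) := by
      intro x hx
      haveI : (Q.comap N.subtype).Normal := Subgroup.normal_in_normalizer
      have h1 : (⟨x, Subgroup.le_normalizer hx⟩ : N) ∈ (S₀ : Subgroup N) :=
        (S₀.3 (S₀.2.to_sup_of_normal_right (H := (S₀ : Subgroup N))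
          ((S.2.to_le hQ).comap_of_injective N.subtype N.subtype_injective)) le_sup_left).le
          (Subgroup.mem_sup_right (show (⟨x, Subgroup.le_normalizer hx⟩ : N) ∈ Q.comap N.subtype from hx))
      exact hconj x (hS₁ ⟨_, h1, rfl⟩)
    set f : G →* G := (MulAut.conj a).toMonoidHom with hf
    have hfi : Function.Injective f := (MulAut.conj a).injective
    set Q' := Q.map f with hQ'
    have hQ'S : Q' ≤ (S : Subgroup G) := by rintro _ ⟨x, hx, rfl⟩; exact hQS x hx
    have hQD : Q' ⊓ D = (Q ⊓ D).map f := by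
      refine le_antisymm ?_ (le_inf (Subgroup.map_mono inf_le_left) ?_)
      · rintro _ ⟨⟨x, hx, rfl⟩, hxD⟩
        refine ⟨x, ⟨hx, ?_⟩, rfl⟩
        have := hD.2 _ hxD a⁻¹ (by
          rw [show a⁻¹ * f x * a⁻¹⁻¹ = x by simp [hf, mul_assoc]]; exact hQ hx)
        rwa [show a⁻¹ * f x * a⁻¹⁻¹ = x by simp [hf, mul_assoc]] at this
      · rintro _ ⟨x, hx, rfl⟩
        exact hD.2 x hx.2 a (hQS x hx.1)
    have hN' : Subgroup.normalizer (Q' : Set G) = N.map f := by
      rw [hN, hQ', hf, Subgroup.map_equiv_normalizer_eq]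
    have hg' := main Q' hQ'S (by rw [hQD, Subgroup.card_map_of_injective hfi]; exact hk) (by
      rw [hN']
      intro hd
      refine S₀.not_dvd_index ?_
      have h1 : (S : Subgroup G).relIndex (N.map f) ∣ (((S₀ : Subgroup N).map N.subtype).map f).relIndex (N.map f) :=
        Subgroup.relIndex_dvd_of_le_left _ (by rintro _ ⟨y, hy, rfl⟩; exact hconj y (hS₁ hy))
      have h2 : ((S₀ : Subgroup N).map N.subtype).relIndex N = (S₀ : Subgroup N).index := by
        rw [Subgroup.relIndex, Subgroup.subgroupOf, Subgroup.comap_map_eq_self_of_injective N.subtype_injective]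
      rw [Subgroup.relIndex_map_map_of_injective _ _ hfi, h2] at h1
      exact hd.trans h1)
      (f g) (by rw [hN']; exact Subgroup.mem_map_of_mem f hg)
      (by rw [hf, MulEquiv.coe_toMonoidHom, MulEquiv.orderOf_eq]; exact hgc)
    rw [Subgroup.mem_centralizer_iff] at hg' ⊢
    intro x hx
    have := hg' (f x) (Subgroup.mem_map_of_mem f hx)
    rw [← map_mul, ← map_mul] at this
    exact hfi this
  intro Q hQS hk hfull g hg hgc
  set R := Q ⊓ D with hR
  set N := Subgroup.normalizer (Q : Set G) with hN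
  have hNR : N ≤ Subgroup.normalizer (R : Set G) := by
    intro n hn
    have key : ∀ n ∈ N, ∀ x ∈ R, n * x * n⁻¹ ∈ R := fun n hn x hx => by
      have h1 : n * x * n⁻¹ ∈ Q := (Subgroup.mem_normalizer_iff.mp hn x).mp hx.1
      exact ⟨h1, hD.2 x hx.2 n (hQS h1)⟩
    refine Subgroup.mem_normalizer_iff.mpr fun x => ⟨key n hn x, fun hx => ?_⟩
    have := key n⁻¹ (inv_mem hn) _ hx
    rwa [show n⁻¹ * (n * x * n⁻¹) * n⁻¹⁻¹ = x by group] at this
  by_cases hCR : D ⊓ Subgroup.centralizer (R : Set G) ≤ R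
  · have hNPC := hU R inf_le_right hCR
    set NR := Subgroup.normalizer (R : Set G)
    have h1 := CfsgLib.Transfer.pAutomizers_of_hasNormalPComplement hNPC (Q.subgroupOf NR)
      ((S.2.to_le hQS).comap_of_injective NR.subtype NR.subtype_injective) ⟨g, hNR hg⟩
      (Subgroup.mem_normalizer_iff.mpr fun y => Subgroup.mem_normalizer_iff.mp hg y)
      (by rwa [← Subgroup.orderOf_coe])
    rw [Subgroup.mem_centralizer_iff] at h1 ⊢
    exact fun x hx => congrArg Subtype.val (h1 ⟨x, hNR (Subgroup.le_normalizer hx)⟩ hx)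
  have hSD : ∀ s ∈ (S : Subgroup G), ∀ x ∈ D, s * x * s⁻¹ ∈ D := fun s hs x hx =>
    hD.2 x hx s (mul_mem (mul_mem hs (hD.1 hx)) (inv_mem hs))
  -- an element of `C_D(R)` normalizing `Q` outside `Q`
  obtain ⟨c, hcD, hcR, hcN, hcQ⟩ : ∃ c, c ∈ D ∧ c ∈ Subgroup.centralizer (R : Set G) ∧ c ∈ N ∧ c ∉ Q := by
    set C := D ⊓ Subgroup.centralizer (R : Set G) with hC
    have hQC : Q ≤ Subgroup.normalizer (C : Set G) := by
      intro q hq
      have key : ∀ q ∈ Q, ∀ x ∈ C, q * x * q⁻¹ ∈ C := fun q hq x hx => by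
        refine ⟨hSD q (hQS hq) x hx.1, Subgroup.mem_centralizer_iff.mpr fun y hy => ?_⟩
        have hy' : q⁻¹ * y * q ∈ R := by
          have := (Subgroup.mem_normalizer_iff.mp (hNR (Subgroup.le_normalizer (inv_mem hq))) y).mp hy
          rwa [inv_inv] at this
        calc y * (q * x * q⁻¹) = q * ((q⁻¹ * y * q) * x) * q⁻¹ := by group
          _ = q * (x * (q⁻¹ * y * q)) * q⁻¹ := by rw [Subgroup.mem_centralizer_iff.mp hx.2 _ hy']
          _ = q * x * q⁻¹ * y := by group
      refine Subgroup.mem_normalizer_iff.mpr fun x => ⟨key q hq x, fun hx => ?_⟩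
      have := key q⁻¹ (inv_mem hq) _ hx
      rwa [show q⁻¹ * (q * x * q⁻¹) * q⁻¹⁻¹ = x by group] at this
    set L := Q ⊔ C with hL
    haveI : Group.IsNilpotent L := (S.2.to_le (sup_le hQS (inf_le_left.trans hD.1))).isNilpotent
    have hlt : Q.subgroupOf L < ⊤ := lt_top_iff_ne_top.mpr fun e => hCR fun x hx =>
      ⟨Subgroup.subgroupOf_eq_top.mp e (Subgroup.mem_sup_right hx), hx.1⟩
    obtain ⟨y, hy, hyQ⟩ := SetLike.exists_of_lt (Group.normalizerCondition_of_isNilpotent (G := L) _ hlt)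
    have hyN : (y : G) ∈ N := by
      refine Subgroup.mem_normalizer_iff.mpr fun x => ⟨fun hx => ?_, fun hx => ?_⟩
      · exact (Subgroup.mem_normalizer_iff.mp hy ⟨x, Subgroup.mem_sup_left hx⟩).mp hx
      · have hxL : x ∈ L := by
          have := mul_mem (mul_mem (inv_mem y.2) (Subgroup.mem_sup_left (T := C) hx)) y.2
          rwa [show (y : G)⁻¹ * ((y : G) * x * (y : G)⁻¹) * y = x by group] at this
        exact (Subgroup.mem_normalizer_iff.mp hy ⟨x, hxL⟩).mpr hx
    have hmem : (y : G) ∈ (Q : Set G) * (C : Set G) := by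
      rw [← Subgroup.coe_mul_of_left_le_normalizer_right Q C hQC]
      exact y.2
    obtain ⟨q, hq, c, hc, hqc⟩ := Set.mem_mul.mp hmem
    refine ⟨c, hc.1, hc.2, ?_, fun hcQ => hyQ ?_⟩
    · rw [show c = q⁻¹ * (y : G) by rw [← hqc, inv_mul_cancel_left]]
      exact mul_mem (inv_mem (Subgroup.le_normalizer hq)) hyN
    · show (y : G) ∈ Q
      rw [← hqc]; exact mul_mem hq hcQ
  -- the Frattini step
  have hmain : ∀ M : Subgroup G, M ≤ N → (M.subgroupOf N).Normal → c ∈ M →
      N ⊓ Subgroup.centralizer (Q : Set G) ≤ M → g ∈ M := by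
    intro M hMN hMn hcM hCM
    haveI := hMn
    have hTi : ¬ p ∣ ((S : Subgroup G) ⊓ M).relIndex M := by
      rw [Subgroup.inf_relIndex_right]
      intro hd
      refine hfull (hd.trans ?_)
      set A := ((S : Subgroup G).subgroupOf N) with hA
      set B := M.subgroupOf N with hB
      have h1 : (S : Subgroup G).relIndex M = A.relIndex B := (Subgroup.relIndex_subgroupOf hMN).symm
      have h2 : A.relIndex B = A.relIndex (B ⊔ A) := by
        have e1 := CfsgLib.Coprime.relIndex_mul_card_inf A B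
        have e2 := CfsgLib.Coprime.relIndex_mul_card_inf A (B ⊔ A)
        have e3 := CfsgLib.Coprime.card_sup_mul_card_inf (K := B) (S := A) Subgroup.le_normalizer_of_normal
        rw [inf_eq_left.mpr (le_sup_right : A ≤ B ⊔ A)] at e2
        rw [inf_comm] at e1
        have h3 : (A.relIndex B * Nat.card ↥(B ⊓ A)) * Nat.card A =
            (A.relIndex (B ⊔ A) * Nat.card A) * Nat.card ↥(B ⊓ A) := by rw [e1, e2, e3]
        have hpos : 0 < Nat.card ↥(B ⊓ A) * Nat.card A := Nat.mul_pos Nat.card_pos Nat.card_pos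
        refine Nat.eq_of_mul_eq_mul_right hpos ?_
        rw [← mul_assoc, h3]; ring
      rw [h1, h2]
      exact ⟨_, (Subgroup.relIndex_mul_index (le_sup_right : A ≤ B ⊔ A)).symm⟩
    refine mem_of_maximal hMN hCM ((S : Subgroup G) ⊓ M) inf_le_right (S.2.to_le inf_le_left) hTi ?_ hg hgc
    intro n hn hnT hnc
    set T := (S : Subgroup G) ⊓ M with hT
    have hcT : c ∈ T := ⟨hD.1 hcD, hcM⟩
    have hQ' : Q ⊔ T ≤ (S : Subgroup G) := sup_le hQS inf_le_left
    have hlt : Nat.card ↥(Q ⊓ D) < Nat.card ↥((Q ⊔ T) ⊓ D) := by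
      refine lt_of_le_of_ne (Subgroup.card_le_of_le (inf_le_inf_right D le_sup_left)) fun e => hcQ ?_
      exact ((Subgroup.eq_of_le_of_card_ge (inf_le_inf_right D le_sup_left) e.ge).ge ⟨Subgroup.mem_sup_right hcT, hcD⟩).1
    have hle : Nat.card ↥((Q ⊔ T) ⊓ D) ≤ Nat.card D := Subgroup.card_le_of_le inf_le_right
    have hnQT : n ∈ Subgroup.normalizer ((Q ⊔ T : Subgroup G) : Set G) := by
      rw [Subgroup.mem_normalizer_iff_map_conj_eq] at hn hnT ⊢
      rw [Subgroup.map_sup, hn, hnT]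
    have hRQ : Nat.card R = Nat.card ↥(Q ⊓ D) := rfl
    exact Subgroup.centralizer_le (show (Q : Set G) ⊆ ((Q ⊔ T : Subgroup G) : Set G) from SetLike.coe_subset_coe.mpr le_sup_left)
      (IH _ (by omega) (Q ⊔ T) hQ' rfl n hnQT hnc)
  -- `g` centralizes `R` and `Q / R`
  have hgR : ∀ x ∈ R, g * x * g⁻¹ = x := by
    have h := hmain (N ⊓ Subgroup.centralizer (R : Set G)) inf_le_left ?_ ⟨hcN, hcR⟩
      (inf_le_inf_left _ (Subgroup.centralizer_le fun x hx => hx.1))
    · intro x hx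
      rw [← Subgroup.mem_centralizer_iff.mp h.2 x hx, mul_inv_cancel_right]
    · refine (Subgroup.normal_subgroupOf_iff (H := N ⊓ Subgroup.centralizer (R : Set G)) (K := N) inf_le_left).mpr fun m n hm hn => ⟨(mul_mem (mul_mem hn hm.1) (inv_mem hn) : n * m * n⁻¹ ∈ N), ?_⟩
      refine Subgroup.mem_centralizer_iff.mpr fun y hy => ?_
      have hy' : n⁻¹ * y * n ∈ R := by
        have := (Subgroup.mem_normalizer_iff.mp (hNR (inv_mem hn)) y).mp hy
        rwa [inv_inv] at this
      calc y * (n * m * n⁻¹) = n * ((n⁻¹ * y * n) * m) * n⁻¹ := by group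
        _ = n * (m * (n⁻¹ * y * n)) * n⁻¹ := by rw [Subgroup.mem_centralizer_iff.mp hm.2 _ hy']
        _ = n * m * n⁻¹ * y := by group
  have hgQ : ∀ x ∈ Q, g * x * g⁻¹ * x⁻¹ ∈ R := by
    let M : Subgroup G :=
      { carrier := {m | m ∈ N ∧ ∀ x ∈ Q, m * x * m⁻¹ * x⁻¹ ∈ R}
        one_mem' := ⟨one_mem N, fun x _ => by simp [one_mem R]⟩
        mul_mem' := fun {a b} ha hb => ⟨mul_mem ha.1 hb.1, fun x hx => by
          have h1 := mul_mem (ha.2 _ ((Subgroup.mem_normalizer_iff.mp hb.1 x).mp hx)) (hb.2 x hx)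
          rwa [show a * b * x * (a * b)⁻¹ * x⁻¹ = a * (b * x * b⁻¹) * a⁻¹ * (b * x * b⁻¹)⁻¹ * (b * x * b⁻¹ * x⁻¹) by group]⟩
        inv_mem' := fun {a} ha => ⟨inv_mem ha.1, fun x hx => by
          have h1 := inv_mem (ha.2 _ ((Subgroup.mem_normalizer_iff.mp (inv_mem ha.1) x).mp hx))
          rwa [show (a * (a⁻¹ * x * a⁻¹⁻¹) * a⁻¹ * (a⁻¹ * x * a⁻¹⁻¹)⁻¹)⁻¹ = a⁻¹ * x * a⁻¹⁻¹ * x⁻¹ by group] at h1⟩ }
    have hMn : (M.subgroupOf N).Normal := (Subgroup.normal_subgroupOf_iff (H := M) (K := N) (fun m hm => hm.1)).mpr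
      fun m n hm hn => ⟨mul_mem (mul_mem hn hm.1) (inv_mem hn), fun x hx => by
        have h1 := (Subgroup.mem_normalizer_iff.mp (hNR hn) _).mp
          (hm.2 _ ((Subgroup.mem_normalizer_iff.mp (inv_mem hn) x).mp hx))
        rwa [show n * (m * (n⁻¹ * x * n⁻¹⁻¹) * m⁻¹ * (n⁻¹ * x * n⁻¹⁻¹)⁻¹) * n⁻¹ = n * m * n⁻¹ * x * (n * m * n⁻¹)⁻¹ * x⁻¹ by group] at h1⟩
    have hcM : c ∈ M := by
      refine ⟨hcN, fun x hx => ⟨(mul_mem ((Subgroup.mem_normalizer_iff.mp hcN x).mp hx) (inv_mem hx) : c * x * c⁻¹ * x⁻¹ ∈ Q), ?_⟩⟩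
      rw [show c * x * c⁻¹ * x⁻¹ = c * (x * c⁻¹ * x⁻¹) by group]
      exact mul_mem hcD (hSD x (hQS hx) _ (inv_mem hcD))
    exact (hmain M (fun m hm => hm.1) hMn hcM (fun m hm => ⟨hm.1, fun x hx => by
      rw [← Subgroup.mem_centralizer_iff.mp hm.2 x hx, mul_inv_cancel_right, mul_inv_cancel]; exact one_mem R⟩)).2
  refine Subgroup.mem_centralizer_iff.mpr fun x hx => ?_
  set s := g * x * g⁻¹ * x⁻¹ with hs
  have hpow : ∀ m : ℕ, g ^ m * x * (g ^ m)⁻¹ = s ^ m * x := by
    intro m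
    induction m with
    | zero => simp
    | succ m ihm =>
      calc g ^ (m + 1) * x * (g ^ (m + 1))⁻¹ = g * (g ^ m * x * (g ^ m)⁻¹) * g⁻¹ := by rw [pow_succ']; group
        _ = (g * s * g⁻¹) ^ m * (s * x) := by rw [ihm, conj_pow, hs]; group
        _ = s ^ (m + 1) * x := by rw [hgR s (hgQ x hx), pow_succ, mul_assoc (s ^ m)]
  have h1 := hpow (orderOf g)
  rw [pow_orderOf_eq_one, one_mul, inv_one, mul_one, right_eq_mul] at h1
  obtain ⟨j, hj⟩ := IsPGroup.iff_orderOf.mp (S.2.to_le hQS) ⟨s, (hgQ x hx).1⟩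
  rw [← Subgroup.orderOf_coe] at hj
  have hs1 : s = 1 := orderOf_eq_one_iff.mp
    (Nat.eq_one_of_dvd_coprimes (hgc.pow_right j) (orderOf_dvd_of_pow_eq_one h1) (dvd_of_eq hj))
  rw [hs, mul_inv_eq_one, mul_inv_eq_iff_eq_mul] at hs1
  exact hs1.symm


/-- A Frobenius normal p-complement criterion relative to a strongly closed subgroup. Let G be a finite group, S a Sylow p-subgroup and D a subgroup of S strongly closed in S with respect to G. Then G has a normal p-complement if and only if N_G(U) has a normal p-complement for every subgroup U of D with C_D(U) ≤ U. -/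
theorem result {G : Type*} [Group G] [Finite G] {p : ℕ} [Fact p.Prime] (S : Sylow p G) (D : Subgroup G) (hD : Cfsg.IsStronglyClosed D (S : Subgroup G)) : Cfsg.HasNormalPComplement p G ↔ ∀ U : Subgroup G, U ≤ D → D ⊓ Subgroup.centralizer (U : Set G) ≤ U → Cfsg.HasNormalPComplement p ↥(Subgroup.normalizer (U : Set G)) := by
  refine ⟨fun h U _ _ => CfsgLib.Transfer.hasNormalPComplement_subgroup _ h, fun hU => ?_⟩
  exact CfsgLib.Transfer.hasNormalPComplement_of_pAutomizers (CfsgLib.Transfer.pAutomizers_of_sylow S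
    fun Q hQ g hg hgc => centralizes S D hD hU _ Q hQ rfl g hg hgc)
end Cfsg.Agent.S3839
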