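import Cfsg.Statements.S3858
import Mathlib

set_option autoImplicit false
set_option linter.style.haveILetI false
open Cfsg

namespace Cfsg.Agent.S3858

theorem normalizer_ne_top {G : Type*} [Group G] [Finite G] (T : Subgroup G) (hT : IsSimpleGroup T)
    (hna : ¬ IsMulCommutative T) {r : ℕ} [Fact r.Prime] (S : Subgroup G) (hS : IsPGroup r S)
    (hS0 : S ⊓ T ≠ ⊥) : Subgroup.normalizer (S : Set G) ≠ ⊤ := by
  intro h
  haveI : S.Normal := Subgroup.normalizer_eq_top_iff.mp h
  haveI := hT
  rcases IsSimpleGroup.eq_bot_or_eq_top_of_normal (S.subgroupOf T) inferInstance with h' | h'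
  · exact hS0 (Subgroup.subgroupOf_eq_bot.mp h').eq_bot
  · have hP : IsPGroup r T := by
      refine IsPGroup.of_equiv ?_ Subgroup.topEquiv
      rw [← h']; exact hS.comap_subtype
    haveI : Nontrivial (Subgroup.center T) := hP.center_nontrivial
    rcases IsSimpleGroup.eq_bot_or_eq_top_of_normal (Subgroup.center T) inferInstance with h'' | h''
    · exact (Subgroup.nontrivial_iff_ne_bot _).mp this h''
    · exact hna ⟨⟨fun a b => (Subgroup.mem_center_iff.mp (h'' ▸ Subgroup.mem_top a : a ∈ Subgroup.center T) b).symm⟩⟩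

theorem not_dvd_index_of_le {G : Type*} [Group G] [Finite G] {r : ℕ} [Fact r.Prime] (R : Sylow r G)
    {M : Subgroup G} (h : (R : Subgroup G) ≤ M) : ¬ r ∣ M.index :=
  fun hd => R.not_dvd_index (hd.trans (Subgroup.index_dvd_of_le h))

/-- Let G be a finite group with a normal non-abelian simple subgroup T whose centralizer is trivial (G almost simple with socle T), r a prime and R a Sylow r-subgroup of G meeting T nontrivially. Then R lies in exactly one maximal subgroup of G if and only if G has exactly one conjugacy class of maximal subgroups whose index is prime to r. -/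
theorem result {G : Type*} [Group G] [Finite G] (T : Subgroup G) [T.Normal] (hT : IsSimpleGroup T) (hna : ¬ IsMulCommutative T)
    (hC : Subgroup.centralizer (T : Set G) = ⊥) {r : ℕ} [Fact r.Prime] (R : Sylow r G) (hR0 : (R : Subgroup G) ⊓ T ≠ ⊥) :
    (∃! M : Subgroup G, IsCoatom M ∧ (R : Subgroup G) ≤ M) ↔
      ((∃ M : Subgroup G, IsCoatom M ∧ ¬ r ∣ M.index) ∧
        ∀ M₁ M₂ : Subgroup G, IsCoatom M₁ → ¬ r ∣ M₁.index → IsCoatom M₂ → ¬ r ∣ M₂.index → ∃ g : G, M₂ = M₁.map (MulAut.conj g).toMonoidHom) := by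
  constructor
  · rintro ⟨M, ⟨hM, hRM⟩, huq⟩
    refine ⟨⟨M, hM, not_dvd_index_of_le R hRM⟩, ?_⟩
    have key : ∀ N : Subgroup G, IsCoatom N → ¬ r ∣ N.index →
        ∃ g : G, M = N.map (MulAut.conj g).toMonoidHom := by
      intro N hN hi
      obtain ⟨Q, hQ⟩ : ∃ Q : Sylow r N, True := ⟨default, trivial⟩
      obtain ⟨Q', hQ'⟩ := (Q.isPGroup'.map N.subtype).exists_le_sylow
      have hQN : (Q' : Subgroup G) ≤ N := by
        have hcard : Nat.card Q' ≤ Nat.card ((Q : Subgroup N).map N.subtype) := by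
          rw [Subgroup.card_map_of_injective N.subtype_injective, Q'.card_eq_multiplicity,
            Q.card_eq_multiplicity, ← N.card_mul_index,
            Nat.factorization_mul Nat.card_pos.ne' Subgroup.index_ne_zero_of_finite]
          simp [Nat.factorization_eq_zero_of_not_dvd hi]
        rw [← Subgroup.eq_of_le_of_card_ge hQ' hcard]
        exact Subgroup.map_subtype_le _
      obtain ⟨g, hg⟩ := MulAction.exists_smul_eq G Q' R
      refine ⟨g, (huq _ ⟨?_, ?_⟩).symm⟩
      · exact OrderIso.isCoatom_iff ((MulAut.conj g).mapSubgroup) N |>.mpr hN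
      · rw [← hg, Sylow.coe_subgroup_smul]
        exact Subgroup.map_mono hQN
    intro M₁ M₂ h₁ i₁ h₂ i₂
    obtain ⟨a, ha⟩ := key M₁ h₁ i₁
    obtain ⟨b, hb⟩ := key M₂ h₂ i₂
    refine ⟨b⁻¹ * a, ?_⟩
    have : M₂ = M.map (MulAut.conj b⁻¹).toMonoidHom := by
      rw [hb, Subgroup.map_map]
      convert (Subgroup.map_id M₂).symm
      ext; simp [mul_assoc]
    rw [this, ha, Subgroup.map_map]
    congr 1
    ext; simp [mul_assoc]
  · rintro ⟨-, hconj⟩
    obtain ⟨M₀, hM₀, hN⟩ := (eq_top_or_exists_le_coatom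
      (Subgroup.normalizer ((R : Subgroup G) : Set G))).resolve_left
        (normalizer_ne_top T hT hna _ R.isPGroup' hR0)
    have hR₀ : (R : Subgroup G) ≤ M₀ := Subgroup.le_normalizer.trans hN
    refine ⟨M₀, ⟨hM₀, hR₀⟩, fun M₁ hM₁ => ?_⟩
    obtain ⟨a, ha⟩ := hconj M₀ M₁ hM₀ (not_dvd_index_of_le R hR₀) hM₁.1
      (not_dvd_index_of_le R hM₁.2)
    have hR₁ : ((a⁻¹ • R : Sylow r G) : Subgroup G) ≤ M₀ := by
      rintro x hx
      rw [Sylow.coe_subgroup_smul, Subgroup.mem_pointwise_smul_iff_inv_smul_mem] at hx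
      have := hM₁.2 hx
      rw [ha] at this
      obtain ⟨y, hy, hxy⟩ := this
      simp only [MulEquiv.coe_toMonoidHom, MulAut.conj_apply, MulAut.inv_def, MulAut.smul_def,
        MulAut.conj_symm_apply, inv_inv, map_inv] at hxy
      have : y = x := by simpa using hxy
      exact this ▸ hy
    obtain ⟨m, hm⟩ := MulAction.exists_smul_eq M₀ ((a⁻¹ • R).subtype hR₁) (R.subtype hR₀)
    rw [Sylow.smul_subtype] at hm
    have hm' := Sylow.subtype_injective hm
    have : (m : G) * a⁻¹ ∈ M₀ := hN (Sylow.smul_eq_iff_mem_normalizer.mp (by rw [mul_smul]; exact hm'))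
    have haM : a ∈ M₀ := by
      have := mul_mem (inv_mem m.2) this
      simpa using this
    rw [ha]
    ext x
    simp only [Subgroup.mem_map, MulEquiv.coe_toMonoidHom, MulAut.conj_apply]
    constructor
    · rintro ⟨y, hy, rfl⟩; exact mul_mem (mul_mem haM hy) (inv_mem haM)
    · intro hx; exact ⟨a⁻¹ * x * a, mul_mem (mul_mem (inv_mem haM) hx) haM, by group⟩

end Cfsg.Agent.S3858
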