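import Cfsg.Statements.S3859
import Cfsg.Agent.Lib.Fusion.SaturationExtend

set_option autoImplicit false
set_option linter.style.haveILetI false
open Cfsg

namespace Cfsg.Agent.S3859

theorem normalizer_ne_top {G : Type*} [Group G] [Finite G] (T : Subgroup G) (hT : IsSimpleGroup T)
    (hna : ¬ IsMulCommutative T) {r : ℕ} [Fact r.Prime] (S : Subgroup G) (hS : IsPGroup r S)
    (hS0 : S ⊓ T ≠ ⊥) : Subgroup.normalizer (S : Set G) ≠ ⊤ := by
  intro h
  haveI : S.Normal := Subgroup.normalizer_eq_top_iff.mp h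
  haveI := hT
  rcases IsSimpleGroup.eq_bot_or_eq_top_of_normal (S.subgroupOf T) inferInstance with h' | h'
  · exact hS0 (Subgroup.subgroupOf_eq_bot.mp h').eq_bot
  · have hP : IsPGroup r T := by
      refine IsPGroup.of_equiv ?_ Subgroup.topEquiv
      rw [← h']; exact hS.comap_subtype
    haveI : Nontrivial (Subgroup.center T) := hP.center_nontrivial
    rcases IsSimpleGroup.eq_bot_or_eq_top_of_normal (Subgroup.center T) inferInstance with h'' | h''
    · exact (Subgroup.nontrivial_iff_ne_bot _).mp this h''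
    · exact hna ⟨⟨fun a b => (Subgroup.mem_center_iff.mp (h'' ▸ Subgroup.mem_top a : a ∈ Subgroup.center T) b).symm⟩⟩



/-- Let G be a finite group with a normal non-abelian simple subgroup T whose centralizer is trivial (G almost simple with socle T), r a prime and R a Sylow r-subgroup of G meeting T nontrivially. If R lies in exactly one maximal subgroup of G, then G/T is an r-group. -/
theorem result {G : Type*} [Group G] [Finite G] (T : Subgroup G) [T.Normal] (hT : IsSimpleGroup T) (hna : ¬ IsMulCommutative T)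
    (hC : Subgroup.centralizer (T : Set G) = ⊥) {r : ℕ} [Fact r.Prime] (R : Sylow r G) (hR0 : (R : Subgroup G) ⊓ T ≠ ⊥)
    (huniq : ∃! M : Subgroup G, IsCoatom M ∧ (R : Subgroup G) ≤ M) : IsPGroup r (G ⧸ T) := by
  obtain ⟨M, ⟨hM, hRM⟩, huq⟩ := huniq
  rw [IsPGroup.iff_card]
  by_contra hnot
  have hne : (R : Subgroup G) ⊔ T ≠ ⊤ := by
    intro h
    apply hnot
    have hmap : ((R : Subgroup G).map (QuotientGroup.mk' T)) = ⊤ := by
      have := congrArg (Subgroup.map (QuotientGroup.mk' T)) h
      rwa [Subgroup.map_sup, QuotientGroup.map_mk'_self, sup_bot_eq,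
        Subgroup.map_top_of_surjective _ (QuotientGroup.mk'_surjective T)] at this
    exact (IsPGroup.iff_card.mp (hmap ▸ R.isPGroup'.map (QuotientGroup.mk' T))).imp fun n hn => by
      rw [← hn, Subgroup.card_top]
  obtain ⟨M', hM', hle⟩ := (eq_top_or_exists_le_coatom _).resolve_left hne
  have hTM : T ≤ M := by
    rw [← huq M' ⟨hM', le_sup_left.trans hle⟩]; exact le_sup_right.trans hle
  obtain ⟨SK, hSK⟩ := CfsgLib.Fusion.SatExtend.exists_sylow_inf R T
  have hF := Sylow.normalizer_sup_eq_top SK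
  rw [hSK, Subgroup.subgroupOf_map_subtype] at hF
  set N := Subgroup.normalizer ((((R : Subgroup G) ⊓ T : Subgroup G)) : Set G) with hNdef
  have hRN : (R : Subgroup G) ≤ N := by
    intro x hx
    rw [hNdef, Subgroup.mem_normalizer_iff]
    intro h
    simp only [Subgroup.mem_inf]
    constructor
    · rintro ⟨h1, h2⟩
      exact ⟨mul_mem (mul_mem hx h1) (inv_mem hx), Subgroup.Normal.conj_mem inferInstance _ h2 _⟩
    · rintro ⟨h1, h2⟩
      have e1 := mul_mem (mul_mem (inv_mem hx) h1) hx
      have e2 := Subgroup.Normal.conj_mem (inferInstance : T.Normal) _ h2 x⁻¹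
      simp only [mul_assoc, inv_mul_cancel, mul_one, inv_mul_cancel_left, inv_inv] at e1 e2
      exact ⟨e1, e2⟩
  have hNne : N ≠ ⊤ := by
    refine normalizer_ne_top T hT hna _ (R.isPGroup'.to_le inf_le_left) ?_
    rwa [inf_assoc, inf_idem]
  obtain ⟨M'', hM'', hle''⟩ := (eq_top_or_exists_le_coatom _).resolve_left hNne
  have hNM : N ≤ M := (huq M'' ⟨hM'', hRN.trans hle''⟩) ▸ hle''
  exact hM.1 (top_le_iff.mp (hF ▸ sup_le hNM hTM))

end Cfsg.Agent.S3859
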