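import Cfsg.Statements.S3861
import Mathlib
import Cfsg.Agent.Lib.Coprime.Action
import Cfsg.Agent.Lib.Baer.Basic
import Cfsg.Agent.Lib.Fitting.Basic

set_option autoImplicit false
set_option linter.style.haveILetI false
open Cfsg

namespace Cfsg.Agent.S3861

/-- A real element of odd prime order modulo a normal 2-subgroup lifts to a real element. -/
theorem lift_real {G : Type*} [Group G] [Finite G] (N : Subgroup G) [N.Normal] (hN : IsPGroup 2 N)
    (q : ℕ) [hq : Fact q.Prime] (hq2 : q ≠ 2) (x t : G) (hx : orderOf x = q)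
    (ht : t * x * t⁻¹ * x ∈ N) : ∃ g : G, g * x * g⁻¹ = x⁻¹ := by
  set X := Subgroup.zpowers x
  set M := N ⊔ X
  obtain ⟨b, hb⟩ := IsPGroup.iff_card.mp hN
  have hXcard : Nat.card X = q := by rw [Nat.card_zpowers, hx]
  set y := t * x * t⁻¹ with hy
  have hyM : y ∈ M := by
    have h1 : y = (y * x) * x⁻¹ := by group
    rw [h1]
    exact M.mul_mem (Subgroup.mem_sup_left ht) (Subgroup.mem_sup_right (X.inv_mem (Subgroup.mem_zpowers x)))
  have hdisj : N ⊓ X = ⊥ := by
    refine Subgroup.inf_eq_bot_of_coprime ?_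
    rw [hb, hXcard]
    exact Nat.Coprime.pow_left b ((Nat.coprime_primes Nat.prime_two hq.out).mpr hq2.symm)
  have hMcard : Nat.card M = 2 ^ b * q := by
    have h1 := CfsgLib.Coprime.card_sup_mul_card_inf (K := N) (S := X) Subgroup.le_normalizer_of_normal
    rwa [hdisj, Subgroup.card_bot, mul_one, hb, hXcard] at h1
  have hsyl : ∀ z ∈ M, orderOf z = q → ∃ P : Sylow q M, (P : Subgroup M).map M.subtype = Subgroup.zpowers z := by
    intro z hz hzq
    have hle : Subgroup.zpowers z ≤ M := Subgroup.zpowers_le.mpr hz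
    refine ⟨Sylow.ofCard ((Subgroup.zpowers z).subgroupOf M) ?_, ?_⟩
    · rw [Nat.card_congr (Subgroup.subgroupOfEquivOfLe hle).toEquiv, Nat.card_zpowers, hzq, hMcard,
        Nat.factorization_mul (by positivity) hq.out.ne_zero, Finsupp.add_apply,
        Nat.Prime.factorization_self hq.out, Nat.Prime.factorization_pow Nat.prime_two,
        Finsupp.single_eq_of_ne hq2, zero_add, pow_one]
    · rw [Sylow.coe_ofCard, Subgroup.map_subgroupOf_eq_of_le hle]
  obtain ⟨P1, hP1⟩ := hsyl x (Subgroup.mem_sup_right (Subgroup.mem_zpowers x)) hx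
  obtain ⟨P2, hP2⟩ := hsyl y hyM (by
    rw [hy, ← hx]; exact orderOf_injective (MulAut.conj t).toMonoidHom (MulAut.conj t).injective x)
  obtain ⟨m, hm⟩ := MulAction.exists_smul_eq M P2 P1
  have hmy : (m : G) * y * (m : G)⁻¹ ∈ X := by
    have h1 : y ∈ (P2 : Subgroup M).map M.subtype := hP2.symm ▸ Subgroup.mem_zpowers y
    obtain ⟨w, hw, hwy⟩ := h1
    have h2 : m * w * m⁻¹ ∈ ((m • P2 : Sylow q M) : Subgroup M) := by
      rw [Sylow.coe_subgroup_smul]; exact ⟨w, hw, rfl⟩
    rw [hm] at h2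
    have h3 : M.subtype (m * w * m⁻¹) ∈ (P1 : Subgroup M).map M.subtype :=
      Subgroup.mem_map_of_mem _ h2
    rw [hP1, map_mul, map_mul, map_inv, hwy] at h3
    exact h3
  obtain ⟨n, hn, u, hu, hnu⟩ := Subgroup.mem_sup_of_normal_left.mp m.2
  set n' := u⁻¹ * n * u with hn'
  have hn'N : n' ∈ N := by simpa using Subgroup.Normal.conj_mem inferInstance n hn u⁻¹
  have hz : n' * y * n'⁻¹ ∈ X := by
    have h1 : n' * y * n'⁻¹ = u⁻¹ * ((m : G) * y * (m : G)⁻¹) * u := by rw [hn', ← hnu]; group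
    rw [h1]
    exact X.mul_mem (X.mul_mem (X.inv_mem hu) hmy) hu
  have h5 : n' * y * n'⁻¹ * x ∈ N ⊓ X := by
    refine ⟨?_, X.mul_mem hz (Subgroup.mem_zpowers x)⟩
    rw [show n' * y * n'⁻¹ * x = n' * (y * x) * (x⁻¹ * n'⁻¹ * x) by group]
    exact N.mul_mem (N.mul_mem hn'N ht) (by
      simpa using Subgroup.Normal.conj_mem inferInstance _ (N.inv_mem hn'N) x⁻¹)
  rw [hdisj, Subgroup.mem_bot, mul_eq_one_iff_eq_inv] at h5
  exact ⟨n' * t, by rw [← h5, hy]; group⟩

/-- A finite group G has no non-identity element of odd order that is conjugate to its inverse if and only if the Sylow 2-subgroups of G are normal. -/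
theorem result {G : Type*} [Group G] [Finite G] (P : Sylow 2 G) : (∀ x : G, x ≠ 1 → Odd (orderOf x) → ¬ IsConj x x⁻¹) ↔ (P : Subgroup G).Normal := by
  haveI : Fact (Nat.Prime 2) := ⟨Nat.prime_two⟩
  constructor
  · intro h
    haveI := CfsgLib.Fitting.pCore_normal (G := G) 2
    set N := Cfsg.pCore 2 G with hN
    have hNp : IsPGroup 2 N := CfsgLib.Fitting.pCore_isPGroup 2
    have hNP : N ≤ (P : Subgroup G) := hNp.le_sylow_of_normal P
    suffices hPN : (P : Subgroup G) ≤ N by
      rw [le_antisymm hPN hNP]; infer_instance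
    by_contra hle
    obtain ⟨t0, ht0, ht0N⟩ := SetLike.not_le_iff_exists.mp hle
    set f := QuotientGroup.mk' N
    -- an element of `P` of order two modulo `N`
    obtain ⟨a, haP, haf⟩ : ∃ a ∈ (P : Subgroup G), orderOf (f a) = 2 := by
      obtain ⟨j, hj⟩ := P.2 ⟨t0, ht0⟩
      have hd : orderOf (f t0) ∣ 2 ^ j := (orderOf_map_dvd f t0).trans
        (orderOf_dvd_of_pow_eq_one (congrArg Subtype.val hj))
      have hne : f t0 ≠ 1 := fun e => ht0N ((QuotientGroup.eq_one_iff t0).mp e)
      obtain ⟨i, -, hi⟩ := (Nat.dvd_prime_pow Nat.prime_two).mp hd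
      have h2 : 2 ∣ orderOf (f t0) := by
        rw [hi]; refine dvd_pow_self 2 ?_
        rintro rfl
        exact hne (orderOf_eq_one_iff.mp (by rw [hi, pow_zero]))
      refine ⟨t0 ^ (orderOf (f t0) / 2), Subgroup.pow_mem _ ht0 _, ?_⟩
      rw [map_pow]
      exact orderOf_pow_orderOf_div (orderOf_pos _).ne' h2
    have haN : a ∉ N := fun e => by
      rw [show f a = 1 from (QuotientGroup.eq_one_iff a).mpr e, orderOf_one] at haf
      exact absurd haf (by norm_num)
    obtain ⟨g, hg⟩ := CfsgLib.Baer.exists_conj_not_isPGroup (p := 2)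
      (P.2.to_le (Subgroup.zpowers_le.mpr haP))
      (fun M hM hMp haM => haN (CfsgLib.Fitting.le_pCore hM hMp haM))
    set A := f a with hA
    set B := f (g * a * g⁻¹) with hB
    have hBord : orderOf B = 2 := by
      rw [hB, map_mul, map_mul, map_inv, ← haf]
      exact orderOf_injective (MulAut.conj (f g)).toMonoidHom (MulAut.conj (f g)).injective A
    have hA2 : A * A = 1 := by rw [← sq, ← haf]; exact pow_orderOf_eq_one A
    have hB2 : B * B = 1 := by rw [← sq, ← hBord]; exact pow_orderOf_eq_one B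
    have hAi : A⁻¹ = A := inv_eq_of_mul_eq_one_right hA2
    have hBi : B⁻¹ = B := inv_eq_of_mul_eq_one_right hB2
    set c := A * B with hc
    have hinv : A * c * A⁻¹ = c⁻¹ := by
      rw [hc, mul_inv_rev, hBi, hAi, ← mul_assoc, hA2, one_mul]
    -- `c` is not a 2-element
    obtain ⟨q, hq, hq2, hqd⟩ : ∃ q : ℕ, q.Prime ∧ q ≠ 2 ∧ q ∣ orderOf c := by
      by_contra hno
      push Not at hno
      apply hg
      have hcp : ∃ i, orderOf c = 2 ^ i :=
        ⟨_, Nat.eq_prime_pow_of_unique_prime_dvd (orderOf_pos c).ne' fun {d} hd hdd => by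
          by_contra h2
          exact hno d hd h2 hdd⟩
      obtain ⟨i, hi⟩ := hcp
      have hnorm : Subgroup.zpowers A ≤ Subgroup.normalizer ((Subgroup.zpowers c : Subgroup (G ⧸ N)) : Set (G ⧸ N)) := by
        rw [Subgroup.zpowers_le, Subgroup.mem_normalizer_iff]
        intro z
        constructor
        · intro hz
          obtain ⟨e, rfl⟩ := Subgroup.mem_zpowers_iff.mp hz
          rw [← conj_zpow, hinv]
          exact Subgroup.zpow_mem _ (Subgroup.inv_mem _ (Subgroup.mem_zpowers c)) e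
        · intro hz
          obtain ⟨e, he⟩ := Subgroup.mem_zpowers_iff.mp hz
          have h1 : z = A⁻¹ * (c ^ e) * A⁻¹⁻¹ := by rw [he]; group
          rw [h1, ← conj_zpow, hAi, inv_eq_of_mul_eq_one_right hA2]
          nth_rewrite 2 [← hAi]
          rw [hinv]
          exact Subgroup.zpow_mem _ (Subgroup.inv_mem _ (Subgroup.mem_zpowers c)) e
      have hp : IsPGroup 2 ↥(Subgroup.zpowers c ⊔ Subgroup.zpowers A) := by
        have h1 := CfsgLib.Coprime.card_sup_mul_card_inf (K := Subgroup.zpowers c) (S := Subgroup.zpowers A) hnorm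
        rw [Nat.card_zpowers, Nat.card_zpowers, hi, haf, ← pow_succ] at h1
        obtain ⟨e, -, he⟩ := (Nat.dvd_prime_pow Nat.prime_two).mp (Dvd.intro _ h1)
        exact IsPGroup.of_card he
      refine (hp.comap_of_ker_isPGroup f (by rw [QuotientGroup.ker_mk']; exact hNp)).to_le ?_
      rw [Subgroup.closure_le]
      rintro z (rfl | rfl)
      · exact Subgroup.mem_sup_right (Subgroup.mem_zpowers A)
      · show B ∈ Subgroup.zpowers c ⊔ Subgroup.zpowers A
        have : B = A * c := by rw [hc, ← mul_assoc, hA2, one_mul]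
        rw [this]
        exact Subgroup.mul_mem _ (Subgroup.mem_sup_right (Subgroup.mem_zpowers A))
          (Subgroup.mem_sup_left (Subgroup.mem_zpowers c))
    haveI : Fact q.Prime := ⟨hq⟩
    set cq := c ^ (orderOf c / q) with hcq
    have hcqord : orderOf cq = q := orderOf_pow_orderOf_div (orderOf_pos c).ne' hqd
    obtain ⟨z, hz⟩ := QuotientGroup.mk'_surjective N cq
    have hcqinv : A * cq * A⁻¹ = cq⁻¹ := by
      rw [hcq, ← conj_pow, hinv, inv_pow]
    obtain ⟨i, hi⟩ := hNp ⟨z ^ q, (QuotientGroup.eq_one_iff _).mp (by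
      show f (z ^ q) = 1
      rw [map_pow, hz, ← hcqord]; exact pow_orderOf_eq_one cq)⟩
    have hzq : (z ^ 2 ^ i) ^ q = 1 := by
      rw [← pow_mul, mul_comm, pow_mul]; exact congrArg Subtype.val hi
    have hfx : f (z ^ 2 ^ i) = cq ^ 2 ^ i := by rw [map_pow, hz]
    have hfx1 : f (z ^ 2 ^ i) ≠ 1 := by
      rw [hfx]
      intro e
      have h1 := orderOf_dvd_of_pow_eq_one e
      rw [hcqord] at h1
      exact hq2 ((Nat.prime_dvd_prime_iff_eq hq Nat.prime_two).mp (hq.dvd_of_dvd_pow h1))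
    set x := z ^ 2 ^ i
    have hx1 : x ≠ 1 := fun e => hfx1 (by rw [e, map_one])
    have hxord : orderOf x = q := orderOf_eq_prime hzq hx1
    have htx : a * x * a⁻¹ * x ∈ N := by
      refine (QuotientGroup.eq_one_iff _).mp ?_
      show f (a * x * a⁻¹ * x) = 1
      rw [map_mul, map_mul, map_mul, map_inv, hfx, ← hA, ← conj_pow, hcqinv, inv_pow, inv_mul_cancel]
    obtain ⟨k, hk⟩ := lift_real N hNp q hq2 x a hxord htx
    exact h x hx1 (by rw [hxord]; exact hq.odd_of_ne_two hq2) (isConj_iff.mpr ⟨k, hk⟩)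
  · intro hP x hx hodd hreal
    haveI := hP
    set f := QuotientGroup.mk' (P : Subgroup G)
    have hcop : Nat.Coprime 2 (P : Subgroup G).index :=
      (Nat.Prime.coprime_iff_not_dvd Nat.prime_two).mpr P.not_dvd_index
    obtain ⟨t, ht⟩ := isConj_iff.mp hreal
    have hft : f t * f x * (f t)⁻¹ = (f x)⁻¹ := by rw [← map_inv, ← map_mul, ← map_mul, ht, map_inv]
    have hiter : ∀ n : ℕ, (f t) ^ n * f x * ((f t) ^ n)⁻¹ = if Even n then f x else (f x)⁻¹ := by
      intro n
      induction n with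
      | zero => simp
      | succ n ih =>
        rw [pow_succ', mul_inv_rev,
          show f t * (f t) ^ n * f x * (((f t) ^ n)⁻¹ * (f t)⁻¹)
            = f t * ((f t) ^ n * f x * ((f t) ^ n)⁻¹) * (f t)⁻¹ by group, ih]
        by_cases hn : Even n
        · rw [if_pos hn, hft, if_neg (by simp [Nat.even_add_one, hn])]
        · rw [if_neg hn, if_pos (by simp [Nat.even_add_one, hn]),
            show f t * (f x)⁻¹ * (f t)⁻¹ = (f t * f x * (f t)⁻¹)⁻¹ by group, hft, inv_inv]
    have hidx : ∀ y : G ⧸ (P : Subgroup G), orderOf y ∣ (P : Subgroup G).index := fun y => by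
      rw [Subgroup.index_eq_card]; exact orderOf_dvd_natCard y
    have hmodd : ¬ Even (orderOf (f t)) := fun he =>
      P.not_dvd_index ((even_iff_two_dvd.mp he).trans (hidx _))
    have h1 := hiter (orderOf (f t))
    rw [pow_orderOf_eq_one, if_neg hmodd, one_mul, inv_one, mul_one] at h1
    have h2 : f x = 1 := orderOf_eq_one_iff.mp (Nat.eq_one_of_dvd_coprimes hcop
      (orderOf_dvd_of_pow_eq_one (by rw [sq]; nth_rewrite 2 [h1]; exact mul_inv_cancel _))
      (hidx _))
    have hxP : x ∈ (P : Subgroup G) := (QuotientGroup.eq_one_iff x).mp h2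
    obtain ⟨j, hj⟩ := P.2 ⟨x, hxP⟩
    exact hx (orderOf_eq_one_iff.mp (Nat.eq_one_of_dvd_coprimes
      (Nat.Coprime.pow_left j hodd.coprime_two_left)
      (orderOf_dvd_of_pow_eq_one (congrArg Subtype.val hj)) dvd_rfl))

end Cfsg.Agent.S3861
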