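import Cfsg.Statements.S3862
import Mathlib
import Cfsg.Agent.Lib.Transfer.Frobenius
import Cfsg.Agent.Lib.PSolvable.Omega

set_option autoImplicit false
set_option linter.style.haveILetI false
open Cfsg

namespace Cfsg.Agent.S3862

universe u

/-- An automorphism of odd order of a 2-group `Q` that fixes every element inverted by some
element of `Q` is trivial. -/
theorem aut_eq_one (k : ℕ) : ∀ (Q : Type u) [Group Q] [Finite Q], Nat.card Q = k → IsPGroup 2 Q →
    ∀ φ : MulAut Q, Odd (orderOf φ) → (∀ u v : Q, v * u * v⁻¹ = u⁻¹ → φ u = u) →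
    ∀ x : Q, φ x = x := by
  induction k using Nat.strong_induction_on with
  | _ k IH =>
  intro Q _ _ hk hQ φ hodd hreal
  subst hk
  haveI : Fact (Nat.Prime 2) := ⟨Nat.prime_two⟩
  by_contra hne
  push Not at hne
  obtain ⟨x0, hx0⟩ := hne
  -- proper invariant subgroups are fixed pointwise
  have hprop : ∀ R : Subgroup Q, R ≠ ⊤ → (∀ x ∈ R, φ x ∈ R) → ∀ x ∈ R, φ x = x := by
    intro R hR hinv x hx
    have hmap : R.map φ.toMonoidHom = R := by
      refine Subgroup.eq_of_le_of_card_ge ?_ ?_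
      · rintro _ ⟨y, hy, rfl⟩; exact hinv y hy
      · exact (Nat.card_congr (R.equivMapOfInjective φ.toMonoidHom φ.injective).toEquiv).le
    set ψ : MulAut R := (R.equivMapOfInjective φ.toMonoidHom φ.injective).trans
      (MulEquiv.subgroupCongr hmap) with hψ
    have hψn : ∀ n : ℕ, ∀ y : R, ((ψ ^ n) y : Q) = (φ ^ n) y := by
      intro n
      induction n with
      | zero => intro y; rfl
      | succ n ih =>
        intro y
        rw [pow_succ', pow_succ', MulAut.mul_apply, MulAut.mul_apply, ← ih]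
        rfl
    have hd : orderOf ψ ∣ orderOf φ := orderOf_dvd_of_pow_eq_one (MulEquiv.ext fun y =>
      Subtype.ext ((hψn _ y).trans (by rw [pow_orderOf_eq_one]; rfl)))
    have hlt : Nat.card R < Nat.card Q := (Subgroup.card_le_card_group R).lt_of_ne fun h =>
      hR (Subgroup.eq_top_of_card_eq R h)
    have := IH _ hlt R rfl (hQ.to_subgroup R) ψ (hodd.of_dvd_nat hd) (fun u v h => by
      apply Subtype.ext
      exact hreal u v (congrArg Subtype.val h)) ⟨x, hx⟩
    exact congrArg Subtype.val this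
  have hfix : ∀ u : Q, φ (u⁻¹ * φ u) = u⁻¹ * φ u → φ u = u := by
    intro u hd
    set d := u⁻¹ * φ u with hddef
    have hn : ∀ n : ℕ, (φ ^ n) u = u * d ^ n := by
      intro n
      induction n with
      | zero => simp
      | succ n ih =>
        rw [pow_succ', MulAut.mul_apply, ih, map_mul, map_pow, hd, pow_succ', ← mul_assoc]
        congr 1
        rw [hddef, mul_inv_cancel_left]
    have h1 : d ^ orderOf φ = 1 := by
      have := hn (orderOf φ)
      rw [pow_orderOf_eq_one, MulAut.one_apply] at this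
      exact left_eq_mul.mp this
    obtain ⟨j, hj⟩ := hQ d
    have h2 : d = 1 := orderOf_eq_one_iff.mp (Nat.eq_one_of_dvd_coprimes
      (Nat.Coprime.pow_left j hodd.coprime_two_left) (orderOf_dvd_of_pow_eq_one hj)
      (orderOf_dvd_of_pow_eq_one h1))
    rw [hddef, inv_mul_eq_one] at h2
    exact h2.symm
  set Φ := frattini Q
  haveI : Nontrivial Q := ⟨⟨φ x0, x0, hx0⟩⟩
  have hΦtop : Φ ≠ ⊤ := fun h => by
    obtain ⟨M, hM, -⟩ := (IsCoatomic.eq_top_or_exists_le_coatom (⊥ : Subgroup Q)).resolve_left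
      bot_ne_top
    exact hM.1 (top_le_iff.mp (h.ge.trans (frattini_le_coatom hM)))
  have hΦinv : ∀ x ∈ Φ, φ x ∈ Φ := fun x hx => by
    have h := (Subgroup.characteristic_iff_map_eq.mp (inferInstance : Φ.Characteristic) φ)
    rw [← h]; exact Subgroup.mem_map_of_mem _ hx
  have hΦfix := hprop Φ hΦtop hΦinv
  have hsq : ∀ x : Q, x ^ 2 ∈ Φ := (CfsgLib.PSolvable.commutator_le_frattini hQ).2
  have hcm : ∀ x y : Q, x * y * x⁻¹ * y⁻¹ ∈ Φ := fun x y =>
    (CfsgLib.PSolvable.commutator_le_frattini hQ).1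
      (Subgroup.commutator_mem_commutator (Subgroup.mem_top x) (Subgroup.mem_top y))
  -- `Φ` is central
  have hcen : ∀ z ∈ Φ, ∀ y : Q, y * z = z * y := by
    set W := Subgroup.centralizer (Φ : Set Q) with hW
    by_cases hWtop : W = ⊤
    · intro z hz y
      exact (Subgroup.mem_centralizer_iff.mp (hWtop ▸ Subgroup.mem_top y : y ∈ W) z hz).symm
    exfalso
    have hWinv : ∀ x ∈ W, φ x ∈ W := fun x hx => Subgroup.mem_centralizer_iff.mpr fun z hz => by
      have h1 := congrArg φ (Subgroup.mem_centralizer_iff.mp hx z hz)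
      rwa [map_mul, map_mul, hΦfix z hz] at h1
    refine hx0 (hfix x0 (hprop W hWtop hWinv _ (Subgroup.mem_centralizer_iff.mpr fun z hz => ?_)))
    have hz' : x0 * z * x0⁻¹ ∈ Φ := Subgroup.Normal.conj_mem inferInstance z hz x0
    have h1 : φ x0 * z * (φ x0)⁻¹ = x0 * z * x0⁻¹ := by
      have h := hΦfix _ hz'
      rwa [map_mul, map_mul, map_inv, hΦfix z hz] at h
    calc z * (x0⁻¹ * φ x0) = x0⁻¹ * (x0 * z * x0⁻¹) * φ x0 := by group
      _ = x0⁻¹ * φ x0 * z := by rw [← h1]; group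
  let c : Q →* Q :=
    { toFun := fun v => v * x0 * v⁻¹ * x0⁻¹
      map_one' := by group
      map_mul' := fun v w => by
        calc v * w * x0 * (v * w)⁻¹ * x0⁻¹
            = (v * (w * x0 * w⁻¹ * x0⁻¹) * v⁻¹) * (v * x0 * v⁻¹ * x0⁻¹) := by group
          _ = (w * x0 * w⁻¹ * x0⁻¹) * (v * x0 * v⁻¹ * x0⁻¹) := by
              rw [hcen _ (hcm w x0) v, mul_inv_cancel_right]
          _ = (v * x0 * v⁻¹ * x0⁻¹) * (w * x0 * w⁻¹ * x0⁻¹) :=
              (hcen _ (hcm w x0) _).symm }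
  set R := c.range with hR
  have hRΦ : R ≤ Φ := by
    rintro _ ⟨v, rfl⟩; exact hcm v x0
  by_cases hu : (x0 ^ 2)⁻¹ ∈ R
  · obtain ⟨v, hv⟩ := hu
    refine hx0 (hreal x0 v ?_)
    have hv' : v * x0 * v⁻¹ * x0⁻¹ = (x0 ^ 2)⁻¹ := hv
    rw [mul_inv_eq_iff_eq_mul.mp hv']
    group
  · haveI hRn : R.Normal := ⟨fun z hz g => by
      rw [hcen z (hRΦ hz) g, mul_inv_cancel_right]; exact hz⟩
    set f := QuotientGroup.mk' R
    have hfφ : ∀ x : Q, x ∈ R → φ x = x := fun x hx => hΦfix x (hRΦ hx)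
    let W1 : Subgroup Q := (Subgroup.center (Q ⧸ R)).comap f
    have hW1inv : ∀ x ∈ W1, φ x ∈ W1 := fun x hx => by
      refine Subgroup.mem_center_iff.mpr fun y => ?_
      obtain ⟨y, rfl⟩ := QuotientGroup.mk'_surjective R y
      obtain ⟨y', rfl⟩ := φ.surjective y
      have h1 : f (y' * x) = f (x * y') := by
        rw [map_mul, map_mul]; exact Subgroup.mem_center_iff.mp hx (f y')
      show f (φ y') * f (φ x) = f (φ x) * f (φ y')
      rw [← map_mul f, ← map_mul f, ← map_mul φ, ← map_mul φ]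
      refine QuotientGroup.eq.mpr ?_
      rw [← map_inv, ← map_mul φ, hfφ _ (QuotientGroup.eq.mp h1)]
      exact QuotientGroup.eq.mp h1
    have hx0W1 : x0 ∈ W1 := by
      refine Subgroup.mem_center_iff.mpr fun y => ?_
      obtain ⟨y, rfl⟩ := QuotientGroup.mk'_surjective R y
      have h1 : f (y * x0 * y⁻¹ * x0⁻¹) = 1 := (QuotientGroup.eq_one_iff _).mpr ⟨y, rfl⟩
      rw [map_mul, map_mul, map_mul, map_inv, map_inv] at h1
      exact mul_inv_eq_iff_eq_mul.mp (mul_inv_eq_one.mp h1)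
    have hW1top : W1 = ⊤ := by
      by_contra h
      exact hx0 (hprop W1 h hW1inv x0 hx0W1)
    have hab : ∀ a b : Q, Commute (f a) (f b) := fun a b =>
      Subgroup.mem_center_iff.mp (hW1top ▸ Subgroup.mem_top b : b ∈ W1) (f a)
    let W2 : Subgroup Q :=
      { carrier := {x | f x ^ 2 = 1}
        one_mem' := by show f 1 ^ 2 = 1; rw [map_one, one_pow]
        mul_mem' := fun {a b} (ha : f a ^ 2 = 1) (hb : f b ^ 2 = 1) => show f (a * b) ^ 2 = 1 by
          rw [map_mul, (hab a b).mul_pow, ha, hb, one_mul]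
        inv_mem' := fun {a} (ha : f a ^ 2 = 1) => show f a⁻¹ ^ 2 = 1 by
          rw [map_inv, inv_pow, ha, inv_one] }
    have hW2inv : ∀ x ∈ W2, φ x ∈ W2 := fun x (hx : f x ^ 2 = 1) => show f (φ x) ^ 2 = 1 by
      have h1 : x ^ 2 ∈ R := by rwa [← map_pow, QuotientGroup.mk'_apply, QuotientGroup.eq_one_iff] at hx
      rw [← map_pow, ← map_pow, hfφ _ h1, map_pow]; exact hx
    have hW2top : W2 ≠ ⊤ := fun h => hu (R.inv_mem (by
      have h1 : f x0 ^ 2 = 1 := (h ▸ Subgroup.mem_top x0 : x0 ∈ W2)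
      rwa [← map_pow, QuotientGroup.mk'_apply, QuotientGroup.eq_one_iff] at h1))
    refine hx0 (hfix x0 (hprop W2 hW2top hW2inv _ ?_))
    show f (x0⁻¹ * φ x0) ^ 2 = 1
    rw [map_mul, (hab _ _).mul_pow, map_inv, inv_pow, ← map_pow, ← map_pow,
      show φ x0 ^ 2 = x0 ^ 2 by rw [← map_pow, hΦfix _ (hsq x0)], inv_mul_cancel]

/-- If every 2-element of the finite group G that is conjugate to its inverse lies in the centre of G, then G has a normal 2-complement. -/
theorem result {G : Type*} [Group G] [Finite G] (h : ∀ x : G, (∃ j : ℕ, orderOf x = 2 ^ j) → IsConj x x⁻¹ → x ∈ Subgroup.center G) : Cfsg.HasNormalPComplement 2 G := by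
  haveI : Fact (Nat.Prime 2) := ⟨Nat.prime_two⟩
  refine CfsgLib.Transfer.hasNormalPComplement_of_pAutomizers fun Q hQ a ha hodd => ?_
  rw [Subgroup.mem_centralizer_iff]
  intro x hx
  set φ : MulAut Q := Q.normalizerMonoidHom ⟨a, ha⟩ with hφ
  have hd : orderOf φ ∣ orderOf a := by
    rw [hφ]
    refine (orderOf_map_dvd _ _).trans ?_
    rw [← Subgroup.orderOf_coe]
  have h1 := aut_eq_one _ Q rfl hQ φ
    ((Nat.coprime_two_right.mp hodd).of_dvd_nat hd) (fun u v huv => by
      have hc : (u : G) ∈ Subgroup.center G := by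
        refine h _ ?_ (isConj_iff.mpr ⟨v, congrArg Subtype.val huv⟩)
        obtain ⟨n, hn⟩ := IsPGroup.iff_card.mp hQ
        obtain ⟨i, -, hi⟩ := (Nat.dvd_prime_pow Nat.prime_two).mp
          (hn ▸ Subgroup.orderOf_dvd_natCard (s := Q) u.2)
        exact ⟨i, hi⟩
      apply Subtype.ext
      show a * (u : G) * a⁻¹ = u
      rw [Subgroup.mem_center_iff.mp hc a, mul_inv_cancel_right]) ⟨x, hx⟩
  exact (mul_inv_eq_iff_eq_mul.mp (congrArg Subtype.val h1 : a * x * a⁻¹ = x)).symm

end Cfsg.Agent.S3862
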