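import Cfsg.Statements.S3863
import Mathlib

set_option autoImplicit false
set_option linter.style.haveILetI false
open Cfsg

namespace Cfsg.Agent.S3863

/-- Let x be an element of the finite group G that is conjugate to its inverse. Then some 2-element conjugates x to its inverse; if the conjugacy class of x has odd size then x ^ 2 = 1; and x lies in, and is conjugate to its inverse inside, every normal subgroup of odd index. -/
theorem result {G : Type*} [Group G] [Finite G] (x : G) (hx : IsConj x x⁻¹) : (∃ t : G, (∃ j : ℕ, orderOf t = 2 ^ j) ∧ t * x * t⁻¹ = x⁻¹) ∧ (Odd (Subgroup.centralizer ({x} : Set G)).index → x ^ 2 = 1) ∧ ∀ (N : Subgroup G) [N.Normal], Odd N.index → ∃ hxN : x ∈ N, IsConj (⟨x, hxN⟩ : N) (⟨x, hxN⟩ : N)⁻¹ := by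
  obtain ⟨t0, ht0⟩ := isConj_iff.mp hx
  have hpow : ∀ k : ℕ, Odd k → t0 ^ k * x * (t0 ^ k)⁻¹ = x⁻¹ := by
    intro k hk
    obtain ⟨j, rfl⟩ := hk
    have h2 : ∀ i : ℕ, t0 ^ (2 * i) * x * (t0 ^ (2 * i))⁻¹ = x := by
      intro i
      induction i with
      | zero => simp
      | succ i ih =>
        have h3 : t0 * x⁻¹ * t0⁻¹ = x := by
          have := congrArg Inv.inv ht0
          simpa [mul_assoc] using this
        rw [show 2 * (i + 1) = 1 + (1 + 2 * i) by ring, pow_add, pow_add, pow_one]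
        calc t0 * (t0 * t0 ^ (2 * i)) * x * (t0 * (t0 * t0 ^ (2 * i)))⁻¹
            = t0 * (t0 * (t0 ^ (2 * i) * x * (t0 ^ (2 * i))⁻¹) * t0⁻¹) * t0⁻¹ := by group
          _ = t0 * x⁻¹ * t0⁻¹ := by rw [ih, ht0]
          _ = x := h3
    rw [show 2 * j + 1 = 1 + 2 * j by ring, pow_add, pow_one]
    calc t0 * t0 ^ (2 * j) * x * (t0 * t0 ^ (2 * j))⁻¹
        = t0 * (t0 ^ (2 * j) * x * (t0 ^ (2 * j))⁻¹) * t0⁻¹ := by group
      _ = x⁻¹ := by rw [h2, ht0]
  obtain ⟨a, m, hm, hord⟩ := Nat.exists_eq_two_pow_mul_odd (orderOf_pos t0).ne'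
  have ht : ∃ j : ℕ, orderOf (t0 ^ m) = 2 ^ j := by
    refine ⟨a, ?_⟩
    rw [orderOf_pow' t0 hm.pos.ne', Nat.gcd_eq_right ⟨2 ^ a, by rw [hord, mul_comm]⟩, hord,
      Nat.mul_div_cancel _ hm.pos]
  refine ⟨⟨t0 ^ m, ht, hpow m hm⟩, ?_, ?_⟩
  · intro hodd
    by_contra hsq
    set C := Subgroup.centralizer ({x} : Set G)
    have hne : x⁻¹ ≠ x := fun h => hsq (by rw [sq]; nth_rewrite 1 [← h]; exact inv_mul_cancel x)
    let K : Subgroup G :=
      { carrier := {g | g * x * g⁻¹ = x ∨ g * x * g⁻¹ = x⁻¹}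
        one_mem' := Or.inl (by group)
        mul_mem' := by
          intro g h hg hh
          have e : g * h * x * (g * h)⁻¹ = g * (h * x * h⁻¹) * g⁻¹ := by group
          have e2 : g * x⁻¹ * g⁻¹ = (g * x * g⁻¹)⁻¹ := by group
          show g * h * x * (g * h)⁻¹ = x ∨ g * h * x * (g * h)⁻¹ = x⁻¹
          rcases hh with hh | hh <;> rcases hg with hg | hg <;> rw [e, hh]
          · exact Or.inl hg
          · exact Or.inr hg
          · rw [e2, hg]; exact Or.inr rfl
          · rw [e2, hg, inv_inv]; exact Or.inl rfl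
        inv_mem' := by
          intro g hg
          show g⁻¹ * x * g⁻¹⁻¹ = x ∨ g⁻¹ * x * g⁻¹⁻¹ = x⁻¹
          rcases hg with hg | hg
          · refine Or.inl ?_
            nth_rewrite 1 [← hg]
            group
          · refine Or.inr ?_
            have h2 : x = (g * x * g⁻¹)⁻¹ := by rw [hg, inv_inv]
            nth_rewrite 1 [h2]
            group }
    have hCiff : ∀ g : G, g ∈ C ↔ g * x * g⁻¹ = x := fun g => by
      rw [Subgroup.mem_centralizer_singleton_iff, mul_inv_eq_iff_eq_mul]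
    have hCK : C ≤ K := fun g hg => Or.inl ((hCiff g).mp hg)
    have h2 : (C.subgroupOf K).index = 2 := by
      rw [Subgroup.index_eq_two_iff]
      refine ⟨⟨t0, Or.inr ht0⟩, fun g => ?_⟩
      simp only [Subgroup.mem_subgroupOf, hCiff, Subgroup.coe_mul]
      have e : (g : G) * t0 * x * ((g : G) * t0)⁻¹ = ((g : G) * x * (g : G)⁻¹)⁻¹ := by
        calc (g : G) * t0 * x * ((g : G) * t0)⁻¹ = g * (t0 * x * t0⁻¹) * (g : G)⁻¹ := by group
          _ = _ := by rw [ht0]; group
      rcases g.2 with hg | hg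
      · refine Or.inr ⟨hg, ?_⟩
        rw [e, hg]; exact hne
      · refine Or.inl ⟨?_, ?_⟩
        · rw [e, hg, inv_inv]
        · rw [hg]; exact hne
    have h3 : 2 ∣ C.index := by
      rw [← h2]; exact Subgroup.relIndex_dvd_index_of_le hCK
    exact (Nat.not_even_iff_odd.mpr hodd) (even_iff_two_dvd.mpr h3)
  · intro N hN hodd
    obtain ⟨j, hj⟩ := ht
    have hq : ∀ g : G, orderOf (QuotientGroup.mk' N g) ∣ N.index := fun g => by
      rw [Subgroup.index_eq_card]; exact orderOf_dvd_natCard _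
    have hN2 : Nat.Coprime 2 N.index := hodd.coprime_two_left
    have htN : t0 ^ m ∈ N := by
      have h1 : orderOf (QuotientGroup.mk' N (t0 ^ m)) ∣ 2 ^ j := hj ▸ orderOf_map_dvd _ _
      exact (QuotientGroup.eq_one_iff _).mp (orderOf_eq_one_iff.mp
        (Nat.eq_one_of_dvd_coprimes (hN2.pow_left j) h1 (hq _)))
    have hxN : x ∈ N := by
      have h1 : QuotientGroup.mk' N x ^ 2 = 1 := by
        have h2 : QuotientGroup.mk' N (t0 ^ m * x * (t0 ^ m)⁻¹) = QuotientGroup.mk' N x⁻¹ := by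
          rw [hpow m hm]
        have h3 : QuotientGroup.mk' N (t0 ^ m) = 1 := (QuotientGroup.eq_one_iff _).mpr htN
        rw [map_mul, map_mul, map_inv, map_inv, h3, inv_one, one_mul, mul_one] at h2
        rw [sq]
        nth_rewrite 1 [h2]
        exact inv_mul_cancel _
      exact (QuotientGroup.eq_one_iff _).mp (orderOf_eq_one_iff.mp
        (Nat.eq_one_of_dvd_coprimes hN2 (orderOf_dvd_of_pow_eq_one h1) (hq _)))
    exact ⟨hxN, isConj_iff.mpr ⟨⟨_, htN⟩, Subtype.ext (hpow m hm)⟩⟩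

end Cfsg.Agent.S3863
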