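import Cfsg.Statements.S3866
import Mathlib

set_option autoImplicit false
set_option linter.style.haveILetI false
open Cfsg

namespace Cfsg.Agent.S3866

/-- Let A be a commutative normal subgroup of the finite group G with G generated by A and an element x. Then a ↦ x a x⁻¹ a⁻¹ is a surjective homomorphism from A onto the commutator subgroup of G whose kernel is the centralizer of x in A; in particular the commutator subgroup has order equal to the index in A of that centralizer. -/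
theorem result {G : Type*} [Group G] [Finite G] (A : Subgroup G) [A.Normal] (hA : IsMulCommutative A) (x : G) (hgen : A ⊔ Subgroup.zpowers x = ⊤) : (∀ a ∈ A, x * a * x⁻¹ * a⁻¹ ∈ commutator G) ∧ (∀ c ∈ commutator G, ∃ a ∈ A, x * a * x⁻¹ * a⁻¹ = c) ∧ (∀ a ∈ A, ∀ b ∈ A, x * (a * b) * x⁻¹ * (a * b)⁻¹ = (x * a * x⁻¹ * a⁻¹) * (x * b * x⁻¹ * b⁻¹)) ∧ Nat.card (commutator G) * Nat.card ↥(A ⊓ Subgroup.centralizer ({x} : Set G)) = Nat.card A := by
  classical
  let f : A →* A :=
    { toFun := fun a => ⟨x * a.1 * x⁻¹ * a.1⁻¹,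
        mul_mem ((inferInstance : A.Normal).conj_mem a.1 a.2 x) (A.inv_mem a.2)⟩
      map_one' := Subtype.ext (by simp)
      map_mul' := fun a b => Subtype.ext (by
        show x * (a.1 * b.1) * x⁻¹ * (a.1 * b.1)⁻¹ = x * a.1 * x⁻¹ * a.1⁻¹ * (x * b.1 * x⁻¹ * b.1⁻¹)
        have hc : ∀ u ∈ A, ∀ v ∈ A, u * v = v * u := fun u hu v hv =>
          congrArg Subtype.val (hA.is_comm.comm ⟨u, hu⟩ ⟨v, hv⟩)
        have hxb := (inferInstance : A.Normal).conj_mem b.1 b.2 x
        have h1 := hc _ (A.inv_mem a.2) _ (mul_mem hxb (A.inv_mem b.2))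
        calc x * (a.1 * b.1) * x⁻¹ * (a.1 * b.1)⁻¹
            = x * a.1 * x⁻¹ * ((x * b.1 * x⁻¹ * b.1⁻¹) * a.1⁻¹) := by group
          _ = x * a.1 * x⁻¹ * (a.1⁻¹ * (x * b.1 * x⁻¹ * b.1⁻¹)) := by rw [h1]
          _ = _ := by group) }
  set K := f.range.map A.subtype with hKdef
  have hKmem : ∀ {c : G}, c ∈ K ↔ ∃ a ∈ A, x * a * x⁻¹ * a⁻¹ = c := by
    intro c
    constructor
    · rintro ⟨_, ⟨a, rfl⟩, rfl⟩
      exact ⟨a.1, a.2, rfl⟩
    · rintro ⟨a, ha, rfl⟩
      exact ⟨f ⟨a, ha⟩, ⟨⟨a, ha⟩, rfl⟩, rfl⟩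
  have hKA : K ≤ A := Subgroup.map_subtype_le _
  have hin : ∀ a ∈ A, x * a * x⁻¹ * a⁻¹ ∈ commutator G := fun a _ =>
    Subgroup.commutator_mem_commutator (Subgroup.mem_top x) (Subgroup.mem_top a)
  have hnormK : K.Normal := by
    refine Subgroup.normalizer_eq_top_iff.mp (top_le_iff.mp ?_)
    rw [← hgen, sup_le_iff, Subgroup.zpowers_le]
    refine ⟨fun a ha => Subgroup.mem_normalizer_iff.mpr fun c => ?_, Subgroup.mem_normalizer_iff.mpr fun c => ?_⟩
    · constructor
      · intro hc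
        have e : a * c * a⁻¹ = c := by
          rw [show a * c = c * a from congrArg Subtype.val (hA.is_comm.comm ⟨a, ha⟩ ⟨c, hKA hc⟩)]
          exact mul_inv_cancel_right c a
        rwa [e]
      · intro hc
        have hcA : a * c * a⁻¹ ∈ A := hKA hc
        have hcA' : c ∈ A := by
          have := mul_mem (mul_mem (A.inv_mem ha) hcA) ha
          rwa [show a⁻¹ * (a * c * a⁻¹) * a = c by group] at this
        have e : a * c * a⁻¹ = c := by
          rw [show a * c = c * a from congrArg Subtype.val (hA.is_comm.comm ⟨a, ha⟩ ⟨c, hcA'⟩)]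
          exact mul_inv_cancel_right c a
        rwa [e] at hc
    · rw [hKmem, hKmem]
      constructor
      · rintro ⟨a, ha, rfl⟩
        exact ⟨x * a * x⁻¹, (inferInstance : A.Normal).conj_mem a ha x, by group⟩
      · rintro ⟨a, ha, hax⟩
        refine ⟨x⁻¹ * a * x, by simpa using (inferInstance : A.Normal).conj_mem a ha x⁻¹, ?_⟩
        rw [show c = x⁻¹ * (x * c * x⁻¹) * x by group, ← hax]
        group
  have hle : commutator G ≤ K := by
    haveI := hnormK
    rw [← Subgroup.Normal.quotient_commutative_iff_commutator_le]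
    refine ⟨⟨fun u v => ?_⟩⟩
    have htop : Subgroup.closure ((QuotientGroup.mk' K) '' ((A : Set G) ∪ {x})) = ⊤ := by
      rw [← MonoidHom.map_closure, Subgroup.closure_union, Subgroup.closure_eq,
        ← Subgroup.zpowers_eq_closure, hgen,
        Subgroup.map_top_of_surjective _ (QuotientGroup.mk'_surjective _)]
    have hxa : ∀ a ∈ A, Commute (QuotientGroup.mk' K x) (QuotientGroup.mk' K a) := fun a ha => by
      show _ * _ = _ * _
      rw [← map_mul, ← map_mul]
      apply QuotientGroup.eq.mpr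
      have h1 := hnormK.conj_mem _ (K.inv_mem (hKmem.mpr ⟨a, ha, rfl⟩)) (x * a)⁻¹
      have h2 : x * a * x⁻¹ * a⁻¹ ∈ K := hKmem.mpr ⟨a, ha, rfl⟩
      have h3 := hnormK.conj_mem _ (K.inv_mem h2) (a * x)⁻¹
      rwa [show (a * x)⁻¹ * (x * a * x⁻¹ * a⁻¹)⁻¹ * (a * x)⁻¹⁻¹ = (x * a)⁻¹ * (a * x) by group] at h3
    refine Subgroup.closure_induction₂ (p := fun u v _ _ => u * v = v * u) ?_ ?_ ?_ ?_ ?_ ?_ ?_
      (htop ▸ Subgroup.mem_top u) (htop ▸ Subgroup.mem_top v)
    · rintro _ _ ⟨a, ha, rfl⟩ ⟨b, hb, rfl⟩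
      rcases ha with ha | ha <;> rcases hb with hb | hb
      · rw [← map_mul, ← map_mul]
        exact congrArg _ (congrArg Subtype.val (hA.is_comm.comm ⟨a, ha⟩ ⟨b, hb⟩))
      · rw [Set.mem_singleton_iff] at hb; subst hb; exact (hxa a ha).symm
      · rw [Set.mem_singleton_iff] at ha; subst ha; exact hxa b hb
      · rw [Set.mem_singleton_iff] at ha hb; subst ha; subst hb; rfl
    · intros; simp
    · intros; simp
    · intro u v w _ _ _ h1 h2; exact (Commute.mul_left h1 h2)
    · intro u v w _ _ _ h1 h2; exact (Commute.mul_right h1 h2)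
    · intro u v _ _ h; exact (Commute.inv_left h)
    · intro u v _ _ h; exact (Commute.inv_right h)
  refine ⟨hin, fun c hc => hKmem.mp (hle hc), fun a ha b hb =>
    congrArg Subtype.val (f.map_mul ⟨a, ha⟩ ⟨b, hb⟩), ?_⟩
  have hcard : commutator G = K := le_antisymm hle (by
    intro c hc
    obtain ⟨a, ha, rfl⟩ := hKmem.mp hc
    exact hin a ha)
  have hker : f.ker.map A.subtype = A ⊓ Subgroup.centralizer ({x} : Set G) := by
    ext a
    constructor
    · rintro ⟨b, hb, rfl⟩
      refine ⟨b.2, Subgroup.mem_centralizer_singleton_iff.mpr ?_⟩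
      have h1 : x * b.1 * x⁻¹ * b.1⁻¹ = 1 := congrArg Subtype.val (hb : f b = 1)
      exact ((mul_inv_eq_iff_eq_mul.mp (mul_inv_eq_one.mp h1)).symm)
    · rintro ⟨ha, hax⟩
      refine ⟨⟨a, ha⟩, Subtype.ext ?_, rfl⟩
      show x * a * x⁻¹ * a⁻¹ = 1
      rw [← Subgroup.mem_centralizer_singleton_iff.mp hax]
      group
  rw [hcard, hKdef, ← hker, Subgroup.card_map_of_injective A.subtype_injective,
    Subgroup.card_map_of_injective A.subtype_injective, ← Subgroup.index_ker, mul_comm,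
    Subgroup.card_mul_index]

end Cfsg.Agent.S3866
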