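import Cfsg.Statements.S3867
import Cfsg.Agent.Lib.SylowNumber.Basic

-- import your own Cfsg.Agent.* helpers here

set_option autoImplicit false
open Cfsg

namespace Cfsg.Agent.S3867

/-- Let M and N be nontrivial normal subgroups of the finite group G with M ⊓ N trivial, and let p be a prime. Writing n(X) for the number of Sylow p-subgroups of a group X, one has n(G) · n(G/MN) = n(G/M) · n(G/N). -/
theorem result {G : Type*} [Group G] [Finite G] (p : ℕ) [Fact p.Prime] (M N : Subgroup G) [M.Normal] [N.Normal] (hM : M ≠ ⊥) (hN : N ≠ ⊥) (hMN : M ⊓ N = ⊥) : Nat.card (Sylow p G) * Nat.card (Sylow p (G ⧸ (M ⊔ N))) = Nat.card (Sylow p (G ⧸ M)) * Nat.card (Sylow p (G ⧸ N)) := by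
  classical
  let P : Sylow p G := default
  set X : Subgroup G := (P : Subgroup G) ⊔ M with hX
  set L : Subgroup G := M ⊔ N with hL
  set f := QuotientGroup.mk' N with hf
  have hsurj : Function.Surjective f := QuotientGroup.mk'_surjective N
  haveI : (L.map f).Normal := Subgroup.Normal.map inferInstance f hsurj
  have h1 := CfsgLib.SylowNumber.card_sylow_eq_quotient_mul M P
  have h2 := CfsgLib.SylowNumber.card_sylow_eq_quotient_mul (L.map f) (P.mapSurjective hsurj)
  have h3 : Nat.card (Sylow p ((G ⧸ N) ⧸ L.map f)) = Nat.card (Sylow p (G ⧸ L)) :=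
    CfsgLib.SylowNumber.card_sylow_congr (QuotientGroup.quotientQuotientEquivQuotient N L le_sup_right)
  have h4 : ((P.mapSurjective hsurj : Sylow p (G ⧸ N)) : Subgroup (G ⧸ N)) ⊔ L.map f = X.map f := by
    rw [Sylow.coe_mapSurjective, hL, hX, Subgroup.map_sup, Subgroup.map_sup, ← sup_assoc]
    rw [hf, QuotientGroup.map_mk'_self, sup_bot_eq]
  set φ := f.subgroupMap X with hφ
  have hker : IsPGroup p φ.ker := by
    let ψ : φ.ker →* G ⧸ M := (QuotientGroup.mk' M).comp (X.subtype.comp φ.ker.subtype)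
    have hrange : ∀ z : φ.ker, ψ z ∈ (P : Subgroup G).map (QuotientGroup.mk' M) := by
      intro z
      have hz : ((z : X) : G) ∈ (P : Subgroup G) ⊔ M := (z : X).2
      have := Subgroup.mem_map_of_mem (QuotientGroup.mk' M) hz
      rw [Subgroup.map_sup, QuotientGroup.map_mk'_self, sup_bot_eq] at this
      exact this
    refine (P.isPGroup'.map (QuotientGroup.mk' M)).of_injective (ψ.codRestrict _ hrange) fun z w hzw => ?_
    have hzw' : ((z * w⁻¹ : φ.ker) : X).1 ∈ M := by
      have : ψ z = ψ w := congrArg Subtype.val hzw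
      have h : ψ (z * w⁻¹) = 1 := by rw [map_mul, map_inv, this, mul_inv_cancel]
      exact (QuotientGroup.eq_one_iff _).mp h
    have hzwN : ((z * w⁻¹ : φ.ker) : X).1 ∈ N :=
      (QuotientGroup.eq_one_iff _).mp (congrArg Subtype.val (MonoidHom.mem_ker.mp (z * w⁻¹ : φ.ker).2) :)
    have h : ((z * w⁻¹ : φ.ker) : X).1 = 1 := by
      rw [← Subgroup.mem_bot, ← hMN]
      exact ⟨hzw', hzwN⟩
    exact mul_inv_eq_one.mp (Subtype.ext (Subtype.ext h))
  have h5 : Nat.card (Sylow p (X.map f : Subgroup (G ⧸ N))) = Nat.card (Sylow p X) := by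
    rw [← CfsgLib.SylowNumber.card_sylow_congr (QuotientGroup.quotientKerEquivOfSurjective φ (MonoidHom.subgroupMap_surjective f X)),
      CfsgLib.SylowNumber.card_sylow_quotient_of_isPGroup φ.ker hker]
  rw [h3, h4, h5] at h2
  rw [h1, h2]
  ring

end Cfsg.Agent.S3867
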