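import Cfsg.Statements.S3869


set_option autoImplicit false
open Cfsg

namespace Cfsg.Agent.S3869

/-- An endomorphism of an elementary abelian group without invariant subgroups bounds the order. -/
theorem card_le_of_irreducible {V : Type*} [AddCommGroup V] [Finite V] [Nontrivial V] {q : ℕ} [Fact q.Prime]
    (hq : ∀ v : V, q • v = 0) (σ : AddMonoid.End V) {p d : ℕ} (hσ : σ ^ p = 1) (hd0 : 0 < d) (hd : q ^ d ≡ 1 [MOD p])
    (hirr : ∀ W : AddSubgroup V, (∀ v ∈ W, σ v ∈ W) → W = ⊥ ∨ W = ⊤) : Nat.card V ≤ q ^ d := by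
  classical
  set R := Subring.closure ({σ} : Set (AddMonoid.End V)) with hR
  letI : CommRing R := Subring.closureCommRingOfComm (by rintro a rfl b rfl; rfl)
  have hcomm : ∀ r : R, ∀ v, σ ((r : AddMonoid.End V) v) = (r : AddMonoid.End V) (σ v) := by
    intro r v
    have : (⟨σ, Subring.subset_closure rfl⟩ : R) * r = r * ⟨σ, Subring.subset_closure rfl⟩ := mul_comm _ _
    exact DFunLike.congr_fun (congrArg Subtype.val this) v
  have hinj : ∀ r : R, r ≠ 0 → Function.Injective (r : AddMonoid.End V) := by
    intro r hr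
    rcases hirr (r : AddMonoid.End V).ker (fun v hv => by
      change (r : AddMonoid.End V) v = 0 at hv
      change (r : AddMonoid.End V) (σ v) = 0
      rw [← hcomm, hv, map_zero]) with h | h
    · exact (AddMonoidHom.ker_eq_bot_iff _).mp h
    · exact absurd (Subtype.ext (AddMonoidHom.ext fun v => AddMonoidHom.mem_ker.mp (h ▸ AddSubgroup.mem_top v : v ∈ (r : AddMonoid.End V).ker))) hr
  haveI : Nontrivial R := by
    obtain ⟨v, hv⟩ := exists_ne (0 : V)
    exact ⟨0, 1, fun h => hv (DFunLike.congr_fun (congrArg Subtype.val h) v).symm⟩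
  haveI : NoZeroDivisors R := ⟨fun {a b} hab => by
    by_contra hcon
    rw [not_or] at hcon
    exact hcon.2 (Subtype.ext (AddMonoidHom.ext fun v => hinj a hcon.1 (
      (show (a : AddMonoid.End V) ((b : AddMonoid.End V) v) = 0 from DFunLike.congr_fun (congrArg Subtype.val hab) v).trans (map_zero _).symm)))⟩
  haveI : IsDomain R := NoZeroDivisors.to_isDomain R
  haveI : Finite (AddMonoid.End V) := Finite.of_injective (fun f => (f : V → V)) DFunLike.coe_injective
  haveI : Fintype R := Fintype.ofFinite R
  haveI : CharP R q := by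
    refine (CharP.charP_iff_prime_eq_zero Fact.out).mpr (Subtype.ext (AddMonoidHom.ext fun v => ?_))
    show ((q : R) : AddMonoid.End V) v = (0 : V)
    simpa [AddMonoid.End.natCast_apply] using hq v
  obtain ⟨a, ha⟩ := exists_ne (0 : V)
  let ev : R →+ V := { toFun := fun r => (r : AddMonoid.End V) a, map_zero' := rfl, map_add' := fun r s => rfl }
  have hev : Function.Bijective ev := by
    refine ⟨(injective_iff_map_eq_zero _).mpr fun r hr => by_contra fun h => ha (hinj r h (hr.trans (map_zero _).symm)), ?_⟩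
    rcases hirr ev.range (by
      rintro _ ⟨r, rfl⟩
      exact ⟨⟨σ, Subring.subset_closure rfl⟩ * r, rfl⟩) with h | h
    · exact absurd ((AddSubgroup.eq_bot_iff_forall _).mp h a ⟨1, rfl⟩) ha
    · exact AddMonoidHom.range_eq_top.mp h
  rw [← Nat.card_eq_of_bijective ev hev]
  -- every element is fixed by the `d`-th power of Frobenius
  let F : Subring R := (iterateFrobenius R q d).eqLocus (RingHom.id R)
  have hsF : (⟨σ, Subring.subset_closure rfl⟩ : R) ∈ F := by
    show (iterateFrobenius R q d) _ = _
    rw [iterateFrobenius_def]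
    refine Subtype.ext ?_
    show σ ^ q ^ d = σ
    have hk : q ^ d % p = 1 % p := hd
    rw [pow_eq_pow_mod (q ^ d) hσ, hk, ← pow_eq_pow_mod 1 hσ, pow_one]
  have hall : ∀ r : R, r ∈ F := by
    intro r
    have hle : Subring.closure ({σ} : Set (AddMonoid.End V)) ≤ F.map R.subtype := by
      rw [Subring.closure_le]
      rintro _ rfl
      exact ⟨_, hsF, rfl⟩
    obtain ⟨r', hr', he⟩ := hle r.2
    rwa [← Subtype.ext he]
  obtain ⟨g, hg⟩ := IsCyclic.exists_ofOrder_eq_natCard (α := Rˣ)
  have hgd : g ^ (q ^ d - 1) = 1 := by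
    have h : (g : R) ^ q ^ d = g := by
      have := hall g
      simpa [F, RingHom.eqLocus, iterateFrobenius_def] using this
    apply Units.ext
    have hpos : 1 ≤ q ^ d := Nat.one_le_pow _ _ (Fact.out : q.Prime).pos
    rw [← Nat.sub_add_cancel hpos, pow_succ] at h
    have h2 : ((g : R) ^ (q ^ d - 1)) * g = 1 * g := by rw [one_mul]; exact h
    simpa using mul_right_cancel₀ g.ne_zero h2
  have hR1 : Nat.card Rˣ + 1 = Nat.card R := by
    have hu : ∀ r : R, r ≠ 0 → IsUnit r := fun r hr => by
      obtain ⟨s', hs'⟩ := (Finite.injective_iff_surjective.mp (mul_right_injective₀ hr)) 1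
      exact IsUnit.of_mul_eq_one s' hs'
    have e : Nat.card Rˣ = Nat.card {r : R // r ≠ 0} :=
      Nat.card_eq_of_bijective (fun u => ⟨(u : R), u.ne_zero⟩)
        ⟨fun u v h => Units.ext (congrArg Subtype.val h), fun r => ⟨(hu r.1 r.2).unit, Subtype.ext rfl⟩⟩
    rw [e, Nat.card_eq_fintype_card, Nat.card_eq_fintype_card, Fintype.card_subtype_compl, Fintype.card_subtype_eq]
    exact Nat.sub_add_cancel Fintype.card_pos
  have h2 : 2 ≤ q ^ d := (Fact.out : q.Prime).two_le.trans (Nat.le_self_pow hd0.ne' q)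
  have := Nat.le_of_dvd (show 0 < q ^ d - 1 by omega) (hg ▸ orderOf_dvd_of_pow_eq_one hgd)
  omega

/-- Let p and q be distinct primes and G a finite non-abelian group with a normal elementary abelian q-subgroup A that is a minimal normal subgroup of G and has index p. Then A has order q^e with e the multiplicative order of q modulo p, and G is minimal non-p-closed: its Sylow p-subgroups are not normal, while in every proper subgroup and in every proper quotient of G the Sylow p-subgroups are normal. -/
theorem result {G : Type*} [Group G] [Finite G] {p q : ℕ} [Fact p.Prime] (hq : q.Prime) (hpq : q ≠ p)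
    (hna : ¬ IsMulCommutative G) (A : Subgroup G) [A.Normal] (hA : Cfsg.IsElementaryAbelian q A) (hidx : A.index = p)
    (hmin : ∀ B : Subgroup G, B.Normal → B ≤ A → B = ⊥ ∨ B = A) :
    Nat.card ↥A = q ^ orderOf (q : ZMod p) ∧ ¬ Cfsg.IsPClosed p G ∧ (∀ H : Subgroup G, H ≠ ⊤ → Cfsg.IsPClosed p ↥H) ∧
      ∀ (N : Subgroup G) [N.Normal], N ≠ ⊥ → Cfsg.IsPClosed p (G ⧸ N) := by
  classical
  haveI := Fact.mk hq
  have hp := (Fact.out : p.Prime)
  have hAc : ∀ a ∈ A, ∀ b ∈ A, a * b = b * a := fun a ha b hb => by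
    haveI := hA.1
    exact congrArg Subtype.val (mul_comm' (⟨a, ha⟩ : A) ⟨b, hb⟩)
  obtain ⟨e, he⟩ : ∃ e, Nat.card A = q ^ e :=
    IsPGroup.iff_card.mp fun a => ⟨1, Subtype.ext (by simpa using hA.2 a a.2)⟩
  have hG : Nat.card G = q ^ e * p := by rw [← A.card_mul_index, he, hidx]
  have hqp : ¬ p ∣ q ^ e := fun h => hpq ((Nat.prime_dvd_prime_iff_eq hp hq).mp (hp.dvd_of_dvd_pow h)).symm
  obtain ⟨x, hx⟩ := exists_prime_orderOf_dvd_card' (G := G) p (hG ▸ dvd_mul_left p _)
  have hxA : x ∉ A := fun h => hqp (he ▸ hx ▸ Subgroup.orderOf_dvd_natCard A h)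
  -- generation by `A` and one outside element
  have hgen : ∀ y : G, y ∉ A → A ⊔ Subgroup.zpowers y = ⊤ := by
    intro y hy
    rw [← Subgroup.index_eq_one]
    have h1 : (A ⊔ Subgroup.zpowers y).index ∣ p := hidx ▸ Subgroup.index_dvd_of_le le_sup_left
    refine ((Nat.dvd_prime hp).mp h1).resolve_right fun h => ?_
    have h2 : A = A ⊔ Subgroup.zpowers y := by
      refine Subgroup.eq_of_le_of_card_ge le_sup_left ?_
      have e1 := A.card_mul_index
      have e2 := (A ⊔ Subgroup.zpowers y).card_mul_index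
      rw [h] at e2; rw [hidx] at e1
      exact le_of_eq (Nat.eq_of_mul_eq_mul_right hp.pos (e2.trans e1.symm))
    exact hy (h2 ▸ Subgroup.mem_sup_right (Subgroup.mem_zpowers y))
  -- invariant subgroups of `A` are normal
  have hirr : ∀ B : Subgroup G, B ≤ A → ∀ y : G, y ∉ A → (∀ b ∈ B, y * b * y⁻¹ ∈ B) → B = ⊥ ∨ B = A := by
    intro B hB y hy hinv
    refine hmin B ?_ hB
    rw [← Subgroup.normalizer_eq_top_iff, eq_top_iff, ← hgen y hy, sup_le_iff, Subgroup.zpowers_le]
    refine ⟨fun a ha => Subgroup.mem_normalizer_iff.mpr fun b => ⟨fun hb => ?_, fun hb => ?_⟩, ?_⟩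
    · rwa [hAc a ha b (hB hb), mul_inv_cancel_right]
    · have hbA : b ∈ A := by
        have := mul_mem (mul_mem (inv_mem ha) (hB hb)) ha
        simpa [mul_assoc] using this
      rwa [hAc a ha b hbA, mul_inv_cancel_right] at hb
    · rw [Subgroup.mem_normalizer_iff_map_conj_eq]
      refine Subgroup.eq_of_le_of_card_ge ?_ (le_of_eq (Nat.card_congr
        (B.equivMapOfInjective _ (MulAut.conj y).injective).toEquiv))
      rintro _ ⟨b, hb, rfl⟩
      exact hinv b hb
  -- a group with `A` centralized is abelian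
  have hcent : ∀ y : G, y ∉ A → ∀ a ∈ A, Commute y a → a = 1 := by
    intro y hy a ha hc
    let B : Subgroup G := A ⊓ Subgroup.centralizer ({y} : Set G)
    have haB : a ∈ B := ⟨ha, Subgroup.mem_centralizer_singleton_iff.mpr hc.symm⟩
    rcases hirr B inf_le_left y hy (fun b hb => by
      rw [← Subgroup.mem_centralizer_singleton_iff.mp hb.2, mul_inv_cancel_right]; exact hb) with h | h
    · rwa [h, Subgroup.mem_bot] at haB
    · exfalso
      refine hna ⟨⟨fun u v => ?_⟩⟩
      have hy' : ∀ b ∈ A, b * y = y * b := fun b hb =>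
        Subgroup.mem_centralizer_singleton_iff.mp (inf_eq_left.mp h hb)
      have hle : (⊤ : Subgroup G) ≤ Subgroup.centralizer ((A : Set G) ∪ {y}) := by
        rw [← hgen y hy, sup_le_iff, Subgroup.zpowers_le]
        refine ⟨fun b hb => Subgroup.mem_centralizer_iff.mpr ?_, Subgroup.mem_centralizer_iff.mpr ?_⟩
        · rintro w (hw | hw)
          · exact hAc w hw b hb
          · rw [Set.mem_singleton_iff.mp hw]; exact (hy' b hb).symm
        · rintro w (hw | hw)
          · exact hy' w hw
          · rw [Set.mem_singleton_iff.mp hw]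
      have hu : Subgroup.closure ((A : Set G) ∪ {y}) = ⊤ := by
        rw [Subgroup.closure_union, Subgroup.closure_eq, ← Subgroup.zpowers_eq_closure, hgen y hy]
      have hle2 : (⊤ : Subgroup G) ≤ Subgroup.centralizer (Set.univ : Set G) := by
        intro w _
        refine Subgroup.mem_centralizer_iff.mpr fun z _ => ?_
        have hz : z ∈ Subgroup.centralizer ({w} : Set G) := by
          refine (Subgroup.closure_le _).mpr (fun k hk => ?_) (hu ▸ Subgroup.mem_top z)
          exact Subgroup.mem_centralizer_singleton_iff.mpr (Subgroup.mem_centralizer_iff.mp (hle (Subgroup.mem_top w)) k hk)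
        exact Subgroup.mem_centralizer_singleton_iff.mp hz
      exact (Subgroup.mem_centralizer_iff.mp (hle2 (Subgroup.mem_top v)) u (Set.mem_univ u))
  have hA1 : A ≠ ⊥ := by
    intro h
    refine hna ?_
    have hGp : Nat.card G = p := by rw [← A.card_mul_index, h, Subgroup.card_bot, one_mul, ← h, hidx]
    haveI := isCyclic_of_prime_card hGp
    exact ⟨⟨fun u v => by letI := IsCyclic.commGroup (α := G); exact mul_comm u v⟩⟩
  haveI : Nontrivial A := (Subgroup.nontrivial_iff_ne_bot A).mpr hA1
  -- the order of `A`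
  set d := orderOf (q : ZMod p) with hd
  have hqp0 : (q : ZMod p) ≠ 0 := fun h => hpq ((Nat.prime_dvd_prime_iff_eq hp hq).mp
    ((ZMod.natCast_eq_zero_iff _ _).mp h)).symm
  have hd0 : 0 < d := (isOfFinOrder_iff_pow_eq_one.mpr ⟨p - 1, by have := hp.two_le; omega, ZMod.pow_card_sub_one_eq_one hqp0⟩).orderOf_pos
  have hle : Nat.card A ≤ q ^ d := by
    letI : CommGroup A := { (inferInstance : Group A) with mul_comm := fun a b => Subtype.ext (hAc a a.2 b b.2) }
    let σ : AddMonoid.End (Additive A) :=
      MonoidHom.toAdditive (MulAut.conjNormal x : MulAut A).toMonoidHom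
    have hit : ∀ k, ∀ a : A, (σ ^ k) (Additive.ofMul a) = Additive.ofMul (MulAut.conjNormal (x ^ k) a) := by
      intro k
      induction k with
      | zero => simp
      | succ k ih =>
        intro a
        rw [pow_succ', pow_succ']
        show σ ((σ ^ k) (Additive.ofMul a)) = _
        rw [ih]
        apply Additive.toMul.injective
        apply Subtype.ext
        show x * (MulAut.conjNormal (x ^ k) a : G) * x⁻¹ = _
        simp [MulAut.conjNormal_apply, mul_assoc]
    refine card_le_of_irreducible (V := Additive A) (q := q) (p := p) (fun v => ?_) σ ?_ hd0 ?_ ?_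
    · apply Additive.toMul.injective
      exact Subtype.ext (by simpa using hA.2 v.toMul v.toMul.2)
    · refine AddMonoidHom.ext fun a => ?_
      show (σ ^ p) (Additive.ofMul a.toMul) = a
      rw [hit, ← hx, pow_orderOf_eq_one]
      simp
    · rw [← ZMod.natCast_eq_natCast_iff, Nat.cast_pow, Nat.cast_one, hd, pow_orderOf_eq_one]
    · intro W hW
      let B : Subgroup G :=
        { carrier := {g | ∃ h : g ∈ A, Additive.ofMul (⟨g, h⟩ : A) ∈ W}
          one_mem' := ⟨one_mem A, W.zero_mem⟩
          mul_mem' := fun {a b} ⟨ha, ha'⟩ ⟨hb, hb'⟩ => ⟨mul_mem ha hb, W.add_mem ha' hb'⟩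
          inv_mem' := fun {a} ⟨ha, ha'⟩ => ⟨inv_mem ha, W.neg_mem ha'⟩ }
      rcases hirr B (fun g hg => hg.1) x hxA (by
          rintro b ⟨hb, hb'⟩
          exact ⟨‹A.Normal›.conj_mem b hb x, hW _ hb'⟩) with h | h
      · left
        refine (AddSubgroup.eq_bot_iff_forall _).mpr fun v hv => ?_
        have : (v.toMul : G) ∈ B := ⟨v.toMul.2, hv⟩
        rw [h, Subgroup.mem_bot] at this
        exact Additive.toMul.injective (Subtype.ext this)
      · right
        refine eq_top_iff.mpr fun v _ => ?_
        obtain ⟨_, hv⟩ : (v.toMul : G) ∈ B := (SetLike.ext_iff.mp h _).mpr v.toMul.2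
        exact hv
  have hcard : Nat.card A = q ^ d := by
    refine le_antisymm hle ?_
    -- `x` permutes the non-trivial elements of `A` freely
    have hdvd : p ∣ q ^ e - 1 := by
      letI : MulAction (Subgroup.zpowers x) A := MulAction.compHom A
        ((MulAut.conjNormal (H := A)).comp (Subgroup.zpowers x).subtype)
      have hz : IsPGroup p (Subgroup.zpowers x) := IsPGroup.of_card (n := 1) (by rw [Nat.card_zpowers, hx, pow_one])
      have hfix : MulAction.fixedPoints (Subgroup.zpowers x) A = {1} := by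
        ext a
        simp only [MulAction.mem_fixedPoints, Set.mem_singleton_iff]
        constructor
        · intro h
          refine Subtype.ext (hcent x hxA a a.2 ?_)
          exact mul_inv_eq_iff_eq_mul.mp (congrArg Subtype.val (h ⟨x, Subgroup.mem_zpowers x⟩))
        · rintro rfl s
          exact map_one (MulAut.conjNormal (s : G))
      have := hz.card_modEq_card_fixedPoints A
      rw [hfix, he, Nat.card_coe_set_eq, Set.ncard_singleton] at this
      exact (Nat.modEq_iff_dvd' (Nat.one_le_pow _ _ hq.pos)).mp this.symm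
    rw [he]
    refine Nat.pow_le_pow_right hq.pos (Nat.le_of_dvd ?_ (orderOf_dvd_of_pow_eq_one ?_))
    · rcases Nat.eq_zero_or_pos e with h | h
      · rw [h, pow_zero] at he
        exact absurd (Subgroup.eq_bot_of_card_eq A he) hA1
      · exact h
    · rw [← Nat.cast_pow, ← Nat.cast_one, ZMod.natCast_eq_natCast_iff]
      exact ((Nat.modEq_iff_dvd' (Nat.one_le_pow _ _ hq.pos)).mpr hdvd).symm
  have hnotclosed : ¬ Cfsg.IsPClosed p G := by
    intro hcl
    obtain ⟨P, hP⟩ := (IsPGroup.of_card (n := 1) (by rw [Nat.card_zpowers, hx, pow_one]) :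
      IsPGroup p (Subgroup.zpowers x)).exists_le_sylow
    haveI := hcl P
    have hdisj : A ⊓ (P : Subgroup G) = ⊥ := Subgroup.inf_eq_bot_of_coprime (by
      obtain ⟨k, hk⟩ := IsPGroup.iff_card.mp P.2
      rw [he, hk]; exact ((Nat.coprime_primes hq hp).mpr hpq).pow e k)
    obtain ⟨a, ha⟩ := exists_ne (1 : A)
    refine ha (Subtype.ext (hcent x hxA a a.2 ?_))
    exact (Subgroup.commute_of_normal_of_disjoint A (P : Subgroup G) inferInstance inferInstance (disjoint_iff.mpr hdisj) a x a.2 (hP (Subgroup.mem_zpowers x))).symm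
  refine ⟨hcard, hnotclosed, fun H hH P => ?_, fun N _ hN P => ?_⟩
  · by_cases hHA : H ≤ A
    · have : (P : Subgroup H) = ⊥ := by
        rw [← Subgroup.card_eq_one]
        obtain ⟨k, hk⟩ := IsPGroup.iff_card.mp P.2
        rcases k with _ | k
        · simpa using hk
        · exfalso
          exact hqp (he ▸ ((dvd_pow_self p k.succ_ne_zero).trans
            ((hk ▸ Subgroup.card_subgroup_dvd_card (P : Subgroup H)).trans (Subgroup.card_dvd_of_le hHA))))
      rw [this]; infer_instance
    · obtain ⟨y, hy, hyA⟩ := SetLike.not_le_iff_exists.mp hHA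
      have hHA' : H ⊓ A = ⊥ := by
        refine (hirr (H ⊓ A) inf_le_right y hyA fun b hb => Subgroup.mem_inf.mpr ⟨mul_mem (mul_mem hy (Subgroup.mem_inf.mp hb).1) (inv_mem hy), ‹A.Normal›.conj_mem b (Subgroup.mem_inf.mp hb).2 y⟩).resolve_right fun h => hH ?_
        rw [eq_top_iff, ← hgen y hyA]
        exact sup_le (inf_eq_right.mp h) (Subgroup.zpowers_le.mpr hy)
      have hcardH : Nat.card H ∣ p := by
        rw [← hidx, Subgroup.index]
        refine Subgroup.card_dvd_of_injective ((QuotientGroup.mk' A).comp H.subtype) ?_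
        rw [injective_iff_map_eq_one]
        intro h hh
        have : (h : G) ∈ H ⊓ A := ⟨h.2, (QuotientGroup.eq_one_iff (h : G)).mp hh⟩
        rw [hHA', Subgroup.mem_bot] at this
        exact Subtype.ext this
      have hPG : IsPGroup p H := by
        rcases (Nat.dvd_prime hp).mp hcardH with hi | hi
        · exact IsPGroup.of_card (n := 0) (by rw [hi, pow_zero])
        · exact IsPGroup.of_card (n := 1) (by rw [hi, pow_one])
      have : (P : Subgroup H) = ⊤ := P.3 (hPG.to_subgroup ⊤) le_top |>.symm
      rw [this]; infer_instance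
  · have hAN : A ≤ N := by
      rcases hmin (A ⊓ N) inferInstance inf_le_left with h | h
      · exfalso
        obtain ⟨⟨n, hn⟩, hn1⟩ := Subgroup.ne_bot_iff_exists_ne_one.mp hN
        have hnA : n ∉ A := fun h' => hn1 (Subtype.ext (Subgroup.mem_bot.mp (h ▸ ⟨h', hn⟩)))
        obtain ⟨a, ha⟩ := exists_ne (1 : A)
        exact ha (Subtype.ext (hcent n hnA a a.2
          (Subgroup.commute_of_normal_of_disjoint A N inferInstance inferInstance (disjoint_iff.mpr h) a n a.2 hn).symm))
      · exact inf_eq_left.mp h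
    have hPG : IsPGroup p (G ⧸ N) := by
      rcases (Nat.dvd_prime hp).mp (hidx ▸ Subgroup.index_dvd_of_le hAN : N.index ∣ p) with hi | hi
      · exact IsPGroup.of_card (n := 0) (by rw [pow_zero]; exact hi)
      · exact IsPGroup.of_card (n := 1) (by rw [pow_one]; exact hi)
    have : (P : Subgroup (G ⧸ N)) = ⊤ := P.3 (hPG.to_subgroup ⊤) le_top |>.symm
    rw [this]; infer_instance
end Cfsg.Agent.S3869
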