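import Cfsg.Statements.S3868
import Cfsg.Agent.Lib.Coprime.Action
import Cfsg.Agent.S3869

set_option autoImplicit false
set_option linter.style.haveILetI false
open Cfsg

namespace Cfsg.Agent.S3868

/-- A common frame for minimal non-closed groups: a minimal normal `p'`-subgroup `N` supplemented by a
Sylow `p`-subgroup, centralized inside each proper subgroup by the `p`-part. -/
theorem structure_of {G : Type*} [Group G] [Finite G] {p : ℕ} [Fact p.Prime] (N : Subgroup G) [N.Normal]
    (hN : N ≠ ⊥) (hNp : ¬ p ∣ Nat.card N)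
    (hmin : ∀ B : Subgroup G, B.Normal → B ≤ N → B = ⊥ ∨ B = N)
    (P : Sylow p G) (hsup : (P : Subgroup G) ⊔ N = ⊤) (hPn : ¬ (P : Subgroup G).Normal)
    (hO : ∀ M : Subgroup G, M.Normal → IsPGroup p M → M = ⊥)
    (hK : ∀ K : Subgroup G, K ≠ ⊤ → ∀ a ∈ (P : Subgroup G), a ∈ K → ∀ x ∈ N, x ∈ K → Commute a x) :
    ∃ q : ℕ, q.Prime ∧ q ≠ p ∧ Nat.card G = p * q ^ orderOf (q : ZMod p) ∧
      ∃ A : Subgroup G, A.Normal ∧ Nat.card ↥A = q ^ orderOf (q : ZMod p) ∧ Cfsg.IsElementaryAbelian q A ∧
        ∀ B : Subgroup G, B.Normal → B ≤ A → B = ⊥ ∨ B = A := by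
  classical
  have hp := (Fact.out : p.Prime)
  obtain ⟨n, hn⟩ := IsPGroup.iff_card.mp P.2
  have hcop : (Nat.card (P : Subgroup G)).Coprime (Nat.card N) := by
    rw [hn]; exact ((hp.coprime_iff_not_dvd).mpr hNp).pow_left n
  have hPN : (P : Subgroup G) ≤ Subgroup.normalizer (N : Set G) := by
    rw [Subgroup.normalizer_eq_top_iff.mpr inferInstance]; exact le_top
  have hG : Nat.card G = Nat.card N * Nat.card (P : Subgroup G) := by
    have h := CfsgLib.Coprime.card_sup_mul_card_inf hPN
    rw [sup_comm, hsup, Subgroup.card_top, Subgroup.inf_eq_bot_of_coprime hcop.symm, Subgroup.card_bot,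
      mul_one] at h
    exact h
  -- an element of `P` commuting with all of `N` and `P` is trivial
  have hnotall : ¬ N ≤ Subgroup.centralizer ((P : Subgroup G) : Set G) := by
    intro h
    refine hPn (Subgroup.normalizer_eq_top_iff.mp (top_le_iff.mp ?_))
    rw [← hsup]
    exact sup_le Subgroup.le_normalizer (h.trans (Subgroup.centralizer_le_normalizer _))
  obtain ⟨q, hq, hqN⟩ : ∃ q : ℕ, q.Prime ∧ IsPGroup q N := by
    by_contra hcon
    push Not at hcon
    refine hnotall (fun x hx => ?_)
    have heq : N ⊓ Subgroup.centralizer ((P : Subgroup G) : Set G) = N := by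
      refine Subgroup.eq_of_le_of_card_ge inf_le_left (Nat.le_of_dvd Nat.card_pos ?_)
      refine (Nat.factorization_prime_le_iff_dvd Nat.card_pos.ne' Nat.card_pos.ne').mp fun q hq => ?_
      haveI := Fact.mk hq
      haveI : Group.IsNilpotent (P : Subgroup G) := P.2.isNilpotent
      obtain ⟨S, hS⟩ := CfsgLib.Coprime.exists_invariant_sylow hPN hcop (Or.inl inferInstance) q
      set R := (S : Subgroup N).map N.subtype with hR
      have hRN : R ≤ N := Subgroup.map_subtype_le _
      have hne : (P : Subgroup G) ⊔ R ≠ ⊤ := by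
        intro htop
        have h := CfsgLib.Coprime.card_sup_mul_card_inf hS
        rw [sup_comm, htop, Subgroup.card_top] at h
        have hle : Nat.card N ≤ Nat.card R := by
          refine Nat.le_of_mul_le_mul_right ?_ (Nat.card_pos (α := (P : Subgroup G)))
          rw [← hG, ← h]
          exact Nat.le_mul_of_pos_right _ Nat.card_pos
        have heq : R = N := Subgroup.eq_of_le_of_card_ge hRN hle
        exact hcon q hq (heq ▸ S.2.map N.subtype)
      have hRC : R ≤ N ⊓ Subgroup.centralizer ((P : Subgroup G) : Set G) := le_inf hRN fun r hr =>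
        Subgroup.mem_centralizer_iff.mpr fun a ha =>
          hK _ hne a ha (Subgroup.mem_sup_left ha) r (hRN hr) (Subgroup.mem_sup_right hr)
      have hcR : Nat.card R = q ^ (Nat.card N).factorization q := by
        rw [hR, Subgroup.card_map_of_injective N.subtype_injective, S.card_eq_multiplicity]
      exact (hq.pow_dvd_iff_le_factorization Nat.card_pos.ne').mp (hcR ▸ Subgroup.card_dvd_of_le hRC)
    exact (heq.ge hx).2
  haveI := Fact.mk hq
  haveI : Nontrivial N := (Subgroup.nontrivial_iff_ne_bot N).mpr hN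
  have hqdvd : q ∣ Nat.card N := hqN.card_eq_or_dvd.resolve_left (Finite.one_lt_card (α := N)).ne'
  have hqp : q ≠ p := fun e => hNp (e ▸ hqdvd)
  -- `N` is elementary abelian
  have hab : ∀ x ∈ N, ∀ y ∈ N, x * y = y * x := by
    haveI := hqN.center_nontrivial
    have hne : (Subgroup.center N).map N.subtype ≠ ⊥ := by
      rw [Ne, Subgroup.map_eq_bot_iff_of_injective _ N.subtype_injective]
      exact (Subgroup.nontrivial_iff_ne_bot _).mp inferInstance
    have heq := (hmin _ inferInstance (Subgroup.map_subtype_le _)).resolve_left hne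
    intro x hx y hy
    obtain ⟨z, hz, rfl⟩ := heq.ge hx
    exact (congrArg Subtype.val (Subgroup.mem_center_iff.mp hz ⟨y, hy⟩)).symm
  let T : Subgroup G :=
    { carrier := {x | x ∈ N ∧ x ^ q = 1}
      one_mem' := ⟨one_mem N, one_pow q⟩
      mul_mem' := fun {a b} ha hb => ⟨mul_mem ha.1 hb.1, by
        rw [(show Commute a b from hab a ha.1 b hb.1).mul_pow, ha.2, hb.2, one_mul]⟩
      inv_mem' := fun {a} ha => ⟨inv_mem ha.1, by rw [inv_pow, ha.2, inv_one]⟩ }
  have hT : T.Normal := ⟨fun x hx g => ⟨Subgroup.Normal.conj_mem inferInstance x hx.1 g, by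
    rw [conj_pow, hx.2, mul_one, mul_inv_cancel]⟩⟩
  have hTN : T = N := (hmin T hT fun x hx => hx.1).resolve_left fun h => by
    obtain ⟨c, hc⟩ := exists_prime_orderOf_dvd_card' (G := N) q hqdvd
    have hcT : (c : G) ∈ T := ⟨c.2, by
      rw [← Subgroup.coe_pow, ← hc, pow_orderOf_eq_one]; rfl⟩
    rw [h, Subgroup.mem_bot] at hcT
    rw [show c = 1 from Subtype.ext hcT, orderOf_one] at hc
    exact hq.ne_one hc.symm
  have hE : Cfsg.IsElementaryAbelian q N :=
    ⟨⟨⟨fun a b => Subtype.ext (hab a a.2 b b.2)⟩⟩, fun x hx => (hTN.ge hx).2⟩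
  -- the order of `P`
  have hPne : (P : Subgroup G) ≠ ⊥ := fun h => hPn (by rw [h]; infer_instance)
  have hP : Nat.card (P : Subgroup G) = p := by
    by_contra hne
    haveI : Nontrivial (P : Subgroup G) := (Subgroup.nontrivial_iff_ne_bot _).mpr hPne
    haveI := P.2.center_nontrivial
    have hd : p ∣ Nat.card (Subgroup.center (P : Subgroup G)) :=
      (P.2.to_subgroup _).card_eq_or_dvd.resolve_left (Finite.one_lt_card).ne'
    obtain ⟨c, hc⟩ := exists_prime_orderOf_dvd_card' p hd
    set z : G := ((c : (P : Subgroup G)) : G) with hzd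
    have hz : orderOf z = p := by rw [hzd, Subgroup.orderOf_coe, Subgroup.orderOf_coe, hc]
    have hzP : z ∈ (P : Subgroup G) := (c : (P : Subgroup G)).2
    have hne' : Subgroup.zpowers z ⊔ N ≠ ⊤ := by
      intro htop
      have h := CfsgLib.Coprime.card_sup_mul_card_inf (K := N) (S := Subgroup.zpowers z)
        ((Subgroup.zpowers_le.mpr hzP).trans hPN)
      rw [sup_comm, htop, Subgroup.card_top, Nat.card_zpowers, hz, hG] at h
      have hle : Nat.card (P : Subgroup G) ≤ p := by
        refine Nat.le_of_mul_le_mul_left ?_ (Nat.card_pos (α := N))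
        rw [← h]; exact Nat.le_mul_of_pos_right _ Nat.card_pos
      have hpd : p ∣ Nat.card (P : Subgroup G) := hz.symm.dvd.trans (Subgroup.orderOf_dvd_natCard _ hzP)
      exact hne (le_antisymm hle (Nat.le_of_dvd Nat.card_pos hpd))
    have hcen : ∀ g : G, g * z = z * g := by
      have hle : (P : Subgroup G) ⊔ N ≤ Subgroup.centralizer ({z} : Set G) := by
        refine sup_le (fun a ha => Subgroup.mem_centralizer_singleton_iff.mpr ?_) fun x hx =>
          Subgroup.mem_centralizer_singleton_iff.mpr ?_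
        · exact congrArg Subtype.val (Subgroup.mem_center_iff.mp c.2 ⟨a, ha⟩)
        · exact (hK _ hne' z hzP (Subgroup.mem_sup_left (Subgroup.mem_zpowers z)) x hx
            (Subgroup.mem_sup_right hx)).eq.symm
      intro g
      exact Subgroup.mem_centralizer_singleton_iff.mp (hle (hsup ▸ Subgroup.mem_top g))
    have hM : (Subgroup.zpowers z).Normal := ⟨fun x hx g => by
      obtain ⟨k, rfl⟩ := Subgroup.mem_zpowers_iff.mp hx
      rw [((show Commute g z from hcen g).zpow_right k).eq, mul_inv_cancel_right]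
      exact hx⟩
    have h1 := hO _ hM (P.2.to_le (Subgroup.zpowers_le.mpr hzP))
    rw [Subgroup.zpowers_eq_bot] at h1
    rw [h1, orderOf_one] at hz
    exact hp.ne_one hz.symm
  have hidx : N.index = p := by
    have := N.card_mul_index
    rw [hG, hP] at this
    exact Nat.eq_of_mul_eq_mul_left Nat.card_pos this
  have hna : ¬ IsMulCommutative G := fun h => hPn ⟨fun x hx g => by
    rw [h.1.comm g x, mul_inv_cancel_right]; exact hx⟩
  have hcard := (Cfsg.Agent.S3869.result hq hqp hna N hE hidx hmin).1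
  exact ⟨q, hq, hqp, by rw [hG, hP, hcard, mul_comm], N, inferInstance, hcard, hE, hmin⟩

/-- A `p`-subgroup lies in a normal Sylow subgroup of an overgroup. -/
theorem le_of_normal_sylow {G : Type*} [Group G] {p : ℕ} [Fact p.Prime] {K Q : Subgroup G} (S : Sylow p K)
    [(S : Subgroup K).Normal] (hQK : Q ≤ K) (hQ : IsPGroup p Q) : Q ≤ (S : Subgroup K).map K.subtype := by
  intro x hx
  have h := S.3 (IsPGroup.to_sup_of_normal_left S.2
    (hQ.comap_of_injective K.subtype K.subtype_injective)) le_sup_left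
  exact ⟨⟨x, hQK hx⟩, h.le (le_sup_right (a := (S : Subgroup K)) (show (⟨x, hQK hx⟩ : K) ∈ Q.comap K.subtype from hx)), rfl⟩


/-- Structure of the non-simple minimal non-p-closed groups. Call a finite group p-closed when its Sylow p-subgroups are normal, and minimal non-p-closed when it is not p-closed but every proper subgroup and every proper quotient is. If such a group G is not simple, then there is a prime q ≠ p such that G has order p · q^e, where e is the multiplicative order of q modulo p, and G has a normal subgroup A of order q^e that is elementary abelian and is a minimal normal subgroup of G (so G is the semidirect product of A by a group of order p acting irreducibly). -/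
theorem result {G : Type*} [Group G] [Finite G] {p : ℕ} [Fact p.Prime]
    (hnc : ¬ Cfsg.IsPClosed p G) (hsub : ∀ H : Subgroup G, H ≠ ⊤ → Cfsg.IsPClosed p ↥H)
    (hquo : ∀ (N : Subgroup G) [N.Normal], N ≠ ⊥ → Cfsg.IsPClosed p (G ⧸ N)) (hns : ¬ IsSimpleGroup G) :
    ∃ q : ℕ, q.Prime ∧ q ≠ p ∧ Nat.card G = p * q ^ orderOf (q : ZMod p) ∧
      ∃ A : Subgroup G, A.Normal ∧ Nat.card ↥A = q ^ orderOf (q : ZMod p) ∧ Cfsg.IsElementaryAbelian q A ∧
        ∀ B : Subgroup G, B.Normal → B ≤ A → B = ⊥ ∨ B = A := by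
  classical
  have hp := (Fact.out : p.Prime)
  obtain ⟨P₀⟩ := (inferInstance : Nonempty (Sylow p G))
  have hPn : ∀ P : Sylow p G, ¬ (P : Subgroup G).Normal := fun P h => hnc fun Q => by
    haveI := h
    haveI : Unique (Sylow p G) := Sylow.unique_of_normal P h
    rw [Subsingleton.elim Q P]; exact h
  haveI : Nontrivial G := by
    by_contra h
    rw [not_nontrivial_iff_subsingleton] at h
    exact hPn P₀ (by rw [show (P₀ : Subgroup G) = ⊥ from Subsingleton.elim _ _]; infer_instance)
  obtain ⟨M₀, hM₀, hM₀b, hM₀t⟩ : ∃ M : Subgroup G, M.Normal ∧ M ≠ ⊥ ∧ M ≠ ⊤ := by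
    by_contra h
    push Not at h
    exact hns ⟨fun H hH => or_iff_not_imp_left.mpr (h H hH)⟩
  obtain ⟨N, ⟨hN, hNb, hNt⟩, hNmin⟩ := (wellFounded_lt (α := Subgroup G)).has_min
    {M : Subgroup G | M.Normal ∧ M ≠ ⊥ ∧ M ≠ ⊤} ⟨M₀, hM₀, hM₀b, hM₀t⟩
  haveI := hN
  have hmin : ∀ B : Subgroup G, B.Normal → B ≤ N → B = ⊥ ∨ B = N := fun B hB hBN =>
    or_iff_not_imp_left.mpr fun hb => (eq_or_lt_of_le hBN).resolve_right fun hlt =>
      hNmin B ⟨hB, hb, fun e => hNt (top_le_iff.mp (e ▸ hBN))⟩ hlt
  have hsup : ∀ P : Sylow p G, (P : Subgroup G) ⊔ N = ⊤ := by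
    intro P
    by_contra hne
    haveI : ((P : Subgroup G) ⊔ N).Normal := by
      haveI := hquo N hNb (P.mapSurjective (QuotientGroup.mk'_surjective N))
      have h := Subgroup.Normal.comap (H := (P.mapSurjective (QuotientGroup.mk'_surjective N) :
        Subgroup (G ⧸ N))) inferInstance (QuotientGroup.mk' N)
      rwa [Sylow.coe_mapSurjective, Subgroup.comap_map_eq, QuotientGroup.ker_mk'] at h
    set S := P.subtype (le_sup_left : (P : Subgroup G) ≤ (P : Subgroup G) ⊔ N) with hSd
    haveI := hsub _ hne S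
    haveI := Sylow.characteristic_of_normal S inferInstance
    have hn : ((S : Subgroup _).map ((P : Subgroup G) ⊔ N).subtype).Normal := inferInstance
    rw [hSd, Sylow.coe_subtype, Subgroup.map_subgroupOf_eq_of_le le_sup_left] at hn
    exact hPn P hn
  have hO : ∀ M : Subgroup G, M.Normal → IsPGroup p M → M = ⊥ := by
    intro M hM hMp
    by_contra hne
    haveI := hM
    haveI := hquo M hne (P₀.mapSurjective (QuotientGroup.mk'_surjective M))
    have h := Subgroup.Normal.comap (H := (P₀.mapSurjective (QuotientGroup.mk'_surjective M) :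
      Subgroup (G ⧸ M))) inferInstance (QuotientGroup.mk' M)
    rw [Sylow.coe_mapSurjective, Subgroup.comap_map_eq, QuotientGroup.ker_mk'] at h
    have hMP : M ≤ (P₀ : Subgroup G) :=
      le_sup_right.trans (P₀.3 (P₀.2.to_sup_of_normal_right hMp) le_sup_left).le
    rw [sup_eq_left.mpr hMP] at h
    exact hPn P₀ h
  have hNp : ¬ p ∣ Nat.card N := by
    intro hd
    obtain ⟨S⟩ := (inferInstance : Nonempty (Sylow p N))
    haveI := hsub N hNt S
    haveI := Sylow.characteristic_of_normal S inferInstance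
    have h0 := hO ((S : Subgroup N).map N.subtype) inferInstance (S.2.map N.subtype)
    rw [Subgroup.map_eq_bot_iff_of_injective _ N.subtype_injective] at h0
    exact S.ne_bot_of_dvd_card hd h0
  refine structure_of N hNb hNp hmin P₀ (hsup P₀) (hPn P₀) hO fun K hK a ha haK x hx hxK => ?_
  obtain ⟨S⟩ := (inferInstance : Nonempty (Sylow p K))
  haveI := hsub K hK S
  obtain ⟨a', ha', hae⟩ := le_of_normal_sylow S (Subgroup.zpowers_le.mpr haK)
    (P₀.2.to_le (Subgroup.zpowers_le.mpr ha)) (Subgroup.mem_zpowers a)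
  subst hae
  have hc : a' * ⟨x, hxK⟩ * a'⁻¹ * (⟨x, hxK⟩ : K)⁻¹ ∈ (S : Subgroup K) := by
    have := mul_mem ha' ((inferInstance : (S : Subgroup K).Normal).conj_mem _ (inv_mem ha') ⟨x, hxK⟩)
    simpa [mul_assoc] using this
  have hcN : (a' : G) * x * (a' : G)⁻¹ * x⁻¹ ∈ N := mul_mem (hN.conj_mem x hx _) (inv_mem hx)
  have h1 : (a' : G) * x * (a' : G)⁻¹ * x⁻¹ = 1 := by
    by_contra hne
    obtain ⟨k, hk⟩ := IsPGroup.iff_orderOf.mp S.2 ⟨_, hc⟩
    have ho : orderOf ((a' : G) * x * (a' : G)⁻¹ * x⁻¹) = p ^ k := by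
      rw [← hk, ← Subgroup.orderOf_coe, ← Subgroup.orderOf_coe]; rfl
    rcases k with _ | k
    · exact hne (orderOf_eq_one_iff.mp (by simpa using ho))
    · exact hNp ((dvd_pow_self p k.succ_ne_zero).trans (ho ▸ Subgroup.orderOf_dvd_natCard N hcN))
  rw [commute_iff_eq]
  rwa [mul_inv_eq_one, mul_inv_eq_iff_eq_mul] at h1
end Cfsg.Agent.S3868
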