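import Cfsg.Statements.S3870
import Mathlib
import Cfsg.Agent.Lib.Coprime.SchurZassenhaus

set_option autoImplicit false
set_option linter.style.haveILetI false
open Cfsg

namespace Cfsg.Agent.S3870

/-- Let G be a finite simple group whose Sylow p-subgroups are not normal but such that every proper subgroup of G has a normal Sylow p-subgroup. Then any two distinct Sylow p-subgroups of G intersect trivially, and for every Sylow p-subgroup P the normalizer of every non-identity subgroup of P lies in the normalizer of P. -/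
theorem result {G : Type*} [Group G] [Finite G] [IsSimpleGroup G] {p : ℕ} [Fact p.Prime]
    (hnc : ¬ Cfsg.IsPClosed p G) (hsub : ∀ H : Subgroup G, H ≠ ⊤ → Cfsg.IsPClosed p ↥H) :
    (∀ P Q : Sylow p G, P ≠ Q → (P : Subgroup G) ⊓ (Q : Subgroup G) = ⊥) ∧
      ∀ (P : Sylow p G) (R : Subgroup G), R ≤ P → R ≠ ⊥ →
        Subgroup.normalizer (R : Set G) ≤ Subgroup.normalizer ((P : Subgroup G) : Set G) := by
  classical
  have hp := (Fact.out : p.Prime)
  have hnorm : ∀ R : Subgroup G, R ≠ ⊥ → R ≠ ⊤ → Subgroup.normalizer (R : Set G) ≠ ⊤ := fun R h1 h2 h =>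
    (Subgroup.normalizer_eq_top_iff.mp h).eq_bot_or_eq_top.elim h1 h2
  have hTI : ∀ P Q : Sylow p G, P ≠ Q → (P : Subgroup G) ⊓ (Q : Subgroup G) = ⊥ := by
    by_contra hex
    push Not at hex
    obtain ⟨⟨P, Q⟩, hPQ, hmax⟩ := Set.Finite.exists_maximalFor
      (fun x : Sylow p G × Sylow p G => Nat.card ↥((x.1 : Subgroup G) ⊓ (x.2 : Subgroup G)))
      {x | x.1 ≠ x.2 ∧ (x.1 : Subgroup G) ⊓ (x.2 : Subgroup G) ≠ ⊥} (Set.toFinite _)
      (by obtain ⟨P, Q, h1, h2⟩ := hex; exact ⟨(P, Q), h1, h2⟩)
    obtain ⟨hne, hD⟩ := hPQ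
    set D := (P : Subgroup G) ⊓ (Q : Subgroup G) with hDdef
    have hDlt : ∀ S : Sylow p G, D ≤ S → (S = P ∨ S = Q) → D < (S : Subgroup G) := fun S hDS hS =>
      lt_of_le_of_ne hDS fun e => by
        apply hne
        rcases hS with rfl | rfl
        · exact Sylow.ext (Subgroup.eq_of_le_of_card_ge (e.ge.trans inf_le_right)
            (by rw [Q.card_eq_multiplicity, S.card_eq_multiplicity]))
        · exact (Sylow.ext (Subgroup.eq_of_le_of_card_ge (e.ge.trans inf_le_left)
            (by rw [P.card_eq_multiplicity, S.card_eq_multiplicity]))).symm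
    have hDt : D ≠ ⊤ := fun e => (hDlt P inf_le_left (Or.inl rfl)).not_ge (e ▸ le_top)
    set M := Subgroup.normalizer (D : Set G) with hMdef
    obtain ⟨S0⟩ := (inferInstance : Nonempty (Sylow p M))
    haveI := hsub M (hnorm D hD hDt) S0
    obtain ⟨T, hT⟩ := (S0.2.map M.subtype).exists_le_sylow
    have key : ∀ S : Sylow p G, D ≤ S → (S = P ∨ S = Q) → D < (S : Subgroup G) ⊓ (T : Subgroup G) := by
      intro S hDS hS
      haveI : Group.IsNilpotent (S : Subgroup G) := S.2.isNilpotent
      have hlt : D.subgroupOf (S : Subgroup G) < ⊤ := lt_top_iff_ne_top.mpr fun e =>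
        (hDlt S hDS hS).not_ge (Subgroup.subgroupOf_eq_top.mp e)
      obtain ⟨x, hx, hxD⟩ := SetLike.exists_of_lt
        (Group.normalizerCondition_of_isNilpotent (G := (S : Subgroup G)) _ hlt)
      have hxM : (x : G) ∈ M := by
        rw [hMdef, Subgroup.mem_normalizer_iff]
        intro y
        constructor
        · intro hy
          exact (Subgroup.mem_normalizer_iff.mp hx ⟨y, hDS hy⟩).mp hy
        · intro hy
          have hyS : y ∈ (S : Subgroup G) := by
            have := mul_mem (mul_mem ((S : Subgroup G).inv_mem x.2) (hDS hy)) x.2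
            rwa [show (x : G)⁻¹ * ((x : G) * y * (x : G)⁻¹) * x = y by group] at this
          exact (Subgroup.mem_normalizer_iff.mp hx ⟨y, hyS⟩).mpr hy
      refine lt_of_le_of_ne (le_inf hDS fun y hy => ?_) fun e => hxD ?_
      · have hy' : (⟨y, Subgroup.le_normalizer hy⟩ : M) ∈ (S0 : Subgroup M) := by
          have hpg : IsPGroup p ↥(D.subgroupOf M) :=
            (P.2.to_le (inf_le_left : D ≤ P)).comap_of_injective M.subtype M.subtype_injective
          exact le_sup_right.trans (S0.3 (IsPGroup.to_sup_of_normal_left S0.2 hpg) le_sup_left).le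
            (show y ∈ D from hy)
        exact hT ⟨_, hy', rfl⟩
      · have hx' : (⟨(x : G), hxM⟩ : M) ∈ (S0 : Subgroup M) := by
          have hpg : IsPGroup p ↥((S : Subgroup G).subgroupOf M) :=
            S.2.comap_of_injective M.subtype M.subtype_injective
          exact le_sup_right.trans (S0.3 (IsPGroup.to_sup_of_normal_left S0.2 hpg) le_sup_left).le
            (show (x : G) ∈ (S : Subgroup G) from x.2)
        exact e.ge ⟨x.2, hT ⟨_, hx', rfl⟩⟩
    have hTeq : ∀ S : Sylow p G, D < (S : Subgroup G) ⊓ (T : Subgroup G) → S = T := by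
      intro S hS
      by_contra hST
      have h1 : (S : Subgroup G) ⊓ (T : Subgroup G) ≠ ⊥ := fun e => by
        rw [e] at hS; exact not_lt_bot hS
      exact hS.not_ge (Subgroup.eq_of_le_of_card_ge hS.le (hmax (j := (S, T)) ⟨hST, h1⟩
        (Subgroup.card_le_of_le hS.le))).ge
    exact hne ((hTeq P (key P inf_le_left (Or.inl rfl))).trans
      (hTeq Q (key Q inf_le_right (Or.inr rfl))).symm)
  refine ⟨hTI, fun P R hRP hR g hg => ?_⟩
  refine Sylow.smul_eq_iff_mem_normalizer.mp ?_
  by_contra hne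
  apply hR
  rw [eq_bot_iff, ← hTI _ P hne]
  refine le_inf (fun y hy => ?_) hRP
  rw [Sylow.coe_subgroup_smul, CfsgLib.Coprime.mem_conj_smul_iff]
  exact hRP ((Subgroup.mem_normalizer_iff''.mp hg y).mp hy)

end Cfsg.Agent.S3870
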