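import Cfsg.Statements.S3872
import Cfsg.Agent.S4209
import Cfsg.Agent.Lib.Regular.Basic
import Cfsg.Agent.Lib.PGroup.MaximalClass

set_option autoImplicit false
set_option linter.style.haveILetI false
open Cfsg

namespace Cfsg.Agent.S3872

/-- Say that a finite group is p-exponent closed when its elements of order dividing p form a subgroup. Let G be a finite p-group that is not p-exponent closed, but all of whose proper subgroups and proper quotients are. Then G is generated by two elements, has nilpotency class at least p, has exponent p², has cyclic center, and has order at least p^(p+1). -/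
theorem result {G : Type*} [Group G] [Finite G] {p : ℕ} [Fact p.Prime] (hG : IsPGroup p G)
    (hnc : ¬ (∃ H : Subgroup G, (H : Set G) = {g : G | g ^ p = 1})) (hsub : ∀ K : Subgroup G, K ≠ ⊤ → (∃ H : Subgroup ↥K, (H : Set ↥K) = {g : ↥K | g ^ p = 1}))
    (hquo : ∀ (N : Subgroup G) [N.Normal], N ≠ ⊥ → (∃ H : Subgroup (G ⧸ N), (H : Set (G ⧸ N)) = {g : (G ⧸ N) | g ^ p = 1})) :
    (∃ x y : G, Subgroup.closure ({x, y} : Set G) = ⊤) ∧ (⊤ : Subgroup G).lowerCentralSeries (p - 1) ≠ ⊥ ∧
      Monoid.exponent G = p ^ 2 ∧ IsCyclic ↥(Subgroup.center G) ∧ p ^ (p + 1) ≤ Nat.card G := by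
  classical
  have hp : p.Prime := Fact.out
  have hclosed : ∀ (X : Type _) [Group X], (∃ H : Subgroup X, (H : Set X) = {g : X | g ^ p = 1}) →
      ∀ a b : X, a ^ p = 1 → b ^ p = 1 → (a * b) ^ p = 1 := by
    intro X _ ⟨H, hH⟩ a b ha hb
    have h : a * b ∈ (H : Set X) := H.mul_mem (show a ∈ (H : Set X) by rw [hH]; exact ha) (show b ∈ (H : Set X) by rw [hH]; exact hb)
    rwa [hH] at h
  obtain ⟨x, y, hx, hy, hxy⟩ : ∃ x y : G, x ^ p = 1 ∧ y ^ p = 1 ∧ (x * y) ^ p ≠ 1 := by
    by_contra h
    push Not at h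
    exact hnc ⟨{ carrier := {g | g ^ p = 1}
                 one_mem' := one_pow p
                 mul_mem' := fun {a b} ha hb => h a b ha hb
                 inv_mem' := fun {a} ha => by
                   show a⁻¹ ^ p = 1
                   rw [inv_pow, show a ^ p = 1 from ha, inv_one] }, rfl⟩
  have hgen : Subgroup.closure ({x, y} : Set G) = ⊤ := by
    by_contra h
    have hxm : x ∈ Subgroup.closure ({x, y} : Set G) := Subgroup.subset_closure (by simp)
    have hym : y ∈ Subgroup.closure ({x, y} : Set G) := Subgroup.subset_closure (by simp)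
    exact hxy (congrArg Subtype.val (hclosed _ (hsub _ h) ⟨x, hxm⟩ ⟨y, hym⟩ (Subtype.ext hx) (Subtype.ext hy)))
  have hlcs : (⊤ : Subgroup G).lowerCentralSeries (p - 1) ≠ ⊥ := by
    intro h
    have h1 := CfsgLib.Regular.omega_mul (k := 1) hG
      (CfsgLib.Regular.levelReg_of_regular (Cfsg.Agent.S4209.result hG h) 1) x y
      (by rw [pow_one]; exact hx) (by rw [pow_one]; exact hy)
    rw [pow_one] at h1
    exact hxy h1
  -- modulo a central subgroup of order `p` everything has exponent `p`
  have hmod : ∀ z ∈ Subgroup.center G, orderOf z = p → ∀ g : G, g ^ p ∈ Subgroup.zpowers z := by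
    intro z hz hzo g
    haveI : (Subgroup.zpowers z).Normal := ⟨fun n hn h => by
      rw [Subgroup.mem_center_iff.mp (Subgroup.zpowers_le.mpr hz hn) h, mul_inv_cancel_right]; exact hn⟩
    obtain ⟨H, hH⟩ := hquo (Subgroup.zpowers z) fun h => by
      rw [Subgroup.zpowers_eq_bot] at h
      rw [h, orderOf_one] at hzo
      exact hp.ne_one hzo.symm
    have htop : Subgroup.closure ({x, y} : Set G) ≤ H.comap (QuotientGroup.mk' (Subgroup.zpowers z)) := by
      rw [Subgroup.closure_le]
      rintro w (rfl | rfl) <;>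
        (show ((w : G) : G ⧸ Subgroup.zpowers z) ∈ (H : Set (G ⧸ Subgroup.zpowers z));
         rw [hH, Set.mem_setOf_eq, ← QuotientGroup.mk_pow])
      · rw [hx, QuotientGroup.mk_one]
      · rw [hy, QuotientGroup.mk_one]
    have h := htop (hgen ▸ Subgroup.mem_top g)
    have h' : ((g : G) : G ⧸ Subgroup.zpowers z) ∈ (H : Set (G ⧸ Subgroup.zpowers z)) := h
    rw [hH, Set.mem_setOf_eq, ← QuotientGroup.mk_pow, QuotientGroup.eq_one_iff] at h'
    exact h'
  haveI : Nontrivial G := by
    by_contra h
    haveI := not_nontrivial_iff_subsingleton.mp h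
    exact hxy (Subsingleton.elim _ _)
  haveI := hG.center_nontrivial
  obtain ⟨⟨z, hz⟩, hzo⟩ : ∃ z : Subgroup.center G, orderOf z = p := by
    refine exists_prime_orderOf_dvd_card' p ?_
    obtain ⟨k, hk⟩ := IsPGroup.iff_card.mp (hG.to_subgroup (Subgroup.center G))
    rw [hk]
    refine dvd_pow_self p fun h0 => ?_
    rw [h0, pow_zero] at hk
    exact absurd hk (ne_of_gt Finite.one_lt_card)
  rw [Subgroup.orderOf_mk] at hzo
  have hexp2 : ∀ g : G, g ^ p ^ 2 = 1 := fun g => by
    obtain ⟨i, hi⟩ := hmod z hz hzo g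
    rw [pow_two, pow_mul, ← hi]
    show (z ^ i) ^ p = 1
    rw [← zpow_natCast, zpow_comm, zpow_natCast, ← hzo, pow_orderOf_eq_one, one_zpow]
  refine ⟨⟨x, y, hgen⟩, hlcs, ?_, ?_, ?_⟩
  · obtain ⟨i, hi, hio⟩ := (Nat.dvd_prime_pow hp).mp (Monoid.exponent_dvd_of_forall_pow_eq_one hexp2)
    rcases Nat.lt_or_ge i 2 with h | h
    · refine absurd (Monoid.exponent_dvd_iff_forall_pow_eq_one.mp ?_ (x * y)) hxy
      rw [hio]
      exact (pow_dvd_pow p (show i ≤ 1 by omega)).trans (by rw [pow_one])
    · rw [hio, show i = 2 by omega]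
  · -- one subgroup of order `p` in the centre
    have huniq : ∀ c ∈ Subgroup.center G, c ^ p = 1 → c ∈ Subgroup.zpowers z := by
      intro c hc hcp
      rcases eq_or_ne c 1 with rfl | hc1
      · exact one_mem _
      have hw : (x * y) ^ p ∈ Subgroup.zpowers c := hmod c hc (orderOf_eq_prime hcp hc1) _
      haveI : Fact (Nat.card (Subgroup.zpowers c)).Prime := ⟨by rw [Nat.card_zpowers, orderOf_eq_prime hcp hc1]; exact hp⟩
      obtain ⟨i, hi⟩ := (zpowers_eq_top_of_prime_card (G := Subgroup.zpowers c) rfl (g := ⟨_, hw⟩)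
        (fun e => hxy (congrArg Subtype.val e :))).ge (Subgroup.mem_top ⟨c, Subgroup.mem_zpowers c⟩)
      rw [show c = ((x * y) ^ p) ^ i from (congrArg Subtype.val hi).symm]
      exact Subgroup.zpow_mem _ (hmod z hz hzo _) i
    haveI := Fintype.ofFinite (Subgroup.center G)
    refine isCyclic_of_card_pow_eq_one_le fun m hm => ?_
    obtain ⟨N, hN⟩ := IsPGroup.iff_card.mp (hG.to_subgroup (Subgroup.center G))
    letI : CommGroup (Subgroup.center G) :=
      { (inferInstance : Group (Subgroup.center G)) with mul_comm := mul_comm' }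
    let K : ℕ → Subgroup (Subgroup.center G) := fun j => (powMonoidHom (p ^ j) : Subgroup.center G →* Subgroup.center G).ker
    have hKmem : ∀ j a, a ∈ K j ↔ a ^ p ^ j = 1 := fun j a => Iff.rfl
    have hKcard : ∀ j, Nat.card (K j) ≤ p ^ j := by
      intro j
      induction j with
      | zero =>
        have hb : K 0 = ⊥ := by
          rw [eq_bot_iff]; intro a ha
          rw [hKmem, pow_zero, pow_one] at ha; exact ha
        rw [hb, Subgroup.card_bot, pow_zero]
      | succ j ih =>
        let f : K (j + 1) →* K j := ((powMonoidHom p).comp (K (j + 1)).subtype).codRestrict _ fun a => by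
          rw [hKmem]
          show ((a : Subgroup.center G) ^ p) ^ p ^ j = 1
          rw [← pow_mul, ← pow_succ']
          exact (hKmem _ _).mp a.2
        have hker : Nat.card f.ker ≤ p := by
          have hle := Nat.card_le_card_of_injective
            (fun a : f.ker => (⟨(((a : K (j + 1)) : Subgroup.center G) : G), huniq _ ((a : K (j + 1)) : Subgroup.center G).2 (by
              have h := a.2
              rw [MonoidHom.mem_ker] at h
              exact congrArg (fun t : K j => ((t : Subgroup.center G) : G)) h)⟩ : Subgroup.zpowers z))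
            fun a b e => Subtype.ext (Subtype.ext (Subtype.ext (congrArg Subtype.val e :)))
          rwa [Nat.card_zpowers, hzo] at hle
        rw [← f.ker.card_mul_index, Subgroup.index_ker, pow_succ']
        exact Nat.mul_le_mul hker ((Subgroup.card_le_card_group _).trans ih)
    obtain ⟨j, hj, hjd⟩ := (Nat.dvd_prime_pow hp).mp (Nat.gcd_dvd_right m (p ^ N))
    have hle : p ^ j ≤ m := hjd ▸ Nat.gcd_le_left _ hm
    refine le_trans ?_ ((hKcard j).trans hle)
    rw [Nat.card_eq_fintype_card, ← Finset.card_univ]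
    refine Finset.card_le_card_of_injOn (fun a => if h : a ∈ K j then (⟨a, h⟩ : K j) else 1)
      (fun _ _ => Finset.mem_univ _) ?_
    intro a ha b hb e
    have hm' : ∀ c : Subgroup.center G, c ^ m = 1 → c ∈ K j := fun c hc => by
      rw [hKmem, ← hjd]
      exact pow_gcd_eq_one.mpr ⟨hc, by rw [← hN]; exact pow_card_eq_one'⟩
    have ha' := hm' a (Finset.mem_filter.mp (Finset.mem_coe.mp ha)).2
    have hb' := hm' b (Finset.mem_filter.mp (Finset.mem_coe.mp hb)).2
    simp only [dif_pos ha', dif_pos hb'] at e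
    exact congrArg Subtype.val e
  · obtain ⟨r, hr⟩ := IsPGroup.iff_card.mp hG
    have h := CfsgLib.MaxClass.card_lcs_succ_le hr (p - 2)
    rw [show p - 2 + 1 = p - 1 by have := hp.two_le; omega] at h
    obtain ⟨s, hs⟩ := IsPGroup.iff_card.mp (hG.to_subgroup ((⊤ : Subgroup G).lowerCentralSeries (p - 1)))
    have hs0 : s ≠ 0 := fun h0 => hlcs (Subgroup.eq_bot_of_card_eq _ (by rw [hs, h0, pow_zero]))
    rw [hs] at h
    have := (Nat.pow_le_pow_iff_right hp.one_lt).mp h
    rw [hr]
    exact Nat.pow_le_pow_right hp.pos (by omega)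

end Cfsg.Agent.S3872
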