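import Cfsg.Statements.S3873
import Cfsg.Agent.S3868

set_option autoImplicit false
set_option linter.style.haveILetI false
open Cfsg

namespace Cfsg.Agent.S3873

/-- Say that a finite group is p-exponent closed when its elements of order dividing p form a subgroup. Let G be a finite group that is not p-exponent closed, but all of whose proper subgroups and proper quotients are, and suppose G is neither simple nor a p-group. Then there is a prime q ≠ p such that G has order p · q^e, where e is the multiplicative order of q modulo p, and G has a normal elementary abelian subgroup of order q^e that is a minimal normal subgroup of G. -/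
theorem result {G : Type*} [Group G] [Finite G] {p : ℕ} [Fact p.Prime]
    (hnc : ¬ (∃ H : Subgroup G, (H : Set G) = {g : G | g ^ p = 1})) (hsub : ∀ K : Subgroup G, K ≠ ⊤ → (∃ H : Subgroup ↥K, (H : Set ↥K) = {g : ↥K | g ^ p = 1}))
    (hquo : ∀ (N : Subgroup G) [N.Normal], N ≠ ⊥ → (∃ H : Subgroup (G ⧸ N), (H : Set (G ⧸ N)) = {g : (G ⧸ N) | g ^ p = 1}))
    (hns : ¬ IsSimpleGroup G) (hnp : ¬ IsPGroup p G) :
    ∃ q : ℕ, q.Prime ∧ q ≠ p ∧ Nat.card G = p * q ^ orderOf (q : ZMod p) ∧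
      ∃ A : Subgroup G, A.Normal ∧ Nat.card ↥A = q ^ orderOf (q : ZMod p) ∧ Cfsg.IsElementaryAbelian q A ∧
        ∀ B : Subgroup G, B.Normal → B ≤ A → B = ⊥ ∨ B = A := by
  classical
  have hp := (Fact.out : p.Prime)
  let Ω : Set G := {g : G | g ^ p = 1}
  -- `G` is generated by its elements of order dividing `p`
  have hgen : Subgroup.closure Ω = ⊤ := by
    by_contra hne
    obtain ⟨H, hH⟩ := hsub _ hne
    refine hnc ⟨H.map (Subgroup.closure Ω).subtype, Set.ext fun g => ⟨?_, fun hg => ?_⟩⟩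
    · rintro ⟨h, hh, rfl⟩
      exact congrArg Subtype.val (((Set.ext_iff.mp hH h).mp hh : h ^ p = 1))
    · exact ⟨⟨g, Subgroup.subset_closure hg⟩, (Set.ext_iff.mp hH _).mpr (Subtype.ext hg), rfl⟩
  -- proper quotients have exponent `p`
  have hquot : ∀ (M : Subgroup G) [M.Normal], M ≠ ⊥ → ∀ g : G, g ^ p ∈ M := by
    intro M _ hM g
    obtain ⟨H, hH⟩ := hquo M hM
    have hle : Subgroup.closure Ω ≤ H.comap (QuotientGroup.mk' M) := (Subgroup.closure_le _).mpr fun y hy =>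
      (Set.ext_iff.mp hH _).mpr (by
        show (QuotientGroup.mk' M y) ^ p = 1
        rw [← map_pow, show y ^ p = 1 from hy, map_one])
    have h : (QuotientGroup.mk' M g) ^ p = 1 := (Set.ext_iff.mp hH _).mp (hle (hgen ▸ Subgroup.mem_top g))
    rw [← map_pow] at h
    exact (QuotientGroup.eq_one_iff _).mp h
  have hquotp : ∀ (M : Subgroup G) [M.Normal], M ≠ ⊥ → IsPGroup p (G ⧸ M) := by
    intro M _ hM x
    obtain ⟨g, rfl⟩ := QuotientGroup.mk'_surjective M x
    exact ⟨1, by rw [pow_one, ← map_pow]; exact (QuotientGroup.eq_one_iff _).mpr (hquot M hM g)⟩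
  haveI : Nontrivial G := by
    by_contra h
    rw [not_nontrivial_iff_subsingleton] at h
    exact hnp fun g => ⟨0, Subsingleton.elim _ _⟩
  obtain ⟨M₀, hM₀, hM₀b, hM₀t⟩ : ∃ M : Subgroup G, M.Normal ∧ M ≠ ⊥ ∧ M ≠ ⊤ := by
    by_contra h
    push Not at h
    exact hns ⟨fun H hH => or_iff_not_imp_left.mpr (h H hH)⟩
  obtain ⟨N, ⟨hN, hNb, hNt⟩, hNmin⟩ := (wellFounded_lt (α := Subgroup G)).has_min
    {M : Subgroup G | M.Normal ∧ M ≠ ⊥ ∧ M ≠ ⊤} ⟨M₀, hM₀, hM₀b, hM₀t⟩
  haveI := hN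
  have hmin : ∀ B : Subgroup G, B.Normal → B ≤ N → B = ⊥ ∨ B = N := fun B hB hBN =>
    or_iff_not_imp_left.mpr fun hb => (eq_or_lt_of_le hBN).resolve_right fun hlt =>
      hNmin B ⟨hB, hb, fun e => hNt (top_le_iff.mp (e ▸ hBN))⟩ hlt
  -- a `p`-group with a `p`-group quotient
  have hext : ∀ (M : Subgroup G) [M.Normal], M ≠ ⊥ → IsPGroup p M → False := by
    intro M _ hM hMp
    refine hnp fun g => ?_
    obtain ⟨k, hk⟩ := hMp ⟨g ^ p, hquot M hM g⟩
    refine ⟨k + 1, ?_⟩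
    rw [pow_succ', pow_mul]
    exact congrArg Subtype.val hk
  have hNp : ¬ p ∣ Nat.card N := by
    intro hd
    obtain ⟨c, hc⟩ := exists_prime_orderOf_dvd_card' (G := N) p hd
    obtain ⟨H, hH⟩ := hsub N hNt
    let M : Subgroup G := H.map N.subtype
    have hmemM : ∀ g : G, g ∈ M ↔ g ∈ N ∧ g ^ p = 1 := fun g => by
      constructor
      · rintro ⟨h, hh, rfl⟩
        exact ⟨h.2, congrArg Subtype.val ((Set.ext_iff.mp hH h).mp hh : h ^ p = 1)⟩
      · rintro ⟨hg, hg'⟩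
        exact ⟨⟨g, hg⟩, (Set.ext_iff.mp hH _).mpr (Subtype.ext hg'), rfl⟩
    have hM : M.Normal := ⟨fun x hx g => by
      rw [hmemM] at hx ⊢
      exact ⟨hN.conj_mem x hx.1 g, by rw [conj_pow, hx.2, mul_one, mul_inv_cancel]⟩⟩
    rcases hmin M hM (fun g hg => ((hmemM g).mp hg).1) with h | h
    · have hcM : (c : G) ∈ M := (hmemM _).mpr ⟨c.2, by
        rw [← Subgroup.coe_pow, ← hc, pow_orderOf_eq_one]; rfl⟩
      rw [h, Subgroup.mem_bot] at hcM
      rw [show c = 1 from Subtype.ext hcM, orderOf_one] at hc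
      exact hp.ne_one hc.symm
    · exact hext N hNb fun x => ⟨1, Subtype.ext (by simpa using ((hmemM _).mp (h.ge x.2)).2)⟩
  have hpN : ∀ y ∈ N, y ^ p = 1 → y = 1 := fun y hy hyp => by
    by_contra hne
    exact hNp (orderOf_eq_prime hyp hne ▸ Subgroup.orderOf_dvd_natCard N hy)
  obtain ⟨P⟩ := (inferInstance : Nonempty (Sylow p G))
  have hsup : (P : Subgroup G) ⊔ N = ⊤ := by
    have h : ((P.mapSurjective (QuotientGroup.mk'_surjective N)) : Subgroup (G ⧸ N)) = ⊤ :=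
      ((P.mapSurjective (QuotientGroup.mk'_surjective N)).3 ((hquotp N hNb).to_subgroup ⊤) le_top).symm
    rw [Sylow.coe_mapSurjective] at h
    have h2 := congrArg (Subgroup.comap (QuotientGroup.mk' N)) h
    rwa [Subgroup.comap_map_eq, QuotientGroup.ker_mk', Subgroup.comap_top] at h2
  have hdisj : (P : Subgroup G) ⊓ N = ⊥ := Subgroup.inf_eq_bot_of_coprime (by
    obtain ⟨n, hn⟩ := IsPGroup.iff_card.mp P.2
    rw [hn]; exact (hp.coprime_iff_not_dvd.mpr hNp).pow_left n)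
  have hPexp : ∀ a ∈ (P : Subgroup G), a ^ p = 1 := fun a ha =>
    Subgroup.mem_bot.mp (hdisj ▸ ⟨pow_mem ha p, hquot N hNb a⟩)
  refine Cfsg.Agent.S3868.structure_of N hNb hNp hmin P hsup (fun hPn => hnc ⟨P, Set.ext fun g =>
    ⟨fun hg => hPexp g hg, fun hg => ?_⟩⟩) (fun M hM hMp => ?_) fun K hK a ha haK x hx hxK => ?_
  · haveI := hPn
    have hgp : IsPGroup p (Subgroup.zpowers g) := by
      rcases (Nat.dvd_prime hp).mp (orderOf_dvd_of_pow_eq_one hg) with h | h
      · exact IsPGroup.of_card (n := 0) (by rw [Nat.card_zpowers, h, pow_zero])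
      · exact IsPGroup.of_card (n := 1) (by rw [Nat.card_zpowers, h, pow_one])
    exact (P.3 (P.2.to_sup_of_normal_left hgp) le_sup_left).le
      (Subgroup.mem_sup_right (Subgroup.mem_zpowers g))
  · by_contra hne
    haveI := hM
    exact hext M hne hMp
  · obtain ⟨H, hH⟩ := hsub K hK
    have haH : (⟨a, haK⟩ : K) ∈ H := (Set.ext_iff.mp hH _).mpr (Subtype.ext (hPexp a ha))
    have hcH : (⟨a, haK⟩ : K) * (⟨x, hxK⟩ * ⟨a, haK⟩⁻¹ * ⟨x, hxK⟩⁻¹) ∈ H := by
      refine mul_mem haH ((Set.ext_iff.mp hH _).mpr ?_)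
      show ((⟨x, hxK⟩ : K) * ⟨a, haK⟩⁻¹ * ⟨x, hxK⟩⁻¹) ^ p = 1
      rw [conj_pow, inv_pow, show (⟨a, haK⟩ : K) ^ p = 1 from Subtype.ext (hPexp a ha)]
      simp
    have h1 : a * (x * a⁻¹ * x⁻¹) = 1 := hpN _
      (by rw [← mul_assoc, ← mul_assoc]; exact mul_mem (hN.conj_mem x hx a) (inv_mem hx))
      (congrArg Subtype.val (show (_ : K) ^ p = 1 from (Set.ext_iff.mp hH _).mp hcH))
    rw [commute_iff_eq]
    rwa [← mul_assoc, ← mul_assoc, mul_inv_eq_one, mul_inv_eq_iff_eq_mul] at h1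
end Cfsg.Agent.S3873
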