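import Cfsg.Statements.S3875
import Cfsg.Agent.Lib.BrauerReynolds.Section
import Cfsg.Agent.Lib.Classical.Card

set_option autoImplicit false
open Cfsg

namespace Cfsg.Agent.S3875

/-- Let p be an odd prime and let m be the least prime power congruent to 1 modulo p. Then the least order of a finite group whose Sylow p-subgroups are not normal is the smaller of p · m and p(p² − 1)/2: every finite group whose Sylow p-subgroups are not normal has at least that order, and some group of exactly that order has non-normal Sylow p-subgroups. -/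
theorem result (p : ℕ) [Fact p.Prime] (hp : p ≠ 2) (m : ℕ) (hm : IsPrimePow m) (hm1 : m % p = 1)
    (hleast : ∀ k : ℕ, IsPrimePow k → k % p = 1 → m ≤ k) :
    (∀ (H : Type) [Group H] [Finite H], ¬ Cfsg.IsPClosed p H → min (p * m) (p * (p ^ 2 - 1) / 2) ≤ Nat.card H) ∧
      ∃ (H : Type) (_ : Group H) (_ : Finite H), Nat.card H = min (p * m) (p * (p ^ 2 - 1) / 2) ∧ ¬ Cfsg.IsPClosed p H := by
  have hpp : p.Prime := Fact.out
  refine ⟨fun H _ _ hH => CfsgLib.BrauerReynolds.not_closed_bound hp hleast hH, ?_⟩
  rcases le_or_gt (p * m) (p * (p ^ 2 - 1) / 2) with hle | hlt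
  · rw [min_eq_left hle]
    obtain ⟨q, k, hq, hk, rfl⟩ := hm
    rw [← Nat.prime_iff] at hq
    haveI := Fact.mk hq
    let F := GaloisField q k
    haveI : Fintype F := Fintype.ofFinite F
    have hF : Fintype.card F = q ^ k := by
      rw [← Nat.card_eq_fintype_card]; exact GaloisField.card q k hk.ne'
    have hqk : 1 ≤ q ^ k := Nat.one_le_pow _ _ hq.pos
    have hdvd : p ∣ Nat.card Fˣ := by
      rw [Nat.card_units, Nat.card_eq_fintype_card, hF]
      exact (Nat.modEq_iff_dvd' hqk).mp (show q ^ k ≡ 1 [MOD p] by
        rw [Nat.ModEq, hm1, Nat.mod_eq_of_lt hpp.one_lt]).symm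
    obtain ⟨z, hz⟩ := exists_prime_orderOf_dvd_card' p hdvd
    let φ : Subgroup.zpowers z →* MulAut (Multiplicative F) :=
      ((MulAutMultiplicative F).symm.toMonoidHom.comp (AddAut.mulLeft (R := F))).comp
        (Subgroup.zpowers z).subtype
    refine ⟨Multiplicative F ⋊[φ] Subgroup.zpowers z, inferInstance,
      Finite.of_equiv _ SemidirectProduct.equivProd.symm, ?_, ?_⟩
    · rw [SemidirectProduct.card, Nat.card_zpowers, hz,
        Nat.card_congr Multiplicative.toAdd, Nat.card_eq_fintype_card, hF, mul_comm]
    · intro hc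
      have hcard : Nat.card (Multiplicative F ⋊[φ] Subgroup.zpowers z) = q ^ k * p := by
        rw [SemidirectProduct.card, Nat.card_zpowers, hz,
          Nat.card_congr Multiplicative.toAdd, Nat.card_eq_fintype_card, hF]
      haveI : Finite (Multiplicative F ⋊[φ] Subgroup.zpowers z) :=
        Finite.of_equiv _ SemidirectProduct.equivProd.symm
      have hnd : ¬ p ∣ q ^ k := fun h => by
        rw [Nat.dvd_iff_mod_eq_zero, hm1] at h; exact one_ne_zero h
      let P : Sylow p (Multiplicative F ⋊[φ] Subgroup.zpowers z) :=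
        Sylow.ofCard (SemidirectProduct.inr (φ := φ)).range (by
          rw [← Nat.card_congr (MonoidHom.ofInjective SemidirectProduct.inr_injective).toEquiv,
            Nat.card_zpowers, hz, hcard, Nat.factorization_mul (by positivity) hpp.ne_zero,
            Finsupp.add_apply, Nat.factorization_eq_zero_of_not_dvd hnd, Nat.Prime.factorization_self hpp,
            zero_add, pow_one])
      have hP : ((SemidirectProduct.inr (φ := φ)).range).Normal := hc P
      have h := hP.conj_mem _ ⟨⟨z, Subgroup.mem_zpowers z⟩, rfl⟩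
        (SemidirectProduct.inl (Multiplicative.ofAdd (1 : F)))
      obtain ⟨y, hy⟩ := h
      have hl := congrArg SemidirectProduct.left hy
      simp only [SemidirectProduct.left_inr, SemidirectProduct.mul_left,
        SemidirectProduct.mul_right, SemidirectProduct.inv_left, SemidirectProduct.left_inl,
        SemidirectProduct.right_inl, SemidirectProduct.right_inr,
        one_mul, inv_one, map_one, MulAut.one_apply, mul_one] at hl
      have hl' : φ ⟨z, Subgroup.mem_zpowers z⟩ (Multiplicative.ofAdd (1 : F))⁻¹ =
          (Multiplicative.ofAdd (1 : F))⁻¹ := mul_left_cancel (hl.symm.trans (mul_inv_cancel _).symm)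
      have hl'' : (z : F) * (-1) = -1 := congrArg Multiplicative.toAdd hl'
      have hz1 : (z : F) = 1 := by simpa using hl''
      rw [Units.val_eq_one] at hz1
      rw [hz1, orderOf_one] at hz
      exact hpp.one_lt.ne hz
  · rw [min_eq_right hlt.le]
    have h5 : 5 ≤ p := by
      by_contra h5
      have h3 : p = 3 := by
        have := hpp.two_le
        interval_cases p <;> first | omega | exact absurd hpp (by norm_num)
      subst h3
      have := hleast 4 ⟨2, 2, Nat.prime_two.prime, by norm_num, rfl⟩ rfl
      omega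
    haveI : Fact p.Prime := ⟨hpp⟩
    have hs : IsSimpleGroup (Matrix.ProjectiveSpecialLinearGroup (Fin 2) (ZMod p)) :=
      Matrix.ProjectiveSpecialLinearGroup.rank_two_simple (by rw [Nat.card_zmod]; omega)
    have hcard := CfsgLib.Classical.card_PSL_two (F := ZMod p)
    rw [ZMod.card, Nat.gcd_eq_left (show 2 ∣ p - 1 by
      have := Nat.odd_iff.mp (hpp.odd_of_ne_two hp); omega)] at hcard
    refine ⟨Matrix.ProjectiveSpecialLinearGroup (Fin 2) (ZMod p), inferInstance, inferInstance,
      by omega, fun hc => ?_⟩
    set G := Matrix.ProjectiveSpecialLinearGroup (Fin 2) (ZMod p)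
    let P : Sylow p G := default
    have hn : (P : Subgroup G).Normal := hc P
    have hdp : p ∣ Nat.card G := by
      have hodd : ¬ p ∣ 2 := fun h => hp ((Nat.prime_dvd_prime_iff_eq hpp Nat.prime_two).mp h)
      exact ((hpp.coprime_iff_not_dvd.mpr hodd).dvd_mul_left).mp (hcard ▸ dvd_mul_right p _)
    rcases hn.eq_bot_or_eq_top with h | h
    · have := P.dvd_card_of_dvd_card hdp
      rw [h, Subgroup.card_bot] at this
      exact hpp.not_dvd_one this
    · obtain ⟨j, hj⟩ := P.2.exists_card_eq
      rw [h, Subgroup.card_top] at hj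
      rcases Nat.eq_zero_or_pos j with rfl | hj0
      · rw [hj, pow_zero] at hdp
        exact hpp.not_dvd_one hdp
      rw [hj] at hcard
      obtain ⟨c, rfl⟩ : ∃ c, j = c + 1 := ⟨j - 1, by omega⟩
      have h2 : 2 * p ^ c = p ^ 2 - 1 := Nat.eq_of_mul_eq_mul_left hpp.pos (by rw [← hcard]; ring)
      rcases Nat.eq_zero_or_pos c with rfl | hc0
      · have : 25 ≤ p ^ 2 := Nat.pow_le_pow_left h5 2
        rw [pow_zero] at h2
        omega
      · have h1 : p ∣ p ^ 2 - 1 := h2 ▸ (dvd_pow_self p hc0.ne').mul_left 2
        have h3 : p ∣ p ^ 2 := dvd_pow_self p two_ne_zero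
        have h4 := Nat.dvd_sub h3 h1
        rw [Nat.sub_sub_self (Nat.one_le_pow _ _ hpp.pos)] at h4
        exact hpp.not_dvd_one h4

end Cfsg.Agent.S3875
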