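import Cfsg.Statements.S3878
import Cfsg.Agent.Lib.SL2.Overgroups
-- import your own Cfsg.Agent.* helpers here

set_option autoImplicit false
open Cfsg

namespace Cfsg.Agent.S3878

open Matrix in
theorem not_ePi {π : Set ℕ} {p q r : ℕ} (hp : p.Prime) (hq : q.Prime) (hr : r.Prime) (hpq : p < q)
    (hpπ : p ∈ π) (hqπ : q ∈ π) (hrπ : r ∉ π) :
    ∃ (G : Type) (_ : Group G) (_ : Finite G), ¬ Cfsg.IsEPiGroup π G := by
  classical
  have hq3 : 3 ≤ q := by have := hp.two_le; omega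
  have hrp : r ≠ p := fun h => hrπ (h ▸ hpπ)
  have hrq : r ≠ q := fun h => hrπ (h ▸ hqπ)
  have hcop : (p ^ 3 * r).Coprime (q ^ 3) := Nat.Coprime.mul_left
    (Nat.Coprime.pow 3 3 ((Nat.coprime_primes hp hq).mpr hpq.ne))
    (Nat.Coprime.pow_right 3 ((Nat.coprime_primes hr hq).mpr hrq))
  obtain ⟨a, ha1, ha2⟩ := Nat.chineseRemainder hcop 1 (q ^ 3 - 1)
  haveI : NeZero (p ^ 3 * r * q ^ 3) := ⟨by
    have := hp.pos; have := hr.pos; have := hq.pos; positivity⟩
  have hq31 : 1 ≤ q ^ 3 := Nat.one_le_pow _ _ hq.pos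
  have hau : IsUnit (a : ZMod (p ^ 3 * r * q ^ 3)) := by
    rw [ZMod.isUnit_iff_coprime]
    refine Nat.Coprime.mul_right ?_ ?_
    · have h : Nat.gcd a (p ^ 3 * r) = Nat.gcd 1 (p ^ 3 * r) := ha1.gcd_eq
      exact h.trans (Nat.gcd_one_left _)
    · have h : Nat.gcd a (q ^ 3) = Nat.gcd (q ^ 3 - 1) (q ^ 3) := ha2.gcd_eq
      refine h.trans ?_
      have := Nat.coprime_self_sub_left hq31
      simpa using this.mpr (Nat.coprime_one_left _)
  obtain ⟨l, ⟨hl, hla⟩, hlbig⟩ :=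
    (Nat.infinite_setOf_prime_and_eq_mod hau).exists_gt (p + q + r + 7)
  rw [ZMod.natCast_eq_natCast_iff] at hla
  have hl1 : p ^ 3 * r ∣ l - 1 :=
    (Nat.modEq_iff_dvd' (by omega)).mp ((hla.of_mul_right (q ^ 3)).trans ha1).symm
  have hl2 : q ^ 3 ∣ l + 1 := by
    have h := ((hla.of_mul_left (p ^ 3 * r)).trans ha2).add_right 1
    rw [Nat.sub_add_cancel hq31] at h
    exact (Nat.modEq_zero_iff_dvd).mp (h.trans (Nat.modEq_zero_iff_dvd.mpr dvd_rfl))
  haveI : Fact l.Prime := ⟨hl⟩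
  refine ⟨ProjectiveSpecialLinearGroup (Fin 2) (ZMod l), inferInstance, inferInstance, ?_⟩
  rintro ⟨H, hH1, hH2⟩
  have hF : Nat.card (ZMod l) = l := Nat.card_zmod l
  have hlodd : Odd (Nat.card (ZMod l)) := hF.symm ▸ hl.odd_of_ne_two (by omega)
  have hgcd : Nat.gcd 2 (l - 1) = 2 := by
    obtain ⟨m, hm⟩ := hF ▸ hlodd
    rw [hm, Nat.add_sub_cancel]
    exact Nat.gcd_eq_left (dvd_mul_right 2 m)
  have hG := CfsgLib.SL2.card_PSL (F := ZMod l)
  rw [hF, hgcd] at hG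
  have hmul := H.card_mul_index
  set N := Nat.card (ProjectiveSpecialLinearGroup (Fin 2) (ZMod l)) with hN
  have hpart : ∀ (s k : ℕ), s.Prime → s ∈ π → s ^ k ∣ N → s ^ k ∣ Nat.card H := by
    intro s k hs hsπ hd
    rw [← hmul] at hd
    exact (Nat.Coprime.pow_left k ((hs.coprime_iff_not_dvd).mpr (hH2 s hs hsπ))).dvd_of_dvd_mul_right hd
  -- the `q`-part
  have hq2 : Nat.Coprime (q ^ 3) 2 :=
    Nat.Coprime.pow_left 3 ((Nat.coprime_primes hq Nat.prime_two).mpr (by omega))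
  have hqH : q ^ 3 ∣ Nat.card H := by
    refine hpart q 3 hq hqπ (hq2.dvd_of_dvd_mul_left ?_)
    rw [hG]
    exact dvd_mul_of_dvd_right (dvd_mul_of_dvd_right hl2 _) _
  -- the `p`-part
  have hl12 : 2 ∣ l - 1 ∧ 2 ∣ l + 1 := by
    obtain ⟨m, hm⟩ := hF ▸ hlodd
    exact ⟨⟨m, by omega⟩, ⟨m + 1, by omega⟩⟩
  have hpH : p ^ 3 ∣ Nat.card H := by
    refine hpart p 3 hp hpπ ?_
    have h1 : p ^ 3 * 2 ∣ (l - 1) * (l + 1) :=
      mul_dvd_mul ((dvd_mul_right _ _).trans hl1) hl12.2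
    have h2 : p ^ 3 * 2 ∣ 2 * N := hG ▸ dvd_mul_of_dvd_right h1 l
    rw [mul_comm] at h2
    exact (Nat.mul_dvd_mul_iff_left two_pos).mp h2
  have hrH : ¬ r ∣ Nat.card H := fun h => hrπ (hH1 r hr h)
  have hqm : ¬ q ∣ l - 1 := by
    intro h
    have h2 : q ∣ l + 1 - (l - 1) := Nat.dvd_sub ((dvd_pow_self q (by norm_num)).trans hl2) h
    rw [show l + 1 - (l - 1) = 2 by omega] at h2
    exact absurd (Nat.le_of_dvd two_pos h2) (by omega)
  have hbig : ∀ k : ℕ, q ^ 3 ∣ k → 0 < k → 27 ≤ k := fun k hk hk0 =>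
    (by simpa using Nat.pow_le_pow_left hq3 3 : 27 ≤ q ^ 3).trans (Nat.le_of_dvd hk0 hk)
  have hA4 : ¬ q ^ 3 ∣ 12 := fun h => absurd (hbig _ h (by norm_num)) (by norm_num)
  have hS4 : ¬ q ^ 3 ∣ 24 := fun h => absurd (hbig _ h (by norm_num)) (by norm_num)
  have hA5 : ¬ q ^ 3 ∣ 60 := by
    intro h
    have h7 : q < 4 := by
      by_contra h4
      have : 4 ^ 3 ≤ 60 := (Nat.pow_le_pow_left (by omega) 3).trans (Nat.le_of_dvd (by norm_num) h)
      omega
    rw [show q = 3 by omega] at h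
    norm_num at h
  rcases CfsgLib.SL2.dickson l H with ⟨c, -, hc, hcase⟩ | ⟨k, hk⟩ | ⟨⟨e⟩⟩ | ⟨⟨e⟩⟩ | ⟨⟨e⟩⟩ | hsub
  · have hor := CfsgLib.SL2.orderOf_dvd_torus_orders l c hc
    rw [hF, hgcd] at hor
    have hHo : Nat.card H ∣ 2 * orderOf c := by
      rcases hcase with ⟨-, h⟩ | ⟨⟨e⟩⟩
      · exact h ▸ dvd_mul_left _ _
      · rw [Nat.card_congr e.toEquiv, DihedralGroup.nat_card]
    rcases hor with h | h
    · -- the non-split torus cannot carry the `p`-part
      have h1 : p ^ 3 ∣ l + 1 := by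
        refine (hpH.trans hHo).trans ?_
        rw [← Nat.mul_div_cancel' hl12.2]
        exact mul_dvd_mul_left 2 h
      have h2 : p ^ 3 ∣ l + 1 - (l - 1) := Nat.dvd_sub h1 ((dvd_mul_right _ _).trans hl1)
      rw [show l + 1 - (l - 1) = 2 by omega] at h2
      have h3 : 2 ^ 3 ≤ 2 := (Nat.pow_le_pow_left hp.two_le 3).trans (Nat.le_of_dvd two_pos h2)
      omega
    · apply hqm
      refine ((dvd_pow_self q (show 3 ≠ 0 by norm_num)).trans (hqH.trans hHo)).trans ?_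
      rw [← Nat.mul_div_cancel' hl12.1]
      exact mul_dvd_mul_left 2 h
  · have hle : H.map (MulAut.conj k).toMonoidHom ≤ CfsgLib.SL2.borelPSL (ZMod l) := by
      rintro _ ⟨h, hh, rfl⟩
      exact hk h hh
    have hd : Nat.card H ∣ Nat.card (CfsgLib.SL2.borelPSL (ZMod l)) := by
      rw [← Subgroup.card_map_of_injective (f := (MulAut.conj k).toMonoidHom) (MulAut.conj k).injective]
      exact Subgroup.card_dvd_of_le hle
    have hB := CfsgLib.SL2.card_borelPSL (F := ZMod l)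
    rw [CfsgLib.SL2.dd_of_odd hlodd, hF] at hB
    have h1 : q ∣ l * (l - 1) :=
      hB ▸ dvd_mul_of_dvd_right (((dvd_pow_self q (by norm_num)).trans hqH).trans hd) 2
    rcases hq.dvd_mul.mp h1 with h | h
    · exact absurd ((Nat.prime_dvd_prime_iff_eq hq hl).mp h) (by omega)
    · exact hqm h
  · exact hA4 (by
      have h := hqH
      rw [Nat.card_congr e.toEquiv, nat_card_alternatingGroup, Nat.card_fin] at h
      simpa [Nat.factorial] using h)
  · exact hS4 (by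
      have h := hqH
      rw [Nat.card_congr e.toEquiv, Nat.card_perm, Nat.card_fin] at h
      simpa [Nat.factorial] using h)
  · exact hA5 (by
      have h := hqH
      rw [Nat.card_congr e.toEquiv, nat_card_alternatingGroup, Nat.card_fin] at h
      simpa [Nat.factorial] using h)
  · obtain ⟨K, _, _, m, hm, hK⟩ := hsub
    rw [hF] at hm
    have hKl : Nat.card K = l := by
      rw [Nat.card_eq_fintype_card]
      have h1 : Fintype.card K ∣ l := by
        rcases Nat.eq_zero_or_pos m with h | h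
        · rw [h, pow_zero] at hm; omega
        · exact hm ▸ dvd_pow_self _ h.ne'
      rcases hl.eq_one_or_self_of_dvd _ h1 with h | h
      · exact absurd Fintype.one_lt_card (by rw [h]; omega)
      · exact h
    have hGK := CfsgLib.SL2.card_PSL (F := K)
    rw [hKl, hgcd] at hGK
    have hrN : r ∣ N := by
      have h1 : r * 2 ∣ 2 * N := hG ▸ dvd_mul_of_dvd_right
        (mul_dvd_mul ((dvd_mul_left _ _).trans hl1) hl12.2) l
      rw [mul_comm] at h1
      exact (Nat.mul_dvd_mul_iff_left two_pos).mp h1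
    have hNK : Nat.card (ProjectiveSpecialLinearGroup (Fin 2) K) = N :=
      Nat.eq_of_mul_eq_mul_left two_pos (hGK.trans hG.symm)
    apply hrH
    rcases hK with ⟨⟨e⟩⟩ | ⟨⟨e⟩⟩
    · rwa [Nat.card_congr e.toEquiv, hNK]
    · rw [Nat.card_congr e.toEquiv]
      refine dvd_trans (hNK.symm ▸ hrN) ?_
      exact Subgroup.card_dvd_of_injective ProjectiveSpecialLinearGroup.toPGL
        ProjectiveSpecialLinearGroup.toPGL_injective

theorem ePi_of_dPi {π : Set ℕ} {G : Type} [Group G] [Finite G] (h : Cfsg.IsDPiGroup π G) :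
    Cfsg.IsEPiGroup π G := by
  have hbot : Cfsg.IsPiSubgroup π (⊥ : Subgroup G) := fun s hs hd => by
    rw [Subgroup.card_bot] at hd
    exact absurd (Nat.le_of_dvd one_pos hd) (by have := hs.two_le; omega)
  obtain ⟨H, -, hH⟩ := (Set.toFinite {K : Subgroup G | Cfsg.IsPiSubgroup π K}).exists_le_maximal hbot
  refine ⟨H, hH.1, fun s hs hsπ hd => ?_⟩
  haveI : Fact s.Prime := ⟨hs⟩
  obtain ⟨P⟩ : Nonempty (Sylow s G) := inferInstance
  have hP : Cfsg.IsPiSubgroup π (P : Subgroup G) := fun t ht htd => by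
    obtain ⟨k, hk⟩ := IsPGroup.iff_card.mp P.2
    rw [hk] at htd
    rwa [(Nat.prime_dvd_prime_iff_eq ht hs).mp (ht.dvd_of_dvd_pow htd)]
  obtain ⟨K, hPK, hK⟩ := (Set.toFinite {K : Subgroup G | Cfsg.IsPiSubgroup π K}).exists_le_maximal hP
  obtain ⟨g, hg⟩ := h H K hH hK
  have hcard : Nat.card H = Nat.card K := by
    rw [hg, Subgroup.card_map_of_injective (MulAut.conj g).injective]
  have hidx : H.index = K.index := by
    have h1 := H.card_mul_index
    rw [← K.card_mul_index, hcard] at h1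
    exact Nat.eq_of_mul_eq_mul_left Nat.card_pos h1
  exact P.not_dvd_index (hd.trans (hidx ▸ Subgroup.index_dvd_of_le hPK))

theorem both_of_le_one {π : Set ℕ}
    (hπ : (∀ p q : ℕ, p.Prime → q.Prime → p ∈ π → q ∈ π → p = q) ∨ ∀ p : ℕ, p.Prime → p ∈ π)
    (G : Type) [Group G] [Finite G] : Cfsg.IsDPiGroup π G := by
  intro H K hH hK
  rcases hπ with h | h
  swap
  · have htop : Cfsg.IsPiSubgroup π (⊤ : Subgroup G) := fun s hs _ => h s hs
    have e1 : H = ⊤ := le_antisymm le_top (hH.2 htop le_top)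
    have e2 : K = ⊤ := le_antisymm le_top (hK.2 htop le_top)
    exact ⟨1, by rw [e1, e2]; ext x; simp⟩
  by_cases hex : ∃ p, p.Prime ∧ p ∈ π
  swap
  · have hone : ∀ L : Subgroup G, Cfsg.IsPiSubgroup π L → L = ⊥ := fun L hL => by
      rw [← Subgroup.card_eq_one]
      by_contra hne
      obtain ⟨s, hs, hsd⟩ := Nat.exists_prime_and_dvd hne
      exact hex ⟨s, hs, hL s hs hsd⟩
    exact ⟨1, by rw [hone H hH.1, hone K hK.1]; ext x; simp⟩
  obtain ⟨p, hp, hpπ⟩ := hex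
  haveI : Fact p.Prime := ⟨hp⟩
  have hsyl : ∀ L : Subgroup G, Maximal (Cfsg.IsPiSubgroup π) L → ∃ P : Sylow p G, (P : Subgroup G) = L := by
    intro L hL
    have hLp : IsPGroup p L := by
      refine IsPGroup.of_card (n := (Nat.card L).primeFactorsList.length) ?_
      exact Nat.eq_prime_pow_of_unique_prime_dvd Nat.card_pos.ne'
        fun {t} ht htd => h t p ht hp (hL.1 t ht htd) hpπ
    obtain ⟨P, hP⟩ := hLp.exists_le_sylow
    refine ⟨P, le_antisymm (hL.2 (fun t ht htd => ?_) hP) hP⟩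
    obtain ⟨k, hk⟩ := IsPGroup.iff_card.mp P.2
    rw [hk] at htd
    rwa [(Nat.prime_dvd_prime_iff_eq ht hp).mp (ht.dvd_of_dvd_pow htd)]
  obtain ⟨P, rfl⟩ := hsyl H hH
  obtain ⟨Q, rfl⟩ := hsyl K hK
  obtain ⟨g, hg⟩ := MulAction.exists_smul_eq G P Q
  exact ⟨g, by rw [← hg]; rfl⟩

/-- For a set of primes π the following are equivalent: every finite group has a Hall π-subgroup; in every finite group the maximal π-subgroups are pairwise conjugate; π contains at most one prime or contains every prime. -/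
theorem result (π : Set ℕ) :
    ((∀ (G : Type) [Group G] [Finite G], Cfsg.IsEPiGroup π G) ↔
      ((∀ p q : ℕ, p.Prime → q.Prime → p ∈ π → q ∈ π → p = q) ∨ ∀ p : ℕ, p.Prime → p ∈ π)) ∧
    ((∀ (G : Type) [Group G] [Finite G], Cfsg.IsDPiGroup π G) ↔
      ((∀ p q : ℕ, p.Prime → q.Prime → p ∈ π → q ∈ π → p = q) ∨ ∀ p : ℕ, p.Prime → p ∈ π)) := by
  have hneg : (∀ (G : Type) [Group G] [Finite G], Cfsg.IsEPiGroup π G) →
      ((∀ p q : ℕ, p.Prime → q.Prime → p ∈ π → q ∈ π → p = q) ∨ ∀ p : ℕ, p.Prime → p ∈ π) := by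
    intro hE
    by_contra hc
    push Not at hc
    obtain ⟨⟨p, q, hp, hq, hpπ, hqπ, hne⟩, r, hr, hrπ⟩ := hc
    rcases lt_or_gt_of_ne hne with h | h
    · obtain ⟨G, hG, hGf, hno⟩ := not_ePi hp hq hr h hpπ hqπ hrπ
      exact hno (@hE G hG hGf)
    · obtain ⟨G, hG, hGf, hno⟩ := not_ePi hq hp hr h hqπ hpπ hrπ
      exact hno (@hE G hG hGf)
  exact ⟨⟨hneg, fun h G _ _ => ePi_of_dPi (both_of_le_one h G)⟩,
    ⟨fun hD => hneg fun G _ _ => ePi_of_dPi (hD G), fun h G _ _ => both_of_le_one h G⟩⟩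

end Cfsg.Agent.S3878
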