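import Cfsg.Statements.S3881
import Cfsg.Agent.Lib.PGroup.Metacyclic
import Cfsg.Agent.Lib.PGroup.MetacyclicOdd

set_option autoImplicit false
open Cfsg

namespace Cfsg.Agent.S3881

/-- Let p be an odd prime and G a finite metacyclic p-group (G has a cyclic normal subgroup with cyclic quotient). Suppose G is non-abelian with |G'| = p^n. Then for 1 ≤ i ≤ n the number of elements of G whose conjugacy class has exactly p^i elements is |Z(G)| · (p^(2i) − p^(2i−2)). -/
theorem result {G : Type*} [Group G] [Finite G] {p : ℕ} [Fact p.Prime] (hp : p ≠ 2) (hG : IsPGroup p G) (hmc : Cfsg.IsMetacyclic G) (n : ℕ) (hn : n ≠ 0) (hGn : Nat.card ↥(commutator G) = p ^ n) (i : ℕ) (hi : 1 ≤ i) (hin : i ≤ n) :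
    Nat.card {g : G // (Subgroup.centralizer ({g} : Set G)).index = p ^ i} =
      Nat.card ↥(Subgroup.center G) * (p ^ (2 * i) - p ^ (2 * i - 2)) := by
  obtain ⟨h, n', a, b, hn', hgen, hab⟩ := CfsgLib.Metacyclic.setup hp hG hmc
  have hnn : n' = n := Nat.pow_right_injective (Fact.out : p.Prime).two_le (hn'.symm.trans hGn)
  subst hnn
  have hpp : p.Prime := Fact.out
  have hcard : ∀ k ≤ n', Nat.card (h.tor k) = Nat.card ↥(Subgroup.center G) * p ^ (2 * k) := by
    intro k hk
    have h1 := (h.tor k).card_mul_index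
    have h2 := (Subgroup.center G).card_mul_index
    rw [show h.tor k = h.tor (n' - (n' - k)) by congr 1; omega] at h1 ⊢
    rw [CfsgLib.Metacyclic.index_tor h hgen hab (show n' - k ≤ n' by omega)] at h1
    rw [CfsgLib.Metacyclic.index_center hp hG hmc, hn', ← pow_mul] at h2
    refine Nat.eq_of_mul_eq_mul_right (pow_pos hpp.pos (2 * (n' - k))) ?_
    rw [h1, ← h2, mul_assoc, ← pow_add]
    congr 2
    omega
  obtain ⟨j, rfl⟩ : ∃ j, i = j + 1 := ⟨i - 1, by omega⟩
  have hset : {g : G | (Subgroup.centralizer ({g} : Set G)).index = p ^ (j + 1)} =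
      (h.tor (j + 1) : Set G) \ (h.tor j : Set G) := by
    ext g
    rw [Set.mem_setOf_eq, Set.mem_diff, SetLike.mem_coe, SetLike.mem_coe,
      ← h.index_centralizer_le_iff, ← h.index_centralizer_le_iff]
    obtain ⟨c, hc⟩ := IsPGroup.iff_card.mp hG
    obtain ⟨e, -, he⟩ := (Nat.dvd_prime_pow hpp).mp
      ((Subgroup.index_dvd_card (Subgroup.centralizer ({g} : Set G))).trans hc.dvd)
    rw [he, Nat.pow_le_pow_iff_right hpp.one_lt, Nat.pow_le_pow_iff_right hpp.one_lt]
    refine ⟨fun e' => ?_, fun e' => by rw [show e = j + 1 by omega]⟩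
    have := Nat.pow_right_injective hpp.two_le e'
    omega
  calc Nat.card {g : G // (Subgroup.centralizer ({g} : Set G)).index = p ^ (j + 1)}
      = ({g : G | (Subgroup.centralizer ({g} : Set G)).index = p ^ (j + 1)}).ncard :=
        Nat.card_coe_set_eq _
    _ = (h.tor (j + 1) : Set G).ncard - (h.tor j : Set G).ncard := by
        rw [hset, Set.ncard_diff (SetLike.coe_subset_coe.mpr (h.tor_mono (Nat.le_succ j)))
          (Set.toFinite _)]
    _ = _ := by
        rw [← Nat.card_coe_set_eq, ← Nat.card_coe_set_eq]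
        show Nat.card (h.tor (j + 1)) - Nat.card (h.tor j) = _
        rw [hcard _ hin, hcard _ (by omega), ← Nat.mul_sub]
        congr 3

end Cfsg.Agent.S3881
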