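import Cfsg.Statements.S3883
import Cfsg.Agent.Lib.PGroup.Metacyclic
import Cfsg.Agent.Lib.PGroup.MetacyclicOdd

set_option autoImplicit false
open Cfsg

namespace Cfsg.Agent.S3883

/-- Let p be an odd prime and G a finite metacyclic p-group (G has a cyclic normal subgroup with cyclic quotient). Suppose G is non-abelian. Then an element g of G lies outside the Frattini subgroup if and only if its centralizer C_G(g) is abelian. -/
theorem result {G : Type*} [Group G] [Finite G] {p : ℕ} [Fact p.Prime] (hp : p ≠ 2) (hG : IsPGroup p G) (hmc : Cfsg.IsMetacyclic G) (hna : ¬ IsMulCommutative G) (g : G) :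
    g ∉ frattini G ↔ IsMulCommutative ↥(Subgroup.centralizer ({g} : Set G)) := by
  obtain ⟨h, n, a, b, hn, hgen, hab⟩ := CfsgLib.Metacyclic.setup hp hG hmc
  have hpp : p.Prime := Fact.out
  have hn0 : 1 ≤ n := by
    rcases Nat.eq_zero_or_pos n with rfl | h0
    · refine absurd ?_ hna
      rw [pow_zero] at hn
      have e := Subgroup.eq_bot_of_card_eq _ hn
      exact ⟨⟨fun x y => commutatorElement_eq_one_iff_mul_comm.mp (Subgroup.mem_bot.mp
        (e ▸ Subgroup.commutator_mem_commutator (Subgroup.mem_top x) (Subgroup.mem_top y)))⟩⟩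
    · exact h0
  rw [CfsgLib.Metacyclic.frattini_eq_tor h hgen hn hab hn0, ← h.index_centralizer_le_iff,
    CfsgLib.Metacyclic.isMulCommutative_iff hp hG hmc]
  set C := Subgroup.centralizer ({g} : Set G)
  obtain ⟨c, hc⟩ := IsPGroup.iff_card.mp hG
  obtain ⟨e, -, he⟩ := (Nat.dvd_prime_pow hpp).mp ((Subgroup.index_dvd_card C).trans hc.dvd)
  have h1 := C.card_mul_index
  have h2 := (commutator G).card_mul_index
  rw [he] at h1 ⊢
  rw [hn] at h2
  rw [Nat.pow_le_pow_iff_right hpp.one_lt]
  constructor
  · intro hlt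
    refine Nat.le_of_mul_le_mul_right ?_ (pow_pos hpp.pos e)
    rw [h1, ← h2, mul_comm]
    exact Nat.mul_le_mul_left _ (Nat.pow_le_pow_right hpp.pos (by omega))
  · intro hle
    have : n ≤ e := (Nat.pow_le_pow_iff_right hpp.one_lt).mp (Nat.le_of_mul_le_mul_left
      (by
        calc Nat.card C * p ^ n ≤ (commutator G).index * p ^ n := Nat.mul_le_mul_right _ hle
          _ = Nat.card C * p ^ e := by rw [mul_comm, h2, h1]) (Nat.card_pos (α := C)))
    omega

end Cfsg.Agent.S3883
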