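import Cfsg.Statements.S3885
import Cfsg.Agent.Lib.PGroup.Metacyclic
import Cfsg.Agent.Lib.PGroup.MetacyclicOdd

set_option autoImplicit false
open Cfsg

namespace Cfsg.Agent.S3885

/-- Let p be an odd prime and G a finite metacyclic p-group (G has a cyclic normal subgroup with cyclic quotient). Then every abelian subgroup K of G containing the center of G is the center of its own centralizer: K = Z(C_G(K)). -/
theorem result {G : Type*} [Group G] [Finite G] {p : ℕ} [Fact p.Prime] (hp : p ≠ 2) (hG : IsPGroup p G) (hmc : Cfsg.IsMetacyclic G) (K : Subgroup G) (hK : IsMulCommutative ↥K) (hZ : Subgroup.center G ≤ K) :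
    K = Subgroup.centralizer (K : Set G) ⊓ Subgroup.centralizer (Subgroup.centralizer (K : Set G) : Set G) := by
  have h := CfsgLib.Metacyclic.cyclicDerived hp hG hmc
  set C := Subgroup.centralizer (K : Set G) with hC
  set CC := Subgroup.centralizer (C : Set G) with hCC
  have hKC : K ≤ C := fun x hx => Subgroup.mem_centralizer_iff.mpr fun y hy =>
    congrArg Subtype.val (hK.is_comm.comm ⟨y, hy⟩ ⟨x, hx⟩)
  have hKCC : K ≤ CC := fun x hx => Subgroup.mem_centralizer_iff.mpr fun y hy =>
    (Subgroup.mem_centralizer_iff.mp hy x hx).symm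
  have hCZ : Subgroup.center G ≤ C := Subgroup.center_le_centralizer _
  have e1 := (h.card_mul_eq_iff K).mpr hZ
  have e2 := (h.card_mul_eq_iff C).mpr hCZ
  have hcard : Nat.card CC = Nat.card K := by
    refine Nat.eq_of_mul_eq_mul_left (Nat.card_pos (α := C)) ?_
    rw [e2, ← e1, mul_comm]
  have e3 : K = CC := Subgroup.eq_of_le_of_card_ge hKCC hcard.le
  rw [← e3]
  exact (inf_eq_right.mpr hKC).symm

end Cfsg.Agent.S3885
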