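import Cfsg.Statements.S3886
import Cfsg.Agent.Lib.PGroup.Metacyclic
import Cfsg.Agent.Lib.PGroup.MetacyclicOdd

set_option autoImplicit false
open Cfsg

namespace Cfsg.Agent.S3886

/-- Let p be an odd prime and G a finite metacyclic p-group (G has a cyclic normal subgroup with cyclic quotient). Then the largest value of |R| · |Z(R)| over subgroups R of G is |G : G'|², and the subgroups attaining it (the centrally large subgroups) are exactly the non-abelian subgroups together with the maximal abelian subgroups of G. -/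
theorem result {G : Type*} [Group G] [Finite G] {p : ℕ} [Fact p.Prime] (hp : p ≠ 2) (hG : IsPGroup p G) (hmc : Cfsg.IsMetacyclic G) : Cfsg.maxCentralProduct G = (commutator G).index ^ 2 ∧
    ∀ R : Subgroup G, Cfsg.IsCentrallyLarge R ↔ (¬ IsMulCommutative ↥R ∨ Maximal (fun K : Subgroup G => IsMulCommutative ↥K) R) := by
  have hpp : p.Prime := Fact.out
  set I := (commutator G).index with hI
  have hI0 : 0 < I := Nat.pos_of_ne_zero Subgroup.index_ne_zero_of_finite
  have hbig : ∀ R : Subgroup G, I ≤ Nat.card R →
      Nat.card ↥R * Nat.card ↥(Subgroup.center ↥R) = I ^ 2 := by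
    intro R hR
    have h1 := CfsgLib.Metacyclic.card_commutator_mul_index hp hG hmc R hR
    rw [← hI] at h1
    have h2 := CfsgLib.Metacyclic.index_center hp (hG.to_subgroup R)
      (CfsgLib.Metacyclic.isMetacyclic_subgroup hmc R)
    have h3 := (Subgroup.center R).card_mul_index
    rw [h2] at h3
    refine Nat.eq_of_mul_eq_mul_right (pow_pos (Nat.card_pos (α := commutator R)) 2) ?_
    rw [mul_assoc, h3, ← mul_pow, mul_comm I, h1, sq]
  have hsmall : ∀ R : Subgroup G, Nat.card R < I →
      Nat.card ↥R * Nat.card ↥(Subgroup.center ↥R) < I ^ 2 := by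
    intro R hR
    calc Nat.card ↥R * Nat.card ↥(Subgroup.center ↥R) ≤ Nat.card R * Nat.card R :=
          Nat.mul_le_mul_left _ (Subgroup.card_le_card_group _)
      _ < _ := by rw [sq]; exact Nat.mul_lt_mul'' hR hR
  have hmax : Cfsg.maxCentralProduct G = I ^ 2 := by
    refine IsGreatest.csSup_eq ⟨⟨⊤, hbig ⊤ ?_⟩, ?_⟩
    · rw [Subgroup.card_top]
      exact Nat.le_of_dvd Nat.card_pos (Subgroup.index_dvd_card _)
    · rintro k ⟨R, rfl⟩
      rcases lt_or_ge (Nat.card R) I with hR | hR
      · exact (hsmall R hR).le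
      · exact (hbig R hR).le
  refine ⟨hmax, fun R => ?_⟩
  rw [Cfsg.IsCentrallyLarge, hmax, CfsgLib.Metacyclic.maximal_abelian_iff hp hG hmc,
    CfsgLib.Metacyclic.isMulCommutative_iff hp hG hmc, ← hI]
  constructor
  · intro e
    rcases lt_trichotomy (Nat.card R) I with h | h | h
    · exact absurd e (hsmall R h).ne
    · exact Or.inr h
    · exact Or.inl (not_le.mpr h)
  · rintro (h | h)
    · exact hbig R (not_le.mp h).le
    · exact hbig R h.ge

end Cfsg.Agent.S3886
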