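import Cfsg.Statements.S3889
import Mathlib

set_option autoImplicit false
set_option linter.style.haveILetI false
open Cfsg

namespace Cfsg.Agent.S3889

/-- A finite abelian group that is the union of a family of proper subgroups any two of which intersect trivially is elementary abelian: its exponent is a prime. -/
theorem result {G : Type*} [CommGroup G] [Finite G] (𝓑 : Set (Subgroup G)) (hprop : ∀ B ∈ 𝓑, B ≠ ⊤)
    (hcov : ∀ g : G, ∃ B ∈ 𝓑, g ∈ B) (hdisj : ∀ B ∈ 𝓑, ∀ C ∈ 𝓑, B ≠ C → B ⊓ C = ⊥) :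
    (Monoid.exponent G).Prime := by
  classical
  have hkey : ∀ B ∈ 𝓑, ∀ x ∈ B, ∀ y ∉ B, x ≠ 1 → orderOf x = orderOf y := by
    intro B hB x hx y hy hx1
    obtain ⟨C, hC, hyC⟩ := hcov y
    obtain ⟨D, hD, hxyD⟩ := hcov (x * y)
    have hBC : B ≠ C := fun h => hy (h ▸ hyC)
    have huniq : ∀ {E F : Subgroup G} {z : G}, E ∈ 𝓑 → F ∈ 𝓑 → z ≠ 1 → z ∈ E → z ∈ F → E = F := by
      intro E F z hE hF hz h1 h2
      by_contra hne
      have : z ∈ E ⊓ F := ⟨h1, h2⟩
      rw [hdisj E hE F hF hne, Subgroup.mem_bot] at this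
      exact hz this
    have hxC : x ∉ C := fun h => hBC (huniq hB hC hx1 hx h)
    refine Nat.dvd_antisymm (orderOf_dvd_of_pow_eq_one ?_) (orderOf_dvd_of_pow_eq_one ?_)
    · by_contra hne
      have hDB : D = B := huniq hD hB hne (by
        have h := D.pow_mem hxyD (orderOf y)
        rwa [mul_pow, pow_orderOf_eq_one, mul_one] at h) (B.pow_mem hx _)
      subst hDB
      exact hy (by simpa using D.mul_mem (D.inv_mem hx) hxyD)
    · by_contra hne
      have hDC : D = C := huniq hD hC hne (by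
        have h := D.pow_mem hxyD (orderOf x)
        rwa [mul_pow, pow_orderOf_eq_one, one_mul] at h) (C.pow_mem hyC _)
      subst hDC
      exact hxC (by simpa using D.mul_mem hxyD (D.inv_mem hyC))
  have hsame : ∀ x y : G, x ≠ 1 → y ≠ 1 → orderOf x = orderOf y := by
    intro x y hx hy
    obtain ⟨B, hB, hxB⟩ := hcov x
    by_cases hyB : y ∈ B
    · obtain ⟨z, hz⟩ : ∃ z, z ∉ B := by
        by_contra h
        push Not at h
        exact hprop B hB (eq_top_iff.mpr fun g _ => h g)
      rw [hkey B hB x hxB z hz hx, hkey B hB y hyB z hz hy]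
    · exact hkey B hB x hxB y hyB hx
  obtain ⟨B, hB, -⟩ := hcov 1
  obtain ⟨x, hx⟩ : ∃ x : G, x ∉ B := by
    by_contra h
    push Not at h
    exact hprop B hB (eq_top_iff.mpr fun g _ => h g)
  have hx1 : x ≠ 1 := fun h => hx (h ▸ B.one_mem)
  obtain ⟨r, hr, hrd⟩ := Nat.exists_prime_and_dvd (mt orderOf_eq_one_iff.mp hx1)
  have h1 : orderOf (x ^ (orderOf x / r)) = r := orderOf_pow_orderOf_div (orderOf_pos x).ne' hrd
  have h2 : x ^ (orderOf x / r) ≠ 1 := by
    intro h
    rw [h, orderOf_one] at h1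
    exact hr.one_lt.ne h1
  have hox : ∀ g : G, g ≠ 1 → orderOf g = r := fun g hg => (hsame g _ hg h2).trans h1
  have hexp : Monoid.exponent G = r := by
    refine Nat.dvd_antisymm (Monoid.exponent_dvd_of_forall_pow_eq_one fun g => ?_) ?_
    · by_cases hg : g = 1
      · simp [hg]
      · rw [← hox g hg]; exact pow_orderOf_eq_one g
    · rw [← hox x hx1]; exact Monoid.order_dvd_exponent x
  rw [hexp]; exact hr

end Cfsg.Agent.S3889
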