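import Mathlib
import Cfsg.Statements.S3890

set_option autoImplicit false
open Cfsg
open scoped Pointwise

namespace Cfsg.Agent.S3890

variable {G : Type*} [Group G] [Finite G]

theorem commute_of_mem_nilpotent {p : ℕ} [Fact p.Prime] (P : Sylow p G) (hab : IsMulCommutative ↥(P : Subgroup G))
    {A : Subgroup G} (hA : Group.IsNilpotent A) {z : G} (hz : z ∈ A) {k : ℕ} (hzk : z ^ p ^ k = 1) {a : G} (ha : a ∈ A) :
    z * a = a * z := by
  classical
  obtain ⟨e⟩ := (((Group.isNilpotent_of_finite_tfae (G := A)).out 0 4).mp hA :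
    Nonempty ((∀ p : (Nat.card A).primeFactors, ∀ Q : Sylow p A, Q) ≃* A))
  obtain ⟨u, hu⟩ := e.surjective ⟨z, hz⟩
  obtain ⟨v, hv⟩ := e.surjective ⟨a, ha⟩
  suffices h : u * v = v * u by
    have h1 := congrArg Subtype.val (congrArg e h)
    rwa [map_mul, map_mul, hu, hv] at h1
  have hu1 : u ^ p ^ k = 1 := e.injective (by rw [map_pow, map_one, hu]; exact Subtype.ext hzk)
  funext q Q
  show u q Q * v q Q = v q Q * u q Q
  have hq : Fact (q : ℕ).Prime := ⟨Nat.prime_of_mem_primeFactors q.2⟩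
  rcases eq_or_ne (q : ℕ) p with h | h
  · have hQ : IsPGroup p ((Q : Subgroup A).map A.subtype) := h ▸ Q.2.map _
    obtain ⟨R, hR⟩ := hQ.exists_le_sylow
    obtain ⟨g, rfl⟩ := MulAction.exists_smul_eq G P R
    refine Subtype.ext (Subtype.ext ?_)
    obtain ⟨b, hb, hb'⟩ := (Sylow.coe_subgroup_smul (g := g) (P := P) ▸ hR (Subgroup.mem_map_of_mem _ (u q Q).2) :
      A.subtype (u q Q) ∈ MulAut.conj g • (P : Subgroup G))
    obtain ⟨c, hc, hc'⟩ := (Sylow.coe_subgroup_smul (g := g) (P := P) ▸ hR (Subgroup.mem_map_of_mem _ (v q Q).2) :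
      A.subtype (v q Q) ∈ MulAut.conj g • (P : Subgroup G))
    change g * b * g⁻¹ = ((u q Q : A) : G) at hb'
    change g * c * g⁻¹ = ((v q Q : A) : G) at hc'
    push_cast
    rw [← hb', ← hc', conj_mul, conj_mul, show b * c = c * b from congrArg Subtype.val (hab.is_comm.comm ⟨b, hb⟩ ⟨c, hc⟩)]
  · have h1 : (u q Q) ^ p ^ k = 1 := congrFun (congrFun hu1 q) Q
    obtain ⟨j, hj⟩ := Q.2 (u q Q)
    have h2 : orderOf (u q Q) = 1 := Nat.eq_one_of_dvd_coprimes
      (((Nat.coprime_primes (Fact.out : p.Prime) hq.out).mpr (Ne.symm h)).pow k j)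
      (orderOf_dvd_of_pow_eq_one h1) (orderOf_dvd_of_pow_eq_one hj)
    rw [orderOf_eq_one_iff.mp h2, one_mul, mul_one]

/-- An abelian Sylow subgroup lies in a member, which is its centralizer. -/
theorem member_centralizer (hZ : Subgroup.center G = ⊥) (𝓐 : Finset (Subgroup G))
    (h𝓐 : ((∀ A ∈ 𝓐, A ≠ ⊤) ∧ (∀ g : G, ∃ A ∈ 𝓐, g ∈ A)) ∧ (∀ 𝓑 : Finset (Subgroup G), (∀ A ∈ 𝓑, A ≠ ⊤) ∧ (∀ g : G, ∃ A ∈ 𝓑, g ∈ A) → 𝓐.card ≤ 𝓑.card) ∧ (∀ A ∈ 𝓐, Group.IsNilpotent ↥A))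
    {p : ℕ} [Fact p.Prime] (P : Sylow p G) (hab : IsMulCommutative ↥(P : Subgroup G)) (hnn : ¬ (P : Subgroup G).Normal)
    (hne : ¬ (Cfsg.IsElementaryAbelian p (P : Subgroup G) ∧ p < Nat.card ↥(P : Subgroup G))) :
    ∃ A ∈ 𝓐, (P : Subgroup G) ≤ A ∧ Subgroup.centralizer ((P : Subgroup G) : Set G) = A ∧
      ∀ B ∈ 𝓐, ∀ z ∈ (P : Subgroup G), z ≠ 1 → z ∈ B → B = A := by
  classical
  have hpp : p.Prime := Fact.out
  obtain ⟨⟨hproper, hcov⟩, hmin, hnil⟩ := h𝓐
  have hmerge : ∀ A ∈ 𝓐, ∀ B ∈ 𝓐, A ≠ B → ∀ M : Subgroup G, M ≠ ⊤ → A ≤ M → ¬ B ≤ M := by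
    intro A hA B hB hne M hM hAM hBM
    have h1 := hmin (insert M ((𝓐.erase A).erase B)) ⟨fun C hC => ?_, fun g => ?_⟩
    · have h2 := Finset.card_insert_le M ((𝓐.erase A).erase B)
      rw [Finset.card_erase_of_mem (Finset.mem_erase.mpr ⟨hne.symm, hB⟩), Finset.card_erase_of_mem hA] at h2
      have h3 : 2 ≤ 𝓐.card := Finset.one_lt_card.mpr ⟨A, hA, B, hB, hne⟩
      omega
    · rcases Finset.mem_insert.mp hC with rfl | hC
      · exact hM
      · exact hproper C (Finset.mem_of_mem_erase (Finset.mem_of_mem_erase hC))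
    · obtain ⟨C, hC, hg⟩ := hcov g
      by_cases hCA : C = A
      · exact ⟨M, Finset.mem_insert_self _ _, hAM (hCA ▸ hg)⟩
      by_cases hCB : C = B
      · exact ⟨M, Finset.mem_insert_self _ _, hBM (hCB ▸ hg)⟩
      exact ⟨C, Finset.mem_insert_of_mem (Finset.mem_erase.mpr ⟨hCB, Finset.mem_erase.mpr ⟨hCA, hC⟩⟩), hg⟩
  have huniq : ∀ A ∈ 𝓐, ∀ B ∈ 𝓐, ∀ z : G, z ≠ 1 → (∃ k, z ^ p ^ k = 1) → z ∈ A → z ∈ B → A = B := by
    intro A hA B hB z hz1 ⟨k, hk⟩ hzA hzB
    by_contra hne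
    refine hmerge A hA B hB hne (Subgroup.centralizer {z}) (fun h => hz1 ?_) ?_ ?_
    · rw [Subgroup.centralizer_eq_top_iff_subset, Set.singleton_subset_iff, hZ] at h
      exact h
    · exact fun a ha => Subgroup.mem_centralizer_singleton_iff.mpr (commute_of_mem_nilpotent P hab (hnil A hA) hzA hk ha).symm
    · exact fun a ha => Subgroup.mem_centralizer_singleton_iff.mpr (commute_of_mem_nilpotent P hab (hnil B hB) hzB hk ha).symm
  have hppow : ∀ y ∈ (P : Subgroup G), ∃ k, y ^ p ^ k = 1 := fun y hy => by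
    obtain ⟨k, hk⟩ := P.2 ⟨y, hy⟩
    exact ⟨k, congrArg Subtype.val hk⟩
  have hP1 : (P : Subgroup G) ≠ ⊥ := fun h => hnn (h ▸ inferInstance)
  have hPcard : p ≤ Nat.card (P : Subgroup G) := by
    obtain ⟨n, hn⟩ := P.2.exists_card_eq
    rcases n with _ | n
    · exact absurd (Subgroup.eq_bot_of_card_eq _ (by rw [hn, pow_zero])) hP1
    · rw [hn]; exact Nat.le_self_pow (by omega) p
  -- `P` lies in one member
  obtain ⟨A, hA, hPA⟩ : ∃ A ∈ 𝓐, (P : Subgroup G) ≤ A := by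
    by_cases hel : Cfsg.IsElementaryAbelian p (P : Subgroup G)
    · have hc : Nat.card (P : Subgroup G) = p := le_antisymm (not_lt.mp fun h => hne ⟨hel, h⟩) hPcard
      haveI : IsCyclic (P : Subgroup G) := isCyclic_of_prime_card hc
      obtain ⟨x, hx⟩ := IsCyclic.exists_generator (α := (P : Subgroup G))
      obtain ⟨A, hA, hxA⟩ := hcov x
      refine ⟨A, hA, fun y hy => ?_⟩
      obtain ⟨j, hj⟩ := Subgroup.mem_zpowers_iff.mp (hx ⟨y, hy⟩)
      have h2 : (x : G) ^ j = y := congrArg Subtype.val hj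
      exact h2 ▸ zpow_mem hxA j
    · obtain ⟨x, hxP, hx⟩ : ∃ x ∈ (P : Subgroup G), x ^ p ≠ 1 := by
        by_contra! h
        exact hel ⟨hab, h⟩
      obtain ⟨A, hA, hxA⟩ := hcov x
      refine ⟨A, hA, fun y hy => ?_⟩
      have hsmall : ∀ w ∈ (P : Subgroup G), w ^ p = 1 → w ∈ A := by
        intro w hw hwp
        obtain ⟨B, hB, hxw⟩ := hcov (x * w)
        have hc : Commute x w := congrArg Subtype.val (hab.is_comm.comm (⟨x, hxP⟩ : (P : Subgroup G)) ⟨w, hw⟩)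
        have h1 : x ^ p ∈ B := by
          have := pow_mem hxw p
          rwa [hc.mul_pow, hwp, mul_one] at this
        have := huniq A hA B hB (x ^ p) hx (hppow _ (pow_mem hxP p)) (pow_mem hxA p) h1
        subst this
        simpa using mul_mem (inv_mem hxA) hxw
      by_cases hy1 : y = 1
      · exact hy1 ▸ one_mem A
      obtain ⟨k, hk⟩ := hppow y hy
      obtain ⟨i, -, hi⟩ := (Nat.dvd_prime_pow hpp).mp (orderOf_dvd_of_pow_eq_one hk)
      rcases i with _ | i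
      · exact absurd (orderOf_eq_one_iff.mp (by rw [hi, pow_zero])) hy1
      have hz1 : y ^ p ^ i ≠ 1 := pow_ne_one_of_lt_orderOf (pow_ne_zero _ hpp.ne_zero)
        (by rw [hi]; exact Nat.pow_lt_pow_right hpp.one_lt (by omega))
      have hzp : (y ^ p ^ i) ^ p = 1 := by rw [← pow_mul, ← pow_succ, ← hi, pow_orderOf_eq_one]
      obtain ⟨B, hB, hyB⟩ := hcov y
      exact huniq A hA B hB (y ^ p ^ i) hz1 ⟨1, by rw [pow_one, hzp]⟩ (hsmall _ (pow_mem hy _) hzp) (pow_mem hyB _) ▸ hyB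
  obtain ⟨x, hxP, hx1⟩ : ∃ x ∈ (P : Subgroup G), x ≠ 1 := (Subgroup.bot_or_exists_ne_one _).resolve_left hP1
  obtain ⟨kx, hkx⟩ := hppow x hxP
  -- `p`-elements normalizing a Sylow subgroup lie in it
  have hnorm : ∀ (Q : Sylow p G) (w : G), (∃ k, w ^ p ^ k = 1) → w ∈ Subgroup.normalizer ((Q : Subgroup G) : Set G) →
      w ∈ (Q : Subgroup G) := by
    intro Q w ⟨k, hk⟩ hw
    have hZp : IsPGroup p (Subgroup.zpowers w) := by
      rintro ⟨_, i, rfl⟩
      refine ⟨k, Subtype.ext ?_⟩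
      show (w ^ i) ^ p ^ k = 1
      rw [← zpow_natCast, ← zpow_mul, mul_comm, zpow_mul, zpow_natCast, hk, one_zpow]
    have := Q.3 (Q.2.to_sup_of_normal_left' hZp (Subgroup.zpowers_le.mpr hw)) le_sup_left
    exact this ▸ Subgroup.mem_sup_right (Subgroup.mem_zpowers w)
  have hcen : Subgroup.centralizer ((P : Subgroup G) : Set G) = A := by
    refine le_antisymm (fun y hy => ?_) fun a ha => ?_
    · have hxy : Commute x y := hy x hxP
      by_cases hd : p ∣ orderOf y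
      · obtain ⟨m, hm⟩ := hd
        have hm0 : m ≠ 0 := fun h => by rw [h, mul_zero] at hm; exact (orderOf_pos y).ne' hm
        have hz1 : y ^ m ≠ 1 := pow_ne_one_of_lt_orderOf hm0 (by rw [hm]; nlinarith [hpp.two_le, Nat.pos_of_ne_zero hm0])
        have hzp : (y ^ m) ^ p ^ 1 = 1 := by rw [pow_one, ← pow_mul, mul_comm, ← hm, pow_orderOf_eq_one]
        obtain ⟨B, hB, hyB⟩ := hcov y
        have hzP : y ^ m ∈ (P : Subgroup G) :=
          hnorm P _ ⟨1, hzp⟩ (Subgroup.centralizer_le_normalizer _ (pow_mem hy m))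
        exact huniq A hA B hB (y ^ m) hz1 ⟨1, hzp⟩ (hPA hzP) (pow_mem hyB m) ▸ hyB
      · obtain ⟨B, hB, hxyB⟩ := hcov (x * y)
        have hz1 : x ^ orderOf y ≠ 1 := fun h => hx1 (orderOf_eq_one_iff.mp (Nat.eq_one_of_dvd_coprimes
          (((hpp.coprime_iff_not_dvd).mpr hd).pow_left kx) (orderOf_dvd_of_pow_eq_one hkx) (orderOf_dvd_of_pow_eq_one h)))
        have h1 : x ^ orderOf y ∈ B := by
          have := pow_mem hxyB (orderOf y)
          rwa [hxy.mul_pow, pow_orderOf_eq_one, mul_one] at this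
        have := huniq A hA B hB _ hz1 (hppow _ (pow_mem hxP _)) (hPA (pow_mem hxP _)) h1
        subst this
        simpa using mul_mem (inv_mem (hPA hxP)) hxyB
    · intro q hq
      obtain ⟨k, hk⟩ := hppow q hq
      exact commute_of_mem_nilpotent P hab (hnil A hA) (hPA hq) hk ha
  exact ⟨A, hA, hPA, hcen, fun B hB z hz hz1 hzB => huniq B hB A hA z hz1 (hppow z hz) hzB (hPA hz)⟩

/-- The structure forced by a nilpotent minimal cover. -/
theorem cover_structure (hZ : Subgroup.center G = ⊥) (𝓐 : Finset (Subgroup G))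
    (h𝓐 : ((∀ A ∈ 𝓐, A ≠ ⊤) ∧ (∀ g : G, ∃ A ∈ 𝓐, g ∈ A)) ∧ (∀ 𝓑 : Finset (Subgroup G), (∀ A ∈ 𝓑, A ≠ ⊤) ∧ (∀ g : G, ∃ A ∈ 𝓑, g ∈ A) → 𝓐.card ≤ 𝓑.card) ∧ (∀ A ∈ 𝓐, Group.IsNilpotent ↥A))
    {p : ℕ} [Fact p.Prime] (P : Sylow p G) (hab : IsMulCommutative ↥(P : Subgroup G)) (hnn : ¬ (P : Subgroup G).Normal)
    (hne : ¬ (Cfsg.IsElementaryAbelian p (P : Subgroup G) ∧ p < Nat.card ↥(P : Subgroup G))) :
    ∃ A ∈ 𝓐, (P : Subgroup G) ≤ A ∧ Subgroup.centralizer ((P : Subgroup G) : Set G) = A ∧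
      IsCoatom (Subgroup.normalizer ((P : Subgroup G) : Set G)) ∧
      (∀ g : G, g ∉ Subgroup.normalizer ((P : Subgroup G) : Set G) →
        ¬ p ∣ Nat.card ↥(Subgroup.normalizer ((P : Subgroup G) : Set G) ⊓
          (Subgroup.normalizer ((P : Subgroup G) : Set G)).map (MulAut.conj g).toMonoidHom)) ∧
      ∀ M : Subgroup G, IsCoatom M → A ≤ M → M = Subgroup.normalizer ((P : Subgroup G) : Set G) := by
  classical
  have hpp : p.Prime := Fact.out
  obtain ⟨A, hA, hPA, hcen, huniq⟩ := member_centralizer hZ 𝓐 h𝓐 P hab hnn hne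
  have hP1 : (P : Subgroup G) ≠ ⊥ := fun h => hnn (h ▸ inferInstance)
  obtain ⟨x, hxP, hx1⟩ : ∃ x ∈ (P : Subgroup G), x ≠ 1 := (Subgroup.bot_or_exists_ne_one _).resolve_left hP1
  set N := Subgroup.normalizer ((P : Subgroup G) : Set G) with hN
  have hAN : A ≤ N := hcen ▸ Subgroup.centralizer_le_normalizer _
  have hNtop : N ≠ ⊤ := fun h => hnn (Subgroup.normalizer_eq_top_iff.mp h)
  -- conjugates of `P`
  have hconj : ∀ g : G, ∃ B ∈ 𝓐, (∀ q ∈ (P : Subgroup G), g * q * g⁻¹ ∈ B) ∧ (∀ b ∈ B, g⁻¹ * b * g ∈ A) ∧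
      (∀ C ∈ 𝓐, ∀ z ∈ (P : Subgroup G), z ≠ 1 → g * z * g⁻¹ ∈ C → C = B) ∧ (g ∉ N → B ≠ A) := by
    intro g
    have hmem : ∀ q, q ∈ ((g • P : Sylow p G) : Subgroup G) ↔ g⁻¹ * q * g ∈ (P : Subgroup G) := by
      intro q
      rw [Sylow.coe_subgroup_smul, Subgroup.mem_pointwise_smul_iff_inv_smul_mem]
      simp [MulAut.smul_def]
    have hmem' : ∀ q ∈ (P : Subgroup G), g * q * g⁻¹ ∈ ((g • P : Sylow p G) : Subgroup G) := fun q hq =>
      (hmem _).mpr (by simpa [mul_assoc] using hq)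
    have hab' : IsMulCommutative ↥((g • P : Sylow p G) : Subgroup G) := ⟨⟨fun ⟨u, hu⟩ ⟨v, hv⟩ => Subtype.ext (by
      have := congrArg Subtype.val (hab.is_comm.comm ⟨_, (hmem u).mp hu⟩ ⟨_, (hmem v).mp hv⟩)
      calc u * v = g * ((g⁻¹ * u * g) * (g⁻¹ * v * g)) * g⁻¹ := by group
        _ = g * ((g⁻¹ * v * g) * (g⁻¹ * u * g)) * g⁻¹ := by rw [show (g⁻¹ * u * g) * (g⁻¹ * v * g) = (g⁻¹ * v * g) * (g⁻¹ * u * g) from this]
        _ = v * u := by group)⟩⟩
    obtain ⟨B, hB, hPB, hcenB, huB⟩ := member_centralizer hZ 𝓐 h𝓐 (g • P) hab'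
      (fun h => hnn (by
        refine ⟨fun q hq r => ?_⟩
        have h1 := h.conj_mem _ (hmem' q hq) (g * r * g⁻¹)
        simpa [mul_assoc] using (hmem _).mp h1))
      (fun ⟨hel, hlt⟩ => hne ⟨⟨hab, fun q hq => conj_eq_one_iff.mp (by rw [← conj_pow]; exact hel.2 _ (hmem' q hq))⟩,
        by rwa [Sylow.card_eq_multiplicity, ← Sylow.card_eq_multiplicity P] at hlt⟩)
    refine ⟨B, hB, fun q hq => hPB (hmem' q hq), fun b hb => ?_,
      fun C hC z hz hz1 hzC => huB C hC _ (hmem' z hz) (fun h => hz1 (conj_eq_one_iff.mp h)) hzC, fun hg hBA => hg ?_⟩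
    · rw [← hcen]
      intro q hq
      rw [← hcenB] at hb
      have := hb _ (hmem' q hq)
      calc q * (g⁻¹ * b * g) = g⁻¹ * ((g * q * g⁻¹) * b) * g := by group
        _ = g⁻¹ * (b * (g * q * g⁻¹)) * g := by rw [this]
        _ = _ := by group
    · subst hBA
      have hle : ((g • P : Sylow p G) : Subgroup G) ≤ N := hPB.trans hAN
      refine Sylow.smul_eq_iff_mem_normalizer.mp ?_
      obtain ⟨y, hy⟩ := MulAction.exists_smul_eq N (P.subtype Subgroup.le_normalizer) ((g • P).subtype hle)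
      rw [Sylow.smul_subtype] at hy
      rw [← Sylow.subtype_injective hy]
      exact Sylow.smul_eq_iff_mem_normalizer.mpr y.2
  have hover : ∀ M : Subgroup G, M ≠ ⊤ → A ≤ M → M ≤ N := by
    intro M hM hAM m hm
    by_contra hmN
    obtain ⟨B, hB, -, hBA, -, hne'⟩ := hconj m
    have hBM : B ≤ M := fun b hb => by
      have := mul_mem (mul_mem hm (hAM (hBA b hb))) (inv_mem hm)
      simpa [mul_assoc] using this
    obtain ⟨⟨hproper, hcov⟩, hmin, -⟩ := h𝓐
    have h1 := hmin (insert M ((𝓐.erase A).erase B)) ⟨fun C hC => ?_, fun g => ?_⟩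
    · have hne2 := hne' hmN
      have h2 := Finset.card_insert_le M ((𝓐.erase A).erase B)
      rw [Finset.card_erase_of_mem (Finset.mem_erase.mpr ⟨hne2, hB⟩), Finset.card_erase_of_mem hA] at h2
      have h3 : 2 ≤ 𝓐.card := Finset.one_lt_card.mpr ⟨A, hA, B, hB, hne2.symm⟩
      omega
    · rcases Finset.mem_insert.mp hC with rfl | hC
      · exact hM
      · exact hproper C (Finset.mem_of_mem_erase (Finset.mem_of_mem_erase hC))
    · obtain ⟨C, hC, hg⟩ := hcov g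
      by_cases hCA : C = A
      · exact ⟨M, Finset.mem_insert_self _ _, hAM (hCA ▸ hg)⟩
      by_cases hCB : C = B
      · exact ⟨M, Finset.mem_insert_self _ _, hBM (hCB ▸ hg)⟩
      exact ⟨C, Finset.mem_insert_of_mem (Finset.mem_erase.mpr ⟨hCB, Finset.mem_erase.mpr ⟨hCA, hC⟩⟩), hg⟩
  have hco : IsCoatom N := ⟨hNtop, fun M hM => by
    by_contra hMt
    exact absurd (hover M hMt (hAN.trans hM.le)) (not_le_of_gt hM)⟩
  refine ⟨A, hA, hPA, hcen, hco, fun g hg hdvd => ?_, fun M hM hAM => ?_⟩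
  · obtain ⟨z, hz⟩ := exists_prime_orderOf_dvd_card' p hdvd
    rw [← Subgroup.orderOf_coe] at hz
    obtain ⟨hzN, w, hw, hwz⟩ := z.2
    change g * w * g⁻¹ = (z : G) at hwz
    have hmemP : ∀ u ∈ N, u ^ p = 1 → u ∈ (P : Subgroup G) := by
      intro u hu hup
      have hU : IsPGroup p (Subgroup.zpowers u) := by
        rintro ⟨_, i, rfl⟩
        refine ⟨1, Subtype.ext ?_⟩
        show (u ^ i) ^ p ^ 1 = 1
        rw [pow_one, ← zpow_natCast, ← zpow_mul, mul_comm, zpow_mul, zpow_natCast, hup, one_zpow]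
      exact P.3 (P.2.to_sup_of_normal_left' hU (Subgroup.zpowers_le.mpr hu)) le_sup_left ▸
        Subgroup.mem_sup_right (Subgroup.mem_zpowers u)
    have hzp : (z : G) ^ p = 1 := hz ▸ pow_orderOf_eq_one _
    have hz1 : (z : G) ≠ 1 := fun h => by rw [h, orderOf_one] at hz; exact hpp.one_lt.ne hz
    have hwp : w ^ p = 1 := conj_eq_one_iff.mp (by rw [← conj_pow, hwz, hzp])
    obtain ⟨B, hB, -, -, huB, hne'⟩ := hconj g
    exact hne' hg (huB A hA w (hmemP w hw hwp) (fun h => hz1 (by rw [← hwz, h, mul_one, mul_inv_cancel]))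
      (hwz.symm ▸ hPA (hmemP _ hzN hzp))).symm
  · rcases lt_or_eq_of_le (hover M hM.1 hAM) with h | h
    · exact absurd (hM.2 N h) hNtop
    · exact h

/-- A cover of a group is a finite set of proper subgroups whose union is the whole group; it is minimal when no cover has fewer members, and nilpotent when all its members are nilpotent. Let G be a finite group with trivial center admitting a nilpotent minimal cover 𝓐, and let P be an abelian Sylow p-subgroup of G that is not normal. Then either P is elementary abelian of order greater than p, or P is a Sylow p-subgroup of some member A of 𝓐, the normalizer N of P is a maximal subgroup of G, N meets each of its conjugates by elements outside N in a subgroup of order prime to p, and the centralizer of P equals A. -/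
theorem result {G : Type*} [Group G] [Finite G] (hZ : Subgroup.center G = ⊥) (𝓐 : Finset (Subgroup G))
    (h𝓐 : ((∀ A ∈ 𝓐, A ≠ ⊤) ∧ (∀ g : G, ∃ A ∈ 𝓐, g ∈ A)) ∧ (∀ 𝓑 : Finset (Subgroup G), (∀ A ∈ 𝓑, A ≠ ⊤) ∧ (∀ g : G, ∃ A ∈ 𝓑, g ∈ A) → 𝓐.card ≤ 𝓑.card) ∧ (∀ A ∈ 𝓐, Group.IsNilpotent ↥A)) {p : ℕ} [Fact p.Prime] (P : Sylow p G) (hab : IsMulCommutative ↥(P : Subgroup G))
    (hnn : ¬ (P : Subgroup G).Normal) :
    (Cfsg.IsElementaryAbelian p (P : Subgroup G) ∧ p < Nat.card ↥(P : Subgroup G)) ∨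
    (∃ A ∈ 𝓐, (P : Subgroup G) ≤ A ∧ ¬ p ∣ ((P : Subgroup G).subgroupOf A).index ∧
      IsCoatom (Subgroup.normalizer ((P : Subgroup G) : Set G)) ∧
      (∀ g : G, g ∉ Subgroup.normalizer ((P : Subgroup G) : Set G) →
        ¬ p ∣ Nat.card ↥(Subgroup.normalizer ((P : Subgroup G) : Set G) ⊓
          (Subgroup.normalizer ((P : Subgroup G) : Set G)).map (MulAut.conj g).toMonoidHom)) ∧
      Subgroup.centralizer ((P : Subgroup G) : Set G) = A) := by
  by_cases hel : Cfsg.IsElementaryAbelian p (P : Subgroup G) ∧ p < Nat.card ↥(P : Subgroup G)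
  · exact Or.inl hel
  obtain ⟨A, hA, hPA, hcen, hco, hint, -⟩ := cover_structure hZ 𝓐 h𝓐 P hab hnn hel
  exact Or.inr ⟨A, hA, hPA,
    fun h => P.not_dvd_index (h.trans (Subgroup.relIndex_dvd_index_of_le hPA)), hco, hint, hcen⟩

end Cfsg.Agent.S3890
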