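import Cfsg.Statements.S3892

set_option autoImplicit false
set_option linter.style.haveILetI false
open Cfsg Equiv
open scoped Pointwise

namespace Cfsg.Agent.S3892

/-- An element of prime order generating a subgroup normalized by a nilpotent group is centralized. -/
theorem comm_of_nilpotent {A : Type*} [Group A] [Group.IsNilpotent A] {p : ℕ} (hp : p.Prime) {x : A}
    (hx : orderOf x = p) (hn : ∀ a : A, a * x * a⁻¹ ∈ Subgroup.zpowers x) (a : A) : a * x = x * a := by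
  by_contra hne
  obtain ⟨c, hc⟩ : ∃ c, c = x * a * x⁻¹ * a⁻¹ := ⟨_, rfl⟩
  have hc1 : c ≠ 1 := fun e => hne (by
    rw [hc, mul_inv_eq_one, mul_inv_eq_iff_eq_mul] at e
    exact e.symm)
  have hcx : c ∈ Subgroup.zpowers x := by
    rw [show c = x * (a * x * a⁻¹)⁻¹ by rw [hc]; group]
    exact mul_mem (Subgroup.mem_zpowers x) (inv_mem (hn a))
  have hxc : x ∈ Subgroup.zpowers c := by
    have hle : Subgroup.zpowers c ≤ Subgroup.zpowers x := Subgroup.zpowers_le.mpr hcx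
    have hfin : Finite (Subgroup.zpowers x) := Nat.finite_of_card_ne_zero (by
      rw [Nat.card_zpowers, hx]; exact hp.ne_zero)
    have hd : orderOf c ∣ p := by
      have := Subgroup.card_dvd_of_le hle
      rwa [Nat.card_zpowers, Nat.card_zpowers, hx] at this
    rw [Subgroup.eq_of_le_of_card_ge hle (by
      rw [Nat.card_zpowers, Nat.card_zpowers, hx,
        (hp.eq_one_or_self_of_dvd _ hd).resolve_left fun e => hc1 (orderOf_eq_one_iff.mp e)])]
    exact Subgroup.mem_zpowers x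
  have hall : ∀ k, x ∈ (⊤ : Subgroup A).lowerCentralSeries k := by
    intro k
    induction k with
    | zero => exact Subgroup.mem_top x
    | succ k ih =>
      refine Subgroup.zpowers_le.mpr ?_ hxc
      rw [Subgroup.mem_lowerCentralSeries_succ_iff]
      exact Subgroup.subset_closure ⟨x, ih, a, Subgroup.mem_top a, by rw [commutatorElement_def, hc]⟩
  obtain ⟨k, hk⟩ := Subgroup.nilpotent_iff_lowerCentralSeries.mp (inferInstance : Group.IsNilpotent A)
  have := hall k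
  rw [hk, Subgroup.mem_bot] at this
  rw [this, orderOf_one] at hx
  exact hp.one_lt.ne hx

/-- A subgroup with two Sylow subgroups of prime order and their centralizers forbids nilpotent minimal covers. -/
theorem no_cover {G : Type*} [Group G] [Finite G] {p : ℕ} (hp : p.Prime) (hp2 : ¬ p ^ 2 ∣ Nat.card G)
    {x y : G} (hx : orderOf x = p) (hy : orderOf y = p) (hxy : x * y ≠ y * x)
    (M : Subgroup G) (hM : M ≠ ⊤) (hCx : ∀ g, g * x = x * g → g ∈ M) (hCy : ∀ g, g * y = y * g → g ∈ M) :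
    ¬ ∃ 𝓐 : Finset (Subgroup G), ((∀ A ∈ 𝓐, A ≠ ⊤) ∧ (∀ g : G, ∃ A ∈ 𝓐, g ∈ A)) ∧
      (∀ 𝓑 : Finset (Subgroup G), (∀ A ∈ 𝓑, A ≠ ⊤) ∧ (∀ g : G, ∃ A ∈ 𝓑, g ∈ A) → 𝓐.card ≤ 𝓑.card) ∧
      (∀ A ∈ 𝓐, Group.IsNilpotent ↥A) := by
  classical
  rintro ⟨𝓐, ⟨hprop, hcov⟩, hmin, hnil⟩
  haveI : Fact p.Prime := ⟨hp⟩
  -- in a nilpotent member an element of order `p` is central
  have hcen : ∀ A ∈ 𝓐, ∀ z : G, orderOf z = p → z ∈ A → ∀ a ∈ A, a * z = z * a := by
    intro A hA z hz hzA a ha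
    haveI := hnil A hA
    have hz' : orderOf (⟨z, hzA⟩ : A) = p := by rw [← Subgroup.orderOf_coe]; exact hz
    obtain ⟨S, hS⟩ := IsPGroup.exists_le_sylow (IsPGroup.of_card (n := 1)
      (show Nat.card (Subgroup.zpowers (⟨z, hzA⟩ : A)) = p ^ 1 by rw [Nat.card_zpowers, hz', pow_one]))
    have hSeq : Subgroup.zpowers (⟨z, hzA⟩ : A) = (S : Subgroup A) := by
      refine Subgroup.eq_of_le_of_card_ge hS ?_
      rw [Nat.card_zpowers, hz']
      obtain ⟨k, hk⟩ := IsPGroup.iff_card.mp S.isPGroup'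
      rw [hk]
      rcases Nat.lt_or_ge k 2 with h | h
      · calc p ^ k ≤ p ^ 1 := Nat.pow_le_pow_right hp.pos (by omega)
          _ = p := pow_one p
      · exact absurd ((pow_dvd_pow p h).trans (hk ▸ (Subgroup.card_subgroup_dvd_card _).trans
          (Subgroup.card_subgroup_dvd_card A))) hp2
    haveI : (S : Subgroup A).Normal :=
      Sylow.normal_of_normalizerCondition normalizerCondition_of_isNilpotent S
    have h := comm_of_nilpotent hp hz' (fun b => by
      rw [hSeq]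
      exact Subgroup.Normal.conj_mem inferInstance _ (hSeq ▸ Subgroup.mem_zpowers _) b) ⟨a, ha⟩
    exact congrArg Subtype.val h
  obtain ⟨A, hA, hxA⟩ := hcov x
  obtain ⟨B, hB, hyB⟩ := hcov y
  have hAM : A ≤ M := fun a ha => hCx a (hcen A hA x hx hxA a ha)
  have hBM : B ≤ M := fun a ha => hCy a (hcen B hB y hy hyB a ha)
  have hAB : A ≠ B := fun e => hxy (hcen A hA y hy (e ▸ hyB) x hxA)
  have h := hmin (insert M ((𝓐.erase A).erase B)) ⟨fun C hC => ?_, fun g => ?_⟩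
  · have h1 := Finset.card_insert_le M ((𝓐.erase A).erase B)
    have h2 : ((𝓐.erase A).erase B).card + 1 = (𝓐.erase A).card :=
      Finset.card_erase_add_one (Finset.mem_erase.mpr ⟨hAB.symm, hB⟩)
    have h3 := Finset.card_erase_add_one hA
    omega
  · rcases Finset.mem_insert.mp hC with rfl | hC
    · exact hM
    · exact hprop C (Finset.mem_of_mem_erase (Finset.mem_of_mem_erase hC))
  · obtain ⟨C, hC, hgC⟩ := hcov g
    by_cases hCA : C = A
    · exact ⟨M, Finset.mem_insert_self _ _, hAM (hCA ▸ hgC)⟩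
    by_cases hCB : C = B
    · exact ⟨M, Finset.mem_insert_self _ _, hBM (hCB ▸ hgC)⟩
    exact ⟨C, Finset.mem_insert_of_mem (Finset.mem_erase.mpr ⟨hCB, Finset.mem_erase.mpr ⟨hCA, hC⟩⟩), hgC⟩

/-- The case of degree at least six. -/
theorem big {n : ℕ} (hn : 6 ≤ n) {G : Type*} [Group G] [Finite G] (f : G →* Perm (Fin n))
    (hf : Function.Injective f) (halt : ∀ σ ∈ alternatingGroup (Fin n), ∃ g, f g = σ) :
    ¬ ∃ 𝓐 : Finset (Subgroup G), ((∀ A ∈ 𝓐, A ≠ ⊤) ∧ (∀ g : G, ∃ A ∈ 𝓐, g ∈ A)) ∧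
      (∀ 𝓑 : Finset (Subgroup G), (∀ A ∈ 𝓑, A ≠ ⊤) ∧ (∀ g : G, ∃ A ∈ 𝓑, g ∈ A) → 𝓐.card ≤ 𝓑.card) ∧
      (∀ A ∈ 𝓐, Group.IsNilpotent ↥A) := by
  classical
  obtain ⟨p, hp, hp1, hp2⟩ := Nat.exists_prime_lt_and_le_two_mul (n / 2) (by omega)
  haveI : Fact p.Prime := ⟨hp⟩
  have hpn : p < n := by
    rcases (show p ≤ n by omega).lt_or_eq with h | h
    · exact h
    · exfalso
      rcases hp.eq_two_or_odd with e | e <;> omega
  have hp5 : 5 ≤ p := by
    rcases (show 4 ≤ p by omega).lt_or_eq with h | h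
    · exact h
    · exact absurd (h ▸ hp) (by norm_num)
  have h2p : n < 2 * p := by omega
  -- a cycle
  obtain ⟨σ, hσ⟩ := exists_prime_orderOf_dvd_card p (G := Perm (Fin n))
    (by rw [Fintype.card_perm, Fintype.card_fin]; exact Nat.dvd_factorial hp.pos hpn.le)
  have hcyc : σ.IsCycle := Perm.isCycle_of_prime_order' (hσ ▸ hp) (by rw [hσ, Fintype.card_fin]; exact h2p)
  have hsupp : σ.support.card = p := by rw [← hcyc.orderOf, hσ]
  obtain ⟨a, ha⟩ : σ.support.Nonempty := Finset.card_pos.mp (by rw [hsupp]; exact hp.pos)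
  have hpow : ∀ k : ℕ, (σ ^ k) a = a ↔ p ∣ k := fun k => by
    rw [← hσ, orderOf_dvd_iff_pow_eq_one]
    exact (hcyc.pow_eq_one_iff' (Perm.mem_support.mp ha)).symm
  have hne : ∀ i j : ℕ, i < j → j < i + p → (σ ^ i) a ≠ (σ ^ j) a := fun i j hij hj e => by
    rw [show j = i + (j - i) by omega, pow_add, Perm.mul_apply] at e
    have := Nat.le_of_dvd (by omega) ((hpow (j - i)).mp ((σ ^ i).injective e).symm)
    omega
  have hs : ∀ k : ℕ, (σ ^ k) a ∈ σ.support := fun k => Perm.pow_apply_mem_support.mpr ha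
  let t : Perm (Fin n) := swap a (σ a) * swap ((σ ^ 2) a) ((σ ^ 3) a)
  have n01 : a ≠ σ a := by simpa using hne 0 1 one_pos (by omega)
  have n23 : (σ ^ 2) a ≠ (σ ^ 3) a := hne 2 3 (by omega) (by omega)
  have n02 : a ≠ (σ ^ 2) a := by simpa using hne 0 2 two_pos (by omega)
  have n03 : a ≠ (σ ^ 3) a := by simpa using hne 0 3 (by norm_num) (by omega)
  have n12 : σ a ≠ (σ ^ 2) a := by simpa using hne 1 2 (by omega) (by omega)
  have n13 : σ a ≠ (σ ^ 3) a := by simpa using hne 1 3 (by omega) (by omega)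
  have htt : t.support ⊆ σ.support := by
    intro z hz
    by_contra hzs
    refine (Perm.mem_support.mp hz) ?_
    have hne' : ∀ k : ℕ, z ≠ (σ ^ k) a := fun k e => hzs (e ▸ hs k)
    have h0 : z ≠ a := fun e => hzs (e ▸ ha)
    have h1 : z ≠ σ a := by simpa using hne' 1
    simp only [t, Perm.mul_apply]
    rw [swap_apply_of_ne_of_ne (hne' 2) (hne' 3), swap_apply_of_ne_of_ne h0 h1]
  have hsigt : Perm.sign t = 1 := by
    simp only [t, map_mul, Perm.sign_swap n01, Perm.sign_swap n23]; decide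
  have hsigσ : Perm.sign σ = 1 := by
    rw [hcyc.sign, hsupp, Odd.neg_one_pow (hp.odd_of_ne_two (by omega)), neg_neg]
  obtain ⟨x, hx⟩ := halt σ (Perm.mem_alternatingGroup.mpr hsigσ)
  obtain ⟨g, hg⟩ := halt t (Perm.mem_alternatingGroup.mpr hsigt)
  have hxo : orderOf x = p := by rw [← orderOf_injective f hf x, hx, hσ]
  have hyo : orderOf (g * x * g⁻¹) = p := by
    rw [show g * x * g⁻¹ = MulAut.conj g x from rfl, MulEquiv.orderOf_eq, hxo]
  -- the stabiliser of the support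
  let M : Subgroup G := (MulAction.stabilizer (Perm (Fin n)) (σ.support : Set (Fin n))).comap f
  have hmemM : ∀ u : G, u ∈ M ↔ ∀ z, z ∈ σ.support → f u z ∈ σ.support := by
    intro u
    show f u ∈ MulAction.stabilizer (Perm (Fin n)) (σ.support : Set (Fin n)) ↔ _
    rw [MulAction.mem_stabilizer_set' (Finset.finite_toSet _)]
    rfl
  have hgM : g ∈ M := (hmemM g).mpr fun z hz => by
    rw [hg]
    by_cases hzt : z ∈ t.support
    · exact htt (Perm.apply_mem_support.mpr hzt)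
    · rwa [Perm.notMem_support.mp hzt]
  have hCx : ∀ u, u * x = x * u → u ∈ M := fun u hu => (hmemM u).mpr fun z hz => by
    have e := congrArg f hu
    rw [map_mul, map_mul, hx] at e
    rw [Perm.mem_support] at hz ⊢
    intro hfix
    refine hz ((f u).injective ?_)
    rw [← Perm.mul_apply, e, Perm.mul_apply, hfix]
  refine no_cover hp ?_ hxo hyo ?_ M ?_ hCx ?_
  · intro h
    have h' : p ^ 2 ∣ n.factorial := by
      refine h.trans ?_
      rw [show n.factorial = Nat.card (Perm (Fin n)) by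
        rw [Nat.card_eq_fintype_card, Fintype.card_perm, Fintype.card_fin]]
      exact Subgroup.card_dvd_of_injective f hf
    rw [hp.pow_dvd_factorial_iff (b := 2) (Nat.log_lt_of_lt_pow (by omega) (by nlinarith : n < p ^ 2)),
      Finset.sum_Ico_eq_sum_range, show (2 : ℕ) - 1 = 1 from rfl, Finset.sum_range_one,
      show n / p ^ (1 + 0) = 1 from by
        rw [pow_one]; exact Nat.div_eq_of_lt_le (by omega) (by omega)] at h'
    omega
  · intro e
    have e' := congrArg f e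
    simp only [map_mul, map_inv, hx, hg] at e'
    have t0 : t a = σ a := by
      simp only [t, Perm.mul_apply]; rw [swap_apply_of_ne_of_ne n02 n03, swap_apply_left]
    have t1 : t (σ a) = a := by
      simp only [t, Perm.mul_apply]; rw [swap_apply_of_ne_of_ne n12 n13, swap_apply_right]
    have t3 : t ((σ ^ 3) a) = (σ ^ 2) a := by
      simp only [t, Perm.mul_apply]; rw [swap_apply_right, swap_apply_of_ne_of_ne n02.symm n12.symm]
    have i1 : t⁻¹ (σ a) = a := Perm.inv_eq_iff_eq.mpr t0.symm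
    have i2 : t⁻¹ ((σ ^ 2) a) = (σ ^ 3) a := Perm.inv_eq_iff_eq.mpr t3.symm
    have n40 : (σ ^ 4) a ≠ a := fun h => by
      have := Nat.le_of_dvd (by norm_num) ((hpow 4).mp h)
      omega
    have n41 : (σ ^ 4) a ≠ σ a := by simpa using (hne 1 4 (by omega) (by omega)).symm
    have n42 : (σ ^ 4) a ≠ (σ ^ 2) a := (hne 2 4 (by omega) (by omega)).symm
    have n43 : (σ ^ 4) a ≠ (σ ^ 3) a := (hne 3 4 (by omega) (by omega)).symm
    have t4 : t ((σ ^ 4) a) = (σ ^ 4) a := by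
      simp only [t, Perm.mul_apply]
      rw [swap_apply_of_ne_of_ne n42 n43, swap_apply_of_ne_of_ne n40 n41]
    have e0 : σ (t (σ (t⁻¹ (σ a)))) = t (σ (t⁻¹ (σ (σ a)))) := by
      have := congrArg (fun P : Perm (Fin n) => P (σ a)) e'
      simpa only [Perm.mul_apply] using this
    rw [i1, t1, show σ (σ a) = (σ ^ 2) a by rw [pow_two, Perm.mul_apply], i2,
      show σ ((σ ^ 3) a) = (σ ^ 4) a by rw [pow_succ' σ 3, Perm.mul_apply], t4] at e0
    exact n41 e0.symm
  · intro htop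
    obtain ⟨w, hw⟩ : ∃ w, w ∉ σ.support := by
      by_contra hall
      push Not at hall
      rw [Finset.eq_univ_iff_forall.mpr hall, Finset.card_univ, Fintype.card_fin] at hsupp
      omega
    have hwa : w ≠ a := fun e => hw (e ▸ ha)
    obtain ⟨u, hu⟩ := halt (swap a w * swap (σ a) ((σ ^ 2) a)) (Perm.mem_alternatingGroup.mpr (by
      rw [map_mul, Perm.sign_swap hwa.symm, Perm.sign_swap n12]; decide))
    have := (hmemM u).mp (htop ▸ Subgroup.mem_top u) a ha
    rw [hu, Perm.mul_apply, swap_apply_of_ne_of_ne n01 n02, swap_apply_left] at this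
    exact hw this
  · intro u hu
    have h1 : g⁻¹ * u * g ∈ M := hCx _ (by
      calc g⁻¹ * u * g * x = g⁻¹ * (u * (g * x * g⁻¹)) * g := by group
        _ = g⁻¹ * (g * x * g⁻¹ * u) * g := by rw [hu]
        _ = x * (g⁻¹ * u * g) := by group)
    rw [show u = g * (g⁻¹ * u * g) * g⁻¹ by group]
    exact mul_mem (mul_mem hgM h1) (inv_mem hgM)

/-- The case of the symmetric group of degree four. -/
theorem four : ¬ ∃ 𝓐 : Finset (Subgroup (Perm (Fin 4))), ((∀ A ∈ 𝓐, A ≠ ⊤) ∧ (∀ g, ∃ A ∈ 𝓐, g ∈ A)) ∧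
    (∀ 𝓑 : Finset (Subgroup (Perm (Fin 4))), (∀ A ∈ 𝓑, A ≠ ⊤) ∧ (∀ g, ∃ A ∈ 𝓑, g ∈ A) → 𝓐.card ≤ 𝓑.card) ∧
    (∀ A ∈ 𝓐, Group.IsNilpotent ↥A) :=
  no_cover Nat.prime_three (by rw [Nat.card_eq_fintype_card, Fintype.card_perm, Fintype.card_fin]; decide)
    (x := swap 0 1 * swap 1 2) (y := swap 0 1 * swap 1 3)
    (orderOf_eq_prime (by decide) (by decide)) (orderOf_eq_prime (by decide) (by decide)) (by decide)
    (alternatingGroup (Fin 4))
    (fun e => absurd (Perm.mem_alternatingGroup.mp (e ▸ Subgroup.mem_top (swap (0 : Fin 4) 1))) (by decide))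
    (fun g hg => Perm.mem_alternatingGroup.mpr ((by decide +kernel : ∀ g : Perm (Fin 4),
      g * (swap 0 1 * swap 1 2) = swap 0 1 * swap 1 2 * g → Perm.sign g = 1) g hg))
    (fun g hg => Perm.mem_alternatingGroup.mpr ((by decide +kernel : ∀ g : Perm (Fin 4),
      g * (swap 0 1 * swap 1 3) = swap 0 1 * swap 1 3 * g → Perm.sign g = 1) g hg))

/-- The case of the symmetric group of degree five. -/
theorem five : ¬ ∃ 𝓐 : Finset (Subgroup (Perm (Fin 5))), ((∀ A ∈ 𝓐, A ≠ ⊤) ∧ (∀ g, ∃ A ∈ 𝓐, g ∈ A)) ∧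
    (∀ 𝓑 : Finset (Subgroup (Perm (Fin 5))), (∀ A ∈ 𝓑, A ≠ ⊤) ∧ (∀ g, ∃ A ∈ 𝓑, g ∈ A) → 𝓐.card ≤ 𝓑.card) ∧
    (∀ A ∈ 𝓐, Group.IsNilpotent ↥A) := by
  refine no_cover (p := 5) (by norm_num)
    (by rw [Nat.card_eq_fintype_card, Fintype.card_perm, Fintype.card_fin]; decide)
    (x := swap 0 1 * swap 1 2 * swap 2 3 * swap 3 4) (y := swap 0 1 * swap 1 3 * swap 3 2 * swap 2 4)
    (orderOf_eq_prime (hp := ⟨by norm_num⟩) (by decide) (by decide))
    (orderOf_eq_prime (hp := ⟨by norm_num⟩) (by decide) (by decide)) (by decide)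
    (alternatingGroup (Fin 5))
    (fun e => absurd (Perm.mem_alternatingGroup.mp (e ▸ Subgroup.mem_top (swap (0 : Fin 5) 1))) (by decide))
    ?_ ?_
  · exact fun g hg => Perm.mem_alternatingGroup.mpr ((by decide +kernel : ∀ g : Perm (Fin 5),
      g * (swap 0 1 * swap 1 2 * swap 2 3 * swap 3 4) = swap 0 1 * swap 1 2 * swap 2 3 * swap 3 4 * g →
        Perm.sign g = 1) g hg)
  · exact fun g hg => Perm.mem_alternatingGroup.mpr ((by decide +kernel : ∀ g : Perm (Fin 5),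
      g * (swap 0 1 * swap 1 3 * swap 3 2 * swap 2 4) = swap 0 1 * swap 1 3 * swap 3 2 * swap 2 4 * g →
        Perm.sign g = 1) g hg)

/-- The case of the alternating group of degree five. -/
theorem fiveAlt : ¬ ∃ 𝓐 : Finset (Subgroup (alternatingGroup (Fin 5))), ((∀ A ∈ 𝓐, A ≠ ⊤) ∧ (∀ g, ∃ A ∈ 𝓐, g ∈ A)) ∧
    (∀ 𝓑 : Finset (Subgroup (alternatingGroup (Fin 5))), (∀ A ∈ 𝓑, A ≠ ⊤) ∧ (∀ g, ∃ A ∈ 𝓑, g ∈ A) → 𝓐.card ≤ 𝓑.card) ∧
    (∀ A ∈ 𝓐, Group.IsNilpotent ↥A) := by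
  let x : alternatingGroup (Fin 5) := ⟨swap 0 1 * swap 1 2, Perm.mem_alternatingGroup.mpr (by decide)⟩
  let y : alternatingGroup (Fin 5) := ⟨swap 0 1 * swap 1 3, Perm.mem_alternatingGroup.mpr (by decide)⟩
  let M : Subgroup (alternatingGroup (Fin 5)) :=
    (MulAction.stabilizer (Perm (Fin 5)) (4 : Fin 5)).comap (alternatingGroup (Fin 5)).subtype
  refine no_cover Nat.prime_three ?_ (x := x) (y := y) ?_ ?_ ?_ M ?_ ?_ ?_
  · rw [nat_card_alternatingGroup, Nat.card_fin]; decide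
  · rw [← Subgroup.orderOf_coe]; exact orderOf_eq_prime (by decide) (by decide)
  · rw [← Subgroup.orderOf_coe]; exact orderOf_eq_prime (by decide) (by decide)
  · exact fun e => absurd (congrArg Subtype.val e) (by decide)
  · intro e
    have h : (⟨swap 0 1 * swap 1 4, Perm.mem_alternatingGroup.mpr (by decide)⟩ : alternatingGroup (Fin 5)) ∈ M :=
      e ▸ Subgroup.mem_top _
    have h' : (swap (0 : Fin 5) 1 * swap 1 4 : Perm (Fin 5)) 4 = 4 := h
    exact absurd h' (by decide)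
  · intro g hg
    exact (by decide +kernel : ∀ g : Perm (Fin 5), Perm.sign g = 1 →
      g * (swap 0 1 * swap 1 2) = swap 0 1 * swap 1 2 * g → g 4 = 4) g.1
        (Perm.mem_alternatingGroup.mp g.2) (congrArg Subtype.val hg)
  · intro g hg
    exact (by decide +kernel : ∀ g : Perm (Fin 5), Perm.sign g = 1 →
      g * (swap 0 1 * swap 1 3) = swap 0 1 * swap 1 3 * g → g 4 = 4) g.1
        (Perm.mem_alternatingGroup.mp g.2) (congrArg Subtype.val hg)

/-- A cover of a group is a finite set of proper subgroups whose union is the whole group; it is minimal when no cover has fewer members, and nilpotent when all its members are nilpotent. The alternating groups of degree at least 5 and the symmetric groups of degree at least 4 have no nilpotent minimal cover. -/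
theorem result (n : ℕ) :
    (5 ≤ n → ¬ ∃ 𝓐 : Finset (Subgroup ↥(alternatingGroup (Fin n))), ((∀ A ∈ 𝓐, A ≠ ⊤) ∧ (∀ g : ↥(alternatingGroup (Fin n)), ∃ A ∈ 𝓐, g ∈ A)) ∧ (∀ 𝓑 : Finset (Subgroup ↥(alternatingGroup (Fin n))), (∀ A ∈ 𝓑, A ≠ ⊤) ∧ (∀ g : ↥(alternatingGroup (Fin n)), ∃ A ∈ 𝓑, g ∈ A) → 𝓐.card ≤ 𝓑.card) ∧ (∀ A ∈ 𝓐, Group.IsNilpotent ↥A)) ∧
    (4 ≤ n → ¬ ∃ 𝓐 : Finset (Subgroup (Equiv.Perm (Fin n))), ((∀ A ∈ 𝓐, A ≠ ⊤) ∧ (∀ g : (Equiv.Perm (Fin n)), ∃ A ∈ 𝓐, g ∈ A)) ∧ (∀ 𝓑 : Finset (Subgroup (Equiv.Perm (Fin n))), (∀ A ∈ 𝓑, A ≠ ⊤) ∧ (∀ g : (Equiv.Perm (Fin n)), ∃ A ∈ 𝓑, g ∈ A) → 𝓐.card ≤ 𝓑.card) ∧ (∀ A ∈ 𝓐, Group.IsNilpotent ↥A)) := by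
  refine ⟨fun h5 => ?_, fun h4 => ?_⟩
  · rcases h5.lt_or_eq with h | h
    · exact big h (alternatingGroup (Fin n)).subtype Subtype.val_injective fun σ hσ => ⟨⟨σ, hσ⟩, rfl⟩
    · subst h; exact fiveAlt
  · rcases (show n = 4 ∨ n = 5 ∨ 6 ≤ n by omega) with rfl | rfl | h
    · exact four
    · exact five
    · exact big h (MonoidHom.id _) Function.injective_id fun σ _ => ⟨σ, rfl⟩

end Cfsg.Agent.S3892
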