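import Cfsg.Statements.S3895
import Cfsg.Agent.Lib.Transfer.Frobenius

set_option autoImplicit false
set_option linter.style.haveILetI false
open Cfsg

namespace Cfsg.Agent.S3895

open scoped Pointwise

theorem isPGroup_zpowers_of_mem {G : Type*} [Group G] {P : Subgroup G} (hP : IsPGroup 2 P) {x : G} (hx : x ∈ P) :
    IsPGroup 2 (Subgroup.zpowers x) :=
  hP.to_le (Subgroup.zpowers_le.mpr hx)

/-- The elements of a Sylow subgroup without other conjugates in it permute the classes meeting it. -/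
theorem isConj_mul {G : Type*} [Group G] [Finite G] (P : Sylow 2 G) {s x y : G} (hs : s ∈ (P : Subgroup G))
    (hS : ∀ u ∈ (P : Subgroup G), IsConj s u → u = s) (hx : x ∈ (P : Subgroup G)) (hy : y ∈ (P : Subgroup G))
    (hxy : IsConj x y) : IsConj (x * s) (y * s) := by
  classical
  have hcen : ∀ u ∈ (P : Subgroup G), u * s * u⁻¹ = s := fun u hu =>
    hS _ (mul_mem (mul_mem hu hs) (inv_mem hu)) (isConj_iff.mpr ⟨u, rfl⟩)
  obtain ⟨g, rfl⟩ := isConj_iff.mp hxy
  set C := Subgroup.centralizer ({g * x * g⁻¹} : Set G) with hC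
  have h1 : s ∈ C := Subgroup.mem_centralizer_singleton_iff.mpr (mul_inv_eq_iff_eq_mul.mp (hcen _ hy)).symm
  have h2 : g * s * g⁻¹ ∈ C := by
    rw [hC, Subgroup.mem_centralizer_singleton_iff]
    calc g * s * g⁻¹ * (g * x * g⁻¹) = g * (s * x) * g⁻¹ := by group
      _ = g * (x * s) * g⁻¹ := by rw [mul_inv_eq_iff_eq_mul.mp (hcen x hx)]
      _ = g * x * g⁻¹ * (g * s * g⁻¹) := by group
  obtain ⟨T, hT⟩ := ((isPGroup_zpowers_of_mem P.2 hs).comap_of_injective C.subtype C.subtype_injective).exists_le_sylow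
  have hp2 : IsPGroup 2 (Subgroup.zpowers (g * s * g⁻¹)) := by
    obtain ⟨k, hk⟩ := IsPGroup.iff_orderOf.mp P.2 ⟨s, hs⟩
    rw [← Subgroup.orderOf_coe] at hk
    refine IsPGroup.of_card (n := k) ?_
    rw [Nat.card_zpowers, show g * s * g⁻¹ = MulAut.conj g s from rfl, MulEquiv.orderOf_eq]
    exact hk
  obtain ⟨T', hT'⟩ := (hp2.comap_of_injective C.subtype C.subtype_injective).exists_le_sylow
  obtain ⟨c, hc⟩ := MulAction.exists_smul_eq C T' T
  have hsT : (⟨s, h1⟩ : C) ∈ (T : Subgroup C) := hT (Subgroup.mem_zpowers s)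
  have hs'T : c * ⟨g * s * g⁻¹, h2⟩ * c⁻¹ ∈ (T : Subgroup C) := by
    rw [← hc, Sylow.coe_subgroup_smul, Subgroup.mem_pointwise_smul_iff_inv_smul_mem, ← map_inv,
      MulAut.smul_def, MulAut.conj_apply, inv_inv]
    have : (⟨g * s * g⁻¹, h2⟩ : C) ∈ (T' : Subgroup C) := hT' (Subgroup.mem_zpowers (g * s * g⁻¹))
    simpa [mul_assoc] using this
  obtain ⟨P', hP'⟩ := (T.2.map C.subtype).exists_le_sylow
  obtain ⟨h, hh⟩ := MulAction.exists_smul_eq G P' P
  have hmem : ∀ u ∈ (P' : Subgroup G), h * u * h⁻¹ ∈ (P : Subgroup G) := fun u hu => by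
    rw [← hh]; exact ⟨u, hu, rfl⟩
  set w := (c : G) * (g * s * g⁻¹) * (c : G)⁻¹ with hw
  have e1 : h * s * h⁻¹ = s := hS _ (hmem s (hP' ⟨_, hsT, rfl⟩)) (isConj_iff.mpr ⟨h, rfl⟩)
  have e2 : h * w * h⁻¹ = s := hS _ (hmem w (hP' ⟨_, hs'T, rfl⟩))
    (isConj_iff.mpr ⟨h * c * g, by rw [hw]; group⟩)
  have e3 : w = s := mul_left_cancel (mul_right_cancel (e2.trans e1.symm))
  refine isConj_iff.mpr ⟨(c : G) * g, ?_⟩
  calc (c : G) * g * (x * s) * ((c : G) * g)⁻¹
      = (c : G) * (g * x * g⁻¹) * (c : G)⁻¹ * ((c : G) * (g * s * g⁻¹) * (c : G)⁻¹) := by group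
    _ = g * x * g⁻¹ * s := by
        rw [← hw, e3, Subgroup.mem_centralizer_singleton_iff.mp c.2, mul_inv_cancel_right]

/-- Without a normal `2`-complement few classes consist of `2`-elements. -/
theorem two_mul_card_le {G : Type*} [Group G] [Finite G] [DecidableEq (ConjClasses G)] [DecidableEq G] (P : Sylow 2 G)
    [Fintype (P : Subgroup G)] (h : ¬ Cfsg.HasNormalPComplement 2 G) :
    2 * (Finset.univ.image fun x : (P : Subgroup G) => ConjClasses.mk (x : G)).card ≤ Nat.card (P : Subgroup G) := by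
  classical
  haveI : Fact (Nat.Prime 2) := ⟨Nat.prime_two⟩
  let cl : ↥(P : Subgroup G) → ConjClasses G := fun x => ConjClasses.mk (x : G)
  let S : Finset (P : Subgroup G) :=
    Finset.univ.filter fun s : (P : Subgroup G) => ∀ u ∈ (P : Subgroup G), IsConj (s : G) u → u = (s : G)
  have hS : ∀ s, s ∈ S ↔ ∀ u ∈ (P : Subgroup G), IsConj (s : G) u → u = (s : G) := fun s => by simp [S]
  have htr : ∀ s ∈ S, ∀ x y : (P : Subgroup G), cl x = cl y → cl (x * s) = cl (y * s) := fun s hs x y he =>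
    ConjClasses.mk_eq_mk_iff_isConj.mpr
      (isConj_mul P s.2 ((hS s).mp hs) x.2 y.2 (ConjClasses.mk_eq_mk_iff_isConj.mp he))
  have hSinv : ∀ s ∈ S, s⁻¹ ∈ S := fun s hs => (hS _).mpr fun u hu hc => by
    have := (hS s).mp hs u⁻¹ (inv_mem hu) (by
      obtain ⟨g, hg⟩ := isConj_iff.mp hc
      exact isConj_iff.mpr ⟨g, by rw [← hg]; simp [mul_assoc]⟩)
    rw [← inv_inj, this]; simp
  have hSmul : ∀ s ∈ S, ∀ t ∈ S, s * t ∈ S := fun s hs t ht => (hS _).mpr fun u hu hc => by
    have := htr _ (hSinv t ht) (s * t) ⟨u, hu⟩ (ConjClasses.mk_eq_mk_iff_isConj.mpr hc)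
    rw [mul_inv_cancel_right] at this
    have h2 := (hS s).mp hs _ (mul_mem hu (inv_mem t.2)) (ConjClasses.mk_eq_mk_iff_isConj.mp this)
    exact eq_mul_of_mul_inv_eq h2
  -- a moved element
  obtain ⟨Q, hQP, g, hgQ, hgc, x, hxQ, hgx⟩ : ∃ Q : Subgroup G, Q ≤ (P : Subgroup G) ∧
      ∃ g ∈ Subgroup.normalizer (Q : Set G), (orderOf g).Coprime 2 ∧ ∃ x ∈ Q, g * x * g⁻¹ ≠ x := by
    by_contra hcon
    push Not at hcon
    refine h (CfsgLib.Transfer.hasNormalPComplement_of_pAutomizers (CfsgLib.Transfer.pAutomizers_of_sylow P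
      fun Q hQ g hg hgc => Subgroup.mem_centralizer_iff.mpr fun x hx => ?_))
    exact (mul_inv_eq_iff_eq_mul.mp (hcon Q hQ g hg hgc x hx)).symm
  have hconj : ∀ v ∈ Q, g * v * g⁻¹ ∈ Q := fun v hv => (Subgroup.mem_normalizer_iff.mp hgQ v).mp hv
  let X : (P : Subgroup G) := ⟨x, hQP hxQ⟩
  let Y : (P : Subgroup G) := ⟨g * x * g⁻¹, hQP (hconj x hxQ)⟩
  let Z : (P : Subgroup G) := ⟨g * (g * x * g⁻¹) * g⁻¹, hQP (hconj _ (hconj x hxQ))⟩
  have hXY : cl X = cl Y := ConjClasses.mk_eq_mk_iff_isConj.mpr (isConj_iff.mpr ⟨g, rfl⟩)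
  have hXZ : cl X = cl Z := ConjClasses.mk_eq_mk_iff_isConj.mpr (isConj_iff.mpr ⟨g * g, by
    show g * g * x * (g * g)⁻¹ = g * (g * x * g⁻¹) * g⁻¹
    group⟩)
  have hXYS : ∀ s ∈ S, Y ≠ X * s := by
    intro s hs e
    have e' : g * x * g⁻¹ = x * (s : G) := congrArg Subtype.val e
    have hsQ : (s : G) ∈ Q := by
      have := mul_mem (inv_mem hxQ) (hconj x hxQ)
      rwa [e', inv_mul_cancel_left] at this
    have hgs : g * (s : G) * g⁻¹ = s := (hS s).mp hs _ (hQP (hconj _ hsQ)) (isConj_iff.mpr ⟨g, rfl⟩)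
    have hpow : ∀ n : ℕ, g ^ n * x * (g ^ n)⁻¹ = x * (s : G) ^ n := by
      intro n
      induction n with
      | zero => simp
      | succ n ih =>
        calc g ^ (n + 1) * x * (g ^ (n + 1))⁻¹ = g * (g ^ n * x * (g ^ n)⁻¹) * g⁻¹ := by rw [pow_succ']; group
          _ = (g * x * g⁻¹) * (g * (s : G) * g⁻¹) ^ n := by rw [ih, conj_pow]; group
          _ = x * (s : G) ^ (n + 1) := by rw [e', hgs, pow_succ', mul_assoc]
    have h1 := hpow (orderOf g)
    rw [pow_orderOf_eq_one, one_mul, inv_one, mul_one, left_eq_mul] at h1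
    obtain ⟨k, hk⟩ := IsPGroup.iff_orderOf.mp P.2 s
    rw [← Subgroup.orderOf_coe] at hk
    have h2 : orderOf (s : G) = 1 :=
      Nat.eq_one_of_dvd_coprimes (hgc.pow_right k) (orderOf_dvd_of_pow_eq_one h1) (dvd_of_eq hk)
    rw [orderOf_eq_one_iff.mp h2, mul_one] at e'
    exact hgx e'
  have h1S : (1 : (P : Subgroup G)) ∈ S := (hS 1).mpr fun u _ hu => by
    rw [OneMemClass.coe_one] at hu ⊢
    exact isConj_one_right.mp hu
  have hXne : X ≠ Y := fun e => hXYS 1 h1S (by rw [mul_one]; exact e.symm)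
  have hZne : Z ≠ X ∧ Z ≠ Y := by
    refine ⟨fun e => ?_, fun e => ?_⟩
    · have e' : g * (g * x * g⁻¹) * g⁻¹ = x := congrArg Subtype.val e
      obtain ⟨k, hk⟩ : ∃ k, orderOf g = 2 * k + 1 := by
        obtain ⟨k, hk⟩ := (Nat.coprime_two_right.mp hgc)
        exact ⟨k, hk⟩
      have h2 : Commute (g ^ 2) x := by
        show g ^ 2 * x = x * g ^ 2
        calc g ^ 2 * x = g * (g * x * g⁻¹) * g⁻¹ * (g ^ 2) := by rw [pow_two]; group
          _ = x * g ^ 2 := by rw [e']
      have h3 : Commute g x := by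
        have h4 := h2.pow_left (k + 1)
        rwa [← pow_mul, show 2 * (k + 1) = orderOf g + 1 by omega, pow_succ, pow_orderOf_eq_one, one_mul] at h4
      exact hgx (by rw [h3.eq, mul_inv_cancel_right])
    · have e' : g * (g * x * g⁻¹) * g⁻¹ = g * x * g⁻¹ := congrArg Subtype.val e
      exact hgx (mul_left_cancel (mul_right_cancel e'))
  let I := Finset.univ.image cl
  have hfP : ∑ c ∈ I, (Finset.univ.filter fun v => cl v = c).card = Nat.card (P : Subgroup G) := by
    rw [Nat.card_eq_fintype_card, ← Finset.card_univ]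
    exact (Finset.card_eq_sum_card_image cl _).symm
  have hfS : ∑ c ∈ I, (S.filter fun v => cl v = c).card = S.card :=
    (Finset.card_eq_sum_card_fiberwise fun v _ => Finset.mem_image_of_mem _ (Finset.mem_univ v)).symm
  have hfT : ∑ c ∈ I, (S.filter fun v => cl (X * v) = c).card = S.card :=
    (Finset.card_eq_sum_card_fiberwise fun v _ => Finset.mem_image_of_mem cl (Finset.mem_univ (X * v))).symm
  have hpt : ∀ c ∈ I, 2 + (S.filter fun v => cl (X * v) = c).card ≤
      (Finset.univ.filter fun v => cl v = c).card + (S.filter fun v => cl v = c).card := by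
    intro c hc
    set F := Finset.univ.filter fun v => cl v = c with hF
    set T := S.filter fun v => cl (X * v) = c with hT
    obtain ⟨v, -, hv⟩ := Finset.mem_image.mp hc
    rcases T.eq_empty_or_nonempty with hT0 | ⟨s, hsT⟩
    · rw [hT0, Finset.card_empty]
      by_cases h2 : ∃ w ∈ F, w ≠ v
      · obtain ⟨w, hw, hwv⟩ := h2
        have : ({v, w} : Finset (P : Subgroup G)) ⊆ F := by
          intro u hu
          rcases Finset.mem_insert.mp hu with rfl | hu
          · simp [hF, hv]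
          · rwa [Finset.mem_singleton.mp hu]
        have := Finset.card_le_card this
        rw [Finset.card_pair hwv.symm] at this
        omega
      · push Not at h2
        have hvF : v ∈ F := by simp [hF, hv]
        have hvS : v ∈ S.filter fun v => cl v = c := by
          refine Finset.mem_filter.mpr ⟨(hS v).mpr fun u hu hc' => ?_, hv⟩
          exact congrArg Subtype.val (h2 ⟨u, hu⟩ (by
            simp only [hF, Finset.mem_filter, Finset.mem_univ, true_and]
            rw [← hv]; exact (ConjClasses.mk_eq_mk_iff_isConj.mpr hc').symm))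
        have := Finset.card_pos.mpr ⟨v, hvF⟩
        have := Finset.card_pos.mpr ⟨v, hvS⟩
        omega
    · obtain ⟨hsS, hsc⟩ := Finset.mem_filter.mp hsT
      have h3 : 3 ≤ F.card := by
        have hsub : ({X * s, Y * s, Z * s} : Finset (P : Subgroup G)) ⊆ F := by
          intro u hu
          simp only [Finset.mem_insert, Finset.mem_singleton] at hu
          simp only [hF, Finset.mem_filter, Finset.mem_univ, true_and]
          rcases hu with rfl | rfl | rfl
          · exact hsc
          · rw [← htr s hsS X Y hXY]; exact hsc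
          · rw [← htr s hsS X Z hXZ]; exact hsc
        refine le_trans (le_of_eq ?_) (Finset.card_le_card hsub)
        rw [Finset.card_eq_three.mpr ⟨X * s, Y * s, Z * s, fun e => hXne (mul_right_cancel e),
          fun e => hZne.1 (mul_right_cancel e).symm, fun e => hZne.2 (mul_right_cancel e).symm, rfl⟩]
      have h2t : 2 * T.card ≤ F.card := by
        have hsub : T.image (X * ·) ∪ T.image (Y * ·) ⊆ F := by
          intro u hu
          simp only [Finset.mem_union, Finset.mem_image] at hu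
          simp only [hF, Finset.mem_filter, Finset.mem_univ, true_and]
          rcases hu with ⟨t, ht, rfl⟩ | ⟨t, ht, rfl⟩ <;> obtain ⟨htS, htc⟩ := Finset.mem_filter.mp ht
          · exact htc
          · rw [← htr t htS X Y hXY]; exact htc
        have hdis : Disjoint (T.image (X * ·)) (T.image (Y * ·)) := by
          rw [Finset.disjoint_left]
          intro u hu hu'
          obtain ⟨t, ht, rfl⟩ := Finset.mem_image.mp hu
          obtain ⟨t', ht', e⟩ := Finset.mem_image.mp hu'
          exact hXYS (t * t'⁻¹) (hSmul _ (Finset.mem_filter.mp ht).1 _ (hSinv _ (Finset.mem_filter.mp ht').1))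
            (by rw [← mul_assoc]; exact eq_mul_inv_of_mul_eq e)
        have := Finset.card_le_card hsub
        rw [Finset.card_union_of_disjoint hdis, Finset.card_image_of_injective _ (mul_right_injective X),
          Finset.card_image_of_injective _ (mul_right_injective Y)] at this
        omega
      omega
  have hsum := Finset.sum_le_sum hpt
  rw [Finset.sum_add_distrib, Finset.sum_add_distrib, Finset.sum_const, smul_eq_mul, hfP, hfS, hfT] at hsum
  show 2 * I.card ≤ _
  omega


/-- Let G be a finite group with Sylow 2-subgroup P, and write k₂(G) for the number of conjugacy classes of G consisting of 2-elements (elements of 2-power order, the identity included). Then k₂(G) > |P|/2 if and only if G has a normal 2-complement and P has more than |P|/2 conjugacy classes. -/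
theorem result {G : Type*} [Group G] [Finite G] (P : Sylow 2 G) :
    Nat.card ↥(P : Subgroup G) < 2 * Nat.card {c : ConjClasses G // ∀ x ∈ c.carrier, ∃ k : ℕ, orderOf x = 2 ^ k} ↔
      Cfsg.HasNormalPComplement 2 G ∧ Nat.card ↥(P : Subgroup G) < 2 * Nat.card (ConjClasses ↥(P : Subgroup G)) := by
  classical
  haveI : Fact (Nat.Prime 2) := ⟨Nat.prime_two⟩
  haveI : Fintype (P : Subgroup G) := Fintype.ofFinite _
  let cl : ↥(P : Subgroup G) → ConjClasses G := fun x => ConjClasses.mk (x : G)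
  have hk : Nat.card {c : ConjClasses G // ∀ x ∈ c.carrier, ∃ k : ℕ, orderOf x = 2 ^ k} =
      (Finset.univ.image cl).card := by
    rw [← Fintype.card_coe, ← Nat.card_eq_fintype_card]
    refine Nat.card_congr (Equiv.subtypeEquivRight fun c => ?_)
    obtain ⟨x, rfl⟩ := ConjClasses.mk_surjective c
    simp only [Finset.mem_image, Finset.mem_univ, true_and]
    constructor
    · intro hx
      obtain ⟨k, hk⟩ := hx x (ConjClasses.mem_carrier_mk)
      obtain ⟨Q, hQ⟩ := (IsPGroup.of_card (n := k) (by rw [Nat.card_zpowers, hk]) :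
        IsPGroup 2 (Subgroup.zpowers x)).exists_le_sylow
      obtain ⟨g, hg⟩ := MulAction.exists_smul_eq G Q P
      exact ⟨⟨g * x * g⁻¹, by rw [← hg]; exact ⟨x, hQ (Subgroup.mem_zpowers x), rfl⟩⟩,
        ConjClasses.mk_eq_mk_iff_isConj.mpr (isConj_iff.mpr ⟨g, rfl⟩).symm⟩
    · rintro ⟨v, hv⟩ y hy
      rw [ConjClasses.mem_carrier_iff_mk_eq, ← hv] at hy
      obtain ⟨g, hg⟩ := isConj_iff.mp (ConjClasses.mk_eq_mk_iff_isConj.mp hy.symm)
      obtain ⟨k, hk⟩ := IsPGroup.iff_orderOf.mp P.2 v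
      exact ⟨k, by rw [← hg, show g * (v : G) * g⁻¹ = MulAut.conj g (v : G) from rfl, MulEquiv.orderOf_eq,
        Subgroup.orderOf_coe, hk]⟩
  let f : ConjClasses ↥(P : Subgroup G) → ConjClasses G := Quotient.lift cl fun a b hab => by
    obtain ⟨u, hu⟩ := isConj_iff.mp hab
    exact ConjClasses.mk_eq_mk_iff_isConj.mpr (isConj_iff.mpr ⟨(u : G), congrArg Subtype.val hu⟩)
  have himg : Finset.univ.image f = Finset.univ.image cl := by
    ext c
    simp only [Finset.mem_image, Finset.mem_univ, true_and]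
    constructor
    · rintro ⟨d, rfl⟩
      obtain ⟨v, rfl⟩ := ConjClasses.mk_surjective d
      exact ⟨v, rfl⟩
    · rintro ⟨v, rfl⟩
      exact ⟨ConjClasses.mk v, rfl⟩
  have hle : (Finset.univ.image cl).card ≤ Nat.card (ConjClasses (P : Subgroup G)) := by
    rw [← himg, Nat.card_eq_fintype_card]
    exact Finset.card_image_le
  rw [hk]
  constructor
  · intro hlt
    refine ⟨?_, by omega⟩
    by_contra hn
    have := two_mul_card_le P hn
    have e : (Finset.univ.image fun x : (P : Subgroup G) => ConjClasses.mk (x : G)) = Finset.univ.image cl := by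
      ext c; simp [cl]
    rw [e] at this
    omega
  · rintro ⟨hn, hlt⟩
    have hinj : Function.Injective f := by
      intro a b hab
      obtain ⟨a, rfl⟩ := ConjClasses.mk_surjective a
      obtain ⟨b, rfl⟩ := ConjClasses.mk_surjective b
      obtain ⟨g, hg⟩ := isConj_iff.mp (ConjClasses.mk_eq_mk_iff_isConj.mp (hab : cl a = cl b))
      obtain ⟨k, hk, hk'⟩ := CfsgLib.Transfer.exists_mem_conj_eq_of_pAutomizers
        (CfsgLib.Transfer.pAutomizers_of_hasNormalPComplement hn) P (A := {(a : G)}) (g := g⁻¹)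
        (Set.singleton_subset_iff.mpr a.2)
        (by rintro _ ⟨v, rfl : v = (a : G), rfl⟩; change g⁻¹⁻¹ * (a : G) * g⁻¹ ∈ (P : Subgroup G); rw [inv_inv, hg]; exact b.2)
      refine ConjClasses.mk_eq_mk_iff_isConj.mpr (isConj_iff.mpr ⟨⟨k, hk⟩⁻¹, Subtype.ext ?_⟩)
      show k⁻¹ * (a : G) * k⁻¹⁻¹ = b
      rw [inv_inv, hk' _ rfl, inv_inv, hg]
    rw [← himg, Finset.card_image_of_injective _ hinj, Finset.card_univ, ← Nat.card_eq_fintype_card]
    exact hlt
end Cfsg.Agent.S3895
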