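import Cfsg.Statements.S3897
import Cfsg.Agent.Lib.Transfer.Sylow

set_option autoImplicit false
set_option linter.style.haveILetI false
open Cfsg

namespace Cfsg.Agent.S3897

open Classical in
/-- A surjection under which non-fixed points of `φ` share their image with another point. -/
theorem two_mul_card_le {α β : Type*} [Finite α] [Finite β] (f : α → β) (hf : Function.Surjective f)
    (φ : α → α) (hφ : ∀ a, f (φ a) = f a) :
    2 * Nat.card β ≤ Nat.card α + Nat.card {a // φ a = a} := by
  haveI := Fintype.ofFinite α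
  haveI := Fintype.ofFinite β
  have h1 : Fintype.card α = ∑ b : β, (Finset.univ.filter fun a => f a = b).card :=
    Finset.card_eq_sum_card_fiberwise fun a _ => Finset.mem_univ (f a)
  have h2 : (Finset.univ.filter fun a => φ a = a).card =
      ∑ b : β, ((Finset.univ.filter fun a => φ a = a).filter fun a => f a = b).card :=
    Finset.card_eq_sum_card_fiberwise fun a _ => Finset.mem_univ (f a)
  rw [Nat.card_eq_fintype_card, Nat.card_eq_fintype_card, Nat.card_eq_fintype_card, Fintype.card_subtype, h1, h2,
    ← Finset.sum_add_distrib, ← Finset.card_univ, Finset.card_eq_sum_ones, Finset.mul_sum]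
  refine Finset.sum_le_sum fun b _ => ?_
  obtain ⟨a, rfl⟩ := hf b
  by_cases h : φ a = a
  · have h3 : 0 < (Finset.univ.filter fun x => f x = f a).card := Finset.card_pos.mpr ⟨a, by simp⟩
    have h4 : 0 < ((Finset.univ.filter fun x => φ x = x).filter fun x => f x = f a).card :=
      Finset.card_pos.mpr ⟨a, by simp [h]⟩
    omega
  · have h3 : ({a, φ a} : Finset α) ⊆ Finset.univ.filter fun x => f x = f a := by
      intro x hx
      simp only [Finset.mem_insert, Finset.mem_singleton] at hx
      rcases hx with rfl | rfl <;> simp [hφ]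
    have h4 := Finset.card_le_card h3
    rw [Finset.card_pair (Ne.symm h)] at h4
    omega

/-- A non-abelian finite `p`-group has at most `(p + 1) |P| / p ^ 2` classes. -/
theorem card_conjClasses_le {P : Type*} [Group P] [Finite P] {p : ℕ} [Fact p.Prime] (hP : IsPGroup p P)
    (hna : ¬ IsMulCommutative P) : p ^ 2 * Nat.card (ConjClasses P) ≤ (p + 1) * Nat.card P := by
  classical
  haveI := Fintype.ofFinite P
  have hbij := (ConjClasses.mk_bijOn P)
  have hk : Nat.card (ConjClasses P) = Nat.card (Subgroup.center P) + (ConjClasses.noncenter P).ncard := by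
    have h1 : Nat.card (Subgroup.center P) = ((ConjClasses.noncenter P)ᶜ).ncard := by
      rw [← hbij.image_eq, Set.ncard_image_of_injOn hbij.injOn, ← Nat.card_coe_set_eq]; rfl
    rw [h1, add_comm, Set.ncard_add_ncard_compl]
  have hsum := Group.nat_card_center_add_sum_card_noncenter_eq_card P
  have hp := (Fact.out : p.Prime)
  have hbig : ∀ x ∈ ConjClasses.noncenter P, p ≤ Nat.card x.carrier := by
    intro x hx
    obtain ⟨g, rfl⟩ := x.exists_rep
    have hd : Nat.card (ConjClasses.mk g).carrier = (MulAction.stabilizer (ConjAct P) g).index := by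
      rw [MulAction.index_stabilizer, ConjAct.orbit_eq_carrier_conjClasses, Nat.card_coe_set_eq]
    obtain ⟨k, hk'⟩ := IsPGroup.iff_card.mp hP
    have hdvd : Nat.card (ConjClasses.mk g).carrier ∣ p ^ k := by
      rw [hd, ← hk', ← Nat.card_congr (ConjAct.toConjAct (G := P)).toEquiv.symm]
      exact Subgroup.index_dvd_card _
    obtain ⟨j, -, hj⟩ := (Nat.dvd_prime_pow hp).mp hdvd
    have h2 : 1 < Nat.card (ConjClasses.mk g).carrier := by
      haveI : Finite (ConjClasses.mk g).carrier := Subtype.finite
      rw [Finite.one_lt_card_iff_nontrivial, Set.nontrivial_coe_sort]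
      exact hx
    rw [hj] at h2 ⊢
    rcases Nat.eq_zero_or_pos j with rfl | hj0
    · simp at h2
    · calc p = p ^ 1 := (pow_one p).symm
        _ ≤ p ^ j := Nat.pow_le_pow_right hp.pos hj0
  have hT : p * (ConjClasses.noncenter P).ncard + Nat.card (Subgroup.center P) ≤ Nat.card P := by
    rw [← hsum, add_comm]
    refine Nat.add_le_add_left ?_ _
    rw [finsum_mem_eq_toFinset_sum, Set.ncard_eq_toFinset_card', mul_comm, ← smul_eq_mul, ← Finset.sum_const]
    exact Finset.sum_le_sum fun x hx => hbig x (Set.mem_toFinset.mp hx)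
  have hZ : p ^ 2 * Nat.card (Subgroup.center P) ≤ Nat.card P := by
    rw [← (Subgroup.center P).index_mul_card]
    refine Nat.mul_le_mul_right _ ?_
    obtain ⟨j, hj⟩ := IsPGroup.iff_card.mp (hP.to_quotient (Subgroup.center P))
    have hnc : ¬ IsCyclic (P ⧸ Subgroup.center P) := fun hc => hna ⟨⟨fun a b => by
      haveI := hc
      exact (commGroupOfCyclicCenterQuotient (QuotientGroup.mk' (Subgroup.center P)) (by simp)).mul_comm a b⟩⟩
    rw [show (Subgroup.center P).index = Nat.card (P ⧸ Subgroup.center P) from rfl, hj]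
    refine Nat.pow_le_pow_right hp.pos ?_
    by_contra hj2
    rcases (show j = 0 ∨ j = 1 by omega) with rfl | rfl
    · rw [pow_zero, Nat.card_eq_one_iff_unique] at hj
      haveI := hj.1
      exact hnc inferInstance
    · rw [pow_one] at hj
      exact hnc (isCyclic_of_prime_card hj)
  rw [hk]
  have := hp.two_le
  nlinarith

/-- Let p be an odd prime and G a finite group with Sylow p-subgroup P, and write k_p(G) for the number of conjugacy classes of G consisting of p-elements (elements of p-power order, the identity included). Then k_p(G) > (p + 1)|P|/(2p) if and only if G has a normal p-complement and P is abelian. -/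
theorem result {G : Type*} [Group G] [Finite G] {p : ℕ} [Fact p.Prime] (hp : p ≠ 2) (P : Sylow p G) :
    (p + 1) * Nat.card ↥(P : Subgroup G) < 2 * p * Nat.card {c : ConjClasses G // ∀ x ∈ c.carrier, ∃ k : ℕ, orderOf x = p ^ k} ↔
      Cfsg.HasNormalPComplement p G ∧ IsMulCommutative ↥(P : Subgroup G) := by
  classical
  have hp3 : 3 ≤ p := by
    have := (Fact.out : p.Prime).two_le
    omega
  let f : ↥(P : Subgroup G) → {c : ConjClasses G // ∀ x ∈ c.carrier, ∃ k : ℕ, orderOf x = p ^ k} := fun x =>
    ⟨ConjClasses.mk (x : G), fun y hy => by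
      rw [ConjClasses.mem_carrier_iff_mk_eq, ConjClasses.mk_eq_mk_iff_isConj, isConj_iff] at hy
      obtain ⟨g, hg⟩ := hy
      obtain ⟨k, hk⟩ := IsPGroup.iff_orderOf.mp P.2 x
      refine ⟨k, ?_⟩
      rw [← hk, Subgroup.orderOf_mk, ← hg]
      exact (orderOf_injective (MulAut.conj g).toMonoidHom (MulAut.conj g).injective y).symm⟩
  have hf : Function.Surjective f := by
    rintro ⟨c, hc⟩
    obtain ⟨y, rfl⟩ := c.exists_rep
    obtain ⟨k, hk⟩ := hc y ConjClasses.mem_carrier_mk
    have hy : IsPGroup p (Subgroup.zpowers y) := IsPGroup.of_card (n := k) (by rw [Nat.card_zpowers, hk])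
    obtain ⟨g, hg⟩ := CfsgLib.Transfer.exists_map_conj_le_sylow hy P
    refine ⟨⟨g * y * g⁻¹, hg ⟨y, Subgroup.mem_zpowers y, rfl⟩⟩, Subtype.ext ?_⟩
    exact ConjClasses.mk_eq_mk_iff_isConj.mpr (isConj_iff.mpr ⟨g⁻¹, by group⟩)
  constructor
  · intro h
    by_cases hab : IsMulCommutative ↥(P : Subgroup G)
    swap
    · exfalso
      have h1 : Nat.card {c : ConjClasses G // ∀ x ∈ c.carrier, ∃ k : ℕ, orderOf x = p ^ k} ≤
          Nat.card (ConjClasses ↥(P : Subgroup G)) := by
        refine Nat.card_le_card_of_surjective (Quotient.lift f fun a b hab' => Subtype.ext ?_) ?_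
        · obtain ⟨g, hg⟩ := isConj_iff.mp hab'
          exact ConjClasses.mk_eq_mk_iff_isConj.mpr (isConj_iff.mpr ⟨(g : G), congrArg Subtype.val hg⟩)
        · intro c
          obtain ⟨a, rfl⟩ := hf c
          exact ⟨ConjClasses.mk a, rfl⟩
      have h2 := card_conjClasses_le P.2 hab
      have h3 : p * ((p + 1) * Nat.card ↥(P : Subgroup G)) < p * (2 * p *
          Nat.card {c : ConjClasses G // ∀ x ∈ c.carrier, ∃ k : ℕ, orderOf x = p ^ k}) :=
        Nat.mul_lt_mul_of_pos_left h (by omega)
      nlinarith [Nat.mul_le_mul_left (2 * p ^ 2) h1, Nat.mul_le_mul_right ((p + 1) * Nat.card ↥(P : Subgroup G)) hp3]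
    · refine ⟨CfsgLib.Transfer.hasNormalPComplement_of_normalizer_le_centralizer P ?_, hab⟩
      intro n hn
      by_contra hnc
      have hmem : ∀ x : ↥(P : Subgroup G), n * x * n⁻¹ ∈ (P : Subgroup G) := fun x =>
        (Subgroup.mem_normalizer_iff.mp hn x).mp x.2
      have h1 := two_mul_card_le f hf (fun x => ⟨n * x * n⁻¹, hmem x⟩) fun x => Subtype.ext
        (ConjClasses.mk_eq_mk_iff_isConj.mpr (isConj_iff.mpr ⟨n⁻¹, by group⟩))
      set F : Subgroup ↥(P : Subgroup G) := (Subgroup.centralizer {n}).subgroupOf (P : Subgroup G) with hF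
      have hFeq : Nat.card {x : ↥(P : Subgroup G) // (⟨n * x * n⁻¹, hmem x⟩ : ↥(P : Subgroup G)) = x} = Nat.card F := by
        refine Nat.card_congr (Equiv.subtypeEquivRight fun x => ?_)
        rw [hF, Subgroup.mem_subgroupOf, Subgroup.mem_centralizer_singleton_iff, Subtype.ext_iff]
        exact ⟨fun h => (mul_inv_eq_iff_eq_mul.mp h).symm, fun h => mul_inv_eq_iff_eq_mul.mpr h.symm⟩
      have hFne : F ≠ ⊤ := by
        intro htop
        refine hnc (Subgroup.mem_centralizer_iff.mpr fun x hx => ?_)
        have : (⟨x, hx⟩ : ↥(P : Subgroup G)) ∈ F := htop ▸ Subgroup.mem_top _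
        rw [hF, Subgroup.mem_subgroupOf, Subgroup.mem_centralizer_singleton_iff] at this
        exact this
      have hidx : p ≤ F.index := by
        obtain ⟨k, hk⟩ := P.2.index F
        rw [hk]
        rcases Nat.eq_zero_or_pos k with rfl | hk0
        · rw [pow_zero, Subgroup.index_eq_one] at hk
          exact absurd hk hFne
        · calc p = p ^ 1 := (pow_one p).symm
            _ ≤ p ^ k := Nat.pow_le_pow_right (by omega) hk0
      have h2 : p * Nat.card F ≤ Nat.card ↥(P : Subgroup G) := by
        rw [← F.index_mul_card]; exact Nat.mul_le_mul_right _ hidx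
      rw [hFeq] at h1
      nlinarith [Nat.mul_le_mul_left p h1]
  · rintro ⟨⟨Q, N, hN, hNQ⟩, hab⟩
    haveI := hN
    have hQ : IsMulCommutative ↥(Q : Subgroup G) := by
      haveI := hab
      obtain ⟨g, hg⟩ := CfsgLib.Transfer.exists_map_conj_sylow_eq P Q
      rw [← hg]
      infer_instance
    have hinj : Function.Injective f := by
      intro x y hxy
      obtain ⟨g, hg⟩ := isConj_iff.mp (ConjClasses.mk_eq_mk_iff_isConj.mp (congrArg Subtype.val hxy))
      have hq : ∀ z : G, ∃ q ∈ (Q : Subgroup G), QuotientGroup.mk' N q = QuotientGroup.mk' N z := by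
        intro z
        obtain ⟨m, hm, q, hq, e⟩ := Subgroup.mem_sup_of_normal_left.mp
          (hNQ.sup_eq_top ▸ Subgroup.mem_top z : z ∈ N ⊔ (Q : Subgroup G))
        refine ⟨q, hq, ?_⟩
        rw [← e, map_mul, show QuotientGroup.mk' N m = 1 from (QuotientGroup.eq_one_iff m).mpr hm, one_mul]
      have hcomm : ∀ u v : G, QuotientGroup.mk' N u * QuotientGroup.mk' N v =
          QuotientGroup.mk' N v * QuotientGroup.mk' N u := by
        intro u v
        obtain ⟨a, ha, ea⟩ := hq u
        obtain ⟨b, hb, eb⟩ := hq v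
        rw [← ea, ← eb, ← map_mul, ← map_mul]
        haveI := hQ
        exact congrArg (QuotientGroup.mk' N)
          (congrArg Subtype.val (mul_comm' (⟨a, ha⟩ : ↥(Q : Subgroup G)) ⟨b, hb⟩))
      have hd : (y : G) * (x : G)⁻¹ ∈ N := by
        rw [← hg]
        refine (QuotientGroup.eq_one_iff _).mp ?_
        show QuotientGroup.mk' N (g * (x : G) * g⁻¹ * (x : G)⁻¹) = 1
        rw [map_mul, map_mul, map_mul, hcomm g, map_inv, map_inv, mul_inv_cancel_right, mul_inv_cancel]
      obtain ⟨k, hk⟩ := IsPGroup.iff_orderOf.mp P.2 (y * x⁻¹)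
      have hk' : orderOf ((y : G) * (x : G)⁻¹) = p ^ k := by
        rw [← hk, ← Subgroup.orderOf_coe (y * x⁻¹)]; simp
      have hcN : Nat.card N = (Q : Subgroup G).index := hNQ.index_eq_card.symm
      have h1 : (p ^ k) ∣ Nat.card N := by
        rw [← hk', ← Subgroup.orderOf_mk _ hd]; exact orderOf_dvd_natCard _
      rcases Nat.eq_zero_or_pos k with rfl | hk0
      · rw [pow_zero, orderOf_eq_one_iff, mul_inv_eq_one] at hk'
        exact (Subtype.ext hk').symm
      · exact absurd (hcN ▸ (dvd_pow_self p hk0.ne').trans h1) Q.not_dvd_index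
    rw [← Nat.card_congr (Equiv.ofBijective f ⟨hinj, hf⟩)]
    exact Nat.mul_lt_mul_of_pos_right (by omega) Nat.card_pos

end Cfsg.Agent.S3897
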