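import Cfsg.Statements.S3898
import Cfsg.Agent.S0205
import Cfsg.Agent.Lib.Elem.PrimaryParts
import Cfsg.Agent.Lib.Char.Table
import Cfsg.Agent.Lib.Char.Counting
import Cfsg.Agent.Lib.Hall.Basic
import Cfsg.Agent.Lib.Transfer.Frobenius
import Cfsg.Agent.Lib.Transfer.Hall

set_option autoImplicit false
set_option linter.style.haveILetI false
open Cfsg
open scoped Pointwise commutatorElement CfsgLib.Char

namespace Cfsg.Agent.S3898

open CfsgLib.Transfer (orderOf_conj map_conj_eq_self_iff)

universe u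

/-- All primes dividing the order of `g` lie in `s`. -/
def PiEl (s : Finset ℕ) {G : Type u} [Group G] (g : G) : Prop :=
  ∀ r : ℕ, r.Prime → r ∣ orderOf g → r ∈ s

/-- The `s`-part of the order of `G`. -/
noncomputable def part (s : Finset ℕ) (G : Type u) [Group G] : ℕ :=
  s.prod fun r => r ^ (Nat.card G).factorization r

theorem part_pos {s : Finset ℕ} (hs : ∀ r ∈ s, r.Prime) (G : Type u) [Group G] : 0 < part s G :=
  Finset.prod_pos fun r hr => pow_pos (hs r hr).pos _

theorem mem_of_prime_dvd_part {s : Finset ℕ} (hs : ∀ r ∈ s, r.Prime) {G : Type u} [Group G] {q : ℕ}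
    (hq : q.Prime) (h : q ∣ part s G) : q ∈ s := by
  obtain ⟨r, hr, hqr⟩ := (Prime.dvd_finsetProd_iff hq.prime _).mp h
  exact ((Nat.prime_dvd_prime_iff_eq hq (hs r hr)).mp (hq.dvd_of_dvd_pow hqr)) ▸ hr

theorem part_dvd {s : Finset ℕ} (hs : ∀ r ∈ s, r.Prime) (G : Type u) [Group G] :
    part s G ∣ Nat.card G := by
  refine Finset.prod_dvd_of_isRelPrime ?_ fun r _ => Nat.ordProj_dvd _ _
  intro a ha b hb hab
  exact Nat.coprime_iff_isRelPrime.mp
    (((Nat.coprime_primes (hs a ha) (hs b hb)).mpr hab).pow _ _)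

theorem part_spec {s : Finset ℕ} (hs : ∀ r ∈ s, r.Prime) (G : Type u) [Group G] [Finite G] :
    ∃ n, Nat.card G = part s G * n ∧ (part s G).Coprime n ∧
      ∀ q, q.Prime → q ∣ n → q ∉ s := by
  obtain ⟨n, hn⟩ := part_dvd hs G
  have hq : ∀ q, q.Prime → q ∣ n → q ∉ s := by
    intro q hq hqn hqs
    refine Nat.pow_succ_factorization_not_dvd (Nat.card_pos (α := G)).ne' hq ?_
    rw [pow_succ]
    calc q ^ (Nat.card G).factorization q * q ∣ part s G * n :=
          mul_dvd_mul (Finset.dvd_prod_of_mem (fun r => r ^ (Nat.card G).factorization r) hqs) hqn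
      _ = Nat.card G := hn.symm
  exact ⟨n, hn, Nat.coprime_of_dvd fun q hq' h1 h2 => hq q hq' h2 (mem_of_prime_dvd_part hs hq' h1), hq⟩

theorem part_subgroup_le {s : Finset ℕ} (hs : ∀ r ∈ s, r.Prime) {G : Type u} [Group G] [Finite G]
    (L : Subgroup G) : part s L ≤ part s G := by
  refine Finset.prod_le_prod' fun r hr => Nat.pow_le_pow_right (hs r hr).pos ?_
  exact (Nat.factorization_le_iff_dvd Nat.card_pos.ne' Nat.card_pos.ne').mpr L.card_subgroup_dvd_card r

/-- Decomposition of an element into a `ρ`-part and a `σ`-part. -/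
theorem exists_parts {G : Type u} [Group G] [Finite G] {ρ σ : Finset ℕ} (hρ : ∀ r ∈ ρ, r.Prime)
    {g : G} (hg : PiEl (ρ ∪ σ) g) :
    ∃ x y : G, x * y = g ∧ Commute x y ∧ PiEl ρ x ∧ PiEl σ y := by
  obtain ⟨n, hn, hcop, hnot⟩ := part_spec hρ G
  set N := orderOf g
  have hsplit : Nat.gcd N (part ρ G * n) = Nat.gcd N (part ρ G) * Nat.gcd N n := hcop.gcd_mul N
  rw [← hn, Nat.gcd_eq_left (orderOf_dvd_natCard g)] at hsplit
  set a := Nat.gcd N (part ρ G)
  set b := Nat.gcd N n
  have hab : a.Coprime b :=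
    (hcop.coprime_dvd_left (Nat.gcd_dvd_right _ _)).coprime_dvd_right (Nat.gcd_dvd_right _ _)
  have key := Nat.gcd_eq_gcd_ab a b
  rw [hab.gcd_eq_one] at key
  refine ⟨g ^ ((b : ℤ) * Nat.gcdB a b), g ^ ((a : ℤ) * Nat.gcdA a b), ?_,
    Commute.zpow_zpow_self g _ _, ?_, ?_⟩
  · rw [← zpow_add, add_comm, ← key]; simp
  · intro r hr hrd
    have h1 : orderOf (g ^ ((b : ℤ) * Nat.gcdB a b)) ∣ a := by
      refine orderOf_dvd_of_pow_eq_one ?_
      rw [← zpow_natCast, ← zpow_mul,
        show (b : ℤ) * Nat.gcdB a b * (a : ℤ) = ((a * b : ℕ) : ℤ) * Nat.gcdB a b by push_cast; ring,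
        zpow_mul, zpow_natCast, ← hsplit, pow_orderOf_eq_one, one_zpow]
    exact mem_of_prime_dvd_part hρ hr ((hrd.trans h1).trans (Nat.gcd_dvd_right _ _))
  · intro r hr hrd
    have h1 : orderOf (g ^ ((a : ℤ) * Nat.gcdA a b)) ∣ b := by
      refine orderOf_dvd_of_pow_eq_one ?_
      rw [← zpow_natCast, ← zpow_mul,
        show (a : ℤ) * Nat.gcdA a b * (b : ℤ) = ((a * b : ℕ) : ℤ) * Nat.gcdA a b by push_cast; ring,
        zpow_mul, zpow_natCast, ← hsplit, pow_orderOf_eq_one, one_zpow]
    have hrn : r ∣ n := (hrd.trans h1).trans (Nat.gcd_dvd_right _ _)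
    have := hg r hr ((hrd.trans h1).trans (Nat.gcd_dvd_left _ _))
    rcases Finset.mem_union.mp this with h | h
    · exact absurd h (hnot r hr hrn)
    · exact h

theorem piEl_conj {s : Finset ℕ} {G : Type u} [Group G] {g : G} (h : G) (hg : PiEl s g) :
    PiEl s (h * g * h⁻¹) := fun r hr hd => hg r hr (by rwa [orderOf_conj] at hd)

/-- The `ρ ∪ σ`-elements are covered, up to conjugacy, by `|X|` times a covering number of centralisers. -/
theorem cover_step {G : Type u} [Group G] [Finite G] {ρ σ : Finset ℕ} (hρ : ∀ r ∈ ρ, r.Prime)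
    (X : Finset G) (hX : ∀ x : G, PiEl ρ x → ∃ h : G, h * x * h⁻¹ ∈ X) (B : ℕ)
    (hC : ∀ x : G, ∃ T : Finset (Subgroup.centralizer ({x} : Set G)), T.card ≤ B ∧
      ∀ y : Subgroup.centralizer ({x} : Set G), PiEl σ y → ∃ c, c * y * c⁻¹ ∈ T) :
    ∃ T : Finset G, T.card ≤ X.card * B ∧ ∀ g : G, PiEl (ρ ∪ σ) g → ∃ h : G, h * g * h⁻¹ ∈ T := by
  classical
  choose T hT hTc using hC
  let F : (x : G) → Finset G := fun x =>
    (T x).image fun t : Subgroup.centralizer ({x} : Set G) => x * (t : G)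
  refine ⟨X.biUnion F, ?_, ?_⟩
  · exact Finset.card_biUnion_le_card_mul _ _ _ fun x _ => Finset.card_image_le.trans (hT x)
  intro g hg
  obtain ⟨x, y, hxy, hcomm, hx, hy⟩ := exists_parts hρ hg
  obtain ⟨h, hh⟩ := hX x hx
  have hmem : h * y * h⁻¹ ∈ Subgroup.centralizer ({h * x * h⁻¹} : Set G) := by
    rw [Subgroup.mem_centralizer_singleton_iff]
    calc h * y * h⁻¹ * (h * x * h⁻¹) = h * (y * x) * h⁻¹ := by group
      _ = h * (x * y) * h⁻¹ := by rw [hcomm.eq]
      _ = h * x * h⁻¹ * (h * y * h⁻¹) := by group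
  obtain ⟨c, hc⟩ := hTc _ ⟨_, hmem⟩ (fun r hr hd => piEl_conj h hy r hr
    (by rwa [Subgroup.orderOf_mk] at hd))
  refine ⟨(c : G) * h, Finset.mem_biUnion.mpr ⟨_, hh, Finset.mem_image.mpr ⟨_, hc, ?_⟩⟩⟩
  have hcx : (c : G) * (h * x * h⁻¹) = h * x * h⁻¹ * (c : G) :=
    Subgroup.mem_centralizer_singleton_iff.mp c.2
  simp only [Subgroup.coe_mul, Subgroup.coe_inv]
  calc h * x * h⁻¹ * ((c : G) * (h * y * h⁻¹) * (c : G)⁻¹)
      = h * x * h⁻¹ * (c : G) * (h * y * h⁻¹) * (c : G)⁻¹ := by group
    _ = (c : G) * (h * x * h⁻¹) * (h * y * h⁻¹) * (c : G)⁻¹ := by rw [hcx]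
    _ = (c : G) * h * g * ((c : G) * h)⁻¹ := by rw [← hxy]; group

/-- There are at most `|G|_s` classes of `s`-elements. -/
theorem exists_cover (s : Finset ℕ) : (∀ r ∈ s, r.Prime) → ∀ (G : Type u) [Group G] [Finite G],
    ∃ T : Finset G, T.card ≤ part s G ∧ ∀ g : G, PiEl s g → ∃ h : G, h * g * h⁻¹ ∈ T := by
  classical
  induction s using Finset.induction with
  | empty =>
    intro _ G _ _
    refine ⟨{1}, by simp [part], fun g hg => ⟨1, ?_⟩⟩
    have hg1 : g = 1 := by
      by_contra hne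
      obtain ⟨r, hr, hd⟩ := Nat.exists_prime_and_dvd (mt orderOf_eq_one_iff.mp hne)
      exact absurd (hg r hr hd) (Finset.notMem_empty r)
    simp [hg1]
  | @insert r s hrs IH =>
    intro hs G _ _
    have hr : r.Prime := hs r (Finset.mem_insert_self r s)
    haveI := Fact.mk hr
    haveI := Fintype.ofFinite G
    have hs' : ∀ q ∈ s, q.Prime := fun q hq => hs q (Finset.mem_insert_of_mem hq)
    obtain ⟨P⟩ := (inferInstance : Nonempty (Sylow r G))
    obtain ⟨T, hT, hTc⟩ := cover_step (ρ := {r}) (σ := s) (by simpa using hr)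
      (Finset.univ.filter fun x => x ∈ (P : Subgroup G)) (fun x hx => by
        have hp : IsPGroup r (Subgroup.zpowers x) := by
          refine IsPGroup.of_card (n := (orderOf x).factorization r) ?_
          rw [Nat.card_zpowers]
          refine Nat.eq_of_factorization_eq (orderOf_pos x).ne' (pow_pos hr.pos _).ne' fun q => ?_
          rw [hr.factorization_pow]
          rcases eq_or_ne q r with rfl | hqr
          · simp
          · rw [Finsupp.single_eq_of_ne hqr]
            by_contra h0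
            have hq : q ∈ (orderOf x).primeFactors := by
              rw [← Nat.support_factorization]; exact Finsupp.mem_support_iff.mpr h0
            exact hqr (Finset.mem_singleton.mp
              (hx q (Nat.prime_of_mem_primeFactors hq) (Nat.dvd_of_mem_primeFactors hq)))
        obtain ⟨h, hh⟩ := CfsgLib.Transfer.exists_map_conj_le_sylow hp P
        exact ⟨h, by simpa using hh (Subgroup.mem_map_of_mem _ (Subgroup.mem_zpowers x))⟩)
      (part s G) (fun x => by
        obtain ⟨T, hT, hTc⟩ := IH hs' (Subgroup.centralizer ({x} : Set G))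
        exact ⟨T, hT.trans (part_subgroup_le hs' _), hTc⟩)
    refine ⟨T, hT.trans (le_of_eq ?_), fun g hg => hTc g (by rw [← Finset.insert_eq]; exact hg)⟩
    rw [part, part, Finset.prod_insert hrs, ← Fintype.card_subtype, ← Nat.card_eq_fintype_card]
    exact congrArg (· * _) P.card_eq_multiplicity

/-- Class-number bound from a covering set of `ρ`-elements. -/
theorem card_classes_le {G : Type u} [Group G] [Finite G] {π ρ σ : Finset ℕ} (hρ : ∀ r ∈ ρ, r.Prime)
    (hσ : ∀ r ∈ σ, r.Prime) (hπ : π = ρ ∪ σ) (X : Finset G)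
    (hX : ∀ x : G, PiEl ρ x → ∃ h : G, h * x * h⁻¹ ∈ X) :
    Nat.card {c : ConjClasses G // ∀ x ∈ c.carrier, ∀ r : ℕ, r.Prime → r ∣ orderOf x → r ∈ π} ≤
      X.card * part σ G := by
  classical
  obtain ⟨T, hT, hTc⟩ := cover_step (σ := σ) hρ X hX (part σ G) fun x => by
    obtain ⟨T, hT, hTc⟩ := exists_cover σ hσ (Subgroup.centralizer ({x} : Set G))
    exact ⟨T, hT.trans (part_subgroup_le hσ _), hTc⟩
  refine le_trans ?_ hT
  haveI := Fintype.ofFinite (ConjClasses G)
  rw [Nat.card_eq_fintype_card, Fintype.card_subtype]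
  refine le_trans (Finset.card_le_card ?_) (Finset.card_image_le (f := ConjClasses.mk))
  intro c hc
  obtain ⟨g, rfl⟩ := c.exists_rep
  obtain ⟨h, hh⟩ := hTc g (hπ ▸ (Finset.mem_filter.mp hc).2 g ConjClasses.mem_carrier_mk)
  exact Finset.mem_image.mpr ⟨_, hh,
    ConjClasses.mk_eq_mk_iff_isConj.mpr (isConj_iff.mpr ⟨h⁻¹, by group⟩)⟩

/-- If an element of odd prime power order acts nontrivially on `K` and `K` contains the centre of
`H`, then `H` meets at most `|H| / 2` classes. -/
theorem two_mul_card_range_le {G : Type u} [Group G] [Finite G] (H K : Subgroup G) (hKH : K ≤ H)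
    {v : G} (hvK : v ∈ Subgroup.normalizer (K : Set G)) (hvc : v ∉ Subgroup.centralizer (K : Set G))
    {s e : ℕ} (hs : s.Prime) (hs2 : s ≠ 2) (hv : orderOf v = s ^ e) (hsK : ¬ s ∣ Nat.card K)
    (hZ : ∀ x ∈ H, (∀ y ∈ H, y * x = x * y) → x ∈ K) :
    2 * Nat.card (Set.range fun x : H => ConjClasses.mk (x : G)) ≤ Nat.card H := by
  classical
  haveI := Fact.mk hs
  haveI := Fintype.ofFinite G
  set C := K ⊓ Subgroup.centralizer ({v} : Set G) with hC
  -- fixed points
  letI : MulAction (Subgroup.zpowers v) K := MulAction.compHom K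
    (K.normalizerMonoidHom.comp (Subgroup.inclusion (Subgroup.zpowers_le.mpr hvK)))
  have hsmul : ∀ (w : Subgroup.zpowers v) (k : K), ((w • k : K) : G) = w * k * (w : G)⁻¹ :=
    fun w k => rfl
  have hfix : Nat.card (MulAction.fixedPoints (Subgroup.zpowers v) K) = Nat.card C := by
    refine Nat.card_congr
      { toFun := fun k => ⟨(k.1 : G), k.1.2, Subgroup.mem_centralizer_singleton_iff.mpr ?_⟩
        invFun := fun k => ⟨⟨(k : G), k.2.1⟩, fun w => Subtype.ext ?_⟩
        left_inv := fun k => rfl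
        right_inv := fun k => rfl }
    · have := congrArg (fun z : K => (z : G)) (k.2 ⟨v, Subgroup.mem_zpowers v⟩)
      simp only [hsmul] at this
      exact (mul_inv_eq_iff_eq_mul.mp this).symm
    · obtain ⟨n, hn⟩ := w.2
      rw [hsmul, ← hn]
      have h1 : Commute v (k : G) := (Subgroup.mem_centralizer_singleton_iff.mp k.2.2).symm
      show v ^ n * (k : G) * (v ^ n)⁻¹ = k
      rw [(h1.zpow_left n).eq, mul_inv_cancel_right]
  have hmod : Nat.card K ≡ Nat.card C [MOD s] := hfix ▸ IsPGroup.card_modEq_card_fixedPoints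
    (IsPGroup.of_card (n := e) (by rw [Nat.card_zpowers, hv])) K
  have h4 : 4 * Nat.card C ≤ Nat.card K := by
    obtain ⟨d, hd⟩ := Subgroup.card_dvd_of_le (inf_le_left : C ≤ K)
    have hne : C ≠ K := fun h => hvc (Subgroup.mem_centralizer_iff.mpr fun k hk =>
      Subgroup.mem_centralizer_singleton_iff.mp ((h.ge hk).2))
    have hd1 : d ≠ 1 := fun h1 => hne (Subgroup.eq_of_le_of_card_ge inf_le_left
      (by rw [hd, h1, mul_one]))
    have hd0 : d ≠ 0 := fun h0 => by
      have := Nat.card_pos (α := K); rw [hd, h0, mul_zero] at this; omega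
    rw [hd] at hmod
    have hsd : s ∣ Nat.card C * d - Nat.card C :=
      (Nat.modEq_iff_dvd' (Nat.le_mul_of_pos_right _ (by omega))).mp hmod.symm
    rw [← Nat.mul_sub_one] at hsd
    rcases hs.dvd_mul.mp hsd with h | h
    · exact absurd (h.trans (hd ▸ dvd_mul_right _ _)) hsK
    · have h3 := Nat.le_of_dvd (by omega) h
      have := hs.two_le
      rw [hd, mul_comm 4]
      exact Nat.mul_le_mul_left _ (by omega)
  have hvodd : Odd (orderOf v) := hv ▸ (hs.odd_of_ne_two hs2).pow
  have hv2 : ∀ x : G, Commute (v ^ 2) x → Commute v x := by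
    intro x hx
    obtain ⟨j, hj⟩ := hvodd
    have : v = (v ^ 2) ^ (j + 1) := by
      rw [← pow_mul, show 2 * (j + 1) = orderOf v + 1 by omega, pow_succ, pow_orderOf_eq_one, one_mul]

    rw [this]; exact hx.pow_left _
  -- fibre counting
  set f : G → ConjClasses G := ConjClasses.mk
  set U := Finset.univ.filter fun x => x ∈ H
  set R := U.image f
  have hR : Nat.card (Set.range fun x : H => ConjClasses.mk (x : G)) = R.card := by
    rw [← Set.ncard_coe_finset, Nat.card_coe_set_eq]
    congr 1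
    ext c
    simp [R, U, f]
  have hcard : ∀ L : Subgroup G, L ≤ H → Nat.card L = ∑ c ∈ R, (U.filter fun x => f x = c ∧ x ∈ L).card := by
    intro L hL
    have h1 : Nat.card L = (U.filter fun x => x ∈ L).card := by
      rw [Nat.card_eq_fintype_card, Fintype.card_subtype]
      congr 1
      ext x; simpa [U] using fun h => hL h
    rw [h1, Finset.card_eq_sum_card_fiberwise (f := f) (t := R)
      (fun x hx => Finset.mem_image_of_mem _ (Finset.mem_filter.mp hx).1)]
    refine Finset.sum_congr rfl fun c _ => ?_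
    congr 1
    ext x; simp only [Finset.mem_filter]; tauto
  have hf : ∀ h x : G, f (h * x * h⁻¹) = f x := fun h x =>
    ConjClasses.mk_eq_mk_iff_isConj.mpr (isConj_iff.mpr ⟨h⁻¹, by group⟩)
  have hsum : 6 * R.card + Nat.card K ≤ 3 * Nat.card H + 4 * Nat.card C := by
    rw [hcard K hKH, hcard H le_rfl, hcard C (inf_le_left.trans hKH), Finset.mul_sum, Finset.mul_sum,
      mul_comm 6, ← smul_eq_mul, ← Finset.sum_const, ← Finset.sum_add_distrib, ← Finset.sum_add_distrib]
    refine Finset.sum_le_sum fun c hc => ?_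
    set FK := U.filter fun x => f x = c ∧ x ∈ K
    set FH := U.filter fun x => f x = c ∧ x ∈ H
    set FC := U.filter fun x => f x = c ∧ x ∈ C
    have hle : FK.card ≤ FH.card :=
      Finset.card_le_card (Finset.monotone_filter_right _ fun x _ hx => ⟨hx.1, hKH hx.2⟩)
    obtain ⟨z, hz, rfl⟩ := Finset.mem_image.mp hc
    have hzH : z ∈ H := (Finset.mem_filter.mp hz).2
    have hFH : z ∈ FH := Finset.mem_filter.mpr ⟨hz, rfl, hzH⟩
    have hpos : 0 < FH.card := Finset.card_pos.mpr ⟨z, hFH⟩
    by_cases h1 : FC.Nonempty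
    · have := h1.card_pos; omega
    by_cases h2 : FK.Nonempty
    · obtain ⟨x, hx⟩ := h2
      obtain ⟨hxU, hxc, hxK⟩ := Finset.mem_filter.mp hx
      have hK1 : v * x * v⁻¹ ∈ K := (Subgroup.mem_normalizer_iff.mp hvK x).mp hxK
      have hK2 : v ^ 2 * x * (v ^ 2)⁻¹ ∈ K :=
        (Subgroup.mem_normalizer_iff.mp (Subgroup.pow_mem _ hvK 2) x).mp hxK
      have hnc : ¬ Commute v x := fun h => h1 ⟨x, Finset.mem_filter.mpr
        ⟨hxU, hxc, hxK, Subgroup.mem_centralizer_singleton_iff.mpr h.symm⟩⟩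
      have hsub : ({x, v * x * v⁻¹, v ^ 2 * x * (v ^ 2)⁻¹} : Finset G) ⊆ FH := by
        intro y hy
        simp only [Finset.mem_insert, Finset.mem_singleton] at hy
        rcases hy with rfl | rfl | rfl
        · exact Finset.mem_filter.mpr ⟨hxU, hxc, hKH hxK⟩
        · exact Finset.mem_filter.mpr
            ⟨Finset.mem_filter.mpr ⟨Finset.mem_univ _, hKH hK1⟩, (hf _ _).trans hxc, hKH hK1⟩
        · exact Finset.mem_filter.mpr
            ⟨Finset.mem_filter.mpr ⟨Finset.mem_univ _, hKH hK2⟩, (hf _ _).trans hxc, hKH hK2⟩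
      have h3 := Finset.card_le_card hsub
      rw [Finset.card_eq_three.mpr ⟨_, _, _, ?_, ?_, ?_, rfl⟩] at h3
      · omega
      · exact fun h => hnc (mul_inv_eq_iff_eq_mul.mp h.symm)
      · exact fun h => hnc (hv2 x (mul_inv_eq_iff_eq_mul.mp h.symm))
      · intro h
        refine hnc (mul_inv_eq_iff_eq_mul.mp ?_)
        have h' := congrArg (fun t => v⁻¹ * t * v) h
        simp only [pow_two] at h'
        calc v * x * v⁻¹ = v⁻¹ * (v * v * x * (v * v)⁻¹) * v := by group
          _ = v⁻¹ * (v * x * v⁻¹) * v := h'.symm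
          _ = x := by group
    · have hK0 : FK.card = 0 := Finset.card_eq_zero.mpr (Finset.not_nonempty_iff_eq_empty.mp h2)
      have hzK : z ∉ K := fun h => h2 ⟨z, Finset.mem_filter.mpr ⟨hz, rfl, h⟩⟩
      obtain ⟨y, hy, hne⟩ : ∃ y ∈ H, y * z ≠ z * y := by
        by_contra hcon
        push Not at hcon
        exact hzK (hZ z hzH hcon)
      have hyH : y * z * y⁻¹ ∈ H := H.mul_mem (H.mul_mem hy hzH) (H.inv_mem hy)
      have hsub : ({z, y * z * y⁻¹} : Finset G) ⊆ FH := by
        intro w hw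
        simp only [Finset.mem_insert, Finset.mem_singleton] at hw
        rcases hw with rfl | rfl
        · exact hFH
        · exact Finset.mem_filter.mpr ⟨Finset.mem_filter.mpr ⟨Finset.mem_univ _, hyH⟩, hf _ _, hyH⟩
      have h3 := Finset.card_le_card hsub
      rw [Finset.card_pair fun h => hne (mul_inv_eq_iff_eq_mul.mp h.symm)] at h3
      omega
  rw [hR]; omega

/-- A covering set of the elements of `H`, one in each class. -/
theorem exists_reps {G : Type u} [Group G] [Finite G] (H : Subgroup G) :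
    ∃ X : Finset G, X.card = Nat.card (Set.range fun x : H => ConjClasses.mk (x : G)) ∧
      ∀ x ∈ H, ∃ h : G, h * x * h⁻¹ ∈ X := by
  classical
  set S := Set.range fun x : H => ConjClasses.mk (x : G)
  haveI : Fintype S := Fintype.ofFinite S
  choose r hr using fun c : ConjClasses G => c.exists_rep
  refine ⟨(Finset.univ : Finset S).image fun c => r c.1, ?_, fun x hx => ?_⟩
  · rw [Finset.card_image_of_injective _ ?_, Finset.card_univ, Nat.card_eq_fintype_card]
    intro a b hab
    exact Subtype.ext (by rw [← hr a.1, ← hr b.1]; exact congrArg _ hab)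
  · obtain ⟨h, hh⟩ := isConj_iff.mp
      (ConjClasses.mk_eq_mk_iff_isConj.mp (hr (ConjClasses.mk x)).symm)
    exact ⟨h, hh ▸ Finset.mem_image.mpr ⟨⟨ConjClasses.mk x, ⟨x, hx⟩, rfl⟩, Finset.mem_univ _, rfl⟩⟩

/-- More than `|G| / 2` classes force a derived subgroup of order at most two. -/
theorem card_commutator_le_two {G : Type u} [Group G] [Finite G]
    (h : Nat.card G < 2 * Nat.card (ConjClasses G)) : Nat.card (commutator G) ≤ 2 := by
  classical
  choose d hd0 hd using fun χ : IrrCharacter G => CfsgLib.Char.exists_nat_degree_irr χ.2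
  have hsum : ∑ χ, d χ ^ 2 = Nat.card G := by
    have h1 := CfsgLib.Char.sum_sq_degree (G := G)
    simp only [hd] at h1
    exact_mod_cast h1
  have hlin : (Finset.univ.filter fun χ : IrrCharacter G => d χ = 1).card = (commutator G).index := by
    rw [← CfsgLib.Char.card_linear (G := G), Nat.card_eq_fintype_card, Fintype.card_subtype]
    congr 1
    ext χ; simp [hd χ]
  have hk : (Finset.univ : Finset (IrrCharacter G)).card = Nat.card (ConjClasses G) := by
    rw [Finset.card_univ, ← Nat.card_eq_fintype_card, CfsgLib.Char.card_irr_eq_card_conjClasses]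
  have h4 : 4 * Nat.card (ConjClasses G) ≤ Nat.card G + 3 * (commutator G).index := by
    rw [← hk, ← hlin, ← hsum, Finset.card_filter, Finset.mul_sum, Finset.card_eq_sum_ones,
      Finset.mul_sum, ← Finset.sum_add_distrib]
    refine Finset.sum_le_sum fun χ _ => ?_
    have := hd0 χ
    split_ifs with h1
    · simp [h1]
    · have h2 : 2 ≤ d χ := by omega
      nlinarith
  have hmul := (commutator G).index_mul_card
  by_contra hcon
  nlinarith [Nat.mul_le_mul_left (commutator G).index (show 3 ≤ Nat.card (commutator G) by omega)]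

open CfsgLib.Transfer in
/-- Frobenius step: without a normal `2`-complement a Sylow `2`-subgroup meets at most half as many classes. -/
theorem exists_sylow_half {G : Type u} [Group G] [Finite G]
    (h : ¬ Cfsg.HasNormalPComplement 2 G) :
    ∃ P : Sylow 2 G, 2 * Nat.card (Set.range fun x : (P : Subgroup G) => ConjClasses.mk (x : G)) ≤
      Nat.card (P : Subgroup G) := by
  classical
  have h' : ¬ PAutomizers 2 G := fun h' => h (hasNormalPComplement_of_pAutomizers h')
  rw [PAutomizers] at h'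
  push Not at h'
  obtain ⟨Q, hQ, g, hg, hgc, hgQ⟩ := h'
  set N := Subgroup.normalizer (Q : Set G) with hN
  set C := Subgroup.centralizer (Q : Set G) with hCdef
  have hCN : C ≤ N := Subgroup.centralizer_le_normalizer _
  haveI : (C.subgroupOf N).Normal :=
    ⟨fun c hc n => Subgroup.mem_subgroupOf.mpr (Subgroup.mem_centralizer_iff.mpr fun q hq => by
      have hq' := (Subgroup.mem_normalizer_iff''.mp n.2 q).mp hq
      have hc' := Subgroup.mem_centralizer_iff.mp (Subgroup.mem_subgroupOf.mp hc) _ hq'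
      simp only [Subgroup.coe_mul, Subgroup.coe_inv]
      calc q * ((n : G) * c * (n : G)⁻¹) = n * ((n : G)⁻¹ * q * n * c) * (n : G)⁻¹ := by group
        _ = n * (c * ((n : G)⁻¹ * q * n)) * (n : G)⁻¹ := by rw [hc']
        _ = n * c * (n : G)⁻¹ * q := by group)⟩
  obtain ⟨R⟩ := (inferInstance : Nonempty (Sylow 2 ↥(C.subgroupOf N)))
  have hsup := R.normalizer_sup_eq_top
  have hgmem : (⟨g, hg⟩ : N) ∈
      Subgroup.normalizer (((R : Subgroup _).map (C.subgroupOf N).subtype : Subgroup N) : Set N) ⊔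
        C.subgroupOf N := hsup ▸ Subgroup.mem_top _
  obtain ⟨w, hw, c, hc, hwc⟩ := Subgroup.mem_sup_of_normal_right.mp hgmem
  set R₁ : Subgroup G := ((R : Subgroup _).map (C.subgroupOf N).subtype).map N.subtype with hR₁
  have hR₁C : R₁ ≤ C := by
    rintro _ ⟨_, ⟨z, -, rfl⟩, rfl⟩; exact z.2
  have hwR : (w : G) ∈ Subgroup.normalizer (R₁ : Set G) :=
    Subgroup.le_normalizer_map N.subtype (Subgroup.mem_map_of_mem _ hw)
  obtain ⟨m, k, hm, hk⟩ := CfsgLib.PrimaryParts.exists_pow_primePow 2 Nat.prime_two (w : G)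
  set w' : G := (w : G) ^ 2 ^ (orderOf (w : G)).factorization 2 with hw'
  have hw'odd : Odd (orderOf w') := by
    rw [hw', orderOf_pow' _ (pow_pos two_pos _).ne',
      Nat.gcd_eq_right (Nat.ordProj_dvd _ _), Nat.odd_iff]
    have := Nat.not_dvd_ordCompl Nat.prime_two (orderOf_pos (w : G)).ne'
    omega
  have hw'N : w' ∈ N := Subgroup.pow_mem _ w.2 _
  have hw'R : w' ∈ Subgroup.normalizer (R₁ : Set G) := Subgroup.pow_mem _ hwR _
  have hw'C : w' ∉ C := by
    intro hw'C
    set q := QuotientGroup.mk' (C.subgroupOf N)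
    have h1 : q (w ^ 2 ^ (orderOf (w : G)).factorization 2) = 1 :=
      (QuotientGroup.eq_one_iff _).mpr (Subgroup.mem_subgroupOf.mpr (by rw [Subgroup.coe_pow]; exact hw'C))
    have h2 : q ⟨g, hg⟩ = q w := by
      rw [← hwc, map_mul, show q c = 1 from (QuotientGroup.eq_one_iff _).mpr hc, mul_one]
    rw [map_pow, ← h2] at h1
    have h3 : orderOf (q ⟨g, hg⟩) ∣ orderOf g :=
      (orderOf_map_dvd q _).trans (by rw [Subgroup.orderOf_mk])
    have h4 : q ⟨g, hg⟩ = 1 := orderOf_eq_one_iff.mp (Nat.eq_one_of_dvd_coprimes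
      (hgc.pow_right _) h3 (orderOf_dvd_of_pow_eq_one h1))
    exact hgQ (Subgroup.mem_subgroupOf.mp ((QuotientGroup.eq_one_iff _).mp h4))
  set K := Q ⊔ R₁
  have hR₁p : IsPGroup 2 R₁ := (R.2.map _).map _
  have hKp : IsPGroup 2 K := by
    show IsPGroup 2 (Q ⊔ R₁ : Subgroup G)
    rw [sup_comm]
    exact hR₁p.to_sup_of_normal_right' hQ (hR₁C.trans hCN)
  have hw'K : w' ∈ Subgroup.normalizer (K : Set G) :=
    CfsgLib.PrimaryParts.mem_normalizer_of_conj_mem fun z hz => by
      have hle : K.map (MulAut.conj w').toMonoidHom ≤ K := by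
        rw [Subgroup.map_sup]
        refine sup_le_sup ?_ ?_
        · exact (map_conj_eq_self_iff.mpr hw'N).le
        · exact (map_conj_eq_self_iff.mpr hw'R).le
      simpa using hle (Subgroup.mem_map_of_mem _ hz)
  have hw'c : w' ∉ Subgroup.centralizer (K : Set G) :=
    fun h => hw'C (Subgroup.centralizer_le (SetLike.coe_subset_coe.mpr le_sup_left) h)
  obtain ⟨v, hvz, s, e, hs, hv, hvc⟩ : ∃ v ∈ Subgroup.zpowers w', ∃ s e : ℕ, s.Prime ∧
      orderOf v = s ^ e ∧ v ∉ Subgroup.centralizer (K : Set G) := by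
    by_contra hcon
    push Not at hcon
    exact hw'c (CfsgLib.PrimaryParts.mem_of_primePow_parts fun y hy p k hp hyk =>
      hcon y hy p k hp hyk)
  have he : e ≠ 0 := by
    rintro rfl
    exact hvc (by rw [orderOf_eq_one_iff.mp (hv.trans (pow_zero s))]; exact Subgroup.one_mem _)
  have hs2 : s ≠ 2 := by
    rintro rfl
    have h2 : 2 ∣ orderOf w' := ((dvd_pow_self 2 he).trans hv.symm.dvd).trans
      (orderOf_dvd_of_mem_zpowers hvz)
    exact (Nat.not_even_iff_odd.mpr hw'odd) (even_iff_two_dvd.mpr h2)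
  obtain ⟨P, hP⟩ := hKp.exists_le_sylow
  refine ⟨P, two_mul_card_range_le _ K hP
    ((Subgroup.zpowers_le.mpr hw'K) hvz) hvc hs hs2 hv ?_ ?_⟩
  · intro hd
    obtain ⟨j, hj⟩ := IsPGroup.iff_card.mp hKp
    rw [hj] at hd
    exact hs2 ((Nat.prime_dvd_prime_iff_eq hs Nat.prime_two).mp (hs.dvd_of_dvd_pow hd))
  · intro x hx hxc
    have hxC : x ∈ C := Subgroup.mem_centralizer_iff.mpr fun q hq => hxc q (hP (le_sup_left (b := R₁) hq))
    have hle : (R : Subgroup _) ≤ ((P : Subgroup G).subgroupOf N).subgroupOf (C.subgroupOf N) := by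
      intro z hz
      exact hP (le_sup_right (a := Q) ⟨_, ⟨z, hz, rfl⟩, rfl⟩)
    have heq := R.3 ((P.2.comap_subtype (K := N)).comap_subtype (K := C.subgroupOf N)) hle
    have hmem : (⟨⟨x, hCN hxC⟩, hxC⟩ : ↥(C.subgroupOf N)) ∈ (R : Subgroup _) :=
      (SetLike.ext_iff.mp heq _).mp hx
    exact le_sup_right (a := Q) ⟨_, ⟨_, hmem, rfl⟩, rfl⟩

/-- If a finite group has more than `|G|_π / 2` classes of `π`-elements, `2 ∈ π`, then it has a
normal `π`-complement and an abelian Hall subgroup for `π` without `2`. -/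
theorem result {G : Type*} [Group G] [Finite G] (π : Finset ℕ) (hπ : ∀ r ∈ π, r.Prime) (h2 : 2 ∈ π)
    (hk : π.prod (fun r => r ^ (Nat.card G).factorization r) < 2 * Nat.card {c : ConjClasses G // ∀ x ∈ c.carrier, ∀ r : ℕ, r.Prime → r ∣ orderOf x → r ∈ π}) :
    (∃ N : Subgroup G, N.Normal ∧ (∀ r : ℕ, r.Prime → r ∣ Nat.card ↥N → r ∉ π) ∧ ∀ r : ℕ, r.Prime → r ∣ N.index → r ∈ π) ∧ ∃ H : Subgroup G, Cfsg.IsPiHall ((↑π : Set ℕ) \ {2}) H ∧ IsMulCommutative ↥H := by
  classical
  set ρ := π.erase 2 with hρdef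
  have hρ : ∀ r ∈ ρ, r.Prime := fun r hr => hπ r (Finset.mem_of_mem_erase hr)
  have htwo : ∀ r ∈ ({2} : Finset ℕ), r.Prime := fun r hr => Finset.mem_singleton.mp hr ▸ Nat.prime_two
  have hunion : π = {2} ∪ ρ := by rw [← Finset.insert_eq, Finset.insert_erase h2]
  have hsplit : part π G = part {2} G * part ρ G := by
    rw [part, part, part, Finset.prod_singleton, hρdef]
    exact (Finset.mul_prod_erase π (fun r => r ^ (Nat.card G).factorization r) h2).symm
  change part π G < _ at hk
  -- normal 2-complement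
  have hcompl : Cfsg.HasNormalPComplement 2 G := by
    by_contra hcon
    obtain ⟨P, hP⟩ := exists_sylow_half hcon
    obtain ⟨X, hXc, hX⟩ := exists_reps (P : Subgroup G)
    have hle := card_classes_le htwo hρ hunion X fun x hx => by
      have hp : IsPGroup 2 (Subgroup.zpowers x) := by
        refine IsPGroup.of_card (n := (orderOf x).primeFactorsList.length) ?_
        rw [Nat.card_zpowers]
        exact Nat.eq_prime_pow_of_unique_prime_dvd (orderOf_pos x).ne'
          fun {q} hq hd => Finset.mem_singleton.mp (hx q hq hd)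
      obtain ⟨h, hh⟩ := CfsgLib.Transfer.exists_map_conj_le_sylow hp P
      obtain ⟨h₁, hh₁⟩ := hX _ (hh (Subgroup.mem_map_of_mem _ (Subgroup.mem_zpowers x)))
      refine ⟨h₁ * h, ?_⟩
      convert hh₁ using 1
      simp only [MulEquiv.coe_toMonoidHom, MulAut.conj_apply]
      group
    have hPc : Nat.card (P : Subgroup G) = part {2} G := by
      rw [part, Finset.prod_singleton, P.card_eq_multiplicity]
    rw [hXc] at hle
    rw [hsplit, ← hPc] at hk
    nlinarith [Nat.mul_le_mul_right (part ρ G) hP]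
  obtain ⟨P, N, hN, hNP⟩ := hcompl
  haveI := hN
  have hNcard : Nat.card N = (P : Subgroup G).index := hNP.index_eq_card.symm
  have hNidx : N.index = Nat.card (P : Subgroup G) := hNP.symm.index_eq_card
  have hNodd : Odd (Nat.card N) := by
    rw [hNcard, Nat.odd_iff]
    have := P.not_dvd_index
    omega
  haveI : Group.IsSolvable N := S0205.result hNodd
  haveI : Group.IsSolvable (G ⧸ N) := by
    haveI := (IsPGroup.of_card (n := (Nat.card G).factorization 2)
      (show Nat.card (G ⧸ N) = _ by rw [← Subgroup.index_eq_card, hNidx, P.card_eq_multiplicity])).isNilpotent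
    infer_instance
  haveI : Group.IsSolvable G := (Group.isSolvable_iff_subgroup_quotient N).mpr ⟨inferInstance, inferInstance⟩
  -- Hall subgroup
  obtain ⟨n, hGn, hcop, hnot⟩ := part_spec hπ G
  obtain ⟨H, hH⟩ := CfsgLib.Hall.exists_hall hGn hcop
  have hkH : Nat.card H < 2 * Nat.card (ConjClasses H) := by
    rw [hH]
    refine hk.trans_le (Nat.mul_le_mul_left 2 ?_)
    refine Nat.card_le_card_of_injective (fun c => ConjClasses.mk ((Classical.choose (show
      ∃ x : H, ConjClasses.mk (x : G) = c.1 from ?_)) : H)) ?_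
    · obtain ⟨g, hg⟩ := c.1.exists_rep
      obtain ⟨h, hh⟩ := CfsgLib.Hall.exists_conj_le hGn hcop hH (K := Subgroup.zpowers g) (by
        rw [Nat.card_zpowers]
        refine Nat.coprime_of_dvd fun q hq hqg hqn => hnot q hq hqn
          (c.2 g (hg ▸ ConjClasses.mem_carrier_mk) q hq hqg))
      obtain ⟨z, hz, hzg⟩ := hh (Subgroup.mem_zpowers g)
      refine ⟨⟨z, hz⟩, hg ▸ ConjClasses.mk_eq_mk_iff_isConj.mpr (isConj_iff.mpr ⟨h, ?_⟩)⟩
      simpa using hzg
    · intro c c' hcc
      refine Subtype.ext ?_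
      generalize_proofs h1 at hcc
      rw [← Classical.choose_spec (h1 c), ← Classical.choose_spec (h1 c')]
      exact ConjClasses.mk_eq_mk_iff_isConj.mpr
        (MonoidHom.map_isConj H.subtype (ConjClasses.mk_eq_mk_iff_isConj.mp hcc))
  have hH' : Nat.card (commutator H) ≤ 2 := card_commutator_le_two hkH
  set A := H ⊓ N with hA
  have hAcent : ∀ a ∈ A, ∀ y ∈ H, a * y = y * a := by
    intro a ha y hy
    have h1 : ⁅(⟨a, ha.1⟩ : H), (⟨y, hy⟩ : H)⁆ ∈ commutator H := by
      rw [commutator_eq_closure]; exact Subgroup.subset_closure ⟨_, _, rfl⟩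
    have h1' : orderOf ⁅a, y⁆ ∣ Nat.card (commutator H) := by
      have := Subgroup.orderOf_dvd_natCard _ h1
      rwa [← Subgroup.orderOf_coe] at this
    have hmemN : ⁅a, y⁆ ∈ N := by
      rw [commutatorElement_def, show a * y * a⁻¹ * y⁻¹ = a * (y * a⁻¹ * y⁻¹) by group]
      exact N.mul_mem ha.2 (hN.conj_mem _ (N.inv_mem ha.2) y)
    have h3 : Odd (orderOf ⁅a, y⁆) := hNodd.of_dvd_nat (Subgroup.orderOf_dvd_natCard _ hmemN)
    have h4 := (Nat.le_of_dvd Nat.card_pos h1').trans hH'
    have h5 := orderOf_pos ⁅a, y⁆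
    rw [Nat.odd_iff] at h3
    exact commutatorElement_eq_one_iff_mul_comm.mp (orderOf_eq_one_iff.mp (by omega))
  haveI hAcomm : IsMulCommutative A := ⟨⟨fun a b => Subtype.ext (hAcent a a.2 b b.2.1)⟩⟩
  -- order of A
  have hPcard : Nat.card (P : Subgroup G) = part {2} G := by
    rw [part, Finset.prod_singleton, P.card_eq_multiplicity]
  have hAodd : Odd (Nat.card A) := hNodd.of_dvd_nat (Subgroup.card_dvd_of_le inf_le_right)
  have hρodd : Odd (part ρ G) := by
    by_contra h
    rw [Nat.not_odd_iff_even, even_iff_two_dvd] at h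
    exact (Finset.mem_erase.mp (mem_of_prime_dvd_part hρ Nat.prime_two h)).1 rfl
  have hAcard : Nat.card A = part ρ G := by
    have h1 := (N.subgroupOf H).card_mul_index
    rw [hH, hsplit, show Nat.card (N.subgroupOf H) = Nat.card A by
      rw [← Subgroup.card_map_of_injective H.subtype_injective, Subgroup.subgroupOf_map_subtype,
        inf_comm]] at h1
    change Nat.card A * N.relIndex H = _ at h1
    obtain ⟨j, -, hj⟩ : ∃ j ≤ (Nat.card G).factorization 2, N.relIndex H = 2 ^ j :=
      (Nat.dvd_prime_pow Nat.prime_two).mp (by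
        have := Subgroup.relIndex_dvd_index_of_normal N H
        rwa [hNidx, P.card_eq_multiplicity] at this)
    rw [hj, part, Finset.prod_singleton] at h1
    refine Nat.dvd_antisymm
      ((hAodd.coprime_two_right.pow_right ((Nat.card G).factorization 2)).dvd_of_dvd_mul_left
        (Dvd.intro _ h1))
      ((hρodd.coprime_two_right.pow_right j).dvd_of_dvd_mul_right
        ⟨2 ^ (Nat.card G).factorization 2, ?_⟩)
    rw [h1, mul_comm]
  obtain ⟨n', hGn', hcop', hnot'⟩ := part_spec hρ G
  -- the normalizer of A in N centralizes A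
  have hburn : ∀ v ∈ N, v ∈ Subgroup.normalizer (A : Set G) → v ∈ Subgroup.centralizer (A : Set G) := by
    intro v hvN hvA
    refine CfsgLib.PrimaryParts.mem_of_primePow_parts fun y hy s e hs hye => ?_
    by_contra hyc
    have hyN : y ∈ N := Subgroup.zpowers_le.mpr hvN hy
    have hyA : y ∈ Subgroup.normalizer (A : Set G) := Subgroup.zpowers_le.mpr hvA hy
    have he : e ≠ 0 := by
      rintro rfl
      exact hyc (by rw [orderOf_eq_one_iff.mp (hye.trans (pow_zero s))]; exact Subgroup.one_mem _)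
    have hs2 : s ≠ 2 := by
      rintro rfl
      have h2' : 2 ∣ Nat.card N := ((dvd_pow_self 2 he).trans hye.symm.dvd).trans
        (Subgroup.orderOf_dvd_natCard _ hyN)
      exact (Nat.not_even_iff_odd.mpr hNodd) (even_iff_two_dvd.mpr h2')
    by_cases hsρ : s ∈ ρ
    · -- a `ρ`-element normalizing the Hall subgroup lies in it
      set M := Subgroup.normalizer (A : Set G)
      obtain ⟨m, hm⟩ := Subgroup.card_dvd_of_le (Subgroup.le_normalizer (H := A))
      have hcm : (Nat.card A).Coprime m := by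
        refine hAcard ▸ hcop'.coprime_dvd_right ?_
        have hd : Nat.card M ∣ Nat.card G := M.card_subgroup_dvd_card
        rw [hm, hAcard, hGn'] at hd
        exact Nat.dvd_of_mul_dvd_mul_left (part_pos hρ G) hd
      obtain ⟨h, hh⟩ := CfsgLib.Hall.exists_conj_le (G := M) hm hcm (H := A.subgroupOf M)
        (Nat.card_congr (Subgroup.subgroupOfEquivOfLe Subgroup.le_normalizer).toEquiv)
        (K := Subgroup.zpowers ⟨y, hyA⟩) (by
          rw [Nat.card_zpowers, Subgroup.orderOf_mk, hye]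
          refine Nat.Coprime.pow_left _ (hs.coprime_iff_not_dvd.mpr fun hd => ?_)
          have : s ∣ Nat.card A := hAcard ▸ (dvd_pow_self s (show (Nat.card G).factorization s ≠ 0 from
            (hs.factorization_pos_of_dvd Nat.card_pos.ne'
              ((dvd_pow_self s he).trans (hye.symm.dvd.trans (orderOf_dvd_natCard y)))).ne')).trans
              (Finset.dvd_prod_of_mem (fun r => r ^ (Nat.card G).factorization r) hsρ)
          exact hs.ne_one (Nat.eq_one_of_dvd_coprimes hcm this hd))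
      haveI : (A.subgroupOf M).Normal := Subgroup.normal_in_normalizer
      rw [Subgroup.Normal.conj_smul_eq_self] at hh
      have hya : y ∈ A := hh (Subgroup.mem_zpowers _)
      exact hyc (Subgroup.mem_centralizer_iff.mpr fun a ha => (hAcent y hya a (ha : a ∈ A).1).symm)
    · obtain ⟨X, hXc, hX⟩ := exists_reps A
      have h1 := two_mul_card_range_le A A le_rfl hyA hyc hs hs2 hye
        (fun hd => hsρ (mem_of_prime_dvd_part hρ hs (hAcard ▸ hd))) (fun x hx _ => hx)
      have hle := card_classes_le hρ htwo (hunion.trans (Finset.union_comm _ _)) X fun x hx => by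
        obtain ⟨h, hh⟩ := CfsgLib.Hall.exists_conj_le hGn' hcop' hAcard (K := Subgroup.zpowers x) (by
          rw [Nat.card_zpowers]
          exact Nat.coprime_of_dvd fun q hq hqx hqn => hnot' q hq hqn (hx q hq hqx))
        obtain ⟨z, hz, hzx⟩ := hh (Subgroup.mem_zpowers x)
        obtain ⟨h₁, hh₁⟩ := hX z hz
        refine ⟨h₁ * h⁻¹, ?_⟩
        convert hh₁ using 1
        rw [← hzx]
        simp only [MulDistribMulAction.toMonoidEnd_apply, MulDistribMulAction.toMonoidHom_apply,
          MulAut.smul_def, MulAut.conj_apply]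
        group
      rw [hXc] at hle
      rw [hsplit, ← hAcard] at hk
      nlinarith [Nat.mul_le_mul_right (part {2} G) h1]
  -- complement in N
  have hAN : A ≤ N := inf_le_right
  have hA'card : Nat.card (A.subgroupOf N) = Nat.card A :=
    Nat.card_congr (Subgroup.subgroupOfEquivOfLe hAN).toEquiv
  have hA'idx : (A.subgroupOf N).index ∣ n' := by
    have h1 : Nat.card A * (A.subgroupOf N).index = Nat.card N := by
      rw [← hA'card, Subgroup.card_mul_index]
    have h2' := N.card_subgroup_dvd_card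
    rw [← h1, hAcard, hGn'] at h2'
    exact Nat.dvd_of_mul_dvd_mul_left (part_pos hρ G) h2'
  obtain ⟨K, hKn, hKA⟩ := CfsgLib.Transfer.exists_normal_complement_of_hall_central (A.subgroupOf N)
    (by rw [hA'card, hAcard]; exact hcop'.coprime_dvd_right hA'idx)
    (fun x hx => Subgroup.mem_centralizer_iff.mpr fun a ha => Subtype.ext
      (Subgroup.mem_centralizer_iff.mp (hburn x x.2 (CfsgLib.PrimaryParts.mem_normalizer_of_conj_mem
        fun w hw => by
          simpa [Subgroup.mem_subgroupOf] using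
            (Subgroup.mem_normalizer_iff.mp hx ⟨w, hAN hw⟩).mp hw)) _ ha))
  haveI := hKn
  set M := K.map N.subtype
  have hMcard : Nat.card M = Nat.card K := Subgroup.card_map_of_injective N.subtype_injective
  have hKcard : Nat.card K = (A.subgroupOf N).index := hKA.index_eq_card.symm
  have hKidx : K.index = Nat.card A := hKA.symm.index_eq_card.trans hA'card
  have hMπ : ∀ r : ℕ, r.Prime → r ∣ Nat.card M → r ∉ π := by
    intro r hr hd hrπ
    rw [hMcard, hKcard] at hd
    rcases Finset.mem_union.mp (hunion ▸ hrπ) with h | h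
    · rw [Finset.mem_singleton] at h
      subst h
      have h2' : 2 ∣ Nat.card N := hd.trans ((A.subgroupOf N).index_dvd_card)
      exact (Nat.not_even_iff_odd.mpr hNodd) (even_iff_two_dvd.mpr h2')
    · exact hnot' r hr (hd.trans hA'idx) h
  have hMnormal : M.Normal := by
    refine ⟨fun x hx g => ?_⟩
    obtain ⟨k, hk, rfl⟩ := hx
    have hgN : g * (k : G) * g⁻¹ ∈ N := hN.conj_mem _ k.2 g
    refine ⟨⟨_, hgN⟩, (QuotientGroup.eq_one_iff _).mp (orderOf_eq_one_iff.mp ?_), rfl⟩
    refine Nat.eq_one_of_dvd_coprimes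
      (show (Nat.card A).Coprime (Nat.card K) by rw [hKcard, hAcard]; exact hcop'.coprime_dvd_right hA'idx) ?_ ?_
    · rw [← hKidx]; exact orderOf_dvd_natCard _
    · refine (orderOf_map_dvd (QuotientGroup.mk' K) _).trans ?_
      rw [Subgroup.orderOf_mk, orderOf_conj, Subgroup.orderOf_coe]
      exact Subgroup.orderOf_dvd_natCard _ hk
  have hMidx : M.index = Nat.card A * Nat.card (P : Subgroup G) := by
    rw [Subgroup.index_map_subtype, hKidx, hNidx]
  refine ⟨⟨M, hMnormal, hMπ, fun r hr hd => ?_⟩, A, ⟨fun p hp hd => ?_, fun p hp hpπ hd => ?_⟩, hAcomm⟩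
  · rw [hMidx, hAcard, hPcard, mul_comm, ← hsplit] at hd
    exact mem_of_prime_dvd_part hπ hr hd
  · rw [hAcard] at hd
    have := mem_of_prime_dvd_part hρ hp hd
    rw [hρdef, Finset.mem_erase] at this
    exact ⟨this.2, this.1⟩
  · refine hnot' p hp ?_ (Finset.mem_erase.mpr ⟨hpπ.2, hpπ.1⟩)
    have h1 := A.card_mul_index
    rw [hAcard, hGn'] at h1
    exact (Nat.eq_of_mul_eq_mul_left (part_pos hρ G) h1) ▸ hd

end Cfsg.Agent.S3898
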