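import Cfsg.Statements.S3899
import Cfsg.Agent.S3897
import Cfsg.Agent.S3898

set_option autoImplicit false
set_option linter.style.haveILetI false
open Cfsg
open scoped commutatorElement

namespace Cfsg.Agent.S3899

open Cfsg.Agent.S3898 (PiEl part part_spec card_classes_le mem_of_prime_dvd_part)

/-- If a finite group has more than `(p + 1) / (2 p) · |G|_π` classes of `π`-elements, `π` odd with
least prime `p`, then it has a normal `π`-complement and an abelian Hall `π`-subgroup. -/
theorem result {G : Type*} [Group G] [Finite G] (π : Finset ℕ) (hπ : ∀ r ∈ π, r.Prime) (h2 : 2 ∉ π) (p : ℕ) (hp : p ∈ π)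
    (hmin : ∀ r ∈ π, p ≤ r) (hk : (p + 1) * π.prod (fun r => r ^ (Nat.card G).factorization r) < 2 * p * Nat.card {c : ConjClasses G // ∀ x ∈ c.carrier, ∀ r : ℕ, r.Prime → r ∣ orderOf x → r ∈ π}) :
    (∃ N : Subgroup G, N.Normal ∧ (∀ r : ℕ, r.Prime → r ∣ Nat.card ↥N → r ∉ π) ∧ ∀ r : ℕ, r.Prime → r ∣ N.index → r ∈ π) ∧ ∃ H : Subgroup G, Cfsg.IsPiHall (↑π : Set ℕ) H ∧ IsMulCommutative ↥H := by
  classical
  set k := Nat.card {c : ConjClasses G // ∀ x ∈ c.carrier, ∀ r : ℕ, r.Prime → r ∣ orderOf x → r ∈ π}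
  have key : ∀ r : {r // r ∈ π}, ∃ N : Subgroup G, N.Normal ∧ ¬ r.1 ∣ Nat.card N ∧
      N.index = r.1 ^ (Nat.card G).factorization r.1 ∧ ∀ a b : G, ⁅a, b⁆ ∈ N := by
    rintro ⟨r, hr⟩
    haveI := Fact.mk (hπ r hr)
    have hr2 : r ≠ 2 := fun h => h2 (h ▸ hr)
    obtain ⟨P⟩ := (inferInstance : Nonempty (Sylow r G))
    by_cases hgood : (r + 1) * Nat.card (P : Subgroup G) <
        2 * r * Nat.card {c : ConjClasses G // ∀ x ∈ c.carrier, ∃ k : ℕ, orderOf x = r ^ k}
    · obtain ⟨⟨Q, N, hN, hNQ⟩, hab⟩ := (S3897.result hr2 P).mp hgood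
      haveI := hN
      obtain ⟨g, hg⟩ := CfsgLib.Transfer.exists_map_conj_sylow_eq P Q
      haveI : IsMulCommutative (Q : Subgroup G) := by
        haveI := hab; rw [← hg]; infer_instance
      refine ⟨N, hN, ?_, ?_, fun a b => ?_⟩
      · rw [← hNQ.index_eq_card]; exact Q.not_dvd_index
      · rw [hNQ.symm.index_eq_card, Q.card_eq_multiplicity]
      · have hq : ∀ z : G, ∃ q : (Q : Subgroup G), QuotientGroup.mk' N (q : G) = QuotientGroup.mk' N z := by
          intro z
          obtain ⟨n, hn, q, hq, e⟩ := Subgroup.mem_sup_of_normal_left.mp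
            (hNQ.sup_eq_top ▸ Subgroup.mem_top z : z ∈ N ⊔ (Q : Subgroup G))
          refine ⟨⟨q, hq⟩, ?_⟩
          rw [← e, map_mul, show QuotientGroup.mk' N n = 1 from (QuotientGroup.eq_one_iff n).mpr hn, one_mul]
        obtain ⟨u, hu⟩ := hq a
        obtain ⟨v, hv⟩ := hq b
        refine (QuotientGroup.eq_one_iff _).mp ?_
        show QuotientGroup.mk' N ⁅a, b⁆ = 1
        rw [map_commutatorElement, ← hu, ← hv, commutatorElement_eq_one_iff_mul_comm, ← map_mul, ← map_mul,
          ← Subgroup.coe_mul, mul_comm' u v, Subgroup.coe_mul]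
    · exfalso
      -- a covering set of the `r`-elements
      set R := {c : ConjClasses G // ∀ x ∈ c.carrier, ∃ k : ℕ, orderOf x = r ^ k}
      haveI := Fintype.ofFinite R
      choose f hf using fun c : R => c.1.exists_rep
      have hρ : ∀ q ∈ ({r} : Finset ℕ), q.Prime := fun q hq => Finset.mem_singleton.mp hq ▸ hπ r hr
      have hle := card_classes_le (σ := π.erase r) hρ (fun q hq => hπ q (Finset.mem_of_mem_erase hq))
        (by rw [← Finset.insert_eq, Finset.insert_erase hr] : π = {r} ∪ π.erase r)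
        ((Finset.univ : Finset R).image f) fun x hx => by
          have hc : ∀ y ∈ (ConjClasses.mk x).carrier, ∃ k : ℕ, orderOf y = r ^ k := by
            intro y hy
            obtain ⟨g, hg⟩ := isConj_iff.mp (ConjClasses.mk_eq_mk_iff_isConj.mp
              (ConjClasses.mem_carrier_iff_mk_eq.mp hy))
            refine ⟨_, Nat.eq_prime_pow_of_unique_prime_dvd (orderOf_pos y).ne' fun {q} hq hd =>
              Finset.mem_singleton.mp (hx q hq ?_)⟩
            rwa [← hg, CfsgLib.Transfer.orderOf_conj]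
          obtain ⟨g, hg⟩ := isConj_iff.mp
            (ConjClasses.mk_eq_mk_iff_isConj.mp (hf ⟨ConjClasses.mk x, hc⟩).symm)
          exact ⟨g, hg ▸ Finset.mem_image_of_mem _ (Finset.mem_univ _)⟩
      have hX : ((Finset.univ : Finset R).image f).card ≤ Nat.card R := by
        rw [Nat.card_eq_fintype_card, ← Finset.card_univ]; exact Finset.card_image_le
      have hsplit : r ^ (Nat.card G).factorization r * part (π.erase r) G =
          π.prod (fun r => r ^ (Nat.card G).factorization r) :=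
        Finset.mul_prod_erase π (fun r => r ^ (Nat.card G).factorization r) hr
      rw [P.card_eq_multiplicity, not_lt] at hgood
      change _ < 2 * p * k at hk
      rw [← hsplit] at hk
      set A := r ^ (Nat.card G).factorization r
      set B := part (π.erase r) G
      have hk1 : k ≤ Nat.card R * B := hle.trans (Nat.mul_le_mul_right _ hX)
      have hpr : p ≤ r := hmin r hr
      have h1 : r * ((p + 1) * (A * B)) < r * (2 * p * (Nat.card R * B)) :=
        Nat.mul_lt_mul_of_pos_left (hk.trans_le (Nat.mul_le_mul_left _ hk1)) (hπ r hr).pos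
      have h2' : p * B * (2 * r * Nat.card R) ≤ p * B * ((r + 1) * A) := Nat.mul_le_mul_left _ hgood
      nlinarith [Nat.mul_le_mul_right (A * B) hpr]
  choose N hNn hNr hNi hNc using key
  set M := ⨅ r : {r // r ∈ π}, N r with hM
  haveI hMn : M.Normal := Subgroup.normal_iInf_normal hNn
  have hMcard : ∀ r : ℕ, r.Prime → r ∣ Nat.card M → r ∉ π := fun r _ hd hrπ =>
    hNr ⟨r, hrπ⟩ (hd.trans (Subgroup.card_dvd_of_le (iInf_le N ⟨r, hrπ⟩)))
  have hMidx : ∀ q : ℕ, q.Prime → q ∣ M.index → q ∈ π := by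
    intro q hq hd
    haveI := Fact.mk hq
    rw [Subgroup.index_eq_card] at hd
    obtain ⟨z, hz⟩ := exists_prime_orderOf_dvd_card' q hd
    obtain ⟨g, rfl⟩ := QuotientGroup.mk'_surjective M z
    have hpow : g ^ part π G ∈ M := by
      refine Subgroup.mem_iInf.mpr fun r => ?_
      haveI := hNn r
      obtain ⟨c, hc⟩ : (N r).index ∣ part π G := by
        rw [hNi r]; exact Finset.dvd_prod_of_mem (fun r => r ^ (Nat.card G).factorization r) r.2
      rw [hc, pow_mul]
      exact Subgroup.pow_mem _ (Subgroup.pow_index_mem (N r) g) _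
    have h1 : QuotientGroup.mk' M g ^ part π G = 1 := by
      rw [← map_pow]; exact (QuotientGroup.eq_one_iff _).mpr hpow
    exact mem_of_prime_dvd_part hπ hq (hz ▸ orderOf_dvd_of_pow_eq_one h1)
  refine ⟨⟨M, hMn, hMcard, hMidx⟩, ?_⟩
  obtain ⟨H, hH⟩ := Subgroup.exists_right_complement'_of_coprime (N := M)
    (Nat.coprime_of_dvd fun q hq h1 h2 => hMcard q hq h1 (hMidx q hq h2))
  refine ⟨H, ⟨fun q hq hd => ?_, fun q hq hqπ hd => ?_⟩, ⟨⟨fun a b => ?_⟩⟩⟩
  · rw [← hH.symm.index_eq_card] at hd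
    exact hMidx q hq hd
  · rw [hH.index_eq_card] at hd
    exact hMcard q hq hd hqπ
  · have h1 : ⁅(a : G), (b : G)⁆ ∈ M ⊓ H :=
      ⟨Subgroup.mem_iInf.mpr fun r => hNc r _ _, by
        rw [commutatorElement_def]
        exact H.mul_mem (H.mul_mem (H.mul_mem a.2 b.2) (H.inv_mem a.2)) (H.inv_mem b.2)⟩
    rw [hH.disjoint.eq_bot, Subgroup.mem_bot] at h1
    exact Subtype.ext (commutatorElement_eq_one_iff_mul_comm.mp h1)

end Cfsg.Agent.S3899
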