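import Cfsg.Statements.S3900
import Cfsg.Agent.Lib.Baer.Basic
import Cfsg.Agent.Lib.Fitting.Basic
import Cfsg.Agent.Lib.PSolvable.Core
import Cfsg.Agent.Lib.Layer.Radical
import Cfsg.Agent.Lib.Transfer.Frobenius
import Cfsg.Agent.Lib.OddOrder.Solvable

set_option autoImplicit false
open Cfsg

namespace Cfsg.Agent.S3900

open scoped commutatorElement
open Pointwise in
/-- The left-normed commutator values with `j + 1` entries. -/
def Vl {G : Type*} [Group G] (j : ℕ) (x : G) : Prop :=
  ∃ (a : G) (L : List G), L.length = j ∧ L.foldl (fun a b => a * b * a⁻¹ * b⁻¹) a = x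

/-- Iterated commutator. -/
def iter {G : Type*} [Group G] (g : G) : ℕ → G → G
  | 0, v => v
  | j + 1, v => ⁅iter g j v, g⁆

section values

variable {G : Type*} [Group G]

theorem vl_step {j : ℕ} {x : G} (hx : Vl j x) (g : G) : Vl (j + 1) ⁅x, g⁆ := by
  obtain ⟨a, L, hL, rfl⟩ := hx
  exact ⟨a, L ++ [g], by simp [hL], by rw [List.foldl_append]; simp [commutatorElement_def]⟩

theorem vl_pred {j : ℕ} {x : G} (hx : Vl (j + 1) x) : Vl j x := by
  obtain ⟨a, L, hL, rfl⟩ := hx
  match L, hL with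
  | b :: L, hL => exact ⟨a * b * a⁻¹ * b⁻¹, L, by simpa using hL, rfl⟩

theorem vl_comm {j : ℕ} {x : G} (hx : Vl j x) (g : G) : Vl j ⁅x, g⁆ := vl_pred (vl_step hx g)

theorem vl_conj {j : ℕ} {x : G} (hx : Vl j x) (u : G) : Vl j (u * x * u⁻¹) := by
  obtain ⟨a, L, hL, rfl⟩ := hx
  refine ⟨u * a * u⁻¹, L.map fun b => u * b * u⁻¹, by simp [hL], ?_⟩
  clear hL
  induction L generalizing a with
  | nil => rfl
  | cons b L ih =>
    simp only [List.map_cons, List.foldl_cons]
    rw [← ih]
    congr 1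
    group

theorem vl_iter (g v : G) : ∀ j, Vl j (iter g j v)
  | 0 => ⟨v, [], rfl, rfl⟩
  | j + 1 => vl_step (vl_iter g v j) g

theorem vl_mem_lcs {H : Subgroup G} (j : ℕ) (a : G) (L : List G) (hL : L.length = j) (ha : a ∈ H)
    (hLH : ∀ b ∈ L, b ∈ H) : L.foldl (fun a b => a * b * a⁻¹ * b⁻¹) a ∈ H.lowerCentralSeries j := by
  induction L using List.reverseRecOn generalizing j with
  | nil => subst hL; exact ha
  | append_singleton L b ih =>
    simp only [List.length_append, List.length_cons, List.length_nil] at hL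
    subst hL
    rw [List.foldl_append]
    exact Subgroup.commutator_mem_commutator (ih L.length rfl fun c hc => hLH c (by simp [hc]))
      (hLH b (by simp))

theorem iter_mem {V : Subgroup G} {g v : G} (hg : g ∈ Subgroup.normalizer (V : Set G)) (hv : v ∈ V) :
    ∀ j, iter g j v ∈ V
  | 0 => hv
  | j + 1 => by
    have h := iter_mem hg hv j
    show ⁅iter g j v, g⁆ ∈ V
    rw [commutatorElement_def, mul_assoc, mul_assoc]
    refine mul_mem h ?_
    rw [← mul_assoc]
    exact (Subgroup.mem_normalizer_iff.mp hg _).mp (inv_mem h)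

theorem iter_mem_lcs {H : Subgroup G} {g v : G} (hg : g ∈ H) (hv : v ∈ H) :
    ∀ j, iter g j v ∈ H.lowerCentralSeries j
  | 0 => hv
  | j + 1 => Subgroup.commutator_mem_commutator (iter_mem_lcs hg hv j) hg

theorem map_iter {K : Type*} [Group K] (f : G →* K) (g v : G) :
    ∀ j, f (iter g j v) = iter (f g) j (f v)
  | 0 => rfl
  | j + 1 => by show f ⁅iter g j v, g⁆ = ⁅_, f g⁆; rw [map_commutatorElement, map_iter f g v j]

end values

section general

variable {G : Type*} [Group G] [Finite G]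

/-- An element lies in a subgroup containing its parts of prime power order. -/
theorem mem_of_parts (K : Subgroup G) (e : G)
    (h : ∀ q n : ℕ, q.Prime → q ∣ orderOf e → ∀ f ∈ Subgroup.zpowers e, orderOf f = q ^ n → f ∈ K) :
    e ∈ K := by
  have hdvd : orderOf e ∣ Nat.card ↥(K ⊓ Subgroup.zpowers e) := by
    refine (Nat.dvd_iff_prime_pow_dvd_dvd _ _).mpr fun q n hq hqn => ?_
    rcases Nat.eq_zero_or_pos n with rfl | hn
    · simp
    have hf : orderOf (e ^ (orderOf e / q ^ n)) = q ^ n :=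
      orderOf_pow_orderOf_div (orderOf_pos e).ne' hqn
    have hmem : e ^ (orderOf e / q ^ n) ∈ K ⊓ Subgroup.zpowers e :=
      ⟨h q n hq ((dvd_pow_self q hn.ne').trans hqn) _ (pow_mem (Subgroup.mem_zpowers e) _) hf,
        pow_mem (Subgroup.mem_zpowers e) _⟩
    rw [← hf, ← Subgroup.orderOf_mk (H := K ⊓ Subgroup.zpowers e) _ hmem]
    exact orderOf_dvd_natCard _
  have heq : K ⊓ Subgroup.zpowers e = Subgroup.zpowers e :=
    Subgroup.eq_of_le_of_card_ge inf_le_right
      (by rw [Nat.card_zpowers]; exact Nat.le_of_dvd Nat.card_pos hdvd)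
  exact (heq.ge (Subgroup.mem_zpowers e)).1

/-- A `q`-element of a nilpotent normal subgroup lies in the `q`-core. -/
theorem mem_pCore_of_nilpotent {N : Subgroup G} [N.Normal] (hN : Group.IsNilpotent N) {q n : ℕ}
    [Fact q.Prime] {f : G} (hf : f ∈ N) (hn : orderOf f = q ^ n) : f ∈ Cfsg.pCore q G := by
  obtain ⟨Q⟩ := (inferInstance : Nonempty (Sylow q N))
  haveI := hN
  haveI hQn : (Q : Subgroup N).Normal := inferInstance
  haveI := Q.characteristic_of_normal hQn
  have hf' : (⟨f, hf⟩ : N) ∈ (Q : Subgroup N) := by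
    have hp : IsPGroup q (Subgroup.zpowers (⟨f, hf⟩ : N)) :=
      IsPGroup.of_card (n := n) (by rw [Nat.card_zpowers, Subgroup.orderOf_mk, hn])
    obtain ⟨Q', hQ'⟩ := hp.exists_le_sylow
    have : (Q' : Subgroup N) ≤ (Q : Subgroup N) := (Q.3 Q'.2 (IsPGroup.le_sylow_of_normal Q.2 Q')).le
    exact this (hQ' (Subgroup.mem_zpowers _))
  exact CfsgLib.Fitting.le_pCore ConjAct.normal_of_characteristic_of_normal (Q.2.map N.subtype)
    ⟨_, hf', rfl⟩

/-- Elements of coprime order in a nilpotent normal subgroup commute. -/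
theorem commute_of_coprime_nilpotent {N : Subgroup G} [N.Normal] (hN : Group.IsNilpotent N)
    {x y : G} (hx : x ∈ N) (hy : y ∈ N) (hc : (orderOf x).Coprime (orderOf y)) : Commute x y := by
  have key : x ∈ Subgroup.centralizer ({y} : Set G) := by
    refine mem_of_parts _ x fun q n hq hqx f hf hfn => ?_
    haveI : Fact q.Prime := ⟨hq⟩
    suffices y ∈ Subgroup.centralizer ({f} : Set G) from
      Subgroup.mem_centralizer_singleton_iff.mpr (Subgroup.mem_centralizer_singleton_iff.mp this).symm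
    refine mem_of_parts _ y fun r m hr hry f' hf' hfm => ?_
    haveI : Fact r.Prime := ⟨hr⟩
    have hne : q ≠ r := fun e => hq.ne_one (Nat.eq_one_of_dvd_coprimes hc hqx (e ▸ hry))
    have h1 := mem_pCore_of_nilpotent hN ((Subgroup.zpowers_le.mpr hx) hf) hfn
    have h2 := mem_pCore_of_nilpotent hN ((Subgroup.zpowers_le.mpr hy) hf') hfm
    haveI := CfsgLib.Fitting.pCore_normal (G := G) q
    haveI := CfsgLib.Fitting.pCore_normal (G := G) r
    exact Subgroup.mem_centralizer_singleton_iff.mpr (Subgroup.commute_of_normal_of_disjoint _ _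
      inferInstance inferInstance (IsPGroup.disjoint_of_ne q r hne _ _
        (CfsgLib.Fitting.pCore_isPGroup q) (CfsgLib.Fitting.pCore_isPGroup r)) f f' h1 h2).symm.eq
  exact Subgroup.mem_centralizer_singleton_iff.mp key

/-- A normal subgroup whose elements have `p`-power in the central part is nilpotent. -/
theorem le_fitting_of_central {D : Subgroup G} [D.Normal] {p : ℕ} [hp : Fact p.Prime]
    (h : ∀ d ∈ D, ∃ a : ℕ, ∀ u ∈ D, Commute (d ^ p ^ a) u) : D ≤ Cfsg.fittingSubgroup G := by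
  refine CfsgLib.Fitting.le_fittingSubgroup inferInstance ?_
  refine Group.of_quotient_center_nilpotent ?_
  have : IsPGroup p (D ⧸ Subgroup.center D) := by
    intro w
    obtain ⟨d, rfl⟩ := QuotientGroup.mk'_surjective _ w
    obtain ⟨a, ha⟩ := h d d.2
    refine ⟨a, ?_⟩
    rw [← map_pow, QuotientGroup.mk'_apply, QuotientGroup.eq_one_iff, Subgroup.mem_center_iff]
    exact fun u => Subtype.ext (by
      rw [Subgroup.coe_mul, Subgroup.coe_mul, Subgroup.coe_pow]; exact (ha u u.2).symm.eq)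
  exact this.isNilpotent

/-- The centralizer of the `q`-cores for the primes `q ≠ p`. -/
def offCent (p : ℕ) (G : Type*) [Group G] : Subgroup G :=
  ⨅ q : {q : ℕ // q.Prime ∧ q ≠ p}, Subgroup.centralizer (Cfsg.pCore (q : ℕ) G : Set G)

omit [Finite G] in
theorem offCent_normal (p : ℕ) : (offCent p G).Normal :=
  Subgroup.normal_iInf_normal fun q => by
    haveI := CfsgLib.Fitting.pCore_normal (G := G) (q : ℕ)
    infer_instance

/-- In `offCent`, the `p'`-elements of the Fitting subgroup are central. -/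
theorem commute_offCent {p : ℕ} {e u : G} (he : e ∈ Cfsg.fittingSubgroup G) (hep : ¬ p ∣ orderOf e)
    (hu : u ∈ offCent p G) : Commute e u := by
  refine (Subgroup.mem_centralizer_singleton_iff.mp (mem_of_parts _ e fun q n hq hqe f hf hfn => ?_) :)
  haveI : Fact q.Prime := ⟨hq⟩
  haveI := CfsgLib.Fitting.fittingSubgroup_normal (G := G)
  have h1 := mem_pCore_of_nilpotent (CfsgLib.Fitting.fittingSubgroup_isNilpotent)
    ((Subgroup.zpowers_le.mpr he) hf) hfn
  have h2 := (Subgroup.mem_iInf.mp hu) ⟨q, hq, fun e => hep (e ▸ hqe)⟩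
  exact Subgroup.mem_centralizer_singleton_iff.mpr (h2 f h1)

theorem exists_pow_coprime (p : ℕ) [hp : Fact p.Prime] (e : G) :
    ∃ b : ℕ, ¬ p ∣ orderOf (e ^ p ^ b) := by
  refine ⟨(orderOf e).factorization p, ?_⟩
  rw [orderOf_pow_of_dvd (pow_ne_zero _ hp.out.ne_zero) (Nat.ordProj_dvd _ _)]
  exact Nat.not_dvd_ordCompl hp.out (orderOf_pos e).ne'

/-- The part of `offCent p` that is a `p`-group modulo the Fitting subgroup lies in it. -/
theorem offCent_inf_le {p : ℕ} [Fact p.Prime] {M : Subgroup G} [M.Normal]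
    (hM : ∀ d ∈ M, d ∈ offCent p G → ∃ a : ℕ, d ^ p ^ a ∈ Cfsg.fittingSubgroup G) :
    offCent p G ⊓ M ≤ Cfsg.fittingSubgroup G := by
  haveI := offCent_normal (G := G) p
  refine le_fitting_of_central (p := p) fun d hd => ?_
  obtain ⟨a, ha⟩ := hM d hd.2 hd.1
  obtain ⟨b, hb⟩ := exists_pow_coprime p (d ^ p ^ a)
  refine ⟨a + b, fun u hu => ?_⟩
  rw [pow_add, pow_mul]
  exact commute_offCent (pow_mem ha _) hb hu.1

/-- Coprime action: an iterated commutator vanishing means commuting. -/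
theorem commute_of_iter {p : ℕ} {V : Subgroup G} (hV : IsPGroup p V) {g : G}
    (hg : g ∈ Subgroup.normalizer (V : Set G)) (hcop : (orderOf g).Coprime p) :
    ∀ j, ∀ v ∈ V, iter g j v = 1 → Commute v g := by
  intro j
  induction j with
  | zero =>
    intro v _ h
    rw [show v = 1 from h]
    exact Commute.one_left g
  | succ j ih =>
    intro v hv h
    match j, ih, h with
    | 0, _, h => exact commutatorElement_eq_one_iff_commute.mp h
    | j + 1, ih, h =>
      refine ih v hv ?_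
      set w := iter g j v with hw
      show ⁅w, g⁆ = 1
      have hc : Commute ⁅w, g⁆ g := commutatorElement_eq_one_iff_commute.mp h
      have hconj : w * g * w⁻¹ = ⁅w, g⁆ * g := by rw [commutatorElement_def]; group
      have h1 : ⁅w, g⁆ ^ orderOf g = 1 := by
        have h2 := congrArg (· ^ orderOf g) hconj
        simp only [conj_pow, pow_orderOf_eq_one, mul_one, mul_inv_cancel, hc.mul_pow] at h2
        exact h2.symm
      obtain ⟨a, ha⟩ := hV ⟨⁅w, g⁆, iter_mem hg hv (j + 1)⟩
      have h3 : ⁅w, g⁆ ^ p ^ a = 1 := congrArg Subtype.val ha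
      exact orderOf_eq_one_iff.mp (Nat.eq_one_of_dvd_coprimes ((hcop.pow_right a))
        (orderOf_dvd_of_pow_eq_one h1) (orderOf_dvd_of_pow_eq_one h3))

end general

/-- The hypothesis. -/
def Cond (k : ℕ) (G : Type*) [Group G] : Prop :=
  ∀ x y : G, Vl k x → Vl k y → (orderOf x).Coprime (orderOf y) →
    (∀ r : ℕ, r.Prime → r ∣ orderOf x * orderOf y → r ∣ orderOf (x * y)) ∨
      orderOf x * orderOf y ≤ orderOf (x * y)

variable {k : ℕ}

theorem cond_subgroup {G : Type*} [Group G] (h : Cond k G) (H : Subgroup G) : Cond k H := by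
  have hmap : ∀ x : H, Vl k x → Vl k (x : G) := by
    rintro x ⟨a, L, hL, rfl⟩
    refine ⟨(a : G), L.map Subtype.val, by simp [hL], ?_⟩
    clear hL
    induction L generalizing a with
    | nil => rfl
    | cons b L ih => simp only [List.map_cons, List.foldl_cons]; rw [← ih]; rfl
  intro x y hx hy hc
  have := h x y (hmap x hx) (hmap y hy) (by rwa [Subgroup.orderOf_coe, Subgroup.orderOf_coe])
  rwa [← Subgroup.coe_mul, Subgroup.orderOf_coe, Subgroup.orderOf_coe, Subgroup.orderOf_coe] at this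

/-- A value centralizes every subgroup of coprime order that it normalizes. -/
theorem kills {G : Type*} [Group G] [Finite G] (h : Cond k G) {x : G} (hx : Vl k x) {P : Subgroup G}
    (hxP : x ∈ Subgroup.normalizer (P : Set G)) (hcop : (orderOf x).Coprime (Nat.card P)) :
    x ∈ Subgroup.centralizer (P : Set G) := by
  intro u hu
  set y := ⁅x, u⁆ with hy
  have hyP : y ∈ P := by
    rw [hy, commutatorElement_def]
    exact mul_mem ((Subgroup.mem_normalizer_iff.mp hxP u).mp hu) (inv_mem hu)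
  have hprod : y * (u * x * u⁻¹) = x := by rw [hy, commutatorElement_def]; group
  have hox : orderOf (u * x * u⁻¹) = orderOf x := by
    rw [← MulAut.conj_apply]; exact MulEquiv.orderOf_eq _ x
  have hc : (orderOf y).Coprime (orderOf (u * x * u⁻¹)) := by
    rw [hox]
    refine hcop.symm.coprime_dvd_left ?_
    rw [← Subgroup.orderOf_mk (H := P) y hyP]
    exact orderOf_dvd_natCard _
  suffices y = 1 from ((commutatorElement_eq_one_iff_commute.mp this).eq).symm
  by_contra hne
  have h2 : 2 ≤ orderOf y := by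
    have := orderOf_pos y
    have : orderOf y ≠ 1 := fun e => hne (orderOf_eq_one_iff.mp e)
    omega
  rcases h y _ (vl_comm hx u) (vl_conj hx u) hc with h3 | h3
  · rw [hprod, hox] at h3
    obtain ⟨r, hr, hrd⟩ := Nat.exists_prime_and_dvd (n := orderOf y) (by omega)
    rw [hox] at hc
    exact hr.ne_one (Nat.eq_one_of_dvd_coprimes hc hrd (h3 r hr (dvd_mul_of_dvd_left hrd _)))
  · rw [hprod, hox] at h3
    have := orderOf_pos x
    nlinarith

/-- A value of prime power order centralizes the cores of the other primes. -/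
theorem vl_offCent {G : Type*} [Group G] [Finite G] (h : Cond k G) {x : G} (hx : Vl k x) {p n : ℕ}
    [Fact p.Prime] (hn : orderOf x = p ^ n) : x ∈ offCent p G := by
  refine Subgroup.mem_iInf.mpr fun q => ?_
  haveI : Fact (q : ℕ).Prime := ⟨q.2.1⟩
  haveI := CfsgLib.Fitting.pCore_normal (G := G) (q : ℕ)
  refine kills h hx (by rw [Subgroup.normalizer_eq_top]; trivial) ?_
  obtain ⟨m, hm⟩ := IsPGroup.iff_card.mp (CfsgLib.Fitting.pCore_isPGroup (G := G) (q : ℕ))
  rw [hn, hm]
  exact ((Nat.coprime_primes Fact.out q.2.1).mpr (Ne.symm q.2.2)).pow n m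

/-- The lower central series of a group generated by its cores. -/
theorem lcs_le_iSup {K : Type*} [Group K] [Finite K]
    (hgen : (⊤ : Subgroup K) ≤ ⨆ q : {q : ℕ // q.Prime}, Cfsg.pCore (q : ℕ) K) :
    ∀ j, (⊤ : Subgroup K).lowerCentralSeries j ≤
      ⨆ q : {q : ℕ // q.Prime}, (Cfsg.pCore (q : ℕ) K).lowerCentralSeries j := by
  intro j
  induction j with
  | zero => exact hgen
  | succ j ih =>
    show ⁅_, (⊤ : Subgroup K)⁆ ≤ _
    refine (Subgroup.commutator_mono ih hgen).trans ?_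
    set A := fun q : {q : ℕ // q.Prime} => (Cfsg.pCore (q : ℕ) K).lowerCentralSeries (j + 1)
    haveI hn : ∀ q : {q : ℕ // q.Prime}, (Cfsg.pCore (q : ℕ) K).Normal :=
      fun q => CfsgLib.Fitting.pCore_normal _
    have hAn : ∀ q, (A q).Normal := fun q => by
      show ((Cfsg.pCore (q : ℕ) K).lowerCentralSeries (j + 1)).Normal
      infer_instance
    haveI : (⨆ q, A q).Normal := Subgroup.sSup_normal _ (by rintro _ ⟨q, rfl⟩; exact hAn q)
    set N := ⨆ q, A q
    have hpair : ∀ q s : {q : ℕ // q.Prime},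
        ⁅(Cfsg.pCore (q : ℕ) K).lowerCentralSeries j, Cfsg.pCore (s : ℕ) K⁆ ≤ N := by
      intro q s
      rcases eq_or_ne q s with rfl | hne
      · exact le_iSup A q
      · refine le_trans (Subgroup.commutator_mono (Subgroup.lowerCentralSeries_antitone _ (Nat.zero_le j)) le_rfl) ?_
        refine (Subgroup.commutator_le_inf _ _).trans ?_
        haveI : Fact (q : ℕ).Prime := ⟨q.2⟩
        haveI : Fact (s : ℕ).Prime := ⟨s.2⟩
        rw [Subgroup.lowerCentralSeries_zero, (IsPGroup.disjoint_of_ne (q : ℕ) (s : ℕ) (fun e => hne (Subtype.ext e)) _ _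
          (CfsgLib.Fitting.pCore_isPGroup _) (CfsgLib.Fitting.pCore_isPGroup _)).eq_bot]
        exact bot_le
    have h1 : ∀ s : {q : ℕ // q.Prime}, Cfsg.pCore (s : ℕ) K ≤
        (Subgroup.centralizer ((⨆ q : {q : ℕ // q.Prime},
          (Cfsg.pCore (q : ℕ) K).lowerCentralSeries j).map (QuotientGroup.mk' N) :
            Set (K ⧸ N))).comap (QuotientGroup.mk' N) := by
      intro s o ho
      rw [Subgroup.mem_comap, Subgroup.map_iSup]
      have : (⨆ q : {q : ℕ // q.Prime}, ((Cfsg.pCore (q : ℕ) K).lowerCentralSeries j).map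
          (QuotientGroup.mk' N)) ≤ Subgroup.centralizer {QuotientGroup.mk' N o} := by
        refine iSup_le fun q => ?_
        rintro _ ⟨a, ha, rfl⟩
        rw [Subgroup.mem_centralizer_singleton_iff, ← commutatorElement_eq_one_iff_mul_comm,
          ← map_commutatorElement, QuotientGroup.mk'_apply, QuotientGroup.eq_one_iff]
        exact hpair q s (Subgroup.commutator_mem_commutator ha ho)
      exact fun c hc => Subgroup.mem_centralizer_singleton_iff.mp (this hc)
    rw [Subgroup.commutator_le]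
    intro a ha o ho
    have h2 := (iSup_le h1) ho
    rw [← QuotientGroup.eq_one_iff, ← QuotientGroup.mk'_apply, map_commutatorElement,
      commutatorElement_eq_one_iff_mul_comm]
    exact h2 _ ⟨a, ha, rfl⟩

set_option maxHeartbeats 1000000 in
theorem le_fitting_solvable {G : Type*} [Group G] [Finite G] (hG : Group.IsSolvable G)
    (h : Cond k G) : (⊤ : Subgroup G).lowerCentralSeries k ≤ Cfsg.fittingSubgroup G := by
  haveI := CfsgLib.Fitting.fittingSubgroup_normal (G := G)
  set F := Cfsg.fittingSubgroup G with hF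
  let π := QuotientGroup.mk' F
  have hπ : Function.Surjective π := QuotientGroup.mk'_surjective F
  -- values in Sylow subgroups of the preimages of the cores
  have step : ∀ (r : ℕ) [Fact r.Prime] (y : G), Vl k y → (∃ n, orderOf y = r ^ n) →
      π y ∈ Cfsg.pCore r (G ⧸ F) → y ∈ F := by
    intro r _ y hy ⟨n, hn⟩ hyM
    haveI := CfsgLib.Fitting.pCore_normal (G := G ⧸ F) r
    refine offCent_inf_le (M := (Cfsg.pCore r (G ⧸ F)).comap π) (fun d hd _ => ?_)
      ⟨vl_offCent h hy hn, hyM⟩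
    obtain ⟨a, ha⟩ := CfsgLib.Fitting.pCore_isPGroup (G := G ⧸ F) r ⟨π d, hd⟩
    refine ⟨a, (QuotientGroup.eq_one_iff _).mp ?_⟩
    have := congrArg Subtype.val ha
    rw [Subgroup.coe_pow] at this
    exact (map_pow π d _).trans this
  -- lifting the cores
  have lift : ∀ (r : ℕ) [Fact r.Prime], ∃ R : Subgroup G, IsPGroup r R ∧
      R.map π = Cfsg.pCore r (G ⧸ F) ∧ Subgroup.normalizer (R : Set G) ⊔ F = ⊤ := by
    intro r _
    haveI := CfsgLib.Fitting.pCore_normal (G := G ⧸ F) r
    set M := (Cfsg.pCore r (G ⧸ F)).comap π with hM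
    obtain ⟨P⟩ := (inferInstance : Nonempty (Sylow r M))
    set R := (P : Subgroup M).map M.subtype with hR
    have hsurj : Function.Surjective (π.subgroupComap (Cfsg.pCore r (G ⧸ F))) :=
      MonoidHom.subgroupComap_surjective_of_surjective π _ hπ
    have hPtop : (P : Subgroup M).map (π.subgroupComap (Cfsg.pCore r (G ⧸ F))) = ⊤ := by
      have hp : IsPGroup r ↥(⊤ : Subgroup ↥(Cfsg.pCore r (G ⧸ F))) :=
        IsPGroup.to_subgroup (CfsgLib.Fitting.pCore_isPGroup r) ⊤
      exact ((P.mapSurjective hsurj).3 hp le_top).symm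
    have hRmap : R.map π = Cfsg.pCore r (G ⧸ F) := by
      refine le_antisymm ?_ fun w hw => ?_
      · rintro _ ⟨_, ⟨m, _, rfl⟩, rfl⟩
        exact m.2
      · obtain ⟨m, hm, hme⟩ := hPtop.ge (Subgroup.mem_top (⟨w, hw⟩ : Cfsg.pCore r (G ⧸ F)))
        exact ⟨m, ⟨m, hm, rfl⟩, congrArg Subtype.val hme⟩
    have hsup : R ⊔ F = M := by
      rw [hM, ← hRmap, Subgroup.comap_map_eq, QuotientGroup.ker_mk']
    refine ⟨R, P.2.map _, hRmap, eq_top_iff.mpr ?_⟩
    rw [← Sylow.normalizer_sup_eq_top P, ← hR]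
    refine sup_le le_sup_left ?_
    rw [← hsup]
    exact sup_le ((Subgroup.le_normalizer).trans le_sup_left) le_sup_right
  -- elements of order prime to r centralize the r-core
  have cent : ∀ (r : ℕ) [Fact r.Prime] (w : G ⧸ F), (orderOf w).Coprime r →
      w ∈ Subgroup.centralizer (Cfsg.pCore r (G ⧸ F) : Set (G ⧸ F)) := by
    intro r _ w hw
    obtain ⟨R, hR, hRmap, hNF⟩ := lift r
    obtain ⟨g₀, rfl⟩ := hπ w
    obtain ⟨g, hg, f, hf, rfl⟩ := Subgroup.mem_sup_of_normal_right.mp (hNF.ge (Subgroup.mem_top g₀))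
    have hfe : π (g * f) = π g := by
      rw [map_mul, show π f = 1 from (QuotientGroup.eq_one_iff f).mpr hf, mul_one]
    rw [hfe] at hw ⊢
    intro u hu
    rw [SetLike.mem_coe, ← hRmap] at hu
    obtain ⟨v, hv, rfl⟩ := hu
    have hnorm : π g ∈ Subgroup.normalizer (R.map π : Set (G ⧸ F)) :=
      Subgroup.le_normalizer_map π ⟨g, hg, rfl⟩
    refine (commute_of_iter (hR.map π) hnorm hw k (π v) ⟨v, hv, rfl⟩ ?_).eq
    rw [← map_iter]
    obtain ⟨n, hn⟩ := hR ⟨iter g k v, iter_mem hg hv k⟩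
    obtain ⟨j, -, hj⟩ := (Nat.dvd_prime_pow Fact.out).mp
      (orderOf_dvd_of_pow_eq_one (congrArg Subtype.val hn))
    exact (QuotientGroup.eq_one_iff _).mpr (step r _ (vl_iter g v k) ⟨j, hj⟩
      (hRmap.le ⟨_, iter_mem hg hv k, rfl⟩))
  haveI := hG
  haveI : Group.IsSolvable (G ⧸ F) := inferInstance
  haveI := CfsgLib.Fitting.fittingSubgroup_normal (G := G ⧸ F)
  -- the quotient is generated by its cores
  have hgen : (⊤ : Subgroup (G ⧸ F)) ≤ ⨆ q : {q : ℕ // q.Prime}, Cfsg.pCore (q : ℕ) (G ⧸ F) := by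
    intro w _
    refine mem_of_parts _ w fun q n hq _ f _ hfn => ?_
    haveI : Fact q.Prime := ⟨hq⟩
    refine (le_iSup (fun q : {q : ℕ // q.Prime} => Cfsg.pCore (q : ℕ) (G ⧸ F)) ⟨q, hq⟩) ?_
    have hf : f ∈ offCent q (G ⧸ F) := Subgroup.mem_iInf.mpr fun r => by
      haveI : Fact (r : ℕ).Prime := ⟨r.2.1⟩
      exact cent r f (hfn ▸ ((Nat.coprime_primes hq r.2.1).mpr (Ne.symm r.2.2)).pow_left n)
    have hF' := offCent_inf_le (p := q) (M := ⊤) (fun d _ hd => ?_) ⟨hf, Subgroup.mem_top f⟩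
    · exact mem_pCore_of_nilpotent CfsgLib.Fitting.fittingSubgroup_isNilpotent hF' hfn
    obtain ⟨a, ha⟩ := exists_pow_coprime q d
    refine ⟨a, CfsgLib.PSolvable.centralizer_fittingSubgroup_le fun e he => ?_⟩
    refine (Subgroup.mem_centralizer_singleton_iff.mp (mem_of_parts _ e fun r m hr _ f hf hfm => ?_) :)
    haveI : Fact r.Prime := ⟨hr⟩
    have h1 := mem_pCore_of_nilpotent CfsgLib.Fitting.fittingSubgroup_isNilpotent
      ((Subgroup.zpowers_le.mpr he) hf) hfm
    refine Subgroup.mem_centralizer_singleton_iff.mpr ?_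
    rcases eq_or_ne r q with rfl | hne
    · exact cent r _ ((Nat.Prime.coprime_iff_not_dvd hr).mpr ha).symm f h1
    · exact Subgroup.mem_iInf.mp (pow_mem hd _) ⟨r, hr, hne⟩ f h1
  -- the series of the cores
  have hT : ∀ (r : {r : ℕ // r.Prime}), (Cfsg.pCore (r : ℕ) (G ⧸ F)).lowerCentralSeries k = ⊥ := by
    intro r
    haveI : Fact (r : ℕ).Prime := ⟨r.2⟩
    obtain ⟨R, hR, hRmap, -⟩ := lift r
    set O := Cfsg.pCore (r : ℕ) (G ⧸ F) with hO
    haveI : O.Normal := CfsgLib.Fitting.pCore_normal _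
    let T : ℕ → Set (G ⧸ F) := fun j => {w | ∃ v ∈ R, Vl j v ∧ π v = w}
    have hle : ∀ j, O.lowerCentralSeries j ≤ Subgroup.normalClosure (T j) := by
      intro j
      induction j with
      | zero =>
        intro w hw
        obtain ⟨v, hv, rfl⟩ := hRmap.ge (show w ∈ O from hw)
        exact Subgroup.subset_normalClosure ⟨v, hv, ⟨v, [], rfl, rfl⟩, rfl⟩
      | succ j ih =>
        show ⁅O.lowerCentralSeries j, O⁆ ≤ _
        refine (Subgroup.commutator_mono ih le_rfl).trans ?_
        set N := Subgroup.normalClosure (T (j + 1))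
        have h1 : Subgroup.normalClosure (T j) ≤
            (Subgroup.centralizer (O.map (QuotientGroup.mk' N) : Set _)).comap (QuotientGroup.mk' N) := by
          haveI : (O.map (QuotientGroup.mk' N)).Normal :=
            Subgroup.Normal.map inferInstance _ (QuotientGroup.mk'_surjective N)
          refine Subgroup.normalClosure_le_normal ?_
          rintro _ ⟨v, hv, hvj, rfl⟩ _ ⟨o, ho, rfl⟩
          obtain ⟨w, hw, rfl⟩ := hRmap.ge ho
          symm
          rw [← commutatorElement_eq_one_iff_mul_comm, ← map_commutatorElement, ← map_commutatorElement,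
            QuotientGroup.mk'_apply, QuotientGroup.eq_one_iff]
          exact Subgroup.subset_normalClosure
            ⟨_, mul_mem (mul_mem (mul_mem hv hw) (inv_mem hv)) (inv_mem hw), vl_step hvj w, rfl⟩
        rw [Subgroup.commutator_le]
        intro a ha o ho
        rw [← QuotientGroup.eq_one_iff, ← QuotientGroup.mk'_apply, map_commutatorElement,
          commutatorElement_eq_one_iff_mul_comm]
        exact (h1 ha _ ⟨o, ho, rfl⟩).symm
    refine eq_bot_iff.mpr ((hle k).trans (Subgroup.normalClosure_le_normal ?_))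
    rintro _ ⟨v, hv, hvk, rfl⟩
    obtain ⟨n, hn⟩ := hR ⟨v, hv⟩
    obtain ⟨j, -, hj⟩ := (Nat.dvd_prime_pow Fact.out).mp
      (orderOf_dvd_of_pow_eq_one (congrArg Subtype.val hn))
    exact Subgroup.mem_bot.mpr ((QuotientGroup.eq_one_iff v).mpr
      (step r v hvk ⟨j, hj⟩ (hRmap.le ⟨v, hv, rfl⟩)))
  have hser := lcs_le_iSup hgen
  have hk : (⊤ : Subgroup (G ⧸ F)).lowerCentralSeries k = ⊥ :=
    eq_bot_iff.mpr ((hser k).trans (iSup_le fun q => (hT q).le))
  intro x hx
  rw [← QuotientGroup.eq_one_iff, ← QuotientGroup.mk'_apply, ← Subgroup.mem_bot, ← hk,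
    ← Subgroup.map_top_of_surjective _ hπ, ← Subgroup.map_lowerCentralSeries]
  exact ⟨x, hx, rfl⟩

universe u

theorem nilpotent_solvable {G : Type*} [Group G] [Finite G] (hG : Group.IsSolvable G) (h : Cond k G) :
    Group.IsNilpotent ↥((⊤ : Subgroup G).lowerCentralSeries k) :=
  haveI := CfsgLib.Fitting.fittingSubgroup_isNilpotent (G := G)
  Group.nilpotent_of_mulEquiv (Subgroup.subgroupOfEquivOfLe (le_fitting_solvable hG h))

/-- In a minimal `2`-group moved by an odd element there is a value mapping to an involution. -/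
theorem exists_involution_value {G K : Type*} [Group G] [Finite G] [Group K] [Finite K] (π : G →* K)
    {V : Subgroup G} (hV : IsPGroup 2 V) {g : G} (hg : g ∈ Subgroup.normalizer (V : Set G))
    (hgc : (orderOf g).Coprime 2) (hnc : ∃ v ∈ V, ¬ Commute (π v) (π g))
    (hmin : ∀ W : Subgroup G, W < V → g ∈ Subgroup.normalizer (W : Set G) →
      ∀ w ∈ W, Commute (π w) (π g)) :
    ∃ y ∈ V, Vl k y ∧ π y ≠ 1 ∧ π y ^ 2 = 1 := by
  have hπg : π g ∈ Subgroup.normalizer (V.map π : Set K) := Subgroup.le_normalizer_map π ⟨g, hg, rfl⟩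
  have hπc : (orderOf (π g)).Coprime 2 := hgc.coprime_dvd_left (orderOf_map_dvd π g)
  have coprime_step : ∀ j, ∀ v ∈ V, π (iter g j v) = 1 → Commute (π v) (π g) := fun j v hv h =>
    commute_of_iter (hV.map π) hπg hπc j (π v) ⟨v, hv, rfl⟩ (by rwa [← map_iter])
  -- a normalized subgroup missing an element is centralized
  have small : ∀ W : Subgroup G, W ≤ V → g ∈ Subgroup.normalizer (W : Set G) →
      (∃ v ∈ V, v ∉ W) → ∀ w ∈ W, Commute (π w) (π g) := fun W hW hgW ⟨v, hv, hvW⟩ =>
    hmin W (lt_of_le_of_ne hW fun e => hvW (e ▸ hv)) hgW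
  set a := π g with ha
  -- `V` is generated by commutators modulo the kernel
  let C : Subgroup G := V ⊓ (Subgroup.centralizer ({a} : Set K)).comap π
  let W : Subgroup G := Subgroup.closure {x | ∃ v ∈ V, ⁅v, g⁆ = x}
  have hWV : W ≤ V := (Subgroup.closure_le _).mpr (by rintro _ ⟨v, hv, rfl⟩; exact iter_mem hg hv 1)
  have hgW : g ∈ Subgroup.normalizer (W : Set G) := by
    refine Subgroup.mem_normalizer_fintype fun x hx => ?_
    have h1 : W.map (MulAut.conj g).toMonoidHom ≤ W := by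
      rw [MonoidHom.map_closure, Subgroup.closure_le]
      rintro _ ⟨_, ⟨v, hv, rfl⟩, rfl⟩
      refine Subgroup.subset_closure ⟨g * v * g⁻¹, (Subgroup.mem_normalizer_iff.mp hg v).mp hv, ?_⟩
      show ⁅g * v * g⁻¹, g⁆ = g * ⁅v, g⁆ * g⁻¹
      simp only [commutatorElement_def]; group
    exact h1 ⟨x, hx, rfl⟩
  have hWall : W = V := by
    by_contra hne
    obtain ⟨v, hv, hvc⟩ := hnc
    refine hvc (coprime_step 2 v hv ?_)
    show π ⁅⁅v, g⁆, g⁆ = 1
    rw [map_commutatorElement, commutatorElement_eq_one_iff_commute]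
    exact hmin W (lt_of_le_of_ne hWV hne) hgW _ (Subgroup.subset_closure ⟨v, hv, rfl⟩)
  -- squares and commutators are central modulo the kernel
  let Z : Subgroup G := V ⊓ (Subgroup.centralizer (V.map π : Set K)).comap π
  have hD : ∀ D : Subgroup G, D ≤ V → g ∈ Subgroup.normalizer (D : Set G) → (∃ v ∈ V, v ∉ D) →
      (∀ d ∈ D, ∀ v ∈ V, v * d * v⁻¹ ∈ D) → D ≤ Z := by
    intro D hDV hgD hex hnorm d hd
    refine ⟨hDV hd, ?_⟩
    have h1 : V ≤ (Subgroup.centralizer ({π d} : Set K)).comap π := by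
      rw [← hWall]
      refine (Subgroup.closure_le _).mpr ?_
      rintro _ ⟨v, hv, rfl⟩
      have e1 : Commute (π d) a := small D hDV hgD hex d hd
      have e2 : Commute (π (v⁻¹ * d * v)) a := small D hDV hgD hex _ (by
        have := hnorm d hd v⁻¹ (inv_mem hv); rwa [inv_inv] at this)
      rw [map_mul, map_mul, map_inv] at e2
      rw [SetLike.mem_coe, Subgroup.mem_comap, Subgroup.mem_centralizer_singleton_iff,
        map_commutatorElement, commutatorElement_def]
      set p := π v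
      set c := π d
      have e3 : a * (p⁻¹ * c * p) = p⁻¹ * c * p * a := e2.symm.eq
      have e4 : Commute c a⁻¹ := e1.inv_right
      calc p * a * p⁻¹ * a⁻¹ * c = p * a * p⁻¹ * (a⁻¹ * c) := by group
        _ = p * (a * (p⁻¹ * c * p)) * p⁻¹ * a⁻¹ := by rw [← e4.eq]; group
        _ = c * (p * a * p⁻¹ * a⁻¹) := by rw [e3]; group
    rintro _ ⟨v, hv, rfl⟩
    exact (Subgroup.mem_centralizer_singleton_iff.mp (h1 hv))
  have hΦ : ∀ v ∈ V, v * v ∈ Z ∧ Commute (π (v * v)) a ∧ ∀ w ∈ V, ⁅v, w⁆ ∈ Z := by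
    haveI : Fact (Nat.Prime 2) := ⟨Nat.prime_two⟩
    set D := (frattini V).map V.subtype with hDdef
    have hDn : ∀ n ∈ Subgroup.normalizer (V : Set G), ∀ d ∈ D, n * d * n⁻¹ ∈ D := by
      rintro n hn _ ⟨d, hd, rfl⟩
      haveI : (frattini V).Characteristic := inferInstance
      let φ : MulAut V := ⟨⟨fun x => ⟨n * x * n⁻¹, (Subgroup.mem_normalizer_iff.mp hn x).mp x.2⟩,
        fun x => ⟨n⁻¹ * x * n, (Subgroup.mem_normalizer_iff.mp hn _).mpr (by
          rw [show n * (n⁻¹ * (x : G) * n) * n⁻¹ = x by group]; exact x.2)⟩,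
        fun x => Subtype.ext (show n⁻¹ * (n * (x : G) * n⁻¹) * n = x by group),
        fun x => Subtype.ext (show n * (n⁻¹ * (x : G) * n) * n⁻¹ = x by group)⟩,
        fun x y => Subtype.ext (show n * ((x : G) * y) * n⁻¹ = n * x * n⁻¹ * (n * y * n⁻¹) by group)⟩
      have h1 := (Subgroup.characteristic_iff_map_le.mp inferInstance φ) ⟨d, hd, rfl⟩
      exact ⟨_, h1, rfl⟩
    have hlt : ∃ v ∈ V, v ∉ D := by
      obtain ⟨v, hv, hvc⟩ := hnc
      haveI : Nontrivial V := ⟨⟨v, hv⟩, 1, fun e => hvc (by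
        rw [show v = 1 from congrArg Subtype.val e, map_one]; exact Commute.one_left a)⟩
      obtain ⟨x, hx⟩ : ∃ x : V, x ∉ frattini V := by
        by_contra hall
        push Not at hall
        have : (⊥ : Subgroup V) = ⊤ := frattini_nongenerating (by
          rw [bot_sup_eq]; exact eq_top_iff.mpr fun x _ => hall x)
        exact absurd this bot_ne_top
      refine ⟨x, x.2, ?_⟩
      rintro ⟨x', hx', he⟩
      exact hx (V.subtype_injective he ▸ hx')
    have hDV : D ≤ V := Subgroup.map_subtype_le _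
    have hgD : g ∈ Subgroup.normalizer (D : Set G) :=
      Subgroup.mem_normalizer_fintype fun d hd => hDn g hg d hd
    have hDZ := hD D hDV hgD hlt fun d hd v hv => hDn v (Subgroup.le_normalizer hv) d hd
    intro v hv
    have hsq : v * v ∈ D := ⟨⟨v, hv⟩ * ⟨v, hv⟩, by
      rw [← sq]; exact (CfsgLib.PSolvable.commutator_le_frattini hV).2 _, rfl⟩
    refine ⟨hDZ hsq, small D hDV hgD hlt _ hsq, fun w hw => hDZ ⟨⁅(⟨v, hv⟩ : V), ⟨w, hw⟩⁆, ?_, rfl⟩⟩
    exact (CfsgLib.PSolvable.commutator_le_frattini hV).1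
      (Subgroup.commutator_mem_commutator (Subgroup.mem_top _) (Subgroup.mem_top _))
  by_cases hall : ∀ v ∈ V, π (iter g k v) ∈ Subgroup.centralizer (V.map π : Set K)
  · -- all values are central
    have hgZ : g ∈ Subgroup.normalizer (Z : Set G) := by
      refine Subgroup.mem_normalizer_fintype fun d hd => ⟨(Subgroup.mem_normalizer_iff.mp hg d).mp hd.1, ?_⟩
      rintro _ ⟨v, hv, rfl⟩
      have h1 : g⁻¹ * v * g ∈ V := (Subgroup.mem_normalizer_iff.mp hg _).mpr (by
        rw [show g * (g⁻¹ * v * g) * g⁻¹ = v by group]; exact hv)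
      have h2 := congrArg (fun c => a * c * a⁻¹) (hd.2 _ ⟨_, h1, rfl⟩)
      simp only [map_mul, map_inv, ← ha] at h2 ⊢
      calc π v * (a * π d * a⁻¹) = a * (a⁻¹ * π v * a * π d) * a⁻¹ := by group
        _ = a * (π d * (a⁻¹ * π v * a)) * a⁻¹ := h2
        _ = a * π d * a⁻¹ * π v := by group
    by_cases hZ : ∀ v ∈ V, v ∈ Z
    · -- abelian image
      obtain ⟨v, hv, hvc⟩ := hnc
      refine ⟨iter g (k + 1) v, iter_mem hg hv _, vl_comm (vl_iter g v k) g,
        fun e => hvc (coprime_step (k + 1) v hv e), ?_⟩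
      set x := iter g k v with hx
      have hxV : x ∈ V := iter_mem hg hv k
      have hxx : g * x⁻¹ * g⁻¹ ∈ V := (Subgroup.mem_normalizer_iff.mp hg _).mp (inv_mem hxV)
      show π ⁅x, g⁆ ^ 2 = 1
      have hcm : Commute (π x) (π (g * x⁻¹ * g⁻¹)) :=
        ((hZ x hxV).2 _ ⟨_, hxx, rfl⟩).symm
      have hsq : Commute (π x * π x) a := by rw [← map_mul]; exact (hΦ x hxV).2.1
      rw [show ⁅x, g⁆ = x * (g * x⁻¹ * g⁻¹) by rw [commutatorElement_def]; group, map_mul, hcm.mul_pow,
        map_mul, map_mul, map_inv, map_inv, ← ha, conj_pow, inv_pow, sq, ← hsq.inv_left.eq,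
        mul_inv_cancel_right, mul_inv_cancel]
    · push Not at hZ
      exfalso
      obtain ⟨v, hv, hvc⟩ := hnc
      refine hvc (coprime_step (k + 1) v hv ?_)
      show π ⁅iter g k v, g⁆ = 1
      rw [map_commutatorElement, commutatorElement_eq_one_iff_commute]
      exact small Z inf_le_left hgZ hZ _ ⟨iter_mem hg hv k, hall v hv⟩
  · push Not at hall
    obtain ⟨v, hv, hvZ⟩ := hall
    set y := iter g k v
    obtain ⟨w, hw, hyw⟩ : ∃ w ∈ V, ¬ Commute (π y) (π w) := by
      by_contra hcon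
      push Not at hcon
      exact hvZ (by rintro _ ⟨w, hw, rfl⟩; exact (hcon w hw).symm.eq)
    have hy : y ∈ V := iter_mem hg hv k
    refine ⟨⁅y, w⁆, mul_mem (mul_mem (mul_mem hy hw) (inv_mem hy)) (inv_mem hw),
      vl_comm (vl_iter g v k) w, fun e => hyw ?_, ?_⟩
    · rw [map_commutatorElement, commutatorElement_eq_one_iff_commute] at e; exact e
    · have h1 := ((hΦ y hy).1.2 (π w) ⟨w, hw, rfl⟩)
      have h2 := ((hΦ y hy).2.2 w hw).2 (π y) ⟨y, hy, rfl⟩
      rw [map_mul] at h1
      rw [map_commutatorElement] at h2 ⊢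
      set p := π y
      set q := π w
      calc ⁅p, q⁆ ^ 2 = ⁅p, q⁆ * ⁅p, q⁆ := sq _
        _ = ⁅p, q⁆ * p * (q * p⁻¹ * q⁻¹) := by rw [commutatorElement_def]; group
        _ = p * ⁅p, q⁆ * (q * p⁻¹ * q⁻¹) := by rw [h2]
        _ = p * p * q * (p * p)⁻¹ * q⁻¹ := by rw [commutatorElement_def]; group
        _ = q * (p * p) * (p * p)⁻¹ * q⁻¹ := by rw [h1]
        _ = 1 := by group

theorem zpowers_le_normalizer {K : Type*} [Group K] [Finite K] {t z : K} (hinv : t * z * t⁻¹ = z⁻¹) :
    Subgroup.zpowers t ≤ Subgroup.normalizer (Subgroup.zpowers z : Set K) := by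
  refine Subgroup.zpowers_le.mpr (Subgroup.mem_normalizer_fintype fun x hx => ?_)
  obtain ⟨i, rfl⟩ := Subgroup.mem_zpowers_iff.mp hx
  exact ⟨-i, by rw [← conj_zpow, hinv, inv_zpow]; exact zpow_neg z i⟩

theorem dihedral_solvable {K : Type*} [Group K] [Finite K] (t z : K) (hinv : t * z * t⁻¹ = z⁻¹) :
    ∃ X : Subgroup K, X = Subgroup.zpowers z ⊔ Subgroup.zpowers t ∧ Group.IsSolvable X ∧ t ∈ X ∧ z ∈ X := by
  refine ⟨_, rfl, ?_, Subgroup.mem_sup_right (Subgroup.mem_zpowers t),
    Subgroup.mem_sup_left (Subgroup.mem_zpowers z)⟩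
  have hcomm : ∀ a : K, Group.IsSolvable (Subgroup.zpowers a) := fun a =>
    isSolvable_of_comm fun u v => Subtype.ext (by
      obtain ⟨i, hi⟩ := Subgroup.mem_zpowers_iff.mp u.2
      obtain ⟨j, hj⟩ := Subgroup.mem_zpowers_iff.mp v.2
      rw [Subgroup.coe_mul, Subgroup.coe_mul, ← hi, ← hj, ← zpow_add, ← zpow_add, add_comm])
  exact CfsgLib.Coprime.isSolvable_sup_of_le_normalizer (hcomm z) (hcomm t) (zpowers_le_normalizer hinv)

theorem dihedral_two_group {K : Type*} [Group K] [Finite K] {t t' : K} (ht : t ^ 2 = 1)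
    (ht' : t' ^ 2 = 1) (c : K) (hc : c * t * c⁻¹ = t') {m : ℕ} (hm : orderOf (t * t') = 2 ^ m) :
    IsPGroup 2 ↥(Subgroup.zpowers t ⊔ (Subgroup.zpowers t).map (MulAut.conj c).toMonoidHom) := by
  have hti : t⁻¹ = t := inv_eq_of_mul_eq_one_right (by rw [← sq, ht])
  have ht'i : t'⁻¹ = t' := inv_eq_of_mul_eq_one_right (by rw [← sq, ht'])
  have hinv : t * (t * t') * t⁻¹ = (t * t')⁻¹ := by
    rw [mul_inv_rev, hti, ht'i, ← mul_assoc, ← sq, ht, one_mul]
  have h2 : IsPGroup 2 ↥(Subgroup.zpowers (t * t') ⊔ Subgroup.zpowers t) := by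
    refine IsPGroup.to_sup_of_normal_left' (IsPGroup.of_card (n := m) (by rw [Nat.card_zpowers, hm])) ?_
      (zpowers_le_normalizer hinv)
    obtain ⟨i, -, hi⟩ := (Nat.dvd_prime_pow Nat.prime_two).mp
      (orderOf_dvd_of_pow_eq_one (show t ^ 2 ^ 1 = 1 by rw [pow_one, ht]))
    exact IsPGroup.of_card (n := i) (by rw [Nat.card_zpowers, hi])
  refine h2.to_le (sup_le le_sup_right ?_)
  rw [MonoidHom.map_zpowers, Subgroup.zpowers_le]
  show c * t * c⁻¹ ∈ _
  rw [hc]
  suffices t⁻¹ * (t * t') ∈ Subgroup.zpowers (t * t') ⊔ Subgroup.zpowers t by rwa [inv_mul_cancel_left] at this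
  exact mul_mem (inv_mem (Subgroup.mem_sup_right (Subgroup.mem_zpowers t)))
    (Subgroup.mem_sup_left (Subgroup.mem_zpowers _))

/-- The hypothesis forces solvability. -/
theorem solvable_of_cond : ∀ (n : ℕ) (G : Type u) [Group G] [Finite G], Nat.card G = n → Cond k G →
    Group.IsSolvable G := by
  intro n
  induction n using Nat.strong_induction_on with
  | h n ih =>
  intro G _ _ hn h
  by_contra hns
  haveI := CfsgLib.Layer.solvableRadical_normal G
  haveI hRs : Group.IsSolvable (Cfsg.solvableRadical G) := CfsgLib.Layer.solvableRadical_isSolvable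
  set R := Cfsg.solvableRadical G with hR
  let π := QuotientGroup.mk' R
  have hπ : Function.Surjective π := QuotientGroup.mk'_surjective R
  have lift_sol : ∀ X : Subgroup (G ⧸ R), Group.IsSolvable X → Group.IsSolvable (X.comap π) := by
    intro X hX
    haveI := hX
    refine Group.isSolvable_of_ker_le_range (Subgroup.inclusion (show R ≤ X.comap π from fun r hr => by
      rw [Subgroup.mem_comap, show π r = 1 from (QuotientGroup.eq_one_iff r).mpr hr]; exact one_mem X))
      (π.subgroupComap X) fun c hc => ?_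
    exact ⟨⟨c, (QuotientGroup.eq_one_iff _).mp (congrArg Subtype.val (MonoidHom.mem_ker.mp hc))⟩, rfl⟩
  have hno : ∀ X : Subgroup (G ⧸ R), X.Normal → Group.IsSolvable X → X = ⊥ := by
    intro X hX hXs
    haveI := hX
    have h1 : X.comap π ≤ R := CfsgLib.Layer.le_solvableRadical inferInstance (lift_sol X hXs)
    refine eq_bot_iff.mpr fun w hw => ?_
    obtain ⟨g, rfl⟩ := hπ w
    exact Subgroup.mem_bot.mpr ((QuotientGroup.eq_one_iff g).mpr (h1 hw))
  -- an odd element acting nontrivially on a 2-group modulo R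
  have hex : ∃ V : Subgroup G, IsPGroup 2 V ∧ ∃ g ∈ Subgroup.normalizer (V : Set G),
      (orderOf g).Coprime 2 ∧ ∃ v ∈ V, ¬ Commute (π v) (π g) := by
    by_contra hcon
    push Not at hcon
    apply hns
    have hP : CfsgLib.Transfer.PAutomizers 2 (G ⧸ R) := by
      intro Q hQ w hw hwc q hq
      haveI : Fact (Nat.Prime 2) := ⟨Nat.prime_two⟩
      obtain ⟨g₀, rfl⟩ := hπ w
      set Γ := Subgroup.normalizer (Q.comap π : Set G) with hΓ
      have hg₀ : g₀ ∈ Γ := Subgroup.le_normalizer_comap π hw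
      set M := (Q.comap π).subgroupOf Γ with hM
      haveI : M.Normal := Subgroup.normal_in_normalizer
      obtain ⟨S⟩ := (inferInstance : Nonempty (Sylow 2 M))
      set V := ((S : Subgroup M).map M.subtype).map Γ.subtype with hV
      let f : M →* Q := ((π.comp Γ.subtype).comp M.subtype).codRestrict Q fun m => m.2
      have hf : Function.Surjective f := fun u => by
        obtain ⟨x, hx⟩ := hπ u
        have hxM : x ∈ Q.comap π := by rw [Subgroup.mem_comap, hx]; exact u.2
        exact ⟨⟨⟨x, Subgroup.le_normalizer hxM⟩, hxM⟩, Subtype.ext hx⟩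
      have hStop : (S : Subgroup M).map f = ⊤ :=
        ((S.mapSurjective hf).3 (IsPGroup.to_subgroup hQ _) le_top).symm
      obtain ⟨m, hmS, hme⟩ := hStop.ge (Subgroup.mem_top (⟨q, hq⟩ : Q))
      have hπm : π ((m : Γ) : G) = q := congrArg Subtype.val hme
      obtain ⟨n, hn, c, hc, hnc⟩ := Subgroup.mem_sup_of_normal_right.mp
        ((Sylow.normalizer_sup_eq_top S).ge (Subgroup.mem_top (⟨g₀, hg₀⟩ : Γ)))
      obtain ⟨c₁, hc₁S, hc₁⟩ := hStop.ge (Subgroup.mem_top (f ⟨c, hc⟩))
      set n₁ := n * (c₁ : Γ) with hn₁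
      have hn₁N : n₁ ∈ Subgroup.normalizer ((S : Subgroup M).map M.subtype : Set Γ) :=
        mul_mem hn (Subgroup.le_normalizer ⟨c₁, hc₁S, rfl⟩)
      have hπn₁ : π (n₁ : G) = π g₀ := by
        rw [show π g₀ = π ((n * c : Γ) : G) by rw [hnc], hn₁, Subgroup.coe_mul, Subgroup.coe_mul,
          map_mul, map_mul]
        exact congrArg (π (n : G) * ·) (congrArg Subtype.val hc₁)
      set b := orderOf (n₁ : G) with hb
      set d := b.factorization 2 with hd
      obtain ⟨e, he0, he1⟩ := Nat.chineseRemainder (n := 2 ^ d) (m := orderOf (π g₀))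
        (Nat.Coprime.pow_left d hwc.symm) 0 1
      set g := (n₁ : G) ^ e with hg
      have hgV : g ∈ Subgroup.normalizer (V : Set G) :=
        pow_mem (Subgroup.le_normalizer_map Γ.subtype ⟨n₁, hn₁N, rfl⟩) _
      have hgc : (orderOf g).Coprime 2 := by
        refine Nat.Coprime.coprime_dvd_left ?_
          (Nat.coprime_ordCompl Nat.prime_two (orderOf_pos (n₁ : G)).ne').symm
        rw [orderOf_dvd_iff_pow_eq_one, hg, ← pow_mul, ← orderOf_dvd_iff_pow_eq_one, ← hb]
        calc b = 2 ^ d * (b / 2 ^ d) := (Nat.mul_div_cancel' (Nat.ordProj_dvd _ _)).symm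
          _ ∣ e * (b / 2 ^ d) := Nat.mul_dvd_mul_right (Nat.modEq_zero_iff_dvd.mp he0) _
      have hπg : π g = π g₀ := by
        rw [hg, map_pow, hπn₁]
        exact (pow_eq_pow_iff_modEq.mpr he1).trans (pow_one _)
      have h1 := hcon V ((S.2.map _).map _) g hgV hgc _ ⟨m, ⟨m, hmS, rfl⟩, rfl⟩
      rw [hπg] at h1
      exact (hπm ▸ h1).eq
    obtain ⟨P, N, hN, hc⟩ := CfsgLib.Transfer.hasNormalPComplement_of_pAutomizers hP
    haveI := hN
    have hNs : Group.IsSolvable N := CfsgLib.OddOrder.odd_order_solvable (Nat.odd_iff.mpr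
      (Nat.two_dvd_ne_zero.mp (Nat.prime_two.coprime_iff_not_dvd.mp
        (CfsgLib.Transfer.coprime_card_of_isComplement' hc).symm)))
    have hN1 := hno N hN hNs
    have hGs : Group.IsSolvable (G ⧸ R) := by
      haveI := (CfsgLib.Transfer.isPGroup_quotient_of_isComplement' hc).isNilpotent
      exact Group.isSolvable_of_ker_le_range N.subtype (QuotientGroup.mk' N)
        (by rw [QuotientGroup.ker_mk', Subgroup.range_subtype])
    haveI := lift_sol ⊤ inferInstance
    exact Group.isSolvable_of_surjective (f := (Subgroup.topEquiv (G := G)).toMonoidHom.comp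
      (MulEquiv.subgroupCongr (Subgroup.comap_top π)).toMonoidHom) fun x => ⟨⟨x, by trivial⟩, rfl⟩
  classical
  obtain ⟨V, ⟨hV, g, hg, hgc, hnc⟩, hmin⟩ := exists_minimal_of_wellFoundedLT _ hex
  obtain ⟨y, hyV, hyk, hy1, hy2⟩ := exists_involution_value π hV hg hgc hnc fun W hW hgW w hw => by
    by_contra hne
    exact hW.not_ge (hmin (y := W) ⟨hV.to_le hW.le, g, hgW, hgc, w, hw, hne⟩ hW.le)
  set t := π y with ht
  -- Baer–Suzuki
  obtain ⟨c, hc⟩ : ∃ c : G ⧸ R, ¬ IsPGroup 2 ↥(Subgroup.zpowers t ⊔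
      (Subgroup.zpowers t).map (MulAut.conj c).toMonoidHom) := by
    by_contra hcon
    push Not at hcon
    have htp : IsPGroup 2 (Subgroup.zpowers t) :=
      IsPGroup.of_card (n := 1) (by rw [Nat.card_zpowers, pow_one]; exact orderOf_eq_prime hy2 hy1)
    obtain ⟨N, hN, hNp, hle⟩ := CfsgLib.Baer.baer_suzuki _ htp hcon
    haveI := hNp.isNilpotent
    have := hno N hN inferInstance
    rw [this] at hle
    exact hy1 (Subgroup.mem_bot.mp (hle (Subgroup.mem_zpowers t)))
  set t' := c * t * c⁻¹ with ht'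
  set z := t * t' with hz
  have ht'2 : t' ^ 2 = 1 := by rw [ht', conj_pow, hy2, mul_one, mul_inv_cancel]
  have hti : t⁻¹ = t := inv_eq_of_mul_eq_one_right (by rw [← sq, hy2])
  have ht'i : t'⁻¹ = t' := inv_eq_of_mul_eq_one_right (by rw [← sq, ht'2])
  have hinv : t * z * t⁻¹ = z⁻¹ := by
    rw [hz, mul_inv_rev, hti, ht'i, ← mul_assoc, ← sq, hy2, one_mul]
  obtain ⟨X, hX, hXs, htX, hzX⟩ := dihedral_solvable t z hinv
  have hlt : Nat.card ↥(X.comap π) < n := by
    rw [← hn]
    refine lt_of_le_of_ne (Subgroup.card_le_card_group _) fun e => hns ?_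
    haveI := lift_sol X hXs
    exact Group.isSolvable_of_surjective (f := (X.comap π).subtype) fun x =>
      ⟨⟨x, (Subgroup.eq_top_of_card_eq _ e).ge (Subgroup.mem_top x)⟩, rfl⟩
  have hnil := nilpotent_solvable (lift_sol X hXs) (cond_subgroup h (X.comap π))
  -- an odd prime in the order of z
  obtain ⟨q, hq, hq2, hqz⟩ : ∃ q : ℕ, q.Prime ∧ q ≠ 2 ∧ q ∣ orderOf z := by
    by_contra hcon
    push Not at hcon
    exact hc (dihedral_two_group hy2 ht'2 c rfl ((Nat.eq_prime_pow_of_unique_prime_dvd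
      (orderOf_pos z).ne' fun hd hdz => by
        by_contra hne
        exact hcon _ hd hne hdz) ))
  haveI : Fact q.Prime := ⟨hq⟩
  set u := z ^ (orderOf z / q) with hu
  have huq : orderOf u = q := orderOf_pow_orderOf_div (orderOf_pos z).ne' hqz
  have huinv : t * u * t⁻¹ = u⁻¹ := by rw [hu, ← conj_pow, hinv, inv_pow]
  obtain ⟨u₀, hu₀⟩ := hπ u
  set H := X.comap π
  have hyH : y ∈ H := htX
  have hu₀H : u₀ ∈ H := by
    rw [Subgroup.mem_comap, hu₀, hu]; exact pow_mem hzX _
  set ζ : H := iter (⟨y, hyH⟩ : H) k ⟨u₀, hu₀H⟩ with hζ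
  have hζN : ζ ∈ (⊤ : Subgroup H).lowerCentralSeries k :=
    iter_mem_lcs (Subgroup.mem_top _) (Subgroup.mem_top _) k
  have hit : ∀ j, ∃ e : ℤ, iter t j u = u ^ e ∧ ¬ (q : ℤ) ∣ e := by
    intro j
    induction j with
    | zero => exact ⟨1, (zpow_one u).symm, fun hd => hq.ne_one (Nat.dvd_one.mp (by exact_mod_cast hd))⟩
    | succ j ihj =>
      obtain ⟨e, he, hqe⟩ := ihj
      refine ⟨2 * e, ?_, fun hd => ?_⟩
      · show ⁅iter t j u, t⁆ = _
        rw [he, commutatorElement_def, show u ^ e * t * (u ^ e)⁻¹ * t⁻¹ =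
          u ^ e * (t * (u ^ e)⁻¹ * t⁻¹) by group, ← zpow_neg, ← conj_zpow, huinv, inv_zpow,
          zpow_neg, inv_inv, ← zpow_add, two_mul]
      · rcases (Nat.prime_iff_prime_int.mp hq).dvd_or_dvd hd with h2 | h2
        · exact hq2 ((Nat.prime_dvd_prime_iff_eq hq Nat.prime_two).mp (by exact_mod_cast h2))
        · exact hqe h2
  obtain ⟨e, he, hqe⟩ := hit k
  have hζπ : π (ζ : G) = u ^ e := by
    rw [hζ, show ((iter (⟨y, hyH⟩ : H) k ⟨u₀, hu₀H⟩ : H) : G) = iter y k u₀ from map_iter H.subtype _ _ k,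
      map_iter, hu₀, ← ht, he]
  obtain ⟨b, hb⟩ : ∃ b : ℕ, ∃ m, orderOf (ζ ^ b) = q ^ m ∧ ¬ q ∣ b := by
    refine ⟨orderOf ζ / q ^ (orderOf ζ).factorization q, (orderOf ζ).factorization q, ?_,
      Nat.not_dvd_ordCompl hq (orderOf_pos ζ).ne'⟩
    have hpos := orderOf_pos ζ
    rw [orderOf_pow_of_dvd (Nat.ordCompl_pos q hpos.ne').ne' (Nat.ordCompl_dvd _ _),
      Nat.div_div_self (Nat.ordProj_dvd _ _) hpos.ne']
  obtain ⟨m, hm, hqb⟩ := hb
  haveI : ((⊤ : Subgroup H).lowerCentralSeries k).Normal := inferInstance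
  have hcore := mem_pCore_of_nilpotent hnil (pow_mem hζN b) hm
  obtain ⟨a, ha⟩ := IsPGroup.iff_card.mp ((CfsgLib.Fitting.pCore_isPGroup (G := H) q).map H.subtype)
  have hcent := kills h hyk (P := (Cfsg.pCore q H).map H.subtype)
    (by
      haveI := CfsgLib.Fitting.pCore_normal (G := H) q
      exact Subgroup.le_normalizer_map H.subtype ⟨⟨y, hyH⟩,
        by rw [Subgroup.normalizer_eq_top]; trivial, rfl⟩)
    (by
      rw [ha]
      obtain ⟨i, hi⟩ := hV ⟨y, hyV⟩
      refine Nat.Coprime.coprime_dvd_left (orderOf_dvd_of_pow_eq_one (congrArg Subtype.val hi)) ?_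
      exact ((Nat.coprime_primes Nat.prime_two hq).mpr (Ne.symm hq2)).pow i a)
    ((ζ ^ b : H) : G) ⟨_, hcore, rfl⟩
  have hcom : Commute (u ^ (e * b)) t := by
    have h1 := congrArg π hcent
    rw [map_mul, map_mul, Subgroup.coe_pow, map_pow, hζπ, ← zpow_natCast, ← zpow_mul, ← ht] at h1
    exact h1
  have h2 : u ^ (e * b) * u ^ (e * b) = 1 := by
    have h3 : t * u ^ (e * b) * t⁻¹ = u ^ (e * b) := by rw [hcom.symm.eq, mul_inv_cancel_right]
    rw [← conj_zpow, huinv, inv_zpow, inv_eq_iff_mul_eq_one] at h3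
    exact h3
  rw [← zpow_add, ← orderOf_dvd_iff_zpow_eq_one, huq, ← two_mul] at h2
  rcases (Nat.prime_iff_prime_int.mp hq).dvd_or_dvd h2 with h4 | h4
  · exact hq2 ((Nat.prime_dvd_prime_iff_eq hq Nat.prime_two).mp (by exact_mod_cast h4))
  rcases (Nat.prime_iff_prime_int.mp hq).dvd_or_dvd h4 with h5 | h5
  · exact hqe h5
  · exact hqb (by exact_mod_cast h5)

/-- A criterion of Baumslag–Wiegold type for a term of the lower central series. Let G be a finite group and k ≥ 0; call an element a left-normed commutator value of length k + 1 when it has the form [[…[x₀, x₁], …], x_k] with k + 1 entries (for k = 0, any element), where [a, b] = aba⁻¹b⁻¹. Then the (k+1)-st term γ_{k+1}(G) of the lower central series (γ₁(G) = G) is nilpotent if and only if for every two such values x, y of coprime orders, either every prime dividing o(x)·o(y) divides o(xy), or o(x)·o(y) ≤ o(xy). -/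
theorem result {G : Type*} [Group G] [Finite G] (k : ℕ) :
    Group.IsNilpotent ↥((⊤ : Subgroup G).lowerCentralSeries k) ↔
      ∀ x y : G, (∃ f : Fin (k + 1) → G, x = ((List.ofFn f).tail).foldl (fun a b => a * b * a⁻¹ * b⁻¹) (f 0)) → (∃ f : Fin (k + 1) → G, y = ((List.ofFn f).tail).foldl (fun a b => a * b * a⁻¹ * b⁻¹) (f 0)) → (orderOf x).Coprime (orderOf y) →
        (∀ r : ℕ, r.Prime → r ∣ orderOf x * orderOf y → r ∣ orderOf (x * y)) ∨ orderOf x * orderOf y ≤ orderOf (x * y) := by
  have hvl : ∀ x : G, (∃ f : Fin (k + 1) → G,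
      x = ((List.ofFn f).tail).foldl (fun a b => a * b * a⁻¹ * b⁻¹) (f 0)) ↔ Vl k x := by
    intro x
    constructor
    · rintro ⟨f, rfl⟩
      exact ⟨f 0, (List.ofFn f).tail, by simp, rfl⟩
    · rintro ⟨a, L, hL, rfl⟩
      subst hL
      exact ⟨fun i => (a :: L).get i, by rw [List.ofFn_get (a :: L)]; rfl⟩
  constructor
  · intro hnil x y hx hy hc
    refine Or.inr (le_of_eq (Commute.orderOf_mul_eq_mul_orderOf_of_coprime ?_ hc).symm)
    obtain ⟨a, L, hL, rfl⟩ := (hvl x).mp hx
    obtain ⟨b, M, hM, rfl⟩ := (hvl y).mp hy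
    exact commute_of_coprime_nilpotent hnil
      (vl_mem_lcs k a L hL (Subgroup.mem_top _) fun _ _ => Subgroup.mem_top _)
      (vl_mem_lcs k b M hM (Subgroup.mem_top _) fun _ _ => Subgroup.mem_top _) hc
  · intro h
    have hc : Cond k G := fun x y hx hy hc => h x y ((hvl x).mpr hx) ((hvl y).mpr hy) hc
    exact nilpotent_solvable (solvable_of_cond _ G rfl hc) hc

end Cfsg.Agent.S3900
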