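import Cfsg.Statements.S3903
import Cfsg.Agent.Lib.Coprime.Action

set_option autoImplicit false
set_option linter.style.haveILetI false
open Cfsg

namespace Cfsg.Agent.S3903


open CfsgLib.Coprime
open scoped Pointwise

section
variable {G : Type*} [Group G] [Finite G] {N : Subgroup G} [N.Normal]

theorem centralizer_inf_isPGroup
    (h : ∀ x : G, x ∉ N → IsPrimePow (orderOf x) ∧ IsCoatom (Subgroup.centralizer ({x} : Set G)))
    {p : ℕ} [hp : Fact p.Prime] {x : G} (hx : x ∉ N) {k : ℕ} (hk : orderOf x = p ^ k) :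
    IsPGroup p ↥(N ⊓ Subgroup.centralizer ({x} : Set G)) := by
  have hk1 : k ≠ 0 := by
    intro h0
    rw [h0, pow_zero, orderOf_eq_one_iff] at hk
    exact hx (hk ▸ N.one_mem)
  refine IsPGroup.of_card (n := (Nat.card ↥(N ⊓ Subgroup.centralizer ({x} : Set G))).primeFactorsList.length)
    (Nat.eq_prime_pow_of_unique_prime_dvd Nat.card_pos.ne' fun {q} hq hqd => ?_)
  by_contra hne
  haveI := Fact.mk hq
  obtain ⟨n, hn⟩ := exists_prime_orderOf_dvd_card' q hqd
  have hnq : orderOf (n : G) = q := by rw [Subgroup.orderOf_coe, hn]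
  obtain ⟨hnN, hnC⟩ := Subgroup.mem_inf.mp n.2
  have hc : Commute x (n : G) := (Subgroup.mem_centralizer_singleton_iff.mp hnC).symm
  have hxn : x * n ∉ N := fun hh => hx ((Subgroup.mul_mem_cancel_right N hnN).mp hh)
  have hcop : (orderOf x).Coprime (orderOf (n : G)) := by
    rw [hk, hnq]
    exact Nat.Coprime.pow_left _ ((Nat.coprime_primes hp.out hq).mpr (Ne.symm hne))
  have hp1 := (h _ hxn).1
  rw [hc.orderOf_mul_eq_mul_orderOf_of_coprime hcop, hk, hnq] at hp1
  obtain ⟨r, j, hr, -, hj⟩ := (isPrimePow_nat_iff _).mp hp1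
  have h1 : p ∣ r ^ j := hj ▸ dvd_mul_of_dvd_left (dvd_pow_self p hk1) q
  have h2 : q ∣ r ^ j := hj ▸ dvd_mul_left q _
  exact hne (((Nat.prime_dvd_prime_iff_eq hq hr).mp (hq.dvd_of_dvd_pow h2)).trans
    ((Nat.prime_dvd_prime_iff_eq hp.out hr).mp (hp.out.dvd_of_dvd_pow h1)).symm)

omit [Finite G] in
theorem solvable_of_isPGroup [Finite G] {p : ℕ} [Fact p.Prime] (h : IsPGroup p G) :
    Group.IsSolvable G := by
  haveI := h.isNilpotent
  infer_instance

theorem isSolvable_of_hyp (hN : N ≠ ⊤)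
    (h : ∀ x : G, x ∉ N → IsPrimePow (orderOf x) ∧ IsCoatom (Subgroup.centralizer ({x} : Set G)))
    (hbig : ∀ x : G, x ∉ N → ¬ N ≤ Subgroup.centralizer ({x} : Set G)) : Group.IsSolvable G := by
  classical
  obtain ⟨x, hx⟩ : ∃ x, x ∉ N := by
    by_contra hh
    push Not at hh
    exact hN (eq_top_iff.mpr fun y _ => hh y)
  obtain ⟨p, k, hp, hk0, hk⟩ := (isPrimePow_nat_iff _).mp (h x hx).1
  haveI := Fact.mk hp
  have hsup : ∀ y : G, y ∉ N → Subgroup.centralizer ({y} : Set G) ⊔ N = ⊤ := fun y hy =>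
    (h y hy).2.2 _ (lt_of_le_of_ne le_sup_left fun he => hbig y hy (he ▸ le_sup_right))
  have hcomm : ∀ y : G, y ∉ N → ∀ g : G, Commute (QuotientGroup.mk' N y) (QuotientGroup.mk' N g) := by
    intro y hy g
    obtain ⟨c, hc, n, hn, rfl⟩ : ∃ c ∈ Subgroup.centralizer ({y} : Set G), ∃ n ∈ N, c * n = g :=
      Subgroup.mem_sup_of_normal_right.mp (hsup y hy ▸ Subgroup.mem_top g)
    rw [map_mul, show QuotientGroup.mk' N n = 1 from (QuotientGroup.eq_one_iff n).mpr hn, mul_one]
    exact (Commute.symm (Subgroup.mem_centralizer_singleton_iff.mp hc)).map _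
  have hallp : ∀ y : G, y ∉ N → ∃ l : ℕ, orderOf y = p ^ l := by
    intro y hy
    obtain ⟨q, l, hq, -, hl⟩ := (isPrimePow_nat_iff _).mp (h y hy).1
    by_cases hqp : q = p
    · exact ⟨l, by rw [← hl, hqp]⟩
    exfalso
    have hne : ∀ z : G, z ∉ N → orderOf (QuotientGroup.mk' N z) ≠ 1 := fun z hz h1 =>
      hz ((QuotientGroup.eq_one_iff z).mp (orderOf_eq_one_iff.mp h1))
    obtain ⟨i, -, hi⟩ := (Nat.dvd_prime_pow hp).mp (hk ▸ orderOf_map_dvd (QuotientGroup.mk' N) x)
    obtain ⟨j, -, hj⟩ := (Nat.dvd_prime_pow hq).mp (hl ▸ orderOf_map_dvd (QuotientGroup.mk' N) y)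
    have hi0 : i ≠ 0 := fun h0 => hne x hx (by rw [hi, h0, pow_zero])
    have hj0 : j ≠ 0 := fun h0 => hne y hy (by rw [hj, h0, pow_zero])
    have hm : orderOf (QuotientGroup.mk' N (x * y)) = p ^ i * q ^ j := by
      rw [map_mul, (hcomm x hx y).orderOf_mul_eq_mul_orderOf_of_coprime, hi, hj]
      rw [hi, hj]
      exact Nat.Coprime.pow _ _ ((Nat.coprime_primes hp hq).mpr (Ne.symm hqp))
    have hxy : x * y ∉ N := fun hh => by
      rw [show QuotientGroup.mk' N (x * y) = 1 from (QuotientGroup.eq_one_iff _).mpr hh,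
        orderOf_one] at hm
      exact hp.not_dvd_one (hm ▸ dvd_mul_of_dvd_left (dvd_pow_self p hi0) _)
    obtain ⟨r, s, hr, -, hs⟩ := (isPrimePow_nat_iff _).mp (h _ hxy).1
    have hd := hm ▸ orderOf_map_dvd (QuotientGroup.mk' N) (x * y)
    rw [← hs] at hd
    exact hqp (((Nat.prime_dvd_prime_iff_eq hq hr).mp
        (hq.dvd_of_dvd_pow ((dvd_mul_of_dvd_right (dvd_pow_self q hj0) _).trans hd))).trans
      ((Nat.prime_dvd_prime_iff_eq hp hr).mp
        (hp.dvd_of_dvd_pow ((dvd_mul_of_dvd_left (dvd_pow_self p hi0) _).trans hd))).symm)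
  have hCp : ∀ y : G, y ∉ N → IsPGroup p ↥(Subgroup.centralizer ({y} : Set G)) := by
    intro y hy c
    obtain ⟨l, hl⟩ := hallp y hy
    by_cases hc : (c : G) ∈ N
    · obtain ⟨e, he⟩ := centralizer_inf_isPGroup h hy hl ⟨(c : G), Subgroup.mem_inf.mpr ⟨hc, c.2⟩⟩
      exact ⟨e, Subtype.ext (by simpa [Subtype.ext_iff] using he)⟩
    · obtain ⟨e, he⟩ := hallp _ hc
      exact ⟨e, Subtype.ext (by
        rw [Subgroup.coe_pow, Subgroup.coe_one, ← he]; exact pow_orderOf_eq_one _)⟩
  by_cases hG : IsPGroup p G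
  · exact solvable_of_isPGroup hG
  have hsyl : ∀ y : G, y ∉ N → ∃ Q : Sylow p G, (Q : Subgroup G) = Subgroup.centralizer ({y} : Set G) := by
    intro y hy
    obtain ⟨Q, hQ⟩ := (hCp y hy).exists_le_sylow
    refine ⟨Q, ?_⟩
    by_contra hne
    refine hG fun g => ?_
    obtain ⟨e, he⟩ := Q.2 ⟨g, (h y hy).2.2 _ (lt_of_le_of_ne hQ (Ne.symm hne)) ▸ Subgroup.mem_top g⟩
    exact ⟨e, by simpa [Subtype.ext_iff] using he⟩
  obtain ⟨P, hP⟩ := hsyl x hx
  have hxP : x ∈ (P : Subgroup G) := hP ▸ Subgroup.mem_centralizer_singleton_iff.mpr rfl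
  have hxZ : ∀ w ∈ (P : Subgroup G), w * x = x * w := fun w hw =>
    Subgroup.mem_centralizer_singleton_iff.mp (hP ▸ hw)
  have hcoatom : IsCoatom (P : Subgroup G) := hP ▸ (h x hx).2
  set T : Set G := {z | z ∈ (P : Subgroup G) ∧ z ∉ N} with hT
  set S : Set G := {z | z ∈ (P : Subgroup G) ∧ z ∉ N ∧ ∀ w ∈ (P : Subgroup G), w * z = z * w} with hS
  have hST : S ⊆ T := fun z hz => ⟨hz.1, hz.2.1⟩
  have hcount : ((N : Set G)ᶜ).ncard ≤ (P : Subgroup G).index * S.ncard := by
    rw [Subgroup.index, ← Nat.card_coe_set_eq S, ← Nat.card_prod, ← Nat.card_coe_set_eq]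
    have hsub : ((N : Set G)ᶜ) ⊆
        Set.range (fun q : (G ⧸ (P : Subgroup G)) × S => q.1.out * (q.2 : G) * q.1.out⁻¹) := by
      intro y hy
      obtain ⟨Q, hQ⟩ := hsyl y hy
      obtain ⟨g, hg⟩ := MulAction.exists_smul_eq G P Q
      have hQ' : MulAut.conj g • (P : Subgroup G) = Subgroup.centralizer ({y} : Set G) := by
        rw [← hQ, ← hg, Sylow.coe_subgroup_smul]
      have hzc : ∀ w ∈ (P : Subgroup G), w * (g⁻¹ * y * g) = g⁻¹ * y * g * w := by
        intro w hw
        have h1 : g * w * g⁻¹ ∈ Subgroup.centralizer ({y} : Set G) := by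
          rw [← hQ']
          exact Subgroup.smul_mem_pointwise_smul w (MulAut.conj g) _ hw
        have h2 := Subgroup.mem_centralizer_singleton_iff.mp h1
        calc w * (g⁻¹ * y * g) = g⁻¹ * ((g * w * g⁻¹) * y) * g := by group
          _ = g⁻¹ * (y * (g * w * g⁻¹)) * g := by rw [h2]
          _ = g⁻¹ * y * g * w := by group
      have hzP : g⁻¹ * y * g ∈ (P : Subgroup G) := by
        have h1 : y ∈ MulAut.conj g • (P : Subgroup G) := by
          rw [hQ']; exact Subgroup.mem_centralizer_singleton_iff.mpr rfl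
        simpa [Subgroup.mem_pointwise_smul_iff_inv_smul_mem, MulAut.smul_def, MulAut.conj_inv_apply]
          using h1
      have hzN : g⁻¹ * y * g ∉ N := fun hh => hy (by
        simpa [mul_assoc] using (inferInstance : N.Normal).conj_mem _ hh g)
      obtain ⟨π, hπ⟩ := QuotientGroup.mk_out_eq_mul (P : Subgroup G) g
      refine ⟨((g : G ⧸ (P : Subgroup G)), ⟨g⁻¹ * y * g, hzP, hzN, hzc⟩), ?_⟩
      show (g : G ⧸ (P : Subgroup G)).out * (g⁻¹ * y * g) * ((g : G ⧸ (P : Subgroup G)).out)⁻¹ = y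
      rw [hπ]
      calc g * (π : G) * (g⁻¹ * y * g) * (g * (π : G))⁻¹
          = g * ((π : G) * (g⁻¹ * y * g)) * (π : G)⁻¹ * g⁻¹ := by group
        _ = g * (g⁻¹ * y * g * (π : G)) * (π : G)⁻¹ * g⁻¹ := by rw [hzc _ π.2]
        _ = y := by group
    exact (Nat.card_mono (Set.toFinite _) hsub).trans (Finite.card_range_le _)
  have hPN : (P : Subgroup G) ⊔ N = ⊤ := by rw [hP]; exact hsup x hx
  have hTS : T = S := by
    have hN' : ((N : Set G)ᶜ).ncard = Nat.card G - Nat.card N := by
      rw [Set.ncard_compl, ← Nat.card_coe_set_eq]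
      rfl
    have hT' : T.ncard = Nat.card (P : Subgroup G) - Nat.card ↥((P : Subgroup G) ⊓ N) := by
      have : T = ((P : Subgroup G) : Set G) \ ((((P : Subgroup G) ⊓ N : Subgroup G)) : Set G) := by
        ext z
        constructor
        · exact fun hz => ⟨hz.1, fun hh => hz.2 (Subgroup.mem_inf.mp hh).2⟩
        · exact fun hz => ⟨hz.1, fun hh => hz.2 (Subgroup.mem_inf.mpr ⟨hz.1, hh⟩)⟩
      rw [this, Set.ncard_sdiff (fun z hz => (Subgroup.mem_inf.mp hz).1), ← Nat.card_coe_set_eq,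
        ← Nat.card_coe_set_eq]
      rfl
    have hidx := (P : Subgroup G).index_mul_card
    have hsupc := card_sup_mul_card_inf (show (P : Subgroup G) ≤ Subgroup.normalizer (N : Set G) from
      fun g _ => by rw [Subgroup.normalizer_eq_top]; trivial)
    rw [sup_comm, hPN, Subgroup.card_top, inf_comm, ← hidx] at hsupc
    have hNc : Nat.card N = (P : Subgroup G).index * Nat.card ↥((P : Subgroup G) ⊓ N) :=
      Nat.eq_of_mul_eq_mul_right (Nat.card_pos (α := (P : Subgroup G))) (by linarith)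
    rw [hN', hNc, ← hidx, ← Nat.mul_sub, ← hT'] at hcount
    exact (Set.eq_of_subset_of_ncard_le hST
      (Nat.le_of_mul_le_mul_left hcount (Nat.pos_of_ne_zero Subgroup.index_ne_zero_of_finite))).symm
  have hab : ∀ u ∈ (P : Subgroup G), ∀ w ∈ (P : Subgroup G), w * u = u * w := by
    intro u hu w hw
    by_cases huN : u ∈ N
    · have hxu : x * u ∈ T := ⟨mul_mem hxP hu, fun hh => hx ((Subgroup.mul_mem_cancel_right N huN).mp hh)⟩
      rw [hTS] at hxu
      have h1 := hxu.2.2 w hw
      have h2 := hxZ w hw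
      rw [← mul_assoc, h2, mul_assoc, mul_assoc] at h1
      exact mul_left_cancel h1
    · have : u ∈ T := ⟨hu, huN⟩
      rw [hTS] at this
      exact this.2.2 w hw
  by_cases hnorm : (P : Subgroup G).Normal
  · haveI := hnorm
    haveI : Group.IsSolvable (P : Subgroup G) :=
      Group.isSolvable_of_comm fun u w => Subtype.ext (hab w.1 w.2 u.1 u.2)
    obtain ⟨g, hg⟩ : ∃ g, g ∉ (P : Subgroup G) := by
      by_contra hh
      push Not at hh
      exact hcoatom.1 (eq_top_iff.mpr fun z _ => hh z)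
    have hgen : (P : Subgroup G) ⊔ Subgroup.zpowers g = ⊤ :=
      hcoatom.2 _ (lt_of_le_of_ne le_sup_left fun he =>
        hg (he ▸ Subgroup.mem_sup_right (Subgroup.mem_zpowers g)))
    haveI : Group.IsSolvable (G ⧸ (P : Subgroup G)) := by
      refine Group.isSolvable_of_comm fun a b => ?_
      have hall : ∀ a : G ⧸ (P : Subgroup G), ∃ i : ℤ, (g : G ⧸ (P : Subgroup G)) ^ i = a := by
        intro a
        obtain ⟨a, rfl⟩ := QuotientGroup.mk_surjective a
        obtain ⟨c, hc, z, hz, rfl⟩ := Subgroup.mem_sup_of_normal_left.mp (hgen ▸ Subgroup.mem_top a)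
        obtain ⟨i, rfl⟩ := Subgroup.mem_zpowers_iff.mp hz
        exact ⟨i, by rw [QuotientGroup.mk_mul, (QuotientGroup.eq_one_iff c).mpr hc, one_mul,
          QuotientGroup.mk_zpow]⟩
      obtain ⟨i, rfl⟩ := hall a
      obtain ⟨j, rfl⟩ := hall b
      exact ((Commute.refl _).zpow_zpow i j).eq
    exact Group.isSolvable_of_ker_le_range (P : Subgroup G).subtype (QuotientGroup.mk' (P : Subgroup G))
      (by rw [QuotientGroup.ker_mk', Subgroup.range_subtype])
  have hle : Subgroup.normalizer ((P : Subgroup G) : Set G) ≤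
      Subgroup.centralizer ((P : Subgroup G) : Set G) := by
    have hNP : Subgroup.normalizer ((P : Subgroup G) : Set G) = (P : Subgroup G) := by
      by_contra hne
      exact hnorm (Subgroup.normalizer_eq_top_iff.mp
        (hcoatom.2 _ (lt_of_le_of_ne Subgroup.le_normalizer (Ne.symm hne))))
    rw [hNP]
    exact fun u hu w hw => hab u hu w hw
  set K := (MonoidHom.transferSylow P hle).ker with hK
  haveI : Group.IsSolvable (P : Subgroup G) :=
    Group.isSolvable_of_comm fun u w => Subtype.ext (hab w.1 w.2 u.1 u.2)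
  haveI : Group.IsSolvable K := by
    have hcompl : K.IsComplement' (P : Subgroup G) := MonoidHom.ker_transferSylow_isComplement' P hle
    by_cases hK1 : K = ⊥
    · exact Group.isSolvable_of_comm fun a b => by
        have ha : a = 1 := Subtype.ext (Subgroup.mem_bot.mp (hK1 ▸ a.2))
        rw [ha, one_mul, mul_one]
    obtain ⟨q, hq, hqd⟩ := Nat.exists_prime_and_dvd
      (fun h1 : Nat.card K = 1 => hK1 (Subgroup.card_eq_one.mp h1))
    haveI := Fact.mk hq
    have hcop : (Nat.card (P : Subgroup G)).Coprime (Nat.card K) := by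
      obtain ⟨n, hn⟩ := IsPGroup.iff_card.mp P.2
      rw [hn]
      exact Nat.Coprime.pow_left _
        ((Nat.Prime.coprime_iff_not_dvd hp).mpr (MonoidHom.not_dvd_card_ker_transferSylow P hle))
    obtain ⟨Q, hQ⟩ := exists_invariant_sylow (A := (P : Subgroup G)) (K := K)
      (fun g _ => by rw [Subgroup.normalizer_eq_top]; trivial) hcop (Or.inl inferInstance) q
    set Q' := (Q : Subgroup K).map K.subtype with hQ'
    have hQK : Q' ≤ K := Subgroup.map_subtype_le _
    have hdisj : Q' ⊓ (P : Subgroup G) = ⊥ :=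
      le_bot_iff.mp ((inf_le_inf_right _ hQK).trans hcompl.disjoint.le_bot)
    have hQ1 : Q' ≠ ⊥ := by
      intro h0
      have h1 : Nat.card (Q : Subgroup K) = 1 := by
        rw [← Subgroup.card_map_of_injective K.subtype_injective, ← hQ', h0, Subgroup.card_bot]
      exact (Q.dvd_card_of_dvd_card hqd).trans h1.dvd |> hq.not_dvd_one
    have htop : Q' ⊔ (P : Subgroup G) = ⊤ :=
      hcoatom.2 _ (lt_of_le_of_ne le_sup_right fun he => hQ1 (by
        rw [← hdisj]; exact (inf_eq_left.mpr (le_sup_left.trans he.ge)).symm))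
    have hc1 := card_sup_mul_card_inf hQ
    rw [htop, hdisj, Subgroup.card_top, Subgroup.card_bot, mul_one, ← hcompl.card_mul_card] at hc1
    have hKQ : Q' = K := Subgroup.eq_of_le_of_card_ge hQK
      (Nat.eq_of_mul_eq_mul_right Nat.card_pos hc1).le
    haveI := ((Q.2.map K.subtype).to_le (le_of_eq hKQ.symm)).isNilpotent
    infer_instance
  exact Group.isSolvable_of_ker_le_range K.subtype (MonoidHom.transferSylow P hle)
    (by rw [Subgroup.range_subtype])

end

/-- Let N be a proper normal subgroup of the finite group G such that every element x of G outside N has prime power order and has centralizer C_G(x) a maximal subgroup of G. Then N is solvable. -/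
theorem result {G : Type*} [Group G] [Finite G] (N : Subgroup G) [N.Normal] (hN : N ≠ ⊤)
    (h : ∀ x : G, x ∉ N → IsPrimePow (orderOf x) ∧ IsCoatom (Subgroup.centralizer ({x} : Set G))) : Group.IsSolvable ↥N := by
  by_cases hbig : ∃ x : G, x ∉ N ∧ N ≤ Subgroup.centralizer ({x} : Set G)
  · obtain ⟨x, hx, hNx⟩ := hbig
    obtain ⟨p, k, hp, -, hk⟩ := (isPrimePow_nat_iff _).mp (h x hx).1
    haveI := Fact.mk hp
    have hg := centralizer_inf_isPGroup h hx hk.symm
    haveI := (hg.to_le (le_inf le_rfl hNx)).isNilpotent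
    infer_instance
  · push Not at hbig
    haveI := isSolvable_of_hyp hN h hbig
    infer_instance

end Cfsg.Agent.S3903
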