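import Cfsg.Statements.S3904
import Cfsg.Agent.Lib.CentMaxNormal.Structure
import Cfsg.Agent.S0034
-- import your own Cfsg.Agent.* helpers here

set_option autoImplicit false
open Cfsg

namespace Cfsg.Agent.S3904

/-- Let G be a non-abelian finite group in which the centralizer of every non-central element is a maximal subgroup. Then G/Z(G) is either an elementary abelian p-group for some prime p, or a minimal non-abelian group (non-abelian with all proper subgroups abelian) of order p^a · q for distinct primes p, q with a normal Sylow p-subgroup. -/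
theorem result {G : Type*} [Group G] [Finite G] (hna : ¬ IsMulCommutative G)
    (h : ∀ x : G, x ∉ Subgroup.center G → IsCoatom (Subgroup.centralizer ({x} : Set G))) :
    (∃ p : ℕ, p.Prime ∧ Cfsg.IsElementaryAbelian p (⊤ : Subgroup (G ⧸ Subgroup.center G))) ∨
    (¬ IsMulCommutative (G ⧸ Subgroup.center G) ∧ (∀ H : Subgroup (G ⧸ Subgroup.center G), H ≠ ⊤ → IsMulCommutative ↥H) ∧
      ∃ p q a : ℕ, p.Prime ∧ q.Prime ∧ p ≠ q ∧ Nat.card (G ⧸ Subgroup.center G) = p ^ a * q ∧
        ∀ P : Subgroup (G ⧸ Subgroup.center G), Nat.card ↥P = p ^ a → P.Normal) := by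
  let S : CfsgLib.CentMaxNormal.Setup G G :=
    { i := MonoidHom.id G
      inj := Function.injective_id
      normal := by rw [MonoidHom.range_eq_top.mpr Function.surjective_id]; infer_instance
      coatom := fun x hx => h x hx }
  rcases S.main with ⟨p, hp, hc, he⟩ | ⟨x, hx, K, p, hp, hFC, hq, hKn, hKset, hKc, hKel⟩
  · refine Or.inl ⟨p, hp, ⟨⟨fun a b => ?_⟩⟩, fun a _ => ?_⟩
    · obtain ⟨u, hu⟩ := QuotientGroup.mk'_surjective (Subgroup.center G) (a : G ⧸ Subgroup.center G)
      obtain ⟨v, hv⟩ := QuotientGroup.mk'_surjective (Subgroup.center G) (b : G ⧸ Subgroup.center G)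
      refine Subtype.ext ?_
      rw [Subgroup.coe_mul, Subgroup.coe_mul, ← hu, ← hv]
      have h1 := (QuotientGroup.eq_one_iff (N := Subgroup.center G) _).mpr (hc u v)
      simp only [QuotientGroup.mk_mul, QuotientGroup.mk_inv] at h1
      exact commutatorElement_eq_one_iff_commute.mp h1
    · obtain ⟨u, rfl⟩ := QuotientGroup.mk'_surjective (Subgroup.center G) a
      rw [← map_pow]
      exact (QuotientGroup.eq_one_iff _).mpr (he u)
  right
  set π := QuotientGroup.mk' (Subgroup.center G) with hπ
  set Q := (CfsgLib.CentMaxNormal.cen x).map π with hQdef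
  haveI := hKn
  haveI := Fact.mk hp
  obtain ⟨hKcm, hKexp⟩ := hKel
  have hKidx : K.index = Nat.card Q := hKc.symm.index_eq_card
  haveI := Fact.mk hq
  have hKbot : K ≠ ⊥ := fun e => hFC.2.1 (by
    have := hKc.sup_eq_top
    rwa [e, bot_sup_eq] at this)
  have hKpg : IsPGroup p K := fun k => ⟨1, Subtype.ext (by simpa using hKexp k k.2)⟩
  obtain ⟨a, ha⟩ := hKpg.exists_card_eq
  have hmaxK : ∀ B : Subgroup (G ⧸ Subgroup.center G), K ≤ B → B = K ∨ B = ⊤ := by
    intro B hB
    rcases (Nat.dvd_prime hq).mp (hKidx ▸ Subgroup.index_dvd_of_le hB) with e | e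
    · exact Or.inr (Subgroup.index_eq_one.mp e)
    · left
      refine (Subgroup.eq_of_le_of_card_ge hB (le_of_eq ?_)).symm
      refine Nat.eq_of_mul_eq_mul_right (m := B.index) (Nat.pos_of_ne_zero B.index_ne_zero_of_finite) ?_
      rw [B.card_mul_index, e, ← hKidx, K.card_mul_index]
  refine ⟨fun hcomm => ?_, fun H hH => ?_, p, Nat.card Q, a, hp, hq, ?_, ?_, ?_⟩
  · obtain ⟨g, hg⟩ : ∃ g, g ∉ Q := by
      by_contra hcon
      push Not at hcon
      exact hFC.2.1 (eq_top_iff.mpr fun z _ => hcon z)
    refine hFC.1 (le_bot_iff.mp (hFC.2.2 g hg ▸ le_inf le_rfl fun z hz => ?_))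
    rw [CfsgLib.CentMaxNormal.mem_smul_conj_iff]
    haveI := hcomm
    rwa [mul_comm' g⁻¹ z, inv_mul_cancel_right]
  · by_cases hHK : H ≤ K
    · exact ⟨⟨fun u v => Subtype.ext
        (congrArg Subtype.val (mul_comm' (⟨u, hHK u.2⟩ : K) ⟨v, hHK v.2⟩) :)⟩⟩
    obtain ⟨w, hwH, hwK⟩ := SetLike.not_le_iff_exists.mp hHK
    have hgen : K ⊔ Subgroup.zpowers w = ⊤ := (hmaxK _ le_sup_left).resolve_left fun e =>
      hwK (e ▸ Subgroup.mem_sup_right (Subgroup.mem_zpowers w))
    set V := H ⊓ K with hV
    haveI hVn : V.Normal := by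
      rw [← Subgroup.normalizer_eq_top_iff, eq_top_iff, ← hgen, sup_le_iff, Subgroup.zpowers_le]
      constructor
      · intro k hk
        rw [Subgroup.mem_normalizer_iff]
        intro y
        constructor
        · intro hy
          have : k * y * k⁻¹ = y := by
            rw [congrArg Subtype.val (mul_comm' (⟨k, hk⟩ : K) ⟨y, hy.2⟩) |> fun e =>
              (show k * y = y * k from e), mul_inv_cancel_right]
          rwa [this]
        · intro hy
          have hyK : y ∈ K := by
            have := K.mul_mem (K.mul_mem (K.inv_mem hk) hy.2) hk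
            simpa [mul_assoc] using this
          have : k * y * k⁻¹ = y := by
            rw [congrArg Subtype.val (mul_comm' (⟨k, hk⟩ : K) ⟨y, hyK⟩) |> fun e =>
              (show k * y = y * k from e), mul_inv_cancel_right]
          rwa [this] at hy
      · rw [Subgroup.mem_normalizer_iff]
        intro y
        constructor
        · exact fun hy => ⟨H.mul_mem (H.mul_mem hwH hy.1) (H.inv_mem hwH), hKn.conj_mem y hy.2 w⟩
        · intro hy
          have h1 := H.mul_mem (H.mul_mem (H.inv_mem hwH) hy.1) hwH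
          have h2 := hKn.conj_mem _ hy.2 w⁻¹
          exact ⟨by simpa [mul_assoc] using h1, by simpa [mul_assoc] using h2⟩
    have hVcase : V = ⊥ ∨ V = K := by
      rcases (h x hx).le_iff.mp (show CfsgLib.CentMaxNormal.cen x ≤ (V ⊔ Q).comap π by
          rw [← Subgroup.map_le_iff_le_comap]; exact le_sup_right) with e | e
      · right
        refine le_antisymm inf_le_right fun k hk => ?_
        obtain ⟨u, rfl⟩ := QuotientGroup.mk'_surjective (Subgroup.center G) k
        obtain ⟨v, hv, t, ht, hvt⟩ := Subgroup.mem_sup_of_normal_left.mp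
          (show π u ∈ V ⊔ Q from (e ▸ Subgroup.mem_top u : u ∈ (V ⊔ Q).comap π))
        have ht1 : t ∈ K ⊓ Q := ⟨by
          rw [show t = v⁻¹ * π u by rw [← hvt]; group]
          exact K.mul_mem (K.inv_mem hv.2) hk, ht⟩
        rw [hKc.disjoint.eq_bot, Subgroup.mem_bot] at ht1
        rw [← hπ, ← hvt, ht1, mul_one]
        exact hv
      · left
        rw [Subgroup.eq_bot_iff_forall]
        intro v hv
        obtain ⟨u, rfl⟩ := QuotientGroup.mk'_surjective (Subgroup.center G) v
        have hu : u ∈ CfsgLib.CentMaxNormal.cen x := by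
          have h1 : u ∈ (V ⊔ Q).comap π := Subgroup.mem_sup_left (show π u ∈ V from hv)
          rwa [e] at h1
        exact Subgroup.mem_bot.mp (hKc.disjoint.eq_bot ▸
          (⟨hv.2, Subgroup.mem_map_of_mem _ hu⟩ : π u ∈ K ⊓ Q))
    rcases hVcase with e | e
    · haveI : Fact (Nat.card ((G ⧸ Subgroup.center G) ⧸ K)).Prime :=
        ⟨by rw [← Subgroup.index_eq_card, hKidx]; exact hq⟩
      haveI := isCyclic_of_prime_card (α := (G ⧸ Subgroup.center G) ⧸ K) rfl
      have hinj : Function.Injective ((QuotientGroup.mk' K).comp H.subtype) := by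
        rw [← MonoidHom.ker_eq_bot_iff, Subgroup.eq_bot_iff_forall]
        intro u hu
        have : (u : G ⧸ Subgroup.center G) ∈ V := ⟨u.2, (QuotientGroup.eq_one_iff _).mp hu⟩
        rw [e, Subgroup.mem_bot] at this
        exact Subtype.ext this
      haveI := isCyclic_of_injective _ hinj
      exact ⟨⟨(IsCyclic.commGroup (α := H)).mul_comm⟩⟩
    · exfalso
      refine hH (eq_top_iff.mpr (hgen ▸ sup_le (e ▸ inf_le_left) (Subgroup.zpowers_le.mpr hwH)))
  · intro hpq
    have h34 := (Cfsg.Agent.S0034.result Q hFC).2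
    rw [hKc.index_eq_card, ha, ← hpq, Nat.mod_eq_of_lt hp.one_lt] at h34
    rcases Nat.eq_zero_or_pos a with rfl | ha0
    · exact hKbot (Subgroup.card_eq_one.mp (by rw [ha, pow_zero]))
    · rw [Nat.mod_eq_zero_of_dvd (dvd_pow_self p ha0.ne')] at h34
      exact zero_ne_one h34
  · rw [← ha, ← hKidx, K.card_mul_index]
  · intro P hP
    have hPK : P ≤ K := by
      intro z hz
      rw [← QuotientGroup.eq_one_iff (N := K), ← orderOf_eq_one_iff]
      refine Nat.eq_one_of_dvd_coprimes (Nat.Coprime.pow_left a ((Nat.coprime_primes hp hq).mpr ?_))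
        ((orderOf_map_dvd (QuotientGroup.mk' K) z).trans (hP ▸ P.orderOf_dvd_natCard hz))
        (hKidx ▸ K.index_eq_card ▸ orderOf_dvd_natCard _)
      intro hpq
      have h34 := (Cfsg.Agent.S0034.result Q hFC).2
      rw [hKc.index_eq_card, ha, ← hpq, Nat.mod_eq_of_lt hp.one_lt] at h34
      rcases Nat.eq_zero_or_pos a with rfl | ha0
      · exact hKbot (Subgroup.card_eq_one.mp (by rw [ha, pow_zero]))
      · rw [Nat.mod_eq_zero_of_dvd (dvd_pow_self p ha0.ne')] at h34
        exact zero_ne_one h34
    rw [Subgroup.eq_of_le_of_card_ge hPK (by rw [hP, ha])]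
    exact hKn

end Cfsg.Agent.S3904
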