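import Cfsg.Statements.S3905
import Cfsg.Agent.Lib.CentMaxNormal.Structure
-- import your own Cfsg.Agent.* helpers here

set_option autoImplicit false
open Cfsg

namespace Cfsg.Agent.S3905

/-- Let N be a normal subgroup of the finite group G such that for every element x of N outside the center of N the centralizer C_G(x) is a maximal subgroup of G. Then N/Z(N) is either an elementary abelian p-group for some prime p, or a Frobenius group whose kernel is an elementary abelian normal subgroup and whose complement has prime order. -/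
theorem result {G : Type*} [Group G] [Finite G] (N : Subgroup G) [N.Normal]
    (h : ∀ x : G, x ∈ N → x ∉ Subgroup.centralizer (N : Set G) → IsCoatom (Subgroup.centralizer ({x} : Set G))) :
    (∃ p : ℕ, p.Prime ∧ Cfsg.IsElementaryAbelian p (⊤ : Subgroup (↥N ⧸ Subgroup.center ↥N))) ∨
    (∃ (Q K : Subgroup (↥N ⧸ Subgroup.center ↥N)) (p : ℕ), p.Prime ∧ Cfsg.IsFrobeniusComplement Q ∧ (Nat.card ↥Q).Prime ∧
      K.Normal ∧ (K : Set (↥N ⧸ Subgroup.center ↥N)) = Cfsg.frobeniusKernel Q ∧ Cfsg.IsElementaryAbelian p K) := by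
  let S : CfsgLib.CentMaxNormal.Setup N G :=
    { i := N.subtype
      inj := N.subtype_injective
      normal := by rw [Subgroup.range_subtype]; infer_instance
      coatom := fun x hx => h x x.2 fun hc => hx (Subgroup.mem_center_iff.mpr fun g =>
        Subtype.ext (Subgroup.mem_centralizer_iff.mp hc g g.2)) }
  rcases S.main with ⟨p, hp, hc, he⟩ | ⟨x, -, K, p, hp, hFC, hq, hKn, hKset, -, hKel⟩
  · refine Or.inl ⟨p, hp, ⟨⟨fun a b => ?_⟩⟩, fun a _ => ?_⟩
    · obtain ⟨a, rfl⟩ : ∃ a' : ↥(⊤ : Subgroup (↥N ⧸ Subgroup.center ↥N)), a' = a := ⟨a, rfl⟩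
      obtain ⟨u, hu⟩ := QuotientGroup.mk'_surjective (Subgroup.center ↥N) (a : ↥N ⧸ Subgroup.center ↥N)
      obtain ⟨v, hv⟩ := QuotientGroup.mk'_surjective (Subgroup.center ↥N) (b : ↥N ⧸ Subgroup.center ↥N)
      refine Subtype.ext ?_
      rw [Subgroup.coe_mul, Subgroup.coe_mul, ← hu, ← hv]
      have h1 := (QuotientGroup.eq_one_iff (N := Subgroup.center ↥N) _).mpr (hc u v)
      simp only [QuotientGroup.mk_mul, QuotientGroup.mk_inv] at h1
      exact commutatorElement_eq_one_iff_commute.mp h1
    · obtain ⟨u, rfl⟩ := QuotientGroup.mk'_surjective (Subgroup.center ↥N) a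
      rw [← map_pow]
      exact (QuotientGroup.eq_one_iff _).mpr (he u)
  · exact Or.inr ⟨_, K, p, hp, hFC, hq, hKn, hKset, hKel⟩

end Cfsg.Agent.S3905
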