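import Cfsg.Statements.S3908
import Cfsg.Agent.Lib.ZStar.Recognize

set_option autoImplicit false
set_option linter.style.haveILetI false
open Cfsg

namespace Cfsg.Agent.S3908

theorem exists_central_pair {P : Type*} [Group P] [Finite P] {p : ℕ} [Fact p.Prime]
    (hP : IsPGroup p P) {H K : Subgroup P} (hH : Nat.card H = p) (hK : Nat.card K = p) (hne : H ≠ K) :
    ∃ E : Subgroup P, IsMulCommutative E ∧ (∀ e ∈ E, e ^ p = 1) ∧ Nat.card E = p ^ 2 := by
  have hp : p.Prime := Fact.out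
  haveI : Nontrivial P := by
    refine Finite.one_lt_card_iff_nontrivial.mp (lt_of_lt_of_le (hH ▸ hp.one_lt) ?_)
    exact Nat.le_of_dvd Nat.card_pos (Subgroup.card_subgroup_dvd_card H)
  haveI := hP.center_nontrivial
  have hdvd : p ∣ Nat.card (Subgroup.center P) := by
    obtain ⟨k, hk⟩ := IsPGroup.iff_card.mp (hP.to_subgroup (Subgroup.center P))
    have h1 : 1 < Nat.card (Subgroup.center P) := Finite.one_lt_card_iff_nontrivial.mpr inferInstance
    rw [hk]
    refine dvd_pow_self p ?_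
    rintro rfl
    simp [hk] at h1
  obtain ⟨z, hz⟩ := exists_prime_orderOf_dvd_card' p hdvd
  obtain ⟨L, hLc, hL⟩ : ∃ L : Subgroup P, Nat.card L = p ∧ L ≠ Subgroup.zpowers (z : P) := by
    by_cases h : H = Subgroup.zpowers (z : P)
    · exact ⟨K, hK, fun e => hne (h.trans e.symm)⟩
    · exact ⟨H, hH, h⟩
  set Z := Subgroup.zpowers (z : P)
  have hZc : Nat.card Z = p := by rw [Nat.card_zpowers, Subgroup.orderOf_coe, hz]
  have hZle : Z ≤ Subgroup.center P := Subgroup.zpowers_le.mpr z.2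
  haveI : Z.Normal := ⟨fun a ha g => by
    rw [Subgroup.mem_center_iff.mp (hZle ha) g, mul_inv_cancel_right]; exact ha⟩
  have hd : Z ⊓ L = ⊥ := by
    haveI : Fact (Nat.card L).Prime := ⟨hLc.symm ▸ hp⟩
    rcases (Z.subgroupOf L).eq_bot_or_eq_top_of_prime_card with h | h
    · rw [Subgroup.subgroupOf_eq_bot, disjoint_iff] at h
      exact h
    · exact absurd (Subgroup.eq_of_le_of_card_ge (Subgroup.subgroupOf_eq_top.mp h) (by rw [hZc, hLc])) hL
  refine ⟨Z ⊔ L, ⟨⟨?_⟩⟩, ?_, ?_⟩
  · haveI : IsCyclic L := isCyclic_of_prime_card hLc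
    rintro ⟨a, ha⟩ ⟨b, hb⟩
    obtain ⟨a1, ha1, a2, ha2, rfl⟩ := Subgroup.mem_sup_of_normal_left.mp ha
    obtain ⟨b1, hb1, b2, hb2, rfl⟩ := Subgroup.mem_sup_of_normal_left.mp hb
    obtain ⟨l, hl⟩ := IsCyclic.exists_generator (α := L)
    have h22 : Commute a2 b2 := by
      obtain ⟨i, hi⟩ := hl ⟨a2, ha2⟩
      obtain ⟨j, hj⟩ := hl ⟨b2, hb2⟩
      rw [← show ((l : P) ^ i) = a2 from (SubgroupClass.coe_zpow l i).symm.trans (congrArg Subtype.val hi),
        ← show ((l : P) ^ j) = b2 from (SubgroupClass.coe_zpow l j).symm.trans (congrArg Subtype.val hj)]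
      exact (Commute.refl (l : P)).zpow_zpow i j
    have c1 : ∀ x : P, Commute a1 x := fun x => (Subgroup.mem_center_iff.mp (hZle ha1) x).symm
    have d1 : ∀ x : P, Commute x b1 := fun x => Subgroup.mem_center_iff.mp (hZle hb1) x
    exact Subtype.ext ((((c1 _).mul_left (Commute.mul_right (d1 a2) h22))).eq)
  · intro e he
    obtain ⟨a, ha, b, hb, rfl⟩ := Subgroup.mem_sup_of_normal_left.mp he
    have hab : Commute a b := (Subgroup.mem_center_iff.mp (hZle ha) b).symm
    rw [hab.mul_pow]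
    have h1 : a ^ p = 1 := by
      have := congrArg Subtype.val (pow_card_eq_one' (x := (⟨a, ha⟩ : Z)))
      rwa [hZc] at this
    have h2 : b ^ p = 1 := by
      have := congrArg Subtype.val (pow_card_eq_one' (x := (⟨b, hb⟩ : L)))
      rwa [hLc] at this
    rw [h1, h2, mul_one]
  · rw [CfsgLib.Coprime.card_sup_of_normalizer (le_top.trans (Subgroup.normalizer_eq_top Z).ge) hd,
      hZc, hLc, pow_two]

theorem exponent_prime {G : Type*} [Group G] [Finite G]
    (hB : ∀ A B : Subgroup G, IsMulCommutative ↥A → IsMulCommutative ↥B → Nat.card ↥A = Nat.card ↥B → ∃ g : G, B = A.map (MulAut.conj g).toMonoidHom)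
    {p : ℕ} [Fact p.Prime] (P : Subgroup G) (hP : IsPGroup p P) {H K : Subgroup P}
    (hH : Nat.card H = p) (hK : Nat.card K = p) (hne : H ≠ K) : ∀ x ∈ P, x ^ p = 1 := by
  have hp : p.Prime := Fact.out
  obtain ⟨E, hEc, hEe, hEcard⟩ := exists_central_pair hP hH hK hne
  intro x hx
  by_contra hxp
  obtain ⟨k, hk⟩ := IsPGroup.iff_orderOf.mp hP ⟨x, hx⟩
  have hk' : orderOf x = p ^ k := (Subgroup.orderOf_mk x hx).symm.trans hk
  have hk2 : 2 ≤ k := by
    by_contra h
    refine hxp (orderOf_dvd_iff_pow_eq_one.mp ?_)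
    rw [hk']
    exact (pow_dvd_pow p (show k ≤ 1 by omega)).trans (pow_one p).dvd
  set y := x ^ p ^ (k - 2) with hy
  have hyo : orderOf y = p ^ 2 := by
    rw [hy, orderOf_pow_of_dvd (pow_ne_zero _ hp.ne_zero) (hk' ▸ pow_dvd_pow p (by omega)), hk',
      Nat.pow_div (by omega) hp.pos, show k - (k - 2) = 2 by omega]
  haveI := hEc
  have hEm : Nat.card ↥(E.map P.subtype) = p ^ 2 := by
    rw [Subgroup.card_map_of_injective P.subtype_injective, hEcard]
  obtain ⟨g, hg⟩ := hB (E.map P.subtype) (Subgroup.zpowers y) inferInstance inferInstance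
    (by rw [hEm, Nat.card_zpowers, hyo])
  have hym : y ∈ (E.map P.subtype).map (MulAut.conj g).toMonoidHom := hg ▸ Subgroup.mem_zpowers y
  obtain ⟨_, ⟨e, he, rfl⟩, hey⟩ := hym
  have : y ^ p = 1 := by
    rw [← hey, ← map_pow, ← map_pow, hEe e he, map_one, map_one]
  rw [← orderOf_dvd_iff_pow_eq_one, hyo, pow_two] at this
  have hle := Nat.le_of_dvd hp.pos this
  nlinarith [hp.two_le]

/-- Let G be a finite group in which any two abelian subgroups of the same order are conjugate. Then a Sylow 2-subgroup of G is cyclic, elementary abelian or generalized quaternion, and for an odd prime p a Sylow p-subgroup of G is cyclic or has exponent dividing p. -/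
theorem result {G : Type*} [Group G] [Finite G] (hB : ∀ A B : Subgroup G, IsMulCommutative ↥A → IsMulCommutative ↥B → Nat.card ↥A = Nat.card ↥B → ∃ g : G, B = A.map (MulAut.conj g).toMonoidHom) :
    (∀ P : Sylow 2 G, IsCyclic ↥(P : Subgroup G) ∨ Cfsg.IsElementaryAbelian 2 (P : Subgroup G) ∨ ∃ k : ℕ, Nonempty (↥(P : Subgroup G) ≃* QuaternionGroup (2 ^ k))) ∧
    ∀ (p : ℕ) [Fact p.Prime], p ≠ 2 → ∀ P : Sylow p G, IsCyclic ↥(P : Subgroup G) ∨ ∀ x ∈ (P : Subgroup G), x ^ p = 1 := by
  refine ⟨fun P => ?_, fun p _ hp2 P => ?_⟩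
  · by_cases huniq : ∀ x y : (P : Subgroup G), orderOf x = 2 → orderOf y = 2 → x = y
    · rcases CfsgLib.ZStar.cyclic_or_quaternion P.isPGroup' huniq with h | h
      · exact Or.inl h
      · exact Or.inr (Or.inr h)
    refine Or.inr (Or.inl ?_)
    push Not at huniq
    obtain ⟨x, y, hx, hy, hne⟩ := huniq
    have hexp := exponent_prime hB (P : Subgroup G) P.isPGroup' (H := Subgroup.zpowers x)
      (K := Subgroup.zpowers y) (by rw [Nat.card_zpowers, hx]) (by rw [Nat.card_zpowers, hy]) (by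
        intro e
        have hm : x ∈ Subgroup.zpowers y := e ▸ Subgroup.mem_zpowers x
        obtain ⟨i, rfl⟩ := hm
        simp only at hx hne
        rcases Int.even_or_odd i with ⟨j, rfl⟩ | ⟨j, rfl⟩
        · rw [← two_mul, zpow_mul, show y ^ (2 : ℤ) = 1 by
            rw [zpow_ofNat]; exact orderOf_dvd_iff_pow_eq_one.mp hy.dvd, one_zpow, orderOf_one] at hx
          omega
        · refine hne ?_
          rw [zpow_add, zpow_mul, show y ^ (2 : ℤ) = 1 by
            rw [zpow_ofNat]; exact orderOf_dvd_iff_pow_eq_one.mp hy.dvd, one_zpow, one_mul, zpow_one])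
    refine ⟨⟨⟨fun a b => Subtype.ext ?_⟩⟩, hexp⟩
    have inv : ∀ z ∈ (P : Subgroup G), z⁻¹ = z := fun z hz =>
      inv_eq_of_mul_eq_one_right (by rw [← pow_two]; exact hexp z hz)
    calc (a : G) * b = ((a : G) * b)⁻¹ := (inv _ (mul_mem a.2 b.2)).symm
      _ = (b : G)⁻¹ * (a : G)⁻¹ := mul_inv_rev _ _
      _ = b * a := by rw [inv _ a.2, inv _ b.2]
  · by_cases huniq : ∀ H K : Subgroup (P : Subgroup G), Nat.card H = p → Nat.card K = p → H = K
    · exact Or.inl (CfsgLib.ZStar.cyclic_of_unique_subgroup hp2 P.isPGroup' huniq)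
    push Not at huniq
    obtain ⟨H, K, hH, hK, hne⟩ := huniq
    exact Or.inr (exponent_prime hB (P : Subgroup G) P.isPGroup' hH hK hne)
end Cfsg.Agent.S3908
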