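import Cfsg.Statements.S3910
import Mathlib
import Cfsg.Agent.Lib.Elem.PrimaryParts

set_option autoImplicit false
set_option linter.style.haveILetI false
open Cfsg

namespace Cfsg.Agent.S3910

theorem uniq {G : Type*} [Group G] [Finite G]
    (hB : ∀ A B : Subgroup G, IsMulCommutative ↥A → IsMulCommutative ↥B → Nat.card ↥A = Nat.card ↥B → ∃ g : G, B = A.map (MulAut.conj g).toMonoidHom)
    {a b : G} (ha : (Subgroup.zpowers a).Normal) (hd : orderOf b ∣ orderOf a) : b ∈ Subgroup.zpowers a := by
  obtain ⟨e, he⟩ := hd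
  have ho : orderOf (a ^ e) = orderOf b := by
    have he0 : e ≠ 0 := fun h => (orderOf_pos a).ne' (by rw [he, h, mul_zero])
    rw [orderOf_pow' a he0, he, Nat.gcd_eq_right (Dvd.intro_left _ rfl),
      Nat.mul_div_cancel _ (Nat.pos_of_ne_zero he0)]
  obtain ⟨g, hg⟩ := hB (Subgroup.zpowers (a ^ e)) (Subgroup.zpowers b) inferInstance inferInstance
    (by rw [Nat.card_zpowers, Nat.card_zpowers, ho])
  have hb : b ∈ (Subgroup.zpowers (a ^ e)).map (MulAut.conj g).toMonoidHom := hg ▸ Subgroup.mem_zpowers b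
  obtain ⟨c, hc, rfl⟩ := hb
  exact ha.conj_mem c (Subgroup.zpowers_le.mpr (Subgroup.pow_mem _ (Subgroup.mem_zpowers a) e) hc) g

/-- A finite nilpotent group in which any two abelian subgroups of the same order are conjugate is cyclic. -/
theorem result {G : Type*} [Group G] [Finite G] (hB : ∀ A B : Subgroup G, IsMulCommutative ↥A → IsMulCommutative ↥B → Nat.card ↥A = Nat.card ↥B → ∃ g : G, B = A.map (MulAut.conj g).toMonoidHom) (hnil : Group.IsNilpotent G) : IsCyclic G := by
  classical
  haveI := hnil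
  have hcomm : Subgroup.center G = ⊤ := by
    by_contra hne
    haveI : Nontrivial (G ⧸ Subgroup.center G) := QuotientGroup.nontrivial_iff.mpr hne
    haveI : Nontrivial ↥(Subgroup.center (G ⧸ Subgroup.center G)) :=
      (Subgroup.nontrivial_iff_ne_bot _).mpr (Group.IsNilpotent.center_ne_bot (G := G ⧸ Subgroup.center G))
    obtain ⟨⟨q, hq⟩, hq1⟩ := exists_ne (1 : ↥(Subgroup.center (G ⧸ Subgroup.center G)))
    obtain ⟨x0, rfl⟩ := QuotientGroup.mk_surjective q
    let Z2 := (Subgroup.center (G ⧸ Subgroup.center G)).comap (QuotientGroup.mk' (Subgroup.center G))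
    have hx0 : x0 ∉ Subgroup.center G := fun h => hq1 (Subtype.ext ((QuotientGroup.eq_one_iff x0).mpr h))
    refine hx0 (CfsgLib.PrimaryParts.mem_of_primePow_parts fun x hx p m hp hxo => ?_)
    have hx2 : x ∈ Z2 := Subgroup.zpowers_le.mpr (show x0 ∈ Z2 from hq) hx
    haveI := Fact.mk hp
    have hnorm : (Subgroup.zpowers x).Normal := by
      refine ⟨fun w hw g => ?_⟩
      have hz : g * x * g⁻¹ * x⁻¹ ∈ Subgroup.center G := by
        rw [← QuotientGroup.eq_one_iff]
        show (g : G ⧸ Subgroup.center G) * (x : G ⧸ Subgroup.center G) * (g : G ⧸ Subgroup.center G)⁻¹ *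
          (x : G ⧸ Subgroup.center G)⁻¹ = 1
        rw [Subgroup.mem_center_iff.mp (show (x : G ⧸ Subgroup.center G) ∈ Subgroup.center _ from hx2) (g : G ⧸ Subgroup.center G)]
        group
      set z := g * x * g⁻¹ * x⁻¹ with hzdef
      have hcz : Commute z x := (Subgroup.mem_center_iff.mp hz x).symm
      have hzo : orderOf z ∣ orderOf x := by
        apply orderOf_dvd_of_pow_eq_one
        have h1 : (z * x) ^ orderOf x = 1 := by
          rw [show z * x = MulAut.conj g x by rw [MulAut.conj_apply, hzdef, inv_mul_cancel_right],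
            ← map_pow, pow_orderOf_eq_one, map_one]
        rwa [hcz.mul_pow, pow_orderOf_eq_one, mul_one] at h1
      have hznorm : (Subgroup.zpowers z).Normal := ⟨fun u hu v => by
        have hu' : u ∈ Subgroup.center G := Subgroup.zpowers_le.mpr hz hu
        rwa [Subgroup.mem_center_iff.mp hu' v, mul_inv_cancel_right]⟩
      have hzx : z ∈ Subgroup.zpowers x := by
        obtain ⟨e, he⟩ := hzo
        have he0 : e ≠ 0 := fun h => (orderOf_pos x).ne' (by rw [he, h, mul_zero])
        have ho : orderOf (x ^ e) = orderOf z := by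
          rw [orderOf_pow' x he0, he, Nat.gcd_eq_right (Dvd.intro_left _ rfl),
            Nat.mul_div_cancel _ (Nat.pos_of_ne_zero he0)]
        have h1 : x ^ e ∈ Subgroup.zpowers z := uniq hB hznorm ho.dvd
        have h2 : Subgroup.zpowers (x ^ e) = Subgroup.zpowers z := Subgroup.eq_of_le_of_card_ge
          (Subgroup.zpowers_le.mpr h1) (by rw [Nat.card_zpowers, Nat.card_zpowers, ho])
        exact Subgroup.zpowers_le.mpr (Subgroup.pow_mem _ (Subgroup.mem_zpowers x) e)
          (h2 ▸ Subgroup.mem_zpowers z)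
      obtain ⟨k, rfl⟩ := hw
      show g * x ^ k * g⁻¹ ∈ _
      rw [← MulAut.conj_apply, map_zpow, MulAut.conj_apply, show g * x * g⁻¹ = z * x by rw [hzdef, inv_mul_cancel_right]]
      exact Subgroup.zpow_mem _ (Subgroup.mul_mem _ hzx (Subgroup.mem_zpowers x)) k
    rw [Subgroup.mem_center_iff]
    intro y
    refine Subgroup.mem_centralizer_singleton_iff.mp
      (CfsgLib.PrimaryParts.mem_of_primePow_parts (H := Subgroup.centralizer {x}) (x := y) fun w _ q j hq hwo => ?_)
    rw [Subgroup.mem_centralizer_singleton_iff]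
    by_cases hpq : q = p
    · subst hpq
      rcases le_total j m with h | h
      · obtain ⟨i, hi⟩ := uniq hB hnorm (by rw [hwo, hxo]; exact pow_dvd_pow _ h : orderOf w ∣ orderOf x)
        rw [← hi]
        exact (Commute.refl x).zpow_left i
      · have ho : orderOf (w ^ q ^ (j - m)) = orderOf x := by
          rw [orderOf_pow' w (pow_ne_zero _ hq.pos.ne'), hwo, hxo,
            Nat.gcd_eq_right (pow_dvd_pow _ (Nat.sub_le j m)), Nat.pow_div (Nat.sub_le j m) hq.pos]
          congr 1
          omega
        have h2 : Subgroup.zpowers (w ^ q ^ (j - m)) = Subgroup.zpowers x := Subgroup.eq_of_le_of_card_ge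
          (Subgroup.zpowers_le.mpr (uniq hB hnorm ho.dvd)) (by rw [Nat.card_zpowers, Nat.card_zpowers, ho])
        obtain ⟨i, hi⟩ := (h2 ▸ Subgroup.mem_zpowers x : x ∈ Subgroup.zpowers (w ^ q ^ (j - m)))
        rw [← hi]
        exact ((Commute.refl w).pow_right _).zpow_right i
    · haveI := Fact.mk hq
      obtain ⟨P, hP⟩ := (IsPGroup.of_card (p := p) (n := m) (by rw [Nat.card_zpowers, hxo]) : IsPGroup p ↥(Subgroup.zpowers x)).exists_le_sylow
      obtain ⟨Q, hQ⟩ := (IsPGroup.of_card (p := q) (n := j) (by rw [Nat.card_zpowers, hwo]) : IsPGroup q ↥(Subgroup.zpowers w)).exists_le_sylow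
      exact Subgroup.commute_of_normal_of_disjoint (Q : Subgroup G) (P : Subgroup G)
        (Sylow.normal_of_normalizerCondition Group.normalizerCondition_of_isNilpotent Q)
        (Sylow.normal_of_normalizerCondition Group.normalizerCondition_of_isNilpotent P)
        (IsPGroup.disjoint_of_ne q p hpq _ _ Q.2 P.2) w x
        (hQ (Subgroup.mem_zpowers w)) (hP (Subgroup.mem_zpowers x))
  letI : CommGroup G := Group.commGroupOfCenterEqTop hcomm
  obtain ⟨a, ha⟩ := Monoid.exists_orderOf_eq_exponent (G := G) Monoid.ExponentExists.of_finite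
  exact ⟨a, fun b => uniq hB inferInstance (ha ▸ Monoid.order_dvd_exponent b)⟩

end Cfsg.Agent.S3910
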