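import Cfsg.Statements.S3911
import Cfsg.Agent.Lib.PGroup.RankTwoNormal

/-!
Conjugacy of abelian subgroups of equal order passes to odd order quotients.

A minimal lift of an abelian subgroup is nilpotent, so abelian: a Sylow subgroup for a prime dividing
both `#M` and the index is cyclic. Its order only depends on the order of the image.
-/

set_option autoImplicit false
set_option linter.style.haveILetI false
open Cfsg

namespace Cfsg.Agent.S3911

open scoped commutatorElement

variable {G : Type*} [Group G] [Finite G]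

/-- For a prime dividing both an odd `#M` and the index, the Sylow subgroup is cyclic. -/
theorem cyclic_sylow (hB : ∀ A B : Subgroup G, IsMulCommutative ↥A → IsMulCommutative ↥B → Nat.card ↥A = Nat.card ↥B → ∃ g : G, B = A.map (MulAut.conj g).toMonoidHom)
    (M : Subgroup G) [M.Normal] {q : ℕ} [hq : Fact q.Prime] (hq2 : q ≠ 2) (hM : q ∣ Nat.card M)
    (hi : q ∣ M.index) (P : Sylow q G) : IsCyclic (P : Subgroup G) := by
  -- all elements of order dividing `q` lie in `M`
  have hmemM : ∀ x : G, x ^ q = 1 → x ∈ M := by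
    intro x hx
    rcases (Nat.dvd_prime hq.out).1 (orderOf_dvd_of_pow_eq_one hx) with h | h
    · rw [orderOf_eq_one_iff.1 h]; exact one_mem M
    · obtain ⟨m, hm⟩ := exists_prime_orderOf_dvd_card' (G := M) q hM
      obtain ⟨g, hg⟩ := hB (Subgroup.zpowers (m : G)) (Subgroup.zpowers x) inferInstance inferInstance
        (by rw [Nat.card_zpowers, Nat.card_zpowers, h, Subgroup.orderOf_coe, hm])
      have : x ∈ Subgroup.zpowers x := Subgroup.mem_zpowers x
      rw [hg] at this
      obtain ⟨y, hy, rfl⟩ := this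
      exact Subgroup.Normal.conj_mem inferInstance y (Subgroup.zpowers_le.2 m.2 hy) g
  set S : Subgroup G := (P : Subgroup G)
  have hqG : q ∣ Nat.card G := hi.trans (Subgroup.index_dvd_card M)
  haveI : Nontrivial S := (Subgroup.nontrivial_iff_ne_bot _).2 fun h => by
    have := P.not_dvd_index
    rw [show (P : Subgroup G) = ⊥ from h, Subgroup.index_bot] at this
    exact this hqG
  haveI := P.2.center_nontrivial
  obtain ⟨z, hz⟩ := exists_prime_orderOf_dvd_card' (G := Subgroup.center S) q (by
    obtain ⟨k, hk⟩ := (P.2.to_subgroup (Subgroup.center S)).exists_card_eq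
    rw [hk]
    refine dvd_pow_self q fun h0 => ?_
    rw [h0, pow_zero] at hk
    exact (Finite.one_lt_card (α := Subgroup.center S)).ne' hk)
  rw [← Subgroup.orderOf_coe] at hz
  -- either one line, or everything has exponent `q`
  suffices key : ∀ x : S, x ^ q = 1 → x ∈ Subgroup.zpowers (z : S) by
    have h := CfsgLib.RankTwoNormal.isCyclic_of_line (p := q) P.2 hq2 (C := (⊤ : Subgroup S))
      (Z := Subgroup.zpowers (z : S)) (by rw [Nat.card_zpowers, hz]) (fun x _ hx => key x hx)
    exact isCyclic_of_surjective Subgroup.topEquiv (MulEquiv.surjective _)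
  intro x hx
  by_contra hxz
  set E : Subgroup S := Subgroup.closure {(z : S), x} with hE
  haveI hEc : IsMulCommutative E := Subgroup.isMulCommutative_closure (by
    rintro a (rfl | rfl) b (rfl | rfl)
    · rfl
    · exact (Subgroup.mem_center_iff.1 z.2 _).symm
    · exact Subgroup.mem_center_iff.1 z.2 _
    · rfl)
  have hEexp : ∀ e ∈ E, e ^ q = 1 := by
    intro e he
    induction he using Subgroup.closure_induction with
    | mem a ha =>
      rcases ha with rfl | rfl
      · rw [← hz, pow_orderOf_eq_one]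
      · exact hx
    | one => exact one_pow q
    | mul a b ha hb iha ihb =>
      rw [(congrArg Subtype.val (mul_comm' (⟨a, ha⟩ : E) ⟨b, hb⟩) : a * b = b * a) |>
        fun h => (show Commute a b from h).mul_pow q, iha, ihb, one_mul]
    | inv a _ iha => rw [inv_pow, iha, inv_one]
  have hlt : Subgroup.zpowers (z : S) < E := by
    refine lt_of_le_of_ne (Subgroup.zpowers_le.2 (Subgroup.subset_closure (Or.inl rfl))) fun h => hxz ?_
    rw [h]
    exact Subgroup.subset_closure (Or.inr rfl)
  obtain ⟨k, hk⟩ := (P.2.to_subgroup E).exists_card_eq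
  have hk2 : 2 ≤ k := by
    by_contra hk1
    have h1 := Subgroup.card_le_of_le hlt.le
    refine hlt.ne (Subgroup.eq_of_le_of_card_ge hlt.le ?_)
    rw [hk, Nat.card_zpowers, hz]
    calc q ^ k ≤ q ^ 1 := Nat.pow_le_pow_right hq.out.pos (by omega)
      _ = q := pow_one q
  obtain ⟨E₂, hE₂⟩ := Sylow.exists_subgroup_card_pow_prime q (G := E)
    (n := 2) (hk ▸ pow_dvd_pow q hk2)
  set E' : Subgroup G := ((E₂.map E.subtype).map S.subtype) with hE'
  have hE'card : Nat.card E' = q ^ 2 := by
    rw [hE', Subgroup.card_map_of_injective S.subtype_injective,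
      Subgroup.card_map_of_injective E.subtype_injective, hE₂]
  haveI : IsMulCommutative E' := by
    refine ⟨⟨?_⟩⟩
    rintro ⟨_, ⟨_, ⟨a, ha, rfl⟩, rfl⟩⟩ ⟨_, ⟨_, ⟨b, hb, rfl⟩, rfl⟩⟩
    apply Subtype.ext
    exact congrArg (fun t : E => ((t : S) : G)) (mul_comm' a b)
  -- so no element of `S` has order `q ^ 2`
  have hall : ∀ y : S, y ^ q = 1 := by
    intro y
    by_contra hy
    obtain ⟨j, hj⟩ := (IsPGroup.iff_orderOf.1 P.2) y
    have hj2 : 2 ≤ j := by
      by_contra hj1
      refine hy (orderOf_dvd_iff_pow_eq_one.1 (hj ▸ ?_))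
      calc q ^ j ∣ q ^ 1 := pow_dvd_pow q (by omega)
        _ = q := pow_one q
    have hyo : orderOf ((y : G) ^ q ^ (j - 2)) = q ^ 2 := by
      rw [← Subgroup.orderOf_coe] at hj
      rw [orderOf_pow_of_dvd (pow_ne_zero _ hq.out.ne_zero) (hj ▸ pow_dvd_pow q (by omega)), hj,
        Nat.pow_div (by omega) hq.out.pos]
      congr 1
      omega
    obtain ⟨g, hg⟩ := hB E' (Subgroup.zpowers ((y : G) ^ q ^ (j - 2))) inferInstance inferInstance
      (by rw [hE'card, Nat.card_zpowers, hyo])
    have : (y : G) ^ q ^ (j - 2) ∈ E'.map (MulAut.conj g).toMonoidHom := hg ▸ Subgroup.mem_zpowers _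
    obtain ⟨_, ⟨_, ⟨e, he, rfl⟩, rfl⟩, hew⟩ := this
    have h1 : ((y : G) ^ q ^ (j - 2)) ^ q = 1 := by
      rw [← hew, ← map_pow]
      show MulAut.conj g ((((e : S) ^ q : S)) : G) = 1
      rw [hEexp _ e.2, Subgroup.coe_one, map_one]
    have h2 := orderOf_dvd_of_pow_eq_one h1
    rw [hyo] at h2
    have h3 := Nat.le_of_dvd hq.out.pos h2
    rw [sq] at h3
    have := hq.out.two_le
    nlinarith
  refine P.not_dvd_index (hi.trans (Subgroup.index_dvd_of_le fun w hw => hmemM w ?_))
  exact congrArg Subtype.val (hall ⟨w, hw⟩)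

/-- A minimal lift of an abelian subgroup of the quotient: abelian, of determined order. -/
theorem exists_lift (hB : ∀ A B : Subgroup G, IsMulCommutative ↥A → IsMulCommutative ↥B → Nat.card ↥A = Nat.card ↥B → ∃ g : G, B = A.map (MulAut.conj g).toMonoidHom)
    (M : Subgroup G) [M.Normal] (hM : Odd (Nat.card ↥M)) (A : Subgroup (G ⧸ M))
    [IsMulCommutative ↥A] :
    ∃ S : Subgroup G, IsMulCommutative ↥S ∧ S.map (QuotientGroup.mk' M) = A ∧
      ∀ q : ℕ, q.Prime → (Nat.card S).factorization q =
        if q ∣ Nat.card A then (Nat.card A).factorization q + (Nat.card M).factorization q else 0 := by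
  classical
  set f := QuotientGroup.mk' M with hf
  obtain ⟨S, hS, hmin⟩ := Set.Finite.exists_minimal (Set.toFinite {S : Subgroup G | S.map f = A})
    ⟨A.comap f, Subgroup.map_comap_eq_self_of_surjective (QuotientGroup.mk'_surjective M) A⟩
  have hS' : S.map f = A := hS
  set K : Subgroup S := M.subgroupOf S with hK
  have hsupp : ∀ T : Subgroup S, T ⊔ K = ⊤ → T = ⊤ := by
    intro T hT
    have h1 : (T.map S.subtype).map f = A := by
      refine le_antisymm ((Subgroup.map_mono (Subgroup.map_subtype_le T)).trans hS'.le) ?_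
      rw [← hS']
      rintro _ ⟨x, hx, rfl⟩
      have : (⟨x, hx⟩ : S) ∈ (↑(T ⊔ K) : Set S) := by rw [hT]; trivial
      rw [Subgroup.mul_normal] at this
      obtain ⟨t, ht, k, hk, hxe⟩ := this
      refine ⟨(t : G), ⟨t, ht, rfl⟩, ?_⟩
      have hxe' : (t : G) * (k : G) = x := congrArg Subtype.val hxe
      rw [← hxe', map_mul, show f (k : G) = 1 from (QuotientGroup.eq_one_iff _).2 hk, mul_one]
    have h2 := hmin h1 (Subgroup.map_subtype_le T)
    refine top_le_iff.1 fun x _ => ?_
    obtain ⟨y, hy, hyx⟩ := h2 x.2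
    rwa [← (Subtype.ext hyx : y = x)]
  have hcomK : commutator S ≤ K := by
    rw [commutator_def, Subgroup.commutator_le]
    intro a _ b _
    refine (QuotientGroup.eq_one_iff (N := M) _).1 ?_
    show f ((⁅a, b⁆ : S) : G) = 1
    have ha : f (a : G) ∈ A := hS' ▸ ⟨_, a.2, rfl⟩
    have hb : f (b : G) ∈ A := hS' ▸ ⟨_, b.2, rfl⟩
    rw [show ((⁅a, b⁆ : S) : G) = ⁅(a : G), (b : G)⁆ from map_commutatorElement S.subtype a b,
      map_commutatorElement, commutatorElement_eq_one_iff_mul_comm]
    exact congrArg Subtype.val (mul_comm' (⟨_, ha⟩ : A) ⟨_, hb⟩)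
  -- all Sylow subgroups of `S` are normal
  have hnormal : ∀ (q : ℕ) [Fact q.Prime] (Q : Sylow q S), (Q : Subgroup S).Normal := by
    intro q _ Q
    haveI : ((Q : Subgroup S) ⊔ K).Normal :=
      Subgroup.Normal.of_commutator_le S (hcomK.trans le_sup_right)
    have h1 := Sylow.normalizer_sup_eq_top (Q.subtype (le_sup_left : (Q : Subgroup S) ≤ _ ⊔ K))
    rw [Sylow.coe_subtype, Subgroup.subgroupOf_map_subtype, inf_eq_left.2 le_sup_left, ← sup_assoc,
      sup_eq_left.2 Subgroup.le_normalizer] at h1
    exact Subgroup.normalizer_eq_top_iff.1 (hsupp _ h1)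
  -- a Sylow subgroup inside `K` is trivial
  have hbot : ∀ (q : ℕ) [Fact q.Prime] (Q : Sylow q S), (Q : Subgroup S) ≤ K →
      (Q : Subgroup S) = ⊥ := by
    intro q _ Q hQ
    haveI := hnormal q Q
    obtain ⟨R, hR⟩ := Subgroup.exists_right_complement'_of_coprime (N := (Q : Subgroup S))
      Q.card_coprime_index
    have htop : R = ⊤ := hsupp R (top_le_iff.1 (hR.sup_eq_top.ge.trans
      (sup_le (hQ.trans le_sup_right) le_sup_left)))
    rw [htop] at hR
    exact Subgroup.isComplement'_top_right.1 hR
  have hcard : Nat.card S = Nat.card A * Nat.card K := by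
    rw [← K.card_mul_index, mul_comm, ← hS']
    congr 1
    rw [show K = (f.comp S.subtype).ker by
      ext x
      exact (QuotientGroup.eq_one_iff (x : G)).symm, Subgroup.index_ker, MonoidHom.range_comp,
      Subgroup.range_subtype]
  have hKM : Nat.card K ∣ Nat.card M := by
    rw [hK, ← Subgroup.card_map_of_injective S.subtype_injective, Subgroup.subgroupOf_map_subtype]
    exact Subgroup.card_dvd_of_le inf_le_left
  -- the shared primes
  have hshared : ∀ (q : ℕ) [Fact q.Prime] (Q : Sylow q S), q ∣ Nat.card A → q ∣ Nat.card M →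
      IsCyclic (Q : Subgroup S) ∧
        q ^ (Nat.card M).factorization q ∣ Nat.card K := by
    intro q hq Q hqA hqM
    have hi : q ∣ M.index := hqA.trans (Subgroup.card_subgroup_dvd_card A)
    have hq2 : q ≠ 2 := fun h => (Nat.not_even_iff_odd.2 hM) (even_iff_two_dvd.2 (h ▸ hqM))
    obtain ⟨P, hP⟩ := (Q.2.map S.subtype).exists_le_sylow
    haveI := cyclic_sylow hB M hq2 hqM hi P
    have hcyc : IsCyclic (Q : Subgroup S) :=
      isCyclic_of_injective (((S.subtype.comp (Q : Subgroup S).subtype).codRestrict (P : Subgroup G)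
        fun y => hP ⟨y, y.2, rfl⟩)) fun a b h => Subtype.ext (Subtype.ext (congrArg Subtype.val h :))
    refine ⟨hcyc, ?_⟩
    -- a Sylow subgroup of `M` inside `P`
    obtain ⟨R⟩ : Nonempty (Sylow q M) := inferInstance
    obtain ⟨P₀, hP₀⟩ := (R.2.map M.subtype).exists_le_sylow
    obtain ⟨g, rfl⟩ := MulAction.exists_smul_eq G P₀ P
    set R' : Subgroup G := ((R : Subgroup M).map M.subtype).map (MulAut.conj g).toMonoidHom with hR'
    have hR'P : R' ≤ ((g • P₀ : Sylow q G) : Subgroup G) := by
      rw [Sylow.coe_subgroup_smul]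
      exact Subgroup.map_mono hP₀
    have hR'M : R' ≤ M := by
      rintro _ ⟨_, ⟨y, -, rfl⟩, rfl⟩
      exact Subgroup.Normal.conj_mem inferInstance _ y.2 g
    have hR'card : Nat.card R' = q ^ (Nat.card M).factorization q := by
      rw [hR', Subgroup.card_map_of_injective (MulAut.conj g).injective,
        Subgroup.card_map_of_injective M.subtype_injective, R.card_eq_multiplicity]
    -- nested in the cyclic group
    set C : Subgroup G := (Q : Subgroup S).map S.subtype with hC
    have hRC : R' ≤ C := by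
      have hnest : ∀ U V : Subgroup ((g • P₀ : Sylow q G) : Subgroup G), Nat.card U ∣ Nat.card V →
          U ≤ V := by
        intro U V h
        letI : CommGroup ((g • P₀ : Sylow q G) : Subgroup G) := IsCyclic.commGroup
        intro u hu
        have h1 : Nat.card (powMonoidHom (Nat.card V) :
            ((g • P₀ : Sylow q G) : Subgroup G) →* _).ker = Nat.card V := by
          rw [IsCyclic.card_powMonoidHom_ker, Nat.gcd_eq_right (Subgroup.card_subgroup_dvd_card V)]
        have h2 : V ≤ (powMonoidHom (Nat.card V) : ((g • P₀ : Sylow q G) : Subgroup G) →* _).ker :=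
          fun v hv => orderOf_dvd_iff_pow_eq_one.1 (Subgroup.orderOf_dvd_natCard V hv)
        rw [Subgroup.eq_of_le_of_card_ge h2 h1.le]
        exact orderOf_dvd_iff_pow_eq_one.1 ((Subgroup.orderOf_dvd_natCard U hu).trans h)
      have hcards : ∀ (X : Subgroup G), X ≤ ((g • P₀ : Sylow q G) : Subgroup G) →
          Nat.card (X.subgroupOf ((g • P₀ : Sylow q G) : Subgroup G)) = Nat.card X :=
        fun X hX => Nat.card_congr (Subgroup.subgroupOfEquivOfLe hX).toEquiv
      obtain ⟨j, hj⟩ := (Q.2.map S.subtype).exists_card_eq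
      rcases le_total ((Nat.card M).factorization q) j with hle | hle
      · have := hnest (R'.subgroupOf _) (C.subgroupOf _) (by
          rw [hcards _ hR'P, hcards _ hP, hR'card, hj]
          exact pow_dvd_pow q hle)
        intro r hr
        exact this (x := ⟨r, hR'P hr⟩) hr
      · exfalso
        have := hnest (C.subgroupOf _) (R'.subgroupOf _) (by
          rw [hcards _ hR'P, hcards _ hP, hR'card, hj]
          exact pow_dvd_pow q hle)
        have hQK : (Q : Subgroup S) ≤ K := fun y hy =>
          hR'M (this (x := ⟨(y : G), hP ⟨y, hy, rfl⟩⟩) ⟨y, hy, rfl⟩)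
        have hQbot := hbot q Q hQK
        have h1 := Q.not_dvd_index
        rw [hQbot, Subgroup.index_bot] at h1
        exact h1 (hcard ▸ hqA.mul_right _)
    rw [hK, ← Subgroup.card_map_of_injective S.subtype_injective, Subgroup.subgroupOf_map_subtype,
      ← hR'card]
    exact Subgroup.card_dvd_of_le (le_inf hR'M (hRC.trans (Subgroup.map_subtype_le _)))
  have hfac : ∀ q : ℕ, q.Prime → (Nat.card S).factorization q =
      if q ∣ Nat.card A then (Nat.card A).factorization q + (Nat.card M).factorization q else 0 := by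
    intro q hq
    haveI := Fact.mk hq
    obtain ⟨Q⟩ : Nonempty (Sylow q S) := inferInstance
    split_ifs with hqA
    · rw [hcard, Nat.factorization_mul Nat.card_pos.ne' Nat.card_pos.ne', Finsupp.add_apply]
      congr 1
      refine le_antisymm ((Nat.factorization_le_iff_dvd Nat.card_pos.ne' Nat.card_pos.ne').2 hKM q) ?_
      by_cases hqM : q ∣ Nat.card M
      · exact (hq.pow_dvd_iff_le_factorization Nat.card_pos.ne').1 (hshared q Q hqA hqM).2
      · rw [Nat.factorization_eq_zero_of_not_dvd hqM]; exact Nat.zero_le _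
    · have hQK : (Q : Subgroup S) ≤ K := by
        intro y hy
        refine (QuotientGroup.eq_one_iff (y : G)).1 (orderOf_eq_one_iff.1 (Nat.eq_one_of_dvd_coprimes
          (a := Nat.card A) (b := Nat.card (Q : Subgroup S)) ?_ ?_ ?_))
        · rw [Q.card_eq_multiplicity]
          exact ((hq.coprime_iff_not_dvd.2 hqA).symm.pow_right _)
        · exact (Subgroup.orderOf_coe (⟨f y, hS' ▸ ⟨_, y.2, rfl⟩⟩ : A)).dvd.trans (orderOf_dvd_natCard _)
        · exact (orderOf_map_dvd f (y : G)).trans ((Subgroup.orderOf_coe y).dvd.trans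
            (Subgroup.orderOf_dvd_natCard _ hy))
      have h1 := Q.card_eq_multiplicity
      rw [hbot q Q hQK, Subgroup.card_bot] at h1
      rcases Nat.pow_eq_one.1 h1.symm with h | h
      · exact absurd h hq.ne_one
      · exact h
  refine ⟨S, ?_, hS', hfac⟩
  -- Sylow subgroups of `S` are abelian
  have hab : ∀ (q : ℕ) [Fact q.Prime] (Q : Sylow q S), ∀ a b : (Q : Subgroup S), a * b = b * a := by
    intro q hq Q a b
    by_cases hqM : q ∣ Nat.card M
    · by_cases hqA : q ∣ Nat.card A
      · haveI := (hshared q Q hqA hqM).1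
        letI : CommGroup (Q : Subgroup S) := IsCyclic.commGroup
        exact mul_comm a b
      · have h1 := hfac q hq.out
        rw [if_neg hqA] at h1
        have hsub : Subsingleton (Q : Subgroup S) :=
          (Nat.card_eq_one_iff_unique.1 (by rw [Q.card_eq_multiplicity, h1, pow_zero])).1
        exact Subsingleton.elim _ _
    · refine Subtype.ext (commutatorElement_eq_one_iff_mul_comm.1 ?_)
      have h1 : ⁅(a : S), (b : S)⁆ ∈ K := hcomK
        (Subgroup.commutator_mem_commutator (Subgroup.mem_top _) (Subgroup.mem_top _))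
      have h2 : ⁅(a : S), (b : S)⁆ ∈ (Q : Subgroup S) := (⁅a, b⁆ : (Q : Subgroup S)).2
      refine orderOf_eq_one_iff.1 (Nat.eq_one_of_dvd_coprimes (a := Nat.card K)
        (b := Nat.card (Q : Subgroup S)) ?_ (Subgroup.orderOf_dvd_natCard _ h1)
        (Subgroup.orderOf_dvd_natCard _ h2))
      rw [Q.card_eq_multiplicity]
      exact ((hq.out.coprime_iff_not_dvd.2 fun h => hqM (h.trans hKM)).symm.pow_right _)
  haveI : Group.IsNilpotent S := (Group.isNilpotent_of_finite_tfae (G := S)).out 3 0 |>.1
    fun q hq Q => @hnormal q hq Q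
  obtain ⟨e⟩ := ((Group.isNilpotent_of_finite_tfae (G := S)).out 0 4).1 ‹_›
  refine ⟨⟨fun x y => e.symm.injective ?_⟩⟩
  rw [map_mul, map_mul]
  funext q Q
  haveI := Fact.mk (Nat.prime_of_mem_primeFactors q.2)
  exact hab q Q _ _

/-- Let G be a finite group in which any two abelian subgroups of the same order are conjugate. If M is a normal subgroup of G of odd order, then any two abelian subgroups of G/M of the same order are conjugate in G/M. -/
theorem result {G : Type*} [Group G] [Finite G] (hB : ∀ A B : Subgroup G, IsMulCommutative ↥A → IsMulCommutative ↥B → Nat.card ↥A = Nat.card ↥B → ∃ g : G, B = A.map (MulAut.conj g).toMonoidHom) (M : Subgroup G) [M.Normal] (hM : Odd (Nat.card ↥M)) :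
    ∀ A B : Subgroup (G ⧸ M), IsMulCommutative ↥A → IsMulCommutative ↥B → Nat.card ↥A = Nat.card ↥B →
      ∃ g : G ⧸ M, B = A.map (MulAut.conj g).toMonoidHom := by
  intro A B hA hBc hcard
  obtain ⟨SA, hSA, hA1, hA2⟩ := exists_lift hB M hM A
  obtain ⟨SB, hSB, hB1, hB2⟩ := exists_lift hB M hM B
  obtain ⟨g, hg⟩ := hB SA SB hSA hSB (Nat.eq_of_factorization_eq Nat.card_pos.ne' Nat.card_pos.ne'
    fun q => by
      by_cases hq : q.Prime
      · rw [hA2 q hq, hB2 q hq, hcard]
      · rw [Nat.factorization_eq_zero_of_not_prime _ hq, Nat.factorization_eq_zero_of_not_prime _ hq])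
  refine ⟨QuotientGroup.mk' M g, ?_⟩
  rw [← hA1, ← hB1, hg, Subgroup.map_map, Subgroup.map_map]
  congr 1

end Cfsg.Agent.S3911
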