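import Cfsg.Statements.S3915
import Cfsg.Agent.Lib.Layer.Basic
import Cfsg.Agent.Lib.OddOrder.Solvable

set_option autoImplicit false
open Cfsg

namespace Cfsg.Agent.S3915

theorem isSolvable_of_quotient_center {K : Type*} [Group K]
    (h : Group.IsSolvable (K ⧸ Subgroup.center K)) : Group.IsSolvable K := by
  haveI := h
  haveI : Group.IsSolvable (Subgroup.center K) :=
    Group.isSolvable_of_comm fun a b => Subtype.ext (Subgroup.mem_center_iff.mp b.2 a)
  exact solvable_of_ker_le_range (Subgroup.center K).subtype (QuotientGroup.mk' (Subgroup.center K))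
    (by rw [QuotientGroup.ker_mk', Subgroup.range_subtype])

theorem exists_two_element_noncentral {K : Type*} [Group K] [Finite K] (hK : IsQuasisimple K) :
    ∃ x : K, (∃ a : ℕ, orderOf x = 2 ^ a) ∧ x ∉ Subgroup.center K := by
  haveI := hK.2
  have hns : ¬ Group.IsSolvable (K ⧸ Subgroup.center K) := by
    intro h
    exact CfsgLib.Layer.not_isSolvable_of_isQuasisimple hK
      (isSolvable_of_quotient_center h)
  have heven : 2 ∣ Nat.card (K ⧸ Subgroup.center K) := by
    by_contra h
    exact hns (CfsgLib.OddOrder.odd_order_solvable (Nat.odd_iff.mpr (by omega)))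
  haveI := Fact.mk Nat.prime_two
  obtain ⟨u, hu⟩ := exists_prime_orderOf_dvd_card' 2 heven
  obtain ⟨v, rfl⟩ := QuotientGroup.mk_surjective u
  have hn0 : orderOf v ≠ 0 := (orderOf_pos v).ne'
  obtain ⟨a, m, hm, hv⟩ := Nat.exists_eq_two_pow_mul_odd hn0
  refine ⟨v ^ m, ⟨a, ?_⟩, ?_⟩
  · rw [orderOf_pow' v hm.pos.ne', hv, Nat.gcd_eq_right (dvd_mul_left m _),
      Nat.mul_div_cancel _ hm.pos]
  · intro h
    rw [← QuotientGroup.eq_one_iff, QuotientGroup.mk_pow, ← orderOf_dvd_iff_pow_eq_one, hu] at h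
    have := Nat.odd_iff.mp hm; omega

theorem centralizes_zpowers {G : Type*} [Group G] {u w : G} (h : Subgroup.zpowers u = Subgroup.zpowers w)
    {L : Subgroup G} (hu : u ∈ Subgroup.centralizer (L : Set G)) :
    w ∈ Subgroup.centralizer (L : Set G) :=
  (Subgroup.zpowers_le.mpr hu) (h ▸ Subgroup.mem_zpowers w)

/-- Under the hypothesis there is only one component. -/
theorem component_unique {G : Type*} [Group G] [Finite G]
    (hP : ∀ (p : ℕ), p.Prime → ∀ A B : Subgroup G, IsCyclic ↥A → IsCyclic ↥B → IsPGroup p ↥A →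
      Nat.card ↥A = Nat.card ↥B → ∃ g : G, B = A.map (MulAut.conj g).toMonoidHom)
    {K L : Subgroup G} (hK : IsComponent K) (hL : IsComponent L) : K = L := by
  classical
  have hex : ∀ J : Subgroup G, IsComponent J → ∃ a, ∃ x ∈ J,
      orderOf x = 2 ^ a ∧ x ∉ Subgroup.centralizer (J : Set G) := by
    intro J hJ
    obtain ⟨x, ⟨a, ha⟩, hx⟩ := exists_two_element_noncentral hJ.2
    refine ⟨a, x, x.2, by rw [← ha, orderOf_submonoid x], fun h => hx ?_⟩
    exact Subgroup.mem_center_iff.mpr fun y => Subtype.ext (Subgroup.mem_centralizer_iff.mp h y y.2)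
  by_contra hne
  wlog hle : Nat.find (hex L hL) ≤ Nat.find (hex K hK) generalizing K L
  · exact this hL hK (Ne.symm hne) (le_of_not_ge hle)
  obtain ⟨x, hxK, hox, hxc⟩ := Nat.find_spec (hex K hK)
  obtain ⟨y, hyL, hoy, hyc⟩ := Nat.find_spec (hex L hL)
  set a := Nat.find (hex K hK) with ha
  set b := Nat.find (hex L hL) with hb
  have hcomm : ∀ {J J' : Subgroup G}, IsComponent J → IsComponent J' → J ≠ J' → ∀ {u : G},
      u ∈ J → u ∈ Subgroup.centralizer (J' : Set G) := fun hJ hJ' h u hu =>
    Subgroup.commutator_eq_bot_iff_le_centralizer.mp (CfsgLib.Layer.commutator_eq_bot_of_ne hJ hJ' h) hu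
  have hxL := hcomm hK hL hne hxK
  have hyK := hcomm hL hK (Ne.symm hne) hyL
  have hxy : Commute x y := Subgroup.mem_centralizer_iff.mp hyK x hxK
  set w := x * y with hw
  have hwK : w ∉ Subgroup.centralizer (K : Set G) := fun h => hxc (by
    simpa [hw] using mul_mem h (inv_mem hyK))
  have hwpow : w ^ 2 ^ a = 1 := by
    rw [hw, hxy.mul_pow, ← hox, pow_orderOf_eq_one, one_mul, ← orderOf_dvd_iff_pow_eq_one, hox, hoy]
    exact Nat.pow_dvd_pow 2 hle
  obtain ⟨c, hca, hoc⟩ := (Nat.dvd_prime_pow Nat.prime_two).mp (orderOf_dvd_of_pow_eq_one hwpow)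
  -- a conjugate of an element of the same 2-power order generates the same subgroup as `w`
  have hconj : ∀ u : G, orderOf u = 2 ^ c →
      ∃ g : G, Subgroup.zpowers (g * u * g⁻¹) = Subgroup.zpowers w := by
    intro u hu
    obtain ⟨g, hg⟩ := hP 2 Nat.prime_two (Subgroup.zpowers u) (Subgroup.zpowers w) inferInstance
      inferInstance (IsPGroup.of_card (n := c) (by rw [Nat.card_zpowers, hu]))
      (by rw [Nat.card_zpowers, Nat.card_zpowers, hu, hoc])
    exact ⟨g, by rw [hg, MonoidHom.map_zpowers]; simp⟩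
  have hcent : ∀ {u g : G} {J : Subgroup G}, u ∈ Subgroup.centralizer (J : Set G) →
      g * u * g⁻¹ ∈ Subgroup.centralizer (J.map (MulAut.conj g).toMonoidHom : Set G) := by
    intro u g J hu
    refine Subgroup.mem_centralizer_iff.mpr ?_
    rintro _ ⟨j, hj, rfl⟩
    have h := Subgroup.mem_centralizer_iff.mp hu j hj
    simp only [MulEquiv.coe_toMonoidHom, MulAut.conj_apply]
    calc g * j * g⁻¹ * (g * u * g⁻¹) = g * (j * u) * g⁻¹ := by group
      _ = g * (u * j) * g⁻¹ := by rw [h]
      _ = g * u * g⁻¹ * (g * j * g⁻¹) := by group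
  rcases lt_or_eq_of_le hca with hlt | rfl
  · set x' := x ^ 2 ^ (a - c) with hx'
    have hox' : orderOf x' = 2 ^ c := by
      rw [hx', orderOf_pow' x (pow_ne_zero _ two_ne_zero), hox,
        Nat.gcd_eq_right (Nat.pow_dvd_pow 2 (Nat.sub_le a c)), Nat.pow_div (Nat.sub_le a c) two_pos]
      congr 1; omega
    have hall : ∀ J : Subgroup G, IsComponent J → x' ∈ Subgroup.centralizer (J : Set G) := by
      intro J hJ
      rcases eq_or_ne K J with rfl | h
      · by_contra hc
        exact Nat.find_min (hex K hK) hlt ⟨x', pow_mem hxK _, hox', hc⟩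
      · exact pow_mem (hcomm hK hJ h hxK) _
    obtain ⟨g, hg⟩ := hconj x' hox'
    refine hwK (centralizes_zpowers hg ?_)
    have h1 := hcent (g := g) (hall (K.map (MulAut.conj g⁻¹).toMonoidHom)
      (CfsgLib.Layer.isComponent_conj hK g⁻¹))
    rwa [Subgroup.map_map, show (MulAut.conj g).toMonoidHom.comp (MulAut.conj g⁻¹).toMonoidHom =
      MonoidHom.id G from MonoidHom.ext fun z => by simp [mul_assoc], Subgroup.map_id] at h1
  · obtain ⟨g, hg⟩ := hconj x hox
    let S : G → Set (Subgroup G) := fun u => {J | IsComponent J ∧ u ∈ Subgroup.centralizer (J : Set G)}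
    haveI : Finite (Subgroup G) := Finite.of_injective (fun J => (J : Set G)) SetLike.coe_injective
    have hsub : S w ⊂ S x := by
      refine ⟨fun J hJ => ⟨hJ.1, hcomm hK hJ.1 ?_ hxK⟩, fun h => ?_⟩
      · rintro rfl; exact hwK hJ.2
      · refine hyc ?_
        have h1 : w ∈ Subgroup.centralizer (L : Set G) := (h ⟨hL, hxL⟩).2
        simpa [hw] using mul_mem (inv_mem hxL) h1
    have hle' : (S x).ncard ≤ (S w).ncard := by
      refine Set.ncard_le_ncard_of_injOn (fun J => J.map (MulAut.conj g).toMonoidHom) ?_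
        (fun _ _ _ _ h => Subgroup.map_injective (MulAut.conj g).injective h) (Set.toFinite _)
      intro J hJ
      exact ⟨CfsgLib.Layer.isComponent_conj hJ.1 g, centralizes_zpowers hg (hcent hJ.2)⟩
    exact absurd hle' (not_le.mpr (Set.ncard_lt_ncard hsub (Set.toFinite _)))

/-- Let G be a finite group in which, for every prime p, any two cyclic p-subgroups of the same order are conjugate. If the layer E(G), the subgroup generated by the components of G, is non-trivial, then E(G)/Z(E(G)) is a non-abelian simple group. -/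
theorem result {G : Type*} [Group G] [Finite G] (hP : ∀ (p : ℕ), p.Prime → ∀ A B : Subgroup G, IsCyclic ↥A → IsCyclic ↥B → IsPGroup p ↥A → Nat.card ↥A = Nat.card ↥B → ∃ g : G, B = A.map (MulAut.conj g).toMonoidHom) (hE : Cfsg.layer G ≠ ⊥) :
    IsSimpleGroup (↥(Cfsg.layer G) ⧸ Subgroup.center ↥(Cfsg.layer G)) ∧ ¬ IsMulCommutative (↥(Cfsg.layer G) ⧸ Subgroup.center ↥(Cfsg.layer G)) := by
  obtain ⟨K, hK⟩ : ∃ K : Subgroup G, IsComponent K := by
    by_contra h
    exact hE (sSup_eq_bot.mpr fun J hJ => (h ⟨J, hJ⟩).elim)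
  have hlay : Cfsg.layer G = K := le_antisymm
    (sSup_le fun J hJ => (component_unique hP hJ hK).le) (CfsgLib.Layer.isComponent_le_layer hK)
  rw [hlay]
  refine ⟨hK.2.2, fun h => ?_⟩
  refine CfsgLib.Layer.not_isSolvable_of_isQuasisimple hK.2 (isSolvable_of_quotient_center ?_)
  exact Group.isSolvable_of_comm fun a b => h.is_comm.comm a b

end Cfsg.Agent.S3915
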