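import Cfsg.Statements.S3917
import Mathlib

set_option autoImplicit false
set_option linter.style.haveILetI false
open Cfsg

namespace Cfsg.Agent.S3917

theorem card_pow_le {G : Type*} [CommGroup G] [Finite G]
    (h : ∀ p : ℕ, p.Prime → Nat.card (powMonoidHom p : G →* G).ker ≤ p) :
    ∀ n : ℕ, 0 < n → Nat.card (powMonoidHom n : G →* G).ker ≤ n := by
  intro n
  induction n using Nat.strong_induction_on with
  | _ n IH =>
  intro hn
  by_cases h1 : n = 1
  · subst h1
    have : (powMonoidHom 1 : G →* G).ker = ⊥ := by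
      ext x; simp [MonoidHom.mem_ker]
    rw [this, Subgroup.card_bot]
  obtain ⟨r, hr, m, rfl⟩ := Nat.exists_prime_and_dvd h1
  have hm : 0 < m := Nat.pos_of_ne_zero (right_ne_zero_of_mul hn.ne')
  set K := (powMonoidHom (r * m) : G →* G).ker
  set φ := (powMonoidHom r : G →* G).comp K.subtype
  have e : Nat.card φ.ker * Nat.card φ.range = Nat.card K := by
    rw [← Subgroup.index_ker]; exact Subgroup.card_mul_index _
  have h2 : Nat.card φ.ker ≤ r := by
    refine le_trans (Nat.card_le_card_of_injective
      (fun x : φ.ker => (⟨((x : K) : G), x.2⟩ : (powMonoidHom r : G →* G).ker)) ?_) (h r hr)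
    intro a b hab
    exact Subtype.ext (Subtype.ext (congrArg (fun z : (powMonoidHom r : G →* G).ker => (z : G)) hab))
  have h3 : Nat.card φ.range ≤ m := by
    refine le_trans (Subgroup.card_le_of_le ?_) (IH m (lt_mul_of_one_lt_left hm hr.one_lt) hm)
    rintro _ ⟨x, rfl⟩
    show ((x : G) ^ r) ^ m = 1
    rw [← pow_mul]; exact x.2
  rw [← e]
  exact Nat.mul_le_mul h2 h3

/-- Say that a group has self-centralizing non-cyclic subgroups when every non-cyclic subgroup H satisfies C_G(H) ≤ H. A finite abelian group with self-centralizing non-cyclic subgroups is cyclic or elementary abelian of order p² for a prime p. -/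
theorem result {G : Type*} [CommGroup G] [Finite G] (hX : (∀ H : Subgroup G, ¬ IsCyclic ↥H → Subgroup.centralizer (H : Set G) ≤ H)) :
    IsCyclic G ∨ ∃ p : ℕ, p.Prime ∧ Nat.card G = p ^ 2 ∧ Monoid.exponent G = p := by
  classical
  haveI := Fintype.ofFinite G
  by_cases hcyc : IsCyclic G
  · exact Or.inl hcyc
  right
  have hprop : ∀ H : Subgroup G, ¬ IsCyclic ↥H → H = ⊤ := fun H hH =>
    eq_top_iff.mpr fun g _ => hX H hH (Subgroup.mem_centralizer_iff.mpr fun a _ => mul_comm a g)
  obtain ⟨p, hp, hbig⟩ : ∃ p : ℕ, p.Prime ∧ p < Nat.card (powMonoidHom p : G →* G).ker := by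
    by_contra h
    push Not at h
    refine hcyc (isCyclic_of_card_pow_eq_one_le fun n hn => ?_)
    rw [← Fintype.card_subtype, ← Nat.card_eq_fintype_card]
    exact card_pow_le h n hn
  haveI : Fact p.Prime := ⟨hp⟩
  have hΩ : (powMonoidHom p : G →* G).ker = ⊤ := by
    refine hprop _ fun hc => ?_
    haveI := hc
    haveI := Fintype.ofFinite ↥(powMonoidHom p : G →* G).ker
    have h1 := IsCyclic.card_pow_eq_one_le (α := ↥(powMonoidHom p : G →* G).ker) hp.pos
    rw [Finset.filter_true_of_mem (fun x _ => Subtype.ext x.2), Finset.card_univ,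
      ← Nat.card_eq_fintype_card] at h1
    exact absurd h1 (not_le.mpr hbig)
  have hall : ∀ x : G, x ^ p = 1 := fun x => by
    have hx : x ∈ (powMonoidHom p : G →* G).ker := hΩ ▸ Subgroup.mem_top x
    exact hx
  have hG : IsPGroup p G := fun x => ⟨1, by rw [pow_one]; exact hall x⟩
  obtain ⟨k, hk⟩ := IsPGroup.iff_card.mp hG
  have hk2 : k = 2 := by
    rcases k with _ | _ | _ | k
    · exfalso
      haveI := (Nat.card_eq_one_iff_unique.mp (by simpa using hk : Nat.card G = 1)).1
      exact hcyc isCyclic_of_subsingleton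
    · exact absurd (isCyclic_of_prime_card (by simpa using hk)) hcyc
    · rfl
    · exfalso
      obtain ⟨H, hH⟩ := Sylow.exists_subgroup_card_pow_prime p (G := G) (n := 2)
        (hk ▸ pow_dvd_pow p (by omega))
      have h1 : ¬ IsCyclic ↥H := by
        intro hc
        obtain ⟨g, hg⟩ := hc.exists_ofOrder_eq_natCard
        have h2 : orderOf g ∣ p := orderOf_dvd_of_pow_eq_one (Subtype.ext (hall g))
        rw [hg, hH] at h2
        have := Nat.le_of_dvd hp.pos h2
        exact absurd this (not_le.mpr (lt_self_pow₀ hp.one_lt (by norm_num)))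
      rw [hprop H h1, Subgroup.card_top, hk] at hH
      have := Nat.pow_right_injective hp.two_le hH
      omega
  refine ⟨p, hp, hk2 ▸ hk, ?_⟩
  have hd : Monoid.exponent G ∣ p := Monoid.exponent_dvd_of_forall_pow_eq_one hall
  rcases (Nat.dvd_prime hp).mp hd with h1 | h1
  · exfalso
    haveI := Monoid.exp_eq_one_iff.mp h1
    exact hcyc isCyclic_of_subsingleton
  · exact h1

end Cfsg.Agent.S3917
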