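import Cfsg.Statements.S3918
import Cfsg.Agent.Lib.PGroup.RankTwoComponent
-- import your own Cfsg.Agent.* helpers here

set_option autoImplicit false
open Cfsg CfsgLib

namespace Cfsg.Agent.S3918

/-- Say that a group has self-centralizing non-cyclic subgroups when every non-cyclic subgroup H satisfies C_G(H) ≤ H. For an odd prime p, a finite non-abelian p-group has self-centralizing non-cyclic subgroups if and only if it has order p³. -/
theorem result {G : Type*} [Group G] [Finite G] {p : ℕ} [Fact p.Prime] (hp : p ≠ 2) (hG : IsPGroup p G) (hna : ¬ IsMulCommutative G) :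
    (∀ H : Subgroup G, ¬ IsCyclic ↥H → Subgroup.centralizer (H : Set G) ≤ H) ↔ Nat.card G = p ^ 3 := by
  classical
  have hpp : p.Prime := Fact.out
  constructor
  · intro h
    have hnc : ¬ IsCyclic (⊤ : Subgroup G) := fun hc => hna ⟨⟨fun a b => congrArg Subtype.val
      ((IsCyclic.commGroup (α := (⊤ : Subgroup G))).mul_comm ⟨a, Subgroup.mem_top a⟩ ⟨b, Subgroup.mem_top b⟩)⟩⟩
    obtain ⟨E, -, hEn, hE, hE2⟩ := CyclicMax.exists_normal_rank_two hG hp ⊤ inferInstance hnc
    have hEnc : ¬ IsCyclic E := fun hc =>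
      Coprime.not_isCyclic_of_exponent hE.2 hpp.pos (by rw [hE2]; exact lt_self_pow₀ hpp.one_lt (by norm_num)) hc
    have hC : Subgroup.centralizer (E : Set G) = E := le_antisymm (h E hEnc) (by
      have := hE.1; exact Subgroup.le_centralizer _)
    have hidx : E.index ∣ p := hC ▸ AlperinElem.centralizer_index_le hG hE hE2
    obtain ⟨n, hn⟩ := IsPGroup.iff_card.mp hG
    have hc := E.card_mul_index
    rw [hE2, hn] at hc
    rcases hpp.eq_one_or_self_of_dvd _ hidx with e | e
    · exfalso
      refine hna ⟨⟨fun a b => ?_⟩⟩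
      have he : E = ⊤ := Subgroup.index_eq_one.mp e
      exact congrArg Subtype.val (hE.1.is_comm.comm (⟨a, he ▸ Subgroup.mem_top a⟩ : E) ⟨b, he ▸ Subgroup.mem_top b⟩)
    · rw [e, ← pow_succ] at hc
      rw [hn, hc]
  · intro hc H hH x hx
    have hZ : Subgroup.center G ≠ ⊥ := by
      have : Nontrivial G := Finite.one_lt_card_iff_nontrivial.mp (by rw [hc]; exact Nat.one_lt_pow (by norm_num) hpp.one_lt)
      exact (Subgroup.nontrivial_iff_ne_bot _).mp hG.center_nontrivial
    obtain ⟨j, hj3, hjH⟩ := (Nat.dvd_prime_pow hpp).mp (hc ▸ H.card_subgroup_dvd_card)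
    by_contra hxH
    have hHcard : Nat.card H = p ^ 2 := by
      rcases (show j = 0 ∨ j = 1 ∨ j = 2 ∨ j = 3 by omega) with rfl | rfl | rfl | rfl
      · exfalso
        have : Subsingleton H := (Nat.card_eq_one_iff_unique.mp (by simpa using hjH)).1
        exact hH inferInstance
      · exact absurd (isCyclic_of_prime_card (by simpa using hjH)) hH
      · exact hjH
      · exact absurd ((Subgroup.eq_top_of_card_eq H (hjH.trans hc.symm)) ▸ Subgroup.mem_top x) hxH
    have hHab : ∀ a ∈ H, ∀ b ∈ H, a * b = b * a := fun a ha b hb =>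
      congrArg Subtype.val ((IsPGroup.commGroupOfCardEqPrimeSq hHcard).mul_comm ⟨a, ha⟩ ⟨b, hb⟩)
    have htop : H ⊔ Subgroup.zpowers x = ⊤ := by
      refine Subgroup.eq_top_of_card_eq _ ?_
      obtain ⟨i, hi3, hiK⟩ := (Nat.dvd_prime_pow hpp).mp (hc ▸ (H ⊔ Subgroup.zpowers x).card_subgroup_dvd_card)
      have hlt : Nat.card H < Nat.card ↥(H ⊔ Subgroup.zpowers x) := by
        refine lt_of_le_of_ne (Subgroup.card_le_of_le le_sup_left) fun e => hxH ?_
        have := Subgroup.eq_of_le_of_card_ge (le_sup_left : H ≤ H ⊔ Subgroup.zpowers x) e.ge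
        exact this.ge (Subgroup.mem_sup_right (Subgroup.mem_zpowers x))
      rw [hHcard, hiK] at hlt
      have := (Nat.pow_lt_pow_iff_right hpp.one_lt).mp hlt
      rw [hiK, hc, show i = 3 by omega]
    have hall : ∀ a ∈ H, a ∈ Subgroup.center G := fun a ha => Subgroup.mem_center_iff.mpr fun g => by
      have hle : H ⊔ Subgroup.zpowers x ≤ Subgroup.centralizer {a} := sup_le
        (fun b hb => Subgroup.mem_centralizer_singleton_iff.mpr (hHab b hb a ha))
        (Subgroup.zpowers_le.mpr (Subgroup.mem_centralizer_singleton_iff.mpr (Subgroup.mem_centralizer_iff.mp hx a ha).symm))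
      exact Subgroup.mem_centralizer_singleton_iff.mp (hle (htop ▸ Subgroup.mem_top g))
    refine hna ⟨⟨fun u v => ?_⟩⟩
    have hle : H ⊔ Subgroup.zpowers x ≤ Subgroup.centralizer {x} := sup_le
      (fun b hb => Subgroup.mem_centralizer_singleton_iff.mpr (Subgroup.mem_center_iff.mp (hall b hb) x).symm)
      (Subgroup.zpowers_le.mpr (Subgroup.mem_centralizer_singleton_iff.mpr rfl))
    have hxc : x ∈ Subgroup.center G := Subgroup.mem_center_iff.mpr fun g =>
      Subgroup.mem_centralizer_singleton_iff.mp (hle (htop ▸ Subgroup.mem_top g))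
    have hG' : (⊤ : Subgroup G) ≤ Subgroup.center G := htop ▸ sup_le hall (Subgroup.zpowers_le.mpr hxc)
    exact Subgroup.mem_center_iff.mp (hG' (Subgroup.mem_top v)) u

end Cfsg.Agent.S3918
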