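import Cfsg.Statements.S3919
import Cfsg.Agent.Lib.PGroup.TwoMaximalClass
import Cfsg.Agent.Lib.ZStar.UniqueInvol
import Cfsg.Agent.Lib.Transfer.Thompson

set_option autoImplicit false
set_option linter.style.haveILetI false
open Cfsg

namespace Cfsg.Agent.S3919

theorem card_centralizer_le {G : Type*} [Group G] [Finite G] (x : G) (C : Subgroup G) (hC : C.index = 2)
    (h : Nat.card ↥(Subgroup.centralizer ({x} : Set G) ⊓ C) ≤ 2) :
    Nat.card (Subgroup.centralizer ({x} : Set G)) ≤ 4 := by
  haveI : C.Normal := Subgroup.normal_of_index_eq_two hC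
  calc Nat.card (Subgroup.centralizer ({x} : Set G))
      = Nat.card ↥(Subgroup.centralizer ({x} : Set G) ⊓ C) * C.relIndex (Subgroup.centralizer ({x} : Set G)) := by
        rw [← Nat.card_congr (Subgroup.subgroupOfEquivOfLe (inf_le_left :
          Subgroup.centralizer ({x} : Set G) ⊓ C ≤ Subgroup.centralizer ({x} : Set G))).toEquiv,
          Subgroup.inf_subgroupOf_left]
        exact (C.subgroupOf _).card_mul_index.symm
    _ ≤ 2 * 2 := Nat.mul_le_mul h (hC ▸ Nat.le_of_dvd (by omega) (Subgroup.relIndex_dvd_index_of_normal C _))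
    _ = 4 := rfl

/-- A class lies in a coset of the derived subgroup. -/
theorem index_le_commutator {G : Type*} [Group G] [Finite G] (h : G) :
    (Subgroup.centralizer ({h} : Set G)).index ≤ Nat.card (commutator G) := by
  rw [Subgroup.index_eq_card]
  refine Nat.card_le_card_of_injective (fun q => (⟨q.out * h * q.out⁻¹ * h⁻¹,
    Subgroup.commutator_mem_commutator (Subgroup.mem_top _) (Subgroup.mem_top _)⟩ : commutator G)) ?_
  intro q q' e
  have e' : q.out * h * q.out⁻¹ = q'.out * h * q'.out⁻¹ := mul_right_cancel (congrArg Subtype.val e :)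
  rw [← QuotientGroup.out_eq' q, ← QuotientGroup.out_eq' q', QuotientGroup.eq, Subgroup.mem_centralizer_singleton_iff]
  calc q.out⁻¹ * q'.out * h = q.out⁻¹ * (q'.out * h * q'.out⁻¹) * q'.out := by group
    _ = q.out⁻¹ * (q.out * h * q.out⁻¹) * q'.out := by rw [e']
    _ = _ := by group

/-- Say that a group has self-centralizing non-cyclic subgroups when every non-cyclic subgroup H satisfies C_G(H) ≤ H. A finite non-abelian 2-group G of order 2^n has self-centralizing non-cyclic subgroups if and only if G has nilpotency class n − 1 (that is, G is dihedral, semidihedral or generalized quaternion). -/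
theorem result {G : Type*} [Group G] [Finite G] (hna : ¬ IsMulCommutative G) (n : ℕ) (hG : Nat.card G = 2 ^ n) :
    (∀ H : Subgroup G, ¬ IsCyclic ↥H → Subgroup.centralizer (H : Set G) ≤ H) ↔ (⊤ : Subgroup G).lowerCentralSeries (n - 2) ≠ ⊥ := by
  classical
  haveI := Fact.mk Nat.prime_two
  have h2 : IsPGroup 2 G := IsPGroup.of_card hG
  haveI : Group.IsNilpotent G := h2.isNilpotent
  have hcom : commutator G ≠ ⊥ := fun h =>
    hna ⟨⟨CfsgLib.MaxClass.comm_eq_of_commutator_eq_bot h⟩⟩
  have hn : 3 ≤ n := by
    by_contra hlt
    obtain rfl | rfl | rfl : n = 0 ∨ n = 1 ∨ n = 2 := by omega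
    · haveI : Subsingleton G := (Nat.card_eq_one_iff_unique.mp (by rw [hG, pow_zero])).1
      exact hna ⟨⟨fun _ _ => Subsingleton.elim _ _⟩⟩
    · haveI := isCyclic_of_prime_card (p := 2) (α := G) (by rw [hG, pow_one])
      exact hna ⟨⟨(IsCyclic.commGroup (α := G)).mul_comm⟩⟩
    · exact hna (IsPGroup.isMulCommutative_of_card_eq_prime_sq (p := 2) hG)
  constructor
  · intro hself
    -- an element with centralizer of order at most four
    obtain ⟨u, hu⟩ : ∃ u : G, Nat.card (Subgroup.centralizer ({u} : Set G)) ≤ 4 := by
      by_cases huniq : ∀ x y : G, orderOf x = 2 → orderOf y = 2 → x = y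
      · rcases CfsgLib.ZStar.unique_involution_structure h2 huniq with hc | ⟨a, m, hm, ha, -, hidx, hout⟩
        · exact absurd ⟨⟨(IsCyclic.commGroup (α := G)).mul_comm⟩⟩ hna
        obtain ⟨x, hx⟩ : ∃ x, x ∉ Subgroup.zpowers a := by
          by_contra h
          push Not at h
          rw [(Subgroup.eq_top_iff' _).mpr h, Subgroup.index_top] at hidx
          omega
        refine ⟨x, card_centralizer_le x (Subgroup.zpowers a) hidx ?_⟩
        refine le_trans (Nat.card_le_card_of_injective
          (fun y => (⟨(y : G), ?_⟩ : Subgroup.zpowers (a ^ 2 ^ (m - 1)))) fun y y' e => Subtype.ext (congrArg Subtype.val e :)) ?_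
        · obtain ⟨hy1, hy2⟩ := Subgroup.mem_inf.mp y.2
          obtain ⟨i, hi⟩ := Subgroup.mem_zpowers_iff.mp hy2
          have h1 : x * a ^ i * x⁻¹ = a ^ i := by
            rw [hi]; exact mul_inv_eq_iff_eq_mul.mpr (Subgroup.mem_centralizer_singleton_iff.mp hy1).symm
          rw [← conj_zpow, hout x hx, inv_zpow, inv_eq_iff_mul_eq_one, ← zpow_add,
            ← orderOf_dvd_iff_zpow_eq_one, ha] at h1
          obtain ⟨m', rfl⟩ : ∃ m', m = m' + 1 := ⟨m - 1, by omega⟩
          obtain ⟨c, hc⟩ := h1
          refine ⟨c, ?_⟩
          show (a ^ 2 ^ (m' + 1 - 1)) ^ c = (y : G)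
          rw [← hi, ← zpow_natCast, ← zpow_mul, Nat.add_sub_cancel]
          congr 1
          push_cast at hc ⊢
          rw [pow_succ] at hc
          linarith
        · rw [Nat.card_zpowers]
          refine Nat.le_of_dvd two_pos (orderOf_dvd_of_pow_eq_one ?_)
          rw [← pow_mul, ← pow_succ, Nat.sub_add_cancel (by omega), ← ha, pow_orderOf_eq_one]
      · haveI : Nontrivial G := Finite.one_lt_card_iff_nontrivial.mp (by
          rw [hG]; exact Nat.one_lt_pow (by omega) one_lt_two)
        haveI := h2.center_nontrivial
        obtain ⟨⟨z, hzc⟩, hz⟩ : ∃ z : Subgroup.center G, orderOf z = 2 := by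
          refine exists_prime_orderOf_dvd_card' 2 ?_
          obtain ⟨k, hk⟩ := IsPGroup.iff_card.mp (h2.to_subgroup (Subgroup.center G))
          rw [hk]
          refine dvd_pow_self 2 fun h0 => ?_
          rw [h0, pow_zero] at hk
          exact absurd hk (ne_of_gt Finite.one_lt_card)
        rw [Subgroup.orderOf_mk] at hz
        push Not at huniq
        obtain ⟨x, y, hx, hy, hxy⟩ := huniq
        obtain ⟨u, hu, huz⟩ : ∃ u, orderOf u = 2 ∧ u ≠ z := by
          by_cases h : x = z
          · exact ⟨y, hy, fun e => hxy (h.trans e.symm)⟩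
          · exact ⟨x, hx, h⟩
        refine ⟨u, ?_⟩
        set E := Subgroup.closure ({z, u} : Set G)
        have hcomm : Commute z u := (Subgroup.mem_center_iff.mp hzc u).symm
        have huu : u * u = 1 := by rw [← pow_two, ← hu, pow_orderOf_eq_one]
        have hzz : z * z = 1 := by rw [← pow_two, ← hz, pow_orderOf_eq_one]
        have hzE : z ∈ E := Subgroup.subset_closure (by simp)
        have huE : u ∈ E := Subgroup.subset_closure (by simp)
        have hnc : ¬ IsCyclic E := fun hc => huz (congrArg Subtype.val
          (CfsgLib.Transfer.eq_of_sq_eq_one_of_isCyclic (⟨u, huE⟩ : E) ⟨z, hzE⟩ (Subtype.ext huu) (Subtype.ext hzz)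
            (fun e => by rw [show u = 1 from congrArg Subtype.val e, orderOf_one] at hu; omega)
            (fun e => by rw [show z = 1 from congrArg Subtype.val e, orderOf_one] at hz; omega)))
        have hle : Subgroup.centralizer ({u} : Set G) ≤ E := fun v hv => hself E hnc (by
          refine Subgroup.mem_centralizer_iff.mpr fun t ht => ?_
          have h : E ≤ Subgroup.centralizer ({v} : Set G) := (Subgroup.closure_le _).mpr (by
            rintro t (rfl | rfl) <;> refine Subgroup.mem_centralizer_singleton_iff.mpr ?_
            · exact (Subgroup.mem_center_iff.mp hzc v).symm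
            · exact (Subgroup.mem_centralizer_singleton_iff.mp hv).symm)
          exact Subgroup.mem_centralizer_singleton_iff.mp (h ht))
        refine (Subgroup.card_le_of_le hle).trans ?_
        have hset : ∀ t ∈ E, t = 1 ∨ t = z ∨ t = u ∨ t = z * u := by
          intro t ht
          induction ht using Subgroup.closure_induction with
          | mem t ht => rcases ht with rfl | rfl <;> simp
          | one => simp
          | mul a b _ _ ha hb =>
            have e1 : z * (z * u) = u := by rw [← mul_assoc, hzz, one_mul]
            have e2 : u * z = z * u := hcomm.eq.symm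
            have e3 : u * (z * u) = z := by rw [← mul_assoc, e2, mul_assoc, huu, mul_one]
            have e4 : z * u * z = u := by rw [mul_assoc, e2, e1]
            have e5 : z * u * u = z := by rw [mul_assoc, huu, mul_one]
            have e6 : z * u * (z * u) = 1 := by rw [mul_assoc, e3, hzz]
            rcases ha with rfl | rfl | rfl | rfl <;> rcases hb with rfl | rfl | rfl | rfl <;>
              simp only [one_mul, mul_one, hzz, huu, e1, e2, e3, e4, e5, e6, true_or, or_true]
          | inv a _ ha =>
            rcases ha with rfl | rfl | rfl | rfl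
            · simp
            · simp [inv_eq_of_mul_eq_one_right hzz]
            · simp [inv_eq_of_mul_eq_one_right huu]
            · right; right; right
              rw [mul_inv_rev, inv_eq_of_mul_eq_one_right huu, inv_eq_of_mul_eq_one_right hzz, hcomm.eq]
        refine (Nat.card_le_card_of_surjective (fun i : Fin 4 => (⟨![1, z, u, z * u] i, by
          fin_cases i
          · exact one_mem _
          · exact hzE
          · exact huE
          · exact mul_mem hzE huE⟩ : E)) ?_).trans (by simp)
        rintro ⟨t, ht⟩
        rcases hset t ht with rfl | rfl | rfl | rfl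
        exacts [⟨0, rfl⟩, ⟨1, rfl⟩, ⟨2, rfl⟩, ⟨3, rfl⟩]
    have hC := Nat.mul_le_mul hu (index_le_commutator u)
    rw [Subgroup.card_mul_index, hG] at hC
    have hub : Nat.card (commutator G) ≤ 2 ^ (n - 2) := by
      have := CfsgLib.MaxClass.card_lcs_succ_le hG 0
      rwa [zero_add, Subgroup.top_lowerCentralSeries_one, Nat.sub_zero] at this
    have hX' : Nat.card (commutator G) = 2 ^ (n - 2) := le_antisymm hub (by
      obtain ⟨q, rfl⟩ : ∃ q, n = q + 2 := ⟨n - 2, by omega⟩
      rw [pow_add] at hC
      rw [Nat.add_sub_cancel]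
      omega)
    obtain ⟨hcl, -⟩ := CfsgLib.MaxClass.taussky n G hn hG hX'
    intro hb
    have := Subgroup.lowerCentralSeries_eq_bot_iff_nilpotencyClass_le.mp hb
    omega
  · intro hne H hH x hx
    have hcl : Group.nilpotencyClass G = n - 1 := by
      have h1 : ¬ Group.nilpotencyClass G ≤ n - 2 := fun h =>
        hne (Subgroup.lowerCentralSeries_eq_bot_iff_nilpotencyClass_le.mpr h)
      have h2' := CfsgLib.MaxClass.class_lt_of_card hG (m := n - 1) (by omega) (by omega)
      omega
    have hX' := CfsgLib.MaxClass.card_commutator_of_maximal hn hG hcl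
    obtain ⟨-, C, hCc, hCi⟩ := CfsgLib.MaxClass.taussky n G hn hG hX'
    haveI : C.Normal := Subgroup.normal_of_index_eq_two hCi
    haveI : IsMulCommutative C := ⟨⟨(IsCyclic.commGroup (α := C)).mul_comm⟩⟩
    obtain ⟨t, htH, htC⟩ : ∃ t ∈ H, t ∉ C := by
      by_contra h
      push Not at h
      exact hH (isCyclic_of_injective (Subgroup.inclusion h) (Subgroup.inclusion_injective h))
    obtain ⟨hcard, -⟩ := CfsgLib.MaxClass.index_two_facts C hCi htC hcom
    have hZ2 : Nat.card (Subgroup.center G) = 2 := by
      obtain ⟨q, rfl⟩ : ∃ q, n = q + 2 := ⟨n - 2, by omega⟩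
      rw [hG, hX', Nat.add_sub_cancel, pow_add] at hcard
      have := Nat.two_pow_pos q
      nlinarith
    -- the centre lies in `H`
    have hZH : Subgroup.center G ≤ H := by
      have hHC : H ⊓ C ≠ ⊥ := by
        intro h
        refine hH (isCyclic_of_prime_card (p := 2) (le_antisymm ?_ ?_))
        · calc Nat.card H = Nat.card (H ⊓ C : Subgroup G) * C.relIndex H := by
                rw [← Nat.card_congr (Subgroup.subgroupOfEquivOfLe (inf_le_left : H ⊓ C ≤ H)).toEquiv,
                  Subgroup.inf_subgroupOf_left]
                exact (C.subgroupOf H).card_mul_index.symm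
            _ ≤ 1 * 2 := Nat.mul_le_mul (by rw [h, Subgroup.card_bot]) (by
                rw [← hCi]
                exact Nat.le_of_dvd (by omega) (Subgroup.relIndex_dvd_index_of_normal C H))
            _ = 2 := one_mul 2
        · by_contra hlt
          have h1 : Nat.card H = 1 := by have := H.one_mem; have := Nat.card_pos (α := H); omega
          haveI : Subsingleton H := (Nat.card_eq_one_iff_unique.mp h1).1
          exact hH inferInstance
      intro z hz
      have hzC : z ∈ C := by
        by_contra hzC
        refine hcom ?_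
        have htop : C ⊔ Subgroup.zpowers z = ⊤ := by
          rw [← Subgroup.index_eq_one]
          have h1 := Subgroup.index_dvd_of_le (le_sup_left : C ≤ C ⊔ Subgroup.zpowers z)
          rw [hCi, Nat.dvd_prime Nat.prime_two] at h1
          refine h1.resolve_right fun h2i => hzC ?_
          rw [Subgroup.eq_of_le_of_card_ge (le_sup_left : C ≤ C ⊔ Subgroup.zpowers z) (by
            have e1 := C.card_mul_index
            have e2 := (C ⊔ Subgroup.zpowers z).card_mul_index
            rw [hCi] at e1
            rw [h2i] at e2
            omega)]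
          exact Subgroup.mem_sup_right (Subgroup.mem_zpowers z)
        have hall : ∀ a b : G, a ∈ C → a * b = b * a := by
          intro a b ha
          have : C ⊔ Subgroup.zpowers z ≤ Subgroup.centralizer ({a} : Set G) := sup_le
            (fun c hc => Subgroup.mem_centralizer_singleton_iff.mpr (congrArg Subtype.val (mul_comm' (⟨c, hc⟩ : C) ⟨a, ha⟩)))
            (Subgroup.zpowers_le.mpr (Subgroup.mem_centralizer_singleton_iff.mpr (Subgroup.mem_center_iff.mp hz a).symm))
          exact (Subgroup.mem_centralizer_singleton_iff.mp (this (htop.ge (Subgroup.mem_top b)))).symm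
        rw [commutator_def, Subgroup.commutator_eq_bot_iff_le_centralizer]
        intro a _
        refine Subgroup.mem_centralizer_iff.mpr fun b _ => ?_
        have : C ⊔ Subgroup.zpowers z ≤ Subgroup.centralizer ({b} : Set G) := sup_le
          (fun c hc => Subgroup.mem_centralizer_singleton_iff.mpr (hall c b hc))
          (Subgroup.zpowers_le.mpr (Subgroup.mem_centralizer_singleton_iff.mpr (Subgroup.mem_center_iff.mp hz b).symm))
        exact (Subgroup.mem_centralizer_singleton_iff.mp (this (htop.ge (Subgroup.mem_top a)))).symm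
      rcases eq_or_ne z 1 with rfl | hz1
      · exact H.one_mem
      obtain ⟨k, hk⟩ := IsPGroup.iff_card.mp (h2.to_subgroup (H ⊓ C))
      have hk0 : k ≠ 0 := fun h0 => hHC ((H ⊓ C).eq_bot_of_card_eq (by rw [hk, h0, pow_zero]))
      obtain ⟨⟨w, hw⟩, hw2⟩ := exists_prime_orderOf_dvd_card' (G := ↥(H ⊓ C)) 2 (hk ▸ dvd_pow_self 2 hk0)
      rw [Subgroup.orderOf_mk] at hw2
      have hzz : z * z = 1 := by
        have h := pow_card_eq_one' (x := (⟨z, hz⟩ : Subgroup.center G))
        rw [hZ2, pow_two] at h
        exact congrArg Subtype.val h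
      have e := CfsgLib.Transfer.eq_of_sq_eq_one_of_isCyclic (⟨z, hzC⟩ : C) ⟨w, hw.2⟩ (Subtype.ext hzz)
        (Subtype.ext (by show w * w = 1; rw [← pow_two, ← hw2, pow_orderOf_eq_one]))
        (fun e => hz1 (congrArg Subtype.val e))
        (fun e => by rw [show w = 1 from congrArg Subtype.val e, orderOf_one] at hw2; omega)
      rw [show z = w from congrArg Subtype.val e]
      exact hw.1
    -- the centralizer of `t` inside `C` is central
    have hCt : ∀ c ∈ C, c * t = t * c → c ∈ Subgroup.center G := by
      intro c hc hct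
      refine Subgroup.mem_center_iff.mpr fun g => ?_
      by_cases hg : g ∈ C
      · exact congrArg Subtype.val (mul_comm' (⟨g, hg⟩ : C) ⟨c, hc⟩)
      · have hgt : g * t⁻¹ ∈ C := by
          rw [Subgroup.mul_mem_iff_of_index_two hCi, Subgroup.inv_mem_iff]
          exact iff_of_false hg htC
        calc g * c = g * t⁻¹ * (t * c) := by group
          _ = g * t⁻¹ * c * t := by rw [← hct]; group
          _ = c * (g * t⁻¹) * t := by rw [show g * t⁻¹ * c = c * (g * t⁻¹) from congrArg Subtype.val (mul_comm' (⟨_, hgt⟩ : C) ⟨c, hc⟩)]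
          _ = c * g := by group
    have hxt : x * t = t * x := (Subgroup.mem_centralizer_iff.mp hx t htH).symm
    by_cases hxC : x ∈ C
    · exact hZH (hCt x hxC hxt)
    · have h1 : x * t⁻¹ ∈ C := by
        rw [Subgroup.mul_mem_iff_of_index_two hCi, Subgroup.inv_mem_iff]
        exact iff_of_false hxC htC
      have h2' : x * t⁻¹ * t = t * (x * t⁻¹) := by
        rw [inv_mul_cancel_right, ← mul_assoc, ← hxt, mul_inv_cancel_right]
      have := H.mul_mem (hZH (hCt _ h1 h2')) htH
      rwa [inv_mul_cancel_right] at this

end Cfsg.Agent.S3919
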