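import Cfsg.Statements.S3920
import Mathlib

set_option autoImplicit false
set_option linter.style.haveILetI false
open Cfsg

namespace Cfsg.Agent.S3920

/-- Say that a group has self-centralizing non-cyclic subgroups when every non-cyclic subgroup H satisfies C_G(H) ≤ H. For n ≥ 3, the dihedral group of order 2n has self-centralizing non-cyclic subgroups if and only if n is odd or a power of 2. -/
theorem result (n : ℕ) (hn : 3 ≤ n) : (∀ H : Subgroup (DihedralGroup n), ¬ IsCyclic ↥H → Subgroup.centralizer (H : Set (DihedralGroup n)) ≤ H) ↔ (Odd n ∨ ∃ k : ℕ, n = 2 ^ k) := by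
  classical
  haveI : NeZero n := ⟨by omega⟩
  have h2 : Nat.Prime 2 := Nat.prime_two
  constructor
  · intro hself
    by_contra hno
    push Not at hno
    obtain ⟨heven, hnpow⟩ := hno
    obtain ⟨k, m, hm, rfl⟩ := Nat.exists_eq_two_pow_mul_odd (show n ≠ 0 by omega)
    rcases k with _ | k
    · exact heven (by rw [pow_zero, one_mul]; exact hm)
    have hm3 : 3 ≤ m := by
      obtain ⟨j, rfl⟩ := hm
      rcases j with _ | j
      · exact absurd (mul_one _) (hnpow (k + 1))
      · omega
    set n' := 2 ^ (k + 1) * m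
    set H := Subgroup.closure ({DihedralGroup.r ((2 ^ (k + 1) : ℕ) : ZMod n'), DihedralGroup.sr 0} : Set (DihedralGroup n'))
    -- `H` avoids the central rotation
    let φ : ZMod n' →+* ZMod (2 ^ (k + 1)) := ZMod.castHom (dvd_mul_right _ m) _
    have hφ : φ ((2 ^ (k + 1) : ℕ) : ZMod n') = 0 := by rw [map_natCast, ZMod.natCast_self]
    let K : Subgroup (DihedralGroup n') :=
      { carrier := {g | (∃ i, g = DihedralGroup.r i ∧ φ i = 0) ∨ ∃ i, g = DihedralGroup.sr i ∧ φ i = 0}
        one_mem' := Or.inl ⟨0, DihedralGroup.one_def, map_zero _⟩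
        mul_mem' := by
          rintro a b (⟨i, rfl, hi⟩ | ⟨i, rfl, hi⟩) (⟨j, rfl, hj⟩ | ⟨j, rfl, hj⟩)
          · exact Or.inl ⟨_, DihedralGroup.r_mul_r .., by rw [map_add, hi, hj, add_zero]⟩
          · exact Or.inr ⟨_, DihedralGroup.r_mul_sr .., by rw [map_sub, hi, hj, sub_zero]⟩
          · exact Or.inr ⟨_, DihedralGroup.sr_mul_r .., by rw [map_add, hi, hj, add_zero]⟩
          · exact Or.inl ⟨_, DihedralGroup.sr_mul_sr .., by rw [map_sub, hi, hj, sub_self]⟩
        inv_mem' := by
          rintro a (⟨i, rfl, hi⟩ | ⟨i, rfl, hi⟩)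
          · exact Or.inl ⟨_, DihedralGroup.inv_r .., by rw [map_neg, hi, neg_zero]⟩
          · exact Or.inr ⟨_, DihedralGroup.inv_sr .., hi⟩ }
    have hHK : H ≤ K := (Subgroup.closure_le _).mpr (by
      rintro g (rfl | rfl)
      exacts [Or.inl ⟨_, rfl, hφ⟩, Or.inr ⟨_, rfl, map_zero _⟩])
    set c := ((2 ^ k * m : ℕ) : ZMod n')
    have hcc : c + c = 0 := by
      rw [← Nat.cast_add, ← two_mul, ← mul_assoc, ← pow_succ', ZMod.natCast_self]
    have hneg : -c = c := neg_eq_of_add_eq_zero_right hcc
    have hnc : ¬ IsCyclic H := by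
      intro hc
      have e := (IsCyclic.commGroup (α := H)).mul_comm
        ⟨DihedralGroup.r ((2 ^ (k + 1) : ℕ) : ZMod n'), Subgroup.subset_closure (by simp)⟩
        ⟨DihedralGroup.sr 0, Subgroup.subset_closure (by simp)⟩
      have e' := congrArg Subtype.val e
      simp only [Subgroup.coe_mul, DihedralGroup.r_mul_sr, DihedralGroup.sr_mul_r, DihedralGroup.sr.injEq] at e'
      have e2 : ((2 ^ (k + 1) + 2 ^ (k + 1) : ℕ) : ZMod n') = 0 := by
        rw [Nat.cast_add]
        linear_combination (-1 : ZMod n') * e'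
      rw [ZMod.natCast_eq_zero_iff] at e2
      have h3 := Nat.le_of_dvd (by positivity) e2
      have h4 := Nat.mul_le_mul_left (2 ^ (k + 1)) hm3
      have := Nat.two_pow_pos (k + 1)
      omega
    have hmem : DihedralGroup.r c ∈ Subgroup.centralizer (H : Set (DihedralGroup n')) := by
      have : H ≤ Subgroup.centralizer ({DihedralGroup.r c} : Set (DihedralGroup n')) := (Subgroup.closure_le _).mpr (by
        rintro g (rfl | rfl) <;> refine Subgroup.mem_centralizer_singleton_iff.mpr ?_
        · rw [DihedralGroup.r_mul_r, DihedralGroup.r_mul_r, add_comm]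
        · rw [DihedralGroup.sr_mul_r, DihedralGroup.r_mul_sr, sub_eq_add_neg, hneg])
      exact Subgroup.mem_centralizer_iff.mpr fun g hg => Subgroup.mem_centralizer_singleton_iff.mp (this hg)
    rcases hHK (hself H hnc hmem) with ⟨i, hi, hi0⟩ | ⟨i, hi, -⟩
    · rw [DihedralGroup.r.injEq] at hi
      rw [← hi, map_natCast, ZMod.natCast_eq_zero_iff, pow_succ] at hi0
      have h1 : 2 ∣ m := Nat.dvd_of_mul_dvd_mul_left (Nat.two_pow_pos k) hi0
      exact (Nat.not_even_iff_odd.mpr hm) (even_iff_two_dvd.mpr h1)
    · cases hi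
  · intro hcase H hH g hg
    let R : Subgroup (DihedralGroup n) := Subgroup.zpowers (DihedralGroup.r 1)
    have hR : ∀ i, DihedralGroup.r i ∈ R := fun i => ⟨(i.val : ℤ), by
      show DihedralGroup.r 1 ^ (i.val : ℤ) = _
      rw [zpow_natCast, DihedralGroup.r_one_pow, ZMod.natCast_zmod_val]⟩
    have hsr : ∀ i, DihedralGroup.sr i ∉ R := by
      intro i hi
      obtain ⟨j, hj⟩ := Subgroup.mem_zpowers_iff.mp hi
      rw [DihedralGroup.r_one_zpow] at hj
      cases hj
    obtain ⟨i, hiH⟩ : ∃ i, DihedralGroup.sr i ∈ H := by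
      by_contra h
      push Not at h
      refine hH (isCyclic_of_injective (Subgroup.inclusion (show H ≤ R from fun x hx => ?_)) (Subgroup.inclusion_injective _))
      rcases x with j | j
      exacts [hR j, absurd hx (h j)]
    have hrot : ∀ c, DihedralGroup.r c * DihedralGroup.sr i = DihedralGroup.sr i * DihedralGroup.r c →
        DihedralGroup.r c ∈ H := by
      intro c hc
      rw [DihedralGroup.r_mul_sr, DihedralGroup.sr_mul_r, DihedralGroup.sr.injEq] at hc
      have hcc : c + c = 0 := by linear_combination -hc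
      by_cases hc0 : c = 0
      · subst hc0; rw [DihedralGroup.r_zero]; exact H.one_mem
      have hval : ((c.val + c.val : ℕ) : ZMod n) = 0 := by simpa using hcc
      rw [ZMod.natCast_eq_zero_iff] at hval
      obtain ⟨d, hd⟩ := hval
      have hlt := ZMod.val_lt c
      have hd1 : d = 1 := by
        rcases d with _ | _ | d
        · exact absurd ((ZMod.val_eq_zero c).mp (by omega)) hc0
        · rfl
        · have : n * (d + 1 + 1) = n * d + n + n := by ring
          omega
      subst hd1
      have heven : ¬ Odd n := Nat.not_odd_iff_even.mpr ⟨c.val, by omega⟩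
      obtain ⟨k, rfl⟩ := hcase.resolve_left heven
      obtain ⟨j, hj, hj0⟩ : ∃ j, DihedralGroup.r j ∈ H ∧ j ≠ 0 := by
        by_contra hnone
        push Not at hnone
        refine hH ?_
        have hle : H ≤ Subgroup.zpowers (DihedralGroup.sr i) := by
          intro x hx
          rcases x with j | j
          · rw [hnone j hx, DihedralGroup.r_zero]; exact one_mem _
          · have h1 := H.mul_mem hiH hx
            rw [DihedralGroup.sr_mul_sr] at h1
            rw [sub_eq_zero.mp (hnone _ h1)]
            exact Subgroup.mem_zpowers _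
        exact isCyclic_of_injective (Subgroup.inclusion hle) (Subgroup.inclusion_injective _)
      -- some power of `r j` is the central rotation
      have h2k : (DihedralGroup.r j : DihedralGroup (2 ^ k)) ^ 2 ^ k = 1 := by
        rw [DihedralGroup.r_pow, ZMod.natCast_self, mul_zero, DihedralGroup.r_zero]
      have hex : ∃ t, (DihedralGroup.r j : DihedralGroup (2 ^ k)) ^ 2 ^ t = 1 := ⟨k, h2k⟩
      have hpos : Nat.find hex ≠ 0 := fun h0 => hj0 (by
        have := Nat.find_spec hex
        rw [h0, pow_zero, pow_one, DihedralGroup.one_def, DihedralGroup.r.injEq] at this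
        exact this)
      obtain ⟨t, ht⟩ : ∃ t, Nat.find hex = t + 1 := ⟨Nat.find hex - 1, by omega⟩
      have hspec := Nat.find_spec hex
      rw [ht, pow_succ, pow_mul] at hspec
      have hmin := Nat.find_min hex (m := t) (by omega)
      rw [DihedralGroup.r_pow] at hspec hmin
      set e := j * ((2 ^ t : ℕ) : ZMod (2 ^ k))
      have he0 : e ≠ 0 := fun h => hmin (by rw [h, DihedralGroup.r_zero])
      rw [pow_two, DihedralGroup.r_mul_r, DihedralGroup.one_def, DihedralGroup.r.injEq] at hspec
      have hev : ((e.val + e.val : ℕ) : ZMod (2 ^ k)) = 0 := by simpa using hspec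
      rw [ZMod.natCast_eq_zero_iff] at hev
      obtain ⟨d, hd'⟩ := hev
      have hlt' := ZMod.val_lt e
      have hd1' : d = 1 := by
        rcases d with _ | _ | d
        · exact absurd ((ZMod.val_eq_zero e).mp (by omega)) he0
        · rfl
        · have : 2 ^ k * (d + 1 + 1) = 2 ^ k * d + 2 ^ k + 2 ^ k := by ring
          omega
      subst hd1'
      have hec : e = c := ZMod.val_injective _ (by omega)
      have h3 := H.pow_mem hj (2 ^ t)
      rw [DihedralGroup.r_pow] at h3
      rw [← hec]
      exact h3
    have hcom := Subgroup.mem_centralizer_iff.mp hg _ hiH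
    rcases g with c | c
    · exact hrot c hcom.symm
    · have h1 : DihedralGroup.r (c - i) * DihedralGroup.sr i = DihedralGroup.sr i * DihedralGroup.r (c - i) := by
        rw [DihedralGroup.sr_mul_sr, DihedralGroup.sr_mul_sr, DihedralGroup.r.injEq] at hcom
        rw [DihedralGroup.r_mul_sr, DihedralGroup.sr_mul_r, DihedralGroup.sr.injEq]
        linear_combination -hcom
      have := H.mul_mem hiH (hrot _ h1)
      rwa [DihedralGroup.sr_mul_r, add_sub_cancel] at this

end Cfsg.Agent.S3920
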