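import Cfsg.Statements.S3921
import Cfsg.Agent.Lib.NoncyclicSelfCent.PSL
-- import your own Cfsg.Agent.* helpers here

set_option autoImplicit false
open Cfsg

namespace Cfsg.Agent.S3921

/-- Say that a group has self-centralizing non-cyclic subgroups when every non-cyclic subgroup H satisfies C_G(H) ≤ H. A non-abelian finite simple group has self-centralizing non-cyclic subgroups if and only if it is isomorphic to PSL₂(q) with q = 4, q = 9, or q a prime of the form 2^k + 1 or 2^k − 1. -/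
theorem result {G : Type*} [Group G] [Finite G] [IsSimpleGroup G] (hna : ¬ IsMulCommutative G) :
    (∀ H : Subgroup G, ¬ IsCyclic ↥H → Subgroup.centralizer (H : Set G) ≤ H) ↔ ∃ (F : Type) (_ : Field F) (_ : Fintype F),
      (Fintype.card F = 4 ∨ Fintype.card F = 9 ∨ ((Fintype.card F).Prime ∧ ∃ k : ℕ, Fintype.card F = 2 ^ k + 1 ∨ Fintype.card F = 2 ^ k - 1)) ∧
      Nonempty (G ≃* Matrix.ProjectiveSpecialLinearGroup (Fin 2) F) := by
  constructor
  · intro h
    obtain ⟨F, iF, iF', hodd, ⟨e⟩⟩ := CfsgLib.NCSC.SC.exists_psl h hna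
    haveI : IsSimpleGroup (Matrix.ProjectiveSpecialLinearGroup (Fin 2) F) := by
      haveI : Nontrivial (Matrix.ProjectiveSpecialLinearGroup (Fin 2) F) := e.symm.toEquiv.nontrivial
      exact IsSimpleGroup.isSimpleGroup_of_surjective e.toMonoidHom e.surjective
    refine ⟨F, iF, iF', CfsgLib.NCSC.goodQ_of_SC hodd (fun hc => hna ?_)
      (CfsgLib.NCSC.SC.of_equiv e h), ⟨e⟩⟩
    exact ⟨⟨fun a b => e.injective (by rw [map_mul, map_mul]; exact hc.is_comm.comm _ _)⟩⟩
  · rintro ⟨F, iF, iF', hq, ⟨e⟩⟩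
    exact CfsgLib.NCSC.SC.of_equiv e.symm (CfsgLib.NCSC.SC_of_goodQ hq)

end Cfsg.Agent.S3921
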