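import Cfsg.Statements.S3922
import Cfsg.Agent.Lib.ClassSizesThree.Two
import Cfsg.Agent.Lib.ClassSizesThree.Incomparable

set_option autoImplicit false
open Cfsg

namespace Cfsg.Agent.S3922

/-- A finite group whose conjugacy classes have exactly three distinct sizes (1 and two further values) is solvable. -/
theorem result {G : Type*} [Group G] [Finite G] (n₁ n₂ : ℕ) (h12 : n₂ < n₁) (h2 : 1 < n₂)
    (h : ∀ x : G, (Subgroup.centralizer ({x} : Set G)).index = 1 ∨ (Subgroup.centralizer ({x} : Set G)).index = n₂ ∨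
      (Subgroup.centralizer ({x} : Set G)).index = n₁)
    (h₁ : ∃ x : G, (Subgroup.centralizer ({x} : Set G)).index = n₁) (h₂ : ∃ x : G, (Subgroup.centralizer ({x} : Set G)).index = n₂) :
    Group.IsSolvable G := by
  classical
  by_contra hns
  obtain ⟨x₁, hx₁⟩ := h₁
  obtain ⟨x₂, hx₂⟩ := h₂
  set a := Nat.card (Subgroup.centralizer ({x₂} : Set G)) with ha
  set b := Nat.card (Subgroup.centralizer ({x₁} : Set G)) with hb
  have hmul : ∀ x : G, Nat.card (Subgroup.centralizer ({x} : Set G)) *
      (Subgroup.centralizer ({x} : Set G)).index = Nat.card G := fun x => Subgroup.card_mul_index _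
  have hab : b < a := by
    have e1 := hmul x₁
    have e2 := hmul x₂
    rw [hx₁, ← hb] at e1
    rw [hx₂, ← ha] at e2
    have hbp : 0 < b := Nat.card_pos
    by_contra hle
    have := Nat.mul_lt_mul_of_le_of_lt (not_lt.mp hle) h12 hbp
    omega
  have hnz : ∀ x : G, (Subgroup.centralizer ({x} : Set G)).index ≠ 1 →
      x ∉ Subgroup.center G := by
    intro x hx hz
    refine hx ?_
    rw [Subgroup.index_eq_one]
    exact CfsgLib.ClassSizesThree.C_eq_top_iff.mpr hz
  have hS : CfsgLib.ClassSizesThree.Sizes G a b := by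
    refine ⟨hab, fun x hx => ?_, ⟨x₂, hnz x₂ (by omega), rfl⟩, ⟨x₁, hnz x₁ (by omega), rfl⟩⟩
    rcases h x with e | e | e
    · exact absurd (CfsgLib.ClassSizesThree.C_eq_top_iff.mp (Subgroup.index_eq_one.mp e)) hx
    · left
      have e1 := hmul x
      have e2 := hmul x₂
      rw [e] at e1
      rw [hx₂, ← ha, ← e1] at e2
      exact (Nat.eq_of_mul_eq_mul_right (by omega) e2).symm
    · right
      have e1 := hmul x
      have e2 := hmul x₁
      rw [e] at e1
      rw [hx₁, ← hb, ← e1] at e2
      exact (Nat.eq_of_mul_eq_mul_right (by omega) e2).symm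
  by_cases hba : b ∣ a
  · exact hS.false_of_dvd hba hns
  · exact hS.false_of_not_dvd hba hns

end Cfsg.Agent.S3922
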