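import Cfsg.Statements.S3927
import Cfsg.Agent.Lib.OddInverted.IteratedGen

set_option autoImplicit false
open Cfsg

namespace Cfsg.Agent.S3927

/-- Let G be a finite group and α an automorphism of G with [G, α] = G, that is, the elements g·α(g)⁻¹ generate G. Then for every k ≥ 1 the iterated commutators [g, α, …, α] with k entries α — the values of the k-th iterate of the map c ↦ c·α(c)⁻¹ — also generate G. -/
theorem result {G : Type*} [Group G] [Finite G] (α : MulAut G) (hG : Subgroup.closure (Set.range (fun c : G => c * (α c)⁻¹)) = ⊤) (k : ℕ) (hk : 1 ≤ k) :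
    Subgroup.closure (Set.range ((fun c : G => c * (α c)⁻¹)^[k])) = ⊤ := by
  classical
  set f : G → G := fun c => c * (α c)⁻¹ with hf
  obtain ⟨j, rfl⟩ : ∃ j, k = j + 1 := ⟨k - 1, by omega⟩
  let φ : ↥(Subgroup.zpowers α) →* MulAut G := (Subgroup.zpowers α).subtype
  haveI : Finite (G ⋊[φ] ↥(Subgroup.zpowers α)) := Finite.of_equiv _ SemidirectProduct.equivProd.symm
  let a : ↥(Subgroup.zpowers α) := ⟨α, Subgroup.mem_zpowers α⟩
  let t : G ⋊[φ] ↥(Subgroup.zpowers α) := SemidirectProduct.inr a
  have hta : ∀ g : G, t * SemidirectProduct.inl g * t⁻¹ = SemidirectProduct.inl (α g) := fun g =>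
    by
      show SemidirectProduct.inr a * SemidirectProduct.inl g * (SemidirectProduct.inr a)⁻¹ = _
      rw [← map_inv, ← SemidirectProduct.inl_aut]
      rfl
  have hconj : ∀ g : G, SemidirectProduct.inl g * t * (SemidirectProduct.inl g)⁻¹ =
      SemidirectProduct.inl (f g) * t := fun g => by
    have h : t * (SemidirectProduct.inl g)⁻¹ = (SemidirectProduct.inl (α g))⁻¹ * t := by
      rw [← hta g]; group
    rw [mul_assoc, h, ← mul_assoc, hf]
    simp only [map_mul, map_inv]
  have hinr : ∀ b : ↥(Subgroup.zpowers α), ∃ i : ℤ, b = a ^ i := fun b => by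
    obtain ⟨i, hi⟩ := b.2
    exact ⟨i, Subtype.ext hi.symm⟩
  have hnc : Subgroup.normalClosure ({t} : Set (G ⋊[φ] ↥(Subgroup.zpowers α))) = ⊤ := by
    refine top_le_iff.1 fun x _ => ?_
    set N := Subgroup.normalClosure ({t} : Set (G ⋊[φ] ↥(Subgroup.zpowers α))) with hN
    have htN : t ∈ N := Subgroup.subset_normalClosure rfl
    have hle : Subgroup.closure (Set.range f) ≤ N.comap SemidirectProduct.inl := by
      rw [Subgroup.closure_le]
      rintro _ ⟨c, rfl⟩
      show SemidirectProduct.inl (f c) ∈ N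
      have h1 : SemidirectProduct.inl c * t * (SemidirectProduct.inl c)⁻¹ ∈ N :=
        Subgroup.normalClosure_normal.conj_mem t htN _
      rw [hconj] at h1
      have h2 := mul_mem h1 (inv_mem htN)
      rwa [mul_inv_cancel_right] at h2
    rw [hG] at hle
    rw [← SemidirectProduct.inl_left_mul_inr_right x]
    obtain ⟨i, hi⟩ := hinr x.right
    rw [hi, map_zpow]
    exact mul_mem (hle (Subgroup.mem_top x.left)) (zpow_mem htN i)
  have hclass : ∀ g, ∃ c : G, g * t * g⁻¹ = SemidirectProduct.inl (f c) * t := by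
    intro g
    obtain ⟨i, hi⟩ := hinr g.right
    refine ⟨g.left, ?_⟩
    rw [← hconj g.left]
    conv_lhs => rw [← SemidirectProduct.inl_left_mul_inr_right g, hi, map_zpow]
    show SemidirectProduct.inl g.left * t ^ i * t * (SemidirectProduct.inl g.left * t ^ i)⁻¹ = _
    group
  have hstep : ∀ c : G, CfsgLib.OddInverted.conjStep t (SemidirectProduct.inl c * t) =
      SemidirectProduct.inl (f c) * t := fun c => by
    rw [CfsgLib.OddInverted.conjStep, ← hconj c]; group
  have hiter : ∀ (i : ℕ) (c : G), (CfsgLib.OddInverted.conjStep t)^[i] (SemidirectProduct.inl c * t) =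
      SemidirectProduct.inl (f^[i] c) * t := by
    intro i
    induction i with
    | zero => intro c; rfl
    | succ i ih => intro c; rw [Function.iterate_succ_apply', Function.iterate_succ_apply', ih, hstep]
  set H := Subgroup.closure (Set.range (f^[j + 1])) with hH
  -- `H` is invariant under `α`
  have hfa : ∀ (i : ℕ) (c : G), α (f^[i] c) = f^[i] (α c) := by
    intro i
    induction i with
    | zero => intro c; rfl
    | succ i ih =>
      intro c
      rw [Function.iterate_succ_apply, Function.iterate_succ_apply, ih]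
      simp only [hf, map_mul, map_inv]
  have hHa : H.map α.toMonoidHom = H := by
    refine Subgroup.eq_of_le_of_card_ge ?_ (by rw [Subgroup.card_map_of_injective α.injective])
    rw [hH, MonoidHom.map_closure]
    refine Subgroup.closure_mono ?_
    rintro _ ⟨_, ⟨c, rfl⟩, rfl⟩
    exact ⟨α c, (hfa _ c).symm⟩
  have hmem : ∀ g ∈ H, α g ∈ H := fun g hg => hHa ▸ ⟨g, hg, rfl⟩
  have hmem' : ∀ g ∈ H, α⁻¹ g ∈ H := fun g hg => by
    obtain ⟨y, hy, rfl⟩ := (hHa.symm ▸ hg : g ∈ H.map α.toMonoidHom)
    show α.symm (α y) ∈ H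
    rwa [MulEquiv.symm_apply_apply]
  have hpres : ∀ b : ↥(Subgroup.zpowers α), ∀ g ∈ H, φ b g ∈ H := by
    rintro ⟨b, i, rfl⟩ g hg
    show (α ^ i) g ∈ H
    induction i with
    | zero => simpa using hg
    | succ i ih => rw [add_comm, zpow_add, zpow_one]; exact hmem _ ih
    | pred i ih =>
      rw [show -(i : ℤ) - 1 = -1 + -(i : ℤ) by ring, zpow_add, zpow_neg_one]
      exact hmem' _ ih
  let K : Subgroup (G ⋊[φ] ↥(Subgroup.zpowers α)) :=
    { carrier := {x | x.left ∈ H}
      one_mem' := one_mem H
      mul_mem' := fun {x y} hx hy => mul_mem hx (hpres _ _ hy)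
      inv_mem' := fun {x} hx => hpres _ _ (inv_mem hx) }
  have htop := CfsgLib.OddInverted.closure_iterate hnc j
  have hK : K = ⊤ := by
    refine top_le_iff.1 (htop.ge.trans ((Subgroup.closure_le _).2 ?_))
    rintro x (hx | ⟨y, ⟨g, hg⟩, rfl⟩)
    · rw [Set.mem_singleton_iff] at hx
      rw [hx]
      exact one_mem H
    · obtain ⟨c, hc⟩ := hclass g
      rw [← hg, hc, hiter]
      show (SemidirectProduct.inl (f^[j] (f c)) * t).left ∈ H
      have : (SemidirectProduct.inl (f^[j] (f c)) * t).left = f^[j] (f c) := by simp [t]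
      rw [this, ← Function.iterate_succ_apply]
      exact Subgroup.subset_closure ⟨c, rfl⟩
  refine top_le_iff.1 fun g _ => ?_
  have h := hK.ge (Subgroup.mem_top (SemidirectProduct.inl g))
  change (SemidirectProduct.inl g : G ⋊[φ] ↥(Subgroup.zpowers α)).left ∈ H at h
  rwa [SemidirectProduct.left_inl] at h

end Cfsg.Agent.S3927
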