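import Cfsg.Statements.S3928
import Cfsg.Agent.Lib.OddInverted.Reduction
import Cfsg.Agent.Lib.OddInverted.Core

set_option autoImplicit false
open Cfsg

namespace Cfsg.Agent.S3928

/-- There is a function f such that for every non-trivial finite group G and every automorphism α of G of order 2 with [G, α] = G (the elements g·α(g)⁻¹ generate G), the order of G is at most f(m), where m is the number of elements of odd order inverted by α. -/
theorem result : ∃ f : ℕ → ℕ, ∀ (G : Type) [Group G] [Finite G] [Nontrivial G] (α : MulAut G), orderOf α = 2 →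
    Subgroup.closure (Set.range (fun c : G => c * (α c)⁻¹)) = ⊤ →
      Nat.card G ≤ f (Nat.card {g : G // Odd (orderOf g) ∧ α g = g⁻¹}) := by
  obtain ⟨F, hF⟩ := CfsgLib.OddInverted.core_bound
  refine ⟨fun n => CfsgLib.OddInverted.centerBound (F n (n ^ n)) n, fun G _ _ _ α hα hgen => ?_⟩
  have hαα : ∀ x, α (α x) = x := fun x => by
    have h := pow_orderOf_eq_one α
    rw [hα, pow_two] at h
    exact DFunLike.congr_fun h x
  exact CfsgLib.OddInverted.bound_of_core (B := fun n d => CfsgLib.OddInverted.centerBound d n) hF
    (fun n K _ _ S hn hord hS d hd => CfsgLib.OddInverted.card_le_of_index_center S hS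
      (Nat.card_coe_set_eq S ▸ hn) hord hd) α hαα hgen rfl

end Cfsg.Agent.S3928
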