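import Cfsg.Statements.S3933
import Cfsg.Agent.S0144
import Cfsg.Agent.Lib.SylowNumber.Basic

set_option autoImplicit false
open Cfsg

namespace Cfsg.Agent.S3933

open scoped Pointwise

universe w

variable {G : Type w} [Group G] [Finite G]

/-- If `N` has `s`-power index and `S` is a Sylow `s`-subgroup, then `G = S * N`. -/
theorem exists_mem_mul (s k : ℕ) [Fact s.Prime] (N : Subgroup G) (hN : N.index = s ^ k)
    (S : Sylow s G) (g : G) : ∃ x ∈ (S : Subgroup G), ∃ n ∈ N, g = x * n := by
  classical
  have hle : N.relIndex (S : Subgroup G) ≤ N.index := by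
    rw [← Subgroup.relIndex_top_right]
    exact Subgroup.relIndex_le_of_le_right le_top (by
      rw [Subgroup.relIndex_top_right]; exact Subgroup.index_ne_zero_of_finite)
  have hdvd : N.index ∣ N.relIndex (S : Subgroup G) * (S : Subgroup G).index := by
    have h1 : N.relIndex (S : Subgroup G) * (S : Subgroup G).index = (N ⊓ (S : Subgroup G)).index := by
      rw [← Subgroup.inf_relIndex_right]
      exact Subgroup.relIndex_mul_index inf_le_right
    rw [h1]
    exact Subgroup.index_dvd_of_le inf_le_left
  have hco : N.index.Coprime (S : Subgroup G).index := by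
    rw [hN]
    exact ((Fact.out : s.Prime).coprime_iff_not_dvd.mpr S.not_dvd_index).pow_left k
  have heq : N.relIndex (S : Subgroup G) = N.index :=
    le_antisymm hle (Nat.le_of_dvd (Nat.pos_of_ne_zero Subgroup.index_ne_zero_of_finite)
      (hco.dvd_of_dvd_mul_right hdvd))
  let f : (↥(S : Subgroup G)) ⧸ N.subgroupOf (S : Subgroup G) → G ⧸ N :=
    Quotient.map' (fun x => (x : G)) (fun a b h => by
        rw [QuotientGroup.leftRel_apply] at h ⊢
        simpa [Subgroup.mem_subgroupOf] using h)
  have hfi : Function.Injective f := by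
    intro a b
    induction a using Quotient.inductionOn' with
    | _ a => ?_
    induction b using Quotient.inductionOn' with
    | _ b => ?_
    intro h
    change (QuotientGroup.mk (a : G) : G ⧸ N) = QuotientGroup.mk (b : G) at h
    rw [QuotientGroup.eq] at h
    exact QuotientGroup.eq.mpr (by simpa [Subgroup.mem_subgroupOf] using h)
  have hfs : Function.Surjective f :=
    ((Nat.bijective_iff_injective_and_card f).mpr ⟨hfi, heq⟩).2
  obtain ⟨a, ha⟩ := hfs (QuotientGroup.mk g)
  induction a using Quotient.inductionOn' with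
  | _ a => ?_
  change (QuotientGroup.mk (a : G) : G ⧸ N) = QuotientGroup.mk g at ha
  rw [QuotientGroup.eq] at ha
  exact ⟨(a : G), a.2, (a : G)⁻¹ * g, ha, by group⟩

/-- A subgroup whose index is prime to `p` contains a Sylow `p`-subgroup of the whole group. -/
theorem exists_sylow_le {p : ℕ} [Fact p.Prime] {M : Subgroup G} (h : ¬ p ∣ M.index) :
    ∃ P : Sylow p G, (P : Subgroup G) ≤ M := by
  let R : Sylow p M := default
  have h1 : IsPGroup p ((R : Subgroup M).map M.subtype) := R.2.map M.subtype
  refine ⟨h1.toSylow ?_, fun x hx => Subgroup.map_subtype_le _ hx⟩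
  rw [Subgroup.index_map_subtype]
  exact Nat.Prime.not_dvd_mul Fact.out R.not_dvd_index h

/-- If `n_r` is a power of `s`, a proper subgroup cannot contain a Sylow `r`- and a Sylow
`s`-subgroup of a simple group of order divisible by `r`. -/
theorem no_overgroup [IsSimpleGroup G] {r s k : ℕ} [Fact r.Prime] [Fact s.Prime]
    (hr : r ∣ Nat.card G) (hn : Nat.card (Sylow r G) = s ^ k) {M : Subgroup G} (hM : M ≠ ⊤)
    (R : Sylow r G) (S : Sylow s G) (hR : (R : Subgroup G) ≤ M) (hS : (S : Subgroup G) ≤ M) :
    False := by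
  have hidx : (Subgroup.normalizer ((R : Subgroup G) : Set G)).index = s ^ k := by
    rw [← hn]; exact R.card_eq_index_normalizer.symm
  have hle : Subgroup.normalClosure ((R : Subgroup G) : Set G) ≤ M := by
    refine (Subgroup.closure_le M).mpr ?_
    intro y hy
    obtain ⟨z, hz, hzy⟩ := Group.mem_conjugatesOfSet_iff.mp hy
    obtain ⟨g, rfl⟩ := isConj_iff.mp hzy
    obtain ⟨x, hx, n, hnm, rfl⟩ := exists_mem_mul s k _ hidx S g
    have h1 : n * z * n⁻¹ ∈ (R : Subgroup G) := (Subgroup.mem_normalizer_iff.mp hnm z).mp hz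
    have h2 : x * (n * z * n⁻¹) * x⁻¹ ∈ M :=
      M.mul_mem (M.mul_mem (hS hx) (hR h1)) (M.inv_mem (hS hx))
    simpa [mul_assoc] using h2
  rcases (Subgroup.normalClosure_normal (s := ((R : Subgroup G) : Set G))).eq_bot_or_eq_top with h | h
  · refine R.ne_bot_of_dvd_card hr (eq_bot_iff.mpr fun x hx => ?_)
    rw [← h]
    exact Subgroup.subset_normalClosure hx
  · exact hM (top_le_iff.mp (h ▸ hle))

/-- The simple case. -/
theorem simple_case [IsSimpleGroup G]
    (h : ∀ (r : ℕ) [Fact r.Prime], Nat.card (Sylow r G) = 1 ∨ IsPrimePow (Nat.card (Sylow r G))) :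
    Group.IsSolvable G := by
  classical
  by_contra hns
  let π : Finset ℕ := (Nat.card G).primeFactors
  have hG0 : Nat.card G ≠ 0 := Nat.card_pos.ne'
  have data : ∀ r ∈ π, ∃ s, s ∈ π ∧ s ≠ r ∧ ∃ k, ∀ [Fact r.Prime], Nat.card (Sylow r G) = s ^ k := by
    intro r hr
    obtain ⟨hrp, hrd, -⟩ := Nat.mem_primeFactors.mp hr
    have := Fact.mk hrp
    rcases h r with h1 | h1
    · exfalso
      let P : Sylow r G := default
      have hnorm : (P : Subgroup G).Normal := by
        rw [← Subgroup.normalizer_eq_top_iff, ← Subgroup.index_eq_one, Sylow.coe_coe,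
          ← P.card_eq_index_normalizer, h1]
      rcases hnorm.eq_bot_or_eq_top with e | e
      · exact P.ne_bot_of_dvd_card hrd e
      · have hP : IsPGroup r G := by
          intro g
          obtain ⟨n, hn⟩ := P.2 ⟨g, e ▸ Subgroup.mem_top g⟩
          exact ⟨n, by simpa using congrArg Subtype.val hn⟩
        have := hP.isNilpotent
        exact hns inferInstance
    · obtain ⟨s, k, hs, hk, hsk⟩ := (isPrimePow_nat_iff _).mp h1
      have hdvd : s ∣ Nat.card (Sylow r G) := hsk ▸ dvd_pow_self s hk.ne'
      refine ⟨s, Nat.mem_primeFactors.mpr ⟨hs, ?_, hG0⟩, ?_, k, ?_⟩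
      · exact hdvd.trans (((default : Sylow r G).card_dvd_index).trans (Subgroup.index_dvd_card _))
      · rintro rfl
        exact not_dvd_card_sylow s G hdvd
      · intro _
        exact hsk.symm
  choose f hfmem hfne k hk using data
  have key : ∀ r (hr : r ∈ π) p (hp : p ∈ π), f p hp = r ∨ f p hp = f r hr := by
    intro r hr p hp
    by_contra hc
    push Not at hc
    obtain ⟨hrp, hrd, -⟩ := Nat.mem_primeFactors.mp hr
    have hpp := (Nat.mem_primeFactors.mp hp).1
    have hsp := (Nat.mem_primeFactors.mp (hfmem r hr)).1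
    have htp := (Nat.mem_primeFactors.mp (hfmem p hp)).1
    have := Fact.mk hrp
    have := Fact.mk hpp
    have := Fact.mk hsp
    let P : Sylow p G := default
    let M : Subgroup G := Subgroup.normalizer ((P : Subgroup G) : Set G)
    have hidx : M.index = f p hp ^ k p hp := by
      rw [← hk p hp]; exact P.card_eq_index_normalizer.symm
    have hM : M ≠ ⊤ := by
      intro e
      have : (P : Subgroup G).Normal := Subgroup.normalizer_eq_top_iff.mp e
      rcases this.eq_bot_or_eq_top with e' | e'
      · exact P.ne_bot_of_dvd_card (Nat.mem_primeFactors.mp hp).2.1 e'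
      · have hP : IsPGroup p G := by
          intro g
          obtain ⟨n, hn⟩ := P.2 ⟨g, e' ▸ Subgroup.mem_top g⟩
          exact ⟨n, by simpa using congrArg Subtype.val hn⟩
        have := hP.isNilpotent
        exact hns inferInstance
    have cop : ∀ q, q.Prime → f p hp ≠ q → ¬ q ∣ M.index := by
      intro q hq hne hd
      rw [hidx] at hd
      exact hne ((Nat.prime_dvd_prime_iff_eq hq htp).mp (hq.dvd_of_dvd_pow hd)).symm
    obtain ⟨R, hR⟩ := exists_sylow_le (p := r) (cop r hrp hc.1)
    obtain ⟨S, hS⟩ := exists_sylow_le (p := f r hr) (cop _ hsp hc.2)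
    exact no_overgroup hrd (hk r hr) hM R S hR hS
  have three : ∀ a b : ℕ, a.Prime → b.Prime → ∃ t ∈ π, t ≠ a ∧ t ≠ b := by
    intro a b ha hb
    by_contra hc
    push Not at hc
    apply hns
    have hsub : π ⊆ {a, b} := by
      intro t ht
      rcases eq_or_ne t a with e | e
      · simp [e]
      · simp [hc t ht e]
    rcases eq_or_ne a b with e | e
    · subst e
      refine S0144.result a a ((Nat.card G).factorization a) 0 ha hb ?_
      conv_lhs => rw [Nat.prod_primeFactors_pow_factorization hG0]
      rw [Finset.prod_subset hsub (fun t _ ht => by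
        rw [Finsupp.notMem_support_iff.mp (show t ∉ (Nat.card G).factorization.support by rwa [Nat.support_factorization]), pow_zero])]
      simp
    · refine S0144.result a b ((Nat.card G).factorization a) ((Nat.card G).factorization b) ha hb ?_
      conv_lhs => rw [Nat.prod_primeFactors_pow_factorization hG0]
      rw [Finset.prod_subset hsub (fun t _ ht => by
        rw [Finsupp.notMem_support_iff.mp (show t ∉ (Nat.card G).factorization.support by rwa [Nat.support_factorization]), pow_zero]), Finset.prod_pair e]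
  obtain ⟨a, ha, -⟩ := three 2 2 Nat.prime_two Nat.prime_two
  obtain ⟨t, ht, hta, htf⟩ := three a (f a ha) (Nat.mem_primeFactors.mp ha).1
    (Nat.mem_primeFactors.mp (hfmem a ha)).1
  have hft : f t ht = a ∨ f t ht = f a ha := key a ha t ht
  have himg : ∀ x (hx : x ∈ π), f x hx = f t ht := by
    intro x hx
    rcases key t ht x hx with e | e
    · rcases key a ha x hx with e' | e'
      · exact absurd (e.symm.trans e') hta
      · exact absurd (e.symm.trans e') htf
    · exact e
  exact hfne (f t ht) (hfmem t ht) (himg _ _)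

theorem aux : ∀ (n : ℕ) (G : Type w) [Group G] [Finite G], Nat.card G = n →
    (∀ (r : ℕ) [Fact r.Prime], Nat.card (Sylow r G) = 1 ∨ IsPrimePow (Nat.card (Sylow r G))) →
    Group.IsSolvable G := by
  classical
  intro n
  induction n using Nat.strong_induction_on with
  | _ n ih => ?_
  intro G _ _ hn h
  rcases subsingleton_or_nontrivial G with hG | hG
  · infer_instance
  by_cases hs : IsSimpleGroup G
  · exact simple_case h
  obtain ⟨N, hN, hbot, htop⟩ : ∃ N : Subgroup G, N.Normal ∧ N ≠ ⊥ ∧ N ≠ ⊤ := by
    by_contra hc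
    push Not at hc
    exact hs ⟨fun N hN => or_iff_not_imp_left.mpr fun hb => hc N hN hb⟩
  have hlt1 : Nat.card N < n := by
    rw [← hn]
    exact lt_of_le_of_ne (Subgroup.card_le_card_group N) (fun e => htop (Subgroup.eq_top_of_card_eq N e))
  have hlt2 : Nat.card (G ⧸ N) < n := by
    have h1 : 1 < Nat.card N := (Subgroup.one_lt_card_iff_ne_bot N).mpr hbot
    have h3 : 0 < Nat.card (G ⧸ N) := Nat.card_pos
    rw [← hn, Subgroup.card_eq_card_quotient_mul_card_subgroup N]
    nlinarith
  have cl : ∀ {d m : ℕ}, d ∣ m → (m = 1 ∨ IsPrimePow m) → d = 1 ∨ IsPrimePow d := by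
    intro d m hd hm
    rcases hm with rfl | hm
    · exact Or.inl (Nat.dvd_one.mp hd)
    · rcases eq_or_ne d 1 with e | e
      · exact Or.inl e
      · exact Or.inr (hm.dvd hd e)
  have s1 := ih _ hlt1 N rfl fun r _ =>
    cl (Dvd.intro _ (CfsgLib.SylowNumber.card_sylow_eq_normal_mul N (default : Sylow r G)).symm) (h r)
  have s2 := ih _ hlt2 (G ⧸ N) rfl fun r _ =>
    cl (CfsgLib.SylowNumber.card_sylow_quotient_dvd N) (h r)
  exact Group.isSolvable_of_ker_le_range N.subtype (QuotientGroup.mk' N) (by simp)

/-- If for every prime r the number of Sylow r-subgroups of the finite group G is a prime power or 1, then G is solvable. -/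
theorem result {G : Type*} [Group G] [Finite G] (h : ∀ (r : ℕ) [Fact r.Prime], Nat.card (Sylow r G) = 1 ∨ IsPrimePow (Nat.card (Sylow r G))) :
    Group.IsSolvable G := by
  exact aux _ G rfl h

end Cfsg.Agent.S3933
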