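import Cfsg.Statements.S3937
import Cfsg.Agent.Lib.Fitting.Basic
import Cfsg.Agent.Lib.Layer.FStar
import Cfsg.Agent.Lib.Layer.Radical
import Cfsg.Agent.Lib.PSolvable.Core
import Cfsg.Agent.S0066
import Cfsg.Agent.Lib.Subnormal.Basic

set_option autoImplicit false
open Cfsg

namespace Cfsg.Agent.S3937

open scoped Pointwise commutatorElement

variable {G : Type*} [Group G]

theorem foldl_replicate (g : G) (n : ℕ) (x : G) :
    (List.replicate n g).foldl (fun a b => a * b * a⁻¹ * b⁻¹) x
      = (fun c => c * g * c⁻¹ * g⁻¹)^[n] x := by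
  induction n generalizing x with
  | zero => rfl
  | succ n ih => rw [List.replicate_succ, List.foldl_cons, ih, Function.iterate_succ_apply]

universe u

theorem backward (n : ℕ) : ∀ (G : Type u) [Group G] [Finite G], Nat.card G < n → ∀ g : G,
    (∀ x : G, ∃ k : ℕ, (fun c => c * g * c⁻¹ * g⁻¹)^[k] x = 1) → g ∈ Cfsg.fittingSubgroup G := by
  induction n with
  | zero => exact fun G _ _ h => absurd h (Nat.not_lt_zero _)
  | succ n ih =>
    intro G _ _ hn g hg
    set A := Subgroup.zpowers g with hA
    have hF : ∀ M : Subgroup G, g ∈ M → M ≠ ⊤ → g ∈ (Cfsg.fittingSubgroup M).map M.subtype := by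
      intro M hgM hM
      have hlt : Nat.card M < n := by
        have := lt_of_le_of_ne (Subgroup.card_le_card_group M) fun e => hM (Subgroup.eq_top_of_card_eq M e)
        omega
      refine ⟨⟨g, hgM⟩, ih M hlt ⟨g, hgM⟩ fun x => ?_, rfl⟩
      obtain ⟨k, hk⟩ := hg x
      refine ⟨k, Subtype.ext ?_⟩
      have : ∀ (k : ℕ) (x : M), (((fun c => c * (⟨g, hgM⟩ : M) * c⁻¹ * (⟨g, hgM⟩ : M)⁻¹)^[k] x : M) : G)
          = (fun c => c * g * c⁻¹ * g⁻¹)^[k] (x : G) := by
        intro k
        induction k with
        | zero => exact fun _ => rfl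
        | succ k ihk =>
          intro x
          rw [Function.iterate_succ_apply, Function.iterate_succ_apply, ihk]
          rfl
      rw [this, hk]; rfl
    have hsn : ∀ M : Subgroup G, A ≤ M → M ≠ ⊤ → (A.subgroupOf M).IsSubnormal := by
      intro M hAM hM
      obtain ⟨m, hm, hmg⟩ := hF M (hAM (Subgroup.mem_zpowers g)) hM
      haveI := CfsgLib.Fitting.fittingSubgroup_normal (G := M)
      haveI := CfsgLib.Fitting.fittingSubgroup_isNilpotent (G := M)
      have hle : A.subgroupOf M ≤ Cfsg.fittingSubgroup M := by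
        intro x hx
        obtain ⟨i, hi⟩ := Subgroup.mem_zpowers_iff.mp (hx : (x : G) ∈ Subgroup.zpowers g)
        have : x = m ^ i := Subtype.ext (hi.symm.trans (by rw [← hmg]; rfl))
        rw [this]; exact zpow_mem hm i
      exact Subgroup.IsSubnormal.trans hle (CfsgLib.Subnormal.isSubnormal_of_isNilpotent _)
        (Subgroup.Normal.isSubnormal inferInstance)
    by_cases hAs : A.IsSubnormal
    · haveI : Group.IsNilpotent A := @CommGroup.isNilpotent _ IsCyclic.commGroup
      exact CfsgLib.Layer.le_fittingSubgroup_of_isSubnormal hAs inferInstance (Subgroup.mem_zpowers g)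
    by_cases hAtop : A = ⊤
    · exact absurd (hAtop ▸ Subgroup.IsSubnormal.top) hAs
    obtain ⟨M, hM, hAM⟩ := (eq_top_or_exists_le_coatom A).resolve_left hAtop
    have huniq := Cfsg.Agent.S0066.zipper A hsn hAs
    have hgM : g ∈ M := hAM (Subgroup.mem_zpowers g)
    have hMn : M.Normal := by
      rw [← Subgroup.normalizer_eq_top_iff]
      by_contra hN
      have hNM : Subgroup.normalizer (M : Set G) = M :=
        (hM.le_iff.mp Subgroup.le_normalizer).resolve_left hN
      have hstep : ∀ x : G, x * g * x⁻¹ * g⁻¹ ∈ M → x ∈ M := by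
        intro x hx
        have h1 : x * g * x⁻¹ ∈ M := by simpa using mul_mem hx hgM
        have hco : IsCoatom (MulAut.conj x⁻¹ • M) :=
          ((MulAut.conj x⁻¹).mapSubgroup.isCoatom_iff M).mpr hM
        have h2 : A ≤ MulAut.conj x⁻¹ • M := Subgroup.zpowers_le.mpr
          (Cfsg.Agent.S0066.mem_conj_smul.mpr (by simpa using h1))
        have h3 := huniq M _ hM hco hAM h2
        rw [← hNM]
        refine Subgroup.mem_normalizer_iff.mpr fun y => ?_
        have h4 := SetLike.ext_iff.mp h3 y
        rw [Cfsg.Agent.S0066.mem_conj_smul] at h4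
        simpa using h4
      have hall : ∀ (k : ℕ) (x : G), (fun c => c * g * c⁻¹ * g⁻¹)^[k] x ∈ M → x ∈ M := by
        intro k
        induction k with
        | zero => exact fun x hx => hx
        | succ k ihk =>
          intro x hx
          rw [Function.iterate_succ_apply] at hx
          exact hstep x (ihk _ hx)
      refine hM.1 (eq_top_iff.mpr fun x _ => ?_)
      obtain ⟨k, hk⟩ := hg x
      exact hall k x (hk ▸ one_mem M)
    haveI := hMn
    exact CfsgLib.Layer.map_fittingSubgroup_le (Subgroup.Normal.isSubnormal inferInstance) (hF M hgM hM.1)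

/-- Baer's characterization of the Fitting subgroup: in a finite group G, an element g lies in the Fitting subgroup if and only if g is a left Engel element, that is, for every x there is n with [x, g, g, …, g] = 1 (n entries g, [a, b] = aba⁻¹b⁻¹). -/
theorem result {G : Type*} [Group G] [Finite G] (g : G) :
    g ∈ Cfsg.fittingSubgroup G ↔ ∀ x : G, ∃ n : ℕ, (List.replicate n g).foldl (fun a b => a * b * a⁻¹ * b⁻¹) x = 1 := by
  simp only [foldl_replicate]
  refine ⟨fun hg x => ?_, backward _ G (Nat.lt_succ_self _) g⟩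
  haveI := CfsgLib.Fitting.fittingSubgroup_normal (G := G)
  haveI := CfsgLib.Fitting.fittingSubgroup_isNilpotent (G := G)
  set F := Cfsg.fittingSubgroup G
  have hstep : ∀ i : ℕ, ∀ z : F, z ∈ (⊤ : Subgroup F).lowerCentralSeries i →
      z * ⟨g, hg⟩ * z⁻¹ * (⟨g, hg⟩ : F)⁻¹ ∈ (⊤ : Subgroup F).lowerCentralSeries (i + 1) := by
    intro i z hz
    rw [← commutatorElement_def]
    rw [Subgroup.lowerCentralSeries_succ]
    exact Subgroup.commutator_mem_commutator hz (Subgroup.mem_top _)
  have h1 : x * g * x⁻¹ * g⁻¹ ∈ F := mul_mem (Subgroup.Normal.conj_mem inferInstance g hg x) (inv_mem hg)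
  have hiter : ∀ i : ℕ, ∃ z : F, z ∈ (⊤ : Subgroup F).lowerCentralSeries i ∧
      (fun c => c * g * c⁻¹ * g⁻¹)^[i + 1] x = z := by
    intro i
    induction i with
    | zero => exact ⟨⟨_, h1⟩, by simp, rfl⟩
    | succ i ihi =>
      obtain ⟨z, hz, hzx⟩ := ihi
      refine ⟨_, hstep i z hz, ?_⟩
      rw [Function.iterate_succ_apply', hzx]
      rfl
  obtain ⟨c, hc⟩ := Subgroup.nilpotent_iff_lowerCentralSeries.mp (inferInstance : Group.IsNilpotent F)
  obtain ⟨z, hz, hzx⟩ := hiter c
  rw [hc, Subgroup.mem_bot] at hz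
  exact ⟨c + 1, by rw [hzx, hz]; rfl⟩
end Cfsg.Agent.S3937
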