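import Cfsg.Statements.S3939
import Cfsg.Agent.Lib.Transfer.Basic
import Cfsg.Agent.Lib.Baer.Basic
import Cfsg.Agent.Lib.Hall.Carter

set_option autoImplicit false
set_option linter.style.haveILetI false
open Cfsg

namespace Cfsg.Agent.S3939

open scoped commutatorElement

variable {G : Type*} [Group G]

theorem subgroupOf_ucs_le (H : Subgroup G) : ∀ i, (Subgroup.upperCentralSeries G i).subgroupOf H
    ≤ Subgroup.upperCentralSeries H i := by
  intro i
  induction i with
  | zero => simp
  | succ i ih =>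
    intro x hx
    rw [Subgroup.mem_subgroupOf, Subgroup.mem_upperCentralSeries_succ_iff] at hx
    rw [Subgroup.mem_upperCentralSeries_succ_iff]
    exact fun y => ih (Subgroup.mem_subgroupOf.mpr (hx (y : G)))

theorem isNilpotent_closure_pair [Finite G] {n : ℕ} {g : G}
    (hg : g ∈ Subgroup.upperCentralSeries G n) (x : G) :
    Group.IsNilpotent ↥(Subgroup.closure ({x, g} : Set G)) := by
  set H := Subgroup.closure ({x, g} : Set G) with hH
  have hxH : x ∈ H := Subgroup.subset_closure (by simp)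
  have hgH : g ∈ H := Subgroup.subset_closure (by simp)
  set Z := Subgroup.upperCentralSeries H n with hZ
  have hgZ : (⟨g, hgH⟩ : H) ∈ Z := subgroupOf_ucs_le H n (Subgroup.mem_subgroupOf.mpr hg)
  let π := QuotientGroup.mk' Z
  have hgπ : π ⟨g, hgH⟩ = 1 := (QuotientGroup.eq_one_iff _).mpr hgZ
  have hall : ∀ y : H, π y * π ⟨x, hxH⟩ = π ⟨x, hxH⟩ * π y := by
    intro y
    have h1 : H ≤ ((Subgroup.centralizer ({π ⟨x, hxH⟩} : Set (H ⧸ Z))).comap π).map H.subtype := by
      refine (Subgroup.closure_le _).mpr ?_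
      rintro z (rfl | rfl)
      · exact ⟨⟨z, hxH⟩, Subgroup.mem_centralizer_singleton_iff.mpr rfl, rfl⟩
      · refine ⟨⟨z, hgH⟩, Subgroup.mem_centralizer_singleton_iff.mpr ?_, rfl⟩
        rw [hgπ, one_mul, mul_one]
    obtain ⟨w, hw, hwy⟩ := h1 y.2
    rw [Subtype.ext hwy] at hw
    exact Subgroup.mem_centralizer_singleton_iff.mp hw
  have hxZ : (⟨x, hxH⟩ : H) ∈ Subgroup.upperCentralSeries H (n + 1) := by
    rw [Subgroup.mem_upperCentralSeries_succ_iff]
    intro y
    refine (QuotientGroup.eq_one_iff _).mp ?_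
    show π _ = 1
    simp only [commutatorElement_def, map_mul, map_inv, ← hall y]
    group
  refine ⟨⟨n + 1, eq_top_iff.mpr fun y _ => ?_⟩⟩
  have h1 : H ≤ (Subgroup.upperCentralSeries H (n + 1)).map H.subtype := by
    refine (Subgroup.closure_le _).mpr ?_
    rintro z (rfl | rfl)
    · exact ⟨_, hxZ, rfl⟩
    · exact ⟨_, Subgroup.upperCentralSeries_mono H (Nat.le_succ n) hgZ, rfl⟩
  obtain ⟨w, hw, hwy⟩ := h1 y.2
  rwa [Subtype.ext hwy] at hw

theorem mem_of_centralized [Finite G] {p : ℕ} [Fact p.Prime] {N : Subgroup G} [N.Normal]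
    (hN : IsPGroup p N) (hc : ∀ y : G, (orderOf y).Coprime p → ∀ a ∈ N, y * a = a * y)
    {Z : Subgroup G} [Z.Normal] (hZ : Subgroup.center (G ⧸ Z) = ⊥) : N ≤ Z := by
  intro a ha
  let π := QuotientGroup.mk' Z
  set N' := N.map π
  haveI : N'.Normal := Subgroup.Normal.map inferInstance π (QuotientGroup.mk'_surjective Z)
  by_contra haZ
  have hne : N' ≠ ⊥ := fun e => haZ ((QuotientGroup.eq_one_iff a).mp
    (Subgroup.mem_bot.mp (e ▸ Subgroup.mem_map_of_mem π ha)))
  obtain ⟨P⟩ : Nonempty (Sylow p G) := inferInstance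
  set P' := (P : Subgroup G).map π
  obtain ⟨k, hk⟩ := IsPGroup.iff_card.mp (hN.map π : IsPGroup p N')
  have hdvd : p ∣ Nat.card N' := by
    rcases k with _ | k
    · exact absurd (Subgroup.eq_bot_of_card_eq _ (by rw [hk, pow_zero])) hne
    · exact hk ▸ dvd_pow_self p k.succ_ne_zero
  letI : MulAction P' N' := MulAction.compHom N' ((MulAut.conjNormal (H := N')).comp P'.subtype)
  obtain ⟨z, hz, hz1⟩ := (P.2.map π : IsPGroup p P').exists_fixed_point_of_prime_dvd_card_of_fixed_point
    N' hdvd (a := 1) (fun u => by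
      show (MulAut.conjNormal (u : G ⧸ Z)) (1 : N') = 1
      rw [map_one])
  set C := (Subgroup.centralizer ({(z : G ⧸ Z)} : Set (G ⧸ Z))).comap π
  have hP : (P : Subgroup G) ≤ C := fun u hu => by
    refine Subgroup.mem_centralizer_singleton_iff.mpr ?_
    have h := congrArg Subtype.val (hz ⟨π u, Subgroup.mem_map_of_mem π hu⟩)
    change π u * (z : G ⧸ Z) * (π u)⁻¹ = z at h
    exact mul_inv_eq_iff_eq_mul.mp h
  have hC : C = ⊤ := by
    rw [← Subgroup.index_eq_one]
    by_contra hne1
    obtain ⟨r, hr, hrd⟩ := Nat.exists_prime_and_dvd hne1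
    haveI := Fact.mk hr
    obtain ⟨R⟩ : Nonempty (Sylow r G) := inferInstance
    by_cases hrp : r = p
    · subst hrp
      exact P.not_dvd_index (hrd.trans (Subgroup.index_dvd_of_le hP))
    · refine R.not_dvd_index (hrd.trans (Subgroup.index_dvd_of_le fun u hu => ?_))
      refine Subgroup.mem_centralizer_singleton_iff.mpr ?_
      obtain ⟨b, hb, hbz⟩ := z.2
      obtain ⟨j, hj⟩ := IsPGroup.iff_orderOf.mp R.2 ⟨u, hu⟩
      rw [Subgroup.orderOf_mk] at hj
      rw [← hbz, ← map_mul, ← map_mul, hc u (by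
        rw [hj]; exact ((Nat.coprime_primes hr Fact.out).mpr hrp).pow_left j) b hb]
  have hzc : (z : G ⧸ Z) ∈ Subgroup.center (G ⧸ Z) := Subgroup.mem_center_iff.mpr fun w => by
    obtain ⟨u, rfl⟩ := QuotientGroup.mk'_surjective Z w
    exact Subgroup.mem_centralizer_singleton_iff.mp (show u ∈ C from hC ▸ Subgroup.mem_top u)
  rw [hZ, Subgroup.mem_bot] at hzc
  exact hz1 (Subtype.ext hzc.symm)

/-- In a finite group G the set of elements g such that the subgroup generated by g and x is nilpotent for every x ∈ G is exactly the hypercenter of G (the last term of the upper central series). -/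
theorem result {G : Type*} [Group G] [Finite G] (g : G) :
    (∀ x : G, Group.IsNilpotent ↥(Subgroup.closure ({x, g} : Set G))) ↔ g ∈ ⨆ n : ℕ, Subgroup.upperCentralSeries G n := by
  obtain ⟨n, hn⟩ : ∃ n, (⨆ i, Subgroup.upperCentralSeries G i) = Subgroup.upperCentralSeries G n ∧
      Subgroup.upperCentralSeries G (n + 1) = Subgroup.upperCentralSeries G n := by
    obtain ⟨n, hn⟩ := WellFoundedGT.monotone_chain_condition
      ⟨Subgroup.upperCentralSeries G, Subgroup.upperCentralSeries_mono G⟩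
    refine ⟨n, le_antisymm (iSup_le fun i => ?_) (le_iSup (Subgroup.upperCentralSeries G) n),
      (hn (n + 1) (Nat.le_succ n)).symm⟩
    rcases le_total i n with h | h
    · exact Subgroup.upperCentralSeries_mono G h
    · exact (hn i h).ge
  rw [hn.1]
  refine ⟨fun h => ?_, fun hg x => isNilpotent_closure_pair hg x⟩
  set Z := Subgroup.upperCentralSeries G n with hZdef
  have hcenter : Subgroup.center (G ⧸ Z) = ⊥ := by
    rw [eq_bot_iff]
    intro w hw
    obtain ⟨u, rfl⟩ := QuotientGroup.mk'_surjective Z w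
    rw [Subgroup.mem_bot]
    refine (QuotientGroup.eq_one_iff u).mpr ?_
    rw [← hn.2, Subgroup.mem_upperCentralSeries_succ_iff]
    intro y
    refine (QuotientGroup.eq_one_iff _).mp ?_
    show QuotientGroup.mk' Z _ = 1
    simp only [commutatorElement_def, map_mul, map_inv,
      ← Subgroup.mem_center_iff.mp hw (QuotientGroup.mk' Z y)]
    group
  refine (QuotientGroup.eq_one_iff g).mp ?_
  by_contra hne
  obtain ⟨p, hp, hpd⟩ := Nat.exists_prime_and_dvd (fun e => hne (orderOf_eq_one_iff.mp e))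
  haveI := Fact.mk hp
  obtain ⟨a, m, hm, -, -, hgm⟩ := CfsgLib.Transfer.exists_pow_coprime_part (p := p) g
  set b := g ^ m
  have hbH : ∀ y : G, b ∈ Subgroup.closure ({y, g} : Set G) := fun y =>
    pow_mem (Subgroup.subset_closure (by simp)) m
  have hyH : ∀ y : G, y ∈ Subgroup.closure ({y, g} : Set G) := fun y =>
    Subgroup.subset_closure (by simp)
  have hbc : ∀ y : G, (orderOf y).Coprime p → y * b = b * y := by
    intro y hy
    haveI := h y
    have := CfsgLib.Hall.commute_of_coprime_orderOf (G := Subgroup.closure ({y, g} : Set G)) (p := p)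
      (x := ⟨b, hbH y⟩) (y := ⟨y, hyH y⟩) (j := a) (by rw [Subgroup.orderOf_mk, hgm])
      (by rw [Subgroup.orderOf_mk]; exact hy)
    exact (congrArg Subtype.val this :).symm
  have hbp : IsPGroup p (Subgroup.zpowers b) := IsPGroup.of_card (n := a) (by rw [Nat.card_zpowers, hgm])
  obtain ⟨N, hNn, hNp, hbN⟩ : ∃ N : Subgroup G, N.Normal ∧ IsPGroup p N ∧ b ∈ N := by
    by_contra hno
    push Not at hno
    obtain ⟨c, hc⟩ := CfsgLib.Baer.exists_conj_not_isPGroup hbp hno
    apply hc
    haveI := h c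
    set H := Subgroup.closure ({c, g} : Set G) with hH
    have htfae : Group.IsNilpotent H ↔
        ∀ (q : ℕ) (_hq : Fact q.Prime) (P : Sylow q H), (P : Subgroup H).Normal :=
      (Group.isNilpotent_of_finite_tfae (G := H)).out 0 3
    obtain ⟨P, hP⟩ := (hbp.comap_subtype (K := H)).exists_le_sylow
    have hbP : (⟨b, hbH c⟩ : H) ∈ (P : Subgroup H) := hP (Subgroup.mem_zpowers b)
    refine (P.2.map H.subtype).to_le ?_
    rw [Subgroup.closure_le]
    rintro z (rfl | rfl)
    · exact ⟨_, hbP, rfl⟩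
    · exact ⟨_, (htfae.mp inferInstance p inferInstance P).conj_mem _ hbP ⟨c, hyH c⟩, rfl⟩
  haveI := hNn
  set N0 := Subgroup.normalClosure ({b} : Set G)
  have hN0 : IsPGroup p N0 := hNp.to_le (Subgroup.normalClosure_le_normal (by simpa using hbN))
  have hcN0 : ∀ y : G, (orderOf y).Coprime p → ∀ a ∈ N0, y * a = a * y := by
    intro y hy a ha
    have : N0 ≤ Subgroup.centralizer ({y} : Set G) := by
      refine (Subgroup.closure_le _).mpr fun z hz => ?_
      obtain ⟨b', hb', hbz⟩ := Group.mem_conjugatesOfSet_iff.mp hz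
      rw [Set.mem_singleton_iff] at hb'
      subst hb'
      obtain ⟨c, rfl⟩ := isConj_iff.mp hbz
      refine Subgroup.mem_centralizer_singleton_iff.mpr ?_
      have h2 := hbc (c⁻¹ * y * c) (by
        rw [show c⁻¹ * y * c = c⁻¹ * y * (c⁻¹)⁻¹ by rw [inv_inv], CfsgLib.Transfer.orderOf_conj]
        exact hy)
      calc c * b * c⁻¹ * y = c * (b * (c⁻¹ * y * c)) * c⁻¹ := by group
        _ = c * ((c⁻¹ * y * c) * b) * c⁻¹ := by rw [h2]
        _ = y * (c * b * c⁻¹) := by group
    exact (Subgroup.mem_centralizer_singleton_iff.mp (this ha)).symm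
  have hbZ : b ∈ Z := mem_of_centralized hN0 hcN0 hcenter (Subgroup.subset_normalClosure rfl)
  have h1 : orderOf (QuotientGroup.mk' Z g) ∣ m := orderOf_dvd_of_pow_eq_one (by
    rw [← map_pow]; exact (QuotientGroup.eq_one_iff _).mpr hbZ)
  exact hm (hpd.trans h1)
end Cfsg.Agent.S3939
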