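import Cfsg.Statements.S3941
import Mathlib
-- import your own Cfsg.Agent.* helpers here

set_option autoImplicit false
open Cfsg

namespace Cfsg.Agent.S3941

theorem four_not_closed : ∃ a b : ↥(alternatingGroup (Fin 4)), a * a * a = 1 ∧ b * b * b = 1 ∧
    a * b * (a * b) * (a * b) ≠ 1 := by decide +kernel

/-- The alternating group of degree `m ≥ p` has no normal Sylow subgroup for odd `p`. -/
theorem not_pClosed (m p : ℕ) [Fact p.Prime] (hp : p ≠ 2) (hm : 4 ≤ m) (hpm : p ≤ m)
    (h : ∀ P : Sylow p ↥(alternatingGroup (Fin m)), (P : Subgroup ↥(alternatingGroup (Fin m))).Normal) : False := by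
  classical
  have hpp : p.Prime := Fact.out
  have hnt : Nontrivial (Fin m) := Fin.nontrivial_iff_two_le.mpr (by omega)
  obtain ⟨P⟩ : Nonempty (Sylow p ↥(alternatingGroup (Fin m))) := inferInstance
  have hc : Nat.card ↥(alternatingGroup (Fin m)) = m.factorial / 2 := by
    rw [nat_card_alternatingGroup, Nat.card_fin]
  have hpd : p ∣ Nat.card ↥(alternatingGroup (Fin m)) := by
    rw [hc]
    exact Nat.Coprime.dvd_of_dvd_mul_left ((Nat.coprime_primes hpp Nat.prime_two).mpr hp)
      (by rw [Nat.mul_div_cancel' (Nat.dvd_factorial (by norm_num) (by omega))]; exact Nat.dvd_factorial hpp.pos hpm)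
  rcases Nat.lt_or_ge m 5 with h5 | h5
  · obtain rfl : m = 4 := by omega
    obtain rfl : p = 3 := by
      have := hpp.two_le
      have : p ≠ 4 := fun e => by rw [e] at hpp; norm_num at hpp
      omega
    have := h P
    have huniq : ∀ a : ↥(alternatingGroup (Fin 4)), a * a * a = 1 → a ∈ (P : Subgroup ↥(alternatingGroup (Fin 4))) := by
      intro a ha
      by_contra hna
      have h1 : (QuotientGroup.mk a : ↥(alternatingGroup (Fin 4)) ⧸ (P : Subgroup ↥(alternatingGroup (Fin 4)))) ^ 3 = 1 := by
        rw [← QuotientGroup.mk_pow, pow_succ, pow_two, ha]; rfl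
      have h2 : orderOf (QuotientGroup.mk a : ↥(alternatingGroup (Fin 4)) ⧸ (P : Subgroup ↥(alternatingGroup (Fin 4)))) = 3 :=
        orderOf_eq_prime h1 fun e => hna ((QuotientGroup.eq_one_iff a).mp e)
      refine P.not_dvd_index (G := ↥(alternatingGroup (Fin 4))) ?_
      rw [Subgroup.index_eq_card]
      exact (dvd_of_eq h2.symm).trans (orderOf_dvd_natCard _)
    obtain ⟨a, b, ha, hb, hab⟩ := four_not_closed
    have hcard : Nat.card (P : Subgroup ↥(alternatingGroup (Fin 4))) = 3 := by
      rw [P.card_eq_multiplicity, hc, show Nat.factorial 4 / 2 = 3 * 2 ^ 2 by decide,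
        Nat.factorization_mul (by norm_num) (by norm_num), Finsupp.add_apply, Nat.prime_three.factorization_self,
        Nat.prime_two.factorization_pow, Finsupp.single_eq_of_ne (by norm_num)]
      norm_num
    have h3 := pow_card_eq_one' (x := (⟨a * b, mul_mem (huniq a ha) (huniq b hb)⟩ : (P : Subgroup ↥(alternatingGroup (Fin 4)))))
    rw [hcard] at h3
    exact hab (by simpa [pow_succ, mul_assoc] using congrArg Subtype.val h3)
  · have := alternatingGroup.isSimpleGroup (α := Fin m) (by rwa [Nat.card_fin])
    rcases IsSimpleGroup.eq_bot_or_eq_top_of_normal _ (h P) with e | e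
    · exact P.ne_bot_of_dvd_card hpd e
    · obtain ⟨k, hk⟩ := IsPGroup.iff_card.mp P.2
      rw [e, Subgroup.card_top] at hk
      have h2 : 2 ∣ p ^ k := by
        rw [← hk, hc]
        refine Nat.dvd_div_of_mul_dvd ?_
        exact (show 2 * 2 ∣ Nat.factorial 4 by decide).trans (Nat.factorial_dvd_factorial hm)
      exact hp ((Nat.prime_dvd_prime_iff_eq Nat.prime_two hpp).mp (Nat.prime_two.dvd_of_dvd_pow h2)).symm

/-- Let n ≥ 5 and p an odd prime with p ≤ n, and suppose that every proper subgroup of the alternating group of degree n whose order is divisible by p has a normal Sylow p-subgroup. Then n = p. -/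
theorem result (n p : ℕ) (hn : 5 ≤ n) [Fact p.Prime] (hp : p ≠ 2) (hpn : p ≤ n)
    (h : ∀ H : Subgroup ↥(alternatingGroup (Fin n)), H ≠ ⊤ → p ∣ Nat.card ↥H → Cfsg.IsPClosed p ↥H) : n = p := by
  classical
  by_contra hne
  have hpp : p.Prime := Fact.out
  let ι : Equiv.Perm (Fin (n - 1)) →* Equiv.Perm (Fin n) :=
    Equiv.Perm.viaEmbeddingHom (Fin.castLEEmb (Nat.sub_le n 1))
  have hι : Function.Injective ι := Equiv.Perm.viaEmbeddingHom_injective _
  have hsign : ∀ u, Equiv.Perm.sign (ι u) = Equiv.Perm.sign u := fun u => by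
    rw [Equiv.Perm.viaEmbeddingHom_apply]
    unfold Equiv.Perm.viaEmbedding
    exact @Equiv.Perm.sign_extendDomain _ _ _ _ _ _ u _ (fun a => Classical.propDecidable _) _
  let j : ↥(alternatingGroup (Fin (n - 1))) →* ↥(alternatingGroup (Fin n)) :=
    (ι.comp (alternatingGroup (Fin (n - 1))).subtype).codRestrict _ fun u => by
      rw [MonoidHom.comp_apply, Equiv.Perm.mem_alternatingGroup, hsign]
      exact Equiv.Perm.mem_alternatingGroup.mp u.2
  have hj : Function.Injective j := fun a b e => Subtype.ext (hι (congrArg Subtype.val e))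
  have hcard : ∀ m, 2 ≤ m → Nat.card ↥(alternatingGroup (Fin m)) = m.factorial / 2 := fun m hm => by
    have : Nontrivial (Fin m) := Fin.nontrivial_iff_two_le.mpr hm
    rw [nat_card_alternatingGroup, Nat.card_fin]
  have htop : j.range ≠ ⊤ := fun e => by
    have h1 : Nat.card j.range = Nat.card ↥(alternatingGroup (Fin n)) := by rw [e, Subgroup.card_top]
    rw [← Nat.card_congr (MonoidHom.ofInjective hj).toEquiv, hcard _ (by omega), hcard _ (by omega)] at h1
    have h2 : (n - 1).factorial < n.factorial := (Nat.factorial_lt (by omega)).mpr (by omega)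
    have h3 := Nat.mul_div_cancel' (Nat.dvd_factorial (by norm_num : 0 < 2) (by omega : 2 ≤ n - 1))
    have h4 := Nat.mul_div_cancel' (Nat.dvd_factorial (by norm_num : 0 < 2) (by omega : 2 ≤ n))
    omega
  have hd : p ∣ Nat.card j.range := by
    rw [← Nat.card_congr (MonoidHom.ofInjective hj).toEquiv, hcard _ (by omega)]
    exact Nat.Coprime.dvd_of_dvd_mul_left ((Nat.coprime_primes hpp Nat.prime_two).mpr hp)
      (by rw [Nat.mul_div_cancel' (Nat.dvd_factorial (by norm_num) (by omega))]; exact Nat.dvd_factorial hpp.pos (by omega))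
  refine not_pClosed (n - 1) p hp (by omega) (by omega) fun P => ?_
  let e := MonoidHom.ofInjective hj
  have hn := h _ htop hd (P.mapSurjective (f := e.toMonoidHom) e.surjective)
  have h2 := hn.comap e.toMonoidHom
  rwa [show ((P.mapSurjective (f := e.toMonoidHom) e.surjective : Sylow p j.range) : Subgroup j.range).comap e.toMonoidHom =
    (P : Subgroup ↥(alternatingGroup (Fin (n - 1)))) from Subgroup.comap_map_eq_self_of_injective e.injective _] at h2

end Cfsg.Agent.S3941
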