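import Cfsg.Statements.S3946
import Cfsg.Agent.Lib.Splitting.Nilpotent

set_option autoImplicit false
open Cfsg

namespace Cfsg.Agent.S3946

/-- Call an automorphism α of order n of a group G splitting when x · α(x) · α²(x) ⋯ α^(n−1)(x) = 1 for every x ∈ G. A finite group admitting a splitting automorphism of prime order is nilpotent (this contains the case of a fixed-point-free automorphism of prime order). -/
theorem result {G : Type*} [Group G] [Finite G] (α : MulAut G) (hp : (orderOf α).Prime)
    (hsplit : ∀ x : G, (((List.range (orderOf α)).map (fun i : ℕ => (α ^ i) x)).prod = 1)) : Group.IsNilpotent G := by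
  classical
  haveI : Fact (orderOf α).Prime := ⟨hp⟩
  set p := orderOf α with hpdef
  let φ : ↥(Subgroup.zpowers α) →* MulAut G := (Subgroup.zpowers α).subtype
  haveI : Finite (Subgroup.zpowers α) := Nat.finite_of_card_ne_zero (by
    rw [Nat.card_zpowers, ← hpdef]; exact hp.pos.ne')
  haveI : Finite (G ⋊[φ] ↥(Subgroup.zpowers α)) :=
    Finite.of_equiv (G × ↥(Subgroup.zpowers α)) SemidirectProduct.equivProd.symm
  let a : ↥(Subgroup.zpowers α) := ⟨α, Subgroup.mem_zpowers α⟩
  let y : G ⋊[φ] ↥(Subgroup.zpowers α) := SemidirectProduct.inr a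
  let H : Subgroup (G ⋊[φ] ↥(Subgroup.zpowers α)) := SemidirectProduct.inl.range
  have hy : y ∈ Subgroup.normalizer (H : Set (G ⋊[φ] ↥(Subgroup.zpowers α))) := by
    haveI : H.Normal := by
      show SemidirectProduct.inl.range.Normal
      rw [SemidirectProduct.range_inl_eq_ker_rightHom]
      exact MonoidHom.normal_ker _
    rw [Subgroup.normalizer_eq_top_iff.2 inferInstance]
    trivial
  have key : ∀ (h : G) (k : ℕ), ((SemidirectProduct.inl h : G ⋊[φ] ↥(Subgroup.zpowers α)) * y) ^ k =
      SemidirectProduct.inl (((List.range k).map (fun i : ℕ => (α ^ i) h)).prod) *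
        SemidirectProduct.inr (a ^ k) := by
    intro h k
    induction k with
    | zero => simp
    | succ k ih =>
      rw [pow_succ, ih, List.range_succ, List.map_append, List.prod_append]
      refine SemidirectProduct.ext ?_ ?_
      · simp [y, a, φ]
      · simp [y, a, pow_succ]
  have hpow : a ^ p = 1 := Subtype.ext (by rw [Subgroup.coe_pow]; exact pow_orderOf_eq_one α)
  have hnil := CfsgLib.Splitting.isNilpotent_of_splitting (p := p) H y hy (by
    rintro _ ⟨h, rfl⟩
    rw [key, hsplit, hpow, map_one, map_one, one_mul])
  exact CfsgLib.Splitting.isNilpotent_congr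
    (MonoidHom.ofInjective SemidirectProduct.inl_injective).symm hnil
end Cfsg.Agent.S3946
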