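import Cfsg.Statements.S3949
import Mathlib
-- import your own Cfsg.Agent.* helpers here

set_option autoImplicit false
open Cfsg

namespace Cfsg.Agent.S3949

/-- Let G be a finite group and α an automorphism of G of order 2 such that the elements g·α(g)⁻¹ generate G. Let j be a positive integer such that 2^j divides the order of no element inverted by α. Then the set of values of the j-th iterate of the map c ↦ c·α(c)⁻¹ is exactly the set of elements of odd order inverted by α. -/
theorem result {G : Type*} [Group G] [Finite G] (α : MulAut G) (hα : orderOf α = 2) (hG : Subgroup.closure (Set.range (fun c : G => c * (α c)⁻¹)) = ⊤)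
    (j : ℕ) (hj : ∀ g : G, α g = g⁻¹ → ¬ 2 ^ j ∣ orderOf g) :
    Set.range ((fun c : G => c * (α c)⁻¹)^[j]) = {g : G | Odd (orderOf g) ∧ α g = g⁻¹} := by
  classical
  let φ : G → G := fun c => c * (α c)⁻¹
  have hαα : ∀ g, α (α g) = g := fun g => by
    have hp2 : α ^ 2 = 1 := orderOf_dvd_iff_pow_eq_one.mp (dvd_of_eq hα)
    have := DFunLike.congr_fun hp2 g
    simpa [pow_two, MulAut.mul_apply] using this
  have hinv : ∀ c, α (φ c) = (φ c)⁻¹ := fun c => by simp [φ, hαα]
  have hsq : ∀ g, α g = g⁻¹ → ∀ i, φ^[i] g = g ^ (2 ^ i) := by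
    intro g hg i
    induction i with
    | zero => simp
    | succ i ih =>
      rw [Function.iterate_succ_apply', ih]
      show g ^ 2 ^ i * (α (g ^ 2 ^ i))⁻¹ = _
      rw [map_pow, hg, inv_pow, inv_inv, ← pow_add, pow_succ, mul_two]
  rcases Nat.eq_zero_or_pos j with rfl | hj0
  · exact absurd (by simp) (hj 1 (by simp))
  ext y
  constructor
  · rintro ⟨c, rfl⟩
    obtain ⟨i, rfl⟩ : ∃ i, j = i + 1 := ⟨j - 1, by omega⟩
    show Odd (orderOf (φ^[i + 1] c)) ∧ α (φ^[i + 1] c) = (φ^[i + 1] c)⁻¹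
    rw [Function.iterate_succ_apply, hsq _ (hinv c)]
    refine ⟨?_, by rw [map_pow, hinv, inv_pow]⟩
    rw [← Nat.not_even_iff_odd, even_iff_two_dvd]
    intro h2
    set o := orderOf (φ c)
    have ho : o ≠ 0 := (orderOf_pos _).ne'
    obtain ⟨a, m, hm, hom⟩ := Nat.exists_eq_pow_mul_and_not_dvd ho 2 (by norm_num)
    have ha : a ≤ i := by
      by_contra h
      exact hj _ (hinv c) ((pow_dvd_pow 2 (by omega)).trans (Dvd.intro m hom.symm))
    have h1 : orderOf (φ c ^ 2 ^ i) ∣ m := by
      refine orderOf_dvd_of_pow_eq_one ?_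
      rw [← pow_mul]
      refine orderOf_dvd_iff_pow_eq_one.mp ?_
      exact hom.dvd.trans (mul_dvd_mul_right (pow_dvd_pow 2 ha) m)
    exact hm (h2.trans h1)
  · rintro ⟨hodd, hy⟩
    have hcop : (orderOf y).Coprime (2 ^ j) := Nat.Coprime.pow_right _ (Nat.coprime_two_right.mpr hodd)
    obtain ⟨m, hm⟩ := exists_pow_eq_self_of_coprime hcop.symm
    refine ⟨y ^ m, ?_⟩
    show φ^[j] (y ^ m) = y
    rw [hsq _ (by rw [map_pow, hy, inv_pow]), ← pow_mul, mul_comm, pow_mul]
    exact hm

end Cfsg.Agent.S3949
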