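import Cfsg.Statements.S3950
import Cfsg.Agent.Lib.StemExt.Basic
import Cfsg.Agent.Lib.StemExt.Bilinear

set_option autoImplicit false
open Cfsg

namespace Cfsg.Agent.S3950

/-- A finite abelian group has trivial Schur multiplier if and only if it is cyclic. -/
theorem result {G : Type*} [CommGroup G] [Finite G] : Cfsg.HasCyclicSchurMultiplier G 1 ↔ IsCyclic G := by
  constructor
  · intro h
    by_contra hc
    obtain ⟨p, hp, f, g, a, b, hfa, hfb, hga, hgb⟩ := CfsgLib.StemExt.exists_two_forms_of_not_isCyclic G hc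
    haveI := Fact.mk hp
    have h1 : CfsgLib.StemExt.prodForm f g (Additive.ofMul a) (Additive.ofMul b) -
        CfsgLib.StemExt.prodForm f g (Additive.ofMul b) (Additive.ofMul a) = 1 := by
      rw [CfsgLib.StemExt.prodForm_apply, CfsgLib.StemExt.prodForm_apply, hfa, hfb, hgb]
      simp
    have hk := CfsgLib.StemExt.ker_eq_bot_of_hasCyclicSchurMultiplier_one h _
      (CfsgLib.StemExt.BilExt.isStemExtension_proj a b h1)
    have hcard := CfsgLib.StemExt.BilExt.card_ker_proj (β := CfsgLib.StemExt.prodForm f g)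
    rw [hk, Subgroup.card_bot, Nat.card_zmod] at hcard
    exact hp.ne_one hcard.symm
  · intro hc
    obtain ⟨a, ha⟩ := hc.exists_generator
    refine CfsgLib.StemExt.hasCyclicSchurMultiplier_one fun Δ _ _ σ hσ => ?_
    obtain ⟨c, hc1, hc2⟩ := CfsgLib.StemExt.ker_cyclic_of_two_generated hσ a 1 (eq_top_iff.mpr fun x _ =>
      Subgroup.zpowers_le.mpr (Subgroup.subset_closure (Set.mem_insert a {1})) (ha x)) (pow_one 1)
    rw [eq_bot_iff]
    intro k hk
    obtain ⟨m, hm⟩ := Subgroup.mem_zpowers_iff.mp (hc2 ⟨k, hk⟩)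
    rw [pow_one] at hc1
    rw [hc1, one_zpow] at hm
    exact (congrArg Subtype.val hm).symm

end Cfsg.Agent.S3950
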