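import Cfsg.Statements.S3951
import Cfsg.Agent.Lib.StemExt.Basic
import Cfsg.Agent.Lib.StemExt.Bilinear

set_option autoImplicit false
open Cfsg

namespace Cfsg.Agent.S3951

/-- For positive integers `m` and `n` with `n` dividing `m`, the Schur multiplier of the abelian group `ZMod m × ZMod n` (written multiplicatively) is cyclic of order `n`. In particular the elementary abelian group of order `p ^ 2` has multiplier of order `p`. -/
theorem result (m n : ℕ) [NeZero m] [NeZero n] (hnm : n ∣ m) : Cfsg.HasCyclicSchurMultiplier (Multiplicative (ZMod m × ZMod n)) n := by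
  let β := CfsgLib.StemExt.prodForm (n := n)
    (A := Multiplicative (ZMod m × ZMod n))
    ((ZMod.castHom hnm (ZMod n)).toAddMonoidHom.comp (AddMonoidHom.fst (ZMod m) (ZMod n)))
    (AddMonoidHom.snd (ZMod m) (ZMod n))
  have h1 : β (Additive.ofMul (Multiplicative.ofAdd (1, 0))) (Additive.ofMul (Multiplicative.ofAdd (0, 1))) -
      β (Additive.ofMul (Multiplicative.ofAdd (0, 1))) (Additive.ofMul (Multiplicative.ofAdd (1, 0))) = 1 := by
    show ZMod.castHom hnm (ZMod n) 1 * 1 - ZMod.castHom hnm (ZMod n) 0 * 0 = 1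
    rw [map_one, map_zero]
    ring
  refine CfsgLib.StemExt.hasCyclicSchurMultiplier_of_cyclic (CfsgLib.StemExt.BilExt.proj β)
    (CfsgLib.StemExt.BilExt.isStemExtension_proj _ _ h1)
    (by rw [CfsgLib.StemExt.BilExt.card_ker_proj, Nat.card_zmod]) fun Δ _ _ σ hσ => ?_
  refine CfsgLib.StemExt.ker_cyclic_of_two_generated hσ (Multiplicative.ofAdd (1, 0))
    (Multiplicative.ofAdd (0, 1)) ?_ ?_
  · rw [eq_top_iff]
    rintro g -
    have hg : g = Multiplicative.ofAdd ((1, 0) : ZMod m × ZMod n) ^ (Multiplicative.toAdd g).1.val *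
        Multiplicative.ofAdd ((0, 1) : ZMod m × ZMod n) ^ (Multiplicative.toAdd g).2.val := by
      rw [← ofAdd_nsmul, ← ofAdd_nsmul, ← ofAdd_add]
      apply Multiplicative.toAdd.injective
      simp [Prod.ext_iff]
    rw [hg]
    exact Subgroup.mul_mem _ (Subgroup.pow_mem _ (Subgroup.subset_closure (by simp)) _)
      (Subgroup.pow_mem _ (Subgroup.subset_closure (by simp)) _)
  · rw [← ofAdd_nsmul]
    apply Multiplicative.toAdd.injective
    simp [Prod.ext_iff]

end Cfsg.Agent.S3951
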