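import Cfsg.Statements.S3952
import Cfsg.Agent.Lib.Char.Basic
import Cfsg.Agent.Lib.Char.Orth
import Cfsg.Agent.Lib.Char.Kernel
import Cfsg.Agent.Lib.Char.Central

set_option autoImplicit false
open Cfsg

namespace Cfsg.Agent.S3952

theorem sq_le_index {G : Type*} [Group G] [Finite G] {n : ℕ}
    (ρ : Representation ℂ G (Fin n → ℂ)) [ρ.IsIrreducible] :
    n ^ 2 ≤ (Subgroup.center G).index ∧
      ∀ z ∈ Subgroup.center G, ∃ c : ℂ, ρ z = c • LinearMap.id := by
  classical
  haveI : Fintype G := Fintype.ofFinite G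
  have hsc : ∀ z ∈ Subgroup.center G, ∃ c : ℂ, ρ z = c • LinearMap.id := fun z hz => by
    let T : Representation.IntertwiningMap ρ ρ := ⟨ρ z, fun y => by
      show ρ z * ρ y = ρ y * ρ z
      rw [← map_mul, ← map_mul, Subgroup.mem_center_iff.mp hz y]⟩
    obtain ⟨c, hc⟩ :=
      (Representation.IsIrreducible.algebraMap_intertwiningMap_bijective_of_isAlgClosed (ρ := ρ)).2 T
    refine ⟨c, ?_⟩
    refine (congrArg Representation.IntertwiningMap.toLinearMap hc).symm.trans ?_
    ext v; simp [Algebra.algebraMap_eq_smul_one]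
  refine ⟨?_, hsc⟩
  have h1 := CfsgLib.Char.classInner_irr_self (CfsgLib.Char.isIrrCharacter_character ρ)
  rw [Cfsg.classInner, inv_mul_eq_one₀ (Nat.cast_ne_zero.mpr Nat.card_pos.ne')] at h1
  have h2 : (∑ g : G, Complex.normSq (ρ.character g)) = (Nat.card G : ℝ) := by
    have h3 : ((∑ g : G, Complex.normSq (ρ.character g) : ℝ) : ℂ) = ((Nat.card G : ℝ) : ℂ) := by
      push_cast
      rw [h1]
      exact Finset.sum_congr rfl fun g _ => (Complex.mul_conj _).symm
    exact Complex.ofReal_injective h3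
  have h4 : ∀ z ∈ Subgroup.center G, Complex.normSq (ρ.character z) = (n : ℝ) ^ 2 := by
    intro z hz
    obtain ⟨c, hc⟩ := hsc z hz
    have hn : 0 < n := by
      have := CfsgLib.Char.finrank_pos_of_irreducible ρ
      rwa [Module.finrank_fin_fun] at this
    have hc1 : ‖c‖ = 1 := by
      refine Complex.norm_eq_one_of_pow_eq_one ?_ (orderOf_pos z).ne'
      have h5 : ρ z ^ orderOf z = 1 := by rw [← map_pow, pow_orderOf_eq_one, map_one]
      rw [hc, show c • (LinearMap.id : (Fin n → ℂ) →ₗ[ℂ] _) = c • 1 from rfl, smul_pow,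
        one_pow] at h5
      have h6 := congrFun (LinearMap.congr_fun h5 (fun _ => (1 : ℂ))) ⟨0, hn⟩
      simpa using h6
    have h7 : ρ.character z = c * n := by
      show LinearMap.trace ℂ _ (ρ z) = _
      rw [hc, map_smul, LinearMap.trace_id, Module.finrank_fin_fun, smul_eq_mul]
    rw [h7, Complex.normSq_mul, Complex.normSq_natCast, Complex.normSq_eq_norm_sq, hc1]
    ring
  have h5 : (Nat.card (Subgroup.center G) : ℝ) * (n : ℝ) ^ 2 ≤ (Nat.card G : ℝ) := by
    rw [← h2]
    calc (Nat.card (Subgroup.center G) : ℝ) * (n : ℝ) ^ 2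
        = ∑ g ∈ Finset.univ.filter (· ∈ Subgroup.center G), Complex.normSq (ρ.character g) := by
          rw [Finset.sum_congr rfl fun g hg => h4 g (Finset.mem_filter.mp hg).2, Finset.sum_const,
            nsmul_eq_mul, Nat.card_eq_fintype_card, Fintype.card_subtype]
      _ ≤ _ := Finset.sum_le_sum_of_subset_of_nonneg (Finset.subset_univ _)
          fun g _ _ => Complex.normSq_nonneg _
  have h6 : Nat.card (Subgroup.center G) * n ^ 2 ≤ Nat.card G := by exact_mod_cast h5
  rw [← (Subgroup.center G).card_mul_index] at h6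
  exact Nat.le_of_mul_le_mul_left h6 Nat.card_pos

/-- A central element of order `p ^ a` in the derived subgroup forces `|P : Z(P)| ≥ p ^ (2 a)`. -/
theorem pow_two_mul_le_index {P : Type*} [Group P] [Finite P] {p : ℕ} [Fact p.Prime]
    {z : P} {a : ℕ} (hzc : z ∈ Subgroup.center P) (hzd : z ∈ commutator P)
    (hz : orderOf z = p ^ (a + 1)) : p ^ (2 * (a + 1)) ≤ (Subgroup.center P).index := by
  have hw : z ^ p ^ a ≠ 1 := fun h => by
    have h1 := orderOf_dvd_of_pow_eq_one h
    rw [hz, Nat.pow_dvd_pow_iff_le_right (Fact.out : p.Prime).one_lt] at h1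
    omega
  obtain ⟨χ, hχ⟩ : ∃ χ : Cfsg.IrrCharacter P, (χ : P → ℂ) (z ^ p ^ a) ≠ (χ : P → ℂ) 1 := by
    by_contra hall
    push Not at hall
    exact hw (CfsgLib.Char.eq_one_of_forall_irr hall)
  obtain ⟨n, ρ, hρ, hρχ⟩ := χ.2
  haveI := hρ
  obtain ⟨hle, hsc⟩ := sq_le_index ρ
  obtain ⟨c, hc⟩ := hsc z hzc
  have hn : 0 < n := by
    have := CfsgLib.Char.finrank_pos_of_irreducible ρ
    rwa [Module.finrank_fin_fun] at this
  have hpow : ∀ m : ℕ, ρ (z ^ m) = c ^ m • (1 : (Fin n → ℂ) →ₗ[ℂ] (Fin n → ℂ)) := fun m => by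
    rw [map_pow, hc, show (LinearMap.id : (Fin n → ℂ) →ₗ[ℂ] (Fin n → ℂ)) = 1 from rfl, smul_pow,
      one_pow]
  have hca : c ^ p ^ a ≠ 1 := fun e => hχ (by
    rw [← hρχ]
    show LinearMap.trace ℂ _ (ρ (z ^ p ^ a)) = LinearMap.trace ℂ _ (ρ 1)
    rw [hpow, e, one_smul, map_one ρ])
  have hc1 : c ^ p ^ (a + 1) = 1 := by
    have h1 := hpow (p ^ (a + 1))
    rw [← hz, pow_orderOf_eq_one, map_one, hz] at h1
    have h2 := congrFun (LinearMap.congr_fun h1 (fun _ => (1 : ℂ))) ⟨0, hn⟩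
    simpa using h2.symm
  have hco : orderOf c = p ^ (a + 1) := orderOf_eq_prime_pow hca hc1
  let δ : P →* ℂˣ := ((LinearMap.det : Module.End ℂ (Fin n → ℂ) →* ℂ).comp ρ).toHomUnits
  have hdet : δ z = 1 := MonoidHom.mem_ker.mp (Abelianization.commutator_subset_ker δ hzd)
  have hcn : c ^ n = 1 := by
    have h1 : LinearMap.det (ρ z) = 1 := congrArg Units.val hdet
    rwa [hc, LinearMap.det_smul, LinearMap.det_id, mul_one, Module.finrank_fin_fun] at h1
  have hd : p ^ (a + 1) ≤ n := Nat.le_of_dvd hn (hco ▸ orderOf_dvd_of_pow_eq_one hcn)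
  calc p ^ (2 * (a + 1)) = (p ^ (a + 1)) ^ 2 := by rw [← pow_mul, mul_comm]
    _ ≤ n ^ 2 := Nat.pow_le_pow_left hd 2
    _ ≤ _ := hle


/-- If `A` is the Schur multiplier of the finite group `Q`, then the square of the exponent of `A` divides the order of `Q`. -/
theorem result {Q : Type*} [Group Q] [Finite Q] {A : Type*} [CommGroup A] (hA : Cfsg.HasSchurMultiplier Q A) : Monoid.exponent A ^ 2 ∣ Nat.card Q := by
  obtain ⟨Γ, hg, hf, σ, hσ, ⟨k⟩⟩ := hA.1
  haveI := hf
  haveI : Finite A := Finite.of_equiv _ k.toEquiv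
  obtain ⟨x, hx⟩ := Monoid.exists_orderOf_eq_exponent (Monoid.ExponentExists.of_finite (G := A))
  rw [← hx]
  have key : ∀ p a : ℕ, p.Prime → p ^ a ∣ orderOf x → p ^ (2 * a) ∣ Nat.card Q := by
    intro p a hp hdvd
    haveI := Fact.mk hp
    rcases a with _ | a
    · simp
    set y := x ^ (orderOf x / p ^ (a + 1)) with hy
    have hyo : orderOf y = p ^ (a + 1) :=
      orderOf_pow_orderOf_div (orderOf_pos x).ne' hdvd
    set z : Γ := ((k.symm y : σ.ker) : Γ) with hzdef
    have hzo : orderOf z = p ^ (a + 1) := by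
      rw [hzdef, Subgroup.orderOf_coe, k.symm.orderOf_eq, hyo]
    have hzc : z ∈ Subgroup.center Γ := hσ.2.1 (k.symm y).2
    have hzd : z ∈ commutator Γ := hσ.2.2 (k.symm y).2
    obtain ⟨P, hP⟩ := (IsPGroup.of_card (p := p) (n := a + 1)
      (by rw [Nat.card_zpowers, hzo] : Nat.card (Subgroup.zpowers z) = p ^ (a + 1))).exists_le_sylow
    have hzP : z ∈ (P : Subgroup Γ) := hP (Subgroup.mem_zpowers z)
    set z' : (P : Subgroup Γ) := ⟨z, hzP⟩
    have hz'o : orderOf z' = p ^ (a + 1) := by rw [← Subgroup.orderOf_coe, hzo]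
    have hz'c : z' ∈ Subgroup.center (P : Subgroup Γ) := Subgroup.mem_center_iff.mpr fun u =>
      Subtype.ext (Subgroup.mem_center_iff.mp hzc u)
    have hz'd : z' ∈ commutator (P : Subgroup Γ) := by
      let ϕ : (P : Subgroup Γ) →* Abelianization (P : Subgroup Γ) := Abelianization.of
      have h1 : MonoidHom.transfer ϕ z = 1 :=
        MonoidHom.mem_ker.mp (Abelianization.commutator_subset_ker (MonoidHom.transfer ϕ) hzd)
      rw [MonoidHom.transfer_eq_pow ϕ z (fun m g₀ _ => by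
        rw [mul_assoc, ← Subgroup.mem_center_iff.mp (Subgroup.pow_mem _ hzc m) g₀,
          inv_mul_cancel_left])] at h1
      have h2 : z' ^ (P : Subgroup Γ).index ∈ commutator (P : Subgroup Γ) := by
        rw [← Abelianization.ker_of]
        refine MonoidHom.mem_ker.mpr (Eq.trans ?_ h1)
        exact congrArg ϕ (Subtype.ext rfl)
      have hco : (orderOf z').Coprime (P : Subgroup Γ).index := by
        rw [hz'o]
        exact (hp.coprime_iff_not_dvd.mpr P.not_dvd_index).pow_left _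
      obtain ⟨m, hm⟩ := exists_pow_eq_self_of_coprime hco.symm
      rw [← hm]
      exact Subgroup.pow_mem _ h2 m
    have h1 := pow_two_mul_le_index hz'c hz'd hz'o
    obtain ⟨i, hi⟩ := IsPGroup.iff_card.mp P.isPGroup'
    obtain ⟨j, -, hj⟩ := (Nat.dvd_prime_pow hp).mp
      ((Subgroup.index_dvd_card (Subgroup.center (P : Subgroup Γ))).trans hi.dvd)
    rw [hj, Nat.pow_le_pow_iff_right hp.one_lt] at h1
    refine ((pow_dvd_pow p h1).trans hj.symm.dvd).trans ?_
    set f := σ.comp (P : Subgroup Γ).subtype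
    have hfle : f.ker ≤ Subgroup.center (P : Subgroup Γ) := fun u hu =>
      Subgroup.mem_center_iff.mpr fun v => Subtype.ext
        (Subgroup.mem_center_iff.mp (hσ.2.1 (show (u : Γ) ∈ σ.ker from hu)) v)
    refine (Subgroup.index_dvd_of_le hfle).trans ?_
    rw [Subgroup.index_ker]
    exact Subgroup.card_subgroup_dvd_card _
  rw [Nat.dvd_iff_prime_pow_dvd_dvd]
  intro p m hp hpm
  haveI := Fact.mk hp
  obtain ⟨a, r, hr, hord⟩ := Nat.exists_eq_pow_mul_and_not_dvd (orderOf_pos x).ne' p hp.ne_one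
  refine (?_ : p ^ m ∣ p ^ (2 * a)).trans (key p a hp (Dvd.intro r hord.symm))
  rw [hord, mul_pow, ← pow_mul, mul_comm a] at hpm
  exact ((Nat.Coprime.pow_right 2 (hp.coprime_iff_not_dvd.mpr hr)).pow_left m).dvd_of_dvd_mul_right hpm

end Cfsg.Agent.S3952
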