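import Cfsg.Statements.S3958
import Cfsg.Agent.Lib.Schur.Hopf
import Cfsg.Agent.Lib.Schur.Cover

set_option autoImplicit false
universe u v
open Cfsg

namespace Cfsg.Agent.S3958

/-- Let `σ : Γ →* Q` be a finite stem extension of the finite group `Q` with `Γ` of trivial Schur multiplier. Then `σ` is a Schur covering group of `Q`: for every finite stem extension `τ : Δ →* Q` with `Δ` in the same universe as `Q`, the kernel of `τ` is a homomorphic image of the kernel of `σ`. -/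
theorem result {Q : Type u} [Group Q] [Finite Q] {Γ : Type v} [Group Γ] [Finite Γ] (σ : Γ →* Q) (hσ : Cfsg.IsStemExtension σ) (hΓ : Cfsg.HasCyclicSchurMultiplier Γ 1) (Δ : Type u) [Group Δ] [Finite Δ] (τ : Δ →* Q) (hτ : Cfsg.IsStemExtension τ) : ∃ π : σ.ker →* τ.ker, Function.Surjective π := by
  have hπ := CfsgLib.Schur.std_surjective Q
  obtain ⟨φ, hφ, hs, ψ, hψ, hψe⟩ := CfsgLib.Schur.exists_stem_lift hπ hσ
  let π' : FreeGroup Q →* Γ := φ.comp (QuotientGroup.mk' (CfsgLib.Schur.rel (CfsgLib.Schur.std Q)))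
  have hπ' : Function.Surjective π' := hs.comp (QuotientGroup.mk'_surjective _)
  have hbot := CfsgLib.Schur.mult_eq_bot hπ' hΓ
  have hle : π'.ker ≤ (CfsgLib.Schur.std Q).ker := fun f hf => by
    rw [MonoidHom.mem_ker, ← CfsgLib.Schur.proj_mk, ← hφ, MonoidHom.comp_apply]
    exact (congrArg σ hf).trans (map_one σ)
  have hinj : Function.Injective ψ := (injective_iff_map_eq_one ψ).mpr fun m hm => by
    obtain ⟨f, hf⟩ := QuotientGroup.mk'_surjective _ (m : CfsgLib.Schur.Ext (CfsgLib.Schur.std Q))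
    have h1 : φ m = 1 := (hψe m).symm.trans (congrArg Subtype.val hm)
    have hfk : f ∈ π'.ker := by
      rw [MonoidHom.mem_ker, MonoidHom.comp_apply, hf, h1]
    have hfc : f ∈ commutator (FreeGroup Q) :=
      (CfsgLib.Schur.mk_mem_commutator_iff _ f).mp (hf ▸ CfsgLib.Schur.mult_le_commutator _ m.2)
    have h2 : QuotientGroup.mk' (CfsgLib.Schur.rel π') f ∈ CfsgLib.Schur.mult π' :=
      ⟨hfk, (CfsgLib.Schur.mk_mem_commutator_iff π' f).mpr hfc⟩
    rw [hbot, Subgroup.mem_bot, ← MonoidHom.mem_ker, QuotientGroup.ker_mk'] at h2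
    refine Subtype.ext ?_
    rw [← hf]
    exact (QuotientGroup.eq_one_iff f).mpr (Subgroup.commutator_mono hle le_rfl h2)
  obtain ⟨-, -, -, χ, hχ, -⟩ := CfsgLib.Schur.exists_stem_lift hπ hτ
  exact ⟨χ.comp (MulEquiv.ofBijective ψ ⟨hinj, hψ⟩).symm.toMonoidHom,
    hχ.comp (MulEquiv.ofBijective ψ ⟨hinj, hψ⟩).symm.surjective⟩

end Cfsg.Agent.S3958
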