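import Cfsg.Statements.S3960
import Cfsg.Agent.Lib.Schur.Hopf
import Cfsg.Agent.Lib.Schur.Cover
-- import your own Cfsg.Agent.* helpers here

set_option autoImplicit false
universe u
open Cfsg
open scoped commutatorElement

namespace Cfsg.Agent.S3960

/-- A finite perfect group `Q` has a universal central extension: a finite perfect group `G` in the universe of `Q` and a surjective homomorphism `π : G →* Q` with central kernel such that for every group `X` in that universe and every surjective homomorphism `ξ : X →* Q` with central kernel there is exactly one homomorphism `η : G →* X` with `ξ ∘ η = π`. -/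
theorem result {Q : Type u} [Group Q] [Finite Q] (hQ : Group.IsPerfect Q) : ∃ (G : Type u) (_ : Group G) (_ : Finite G) (π : G →* Q), Group.IsPerfect G ∧ Function.Surjective π ∧ π.ker ≤ Subgroup.center G ∧ ∀ (X : Type u) [Group X] (ξ : X →* Q), Function.Surjective ξ → ξ.ker ≤ Subgroup.center X → ∃! η : G →* X, ξ.comp η = π := by
  have hQ' : commutator Q = ⊤ := hQ.commutator_eq_top
  set E := CfsgLib.Schur.Ext (CfsgLib.Schur.std Q)
  set p : E →* Q := CfsgLib.Schur.proj (CfsgLib.Schur.std Q)
  have hps : Function.Surjective p := CfsgLib.Schur.proj_surjective (CfsgLib.Schur.std_surjective Q)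
  have hpc : p.ker ≤ Subgroup.center E := CfsgLib.Schur.ker_proj_le_center _
  haveI : Finite (commutator E) := CfsgLib.Schur.finite_commutator_of_finite p hpc
  have hdec : ∀ x : E, ∃ g ∈ commutator E, p x = p g := fun x => by
    have h : p x ∈ (commutator E).map p := by
      rw [commutator_def, Subgroup.map_commutator, Subgroup.map_top_of_surjective p hps, ← commutator_def, hQ']
      exact Subgroup.mem_top _
    obtain ⟨g, hg, hg'⟩ := h
    exact ⟨g, hg, hg'.symm⟩
  have hperf : Group.IsPerfect (commutator E) := by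
    refine ⟨eq_top_iff.mpr ?_⟩
    rintro ⟨g, hg⟩ -
    have h : commutator E ≤ (commutator (commutator E)).map (commutator E).subtype := by
      refine (commutator_eq_closure E).trans_le ((Subgroup.closure_le _).mpr ?_)
      rintro _ ⟨a, b, rfl⟩
      obtain ⟨a', ha, hpa⟩ := hdec a
      obtain ⟨b', hb, hpb⟩ := hdec b
      rw [CfsgLib.Schur.commutatorElement_congr p hpc hpa hpb]
      exact ⟨⁅(⟨a', ha⟩ : commutator E), ⟨b', hb⟩⁆,
        Subgroup.commutator_mem_commutator (Subgroup.mem_top _) (Subgroup.mem_top _), rfl⟩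
    obtain ⟨g', hg', e⟩ := h hg
    obtain rfl : g' = ⟨g, hg⟩ := Subtype.ext e
    exact hg'
  refine ⟨commutator E, inferInstance, inferInstance, p.comp (commutator E).subtype, hperf,
    fun q => ?_, fun z hz => ?_, fun X _ ξ hξ hξc => ?_⟩
  · obtain ⟨x, rfl⟩ := hps q
    obtain ⟨g, hg, e⟩ := hdec x
    exact ⟨⟨g, hg⟩, e.symm⟩
  · exact Subgroup.mem_center_iff.mpr fun y =>
      Subtype.ext (Subgroup.mem_center_iff.mp (hpc (MonoidHom.mem_ker.mp hz : p z = 1)) y)
  · obtain ⟨φ, hφ⟩ := CfsgLib.Schur.exists_lift_over (CfsgLib.Schur.std Q) ξ hξ hξc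
    refine ⟨φ.comp (commutator E).subtype, ?_, fun η hη => ?_⟩
    · show ξ.comp (φ.comp (commutator E).subtype) = p.comp (commutator E).subtype
      rw [← MonoidHom.comp_assoc, hφ]
    · refine MonoidHom.ext fun g => ?_
      refine CfsgLib.Schur.eq_on_commutator ξ hξc η (φ.comp (commutator E).subtype) (fun x => ?_)
        (hperf.commutator_eq_top ▸ Subgroup.mem_top g)
      show ξ (η x) = ξ (φ (x : E))
      rw [← MonoidHom.comp_apply ξ η, hη, ← MonoidHom.comp_apply ξ φ, hφ]
      rfl

end Cfsg.Agent.S3960
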