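import Cfsg.Statements.S3962
-- Mathlib only

set_option autoImplicit false
open Cfsg

namespace Cfsg.Agent.S3962

/-- Let `G` be a perfect group and `π : G →* Q` a surjective homomorphism whose kernel is central. Then `π` maps the centre of `G` onto the centre of `Q`. Taking `π` to be the map to `G ⧸ Z(G)` shows that the central quotient of a perfect group has trivial centre. -/
theorem result {G Q : Type*} [Group G] [Group Q] (hG : Group.IsPerfect G) (π : G →* Q) (hπ : Function.Surjective π) (hker : π.ker ≤ Subgroup.center G) : (Subgroup.center G).map π = Subgroup.center Q := by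
  apply le_antisymm
  · rintro _ ⟨c, hc, rfl⟩
    rw [Subgroup.mem_center_iff]
    intro q
    obtain ⟨g, rfl⟩ := hπ q
    rw [← map_mul, ← map_mul, Subgroup.mem_center_iff.mp hc g]
  · intro q hq
    obtain ⟨g, rfl⟩ := hπ q
    refine ⟨g, ?_, rfl⟩
    have hmem : ∀ x : G, g * x * g⁻¹ * x⁻¹ ∈ π.ker := fun x => by
      rw [MonoidHom.mem_ker, map_mul, map_mul, map_mul, map_inv, map_inv,
        ← Subgroup.mem_center_iff.mp hq (π x)]
      group
    let f : G →* Subgroup.center G :=
      { toFun := fun x => ⟨g * x * g⁻¹ * x⁻¹, hker (hmem x)⟩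
        map_one' := by ext; simp
        map_mul' := fun a b => by
          apply Subtype.ext
          show g * (a * b) * g⁻¹ * (a * b)⁻¹ = g * a * g⁻¹ * a⁻¹ * (g * b * g⁻¹ * b⁻¹)
          have hb := Subgroup.mem_center_iff.mp (hker (hmem b))
          calc g * (a * b) * g⁻¹ * (a * b)⁻¹ = g * a * g⁻¹ * (g * b * g⁻¹ * b⁻¹) * a⁻¹ := by group
            _ = g * a * g⁻¹ * (a⁻¹ * (g * b * g⁻¹ * b⁻¹)) := by rw [hb a⁻¹]; group
            _ = g * a * g⁻¹ * a⁻¹ * (g * b * g⁻¹ * b⁻¹) := by group }
    have hle : commutator G ≤ f.ker := by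
      rw [commutator_eq_closure, Subgroup.closure_le]
      rintro _ ⟨a, b, rfl⟩
      rw [SetLike.mem_coe, MonoidHom.mem_ker, map_commutatorElement, commutatorElement_eq_one_iff_mul_comm]
      exact Subtype.ext (Subgroup.mem_center_iff.mp (f b).2 (f a : G))
    rw [hG.commutator_eq_top] at hle
    rw [SetLike.mem_coe, Subgroup.mem_center_iff]
    intro x
    have := congrArg Subtype.val (MonoidHom.mem_ker.mp (hle (Subgroup.mem_top x)))
    have h1 : g * x * g⁻¹ * x⁻¹ = 1 := this
    rw [mul_inv_eq_one, mul_inv_eq_iff_eq_mul] at h1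
    exact h1.symm

end Cfsg.Agent.S3962
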