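import Cfsg.Statements.S3963
import Cfsg.Agent.Lib.StemExt.Basic

set_option autoImplicit false
open Cfsg

namespace Cfsg.Agent.S3963

/-- For every `n ≥ 1` the dicyclic (generalized quaternion) group of order `4 n` has trivial Schur multiplier. -/
theorem result (n : ℕ) [NeZero n] : Cfsg.HasCyclicSchurMultiplier (QuaternionGroup n) 1 := by
  refine CfsgLib.StemExt.hasCyclicSchurMultiplier_one fun Δ _ _ σ hσ => ?_
  obtain ⟨hsurj, hker, hstem⟩ := hσ
  obtain ⟨x, hx⟩ := hsurj (QuaternionGroup.a 1)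
  obtain ⟨y, hy⟩ := hsurj (QuaternionGroup.xa 0)
  have hgen : Subgroup.closure {σ x, σ y} = ⊤ := by
    rw [hx, hy, eq_top_iff]
    rintro g -
    have ha : ∀ i : ZMod (2 * n), QuaternionGroup.a i ∈
        Subgroup.closure {QuaternionGroup.a (1 : ZMod (2 * n)), QuaternionGroup.xa 0} := by
      intro i
      have h := Subgroup.pow_mem _ (Subgroup.subset_closure (Set.mem_insert
        (QuaternionGroup.a (1 : ZMod (2 * n))) {QuaternionGroup.xa 0})) i.val
      rwa [QuaternionGroup.a_one_pow, ZMod.natCast_zmod_val] at h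
    match g with
    | .a i => exact ha i
    | .xa i =>
      have h := Subgroup.mul_mem _ (Subgroup.subset_closure (Set.mem_insert_of_mem
        (QuaternionGroup.a (1 : ZMod (2 * n))) (Set.mem_singleton (QuaternionGroup.xa 0)))) (ha i)
      rwa [QuaternionGroup.xa_mul_a, zero_add] at h
  set z := x * (y * x * y⁻¹) with hzdef
  have hz : z ∈ σ.ker := by
    rw [MonoidHom.mem_ker, hzdef, map_mul, map_mul, map_mul, map_inv, hx, hy,
      ← mul_assoc, mul_inv_eq_one, QuaternionGroup.xa_mul_a, QuaternionGroup.a_mul_xa]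
    simp
  have hconj : y * x * y⁻¹ = x⁻¹ * z := by rw [hzdef]; group
  have hy2 : (x ^ n)⁻¹ * y ^ 2 ∈ σ.ker := by
    rw [MonoidHom.mem_ker, map_mul, map_inv, map_pow, map_pow, hx, hy, QuaternionGroup.xa_sq,
      QuaternionGroup.a_one_pow, inv_mul_cancel]
  have hfix : y * x ^ n * y⁻¹ = x ^ n := by
    have hc := Subgroup.mem_center_iff.mp (hker hy2) y
    have e : y * ((x ^ n)⁻¹ * y ^ 2) = (x ^ n)⁻¹ * y ^ 2 * y := hc
    have e2 : y * (x ^ n)⁻¹ = (x ^ n)⁻¹ * y := by
      calc y * (x ^ n)⁻¹ = y * ((x ^ n)⁻¹ * y ^ 2) * (y ^ 2)⁻¹ := by group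
        _ = (x ^ n)⁻¹ * y ^ 2 * y * (y ^ 2)⁻¹ := by rw [e]
        _ = (x ^ n)⁻¹ * y := by group
    calc y * x ^ n * y⁻¹ = x ^ n * ((x ^ n)⁻¹ * y) * x ^ n * y⁻¹ := by group
      _ = x ^ n * (y * (x ^ n)⁻¹) * x ^ n * y⁻¹ := by rw [e2]
      _ = x ^ n := by group
  obtain ⟨hcom, hpow⟩ := CfsgLib.StemExt.inverting_pair_bound hker hgen hz hconj hfix
  have hσw : σ (x * x * z⁻¹) = (QuaternionGroup.a 1 : QuaternionGroup n) ^ 2 := by
    rw [map_mul, map_inv, MonoidHom.mem_ker.mp hz, map_mul, hx, inv_one, mul_one, sq]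
  have hle := CfsgLib.StemExt.ker_generated_of_le_zpowers (hstem.trans hcom) n (fun k hk => by
    have hk' : ((QuaternionGroup.a 1 : QuaternionGroup n) ^ 2) ^ k = 1 := by
      rw [← hσw, ← map_zpow]; exact hk
    rw [← orderOf_dvd_iff_zpow_eq_one] at hk'
    have ho : orderOf ((QuaternionGroup.a 1 : QuaternionGroup n) ^ 2) = n := by
      rw [orderOf_pow' _ two_ne_zero, QuaternionGroup.orderOf_a_one]
      simp
    rwa [ho] at hk')
  rw [hpow, Subgroup.zpowers_one_eq_bot] at hle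
  exact le_bot_iff.mp hle

end Cfsg.Agent.S3963
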