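import Cfsg.Statements.S3964
import Cfsg.Agent.Lib.StemExt.Basic
import Cfsg.Agent.Lib.StemExt.Dihedral

set_option autoImplicit false
open Cfsg

namespace Cfsg.Agent.S3964

/-- For odd `n` the dihedral group of order `2 n` has trivial Schur multiplier. -/
theorem result (n : ℕ) (hn : Odd n) : Cfsg.HasCyclicSchurMultiplier (DihedralGroup n) 1 := by
  haveI : NeZero n := ⟨Nat.pos_iff_ne_zero.mp hn.pos⟩
  refine CfsgLib.StemExt.hasCyclicSchurMultiplier_one fun Δ _ _ σ hσ => ?_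
  obtain ⟨hsurj, hker, hstem⟩ := hσ
  obtain ⟨x, hx⟩ := hsurj (DihedralGroup.r 1)
  obtain ⟨y, hy⟩ := hsurj (DihedralGroup.sr 0)
  obtain ⟨z, hz, hconj, hfix, hgen⟩ := CfsgLib.StemExt.dihedral_lifts hker hx hy
  obtain ⟨hcom, hpow⟩ := CfsgLib.StemExt.inverting_pair_bound hker hgen hz hconj hfix
  have hσw : σ (x * x * z⁻¹) = (DihedralGroup.r 1 : DihedralGroup n) ^ 2 := by
    rw [map_mul, map_inv, MonoidHom.mem_ker.mp hz, map_mul, hx, inv_one, mul_one, sq]
  have hle := CfsgLib.StemExt.ker_generated_of_le_zpowers (hstem.trans hcom) n (fun k hk => by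
    have hk' : ((DihedralGroup.r 1 : DihedralGroup n) ^ 2) ^ k = 1 := by
      rw [← hσw, ← map_zpow]; exact hk
    rw [← orderOf_dvd_iff_zpow_eq_one] at hk'
    have ho : orderOf ((DihedralGroup.r 1 : DihedralGroup n) ^ 2) = n := by
      rw [orderOf_pow' _ two_ne_zero, DihedralGroup.orderOf_r_one, Nat.Coprime.gcd_eq_one, Nat.div_one]
      exact Nat.coprime_two_right.mpr hn
    rwa [ho] at hk')
  rw [hpow, Subgroup.zpowers_one_eq_bot] at hle
  exact le_bot_iff.mp hle

end Cfsg.Agent.S3964
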