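import Cfsg.Statements.S3965
import Cfsg.Agent.Lib.StemExt.Basic
import Cfsg.Agent.Lib.StemExt.Dihedral

set_option autoImplicit false
open Cfsg

namespace Cfsg.Agent.S3965

/-- For even `n ≥ 2` the dihedral group of order `2 n` has Schur multiplier cyclic of order `2`. -/
theorem result (n : ℕ) [NeZero n] (hn : Even n) : Cfsg.HasCyclicSchurMultiplier (DihedralGroup n) 2 := by
  refine CfsgLib.StemExt.hasCyclicSchurMultiplier_of_cyclic (CfsgLib.StemExt.quaternionToDihedral n)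
    (CfsgLib.StemExt.quaternionToDihedral_isStem n hn) (CfsgLib.StemExt.quaternionToDihedral_card_ker n)
    fun Δ _ _ σ hσ => ?_
  obtain ⟨hsurj, hker, hstem⟩ := hσ
  obtain ⟨x, hx⟩ := hsurj (DihedralGroup.r 1)
  obtain ⟨y, hy⟩ := hsurj (DihedralGroup.sr 0)
  obtain ⟨z, hz, hconj, hfix, hgen⟩ := CfsgLib.StemExt.dihedral_lifts hker hx hy
  obtain ⟨hcom, hpow⟩ := CfsgLib.StemExt.inverting_pair_bound hker hgen hz hconj hfix
  have hσw : σ (x * x * z⁻¹) = (DihedralGroup.r 1 : DihedralGroup n) ^ 2 := by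
    rw [map_mul, map_inv, MonoidHom.mem_ker.mp hz, map_mul, hx, inv_one, mul_one, sq]
  obtain ⟨m, hm⟩ := hn
  have hn2 : n = 2 * m := by omega
  have ho : orderOf ((DihedralGroup.r 1 : DihedralGroup n) ^ 2) = m := by
    rw [orderOf_pow' _ two_ne_zero, DihedralGroup.orderOf_r_one, hn2, Nat.gcd_eq_right ⟨m, rfl⟩]
    omega
  have hle := CfsgLib.StemExt.ker_generated_of_le_zpowers (hstem.trans hcom) m (fun k hk => by
    have hk' : ((DihedralGroup.r 1 : DihedralGroup n) ^ 2) ^ k = 1 := by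
      rw [← hσw, ← map_zpow]; exact hk
    rw [← orderOf_dvd_iff_zpow_eq_one, ho] at hk'
    exact hk')
  have hv : (x * x * z⁻¹) ^ m ∈ σ.ker := by
    rw [MonoidHom.mem_ker, map_pow, hσw]
    exact orderOf_dvd_iff_pow_eq_one.mp (ho ▸ dvd_rfl)
  refine ⟨⟨_, hv⟩, ?_, fun k => ?_⟩
  · apply Subtype.ext
    show ((x * x * z⁻¹) ^ m) ^ 2 = 1
    rw [← pow_mul, mul_comm m 2, ← hn2, hpow]
  · obtain ⟨i, hi⟩ := Subgroup.mem_zpowers_iff.mp (hle k.2)
    exact ⟨i, Subtype.ext hi⟩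

end Cfsg.Agent.S3965
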