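import Cfsg.Statements.S3968
import Cfsg.Agent.Lib.Char.Burnside

set_option autoImplicit false
open Cfsg CfsgLib.Char

namespace Cfsg.Agent.S3968

/-- Let `p` be a prime and `G` a finite group with a faithful irreducible complex character of degree `p` (so `G` is an irreducible linear group in `p` variables). If `p ^ 2` divides the order of `G`, then the centre of `G` is nontrivial. -/
theorem result {G : Type*} [Group G] [Finite G] (p : ℕ) (hp : p.Prime) (χ : Cfsg.IrrCharacter G) (hdeg : χ.1 1 = p) (hfaith : ∀ g : G, χ.1 g = χ.1 1 → g = 1) (hdiv : p ^ 2 ∣ Nat.card G) : Subgroup.center G ≠ ⊥ := by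
  classical
  have := Fact.mk hp
  intro hZ
  obtain ⟨n, ρ, hρ, hc⟩ := χ.2
  have hn : n = p := by
    have h := hdeg
    rw [← hc, Representation.char_one, Module.finrank_fin_fun] at h
    exact_mod_cast h
  subst hn
  have hinj : ∀ g : G, ρ g = 1 → g = 1 := by
    intro g hg
    refine hfaith g ?_
    rw [← hc]
    show LinearMap.trace ℂ _ (ρ g) = LinearMap.trace ℂ _ (ρ 1)
    rw [hg, map_one ρ]
  have hinj2 : ∀ g h : G, ρ g = ρ h → g = h := by
    intro g h e
    have : ρ (h⁻¹ * g) = 1 := by rw [map_mul, e, ← map_mul, inv_mul_cancel, map_one]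
    exact (inv_mul_eq_one.mp (hinj _ this)).symm
  let P : Sylow n G := default
  have hPdvd : n ^ 2 ∣ Nat.card P := P.pow_dvd_card_of_pow_dvd_card hdiv
  have hPne : (P : Subgroup G) ≠ ⊥ := by
    intro e
    rw [e, Subgroup.card_bot] at hPdvd
    have := Nat.le_of_dvd one_pos hPdvd
    nlinarith [hp.two_le]
  have hnt : Nontrivial P := (Subgroup.nontrivial_iff_ne_bot _).mpr hPne
  have hzero : ∀ z : G, z ∈ (P : Subgroup G) → (∀ y ∈ (P : Subgroup G), y * z = z * y) → z ≠ 1 →
      ρ.character z = 0 := by
    intro z hzP hz hz1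
    have hle : (P : Subgroup G) ≤ Subgroup.centralizer ({z} : Set G) := fun y hy =>
      Subgroup.mem_centralizer_singleton_iff.mpr (hz y hy)
    have hcop : Nat.Coprime (Module.finrank ℂ (Fin n → ℂ))
        (Subgroup.centralizer ({z} : Set G)).index := by
      rw [Module.finrank_fin_fun, hp.coprime_iff_not_dvd]
      exact fun h => P.not_dvd_index (h.trans (Subgroup.index_dvd_of_le hle))
    rcases burnside_zero_or_scalar ρ z hcop with h | h
    · exact h
    · exfalso
      obtain ⟨ω, hω⟩ := (norm_character_eq_iff ρ z).mp h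
      have hc : z ∈ Subgroup.center G := Subgroup.mem_center_iff.mpr fun g => by
        apply hinj2
        rw [map_mul, map_mul, hω]
        ext v
        simp
      rw [hZ] at hc
      exact hz1 (Subgroup.mem_bot.mp hc)
  -- an element of order `n` in the centre of `P`
  have hcn : Nontrivial (Subgroup.center P) := P.2.center_nontrivial
  obtain ⟨z0, hz0⟩ := exists_prime_orderOf_dvd_card' n
    (show n ∣ Nat.card (Subgroup.center P) by
      obtain ⟨m, hm⟩ := IsPGroup.iff_card.mp (P.2.to_subgroup (Subgroup.center P))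
      rcases Nat.eq_zero_or_pos m with hm0 | hm0
      · rw [hm0, pow_zero] at hm
        have := Finite.one_lt_card (α := Subgroup.center P)
        omega
      · rw [hm]; exact dvd_pow_self n (by omega))
  set z : G := ((z0 : P) : G) with hzdef
  have hzord : orderOf z = n := by
    rw [hzdef, Subgroup.orderOf_coe, Subgroup.orderOf_coe, hz0]
  have hzc : ∀ y ∈ (P : Subgroup G), y * z = z * y := fun y hy =>
    congrArg Subtype.val (Subgroup.mem_center_iff.mp z0.2 ⟨y, hy⟩)
  obtain ⟨b, μ, hμ, hb⟩ := exists_eigenBasis ρ z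
  have hn' : Module.finrank ℂ (Fin n → ℂ) = n := Module.finrank_fin_fun ℂ
  rw [hzord] at hμ
  have hsum : ∀ k : ℕ, ¬ n ∣ k → ∑ i, μ i ^ k = 0 := by
    intro k hk
    have e := trace_eq_sum_of_diag b (ρ (z ^ k)) (fun i => μ i ^ k) fun i => hb i k
    rw [← e]
    refine hzero _ (pow_mem (z0 : P).2 k) (fun y hy => (Commute.pow_right (hzc y hy) k).eq) ?_
    intro h
    exact hk (hzord ▸ orderOf_dvd_of_pow_eq_one h)
  have hμinj : Function.Injective μ := by
    intro i j hij
    have hj0 : μ j ≠ 0 := fun h => by
      have := hμ j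
      rw [h, zero_pow hp.ne_zero] at this
      exact zero_ne_one this
    -- double counting of `∑ k, ∑ l, (μ l / μ j) ^ k`
    have h1 : ∑ k ∈ Finset.range n, ∑ l, (μ l / μ j) ^ k = (n : ℂ) := by
      rw [Finset.sum_eq_single 0]
      · simp [hn']
      · intro k hk hk0
        have hnk : ¬ n ∣ k := fun h =>
          hk0 (Nat.eq_zero_of_dvd_of_lt h (Finset.mem_range.mp hk))
        simp_rw [div_pow, ← Finset.sum_div, hsum k hnk, zero_div]
      · intro h; exact absurd (Finset.mem_range.mpr hp.pos) h
    have h2 : ∀ l, ∑ k ∈ Finset.range n, (μ l / μ j) ^ k = if μ l = μ j then (n : ℂ) else 0 := by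
      intro l
      split_ifs with h
      · simp [h, hj0]
      · rw [geom_sum_eq (by rwa [ne_eq, div_eq_one_iff_eq hj0]), div_pow, hμ, hμ]
        simp
    rw [Finset.sum_comm] at h1
    simp_rw [h2] at h1
    rw [Finset.sum_ite, Finset.sum_const_zero, add_zero, Finset.sum_const, nsmul_eq_mul] at h1
    have h3 : (Finset.univ.filter fun l => μ l = μ j).card = 1 := by
      have : ((Finset.univ.filter fun l => μ l = μ j).card : ℂ) = 1 :=
        mul_right_cancel₀ (Nat.cast_ne_zero.mpr hp.ne_zero) (h1.trans (one_mul _).symm)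
      exact_mod_cast this
    exact Finset.card_le_one.mp h3.le i (by simp [hij]) j (by simp)
  have hdiag : ∀ y ∈ (P : Subgroup G), ∀ i, ρ y (b i) = b.repr (ρ y (b i)) i • b i := by
    intro y hy i
    have e : ρ z (ρ y (b i)) = μ i • ρ y (b i) := by
      have h := hb i 1
      rw [pow_one, pow_one] at h
      rw [← Module.End.mul_apply, ← map_mul, ← hzc y hy, map_mul, Module.End.mul_apply, h, map_smul]
    conv_lhs => rw [← b.sum_repr (ρ y (b i))]
    rw [Finset.sum_eq_single i]
    · intro l _ hl
      have e2 : ∀ v, b.repr (ρ z v) l = μ l * b.repr v l := by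
        intro v
        conv_lhs => rw [← b.sum_repr v]
        rw [map_sum, map_sum]
        have h := fun m => hb m 1
        simp only [pow_one] at h
        simp [h, Finsupp.single_apply, mul_comm]
      have e3 := congrArg (fun v => b.repr v l) e
      simp only [e2, map_smul, Finsupp.smul_apply, smul_eq_mul] at e3
      rcases eq_or_ne (b.repr (ρ y (b i)) l) 0 with h0 | h0
      · rw [h0, zero_smul]
      · exact absurd (hμinj (mul_right_cancel₀ h0 e3)) hl
    · simp
  have hab : ∀ x y : P, x * y = y * x := by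
    intro x y
    apply Subtype.ext
    apply hinj2
    push_cast
    rw [map_mul, map_mul]
    refine b.ext fun i => ?_
    have ex := hdiag _ x.2 i
    have ey := hdiag _ y.2 i
    generalize b.repr (ρ x (b i)) i = cx at ex
    generalize b.repr (ρ y (b i)) i = cy at ey
    rw [Module.End.mul_apply, Module.End.mul_apply, ey, map_smul, ex, map_smul, ey, smul_smul,
      smul_smul, mul_comm]
  -- `P` abelian: the character vanishes off the identity, so `|P|` divides the degree
  have hvan : ∀ y : P, y ≠ 1 → ρ.character (y : G) = 0 := fun y hy =>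
    hzero _ y.2 (fun w hw => congrArg Subtype.val (hab ⟨w, hw⟩ y)) (fun h => hy (Subtype.ext h))
  let σ : Representation ℂ P (Fin n → ℂ) := ρ.comp (P : Subgroup G).subtype
  have hfin := Fintype.ofFinite P
  have hc0 : (Nat.card P : ℂ) ≠ 0 := Nat.cast_ne_zero.mpr Nat.card_pos.ne'
  haveI : Invertible (Nat.card P : ℂ) := invertibleOfNonzero hc0
  have hav := Representation.card_inv_mul_sum_char_eq_finrank σ
  rw [show (∑ g : P, σ.character g) = (n : ℂ) by
    refine (Fintype.sum_eq_single (1 : P) fun y hy => (hvan y hy : σ.character y = 0)).trans ?_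
    rw [Subgroup.coe_one, Representation.char_one, Module.finrank_fin_fun]] at hav
  set d := Module.finrank ℂ σ.invariants
  have hd : Nat.card P * d = n := by
    have : (Nat.card P : ℂ) * (d : ℂ) = (n : ℂ) := by rw [← hav, ← mul_assoc, mul_inv_cancel₀ hc0, one_mul]
    exact_mod_cast this
  have : n ^ 2 ∣ n := hPdvd.trans (Dvd.intro d hd)
  have := Nat.le_of_dvd hp.pos this
  nlinarith [hp.two_le]

end Cfsg.Agent.S3968
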