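import Cfsg.Statements.S3969
import Cfsg.Agent.Lib.PGroup.CoprimeAut
import Cfsg.Agent.Lib.Transfer.Basic

set_option autoImplicit false
open Cfsg

namespace Cfsg.Agent.S3969

/-- Let `P` be an abelian Sylow `p`-subgroup of the finite group `G`, generated by `d` elements (`d` its minimal number of generators). If the order of `G` is coprime to `(p - 1)(p ^ 2 - 1) ⋯ (p ^ d - 1)`, then `G` has a normal `p`-complement. (The classical statement needs only the largest number of cyclic factors of `P` of equal order in place of `d`; the form here follows from it.) -/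
theorem result {G : Type*} [Group G] [Finite G] (p : ℕ) [Fact p.Prime] (P : Sylow p G) (hab : IsMulCommutative (P : Subgroup G)) (hcop : Nat.Coprime (Nat.card G) (∏ i ∈ Finset.Icc 1 (Group.rank (P : Subgroup G)), (p ^ i - 1))) : Cfsg.HasNormalPComplement p G := by
  classical
  have hp : p.Prime := Fact.out
  refine CfsgLib.Transfer.hasNormalPComplement_of_normalizer_le_centralizer P fun g hg => ?_
  set N := Subgroup.normalizer ((P : Subgroup G) : Set G) with hN
  set ι := (P : Subgroup G).normalizerMonoidHom with hι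
  obtain ⟨S, hScard, hS⟩ := Group.rank_spec (P : Subgroup G)
  have hidx : (frattini (P : Subgroup G)).index ≤ p ^ Group.rank (P : Subgroup G) :=
    hScard ▸ CfsgLib.PGroup.frattini_index_le P.2 S hS
  have hPN : (P : Subgroup G) ≤ N := Subgroup.le_normalizer
  have hker : (P : Subgroup G).subgroupOf N ≤ ι.ker := fun x hx => by
    rw [MonoidHom.mem_ker]
    refine MulEquiv.ext fun y => Subtype.ext ?_
    show (x : G) * y * (x : G)⁻¹ = y
    have hxy : (x : G) * y = y * x := congrArg Subtype.val
      (hab.is_comm.comm (⟨x, hx⟩ : (P : Subgroup G)) y)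
    rw [hxy, mul_inv_cancel_right]
  have hidxN : ¬ p ∣ ((P : Subgroup G).subgroupOf N).index := by
    intro hd
    exact P.not_dvd_index (hd.trans ((Subgroup.relIndex_mul_index hPN) ▸ dvd_mul_right _ _))
  have hrange : (Nat.card ι.range).Coprime p := by
    rw [← Subgroup.index_ker]
    exact ((hp.coprime_iff_not_dvd.mpr hidxN).symm).coprime_dvd_left (Subgroup.index_dvd_of_le hker)
  have hφ : ι ⟨g, hg⟩ = 1 := by
    refine CfsgLib.PGroup.eq_one_of_coprime P.2 hidx _ ?_ fun i hi hir => ?_
    · exact hrange.coprime_dvd_left (Subgroup.orderOf_dvd_natCard ι.range (MonoidHom.mem_range.mpr ⟨⟨g, hg⟩, rfl⟩))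
    · have h1 : (orderOf (ι ⟨g, hg⟩)) ∣ Nat.card G :=
        (Subgroup.orderOf_dvd_natCard ι.range (MonoidHom.mem_range.mpr ⟨⟨g, hg⟩, rfl⟩)).trans
          ((Subgroup.card_range_dvd ι).trans (Subgroup.card_subgroup_dvd_card N))
      exact (hcop.coprime_dvd_left h1).coprime_dvd_right
        (Finset.dvd_prod_of_mem (fun i => p ^ i - 1) (Finset.mem_Icc.mpr ⟨hi, hir⟩))
  rw [Subgroup.mem_centralizer_iff]
  intro y hy
  have h2 : g * y * g⁻¹ = y := congrArg (fun e : MulAut (P : Subgroup G) => ((e ⟨y, hy⟩ : (P : Subgroup G)) : G)) hφ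
  exact (mul_inv_eq_iff_eq_mul.mp h2).symm

end Cfsg.Agent.S3969
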