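import Cfsg.Statements.S3970
import Cfsg.Agent.Lib.Transfer.Basic
import Cfsg.Agent.Lib.PGroup.CoprimeAut
-- import your own Cfsg.Agent.* helpers here

set_option autoImplicit false
open Cfsg

namespace Cfsg.Agent.S3970

/-- An element normalizing an abelian Sylow subgroup with at most two generators for the smallest
prime centralizes it, unless the order is divisible by twelve. -/
theorem normalizer_le {G : Type*} [Group G] [Finite G] {p : ℕ} [Fact p.Prime] (P : Sylow p G)
    (hmin : ∀ q : ℕ, q.Prime → q ∣ Nat.card G → p ≤ q) (hab : IsMulCommutative (P : Subgroup G))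
    (hrk : Group.rank (P : Subgroup G) ≤ 2) (h12 : ¬ 12 ∣ Nat.card G) :
    Subgroup.normalizer ((P : Subgroup G) : Set G) ≤ Subgroup.centralizer ((P : Subgroup G) : Set G) := by
  have hp : p.Prime := Fact.out
  obtain ⟨S, hS, hSgen⟩ := Group.rank_spec (P : Subgroup G)
  have hidx : (frattini (P : Subgroup G)).index ≤ p ^ 2 :=
    (CfsgLib.PGroup.frattini_index_le P.2 S hSgen).trans
      (Nat.pow_le_pow_right hp.pos (hS ▸ hrk))
  intro g hg
  set K := Subgroup.normalizer ((P : Subgroup G) : Set G)
  set ρ := (P : Subgroup G).normalizerMonoidHom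
  -- it suffices that the coprime part of `g` centralizes
  obtain ⟨a, m, hm, hgo, hcop, hpm⟩ :=
    CfsgLib.Transfer.exists_pow_coprime_part (p := p) (⟨g, hg⟩ : K)
  set u : K := ⟨g, hg⟩ with hu
  have hρker : ∀ v : K, ρ v = 1 → (v : G) ∈ Subgroup.centralizer ((P : Subgroup G) : Set G) := by
    intro v hv
    have : v ∈ ρ.ker := hv
    rw [Subgroup.normalizerMonoidHom_ker] at this
    exact this
  have hpart : ρ (u ^ m) = 1 := by
    have hvP : ((u ^ m : K) : G) ∈ (P : Subgroup G) := by
      have hH : IsPGroup p ↥(Subgroup.zpowers ((u ^ m : K) : G) ⊔ (P : Subgroup G)) :=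
        (IsPGroup.of_card (n := a) (by rw [Nat.card_zpowers, Subgroup.orderOf_coe, hpm])
          ).to_sup_of_normal_right' P.2 (Subgroup.zpowers_le.mpr (u ^ m).2)
      exact (P.is_maximal' hH le_sup_right).le (Subgroup.mem_sup_left (Subgroup.mem_zpowers _))
    refine MulEquiv.ext fun y => Subtype.ext ?_
    show ((u ^ m : K) : G) * (y : G) * ((u ^ m : K) : G)⁻¹ = y
    have h2 : (u ^ m : K).1 * (y : G) = y * (u ^ m : K).1 :=
      congrArg Subtype.val (hab.is_comm.comm ⟨_, hvP⟩ y)
    rw [h2, mul_inv_cancel_right]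
  set φ := ρ (u ^ p ^ a) with hφ
  have hφd : orderOf φ ∣ orderOf (u ^ p ^ a) := orderOf_map_dvd ρ _
  have hφG : orderOf φ ∣ Nat.card G :=
    hφd.trans (by rw [← Subgroup.orderOf_coe]; exact orderOf_dvd_natCard _)
  have hφcop : (orderOf φ).Coprime p := Nat.Coprime.coprime_dvd_left hφd hcop
  have hbig : ∀ q : ℕ, q.Prime → q ∣ orderOf φ → p < q := by
    intro q hq hqd
    rcases (hmin q hq (hqd.trans hφG)).lt_or_eq with h | h
    · exact h
    · exact absurd (hqd : q ∣ orderOf φ) (fun hd => hp.ne_one
        (Nat.eq_one_of_dvd_coprimes hφcop (h ▸ hd) dvd_rfl))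
  have hφ1 : φ = 1 := by
    by_cases h23 : p = 2 ∧ 3 ∣ Nat.card G
    · obtain ⟨rfl, h3⟩ := h23
      have h4 : ¬ 2 ^ 2 ∣ Nat.card G := fun h4 =>
        h12 (Nat.Coprime.mul_dvd_of_dvd_of_dvd (by norm_num : Nat.Coprime (2 ^ 2) 3) h4 h3)
      obtain ⟨e, he⟩ := P.2.exists_card_eq
      have he1 : e ≤ 1 := by
        by_contra hlt
        exact h4 ((pow_dvd_pow 2 (by omega : 2 ≤ e)).trans (he ▸ Subgroup.card_subgroup_dvd_card _))
      refine CfsgLib.PGroup.eq_one_of_coprime P.2 (r := 1) ?_ φ hφcop fun i hi1 hi2 => ?_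
      · calc (frattini (P : Subgroup G)).index ≤ Nat.card (P : Subgroup G) :=
              Nat.le_of_dvd Nat.card_pos (Subgroup.index_dvd_card _)
          _ ≤ 2 ^ 1 := he ▸ Nat.pow_le_pow_right (by norm_num) he1
      · rw [show i = 1 by omega]
        norm_num
    · refine CfsgLib.PGroup.eq_one_of_coprime P.2 hidx φ hφcop fun i hi1 hi2 => ?_
      refine Nat.coprime_of_dvd fun q hq hqd hqi => ?_
      have hpq := hbig q hq hqd
      have hp2 := hp.two_le
      rcases (show i = 1 ∨ i = 2 by omega) with rfl | rfl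
      · rw [pow_one] at hqi
        have := Nat.le_of_dvd (by omega) hqi
        omega
      · have hfac : p ^ 2 - 1 = (p + 1) * (p - 1) := by
          have := Nat.sq_sub_sq p 1
          simpa using this
        rw [hfac] at hqi
        rcases hq.dvd_mul.mp hqi with h | h
        · have hle := Nat.le_of_dvd (by omega) h
          have hq1 : q = p + 1 := by omega
          refine h23 ⟨?_, ?_⟩
          · by_contra hne
            have hodd : p % 2 = 1 := hp.eq_two_or_odd.resolve_left hne
            have := hq.eq_two_or_odd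
            omega
          · have hp' : p = 2 := by
              by_contra hne
              have hodd : p % 2 = 1 := hp.eq_two_or_odd.resolve_left hne
              have := hq.eq_two_or_odd
              omega
            have hq3 : q = 3 := by omega
            exact hq3 ▸ hqd.trans hφG
        · have := Nat.le_of_dvd (by omega) h
          omega
  -- combine the two parts
  have hcop' : Nat.Coprime m (p ^ a) := ((hp.coprime_iff_not_dvd.mpr hm).symm).pow_right a
  have key := Nat.gcd_eq_gcd_ab m (p ^ a)
  rw [hcop'.gcd_eq_one] at key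
  have hsplit : u = (u ^ m) ^ Nat.gcdA m (p ^ a) * (u ^ p ^ a) ^ Nat.gcdB m (p ^ a) := by
    rw [← zpow_natCast u m, ← zpow_natCast u (p ^ a), ← zpow_mul, ← zpow_mul, ← zpow_add, ← key]
    simp
  have : ρ u = 1 := by
    rw [hsplit, map_mul, map_zpow, map_zpow, hpart, ← hφ, hφ1, one_zpow, one_zpow, one_mul]
  exact hρker u this

theorem main {G : Type*} [Group G] [Finite G]
    (h : ∀ p : ℕ, p.Prime → p ∣ Nat.card G → (∃ q : ℕ, q.Prime ∧ q ∣ Nat.card G ∧ p < q) →
      ∀ P : Sylow p G, IsMulCommutative (P : Subgroup G) ∧ Group.rank (P : Subgroup G) ≤ 2)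
    (h12 : ¬ 12 ∣ Nat.card G) : Group.IsSolvable G := by
  suffices H : ∀ n : ℕ, ∀ K : Subgroup G, Nat.card K = n →
      (∀ p : ℕ, p.Prime → p ∣ Nat.card K → (∃ q : ℕ, q.Prime ∧ q ∣ Nat.card K ∧ p < q) →
        ∀ P : Sylow p K, IsMulCommutative (P : Subgroup K) ∧ Group.rank (P : Subgroup K) ≤ 2) →
      Group.IsSolvable K by
    haveI := H _ ⊤ rfl fun p hp hpK hq P => by
      rw [Subgroup.card_top] at hpK hq
      let e : (⊤ : Subgroup G) ≃* G := Subgroup.topEquiv
      haveI := Fact.mk hp
      let Q : Sylow p G := P.mapSurjective (f := e.toMonoidHom) e.surjective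
      let i : (P : Subgroup (⊤ : Subgroup G)) ≃* (Q : Subgroup G) :=
        (P : Subgroup (⊤ : Subgroup G)).equivMapOfInjective e.toMonoidHom e.injective
      obtain ⟨h1, h2⟩ := h p hp hpK hq Q
      refine ⟨⟨⟨fun u v => i.injective ?_⟩⟩, (Group.rank_congr i).le.trans h2⟩
      rw [map_mul, map_mul]
      exact h1.is_comm.comm _ _
    exact solvable_of_surjective (f := (Subgroup.topEquiv : (⊤ : Subgroup G) ≃* G).toMonoidHom)
      Subgroup.topEquiv.surjective
  intro n
  induction n using Nat.strong_induction_on with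
  | _ n ih =>
  intro K hn hK
  by_cases h1 : n = 1
  · haveI := (Nat.card_eq_one_iff_unique.mp (hn.trans h1)).1
    infer_instance
  set p := n.minFac
  have hp : p.Prime := Nat.minFac_prime h1
  haveI := Fact.mk hp
  by_cases hlarge : ∃ q : ℕ, q.Prime ∧ q ∣ Nat.card K ∧ p < q
  swap
  · push Not at hlarge
    obtain ⟨P⟩ := (inferInstance : Nonempty (Sylow p K))
    have hPK : IsPGroup p K := by
      refine IsPGroup.iff_card.mpr ⟨n.factorization p, ?_⟩
      rw [hn]
      refine (Nat.eq_pow_of_factorization_eq_single (by rw [← hn]; exact Nat.card_pos.ne') ?_)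
      ext q
      by_cases hqp : q = p
      · rw [hqp, Finsupp.single_eq_same]
      · rw [Finsupp.single_eq_of_ne hqp]
        by_cases hq : q.Prime
        · refine Nat.factorization_eq_zero_of_not_dvd fun hqn => hqp ?_
          exact le_antisymm (hlarge q hq (hn.symm ▸ hqn)) (Nat.minFac_le_of_dvd hq.two_le hqn)
        · exact Nat.factorization_eq_zero_of_not_prime n hq
    haveI := hPK.isNilpotent
    infer_instance
  obtain ⟨P⟩ := (inferInstance : Nonempty (Sylow p K))
  have hpK : p ∣ Nat.card K := hn ▸ Nat.minFac_dvd n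
  obtain ⟨hab, hrk⟩ := hK p hp hpK hlarge P
  have hnc : Cfsg.HasNormalPComplement p K :=
    CfsgLib.Transfer.hasNormalPComplement_of_normalizer_le_centralizer P
      (normalizer_le P (fun q hq hqK => Nat.minFac_le_of_dvd hq.two_le (hn ▸ hqK)) hab hrk
        fun h => h12 (h.trans (Subgroup.card_subgroup_dvd_card K)))
  obtain ⟨Q, N, hNn, hNQ⟩ := hnc
  haveI := hNn
  have hNcop := CfsgLib.Transfer.coprime_card_of_isComplement' hNQ
  have hNlt : Nat.card N < n := by
    rw [← hn, ← Subgroup.card_mul_index N]
    refine lt_mul_of_one_lt_right Nat.card_pos ?_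
    by_contra hle
    have hi : N.index = 1 := le_antisymm (not_lt.mp hle) (Nat.pos_of_ne_zero Subgroup.index_ne_zero_of_finite)
    rw [← Subgroup.card_mul_index N, hi, mul_one] at hpK
    exact hp.ne_one (Nat.eq_one_of_dvd_coprimes hNcop hpK dvd_rfl)
  set N' : Subgroup G := N.map K.subtype with hN'
  let j : N ≃* N' := N.equivMapOfInjective K.subtype (Subgroup.subtype_injective K)
  have hcardN : Nat.card N' = Nat.card N := (Nat.card_congr j.toEquiv).symm
  haveI := ih _ hNlt N' hcardN fun r hr hrN hq R => by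
    haveI := Fact.mk hr
    rw [hcardN] at hrN hq
    have hdvd : Nat.card N ∣ Nat.card K := Subgroup.card_subgroup_dvd_card N
    obtain ⟨q, hq, hqN, hrq⟩ := hq
    have hrp : r ≠ p := fun e => hp.ne_one
      (Nat.eq_one_of_dvd_coprimes hNcop (e ▸ hrN) dvd_rfl)
    -- carry `R` into `K`
    let f : N' →* K := N.subtype.comp j.symm.toMonoidHom
    have hf : Function.Injective f :=
      (Subgroup.subtype_injective N).comp j.symm.injective
    have hcardR : Nat.card ((R : Subgroup N').map f) = r ^ (Nat.card K).factorization r := by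
      rw [Subgroup.card_map_of_injective hf, R.card_eq_multiplicity, hcardN,
        ← Subgroup.card_mul_index N, hNQ.symm.index_eq_card]
      rw [Nat.factorization_mul Nat.card_pos.ne' Nat.card_pos.ne']
      obtain ⟨e, he⟩ := Q.2.exists_card_eq
      simp [he, hp.factorization_pow, Finsupp.single_eq_of_ne hrp]
    let Q' : Sylow r K := Sylow.ofCard ((R : Subgroup N').map f) hcardR
    obtain ⟨h1', h2'⟩ := hK r hr (hrN.trans hdvd) ⟨q, hq, hqN.trans hdvd, hrq⟩ Q'
    let i : (R : Subgroup N') ≃* (Q' : Subgroup K) :=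
      (R : Subgroup N').equivMapOfInjective f hf
    refine ⟨⟨⟨fun u v => i.injective ?_⟩⟩, (Group.rank_congr i).le.trans h2'⟩
    rw [map_mul, map_mul]
    exact h1'.is_comm.comm _ _
  haveI : Group.IsSolvable N :=
    solvable_of_surjective (f := j.symm.toMonoidHom) j.symm.surjective
  haveI : Group.IsSolvable (K ⧸ N) := by
    haveI := (CfsgLib.Transfer.isPGroup_quotient_of_isComplement' hNQ).isNilpotent
    infer_instance
  exact solvable_of_ker_le_range N.subtype (QuotientGroup.mk' N) (by simp)

/-- Let `G` be a finite group such that for every prime `p` dividing its order, other than the largest such prime, the Sylow `p`-subgroups are abelian and generated by at most two elements, and suppose `12` does not divide the order of `G`. Then `G` is solvable. In particular a group of cube-free order not divisible by `12` is solvable. -/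
theorem result {G : Type*} [Group G] [Finite G] (h : ∀ p : ℕ, p.Prime → p ∣ Nat.card G → (∃ q : ℕ, q.Prime ∧ q ∣ Nat.card G ∧ p < q) → ∀ P : Sylow p G, IsMulCommutative (P : Subgroup G) ∧ Group.rank (P : Subgroup G) ≤ 2) (h12 : ¬ 12 ∣ Nat.card G) : Group.IsSolvable G := by
  exact main h h12

end Cfsg.Agent.S3970
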