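import Cfsg.Statements.S3971
import Cfsg.Agent.Lib.PGroup.CoprimeAut
import Cfsg.Agent.Lib.Transfer.Frobenius

set_option autoImplicit false
open Cfsg

namespace Cfsg.Agent.S3971

/-- Let `G` be a finite group of order `2 ^ a * n` with `n` odd and not divisible by `3`, and suppose `G` has an element of order `2 ^ (a - 1)` (so a Sylow `2`-subgroup has a cyclic subgroup of index at most `2`). Then `G` has a normal subgroup of order `n`. -/
theorem result {G : Type*} [Group G] [Finite G] (a n : ℕ) (hG : Nat.card G = 2 ^ a * n) (hn : Odd n) (h3 : ¬ 3 ∣ n) (hx : ∃ x : G, orderOf x = 2 ^ (a - 1)) : ∃ N : Subgroup G, N.Normal ∧ Nat.card N = n := by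
  classical
  haveI : Fact (Nat.Prime 2) := ⟨Nat.prime_two⟩
  obtain ⟨x, hx⟩ := hx
  obtain ⟨P, hxP⟩ := (IsPGroup.of_card (p := 2) (n := a - 1)
    (by rw [Nat.card_zpowers, hx] : Nat.card (Subgroup.zpowers x) = 2 ^ (a - 1))).exists_le_sylow
  have hPc : Nat.card (P : Subgroup G) = 2 ^ a := by
    have hn2 : ¬ 2 ∣ n := fun h => (Nat.not_even_iff_odd.mpr hn) (even_iff_two_dvd.mpr h)
    rw [P.card_eq_multiplicity, hG, Nat.factorization_mul (by positivity) (by rintro rfl; exact hn2 (dvd_zero 2))]
    simp [Nat.prime_two.factorization_self, Nat.factorization_eq_zero_of_not_dvd hn2]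
  have hpa : CfsgLib.Transfer.PAutomizers 2 G := by
    refine CfsgLib.Transfer.pAutomizers_of_sylow P fun Q hQP g hg hgc => ?_
    set φ := Q.normalizerMonoidHom ⟨g, hg⟩ with hφdef
    have hod : orderOf φ ∣ orderOf g := by
      have h1 := orderOf_map_dvd Q.normalizerMonoidHom ⟨g, hg⟩
      rwa [← Subgroup.orderOf_coe (⟨g, hg⟩ : Subgroup.normalizer (Q : Set G))] at h1
    have hQ : IsPGroup 2 Q := P.2.to_le hQP
    set C := (Subgroup.zpowers x).subgroupOf Q with hC
    have hCc : IsCyclic C := by
      exact isCyclic_of_injective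
        (((Q.subtype.comp C.subtype).codRestrict (Subgroup.zpowers x) fun w => w.2))
        (fun u v h => Subtype.ext (Subtype.ext (congrArg Subtype.val h :)))
    have hCi : C.index ≤ 2 := by
      show (Subgroup.zpowers x).relIndex Q ≤ 2
      have h1 : (Subgroup.zpowers x).relIndex (P : Subgroup G) ≤ 2 := by
        have h2 := Subgroup.relIndex_mul_relIndex ⊥ (Subgroup.zpowers x) (P : Subgroup G) bot_le hxP
        rw [Subgroup.relIndex_bot_left, Subgroup.relIndex_bot_left, Nat.card_zpowers, hx, hPc] at h2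
        by_contra hgt
        have h3 : 2 ^ (a - 1) * 3 ≤ 2 ^ a := h2 ▸ Nat.mul_le_mul_left _ (by omega)
        have h4 : 2 ^ a ≤ 2 ^ (a - 1) * 2 := by
          rw [← pow_succ]; exact Nat.pow_le_pow_right two_pos (by omega)
        have := Nat.two_pow_pos (a - 1)
        omega
      refine (Subgroup.relIndex_le_of_le_right hQP ?_).trans h1
      exact Subgroup.index_ne_zero_of_finite
    obtain ⟨c, hc⟩ := hCc.exists_generator
    obtain ⟨e, he⟩ : ∃ e : Q, Subgroup.closure ({(c : Q), e} : Set Q) = ⊤ := by
      have hCle : ∀ w ∈ C, ∀ e : Q, w ∈ Subgroup.closure ({(c : Q), e} : Set Q) := fun w hw e => by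
        obtain ⟨k, hk⟩ := Subgroup.mem_zpowers_iff.mp (hc ⟨w, hw⟩)
        have := congrArg Subtype.val hk
        rw [Subgroup.coe_zpow] at this
        rw [← show (c : Q) ^ k = w from this]
        exact zpow_mem (Subgroup.subset_closure (Set.mem_insert _ _)) k
      by_cases hall : ∀ w : Q, w ∈ C
      · exact ⟨1, eq_top_iff.mpr fun w _ => hCle w (hall w) 1⟩
      · push Not at hall
        obtain ⟨e, he⟩ := hall
        refine ⟨e, eq_top_iff.mpr fun w _ => ?_⟩
        have hi2 : C.index = 2 := by
          have h5 : C.index ≠ 1 := fun h => he ((Subgroup.index_eq_one.mp h).ge (Subgroup.mem_top e))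
          have h6 : C.index ≠ 0 := Subgroup.index_ne_zero_of_finite
          omega
        by_cases hw : w ∈ C
        · exact hCle w hw e
        · have h7 : w * e⁻¹ ∈ C := (Subgroup.mul_mem_iff_of_index_two hi2).mpr (iff_of_false hw
            (fun h => he (inv_mem_iff.mp h)))
          have h8 : e ∈ Subgroup.closure ({(c : Q), e} : Set Q) :=
            Subgroup.subset_closure (Set.mem_insert_of_mem _ rfl)
          simpa using mul_mem (hCle _ h7 e) h8
    have hidx : (frattini Q).index ≤ 2 ^ 2 := by
      refine le_trans (CfsgLib.PGroup.frattini_index_le hQ {(c : Q), e} (by simpa using he))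
        (Nat.pow_le_pow_right two_pos ?_)
      exact (Finset.card_insert_le _ _).trans (by simp)
    have hφ : φ = 1 := by
      refine CfsgLib.PGroup.eq_one_of_coprime hQ hidx φ (hgc.coprime_dvd_left hod) fun i hi hi2 => ?_
      have hg3 : (orderOf g).Coprime 3 := by
        refine (Nat.prime_three.coprime_iff_not_dvd.mpr fun h => ?_).symm
        have h9 : 3 ∣ 2 ^ a * n := hG ▸ h.trans (orderOf_dvd_natCard g)
        rcases Nat.prime_three.dvd_mul.mp h9 with h10 | h10
        · have := Nat.prime_three.dvd_of_dvd_pow h10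
          omega
        · exact h3 h10
      rcases (show i = 1 ∨ i = 2 by omega) with rfl | rfl
      · simp
      · norm_num
        exact hg3.coprime_dvd_left hod
    rw [Subgroup.mem_centralizer_iff]
    intro y hy
    have h2 : g * y * g⁻¹ = y := congrArg (fun u : MulAut Q => ((u ⟨y, hy⟩ : Q) : G)) hφ
    exact (mul_inv_eq_iff_eq_mul.mp h2).symm
  obtain ⟨N, hN, hc⟩ := (CfsgLib.Transfer.hasNormalPComplement_iff_forall_sylow P).mp
    (CfsgLib.Transfer.hasNormalPComplement_of_pAutomizers hpa)
  refine ⟨N, hN, ?_⟩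
  have h := hc.card_mul
  rw [hPc, hG, mul_comm (2 ^ a) n] at h
  exact Nat.eq_of_mul_eq_mul_right (Nat.two_pow_pos a) h

end Cfsg.Agent.S3971
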