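import Cfsg.Statements.S3974
import Cfsg.Agent.Lib.Schur.Hopf
import Cfsg.Agent.Lib.Schur.Cover
import Cfsg.Agent.Lib.Schur.Unique

set_option autoImplicit false
universe u v
open Cfsg

namespace Cfsg.Agent.S3974

/-- Let `Q` be a finite group with Schur multiplier `A`. Any two Schur covering groups of `Q` (finite stem extensions `σ₁ : Γ₁ →* Q`, `σ₂ : Γ₂ →* Q` with kernels isomorphic to `A`, `Γ₁, Γ₂` in the universe of `Q`) are isomorphic over `Q` — there is a group isomorphism `e : Γ₁ ≃* Γ₂` with `σ₂ ∘ e = σ₁` — if and only if the order of the commutator quotient of `Q` is coprime to the order of `A`. In particular a finite perfect group has a unique Schur covering group up to isomorphism over it. -/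
theorem result {Q : Type u} [Group Q] [Finite Q] {A : Type v} [CommGroup A] (hA : Cfsg.HasSchurMultiplier Q A) : (∀ (Γ₁ Γ₂ : Type u) [Group Γ₁] [Finite Γ₁] [Group Γ₂] [Finite Γ₂] (σ₁ : Γ₁ →* Q) (σ₂ : Γ₂ →* Q), Cfsg.IsStemExtension σ₁ → Cfsg.IsStemExtension σ₂ → Nonempty (σ₁.ker ≃* A) → Nonempty (σ₂.ker ≃* A) → ∃ e : Γ₁ ≃* Γ₂, σ₂.comp e.toMonoidHom = σ₁) ↔ Nat.Coprime (Nat.card (Abelianization Q)) (Nat.card A) := by
  have hπ := CfsgLib.Schur.std_surjective Q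
  obtain ⟨e⟩ := CfsgLib.Schur.mult_equiv hπ hA
  have hAc := Nat.card_congr e.toEquiv
  constructor
  · intro h
    rw [hAc]
    refine CfsgLib.Schur.coprime_of_cover_unique hπ fun S₁ S₂ _ _ h₁ h₂ i₁ i₂ s₁ s₂ => ?_
    obtain ⟨hσ₁, hf₁, e₁, -⟩ := CfsgLib.Schur.exists_cover _ hπ S₁ h₁ i₁ s₁
    obtain ⟨hσ₂, hf₂, e₂, -⟩ := CfsgLib.Schur.exists_cover _ hπ S₂ h₂ i₂ s₂
    haveI := hf₁
    haveI := hf₂
    exact h _ _ _ _ hσ₁ hσ₂ ⟨e₁.symm.trans e.symm⟩ ⟨e₂.symm.trans e.symm⟩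
  · intro hcop Γ₁ Γ₂ _ _ _ _ σ₁ σ₂ h₁ h₂ ⟨k₁⟩ ⟨k₂⟩
    exact CfsgLib.Schur.cover_unique_of_coprime hπ h₁ h₂
      ((Nat.card_congr k₁.toEquiv).trans hAc).symm ((Nat.card_congr k₂.toEquiv).trans hAc).symm
      (by rwa [Nat.card_congr k₂.toEquiv])

end Cfsg.Agent.S3974
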