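import Cfsg.Statements.S3978
import Cfsg.Agent.Lib.Schur.Hopf
import Cfsg.Agent.Lib.Schur.Cover
import Cfsg.Agent.Lib.StemExt.Basic

set_option autoImplicit false
open Cfsg

namespace Cfsg.Agent.S3978

/-- A finite group `Q` has trivial Schur multiplier if and only if, for every `n`, every homomorphism from `Q` to the projective general linear group (the quotient of `GL n ℂ` by its centre) lifts to a homomorphism into `GL n ℂ`. -/
theorem result {Q : Type*} [Group Q] [Finite Q] : Cfsg.HasCyclicSchurMultiplier Q 1 ↔ ∀ (n : ℕ) (γ : Q →* (GL (Fin n) ℂ ⧸ Subgroup.center (GL (Fin n) ℂ))), ∃ ρ : Q →* GL (Fin n) ℂ, (QuotientGroup.mk' (Subgroup.center (GL (Fin n) ℂ))).comp ρ = γ := by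
  have hπ := CfsgLib.Schur.std_surjective Q
  have hid : Cfsg.IsStemExtension (MonoidHom.id Q) :=
    ⟨Function.surjective_id, by simp [MonoidHom.ker_id], by simp [MonoidHom.ker_id]⟩
  constructor
  · intro h n γ
    obtain ⟨ρ, hρ⟩ := CfsgLib.Schur.exists_lift_projective hπ hid
      (by rw [CfsgLib.Schur.mult_eq_bot hπ h, Subgroup.card_bot]; exact Nat.card_pos) n γ
    exact ⟨ρ, by rw [hρ]; rfl⟩
  · intro h
    refine CfsgLib.StemExt.hasCyclicSchurMultiplier_one fun Δ _ _ τ hτ => ?_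
    obtain ⟨φ, hφ, -, ψ, hψ, hψe⟩ := CfsgLib.Schur.exists_stem_lift hπ hτ
    rw [eq_bot_iff]
    intro d hd
    obtain ⟨m, hm⟩ := hψ ⟨d, hd⟩
    obtain ⟨φ', hφ', -, -⟩ := CfsgLib.Schur.exists_stem_lift hπ hid
    have h1 := CfsgLib.Schur.injOn_mult_of_lifts hπ (fun n γ => by
      obtain ⟨ρ, hρ⟩ := h n γ
      exact ⟨ρ, by rw [hρ]; rfl⟩) φ' hφ' m m.2 (by
        have := DFunLike.congr_fun hφ' (m : CfsgLib.Schur.Ext _)
        exact this.trans (CfsgLib.Schur.mult_le_ker _ m.2))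
    rw [Subgroup.mem_bot, show d = φ (m : CfsgLib.Schur.Ext _) from (congrArg Subtype.val hm).symm.trans (hψe m), h1, map_one]

end Cfsg.Agent.S3978
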