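import Cfsg.Statements.S3979
import Cfsg.Agent.Lib.StemExt.Basic

set_option autoImplicit false
open Cfsg

namespace Cfsg.Agent.S3979

/-- A finite cyclic group has trivial Schur multiplier: every finite stem extension of it is an isomorphism, said through `HasCyclicSchurMultiplier G 1`. -/
theorem result {G : Type*} [Group G] [Finite G] [IsCyclic G] : Cfsg.HasCyclicSchurMultiplier G 1 := by
  refine CfsgLib.StemExt.hasCyclicSchurMultiplier_one fun Δ _ _ σ hσ => ?_
  have hab : ∀ a b : Δ, a * b = b * a :=
    fun a b => commutative_of_cyclic_center_quotient σ hσ.2.1 a b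
  rw [eq_bot_iff]
  refine hσ.2.2.trans ?_
  rw [commutator_eq_closure, Subgroup.closure_le]
  rintro _ ⟨a, b, rfl⟩
  simp [commutatorElement_def, hab a b]

end Cfsg.Agent.S3979
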