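import Cfsg.Statements.S3981
import Mathlib
import Cfsg.Agent.Lib.Elem.PrimaryParts

set_option autoImplicit false
set_option linter.style.haveILetI false
open Cfsg

namespace Cfsg.Agent.S3981

/-- Let p be an odd prime, Q a p-subgroup of the finite group G and y an involution normalizing Q. Then Q is maximal among the p-subgroups of G normalized by y if and only if the image of y in N_G(Q) ⧸ Q neither inverts nor centralizes any element of order p there; the latter is phrased inside N_G(Q): for every x in N_G(Q) outside Q with x ^ p ∈ Q, neither y x y⁻¹ x nor y x y⁻¹ x⁻¹ lies in Q. -/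
theorem result {G : Type*} [Group G] [Finite G] (p : ℕ) [Fact p.Prime] (hp2 : p ≠ 2) (Q : Subgroup G) (hQ : IsPGroup p ↥Q) (y : G) (hy : orderOf y = 2) (hyQ : y ∈ Subgroup.normalizer (Q : Set G)) : (∀ R : Subgroup G, IsPGroup p ↥R → Q ≤ R → y ∈ Subgroup.normalizer (R : Set G) → R = Q) ↔ ∀ x : G, x ∈ Subgroup.normalizer (Q : Set G) → x ∉ Q → x ^ p ∈ Q → (y * x * y⁻¹ * x ∉ Q ∧ y * x * y⁻¹ * x⁻¹ ∉ Q) := by
  classical
  have hy2 : y * y = 1 := by rw [← sq, ← hy, pow_orderOf_eq_one]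
  have hyi : y⁻¹ = y := inv_eq_of_mul_eq_one_right hy2
  set N := Subgroup.normalizer (Q : Set G)
  haveI : (Q.subgroupOf N).Normal := (Subgroup.normal_subgroupOf_iff_le_normalizer Subgroup.le_normalizer).mpr le_rfl
  let π := QuotientGroup.mk' (Q.subgroupOf N)
  have hπ : ∀ (a : G) (ha : a ∈ N), π ⟨a, ha⟩ = 1 ↔ a ∈ Q := fun a ha =>
    QuotientGroup.eq_one_iff (N := Q.subgroupOf N) _
  have hyN : ∀ a ∈ N, y * a * y⁻¹ ∈ N := fun a ha => N.mul_mem (N.mul_mem hyQ ha) (N.inv_mem hyQ)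
  constructor
  · intro hmax x hx hxQ hxp
    have main : y * x * y⁻¹ ∈ Q ⊔ Subgroup.zpowers x → False := by
      intro hxy
      set R := Q ⊔ Subgroup.zpowers x
      have hZ : IsPGroup p ↥(Subgroup.zpowers x) := by
        obtain ⟨b, hb⟩ := hQ ⟨x ^ p, hxp⟩
        obtain ⟨c, -, hc⟩ := (Nat.dvd_prime_pow (Fact.out : p.Prime)).mp (show orderOf x ∣ p ^ (b + 1) from
          orderOf_dvd_of_pow_eq_one (by rw [pow_succ', pow_mul]; exact congrArg Subtype.val hb))
        exact IsPGroup.of_card (n := c) (by rw [Nat.card_zpowers, hc])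
      have hR : IsPGroup p ↥R := by
        have h := hZ.to_sup_of_normal_right' hQ (Subgroup.zpowers_le.mpr hx)
        rwa [sup_comm] at h
      have hyR : y ∈ Subgroup.normalizer (R : Set G) := by
        have hle : R ≤ R.comap (MulAut.conj y).toMonoidHom := sup_le
          (fun q hq => Subgroup.mem_sup_left ((Subgroup.mem_normalizer_iff.mp hyQ q).mp hq))
          (Subgroup.zpowers_le.mpr hxy)
        exact CfsgLib.PrimaryParts.mem_normalizer_of_conj_mem (H := R) (g := y) fun w hw => hle hw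
      exact hxQ (hmax R hR le_sup_left hyR ▸ Subgroup.mem_sup_right (Subgroup.mem_zpowers x))
    refine ⟨fun h => main ?_, fun h => main ?_⟩
    · rw [show y * x * y⁻¹ = (y * x * y⁻¹ * x) * x⁻¹ by group]
      exact Subgroup.mul_mem _ (Subgroup.mem_sup_left h) (Subgroup.inv_mem _ (Subgroup.mem_sup_right (Subgroup.mem_zpowers x)))
    · rw [show y * x * y⁻¹ = (y * x * y⁻¹ * x⁻¹) * x by group]
      exact Subgroup.mul_mem _ (Subgroup.mem_sup_left h) (Subgroup.mem_sup_right (Subgroup.mem_zpowers x))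
  · intro h R hR hQR hyR
    by_contra hne
    haveI : Group.IsNilpotent R := hR.isNilpotent
    have hlt : Q.subgroupOf R < ⊤ := lt_top_iff_ne_top.mpr fun e =>
      hne (le_antisymm (Subgroup.subgroupOf_eq_top.mp e) hQR)
    obtain ⟨⟨u, huR⟩, hu, huQ⟩ := SetLike.exists_of_lt
      (Group.normalizerCondition_of_isNilpotent (G := R) _ hlt)
    have huN : u ∈ N := by
      refine CfsgLib.PrimaryParts.mem_normalizer_of_conj_mem (H := Q) (g := u) fun w hw => ?_
      exact (Subgroup.mem_normalizer_iff.mp hu ⟨w, hQR hw⟩).mp hw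
    have step : ∀ v ∈ R, ∀ hv : v ∈ N, v ∉ Q →
        π ⟨y * v * y⁻¹, hyN v hv⟩ = π ⟨v, hv⟩ ∨ π ⟨y * v * y⁻¹, hyN v hv⟩ = (π ⟨v, hv⟩)⁻¹ → False := by
      intro v hvR hv hvQ hcase
      obtain ⟨b, hb⟩ := hR ⟨v, hvR⟩
      have hex : ∃ i, v ^ p ^ i ∈ Q := ⟨b, by
        rw [show v ^ p ^ b = 1 from congrArg Subtype.val hb]; exact Q.one_mem⟩
      obtain ⟨i, hi⟩ : ∃ i, Nat.find hex = i + 1 := Nat.exists_eq_succ_of_ne_zero fun h0 => hvQ (by
        have := Nat.find_spec hex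
        rwa [h0, pow_zero, pow_one] at this)
      have h1 : v ^ p ^ i ∉ Q := Nat.find_min hex (by omega)
      have h2 : (v ^ p ^ i) ^ p ∈ Q := by
        rw [← pow_mul, ← pow_succ, ← hi]; exact Nat.find_spec hex
      obtain ⟨hA, hB⟩ := h _ (N.pow_mem hv _) h1 h2
      have key : π ⟨y * v ^ p ^ i * y⁻¹, hyN _ (N.pow_mem hv _)⟩ = π ⟨y * v * y⁻¹, hyN v hv⟩ ^ p ^ i := by
        rw [← map_pow]
        congr 1
        ext
        simp only [SubgroupClass.coe_pow]
        rw [conj_pow]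
      have key2 : π ⟨v ^ p ^ i, N.pow_mem hv _⟩ = π ⟨v, hv⟩ ^ p ^ i := by rw [← map_pow]; rfl
      rcases hcase with hc | hc
      · apply hB
        rw [← hπ _ (N.mul_mem (hyN _ (N.pow_mem hv _)) (N.inv_mem (N.pow_mem hv (p ^ i))))]
        have : π (⟨y * v ^ p ^ i * y⁻¹, hyN _ (N.pow_mem hv _)⟩ * (⟨v ^ p ^ i, N.pow_mem hv _⟩)⁻¹) = 1 := by
          rw [map_mul, map_inv, key, key2, hc, mul_inv_cancel]
        exact this
      · apply hA
        rw [← hπ _ (N.mul_mem (hyN _ (N.pow_mem hv _)) (N.pow_mem hv (p ^ i)))]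
        have : π (⟨y * v ^ p ^ i * y⁻¹, hyN _ (N.pow_mem hv _)⟩ * ⟨v ^ p ^ i, N.pow_mem hv _⟩) = 1 := by
          rw [map_mul, key, key2, hc, inv_pow, inv_mul_cancel]
        exact this
    by_cases hc : π ⟨y * u * y⁻¹, hyN u huN⟩ = π ⟨u, huN⟩
    · exact step u huR huN huQ (Or.inl hc)
    · have hwR : y * u * y⁻¹ ∈ R := (Subgroup.mem_normalizer_iff.mp hyR u).mp huR
      have hvN : u⁻¹ * (y * u * y⁻¹) ∈ N := N.mul_mem (N.inv_mem huN) (hyN u huN)
      refine step _ (R.mul_mem (R.inv_mem huR) hwR) hvN (fun hv => hc ?_) (Or.inr ?_)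
      · have h1 := (hπ _ hvN).mpr hv
        have h2 : π (⟨u, huN⟩⁻¹ * ⟨y * u * y⁻¹, hyN u huN⟩) = 1 := h1
        rw [map_mul, map_inv, inv_mul_eq_one] at h2
        exact h2.symm
      · rw [← map_inv]
        congr 1
        ext
        show y * (u⁻¹ * (y * u * y⁻¹)) * y⁻¹ = (u⁻¹ * (y * u * y⁻¹))⁻¹
        simp only [mul_inv_rev, inv_inv, hyi, mul_assoc, hy2, mul_one]

end Cfsg.Agent.S3981
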