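import Cfsg.Statements.S3982
import Mathlib
import Cfsg.Agent.Lib.Coprime.SchurZassenhaus
import Cfsg.Agent.Lib.Elem.PrimaryParts

set_option autoImplicit false
set_option linter.style.haveILetI false
open Cfsg
open scoped Pointwise

namespace Cfsg.Agent.S3982

/-- Let p be an odd prime and G a finite group of even order divisible by p in which the centralizer of every non-identity p-element has odd order. If some nontrivial p-subgroup of G has a normalizer of even order, then the normalizer of every Sylow p-subgroup of G has even order. -/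
theorem result {G : Type*} [Group G] [Finite G] (p : ℕ) [Fact p.Prime] (hp2 : p ≠ 2) (hpG : p ∣ Nat.card G) (h2G : 2 ∣ Nat.card G) (hC : ∀ g : G, g ≠ 1 → (∃ k : ℕ, orderOf g = p ^ k) → Odd (Nat.card ↥(Subgroup.centralizer ({g} : Set G)))) (Q : Subgroup G) (hQ : IsPGroup p ↥Q) (hQ1 : Q ≠ ⊥) (hev : Even (Nat.card ↥(Subgroup.normalizer (Q : Set G)))) (P : Sylow p G) : Even (Nat.card ↥(Subgroup.normalizer ((P : Subgroup G) : Set G))) := by
  classical
  have hp := (Fact.out : p.Prime)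
  haveI := Fact.mk Nat.prime_two
  set NQ := Subgroup.normalizer (Q : Set G)
  obtain ⟨⟨y, hyQ⟩, hy⟩ := exists_prime_orderOf_dvd_card' (G := NQ) 2 (even_iff_two_dvd.mp hev)
  rw [Subgroup.orderOf_mk] at hy
  have hy2 : y * y = 1 := by rw [← sq, ← hy, pow_orderOf_eq_one]
  have hyi : y⁻¹ = y := inv_eq_of_mul_eq_one_right hy2
  obtain ⟨R, ⟨hR, hQR, hyR⟩, hmax⟩ := Set.Finite.exists_maximalFor id
    {R : Subgroup G | IsPGroup p R ∧ Q ≤ R ∧ y ∈ Subgroup.normalizer (R : Set G)} (Set.toFinite _) ⟨Q, hQ, le_rfl, hyQ⟩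
  have hR1 : R ≠ ⊥ := fun h => hQ1 (le_bot_iff.mp (h ▸ hQR))
  have hodd : ∀ w : G, w ≠ 1 → (∃ k : ℕ, orderOf w = p ^ k) → ¬ Commute y w := by
    intro w hw1 hwp hc
    have h1 := (hC w hw1 hwp)
    have h2 : orderOf y ∣ Nat.card ↥(Subgroup.centralizer ({w} : Set G)) :=
      Subgroup.orderOf_dvd_natCard _ (Subgroup.mem_centralizer_singleton_iff.mpr hc.eq)
    rw [hy] at h2
    exact (Nat.not_even_iff_odd.mpr h1) (even_iff_two_dvd.mpr h2)
  have hRconj : ∀ r ∈ R, y * r * y⁻¹ ∈ R := fun r hr => (Subgroup.mem_normalizer_iff.mp hyR r).mp hr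
  have hinv : ∀ r ∈ R, y * r * y⁻¹ = r⁻¹ := by
    let f : R → R := fun w => ⟨(w : G)⁻¹ * (y * w * y⁻¹), R.mul_mem (R.inv_mem w.2) (hRconj w w.2)⟩
    have hf : Function.Injective f := by
      rintro ⟨a, ha⟩ ⟨b, hb⟩ hab
      have h1 : a⁻¹ * (y * a * y⁻¹) = b⁻¹ * (y * b * y⁻¹) := congrArg Subtype.val hab
      by_contra hne
      obtain ⟨k, hk⟩ := IsPGroup.iff_orderOf.mp hR (⟨b * a⁻¹, R.mul_mem hb (R.inv_mem ha)⟩ : R)
      rw [Subgroup.orderOf_mk] at hk
      refine hodd (b * a⁻¹) (fun h => hne (Subtype.ext (mul_inv_eq_one.mp h).symm)) ⟨k, hk⟩ ?_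
      calc y * (b * a⁻¹) = y * b * y⁻¹ * (y * a * y⁻¹)⁻¹ * y := by group
        _ = b * (b⁻¹ * (y * b * y⁻¹)) * (a⁻¹ * (y * a * y⁻¹))⁻¹ * a⁻¹ * y := by group
        _ = b * a⁻¹ * y := by rw [h1]; group
    intro r hr
    obtain ⟨⟨w, hw⟩, hwr⟩ := Finite.injective_iff_surjective.mp hf ⟨r, hr⟩
    have h1 : w⁻¹ * (y * w * y⁻¹) = r := congrArg Subtype.val hwr
    rw [← h1]
    simp only [mul_inv_rev, inv_inv, hyi, mul_assoc, hy2, mul_one]
  have hab : ∀ a ∈ R, ∀ b ∈ R, a * b = b * a := by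
    intro a ha b hb
    have h1 := hinv _ (R.mul_mem ha hb)
    rw [show y * (a * b) * y⁻¹ = (y * a * y⁻¹) * (y * b * y⁻¹) by group, hinv a ha, hinv b hb, ← mul_inv_rev] at h1
    exact (inv_injective h1).symm
  set H := Subgroup.normalizer (R : Set G)
  set C := Subgroup.centralizer (R : Set G)
  have hRC : R ≤ C := fun a ha => Subgroup.mem_centralizer_iff.mpr fun b hb => hab b hb a ha
  have hCH : C ≤ H := Subgroup.centralizer_le_normalizer _
  obtain ⟨r, hr, hr1⟩ := R.ne_bot_iff_exists_ne_one.mp hR1 |>.elim fun a ha => (⟨a.1, a.2, fun h => ha (Subtype.ext h)⟩ : ∃ r, r ∈ R ∧ r ≠ 1)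
  have hCodd : Odd (Nat.card C) := by
    obtain ⟨k, hk⟩ := IsPGroup.iff_orderOf.mp hR ⟨r, hr⟩
    rw [Subgroup.orderOf_mk] at hk
    exact (hC r hr1 ⟨k, hk⟩).of_dvd_nat (Subgroup.card_dvd_of_le fun c hc =>
      Subgroup.mem_centralizer_singleton_iff.mpr (Subgroup.mem_centralizer_iff.mp hc r hr).symm)
  haveI hCn : (C.subgroupOf H).Normal := by
    rw [← Subgroup.normalizerMonoidHom_ker]; infer_instance
  have hpC : ∀ w ∈ H, (∃ k : ℕ, w ^ p ^ k = 1) → w ∈ C := by
    rintro w hw ⟨k, hk⟩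
    set Z := Subgroup.zpowers y
    have hcomm : y * w * y⁻¹ * w⁻¹ ∈ C := by
      rw [Subgroup.mem_centralizer_iff]
      intro a ha
      have h1 : w⁻¹ * a * w ∈ R := by
        have := (Subgroup.mem_normalizer_iff.mp (H.inv_mem hw) a).mp ha
        rwa [inv_inv] at this
      have e1 := hinv a ha
      have e2 := hinv _ h1
      have e1' : y⁻¹ * a * y = a⁻¹ := by rw [hyi]; rwa [hyi] at e1
      symm
      calc y * w * y⁻¹ * w⁻¹ * a = y * w * (y⁻¹ * (w⁻¹ * a * w) * y) * y⁻¹ * w⁻¹ := by group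
        _ = y * w * (w⁻¹ * a * w)⁻¹ * y⁻¹ * w⁻¹ := by
          rw [hyi]; rw [hyi] at e2; rw [e2]
        _ = y * a⁻¹ * y⁻¹ * (y * w * y⁻¹ * w⁻¹) := by group
        _ = a * (y * w * y⁻¹ * w⁻¹) := by
          rw [hinv _ (R.inv_mem ha), inv_inv]
    have hsup : C ⊔ MulAut.conj w • Z = C ⊔ Z := by
      rw [show MulAut.conj w • Z = Subgroup.zpowers (w * y * w⁻¹) from MonoidHom.map_zpowers _ y]
      apply le_antisymm <;> refine sup_le le_sup_left (Subgroup.zpowers_le.mpr ?_)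
      · rw [show w * y * w⁻¹ = (y * w * y⁻¹ * w⁻¹)⁻¹ * y by group]
        exact Subgroup.mul_mem _ (Subgroup.mem_sup_left (C.inv_mem hcomm)) (Subgroup.mem_sup_right (Subgroup.mem_zpowers y))
      · have h0 : (y * w * y⁻¹ * w⁻¹) * (w * y * w⁻¹) ∈ C ⊔ Subgroup.zpowers (w * y * w⁻¹) :=
          Subgroup.mul_mem _ (Subgroup.mem_sup_left hcomm) (Subgroup.mem_sup_right (Subgroup.mem_zpowers _))
        rwa [show (y * w * y⁻¹ * w⁻¹) * (w * y * w⁻¹) = y by group] at h0
    have hyC : Z ≤ Subgroup.normalizer (C : Set G) :=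
      (Subgroup.zpowers_le.mpr hyR).trans ((Subgroup.normal_subgroupOf_iff_le_normalizer hCH).mp hCn)
    have hcop : (Nat.card C).Coprime (Nat.card Z) := by
      rw [Nat.card_zpowers, hy]; exact Nat.coprime_two_right.mpr hCodd
    obtain ⟨c, hc, hcZ⟩ := CfsgLib.Coprime.exists_conj_of_coprime (N := C) (H := Z) (K := MulAut.conj w • Z) hyC hcop
      (by rwa [Nat.card_congr (Subgroup.equivSMul (MulAut.conj w) Z).symm.toEquiv]) hsup.symm
      (Or.inr (Group.isSolvable_of_comm fun a b => mul_comm' a b))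
    set d := c⁻¹ * w
    have hdy : Commute y d := by
      have h1 : d * y * d⁻¹ ∈ Z := by
        have h0 : w * y * w⁻¹ ∈ MulAut.conj c • Z := hcZ ▸ Subgroup.smul_mem_pointwise_smul y (MulAut.conj w) _ (Subgroup.mem_zpowers y)
        rw [CfsgLib.Coprime.mem_conj_smul_iff] at h0
        rwa [show d * y * d⁻¹ = c⁻¹ * (w * y * w⁻¹) * c by simp only [d]; group]
      obtain ⟨i, hi⟩ := h1
      simp only at hi
      rw [← zpow_mod_orderOf, hy] at hi
      rcases Int.emod_two_eq_zero_or_one i with h | h <;> rw [Nat.cast_ofNat, h] at hi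
      · rw [zpow_zero, eq_comm, conj_eq_one_iff] at hi
        rw [hi] at hy; simp at hy
      · rw [zpow_one] at hi
        show y * d = d * y
        conv_lhs => rw [hi]
        group
    obtain ⟨m, l, hm, hl⟩ := CfsgLib.PrimaryParts.exists_pow_primePow p hp d
    have hd1 : d ^ m = 1 := by
      by_contra hne
      exact hodd _ hne ⟨l, hl⟩ (hdy.pow_right m)
    have hcH : c ∈ H := hCH hc
    let π := QuotientGroup.mk' (C.subgroupOf H)
    have e1 : π ⟨w, hw⟩ ^ m = 1 := by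
      have : π ⟨w, hw⟩ = π ⟨d, H.mul_mem (H.inv_mem hcH) hw⟩ := by
        have hc1 : π ⟨c, hcH⟩ = 1 := (QuotientGroup.eq_one_iff _).mpr hc
        rw [show (⟨w, hw⟩ : H) = ⟨c, hcH⟩ * ⟨d, H.mul_mem (H.inv_mem hcH) hw⟩ from
          Subtype.ext (show w = c * d by simp only [d]; group), map_mul, hc1, one_mul]
      rw [this, ← map_pow, show (⟨d, H.mul_mem (H.inv_mem hcH) hw⟩ : H) ^ m = 1 from Subtype.ext hd1, map_one]
    have e2 : π ⟨w, hw⟩ ^ p ^ k = 1 := by
      rw [← map_pow, show (⟨w, hw⟩ : H) ^ p ^ k = 1 from Subtype.ext hk, map_one]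
    have e3 := pow_gcd_eq_one.mpr (And.intro e1 e2)
    rw [((hp.coprime_iff_not_dvd.mpr hm).symm.pow_right k).gcd_eq_one, pow_one] at e3
    exact (QuotientGroup.eq_one_iff (N := C.subgroupOf H) _).mp e3
  let φ : MulAut C := Subgroup.normalizerMonoidHom C ⟨y, ((Subgroup.normal_subgroupOf_iff_le_normalizer hCH).mp hCn) hyR⟩
  have hφ : ∀ c : C, ((φ c : C) : G) = y * c * y⁻¹ := fun c => rfl
  haveI := Fintype.ofFinite (Sylow p C)
  obtain ⟨S, hS⟩ := Equiv.Perm.exists_fixed_point_of_prime (p := 2) (n := 1)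
    (α := Sylow p C) (σ := MulAction.toPerm φ) (by
      rw [← Nat.card_eq_fintype_card]
      intro hd
      obtain ⟨S0⟩ := (inferInstance : Nonempty (Sylow p C))
      exact Nat.not_even_iff_odd.mpr hCodd (even_iff_two_dvd.mpr
        (hd.trans ((Sylow.card_dvd_index S0).trans (S0 : Subgroup C).index_dvd_card)))) (by
      rw [pow_one, sq]
      ext S : 1
      rw [Equiv.Perm.mul_apply, MulAction.toPerm_apply, MulAction.toPerm_apply, Equiv.Perm.one_apply]
      rw [smul_smul, show φ * φ = 1 from MulEquiv.ext fun c => Subtype.ext (by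
        rw [MulAut.mul_apply, hφ, hφ, MulAut.one_apply]
        calc y * (y * c * y⁻¹) * y⁻¹ = (y * y) * c * (y * y)⁻¹ := by group
          _ = c := by rw [hy2, one_mul, inv_one, mul_one]), one_smul])
  set S' := (S : Subgroup C).map C.subtype
  have hRS : R ≤ S' := by
    haveI : (R.subgroupOf C).Normal := ⟨fun n hn g => by
      rw [Subgroup.mem_subgroupOf] at hn ⊢
      push_cast
      rw [← Subgroup.mem_centralizer_iff.mp g.2 n hn, mul_inv_cancel_right]
      exact hn⟩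
    intro a ha
    exact Subgroup.mem_map.mpr ⟨⟨a, hRC ha⟩, IsPGroup.le_sylow_of_normal (N := R.subgroupOf C) (hR.comap_of_injective C.subtype C.subtype_injective) S ha, rfl⟩
  have hSy : y ∈ Subgroup.normalizer (S' : Set G) := by
    apply CfsgLib.PrimaryParts.mem_normalizer_of_conj_mem
    intro w hw
    obtain ⟨c, hc, rfl⟩ := Subgroup.mem_map.mp hw
    refine Subgroup.mem_map.mpr ⟨φ c, ?_, hφ c⟩
    have h1 : φ • S = S := hS
    have h2 : φ c ∈ φ • (S : Subgroup C) := Subgroup.smul_mem_pointwise_smul c φ _ hc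
    rwa [← Sylow.pointwise_smul_def, h1] at h2
  have hSR : S' ≤ R := hmax ⟨S.2.map _, hQR.trans hRS, hSy⟩ hRS
  obtain ⟨P0, hP0⟩ := hR.exists_le_sylow
  have hP0R : (P0 : Subgroup G) = R := by
    by_contra hne
    haveI : Group.IsNilpotent (P0 : Subgroup G) := P0.2.isNilpotent
    have hlt : R.subgroupOf (P0 : Subgroup G) < ⊤ := lt_top_iff_ne_top.mpr fun e =>
      hne (le_antisymm (Subgroup.subgroupOf_eq_top.mp e) hP0)
    obtain ⟨⟨u, huP⟩, hu, huR⟩ := SetLike.exists_of_lt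
      (Group.normalizerCondition_of_isNilpotent (G := (P0 : Subgroup G)) _ hlt)
    have huH : u ∈ H := CfsgLib.PrimaryParts.mem_normalizer_of_conj_mem fun w hw =>
      (Subgroup.mem_normalizer_iff.mp hu ⟨w, hP0 hw⟩).mp hw
    obtain ⟨k, hk⟩ := P0.2 ⟨u, huP⟩
    have huC := hpC u huH ⟨k, congrArg Subtype.val hk⟩
    set U : Subgroup C := ((P0 : Subgroup G) ⊓ H).subgroupOf C
    have hU : IsPGroup p U := (P0.2.to_le inf_le_left).comap_of_injective C.subtype C.subtype_injective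
    have hSU : (S : Subgroup C) ≤ U := fun c hc => ⟨hP0 (hSR (Subgroup.mem_map.mpr ⟨c, hc, rfl⟩)), hCH c.2⟩
    have := S.3 hU hSU
    exact huR (hSR (Subgroup.mem_map.mpr ⟨⟨u, huC⟩, this ▸ (⟨huP, huH⟩ : (⟨u, huC⟩ : C) ∈ U), rfl⟩))
  obtain ⟨g, hg⟩ := MulAction.exists_smul_eq G P0 P
  have h1 : Even (Nat.card H) := even_iff_two_dvd.mpr (hy ▸ Subgroup.orderOf_dvd_natCard H hyR)
  have h2 : Nat.card (Subgroup.normalizer ((P : Subgroup G) : Set G)) = Nat.card H := by
    have e : Subgroup.normalizer ((P : Subgroup G) : Set G) = (Subgroup.normalizer ((P0 : Subgroup G) : Set G)).map (MulAut.conj g).toMonoidHom := by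
      rw [← hg, Sylow.coe_subgroup_smul]
      exact (Subgroup.map_equiv_normalizer_eq (P0 : Subgroup G) (MulAut.conj g)).symm
    rw [e, Nat.card_congr ((Subgroup.normalizer ((P0 : Subgroup G) : Set G)).equivMapOfInjective _ (MulAut.conj g).injective).symm.toEquiv, hP0R]
  rw [h2]; exact h1

end Cfsg.Agent.S3982
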