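import Cfsg.Statements.S3983
import Mathlib
import Cfsg.Agent.Lib.Coprime.SchurZassenhaus

set_option autoImplicit false
set_option linter.style.haveILetI false
open scoped Pointwise
open Cfsg

namespace Cfsg.Agent.S3983

/-- Let P be a Sylow p-subgroup of the finite group G that meets each conjugate g P g⁻¹ with g outside N_G(P) trivially, and let U be a subgroup of G of order divisible by p. Then a Sylow p-subgroup Q of U has the same property inside U: Q meets each conjugate u Q u⁻¹ with u ∈ U outside N_U(Q) trivially. -/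
theorem result {G : Type*} [Group G] [Finite G] (p : ℕ) [Fact p.Prime] (P : Sylow p G) (hTI : ∀ g : G, g ∉ Subgroup.normalizer ((P : Subgroup G) : Set G) → (P : Subgroup G) ⊓ (MulAut.conj g • (P : Subgroup G)) = ⊥) (U : Subgroup G) (hU : p ∣ Nat.card ↥U) (Q : Sylow p ↥U) : ∀ u : ↥U, u ∉ Subgroup.normalizer ((Q : Subgroup ↥U) : Set ↥U) → (Q : Subgroup ↥U) ⊓ (MulAut.conj u • (Q : Subgroup ↥U)) = ⊥ := by
  intro u hu
  by_contra hne
  obtain ⟨x, hx, hx1⟩ := ((Subgroup.bot_or_exists_ne_one _).resolve_left hne)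
  have hQp : IsPGroup p ↥((Q : Subgroup U).map U.subtype) := Q.2.map U.subtype
  obtain ⟨P1, hP1⟩ := hQp.exists_le_sylow
  have hTI' : ∀ S T : Sylow p G, ∀ y : G, y ≠ 1 → y ∈ (S : Subgroup G) → y ∈ (T : Subgroup G) → S = T := by
    intro S T y hy hyS hyT
    obtain ⟨a, rfl⟩ := MulAction.exists_smul_eq G P S
    obtain ⟨b, rfl⟩ := MulAction.exists_smul_eq G P T
    rw [Sylow.coe_subgroup_smul, CfsgLib.Coprime.mem_conj_smul_iff] at hyS hyT
    have hmem : a⁻¹ * b ∈ Subgroup.normalizer ((P : Subgroup G) : Set G) := by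
      by_contra hn
      have h1 : a⁻¹ * y * a ∈ (P : Subgroup G) ⊓ MulAut.conj (a⁻¹ * b) • (P : Subgroup G) := by
        refine ⟨hyS, ?_⟩
        show a⁻¹ * y * a ∈ MulAut.conj (a⁻¹ * b) • (P : Subgroup G)
        rw [CfsgLib.Coprime.mem_conj_smul_iff]
        rwa [show (a⁻¹ * b)⁻¹ * (a⁻¹ * y * a) * (a⁻¹ * b) = b⁻¹ * y * b by group]
      rw [hTI _ hn, Subgroup.mem_bot] at h1
      apply hy
      calc y = a * (a⁻¹ * y * a) * a⁻¹ := by group
        _ = 1 := by rw [h1]; group
    have hmem' : (a⁻¹ * b) • P = P := Sylow.smul_eq_iff_mem_normalizer.mpr hmem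
    calc a • P = a • ((a⁻¹ * b) • P) := by rw [hmem']
      _ = b • P := by rw [← mul_smul, mul_inv_cancel_left]
  have hxQ : x ∈ (Q : Subgroup U) := hx.1
  have hxu : u⁻¹ * x * u ∈ (Q : Subgroup U) := CfsgLib.Coprime.mem_conj_smul_iff.mp hx.2
  have hUQ : ∀ w : U, (w : G) ∈ (P1 : Subgroup G) → w ∈ (Q : Subgroup U) := by
    intro w hw
    have h1 : ((P1 : Subgroup G).subgroupOf U) = (Q : Subgroup U) :=
      Q.3 (P1.2.comap_of_injective U.subtype U.subtype_injective)
        (fun q hq => hP1 (Subgroup.mem_map_of_mem U.subtype hq))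
    exact h1.le hw
  have heq : (u : G) • P1 = P1 := by
    refine hTI' _ _ (x : G) (fun e => hx1 (Subtype.ext e)) ?_ (hP1 (Subgroup.mem_map_of_mem _ hxQ))
    rw [Sylow.coe_subgroup_smul, CfsgLib.Coprime.mem_conj_smul_iff]
    exact hP1 (Subgroup.mem_map_of_mem U.subtype hxu)
  apply hu
  have hN := Sylow.smul_eq_iff_mem_normalizer.mp heq
  rw [Subgroup.mem_normalizer_iff]
  intro w
  constructor
  · intro hw
    exact hUQ _ ((Subgroup.mem_normalizer_iff.mp hN (w : G)).mp (hP1 (Subgroup.mem_map_of_mem _ hw)))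
  · intro hw
    exact hUQ _ ((Subgroup.mem_normalizer_iff.mp hN (w : G)).mpr (hP1 (Subgroup.mem_map_of_mem _ hw)))

end Cfsg.Agent.S3983
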