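import Cfsg.Statements.S3984
import Mathlib
import Cfsg.Agent.Lib.Coprime.SchurZassenhaus

set_option autoImplicit false
set_option linter.style.haveILetI false
open scoped Pointwise
open Cfsg

namespace Cfsg.Agent.S3984

/-- Let P be a Sylow p-subgroup of the finite group G that meets each conjugate g P g⁻¹ with g outside N_G(P) trivially, and let N be a normal subgroup of G of order prime to p. Then every Sylow p-subgroup Q of G ⧸ N meets each conjugate x Q x⁻¹ with x outside its normalizer trivially. -/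
theorem result {G : Type*} [Group G] [Finite G] (p : ℕ) [Fact p.Prime] (P : Sylow p G) (hTI : ∀ g : G, g ∉ Subgroup.normalizer ((P : Subgroup G) : Set G) → (P : Subgroup G) ⊓ (MulAut.conj g • (P : Subgroup G)) = ⊥) (N : Subgroup G) [N.Normal] (hN : (Nat.card ↥N).Coprime p) (Q : Sylow p (G ⧸ N)) : ∀ x : G ⧸ N, x ∉ Subgroup.normalizer ((Q : Subgroup (G ⧸ N)) : Set (G ⧸ N)) → (Q : Subgroup (G ⧸ N)) ⊓ (MulAut.conj x • (Q : Subgroup (G ⧸ N))) = ⊥ := by
  classical
  set f := QuotientGroup.mk' N with hf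
  have hsurj : Function.Surjective f := QuotientGroup.mk'_surjective _
  obtain ⟨P1, hP1⟩ := Sylow.mapSurjective_surjective (p := p) (f := f) hsurj Q
  subst hP1
  have hTI' : ∀ S T : Sylow p G, ∀ y : G, y ≠ 1 → y ∈ (S : Subgroup G) → y ∈ (T : Subgroup G) → S = T := by
    intro S T y hy hyS hyT
    obtain ⟨a, rfl⟩ := MulAction.exists_smul_eq G P S
    obtain ⟨b, rfl⟩ := MulAction.exists_smul_eq G P T
    rw [Sylow.coe_subgroup_smul, CfsgLib.Coprime.mem_conj_smul_iff] at hyS hyT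
    have hmem : a⁻¹ * b ∈ Subgroup.normalizer ((P : Subgroup G) : Set G) := by
      by_contra hn
      have h1 : a⁻¹ * y * a ∈ (P : Subgroup G) ⊓ MulAut.conj (a⁻¹ * b) • (P : Subgroup G) := by
        refine ⟨hyS, ?_⟩
        show a⁻¹ * y * a ∈ MulAut.conj (a⁻¹ * b) • (P : Subgroup G)
        rw [CfsgLib.Coprime.mem_conj_smul_iff]
        rwa [show (a⁻¹ * b)⁻¹ * (a⁻¹ * y * a) * (a⁻¹ * b) = b⁻¹ * y * b by group]
      rw [hTI _ hn, Subgroup.mem_bot] at h1
      apply hy
      calc y = a * (a⁻¹ * y * a) * a⁻¹ := by group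
        _ = 1 := by rw [h1]; group
    have hmem' : (a⁻¹ * b) • P = P := Sylow.smul_eq_iff_mem_normalizer.mpr hmem
    calc a • P = a • ((a⁻¹ * b) • P) := by rw [hmem']
      _ = b • P := by rw [← mul_smul, mul_inv_cancel_left]
  intro x hx
  by_contra hne
  obtain ⟨ybar, hy, hy1⟩ := ((Subgroup.bot_or_exists_ne_one _).resolve_left hne)
  obtain ⟨g, rfl⟩ := hsurj x
  apply hx
  obtain ⟨y1, hy1P, hy1e⟩ := (show ybar ∈ (P1 : Subgroup G).map f from hy.1)
  obtain ⟨y2, hy2P, hy2e⟩ := (show ybar ∈ ((g • P1 : Sylow p G) : Subgroup G).map f by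
    have h1 := CfsgLib.Coprime.mem_conj_smul_iff.mp hy.2
    obtain ⟨z, hz, hze⟩ := (show (f g)⁻¹ * ybar * f g ∈ (P1 : Subgroup G).map f from h1)
    refine ⟨g * z * g⁻¹, ?_, ?_⟩
    · show g * z * g⁻¹ ∈ MulAut.conj g • (P1 : Subgroup G)
      exact CfsgLib.Coprime.conj_mem_conj_smul hz
    · rw [map_mul, map_mul, hze, map_inv]; group)
  set L := Subgroup.zpowers y1 ⊔ N with hL
  have hy2L : y2 ∈ L := by
    have h1 : y1⁻¹ * y2 ∈ N := QuotientGroup.eq.mp (hy1e.trans hy2e.symm)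
    have := mul_mem (Subgroup.mem_sup_left (Subgroup.mem_zpowers y1) : y1 ∈ L)
      (Subgroup.mem_sup_right h1)
    rwa [mul_inv_cancel_left] at this
  have hy1pg : IsPGroup p ↥(Subgroup.zpowers y1) := P1.2.to_le (Subgroup.zpowers_le.mpr hy1P)
  have hy2pg : IsPGroup p ↥(Subgroup.zpowers y2) := (g • P1).2.to_le (Subgroup.zpowers_le.mpr hy2P)
  have hy1card : ∀ S : Sylow p L, Nat.card (S : Subgroup L) = Nat.card (Subgroup.zpowers y1) := by
    intro S
    obtain ⟨j, hj⟩ := IsPGroup.iff_card.mp hy1pg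
    have hcardL : Nat.card L = Nat.card N * Nat.card (Subgroup.zpowers y1) := by
      rw [hL, sup_comm]
      refine CfsgLib.Coprime.card_sup_of_normalizer (by rw [Subgroup.normalizer_eq_top]; exact le_top) ?_
      exact CfsgLib.Coprime.inf_eq_bot_of_coprime_card (by rw [hj]; exact hN.pow_right j)
    rw [S.card_eq_multiplicity, hcardL, hj, Nat.factorization_mul Nat.card_pos.ne'
      (pow_ne_zero _ (Fact.out : p.Prime).ne_zero), Finsupp.add_apply,
      Nat.factorization_eq_zero_of_not_dvd ((Fact.out : p.Prime).coprime_iff_not_dvd.mp hN.symm),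
      zero_add, Nat.factorization_pow, Finsupp.smul_apply, (Fact.out : p.Prime).factorization_self,
      smul_eq_mul, mul_one]
  obtain ⟨S2, hS2⟩ := (hy2pg.comap_of_injective L.subtype L.subtype_injective).exists_le_sylow
  let S1 : Sylow p L := Sylow.ofCard ((Subgroup.zpowers y1).subgroupOf L) (by
    rw [Nat.card_congr (Subgroup.subgroupOfEquivOfLe le_sup_left).toEquiv, ← hy1card S2,
      S2.card_eq_multiplicity])
  obtain ⟨⟨l, hl⟩, hle⟩ := MulAction.exists_smul_eq L S1 S2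
  have hy2mem : l⁻¹ * y2 * l ∈ Subgroup.zpowers y1 := by
    have h1 : (⟨y2, hy2L⟩ : L) ∈ (S2 : Subgroup L) := hS2 (Subgroup.mem_zpowers y2)
    rw [← hle, Sylow.coe_subgroup_smul, CfsgLib.Coprime.mem_conj_smul_iff] at h1
    exact h1
  obtain ⟨w, hw, k, hk, rfl⟩ : ∃ w ∈ Subgroup.zpowers y1, ∃ k ∈ N, l = k * w := by
    rw [← SetLike.mem_coe, hL, sup_comm, Subgroup.normal_mul] at hl
    obtain ⟨k, hk, w, hw, rfl⟩ := Set.mem_mul.mp hl
    exact ⟨w, hw, k, hk, rfl⟩
  have hk2 : k⁻¹ * y2 * k ∈ (P1 : Subgroup G) := by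
    have h1 := Subgroup.zpowers_le.mpr hy1P hy2mem
    have h2 := mul_mem (mul_mem (Subgroup.zpowers_le.mpr hy1P hw) h1)
      ((P1 : Subgroup G).inv_mem (Subgroup.zpowers_le.mpr hy1P hw))
    rwa [show w * ((k * w)⁻¹ * y2 * (k * w)) * w⁻¹ = k⁻¹ * y2 * k by group] at h2
  have heq : (g • P1 : Sylow p G) = k • P1 := hTI' _ _ y2 (fun e => hy1 (by
    rw [← hy2e, e, map_one])) hy2P (by
      rw [Sylow.coe_subgroup_smul, CfsgLib.Coprime.mem_conj_smul_iff]; exact hk2)
  have hmem : k⁻¹ * g ∈ Subgroup.normalizer ((P1 : Subgroup G) : Set G) := by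
    exact Sylow.smul_eq_iff_mem_normalizer.mp (by rw [mul_smul, heq, inv_smul_smul])
  have hfk : f k = 1 := (QuotientGroup.eq_one_iff k).mpr hk
  have := Subgroup.le_normalizer_map f (Subgroup.mem_map_of_mem f hmem)
  rwa [map_mul, map_inv, hfk, inv_one, one_mul] at this

end Cfsg.Agent.S3984
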