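import Cfsg.Statements.S3985
import Mathlib
import Cfsg.Agent.Lib.Coprime.SchurZassenhaus

set_option autoImplicit false
set_option linter.style.haveILetI false
open scoped Pointwise
open Cfsg

namespace Cfsg.Agent.S3985

/-- Let P be a cyclic Sylow p-subgroup of the finite group G. Then P meets each conjugate g P g⁻¹ with g outside N_G(P) trivially if and only if P is weakly self-centralizing: C_G(x) = C_G(P) for every non-identity x ∈ P. -/
theorem result {G : Type*} [Group G] [Finite G] (p : ℕ) [Fact p.Prime] (P : Sylow p G) (hcyc : IsCyclic ↥(P : Subgroup G)) : (∀ g : G, g ∉ Subgroup.normalizer ((P : Subgroup G) : Set G) → (P : Subgroup G) ⊓ (MulAut.conj g • (P : Subgroup G)) = ⊥) ↔ ∀ x : G, x ∈ (P : Subgroup G) → x ≠ 1 → Subgroup.centralizer ({x} : Set G) = Subgroup.centralizer ((P : Subgroup G) : Set G) := by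
  classical
  have hp := (Fact.out : p.Prime)
  haveI := hcyc
  have hPc : ∀ a ∈ (P : Subgroup G), ∀ b ∈ (P : Subgroup G), a * b = b * a := fun a ha b hb => by
    letI := IsCyclic.commGroup (α := (P : Subgroup G))
    exact congrArg Subtype.val (mul_comm (⟨a, ha⟩ : (P : Subgroup G)) ⟨b, hb⟩)
  constructor
  · intro hTI x hx hx1
    refine le_antisymm (fun c hc => ?_) (Subgroup.centralizer_le (Set.singleton_subset_iff.mpr hx))
    have hcx : c * x = x * c := Subgroup.mem_centralizer_singleton_iff.mp hc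
    have hcN : c ∈ Subgroup.normalizer ((P : Subgroup G) : Set G) := by
      by_contra hn
      have h1 : x ∈ (P : Subgroup G) ⊓ MulAut.conj c • (P : Subgroup G) := by
        refine ⟨hx, ?_⟩
        show x ∈ MulAut.conj c • (P : Subgroup G)
        rw [CfsgLib.Coprime.mem_conj_smul_iff, mul_assoc, ← hcx, inv_mul_cancel_left]
        exact hx
      rw [hTI c hn, Subgroup.mem_bot] at h1
      exact hx1 h1
    obtain ⟨n, hn⟩ := IsPGroup.iff_card.mp P.2
    obtain ⟨u, hu⟩ := IsCyclic.exists_generator (α := (P : Subgroup G))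
    have huo : orderOf u = p ^ n := (orderOf_eq_card_of_forall_mem_zpowers hu).trans hn
    obtain ⟨r, hr⟩ := Subgroup.mem_zpowers_iff.mp
      (hu ⟨c * u * c⁻¹, (Subgroup.mem_normalizer_iff.mp hcN u).mp u.2⟩)
    have hr' : (u : G) ^ r = c * u * c⁻¹ := congrArg Subtype.val hr
    obtain ⟨i, hi⟩ := Subgroup.mem_zpowers_iff.mp (hu ⟨x, hx⟩)
    have hi' : (u : G) ^ i = x := congrArg Subtype.val hi
    have hri : (u : G) ^ (r * i - i) = 1 := by
      rw [zpow_sub, zpow_mul, hr', conj_zpow, hi', hcx, mul_inv_cancel_right, mul_inv_cancel]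
    have hr1 : (p : ℤ) ∣ r - 1 := by
      rw [← orderOf_dvd_iff_zpow_eq_one, Subgroup.orderOf_coe, huo] at hri
      by_contra hnd
      have hco : IsCoprime (((p : ℤ)) ^ n) (r - 1) :=
        ((Nat.prime_iff_prime_int.mp hp).coprime_iff_not_dvd.mpr hnd).pow_left
      have h2 : ((p : ℤ)) ^ n ∣ i := hco.dvd_of_dvd_mul_left (by
        rw [show (r - 1) * i = r * i - i by ring]
        push_cast at hri
        exact hri)
      apply hx1
      rw [← hi', ← orderOf_dvd_iff_zpow_eq_one, Subgroup.orderOf_coe, huo]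
      push_cast
      exact h2
    have hcm : ∀ m : ℕ, (u : G) ^ (r ^ m) = c ^ m * u * (c ^ m)⁻¹ := fun m => by
      induction m with
      | zero => simp
      | succ m ih =>
        rw [pow_succ', zpow_mul, hr', conj_zpow, ih, pow_succ' c]
        group
    have hpn : (u : G) ^ (r ^ p ^ n - 1) = 1 := by
      rw [← orderOf_dvd_iff_zpow_eq_one, Subgroup.orderOf_coe, huo]
      push_cast
      refine dvd_trans (pow_dvd_pow _ (Nat.le_succ n)) ?_
      have h2 := dvd_sub_pow_of_dvd_sub (R := ℤ) (p := p) (a := r) (b := 1) hr1 n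
      rwa [one_pow] at h2
    have hc1 : c ^ p ^ n ∈ Subgroup.centralizer ((P : Subgroup G) : Set G) := by
      intro a ha
      obtain ⟨j, hj⟩ := Subgroup.mem_zpowers_iff.mp (hu ⟨a, ha⟩)
      have hj' : (u : G) ^ j = a := congrArg Subtype.val hj
      have hcu : Commute (c ^ p ^ n) (u : G) := by
        have h2 := hcm (p ^ n)
        rw [show r ^ p ^ n = (r ^ p ^ n - 1) + 1 by ring, zpow_add, hpn, one_mul, zpow_one] at h2
        exact (eq_mul_inv_iff_mul_eq.mp h2).symm
      rw [← hj']
      exact (hcu.zpow_right j).eq.symm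
    set m := orderOf c / p ^ (orderOf c).factorization p with hm
    have hmeq : p ^ (orderOf c).factorization p * m = orderOf c := Nat.ordProj_mul_ordCompl_eq_self _ p
    have hc2 : c ^ m ∈ Subgroup.centralizer ((P : Subgroup G) : Set G) := by
      have hpow : (c ^ m) ^ p ^ (orderOf c).factorization p = 1 := by
        rw [← pow_mul, mul_comm, hmeq, pow_orderOf_eq_one]
      have hN : (Subgroup.zpowers (c ^ m)) ≤ (P : Subgroup G) := by
        obtain ⟨j, -, hj⟩ := (Nat.dvd_prime_pow hp).mp (orderOf_dvd_of_pow_eq_one hpow)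
        have hpg : IsPGroup p (Subgroup.zpowers (c ^ m)) := IsPGroup.of_card (n := j)
          (by rw [Nat.card_zpowers, hj])
        have hsup := IsPGroup.to_sup_of_normal_left' P.2 hpg
          (Subgroup.zpowers_le.mpr (pow_mem hcN m))
        exact le_sup_right.trans (P.3 hsup le_sup_left).le
      intro a ha
      exact hPc a ha _ (hN (Subgroup.mem_zpowers _))
    have hco : Nat.Coprime m (p ^ n) :=
      ((Nat.coprime_ordCompl hp (orderOf_pos c).ne').symm).pow_right n
    have hbez := Nat.gcd_eq_gcd_ab m (p ^ n)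
    rw [hco.gcd_eq_one, Nat.cast_one] at hbez
    rw [← zpow_one c, hbez, zpow_add, zpow_mul, zpow_mul, zpow_natCast, zpow_natCast]
    exact mul_mem (zpow_mem hc2 _) (zpow_mem hc1 _)
  · intro h g hg
    by_contra hne
    obtain ⟨x, hx, hx1⟩ := ((Subgroup.bot_or_exists_ne_one _).resolve_left hne)
    refine hg ?_
    rw [CfsgLib.Coprime.mem_normalizer_iff_conj_smul]
    have hle : MulAut.conj g • (P : Subgroup G) ≤ Subgroup.centralizer ((P : Subgroup G) : Set G) := by
      intro y hy
      rw [← h x hx.1 hx1, Subgroup.mem_centralizer_singleton_iff]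
      have hx' := CfsgLib.Coprime.mem_conj_smul_iff.mp hx.2
      have hy' := CfsgLib.Coprime.mem_conj_smul_iff.mp hy
      have := hPc _ hy' _ hx'
      calc y * x = g * ((g⁻¹ * y * g) * (g⁻¹ * x * g)) * g⁻¹ := by group
        _ = g * ((g⁻¹ * x * g) * (g⁻¹ * y * g)) * g⁻¹ := by rw [this]
        _ = x * y := by group
    have hsup := IsPGroup.to_sup_of_normal_left' P.2
      ((g • P).2 : IsPGroup p ↥(MulAut.conj g • (P : Subgroup G)))
      (hle.trans (Subgroup.centralizer_le_normalizer _))
    exact Subgroup.eq_of_le_of_card_ge (le_sup_right.trans (P.3 hsup le_sup_left).le)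
      (by rw [CfsgLib.Coprime.card_conj_smul])

end Cfsg.Agent.S3985
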