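import Cfsg.Statements.S3986
import Mathlib

set_option autoImplicit false
set_option linter.style.haveILetI false
open Cfsg

namespace Cfsg.Agent.S3986

/-- Let p be a prime and G a finite group. Then some Sylow p-subgroup of G is a direct factor of G (it is normal and has a normal complement) if and only if every element of p-power order commutes with every element whose order is a power of a prime other than p. -/
theorem result {G : Type*} [Group G] [Finite G] (p : ℕ) [Fact p.Prime] : (∃ (P : Sylow p G) (K : Subgroup G), (P : Subgroup G).Normal ∧ K.Normal ∧ (P : Subgroup G) ⊓ K = ⊥ ∧ (P : Subgroup G) ⊔ K = ⊤) ↔ ∀ x y : G, (∃ a : ℕ, orderOf x = p ^ a) → (∃ q b : ℕ, q.Prime ∧ q ≠ p ∧ orderOf y = q ^ b) → x * y = y * x := by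
  constructor
  · rintro ⟨P, K, hP, hK, hdisj, hsup⟩ x y ⟨a, ha⟩ ⟨q, b, hq, hqp, hb⟩
    haveI := hP
    haveI := hK
    haveI : Subsingleton (Sylow p G) := @Unique.instSubsingleton _ (Sylow.unique_of_normal P hP)
    have hxP : x ∈ (P : Subgroup G) := by
      obtain ⟨Q, hQ⟩ := (IsPGroup.of_card (p := p) (n := a) (G := Subgroup.zpowers x)
        (by rw [Nat.card_zpowers, ha])).exists_le_sylow
      rw [Subsingleton.elim Q P] at hQ
      exact hQ (Subgroup.mem_zpowers x)
    have hyK : y ∈ K := by
      obtain ⟨c, hc⟩ := IsPGroup.iff_card.mp P.2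
      have h1 : K.index = Nat.card (P : Subgroup G) := by
        refine Subgroup.IsComplement'.index_eq_card ?_
        refine Subgroup.isComplement'_of_disjoint_and_mul_eq_univ (disjoint_iff.mpr hdisj) ?_
        rw [← Subgroup.normal_mul, hsup, Subgroup.coe_top]
      have h2 : orderOf (QuotientGroup.mk' K y) ∣ p ^ c := by
        rw [← hc, ← h1, Subgroup.index_eq_card]; exact orderOf_dvd_natCard _
      exact (QuotientGroup.eq_one_iff _).mp (orderOf_eq_one_iff.mp (Nat.eq_one_of_dvd_coprimes
        (Nat.Coprime.pow _ _ ((Nat.coprime_primes (Fact.out : p.Prime) hq).mpr hqp.symm))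
        h2 (hb ▸ orderOf_map_dvd (QuotientGroup.mk' K) y)))
    exact Subgroup.commute_of_normal_of_disjoint _ _ hP hK (disjoint_iff.mpr hdisj) x y hxP hyK
  · intro h
    obtain ⟨P⟩ : Nonempty (Sylow p G) := inferInstance
    obtain ⟨c, hc⟩ := IsPGroup.iff_card.mp P.2
    set C := Subgroup.centralizer ((P : Subgroup G) : Set G) with hC
    have hcomm : ∀ z ∈ (P : Subgroup G), ∀ y : G,
        (∃ q b : ℕ, q.Prime ∧ q ≠ p ∧ orderOf y = q ^ b) → z * y = y * z := by
      intro z hz y hy
      obtain ⟨i, -, hi⟩ := (Nat.dvd_prime_pow (Fact.out : p.Prime)).mp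
        (hc ▸ Subgroup.orderOf_dvd_natCard (s := (P : Subgroup G)) hz)
      exact h z y ⟨i, hi⟩ hy
    have hind : ∀ q : ℕ, q.Prime → q ≠ p → ¬ q ∣ C.index := by
      intro q hq hqp hd
      haveI : Fact q.Prime := ⟨hq⟩
      obtain ⟨S⟩ : Nonempty (Sylow q G) := inferInstance
      have hSC : (S : Subgroup G) ≤ C := by
        intro y hy
        rw [hC, Subgroup.mem_centralizer_iff]
        intro z hz
        obtain ⟨e, he⟩ := IsPGroup.iff_card.mp S.2
        obtain ⟨i, -, hi⟩ := (Nat.dvd_prime_pow hq).mp
          (he ▸ Subgroup.orderOf_dvd_natCard (s := (S : Subgroup G)) hy)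
        exact hcomm z hz y ⟨q, i, hq, hqp, hi⟩
      exact S.not_dvd_index (hd.trans (Subgroup.index_dvd_of_le hSC))
    have hCN : C ≤ Subgroup.normalizer ((P : Subgroup G) : Set G) := fun y hy =>
      Subgroup.mem_normalizer_iff.mpr fun z => by
        constructor
        · intro hz
          rw [← Subgroup.mem_centralizer_iff.mp hy z hz, mul_inv_cancel_right]; exact hz
        · intro hz
          have h1 := Subgroup.mem_centralizer_iff.mp (C.inv_mem hy) _ hz
          have : z = y * z * y⁻¹ := by
            calc z = y⁻¹ * (y * z * y⁻¹) * y := by group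
              _ = y * z * y⁻¹ := by rw [← h1]; group
          rw [this]; exact hz
    have hPn : (P : Subgroup G).Normal := by
      rw [← Subgroup.normalizer_eq_top_iff, ← Subgroup.index_eq_one]
      by_contra hne
      obtain ⟨q, hq, hqd⟩ := Nat.exists_prime_and_dvd hne
      by_cases hqp : q = p
      · subst hqp
        exact P.not_dvd_index (hqd.trans (Subgroup.index_dvd_of_le Subgroup.le_normalizer))
      · exact hind q hq hqp (hqd.trans (Subgroup.index_dvd_of_le hCN))
    haveI := hPn
    obtain ⟨K, hK⟩ := Subgroup.exists_right_complement'_of_coprime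
      (N := (P : Subgroup G)) P.card_coprime_index
    haveI hCn : C.Normal := inferInstance
    have hKC : K ≤ C := by
      intro y hy
      have h1 : orderOf (QuotientGroup.mk' C y) ∣ Nat.card K :=
        (orderOf_map_dvd _ y).trans (Subgroup.orderOf_dvd_natCard (s := K) hy)
      have h2 : orderOf (QuotientGroup.mk' C y) ∣ C.index := by
        rw [Subgroup.index_eq_card]; exact orderOf_dvd_natCard _
      have h3 : ¬ p ∣ Nat.card K := by
        rw [← hK.symm.index_eq_card]; exact P.not_dvd_index
      refine (QuotientGroup.eq_one_iff _).mp (orderOf_eq_one_iff.mp ?_)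
      by_contra hne
      obtain ⟨q, hq, hqd⟩ := Nat.exists_prime_and_dvd hne
      by_cases hqp : q = p
      · exact h3 (hqp ▸ hqd.trans h1)
      · exact hind q hq hqp (hqd.trans h2)
    have hsup := hK.sup_eq_top
    refine ⟨P, K, hPn, ?_, hK.disjoint.eq_bot, hsup⟩
    rw [← Subgroup.normalizer_eq_top_iff, eq_top_iff, ← hsup, sup_le_iff]
    refine ⟨fun z hz => Subgroup.mem_normalizer_iff.mpr fun y => ?_, Subgroup.le_normalizer⟩
    have hzk : ∀ k ∈ K, z * k * z⁻¹ = k := fun k hk => by
      rw [Subgroup.mem_centralizer_iff.mp (hKC hk) z hz, mul_inv_cancel_right]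
    constructor
    · intro hy; rw [hzk y hy]; exact hy
    · intro hy
      have h1 := hzk _ hy
      have : y = z * y * z⁻¹ := mul_left_cancel (a := z) (mul_right_cancel (b := z⁻¹) h1.symm)
      rw [this]; exact hy

end Cfsg.Agent.S3986
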