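import Cfsg.Statements.S3987
import Cfsg.Agent.Lib.Elem.PrimaryParts
-- import your own Cfsg.Agent.* helpers here

set_option autoImplicit false
open Cfsg

namespace Cfsg.Agent.S3987

/-- A subgroup containing all elements of `q`-power order has index prime to `q`. -/
theorem not_dvd_index_of_mem {G : Type*} [Group G] [Finite G] {q : ℕ} (hq : q.Prime) (H : Subgroup G)
    (h : ∀ z : G, ∀ k, orderOf z = q ^ k → z ∈ H) : ¬ q ∣ H.index := by
  have : Fact q.Prime := ⟨hq⟩
  obtain ⟨Q⟩ : Nonempty (Sylow q G) := inferInstance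
  have hle : (Q : Subgroup G) ≤ H := fun z hz => by
    obtain ⟨k, hk⟩ := IsPGroup.iff_orderOf.mp Q.2 ⟨z, hz⟩
    rw [Subgroup.orderOf_mk] at hk
    exact h z k hk
  exact fun hd => Q.not_dvd_index (hd.trans (Subgroup.index_dvd_of_le hle))

/-- Let p be a prime and G a finite group. Then some Sylow p-subgroup of G is a direct factor of G (normal with a normal complement) if and only if for every element x of p-power order and every element y whose order is a power of a prime other than p, the conjugacy class of x y has as many elements as the product of the sizes of the classes of x and of y. -/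
theorem result {G : Type*} [Group G] [Finite G] (p : ℕ) [Fact p.Prime] : (∃ (P : Sylow p G) (K : Subgroup G), (P : Subgroup G).Normal ∧ K.Normal ∧ (P : Subgroup G) ⊓ K = ⊥ ∧ (P : Subgroup G) ⊔ K = ⊤) ↔ ∀ x y : G, (∃ a : ℕ, orderOf x = p ^ a) → (∃ q b : ℕ, q.Prime ∧ q ≠ p ∧ orderOf y = q ^ b) → (Subgroup.centralizer ({x * y} : Set G)).index = (Subgroup.centralizer ({x} : Set G)).index * (Subgroup.centralizer ({y} : Set G)).index := by
  classical
  have hp : p.Prime := Fact.out
  constructor
  · rintro ⟨P, K, hPn, hKn, hinf, hsup⟩ x y ⟨a, ha⟩ ⟨q, b, hq, hqp, hb⟩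
    have hidx : K.index = Nat.card (P : Subgroup G) :=
      (Subgroup.IsComplement'.index_eq_card (Subgroup.isComplement'_of_disjoint_and_mul_eq_univ
        (disjoint_iff.mpr hinf) (by rw [← Subgroup.normal_mul, hsup]; rfl)))
    have hxP : x ∈ (P : Subgroup G) := by
      obtain ⟨S, hS⟩ := (IsPGroup.of_card (p := p) (n := a) (by rw [Nat.card_zpowers, ha]) :
        IsPGroup p (Subgroup.zpowers x)).exists_le_sylow
      have : Subsingleton (Sylow p G) := (Sylow.unique_of_normal P hPn).instSubsingleton
      rw [Subsingleton.elim P S]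
      exact hS (Subgroup.mem_zpowers x)
    have hyK : y ∈ K := by
      rw [← QuotientGroup.eq_one_iff, ← orderOf_eq_one_iff]
      obtain ⟨c, hc⟩ := IsPGroup.iff_card.mp P.2
      have h1 := orderOf_map_dvd (QuotientGroup.mk' K) y
      have h2 : orderOf (QuotientGroup.mk' K y) ∣ p ^ c := by
        rw [← hc, ← hidx, Subgroup.index_eq_card]; exact orderOf_dvd_natCard _
      rw [hb] at h1
      exact Nat.eq_one_of_dvd_coprimes (Nat.Coprime.pow b c ((Nat.coprime_primes hq hp).mpr hqp)) h1 h2
    have hcomm : ∀ u ∈ (P : Subgroup G), ∀ v ∈ K, u * v = v * u := fun u hu v hv =>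
      Subgroup.commute_of_normal_of_disjoint _ _ hPn hKn (disjoint_iff.mpr hinf) u v hu hv
    let f : G → (G ⧸ Subgroup.centralizer ({x} : Set G)) × (G ⧸ Subgroup.centralizer ({y} : Set G)) :=
      fun g => (QuotientGroup.mk g, QuotientGroup.mk g)
    have hC : Subgroup.centralizer ({x * y} : Set G) = Subgroup.centralizer {x} ⊓ Subgroup.centralizer {y} := by
      ext g
      simp only [Subgroup.mem_inf, Subgroup.mem_centralizer_singleton_iff]
      constructor
      · intro h
        obtain ⟨u, hu, v, hv, rfl⟩ : ∃ u ∈ (P : Subgroup G), ∃ v ∈ K, u * v = g := by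
          have hg : g ∈ (↑((P : Subgroup G) ⊔ K) : Set G) := hsup ▸ Subgroup.mem_top g
          rwa [Subgroup.normal_mul] at hg
        have h' : (u * x) * (v * y) = (x * u) * (y * v) := by
          calc (u * x) * (v * y) = u * (x * v) * y := by group
            _ = (u * v) * (x * y) := by rw [hcomm x hxP v hv]; group
            _ = (x * y) * (u * v) := h
            _ = x * (y * u) * v := by group
            _ = (x * u) * (y * v) := by rw [← hcomm u hu y hyK]; group
        have h1 : (x * u)⁻¹ * (u * x) = (y * v) * (v * y)⁻¹ := by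
          rw [eq_mul_inv_iff_mul_eq, mul_assoc, h', inv_mul_cancel_left]
        have h2 : (x * u)⁻¹ * (u * x) ∈ (P : Subgroup G) ⊓ K :=
          Subgroup.mem_inf.mpr ⟨mul_mem (inv_mem (mul_mem hxP hu)) (mul_mem hu hxP), h1.symm ▸ (mul_mem (mul_mem hyK hv) (inv_mem (mul_mem hv hyK)) : y * v * (v * y)⁻¹ ∈ K)⟩
        rw [hinf, Subgroup.mem_bot, inv_mul_eq_one] at h2
        have h3 : v * y = y * v := by rw [← h2] at h'; exact mul_left_cancel h'
        constructor
        · calc u * v * x = u * (v * x) := by group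
            _ = (u * x) * v := by rw [← hcomm x hxP v hv]; group
            _ = (x * u) * v := by rw [h2]
            _ = _ := by group
        · calc u * v * y = u * (v * y) := by group
            _ = (u * y) * v := by rw [h3]; group
            _ = y * (u * v) := by rw [hcomm u hu y hyK]; group
      · rintro ⟨h1, h2⟩
        rw [← mul_assoc, h1, mul_assoc, h2, mul_assoc]
    rw [hC]
    refine Nat.le_antisymm Subgroup.index_inf_le ?_
    -- surjectivity onto pairs of cosets
    rw [Subgroup.index_eq_card, Subgroup.index_eq_card, Subgroup.index_eq_card, ← Nat.card_prod]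
    refine Nat.card_le_card_of_surjective
      (Quotient.lift f fun g g' h => by
        have h' := QuotientGroup.leftRel_apply.mp h
        exact Prod.ext (QuotientGroup.eq.mpr h'.1) (QuotientGroup.eq.mpr h'.2)) ?_
    rintro ⟨c, d⟩
    obtain ⟨g, rfl⟩ := QuotientGroup.mk_surjective c
    obtain ⟨g', rfl⟩ := QuotientGroup.mk_surjective d
    have split : ∀ z : G, ∃ u ∈ (P : Subgroup G), ∃ v ∈ K, u * v = z := fun z => by
      have hg : z ∈ (↑((P : Subgroup G) ⊔ K) : Set G) := hsup ▸ Subgroup.mem_top z
      rwa [Subgroup.normal_mul] at hg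
    obtain ⟨u, hu, v, hv, rfl⟩ := split g
    obtain ⟨u', hu', v', hv', rfl⟩ := split g'
    refine ⟨QuotientGroup.mk (u * v'), Prod.ext ?_ ?_⟩
    · refine QuotientGroup.eq.mpr (Subgroup.mem_centralizer_singleton_iff.mpr ?_)
      rw [show (u * v')⁻¹ * (u * v) = v'⁻¹ * v by group]
      exact (hcomm x hxP _ (mul_mem (inv_mem hv') hv)).symm
    · refine QuotientGroup.eq.mpr (Subgroup.mem_centralizer_singleton_iff.mpr ?_)
      rw [hcomm u hu v' hv', hcomm u' hu' v' hv', show (v' * u)⁻¹ * (v' * u') = u⁻¹ * u' by group]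
      exact hcomm _ (mul_mem (inv_mem hu) hu') y hyK
  · intro h
    have key : ∀ x y : G, (∃ a : ℕ, orderOf x = p ^ a) → (∃ q b : ℕ, q.Prime ∧ q ≠ p ∧ orderOf y = q ^ b) → x * y = y * x := by
      intro x y hx hy
      have hidx := h x y hx hy
      have cw : ∀ (z : G) (g g' : G), g⁻¹ * g' ∈ Subgroup.centralizer ({z} : Set G) → g * z * g⁻¹ = g' * z * g'⁻¹ := fun z g g' hg => by
        rw [Subgroup.mem_centralizer_singleton_iff] at hg
        calc g * z * g⁻¹ = g * (z * (g⁻¹ * g')) * g'⁻¹ := by group
          _ = g * (g⁻¹ * g' * z) * g'⁻¹ := by rw [hg]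
          _ = g' * z * g'⁻¹ := by group
      let F : (G ⧸ Subgroup.centralizer ({x} : Set G)) × (G ⧸ Subgroup.centralizer ({y} : Set G)) → G :=
        fun cd => Quotient.lift (fun g => g * x * g⁻¹) (fun g g' h => cw x g g' (QuotientGroup.leftRel_apply.mp h)) cd.1 *
          Quotient.lift (fun g => g * y * g⁻¹) (fun g g' h => cw y g g' (QuotientGroup.leftRel_apply.mp h)) cd.2
      let J : G ⧸ Subgroup.centralizer ({x * y} : Set G) → G :=
        Quotient.lift (fun g => g * (x * y) * g⁻¹) (fun g g' h => cw (x * y) g g' (QuotientGroup.leftRel_apply.mp h))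
      have hJ : Function.Injective J := by
        intro c d e
        obtain ⟨g, rfl⟩ := QuotientGroup.mk_surjective c
        obtain ⟨g', rfl⟩ := QuotientGroup.mk_surjective d
        change g * (x * y) * g⁻¹ = g' * (x * y) * g'⁻¹ at e
        refine QuotientGroup.eq.mpr (Subgroup.mem_centralizer_singleton_iff.mpr ?_)
        calc g⁻¹ * g' * (x * y) = g⁻¹ * (g' * (x * y) * g'⁻¹) * g' := by group
          _ = g⁻¹ * (g * (x * y) * g⁻¹) * g' := by rw [e]
          _ = x * y * (g⁻¹ * g') := by group
      have : Fintype G := Fintype.ofFinite G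
      have hFinj : Function.Injective F := by
        have hsub : Set.range J ⊆ Set.range F := by
          rintro _ ⟨c, rfl⟩
          obtain ⟨g, rfl⟩ := QuotientGroup.mk_surjective c
          exact ⟨(QuotientGroup.mk g, QuotientGroup.mk g), show g * x * g⁻¹ * (g * y * g⁻¹) = g * (x * y) * g⁻¹ by group⟩
        have h1 := Set.ncard_le_ncard hsub (Set.toFinite _)
        rw [← Nat.card_coe_set_eq, ← Nat.card_coe_set_eq, Nat.card_range_of_injective hJ,
          ← Subgroup.index_eq_card, hidx, Subgroup.index_eq_card, Subgroup.index_eq_card, ← Nat.card_prod] at h1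
        have : Fintype ((G ⧸ Subgroup.centralizer ({x} : Set G)) × (G ⧸ Subgroup.centralizer ({y} : Set G))) := Fintype.ofFinite _
        rw [← Set.image_univ, ← Finset.coe_univ, ← Finset.coe_image, Nat.card_coe_set_eq, Set.ncard_coe_finset,
          Nat.card_eq_fintype_card, ← Finset.card_univ] at h1
        have h2 := Finset.injOn_of_card_image_eq (le_antisymm Finset.card_image_le h1)
        exact fun a b e => h2 (Finset.mem_univ a) (Finset.mem_univ b) e
      have := @hFinj (QuotientGroup.mk 1, QuotientGroup.mk x⁻¹) (QuotientGroup.mk y, QuotientGroup.mk 1)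
        (show 1 * x * 1⁻¹ * (x⁻¹ * y * x⁻¹⁻¹) = y * x * y⁻¹ * (1 * y * 1⁻¹) by group)
      have hc := QuotientGroup.eq.mp (congrArg Prod.fst this)
      rw [Subgroup.mem_centralizer_singleton_iff] at hc
      simpa using hc.symm
    obtain ⟨P⟩ : Nonempty (Sylow p G) := inferInstance
    have hcent : ∀ y : G, ¬ p ∣ orderOf y → y ∈ Subgroup.centralizer ((P : Subgroup G) : Set G) := by
      intro y hy
      refine CfsgLib.PrimaryParts.mem_of_primePow_parts fun z hz q k hq hzk => Subgroup.mem_centralizer_iff.mpr fun x hx => ?_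
      obtain ⟨a, ha⟩ := IsPGroup.iff_orderOf.mp P.2 ⟨x, hx⟩
      rw [Subgroup.orderOf_mk] at ha
      rcases k with _ | k
      · rw [pow_zero, orderOf_eq_one_iff] at hzk
        rw [hzk, mul_one, one_mul]
      · refine key x z ⟨a, ha⟩ ⟨q, k + 1, hq, fun e => hy ?_, hzk⟩
        have h1 : orderOf z ∣ orderOf y := orderOf_dvd_of_mem_zpowers hz
        rw [hzk, e] at h1
        exact (dvd_pow_self p k.succ_ne_zero).trans h1
    have hPn : (P : Subgroup G).Normal := by
      refine Subgroup.normalizer_eq_top_iff.mp (eq_top_iff.mpr fun g _ => ?_)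
      have hidxN : (Subgroup.normalizer ((P : Subgroup G) : Set G)).index = 1 := by
        by_contra hne
        obtain ⟨q, hq, hqd⟩ := Nat.exists_prime_and_dvd hne
        have hqp : q ≠ p := fun e => P.not_dvd_index ((dvd_of_eq e.symm).trans (hqd.trans (Subgroup.index_dvd_of_le Subgroup.le_normalizer)))
        refine not_dvd_index_of_mem hq _ (fun z k hk => ?_) hqd
        exact Subgroup.centralizer_le_normalizer _ (hcent z (fun hd => hqp
          ((Nat.prime_dvd_prime_iff_eq hp hq).mp (hp.dvd_of_dvd_pow (hk ▸ hd))).symm))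
      exact (Subgroup.index_eq_one.mp hidxN).symm ▸ Subgroup.mem_top g
    obtain ⟨K, hK⟩ := Subgroup.exists_right_complement'_of_coprime (N := (P : Subgroup G)) P.card_coprime_index
    refine ⟨P, K, hPn, ?_, hK.disjoint.eq_bot, hK.sup_eq_top⟩
    have hKc : K ≤ Subgroup.centralizer ((P : Subgroup G) : Set G) := fun z hz => hcent z fun hd => by
      have h1 := (hd.trans (Subgroup.orderOf_dvd_natCard K hz))
      rw [← hK.symm.index_eq_card] at h1
      exact P.not_dvd_index h1
    refine Subgroup.normalizer_eq_top_iff.mp (eq_top_iff.mpr (hK.sup_eq_top.ge.trans (sup_le (fun u hu => ?_) Subgroup.le_normalizer)))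
    refine Subgroup.mem_normalizer_iff.mpr fun z => ⟨fun hz => ?_, fun hz => ?_⟩
    · rwa [Subgroup.mem_centralizer_iff.mp (hKc hz) u hu, mul_inv_cancel_right]
    · have := Subgroup.mem_centralizer_iff.mp (hKc hz) u hu
      have e : z = u * z * u⁻¹ := by
        calc z = u⁻¹ * ((u * z * u⁻¹) * u) := by group
          _ = u⁻¹ * (u * (u * z * u⁻¹)) := by rw [← this]
          _ = u * z * u⁻¹ := by group
      rwa [e]

end Cfsg.Agent.S3987
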