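import Cfsg.Statements.S3989
import Cfsg.Agent.Lib.Transfer.Frobenius
import Cfsg.Agent.Lib.Fusion.ResidualSeries
import Cfsg.Agent.Lib.CentMaxNormal.Basic
import Cfsg.Agent.Lib.ClassSize.PPrime

/-!
`p`-solvability from the multiplicativity of the classes of `p`-elements and of prime-power
`p'`-elements.  If `c` is a `p`-element and `y` a `q`-element with `c * y` conjugate to `y`, then
the conjugates of `c` map the class of `y` into itself by left multiplication, so the normal
closure of `c` does; in a minimal normal subgroup `N` this forces `c = 1`, hence every `p'`-element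
of `N` normalizing a `p`-subgroup of `N` centralizes it and Frobenius' criterion applies.
-/

set_option autoImplicit false
set_option linter.style.haveILetI false
open Cfsg

namespace Cfsg.Agent.S3989

universe u

/-- The hypothesis of the statement. -/
def ClassMul (p : ℕ) (G : Type u) [Group G] : Prop :=
  ∀ x y : G, (∃ a : ℕ, orderOf x = p ^ a) → (∃ q b : ℕ, q.Prime ∧ q ≠ p ∧ orderOf y = q ^ b) →
    ∀ z : G, IsConj (x * y) z ↔ ∃ a b : G, z = a * x * a⁻¹ * (b * y * b⁻¹)

theorem classMul_quotient {G : Type u} [Group G] [Finite G] {p : ℕ} [Fact p.Prime]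
    (h : ClassMul p G) (N : Subgroup G) [N.Normal] : ClassMul p (G ⧸ N) := by
  intro x' y' hx' ⟨q, b, hq, hqp, hy'⟩ z'
  haveI := Fact.mk hq
  obtain ⟨x, hx, rfl⟩ := CfsgLib.ClassSize.exists_lift x' hx'
  obtain ⟨y, ⟨j, hy⟩, rfl⟩ := CfsgLib.ClassSize.exists_lift (p := q) y' ⟨b, hy'⟩
  constructor
  · intro hc
    obtain ⟨c', rfl⟩ := isConj_iff.mp hc
    obtain ⟨c, rfl⟩ := QuotientGroup.mk_surjective c'
    obtain ⟨a, b, hab⟩ :=
      (h x y hx ⟨q, j, hq, hqp, hy⟩ (c * (x * y) * c⁻¹)).mp (isConj_iff.mpr ⟨c, rfl⟩)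
    refine ⟨(a : G ⧸ N), (b : G ⧸ N), ?_⟩
    simpa using congrArg (fun t : G => (t : G ⧸ N)) hab
  · rintro ⟨a', b', rfl⟩
    obtain ⟨a, rfl⟩ := QuotientGroup.mk_surjective a'
    obtain ⟨b, rfl⟩ := QuotientGroup.mk_surjective b'
    have h1 := (h x y hx ⟨q, j, hq, hqp, hy⟩ _).mpr ⟨a, b, rfl⟩
    simpa using (QuotientGroup.mk' N).map_isConj h1

/-- In a minimal normal subgroup, a `p`-element `c` with `c * y` conjugate to `y` is trivial. -/
theorem eq_one_of_isConj {G : Type u} [Group G] [Finite G] {p : ℕ} (h : ClassMul p G)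
    {N : Subgroup G} [N.Normal] (hmin : ∀ M : Subgroup G, M.Normal → M ≤ N → M ≠ ⊥ → M = N)
    {c y : G} (hcN : c ∈ N) (hyN : y ∈ N) (hc : ∃ a : ℕ, orderOf c = p ^ a)
    (hy : ∃ q b : ℕ, q.Prime ∧ q ≠ p ∧ orderOf y = q ^ b) (hconj : IsConj (c * y) y) :
    c = 1 := by
  by_contra hc1
  have hmem : ∀ m ∈ Subgroup.normalClosure ({c} : Set G), ∀ z, IsConj y z → IsConj y (m * z) := by
    intro m hm
    induction hm using Subgroup.closure_induction with
    | mem m hm =>
      intro z hz
      obtain ⟨c₀, hc₀, hcm⟩ := Group.mem_conjugatesOfSet_iff.mp hm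
      rw [Set.mem_singleton_iff] at hc₀
      subst hc₀
      obtain ⟨a, rfl⟩ := isConj_iff.mp hcm
      obtain ⟨b, rfl⟩ := isConj_iff.mp hz
      exact hconj.symm.trans ((h c₀ y hc hy _).mpr ⟨a, b, rfl⟩)
    | one => intro z hz; rwa [one_mul]
    | mul a b _ _ ha hb => intro z hz; rw [mul_assoc]; exact ha _ (hb _ hz)
    | inv m _ hm' =>
      have hpow : ∀ n : ℕ, ∀ z, IsConj y z → IsConj y (m ^ n * z) := by
        intro n
        induction n with
        | zero => intro z hz; rwa [pow_zero, one_mul]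
        | succ n ih => intro z hz; rw [pow_succ, mul_assoc]; exact ih _ (hm' _ hz)
      have hinv : m ^ (orderOf m - 1) = m⁻¹ := by
        rw [eq_inv_iff_mul_eq_one, ← pow_succ, Nat.sub_add_cancel (orderOf_pos m),
          pow_orderOf_eq_one]
      intro z hz
      rw [← hinv]
      exact hpow _ z hz
  have hN : Subgroup.normalClosure ({c} : Set G) = N := by
    refine hmin _ Subgroup.normalClosure_normal
      (Subgroup.normalClosure_le_normal (Set.singleton_subset_iff.mpr hcN)) fun e => hc1 ?_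
    have : c ∈ Subgroup.normalClosure ({c} : Set G) := Subgroup.subset_normalClosure rfl
    rwa [e, Subgroup.mem_bot] at this
  have hy1 : IsConj y (y⁻¹ * y) := hmem y⁻¹ (hN ▸ inv_mem hyN) y (IsConj.refl y)
  rw [inv_mul_cancel, isConj_one_left] at hy1
  subst hy1
  rw [mul_one, isConj_one_left] at hconj
  exact hc1 hconj

theorem isPSolvable_of_classMul {p : ℕ} [Fact p.Prime] :
    ∀ (n : ℕ) (G : Type u) [Group G] [Finite G], Nat.card G = n → ClassMul p G →
      Cfsg.IsPSolvable p G := by
  intro n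
  induction n using Nat.strong_induction_on with
  | _ n ih =>
  intro G _ _ hn h
  by_cases hG : Subsingleton G
  · exact CfsgLib.Fusion.ResidualSeries.isPSolvable_of_coprime
      (by rw [Nat.card_of_subsingleton (1 : G)]; exact Nat.coprime_one_left p)
  rw [not_subsingleton_iff_nontrivial] at hG
  obtain ⟨N, ⟨hNn, hNne⟩, hNmin⟩ := wellFounded_lt.has_min
    {M : Subgroup G | M.Normal ∧ M ≠ ⊥} ⟨⊤, inferInstance, top_ne_bot⟩
  haveI := hNn
  have hmin : ∀ M : Subgroup G, M.Normal → M ≤ N → M ≠ ⊥ → M = N := fun M hM hle hne =>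
    hle.eq_of_not_lt (hNmin M ⟨hM, hne⟩)
  have hq : Cfsg.IsPSolvable p (G ⧸ N) := by
    refine ih _ ?_ (G ⧸ N) rfl (classMul_quotient h N)
    rw [← hn, Subgroup.card_eq_card_quotient_mul_card_subgroup N]
    exact lt_mul_of_one_lt_right Nat.card_pos (N.one_lt_card_iff_ne_bot.2 hNne)
  refine CfsgLib.PSolvable.isPSolvable_of_quotient N ?_ hq
  have haut : CfsgLib.Transfer.PAutomizers p N := by
    intro Q hQ g hg hgc
    refine CfsgLib.CentMaxNormal.mem_of_prime_power_parts fun y hy r k hr hyk => ?_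
    have hyn : y ∈ Subgroup.normalizer (Q : Set N) :=
      (Subgroup.zpowers_le.mpr hg) hy
    rcases eq_or_ne r p with rfl | hrp
    · have h1 : (orderOf y).Coprime r :=
        Nat.Coprime.coprime_dvd_left (orderOf_dvd_of_mem_zpowers hy) hgc
      rw [hyk] at h1
      rcases Nat.eq_zero_or_pos k with rfl | hk
      · rw [pow_zero, orderOf_eq_one_iff] at hyk
        subst hyk
        exact one_mem _
      · exact absurd ((Nat.coprime_pow_left_iff hk r r).mp h1)
          (by rw [Nat.coprime_self]; exact hr.ne_one)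
    rw [Subgroup.mem_centralizer_iff]
    intro x hx
    set c : N := y⁻¹ * x⁻¹ * y * x with hc
    have hcQ : c ∈ Q := by
      refine mul_mem ?_ hx
      have := (Subgroup.mem_normalizer_iff.mp (inv_mem hyn) x⁻¹).mp (inv_mem hx)
      rwa [inv_inv] at this
    have hc1 : (c : G) = 1 := by
      refine eq_one_of_isConj h hmin c.2 y.2 ?_ ⟨r, k, hr, hrp, by rwa [Subgroup.orderOf_coe]⟩ ?_
      · obtain ⟨j, hj⟩ := IsPGroup.iff_orderOf.mp hQ ⟨c, hcQ⟩
        refine ⟨j, ?_⟩
        rw [Subgroup.orderOf_coe, ← hj, ← Subgroup.orderOf_coe ⟨c, hcQ⟩]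
      · rw [isConj_iff]
        refine ⟨(x : G) * (y : G), ?_⟩
        simp only [hc, Subgroup.coe_mul, Subgroup.coe_inv]
        group
    have hc2 : c = 1 := Subtype.ext hc1
    calc x * y = x * y * c := by rw [hc2, mul_one]
      _ = y * x := by rw [hc]; group
  have hcomp := CfsgLib.Transfer.hasNormalPComplement_of_pAutomizers haut
  have hKn : ((Cfsg.pPrimeCore p N).map N.subtype).Normal :=
    CfsgLib.PSolvable.normal_map_of_characteristic N _
  rcases eq_or_ne ((Cfsg.pPrimeCore p N).map N.subtype) ⊥ with he | he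
  · left
    rw [Subgroup.map_eq_bot_iff_of_injective _ N.subtype_injective,
      CfsgLib.Transfer.pPrimeCore_eq_pResidual hcomp] at he
    haveI := CfsgLib.Transfer.pResidual_normal p N
    intro x
    obtain ⟨j, hj⟩ := CfsgLib.Transfer.isPGroup_quotient_pResidual
      (x : N ⧸ Cfsg.pResidual p N)
    refine ⟨j, ?_⟩
    rwa [← QuotientGroup.mk_pow, QuotientGroup.eq_one_iff, he, Subgroup.mem_bot] at hj
  · right
    have he' := hmin _ hKn (Subgroup.map_subtype_le _) he
    rw [← he', Subgroup.card_map_of_injective N.subtype_injective]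
    exact CfsgLib.Transfer.pPrimeCore_coprime p

/-- Let p be a prime and G a finite group such that for every element x of p-power order and every element y whose order is a power of a prime other than p, the conjugacy class of x y is the set of all products of a conjugate of x with a conjugate of y. Then G is p-solvable. -/
theorem result {G : Type*} [Group G] [Finite G] (p : ℕ) [Fact p.Prime] (h : ∀ x y : G, (∃ a : ℕ, orderOf x = p ^ a) → (∃ q b : ℕ, q.Prime ∧ q ≠ p ∧ orderOf y = q ^ b) → ∀ z : G, IsConj (x * y) z ↔ ∃ a b : G, z = a * x * a⁻¹ * (b * y * b⁻¹)) : Cfsg.IsPSolvable p G :=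
  isPSolvable_of_classMul _ G rfl h

end Cfsg.Agent.S3989
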