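import Cfsg.Statements.S3994
import Cfsg.Agent.Lib.Frobenius.Roots

set_option autoImplicit false
open Cfsg

namespace Cfsg.Agent.S3994

/-- Let G be a finite group and n a positive integer. The number of elements of G whose order is divisible by n is either 0 or divisible by the largest divisor of the order of G that is coprime to n. -/
theorem result {G : Type*} [Group G] [Finite G] (n : ℕ) (hn : 0 < n) :
    Nat.card {g : G // n ∣ orderOf g} = 0 ∨
      (Nat.card G / Nat.gcd (Nat.card G) (n ^ Nat.card G)) ∣ Nat.card {g : G // n ∣ orderOf g} := by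
  right
  have hG : 0 < Nat.card G := Nat.card_pos
  set m := Nat.card G / Nat.gcd (Nat.card G) (n ^ Nat.card G) with hm
  rw [Nat.dvd_iff_prime_pow_dvd_dvd]
  intro p k hp hpk
  rcases Nat.eq_zero_or_pos k with rfl | hk
  · rw [pow_zero]; exact one_dvd _
  obtain ⟨a, ha⟩ : ∃ a, a = (Nat.card G).factorization p := ⟨_, rfl⟩
  have hpG : p ^ a ∣ Nat.card G := ha ▸ Nat.ordProj_dvd _ p
  have hmax : ∀ j, p ^ j ∣ Nat.card G → j ≤ a := fun j hj =>
    ha ▸ (hp.pow_dvd_iff_le_factorization hG.ne').mp hj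
  have hgm : Nat.gcd (Nat.card G) (n ^ Nat.card G) * m = Nat.card G :=
    Nat.mul_div_cancel' (Nat.gcd_dvd_left _ _)
  have hpn : ¬ p ∣ n := by
    intro h
    have haG : a ≤ Nat.card G :=
      (Nat.lt_pow_self hp.one_lt).le.trans (Nat.le_of_dvd hG hpG)
    have h1 : p ^ a ∣ Nat.gcd (Nat.card G) (n ^ Nat.card G) :=
      Nat.dvd_gcd hpG ((pow_dvd_pow p haG).trans (pow_dvd_pow_of_dvd h _))
    have h2 := hmax (a + k) (by rw [← hgm, pow_add]; exact Nat.mul_dvd_mul h1 hpk)
    omega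
  have hk' : k ≤ a := hmax k (hpk.trans (Dvd.intro_left _ hgm))
  have hS := CfsgLib.Frobenius.gcd_dvd_card_pow_mem (G := G) (p ^ a)
    (fun y => ¬ p ∣ orderOf y ∧ n ∣ orderOf y) (fun y g hy => by
      rw [← MulAut.conj_apply, MulEquiv.orderOf_eq]; exact hy)
  rw [Nat.gcd_eq_left hpG] at hS
  refine (pow_dvd_pow p hk').trans (hS.trans (dvd_of_eq (Nat.card_congr (Equiv.subtypeEquivRight fun x => ?_))))
  rw [orderOf_pow]
  obtain ⟨j, hj, hgcd⟩ := (Nat.dvd_prime_pow hp).mp (Nat.gcd_dvd_right (orderOf x) (p ^ a))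
  rw [hgcd]
  have hjd : p ^ j ∣ orderOf x := hgcd ▸ Nat.gcd_dvd_left _ _
  constructor
  · intro h
    exact h.2.trans (Nat.div_dvd_of_dvd hjd)
  · intro h
    refine ⟨fun hd => ?_, ?_⟩
    · have h1 : p ^ (j + 1) ∣ orderOf x := by
        have := Nat.mul_dvd_mul_left (p ^ j) hd
        rwa [Nat.mul_div_cancel' hjd, ← pow_succ] at this
      have h2 : j + 1 ≤ a := hmax _ (h1.trans (orderOf_dvd_natCard x))
      have h3 : p ^ (j + 1) ∣ Nat.gcd (orderOf x) (p ^ a) := Nat.dvd_gcd h1 (pow_dvd_pow p h2)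
      rw [hgcd, Nat.pow_dvd_pow_iff_le_right hp.one_lt] at h3
      omega
    · refine (Nat.Coprime.dvd_mul_left ?_).mp (by rwa [Nat.mul_div_cancel' hjd] : n ∣ p ^ j * (orderOf x / p ^ j))
      exact ((hp.coprime_iff_not_dvd.mpr hpn).pow_left j).symm

end Cfsg.Agent.S3994
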