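import Cfsg.Statements.S3995
import Cfsg.Agent.Lib.ZStar.Recognize
import Cfsg.Agent.Lib.Frobenius.OrderCount
import Cfsg.Agent.Lib.Frobenius.Roots

set_option autoImplicit false
set_option linter.style.haveILetI false
open Cfsg

namespace Cfsg.Agent.S3995

variable {K : Type*} [Group K] [Finite K]

/-- number of elements of a given order -/
noncomputable def cnt (K : Type*) [Group K] (m : ℕ) : ℕ := Nat.card {g : K // orderOf g = m}

theorem cnt_one : cnt K 1 = 1 := by
  refine Nat.card_eq_one_iff_unique.mpr ⟨⟨fun a b => Subtype.ext ?_⟩, ⟨⟨1, orderOf_one⟩⟩⟩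
  rw [orderOf_eq_one_iff.mp a.2, orderOf_eq_one_iff.mp b.2]

theorem totient_dvd_cnt (m : ℕ) : m.totient ∣ cnt K m := by
  classical
  have := Fintype.ofFinite K
  rw [cnt, Nat.card_eq_fintype_card, Fintype.card_subtype, Finset.card_eq_sum_card_image (fun g : K => Subgroup.zpowers g)]
  refine Finset.dvd_sum fun C hC => dvd_of_eq ?_
  obtain ⟨g, hg, rfl⟩ := Finset.mem_image.mp hC
  have hgo : orderOf g = m := (Finset.mem_filter.mp hg).2
  rw [← IsCyclic.card_orderOf_eq_totient (α := Subgroup.zpowers g) (d := m)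
    (by rw [← Nat.card_eq_fintype_card, Nat.card_zpowers, hgo])]
  refine Finset.card_bij (fun a _ => (a : K)) (fun a ha => ?_) (fun a _ b _ h => Subtype.ext h) (fun b hb => ?_)
  · have ha' := (Finset.mem_filter.mp ha).2
    rw [← Subgroup.orderOf_coe] at ha'
    simp only [Finset.mem_filter, Finset.mem_univ, true_and]
    exact ⟨ha', Subgroup.eq_of_le_of_card_ge (Subgroup.zpowers_le.mpr a.2)
      (by rw [Nat.card_zpowers, Nat.card_zpowers, ha', hgo])⟩
  · simp only [Finset.mem_filter, Finset.mem_univ, true_and] at hb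
    refine ⟨⟨b, hb.2 ▸ Subgroup.mem_zpowers b⟩, ?_, rfl⟩
    simp only [Finset.mem_filter, Finset.mem_univ, true_and, ← Subgroup.orderOf_coe]
    exact hb.1

theorem prime_dvd_succ_cnt {p : ℕ} (hp : p.Prime) (hd : p ∣ Nat.card K) : p ∣ 1 + cnt K p := by
  have h := CfsgLib.Frobenius.gcd_dvd_card_pow_mem (G := K) p (fun y => y = 1)
    (fun y g hy => by subst hy; simp)
  rw [Nat.gcd_eq_left hd, CfsgLib.Frobenius.card_pow_eq_one_eq_sum p hp.ne_zero, hp.sum_divisors,
    add_comm] at h
  exact (congrArg (· + cnt K p) (cnt_one (K := K))) ▸ h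

theorem card_eq (s : Finset ℕ) (hs : ∀ g : K, orderOf g ∈ s) : Nat.card K = ∑ m ∈ s, cnt K m := by
  classical
  have := Fintype.ofFinite K
  simp only [cnt, Nat.card_eq_fintype_card, Fintype.card_subtype]
  rw [← Finset.card_univ]
  exact Finset.card_eq_sum_card_fiberwise fun g _ => Finset.mem_coe.mpr (hs g)

theorem no_sq {n : ℕ} {p : ℕ} (hp : p.Prime) (hd : p ∣ 1 + n) (g : K) (hg : cnt K (orderOf g) = n) :
    ¬ p * p ∣ orderOf g := by
  intro h
  have h1 : p ∣ (p * p).totient := by
    rw [← pow_two, Nat.totient_prime_pow hp (by norm_num)]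
    simp
  have h2 : p ∣ n := (h1.trans (Nat.totient_dvd_of_dvd h)).trans (hg ▸ totient_dvd_cnt _)
  exact hp.not_dvd_one ((Nat.dvd_add_left h2).mp hd)

theorem caseA (n : ℕ) (hne : 1 < Nat.card K) (hA : ∀ g : K, g ≠ 1 → cnt K (orderOf g) = n) :
    ∃ p : ℕ, p.Prime ∧ IsPGroup p K ∧ Monoid.exponent K = p := by
  classical
  have := Fintype.ofFinite K
  have hsucc : ∀ p : ℕ, p.Prime → p ∣ Nat.card K → p ∣ 1 + n := fun p hp hd => by
    haveI : Fact p.Prime := ⟨hp⟩
    obtain ⟨g, hg⟩ := exists_prime_orderOf_dvd_card' (G := K) p hd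
    have hg1 : g ≠ 1 := fun e => hp.ne_one (by rw [← hg, e, orderOf_one])
    rw [← hA g hg1, hg]
    exact prime_dvd_succ_cnt hp hd
  set O : Finset ℕ := (Finset.univ.image fun g : K => orderOf g).erase 1 with hO
  set R := ∏ p ∈ (Nat.card K).primeFactors, p with hR
  have hRdvd : ∀ m ∈ O, m ∣ R := by
    intro m hm
    obtain ⟨hm1, hm2⟩ := Finset.mem_erase.mp hm
    obtain ⟨g, -, rfl⟩ := Finset.mem_image.mp hm2
    have hg1 : g ≠ 1 := fun e => hm1 (by rw [e, orderOf_one])
    have hsq : Squarefree (orderOf g) := Nat.squarefree_iff_prime_squarefree.mpr fun p hp h =>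
      no_sq hp (hsucc p hp ((Dvd.intro _ rfl : p ∣ p * p).trans (h.trans (orderOf_dvd_natCard g)))) g (hA g hg1) h
    rw [← Nat.prod_primeFactors_of_squarefree hsq]
    exact Finset.prod_dvd_prod_of_subset _ _ _
      (Nat.primeFactors_mono (orderOf_dvd_natCard g) Nat.card_pos.ne')
  have hcard : Nat.card K = 1 + O.card * n := by
    have h1 : (1 : ℕ) ∉ O := Finset.notMem_erase _ _
    rw [card_eq (insert 1 O) (fun g => by
      rcases eq_or_ne (orderOf g) 1 with h | h
      · rw [h]; exact Finset.mem_insert_self _ _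
      · exact Finset.mem_insert_of_mem (Finset.mem_erase.mpr ⟨h, Finset.mem_image_of_mem _ (Finset.mem_univ g)⟩)),
      Finset.sum_insert h1, cnt_one, Finset.sum_const_nat]
    intro m hm
    obtain ⟨hm1, hm2⟩ := Finset.mem_erase.mp hm
    obtain ⟨g, -, rfl⟩ := Finset.mem_image.mp hm2
    exact hA g fun e => hm1 (by rw [e, orderOf_one])
  have hO1 : 1 ≤ O.card := by
    rcases Nat.eq_zero_or_pos O.card with h | h
    · rw [h, zero_mul] at hcard; omega
    · exact h
  have hRk : R ∣ O.card - 1 := by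
    refine Finset.prod_primes_dvd _ (fun p hp => (Nat.prime_of_mem_primeFactors hp).prime) fun p hp => ?_
    obtain ⟨hpp, hpd, -⟩ := Nat.mem_primeFactors.mp hp
    have he : O.card * (1 + n) = (1 + O.card * n) + (O.card - 1) := by
      rw [Nat.mul_add, mul_one]; omega
    have h2 : p ∣ (1 + O.card * n) + (O.card - 1) := he ▸ Dvd.dvd.mul_left (hsucc p hpp hpd) _
    rw [← hcard] at h2
    exact (Nat.dvd_add_right hpd).mp h2
  have hRpos : 0 < R := Finset.prod_pos fun p hp => (Nat.prime_of_mem_primeFactors hp).pos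
  have hk : O.card ≤ R - 1 := by
    refine (Finset.card_le_card (t := Finset.Icc 2 R) fun m hm => Finset.mem_Icc.mpr ⟨?_, Nat.le_of_dvd hRpos (hRdvd m hm)⟩).trans ?_
    · obtain ⟨hm1, hm2⟩ := Finset.mem_erase.mp hm
      obtain ⟨g, -, rfl⟩ := Finset.mem_image.mp hm2
      have := orderOf_pos g
      omega
    · rw [Nat.card_Icc]; omega
  have hk1 : O.card = 1 := by
    have := Nat.eq_zero_of_dvd_of_lt hRk (by omega)
    omega
  obtain ⟨m, hm⟩ := Finset.card_eq_one.mp hk1
  obtain ⟨p, hp, hpd⟩ := Nat.exists_prime_and_dvd (show Nat.card K ≠ 1 by omega)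
  haveI : Fact p.Prime := ⟨hp⟩
  obtain ⟨g, hg⟩ := exists_prime_orderOf_dvd_card' (G := K) p hpd
  have hmp : p = m := Finset.mem_singleton.mp (hm ▸ Finset.mem_erase.mpr ⟨hp.ne_one, hg ▸ Finset.mem_image_of_mem _ (Finset.mem_univ g)⟩)
  have hexp : ∀ x : K, x ^ p = 1 := fun x => by
    rcases eq_or_ne (orderOf x) 1 with h | h
    · rw [orderOf_eq_one_iff.mp h, one_pow]
    · have hxO : orderOf x ∈ O := Finset.mem_erase.mpr ⟨h, Finset.mem_image_of_mem _ (Finset.mem_univ x)⟩
      rw [hm, Finset.mem_singleton] at hxO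
      rw [hmp, ← hxO, pow_orderOf_eq_one]
  refine ⟨p, hp, fun x => ⟨1, by rw [pow_one]; exact hexp x⟩, ?_⟩
  exact Nat.dvd_antisymm (Monoid.exponent_dvd_of_forall_pow_eq_one hexp) (hg ▸ Monoid.order_dvd_exponent g)

theorem no_odd_prime (n : ℕ) (z : K) (hz : orderOf z = 2) (huniq : ∀ x : K, orderOf x = 2 → x = z)
    (hB : ∀ g : K, 2 < orderOf g → cnt K (orderOf g) = n) (h4 : ∃ g : K, orderOf g = 4) :
    ∀ g : K, orderOf g ∣ 4 := by
  classical
  have := Fintype.ofFinite K
  have hzc : ∀ g : K, Commute g z := fun g => by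
    have h := huniq (g * z * g⁻¹) (by
      have := orderOf_injective (MulAut.conj g).toMonoidHom (MulEquiv.injective _) z
      simpa [hz] using this)
    exact mul_inv_eq_iff_eq_mul.mp h
  have hsucc : ∀ p : ℕ, p.Prime → p ≠ 2 → p ∣ Nat.card K → p ∣ 1 + n := fun p hp hp2 hd => by
    haveI : Fact p.Prime := ⟨hp⟩
    obtain ⟨g, hg⟩ := exists_prime_orderOf_dvd_card' (G := K) p hd
    have h3 := hp.two_le
    rw [← hB g (by omega), hg]
    exact prime_dvd_succ_cnt hp hd
  have h2d : 2 ∣ Nat.card K := hz ▸ orderOf_dvd_natCard z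
  obtain ⟨g4, hg4⟩ := h4
  have hn4 : cnt K 4 = n := hg4 ▸ hB g4 (by omega)
  have hn2 : cnt K 2 = 1 := Nat.card_eq_one_iff_unique.mpr
    ⟨⟨fun a b => Subtype.ext ((huniq a.1 a.2).trans (huniq b.1 b.2).symm)⟩, ⟨⟨z, hz⟩⟩⟩
  have hmod : 4 ∣ 2 + n := by
    have h4K : 4 ∣ Nat.card K := hg4 ▸ orderOf_dvd_natCard g4
    have h := CfsgLib.Frobenius.gcd_dvd_card_pow_mem (G := K) 4 (fun y => y = 1)
      (fun y g hy => by subst hy; simp)
    rw [Nat.gcd_eq_left h4K, CfsgLib.Frobenius.card_pow_eq_one_eq_sum 4 (by norm_num),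
      show Nat.divisors 4 = ({1, 2, 4} : Finset ℕ) by decide] at h
    change 4 ∣ ∑ d ∈ ({1, 2, 4} : Finset ℕ), cnt K d at h
    rw [Finset.sum_insert (by decide), Finset.sum_insert (by decide), Finset.sum_singleton, cnt_one,
      hn2, hn4, ← add_assoc] at h
    exact h
  have hn : ¬ 4 ∣ n := fun h => by
    have := (Nat.dvd_add_left h).mp hmod
    norm_num at this
  -- orders not dividing 4 are `d` or `2 d` with `d` odd
  have hshape : ∀ g : K, orderOf g ∣ 4 ∨ ¬ 4 ∣ orderOf g := by
    intro g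
    by_contra h
    push Not at h
    obtain ⟨⟨d, hd⟩, hnd⟩ := And.intro h.2 h.1
    have hg0 := orderOf_pos g
    have hd2 : 2 ≤ d := by
      rcases (show d = 0 ∨ d = 1 ∨ 2 ≤ d by omega) with rfl | rfl | hd'
      · omega
      · exact absurd (hd.trans (mul_one 4)).dvd hnd
      · exact hd'
    refine hn ((?_ : 4 ∣ (orderOf g).totient).trans (hB g (by omega) ▸ totient_dvd_cnt _))
    obtain ⟨q, hq, hqd⟩ := Nat.exists_prime_and_dvd (show d ≠ 1 by omega)
    rcases hq.eq_two_or_odd with rfl | hqo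
    · refine (?_ : 4 ∣ (2 ^ 3).totient).trans (Nat.totient_dvd_of_dvd ?_)
      · rw [Nat.totient_prime_pow Nat.prime_two (by norm_num)]; norm_num
      · rw [hd, show 2 ^ 3 = 4 * 2 from rfl]; exact Nat.mul_dvd_mul_left 4 hqd
    · refine (?_ : 4 ∣ (2 ^ 2 * q).totient).trans (Nat.totient_dvd_of_dvd ?_)
      · have hc : Nat.Coprime (2 ^ 2) q := (Nat.coprime_primes Nat.prime_two hq |>.mpr (by
          intro e; subst e; simp at hqo)).pow_left 2
        rw [Nat.totient_mul hc, Nat.totient_prime_pow Nat.prime_two (by norm_num), Nat.totient_prime hq]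
        obtain ⟨t, ht⟩ : 2 ∣ q - 1 := by omega
        exact ⟨t, by rw [ht]; ring⟩
      · rw [hd]; exact Nat.mul_dvd_mul_left 4 hqd
  by_contra hall
  push Not at hall
  obtain ⟨g0, hg0⟩ := hall
  set J : Finset ℕ := ((Finset.univ.image fun g : K => orderOf g).filter fun m => m % 2 = 1).erase 1 with hJ
  set R := ∏ p ∈ (Nat.card K).primeFactors.erase 2, p with hR
  have hRpos : 0 < R := Finset.prod_pos fun p hp => (Nat.prime_of_mem_primeFactors (Finset.mem_of_mem_erase hp)).pos
  have hmemJ : ∀ g : K, orderOf g % 2 = 1 → orderOf g ≠ 1 → orderOf g ∈ J := fun g h1 h2 =>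
    Finset.mem_erase.mpr ⟨h2, Finset.mem_filter.mpr ⟨Finset.mem_image_of_mem _ (Finset.mem_univ g), h1⟩⟩
  have hJmem : ∀ d ∈ J, (∃ g : K, orderOf g = d) ∧ d % 2 = 1 ∧ 3 ≤ d ∧ d ∣ R := by
    intro d hd
    obtain ⟨hd1, hd2⟩ := Finset.mem_erase.mp hd
    obtain ⟨hd3, hodd⟩ := Finset.mem_filter.mp hd2
    obtain ⟨g, -, rfl⟩ := Finset.mem_image.mp hd3
    have hg3 : 2 < orderOf g := by have := orderOf_pos g; omega
    refine ⟨⟨g, rfl⟩, hodd, by omega, ?_⟩
    have hne2 : ∀ p, p ∣ orderOf g → p ≠ 2 := fun p hp e => by subst e; omega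
    have hsq : Squarefree (orderOf g) := Nat.squarefree_iff_prime_squarefree.mpr fun p hp h =>
      no_sq hp (hsucc p hp (hne2 p ((Dvd.intro _ rfl : p ∣ p * p).trans h))
        ((Dvd.intro _ rfl : p ∣ p * p).trans (h.trans (orderOf_dvd_natCard g)))) g (hB g hg3) h
    rw [← Nat.prod_primeFactors_of_squarefree hsq]
    exact Finset.prod_dvd_prod_of_subset _ _ _ fun p hp => Finset.mem_erase.mpr
      ⟨hne2 p (Nat.dvd_of_mem_primeFactors hp), Nat.primeFactors_mono (orderOf_dvd_natCard g) Nat.card_pos.ne' hp⟩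
  have hhalf : ∀ g : K, ¬ orderOf g ∣ 4 → orderOf g ∈ J ∨ ∃ d ∈ J, orderOf g = 2 * d := by
    intro g hg
    have h4g := (hshape g).resolve_left hg
    have hne1 : orderOf g ≠ 1 := fun e => hg (e ▸ one_dvd _)
    rcases Nat.mod_two_eq_zero_or_one (orderOf g) with h | h
    · obtain ⟨d, hd⟩ := Nat.dvd_of_mod_eq_zero h
      refine Or.inr ⟨d, ?_, hd⟩
      have hdo : d % 2 = 1 := by omega
      have hg2 : orderOf (g ^ 2) = d := by
        rw [orderOf_pow_of_dvd (by norm_num) ⟨d, hd⟩, hd, Nat.mul_div_cancel_left _ (by norm_num)]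
      rw [← hg2]
      exact hmemJ _ (hg2.symm ▸ hdo) (fun e => hg (by rw [hd, ← hg2, e]; decide))
    · exact Or.inl (hmemJ g h hne1)
  have hdouble : ∀ d ∈ J, ∃ g : K, orderOf g = 2 * d := fun d hd => by
    obtain ⟨⟨g, hg⟩, hodd, -, -⟩ := hJmem d hd
    refine ⟨z * g, ?_⟩
    rw [(hzc g).symm.orderOf_mul_eq_mul_orderOf_of_coprime, hz, hg]
    rw [hz, hg]
    exact (Nat.prime_two.coprime_iff_not_dvd).mpr (by omega)
  have hcard : Nat.card K = 2 + (1 + 2 * J.card) * n := by
    have e1 : Disjoint ({1, 2, 4} : Finset ℕ) (J ∪ J.image (2 * ·)) := by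
      rw [Finset.disjoint_left]
      intro m hm hm'
      simp only [Finset.mem_insert, Finset.mem_singleton] at hm
      rcases Finset.mem_union.mp hm' with h | h
      · have := hJmem m h; omega
      · obtain ⟨d, hd, rfl⟩ := Finset.mem_image.mp h
        have := hJmem d hd; omega
    have e2 : Disjoint J (J.image (2 * ·)) := by
      rw [Finset.disjoint_left]
      intro m hm hm'
      obtain ⟨d, hd, rfl⟩ := Finset.mem_image.mp hm'
      have := hJmem (2 * d) hm; omega
    rw [card_eq (({1, 2, 4} : Finset ℕ) ∪ (J ∪ J.image (2 * ·))) (fun g => by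
      by_cases hg : orderOf g ∣ 4
      · refine Finset.mem_union_left _ ?_
        rw [← show Nat.divisors 4 = ({1, 2, 4} : Finset ℕ) by decide]
        exact Nat.mem_divisors.mpr ⟨hg, by norm_num⟩
      · rcases hhalf g hg with h | ⟨d, hd, h⟩
        · exact Finset.mem_union_right _ (Finset.mem_union_left _ h)
        · exact Finset.mem_union_right _ (Finset.mem_union_right _ (Finset.mem_image.mpr ⟨d, hd, h.symm⟩))),
      Finset.sum_union e1, Finset.sum_union e2, Finset.sum_insert (by decide),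
      Finset.sum_insert (by decide), Finset.sum_singleton, cnt_one, hn2, hn4]
    have s1 : ∑ m ∈ J, cnt K m = J.card * n := Finset.sum_const_nat fun m hm => by
      obtain ⟨⟨g, rfl⟩, -, h3, -⟩ := hJmem m hm
      exact hB g (by omega)
    have s2 : ∑ m ∈ J.image (2 * ·), cnt K m = J.card * n := by
      rw [Finset.sum_image (fun a _ b _ (h : 2 * a = 2 * b) => by omega)]
      refine Finset.sum_const_nat fun m hm => ?_
      obtain ⟨g, hg⟩ := hdouble m hm
      obtain ⟨-, -, h3, -⟩ := hJmem m hm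
      rw [← hg]; exact hB g (by omega)
    rw [s1, s2]; ring
  have hj1 : 1 ≤ J.card := by
    rcases hhalf g0 hg0 with h | ⟨d, h, -⟩ <;> exact Finset.card_pos.mpr ⟨_, h⟩
  have hRk : R ∣ 2 * J.card - 1 := by
    refine Finset.prod_primes_dvd _ (fun p hp => (Nat.prime_of_mem_primeFactors (Finset.mem_of_mem_erase hp)).prime) fun p hp => ?_
    obtain ⟨hp2, hp'⟩ := Finset.mem_erase.mp hp
    obtain ⟨hpp, hpd, -⟩ := Nat.mem_primeFactors.mp hp'
    have he : (1 + 2 * J.card) * (1 + n) = (2 + (1 + 2 * J.card) * n) + (2 * J.card - 1) := by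
      rw [Nat.mul_add, mul_one]; omega
    have h2 : p ∣ (2 + (1 + 2 * J.card) * n) + (2 * J.card - 1) :=
      he ▸ Dvd.dvd.mul_left (hsucc p hpp hp2 hpd) _
    rw [← hcard] at h2
    exact (Nat.dvd_add_right hpd).mp h2
  have hjR : J.card ≤ R / 3 := by
    calc J.card ≤ (Finset.Icc 1 (R / 3)).card := Finset.card_le_card_of_injOn (R / ·)
          (fun d hd => Finset.mem_coe.mpr (Finset.mem_Icc.mpr ⟨Nat.div_pos (Nat.le_of_dvd hRpos (hJmem d hd).2.2.2) (by have := hJmem d hd; omega),
            Nat.div_le_div_left (hJmem d hd).2.2.1 (by norm_num)⟩))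
          (fun a ha b hb h => by
            simp only at h
            rw [← Nat.div_div_self (hJmem a ha).2.2.2 hRpos.ne', h, Nat.div_div_self (hJmem b hb).2.2.2 hRpos.ne'])
      _ = R / 3 := by rw [Nat.card_Icc]; omega
  have := Nat.le_of_dvd (by omega) hRk
  omega

theorem mem_of_odd (O : Subgroup K) (hO : O.index = 2) {g : K} (hg : orderOf g % 2 = 1) : g ∈ O := by
  have h := pow_mem (Subgroup.sq_mem_of_index_two hO g) ((orderOf g + 1) / 2)
  rwa [← pow_mul, show 2 * ((orderOf g + 1) / 2) = orderOf g + 1 by omega, pow_succ,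
    pow_orderOf_eq_one, one_mul] at h

/-- Let G be a finite group such that the numbers of elements of each order that occurs in G (the numbers #{g : o(g) = m}, m ranging over the element orders of G) take exactly two values, 1 and some n ≠ 1. Then either G is a p-group of exponent p and order at least 3 for some prime p, or G is the quaternion group of order 8, or G is cyclic of order 4, or G ≅ Z₂ × P for a p-group P of exponent p with p an odd prime. -/
theorem result {G : Type*} [Group G] [Finite G] (n : ℕ) (hn : n ≠ 1) (h : ((fun m : ℕ => Nat.card {g : G // orderOf g = m}) '' Set.range (orderOf : G → ℕ)) = {1, n}) :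
    (∃ p : ℕ, p.Prime ∧ IsPGroup p G ∧ 3 ≤ Nat.card G ∧ Monoid.exponent G = p) ∨
      Nonempty (G ≃* QuaternionGroup 2) ∨ (IsCyclic G ∧ Nat.card G = 4) ∨
      (∃ (p : ℕ) (P : Type) (_ : Group P) (_ : Finite P), p.Prime ∧ p ≠ 2 ∧ IsPGroup p P ∧ Monoid.exponent P = p ∧
        Nonempty (G ≃* Multiplicative (ZMod 2) × P)) := by
  classical
  haveI := Fintype.ofFinite G
  have hmem : ∀ g : G, cnt G (orderOf g) = 1 ∨ cnt G (orderOf g) = n := by
    intro g
    have : cnt G (orderOf g) ∈ ({1, n} : Set ℕ) := h ▸ ⟨orderOf g, ⟨g, rfl⟩, rfl⟩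
    simpa using this
  obtain ⟨_, ⟨g0, rfl⟩, hg0⟩ : n ∈ (fun m : ℕ => Nat.card {g : G // orderOf g = m}) '' Set.range (orderOf : G → ℕ) := by
    rw [h]; simp
  change cnt G (orderOf g0) = n at hg0
  have hbig : ∀ g : G, 2 < orderOf g → cnt G (orderOf g) = n := by
    intro g hg
    refine (hmem g).resolve_left fun h1 => ?_
    have := totient_dvd_cnt (K := G) (orderOf g)
    rw [h1, Nat.dvd_one] at this
    rcases Nat.totient_eq_one_iff.mp this with h | h <;> omega
  have hg0' : orderOf g0 ≠ 1 := fun e => hn (by rw [← hg0, e, cnt_one])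
  by_cases h2 : cnt G 2 = 1
  · right
    obtain ⟨⟨hu⟩, ⟨z, hz⟩⟩ := Nat.card_eq_one_iff_unique.mp h2
    have huniq : ∀ x : G, orderOf x = 2 → x = z := fun x hx => congrArg Subtype.val (hu ⟨x, hx⟩ ⟨z, hz⟩)
    by_cases h4 : ∃ g : G, orderOf g = 4
    · have hall := no_odd_prime n z hz huniq hbig h4
      obtain ⟨g4, hg4⟩ := h4
      have hP : IsPGroup 2 G := fun g => ⟨2, orderOf_dvd_iff_pow_eq_one.mp (hall g)⟩
      rcases CfsgLib.ZStar.cyclic_or_quaternion hP (fun x y hx hy => (huniq x hx).trans (huniq y hy).symm) with hc | ⟨k, ⟨e⟩⟩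
      · refine Or.inr (Or.inl ⟨hc, ?_⟩)
        obtain ⟨c, hc'⟩ := hc.exists_ofOrder_eq_natCard
        exact Nat.dvd_antisymm (hc' ▸ hall c) (hg4 ▸ orderOf_dvd_natCard g4)
      haveI : NeZero (2 ^ k) := ⟨by positivity⟩
      have hk : 2 * 2 ^ k ∣ 4 := by
        have := hall (e.symm (QuaternionGroup.a 1))
        rwa [MulEquiv.orderOf_eq, QuaternionGroup.orderOf_a_one] at this
      have hk1 : k ≤ 1 := by
        rw [show 2 * 2 ^ k = 2 ^ (k + 1) by ring, show (4 : ℕ) = 2 ^ 2 from rfl, Nat.pow_dvd_pow_iff_le_right one_lt_two] at hk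
        omega
      rcases (show k = 0 ∨ k = 1 by omega) with rfl | rfl
      · refine Or.inr (Or.inl ?_)
        have hc4 : Nat.card G = 4 := by
          rw [Nat.card_congr e.toEquiv, Nat.card_eq_fintype_card, QuaternionGroup.card]; norm_num
        exact ⟨isCyclic_of_orderOf_eq_card g4 (by rw [hg4, hc4]), hc4⟩
      · rw [pow_one] at e
        exact Or.inl ⟨e⟩
    · -- a Sylow 2-subgroup of order 2
      push Not at h4
      obtain ⟨P⟩ : Nonempty (Sylow 2 G) := inferInstance
      have hPz : (P : Subgroup G) = Subgroup.zpowers z := by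
        have hle : (P : Subgroup G) ≤ Subgroup.zpowers z := by
          intro x hx
          obtain ⟨k, hk⟩ := IsPGroup.iff_orderOf.mp P.isPGroup' ⟨x, hx⟩
          rw [Subgroup.orderOf_mk] at hk
          rcases (show k = 0 ∨ k = 1 ∨ 2 ≤ k by omega) with rfl | rfl | hk2
          · rw [pow_zero, orderOf_eq_one_iff] at hk; rw [hk]; exact one_mem _
          · rw [huniq x (hk.trans (pow_one 2))]; exact Subgroup.mem_zpowers z
          · refine absurd ?_ (h4 (x ^ 2 ^ (k - 2)))
            rw [orderOf_pow_of_dvd (by positivity) (hk ▸ pow_dvd_pow 2 (by omega)), hk,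
              Nat.pow_div (by omega) (by norm_num), show k - (k - 2) = 2 by omega]
        refine Subgroup.eq_of_le_of_card_ge hle ?_
        rw [Nat.card_zpowers, hz]
        refine Nat.le_of_dvd Nat.card_pos ?_
        have h2G : 2 ∣ Nat.card G := hz ▸ orderOf_dvd_natCard z
        rw [P.card_eq_multiplicity]
        exact dvd_pow_self 2 (Nat.pos_iff_ne_zero.mp (Nat.prime_two.factorization_pos_of_dvd Nat.card_pos.ne' h2G))
      have hzc : ∀ g : G, Commute g z := fun g => by
        have h := huniq (g * z * g⁻¹) (by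
          have := orderOf_injective (MulAut.conj g).toMonoidHom (MulEquiv.injective _) z
          simpa [hz] using this)
        exact mul_inv_eq_iff_eq_mul.mp h
      have hN : Subgroup.normalizer ((P : Subgroup G) : Set G) ≤ Subgroup.centralizer ((P : Subgroup G) : Set G) := by
        intro g _ x hx
        rw [hPz] at hx
        obtain ⟨i, rfl⟩ := hx
        exact ((hzc g).symm.zpow_left i).eq
      have hc := MonoidHom.ker_transferSylow_isComplement' P hN
      set O := (MonoidHom.transferSylow P hN).ker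
      have hidx : O.index = 2 := by rw [hc.symm.index_eq_card, hPz, Nat.card_zpowers, hz]
      have hodd : ∀ g ∈ O, orderOf g % 2 = 1 := by
        intro g hg
        by_contra h0
        have h2O : 2 ∣ Nat.card O := (Nat.dvd_of_mod_eq_zero (by omega)).trans
          ((Subgroup.orderOf_mk g hg).symm ▸ orderOf_dvd_natCard (⟨g, hg⟩ : O))
        refine MonoidHom.not_dvd_card_ker_transferSylow P hN ?_
        exact h2O
      have hcnt : ∀ x : O, cnt O (orderOf x) = cnt G (orderOf x) := fun x =>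
        Nat.card_congr
          { toFun := fun a => ⟨a.1.1, (Subgroup.orderOf_coe _).trans a.2⟩
            invFun := fun a => ⟨⟨a.1, mem_of_odd O hidx (by rw [a.2, ← Subgroup.orderOf_coe]; exact hodd _ x.2)⟩,
              by rw [← Subgroup.orderOf_coe]; exact a.2⟩
            left_inv := fun a => rfl
            right_inv := fun a => rfl }
      have hA : ∀ x : O, x ≠ 1 → cnt O (orderOf x) = n := fun x hx => by
        rw [hcnt x]
        have h1 : orderOf x ≠ 1 := fun e => hx (orderOf_eq_one_iff.mp e)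
        have h2 := hodd _ x.2
        rw [Subgroup.orderOf_coe] at h2
        have h3 := orderOf_pos x
        rw [← Subgroup.orderOf_coe]
        exact hbig _ (by rw [Subgroup.orderOf_coe]; omega)
      have hOne : 1 < Nat.card O := by
        rw [Subgroup.one_lt_card_iff_ne_bot]
        intro hb
        have hsq := Subgroup.sq_mem_of_index_two hidx g0
        rw [hb, Subgroup.mem_bot, ← orderOf_dvd_iff_pow_eq_one, Nat.dvd_prime Nat.prime_two] at hsq
        exact hn (by rw [← hg0, hsq.resolve_left hg0', h2])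
      obtain ⟨p, hp, hpO, hexp⟩ := caseA n hOne hA
      have hp2 : p ≠ 2 := by
        intro hp2
        subst hp2
        haveI := Finite.one_lt_card_iff_nontrivial.mp hOne
        obtain ⟨y, hy⟩ := exists_ne (1 : O)
        have h1 : orderOf y ∣ 2 := hexp ▸ Monoid.order_dvd_exponent y
        have h2 := hodd _ y.2
        rw [Subgroup.orderOf_coe] at h2
        rcases (Nat.dvd_prime Nat.prime_two).mp h1 with e | e
        · exact hy (orderOf_eq_one_iff.mp e)
        · omega
      haveI : Small.{0} O := inferInstance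
      let eP : Shrink.{0} O ≃* O := Shrink.mulEquiv
      haveI : Finite (Shrink.{0} O) := Finite.of_equiv O (equivShrink O)
      let f : (Subgroup.zpowers z) × O →* G :=
        MonoidHom.noncommCoprod (Subgroup.zpowers z).subtype O.subtype fun a b => by
          obtain ⟨_, i, rfl⟩ := a
          exact (hzc b).symm.zpow_left i
      have hf : Function.Bijective f := by
        have := hc.symm
        rw [hPz] at this
        exact this
      let eZ : Multiplicative (ZMod 2) ≃* Subgroup.zpowers z :=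
        haveI : Fact (Nat.Prime 2) := ⟨Nat.prime_two⟩
        mulEquivOfPrimeCardEq (p := 2) (by rw [Nat.card_congr Multiplicative.toAdd, Nat.card_zmod])
          (by rw [Nat.card_zpowers, hz])
      refine Or.inr (Or.inr ⟨p, Shrink.{0} O, inferInstance, inferInstance, hp, hp2,
        hpO.of_equiv eP.symm, (Monoid.exponent_eq_of_mulEquiv eP).trans hexp,
        ⟨((MulEquiv.prodCongr eZ eP).trans (MulEquiv.ofBijective f hf)).symm⟩⟩)
  · left
    have hA : ∀ g : G, g ≠ 1 → cnt G (orderOf g) = n := fun g hg => by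
      have h1 : orderOf g ≠ 1 := fun e => hg (orderOf_eq_one_iff.mp e)
      have h0 := orderOf_pos g
      rcases (show orderOf g = 2 ∨ 2 < orderOf g by omega) with h' | h'
      · refine (hmem g).resolve_left (h'.symm ▸ h2)
      · exact hbig g h'
    have hne : 1 < Nat.card G := Finite.one_lt_card_iff_nontrivial.mpr ⟨⟨g0, 1, fun e => hg0' (by rw [e, orderOf_one])⟩⟩
    obtain ⟨p, hp, hpG, hexp⟩ := caseA n hne hA
    refine ⟨p, hp, hpG, ?_, hexp⟩
    by_contra h3
    have hg2 : orderOf g0 = 2 := by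
      have h1 : orderOf g0 ≤ Nat.card G := Nat.le_of_dvd Nat.card_pos (orderOf_dvd_natCard g0)
      have h0 := orderOf_pos g0
      omega
    refine h2 ?_
    have hG2 : Nat.card G = 2 := by omega
    have hcard := card_eq (K := G) {1, 2} (fun g => by
      have h1 : orderOf g ∣ 2 := hG2 ▸ orderOf_dvd_natCard g
      rcases (Nat.dvd_prime Nat.prime_two).mp h1 with e | e <;> simp [e])
    rw [Finset.sum_insert (by decide), Finset.sum_singleton, cnt_one, hG2] at hcard
    omega
end Cfsg.Agent.S3995
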