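import Cfsg.Statements.S3996
import Mathlib
import Cfsg.Agent.S3995
import Cfsg.Agent.S0144

-- statement Cfsg.CfsgFrozen.S3996

set_option autoImplicit false

universe u

namespace Cfsg.Agent.S3996

open Cfsg.Agent.S3995 (cnt cnt_one totient_dvd_cnt)

variable {G : Type u} [Group G] [Finite G]

lemma roots (n : ℕ) (hd : n ∣ Nat.card G) : n ∣ ∑ d ∈ n.divisors, cnt G d := by
  have h := CfsgLib.Frobenius.gcd_dvd_card_pow_mem (G := G) n (fun y => y = 1)
    (fun y g hy => by subst hy; simp)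
  have hn : n ≠ 0 := fun e => Nat.card_pos.ne' (zero_dvd_iff.mp (e ▸ hd))
  rw [Nat.gcd_eq_left hd, CfsgLib.Frobenius.card_pow_eq_one_eq_sum n hn] at h
  exact h

lemma sum_div_mul {m p : ℕ} (hp : p.Prime) (hm : m ≠ 0) (hpm : ¬ p ∣ m) (f : ℕ → ℕ) :
    ∑ d ∈ (m * p).divisors, f d = ∑ d ∈ m.divisors, f d + ∑ d ∈ m.divisors, f (d * p) := by
  classical
  have h : (m * p).divisors = m.divisors ∪ m.divisors.image (· * p) := by
    ext d
    simp only [Nat.mem_divisors, Finset.mem_union, Finset.mem_image]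
    constructor
    · rintro ⟨hd, -⟩
      obtain ⟨a, b, ha, hb, rfl⟩ := Nat.dvd_mul.mp hd
      rcases hp.eq_one_or_self_of_dvd b hb with rfl | rfl
      · exact Or.inl ⟨by rwa [mul_one], hm⟩
      · exact Or.inr ⟨a, ⟨ha, hm⟩, rfl⟩
    · rintro (⟨hd, -⟩ | ⟨a, ⟨ha, -⟩, rfl⟩)
      · exact ⟨hd.mul_right p, mul_ne_zero hm hp.ne_zero⟩
      · exact ⟨Nat.mul_dvd_mul_right ha p, mul_ne_zero hm hp.ne_zero⟩
  rw [h, Finset.sum_union, Finset.sum_image]
  · intro a _ b _ hab
    exact Nat.eq_of_mul_eq_mul_right hp.pos hab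
  · rw [Finset.disjoint_left]
    intro d hd hd'
    obtain ⟨a, -, rfl⟩ := Finset.mem_image.mp hd'
    exact hpm ((dvd_mul_left p a).trans (Nat.dvd_of_mem_divisors hd))

lemma neg_one_ne {p : ℕ} [Fact p.Prime] (hp : p ≠ 2) : (1 : ZMod p) ≠ -1 := fun h => by
  haveI : Fact (2 < p) := ⟨lt_of_le_of_ne (Fact.out : p.Prime).two_le (Ne.symm hp)⟩
  exact ZMod.neg_one_ne_one h.symm

lemma cnt_prime (p : ℕ) [Fact p.Prime] (hd : p ∣ Nat.card G) :
    0 < cnt G p ∧ (cnt G p : ZMod p) = -1 := by
  refine ⟨?_, ?_⟩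
  · obtain ⟨g, hg⟩ := exists_prime_orderOf_dvd_card' (G := G) p hd
    exact Nat.pos_of_ne_zero (Nat.card_ne_zero.mpr ⟨⟨⟨g, hg⟩⟩, inferInstance⟩)
  · have h := (ZMod.natCast_eq_zero_iff _ _).mpr (Cfsg.Agent.S3995.prime_dvd_succ_cnt (Fact.out) hd)
    push_cast at h
    linear_combination h

lemma cnt_eq_zero_of_notdvd {m : ℕ} (h : ¬ m ∣ Nat.card G) : cnt G m = 0 :=
  Nat.card_eq_zero.mpr (Or.inl ⟨fun g => h (g.2 ▸ orderOf_dvd_natCard (g : G))⟩)

lemma roots_pq {p q : ℕ} [Fact p.Prime] [Fact q.Prime] (hpq : p ≠ q) (hp : p ∣ Nat.card G) (hq : q ∣ Nat.card G) :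
    p * q ∣ 1 + cnt G p + cnt G q + cnt G (p * q) := by
  have hP : p.Prime := Fact.out
  have hQ : q.Prime := Fact.out
  have h := roots (G := G) (p * q) (((Nat.coprime_primes hP hQ).mpr hpq).mul_dvd_of_dvd_of_dvd hp hq)
  rw [sum_div_mul hQ hP.ne_zero (fun e => hpq ((Nat.prime_dvd_prime_iff_eq hQ hP).mp e).symm),
    hP.sum_divisors, hP.sum_divisors, one_mul, cnt_one] at h
  convert h using 1; ring

section values

variable {s b : ℕ} (hv : ∀ m, 2 < m → cnt G m = 0 ∨ cnt G m = s ∨ cnt G m = b)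

include hv in
lemma pair {p q : ℕ} [Fact p.Prime] [Fact q.Prime] (hp2 : p ≠ 2) (hpq : p ≠ q) (hp : p ∣ Nat.card G)
    (hq : q ∣ Nat.card G) (h1 : cnt G p = s) (h2 : cnt G q = s) :
    cnt G (p * q) = b ∧ (b : ZMod p) = 1 := by
  have hs : (s : ZMod p) = -1 := h1 ▸ (cnt_prime p hp).2
  have h := (ZMod.natCast_eq_zero_iff _ p).mpr ((dvd_mul_right p q).trans (roots_pq (G := G) hpq hp hq))
  rw [h1, h2] at h
  push_cast at h
  rw [hs] at h
  have hn : (cnt G (p * q) : ZMod p) = 1 := by linear_combination h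
  have hlt : 2 < p * q := by
    have := (Fact.out : p.Prime).two_le
    have := (Fact.out : q.Prime).two_le
    nlinarith
  rcases hv _ hlt with e | e | e
  · rw [e, Nat.cast_zero] at hn; exact absurd hn zero_ne_one
  · rw [e, hs] at hn; exact absurd hn.symm (neg_one_ne hp2)
  · exact ⟨e, e ▸ hn⟩

include hv in
lemma tri {p q r : ℕ} [Fact p.Prime] [Fact q.Prime] [Fact r.Prime] (hp2 : p ≠ 2) (hq2 : q ≠ 2) (hr2 : r ≠ 2)
    (hpq : p ≠ q) (hpr : p ≠ r) (hqr : q ≠ r) (hp : p ∣ Nat.card G) (hq : q ∣ Nat.card G)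
    (hr : r ∣ Nat.card G) (h1 : cnt G p = s) (h2 : cnt G q = s) (h3 : cnt G r = b) : False := by
  have hP : p.Prime := Fact.out
  have hQ : q.Prime := Fact.out
  have hR : r.Prime := Fact.out
  obtain ⟨hnpq, hbp⟩ := pair hv hp2 hpq hp hq h1 h2
  obtain ⟨-, hbq⟩ := pair hv hq2 hpq.symm hq hp h2 h1
  have hbr : (b : ZMod r) = -1 := h3 ▸ (cnt_prime r hr).2
  have key : ∀ (x : ℕ) [Fact x.Prime], x ≠ 2 → x ≠ r → x ∣ Nat.card G → cnt G x = s → (b : ZMod x) = 1 →
      cnt G (x * r) = s ∧ (s : ZMod r) = 0 := by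
    intro x _ hx2 hxr hx hxs hbx
    have hxP : x.Prime := Fact.out
    have hs : (s : ZMod x) = -1 := hxs ▸ (cnt_prime x hx).2
    have hdvd := roots_pq (G := G) hxr hx hr
    rw [hxs, h3] at hdvd
    have h := (ZMod.natCast_eq_zero_iff _ x).mpr ((dvd_mul_right x r).trans hdvd)
    have h' := (ZMod.natCast_eq_zero_iff _ r).mpr ((dvd_mul_left r x).trans hdvd)
    push_cast at h h'
    rw [hs, hbx] at h
    have hn : (cnt G (x * r) : ZMod x) = -1 := by linear_combination h
    rcases hv (x * r) (by nlinarith [hxP.two_le, hR.two_le]) with e | e | e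
    · rw [e, Nat.cast_zero] at hn; exact absurd hn.symm (neg_ne_zero.mpr one_ne_zero)
    · rw [e, hbr] at h'
      refine ⟨e, (mul_eq_zero.mp (show (2 : ZMod r) * (s : ZMod r) = 0 by linear_combination h')).resolve_left ?_⟩
      intro h0
      exact neg_one_ne hr2 (by linear_combination h0)
    · rw [e, hbx] at hn; exact absurd hn (neg_one_ne hx2)
  obtain ⟨hnpr, hsr⟩ := key p hp2 hpr hp h1 hbp
  obtain ⟨hnqr, -⟩ := key q hq2 hqr hq h2 hbq
  have hs : (s : ZMod p) = -1 := h1 ▸ (cnt_prime p hp).2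
  have hcop1 := (Nat.coprime_primes hP hQ).mpr hpq
  have hnr : ¬ r ∣ p * q := fun e => (hR.dvd_mul.mp e).elim
    (fun e => hpr ((Nat.prime_dvd_prime_iff_eq hR hP).mp e).symm)
    (fun e => hqr ((Nat.prime_dvd_prime_iff_eq hR hQ).mp e).symm)
  have hdvd := roots (G := G) (p * q * r)
    ((Nat.Coprime.mul_left ((Nat.coprime_primes hP hR).mpr hpr) ((Nat.coprime_primes hQ hR).mpr hqr)).mul_dvd_of_dvd_of_dvd
      (hcop1.mul_dvd_of_dvd_of_dvd hp hq) hr)
  have hnq : ¬ q ∣ p := fun e => hpq ((Nat.prime_dvd_prime_iff_eq hQ hP).mp e).symm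
  simp only [sum_div_mul hR (mul_ne_zero hP.ne_zero hQ.ne_zero) hnr, sum_div_mul hQ hP.ne_zero hnq,
    hP.sum_divisors, one_mul, cnt_one, h1, h2, h3, hnpq, hnpr, hnqr] at hdvd
  have h := (ZMod.natCast_eq_zero_iff _ p).mpr (((dvd_mul_right p q).mul_right r).trans hdvd)
  have h' := (ZMod.natCast_eq_zero_iff _ r).mpr ((dvd_mul_left r (p * q)).trans hdvd)
  push_cast at h h'
  rw [hs, hbp] at h
  have hn : (cnt G (p * q * r) : ZMod p) = 1 := by linear_combination h
  rcases hv (p * q * r) (by nlinarith [hP.two_le, hQ.two_le, hR.two_le, Nat.mul_le_mul hP.two_le hQ.two_le]) with e | e | e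
  · rw [e, Nat.cast_zero] at hn; exact zero_ne_one hn
  · rw [e, hs] at hn; exact neg_one_ne hp2 hn.symm
  · rw [e, hbr, hsr] at h'
    refine neg_one_ne hr2 ?_
    linear_combination -h'

include hv in
lemma odd_two_primes (hodd : Odd (Nat.card G)) : (Nat.card G).primeFactors.card ≤ 2 := by
  classical
  by_contra hcon
  push Not at hcon
  obtain ⟨p0, q0, r0, hp0, hq0, hr0, h01, h02, h12⟩ := Finset.two_lt_card_iff.mp hcon
  have info : ∀ p ∈ (Nat.card G).primeFactors, p.Prime ∧ p ∣ Nat.card G ∧ p ≠ 2 ∧ (cnt G p = s ∨ cnt G p = b) := by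
    intro p hp
    obtain ⟨hP, hd, -⟩ := Nat.mem_primeFactors.mp hp
    haveI := Fact.mk hP
    have h2 : p ≠ 2 := fun e => (Nat.not_even_iff_odd.mpr hodd) (even_iff_two_dvd.mpr (e ▸ hd))
    refine ⟨hP, hd, h2, ?_⟩
    have hpos := (cnt_prime (G := G) p hd).1
    rcases hv p (lt_of_le_of_ne hP.two_le (Ne.symm h2)) with e | e | e
    · omega
    · exact Or.inl e
    · exact Or.inr e
  have hv' : ∀ m, 2 < m → cnt G m = 0 ∨ cnt G m = b ∨ cnt G m = s := fun m hm => (hv m hm).imp_right Or.symm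
  -- two primes with one value and a third with the other is impossible
  have htri : ∀ p ∈ (Nat.card G).primeFactors, ∀ q ∈ (Nat.card G).primeFactors, ∀ r ∈ (Nat.card G).primeFactors,
      p ≠ q → p ≠ r → q ≠ r → cnt G p = cnt G q → cnt G p = cnt G r := by
    intro p hp q hq r hr h1 h2 h3 he
    obtain ⟨hP, hpd, hp2, hpv⟩ := info p hp
    obtain ⟨hQ, hqd, hq2, -⟩ := info q hq
    obtain ⟨hR, hrd, hr2, hrv⟩ := info r hr
    haveI := Fact.mk hP; haveI := Fact.mk hQ; haveI := Fact.mk hR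
    by_contra hne
    rcases hpv with e | e <;> rcases hrv with e' | e'
    · exact hne (e.trans e'.symm)
    · exact tri hv hp2 hq2 hr2 h1 h2 h3 hpd hqd hrd e (he.symm.trans e) e'
    · exact tri hv' hp2 hq2 hr2 h1 h2 h3 hpd hqd hrd e (he.symm.trans e) e'
    · exact hne (e.trans e'.symm)
  -- hence all primes have the same value
  have hp0eq : cnt G p0 = cnt G q0 ∧ cnt G p0 = cnt G r0 := by
    rcases (info p0 hp0).2.2.2 with a | a <;> rcases (info q0 hq0).2.2.2 with c | c <;>
      rcases (info r0 hr0).2.2.2 with d | d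
    all_goals first
      | exact ⟨a.trans c.symm, a.trans d.symm⟩
      | exact ⟨a.trans c.symm, htri p0 hp0 q0 hq0 r0 hr0 h01 h02 h12 (a.trans c.symm)⟩
      | exact ⟨htri p0 hp0 r0 hr0 q0 hq0 h02 h01 h12.symm (a.trans d.symm), a.trans d.symm⟩
      | exact ⟨(htri q0 hq0 r0 hr0 p0 hp0 h12 h01.symm h02.symm (c.trans d.symm)).symm,
          ((htri q0 hq0 r0 hr0 p0 hp0 h12 h01.symm h02.symm (c.trans d.symm)).symm).trans (c.trans d.symm)⟩
  have hsame : ∀ p ∈ (Nat.card G).primeFactors, cnt G p = cnt G p0 := fun p hp => by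
    by_cases h1 : p = p0
    · rw [h1]
    by_cases h2 : p = q0
    · rw [h2]; exact hp0eq.1.symm
    exact (htri p0 hp0 q0 hq0 p hp h01 (Ne.symm h1) (Ne.symm h2) hp0eq.1).symm
  -- every Sylow exponent is prime
  have hdiv : Nat.card G ∣ 1 + cnt G p0 := by
    refine (Nat.factorization_le_iff_dvd Nat.card_pos.ne' (by omega)).mp fun p => ?_
    by_cases hp : p ∈ (Nat.card G).primeFactors
    swap
    · rw [← Nat.support_factorization, Finsupp.notMem_support_iff] at hp
      rw [hp]; exact Nat.zero_le _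
    obtain ⟨hP, hpd, hp2, hpv⟩ := info p hp
    haveI := Fact.mk hP
    obtain ⟨q, hq, hqp⟩ : ∃ q ∈ (Nat.card G).primeFactors, p ≠ q := by
      by_cases h : p = p0
      · exact ⟨q0, hq0, h ▸ h01⟩
      · exact ⟨p0, hp0, h⟩
    obtain ⟨hQ, hqd, -, -⟩ := info q hq
    haveI := Fact.mk hQ
    have he : cnt G p = cnt G q := (hsame p hp).trans (hsame q hq).symm
    set w := if cnt G p = s then b else s with hw
    have hvw : ∀ m, 2 < m → cnt G m = 0 ∨ cnt G m = cnt G p ∨ cnt G m = w := by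
      intro m hm
      simp only [hw]
      split_ifs with h
      · rw [h]; exact hv m hm
      · rcases hpv with e | e
        · exact absurd e h
        · rw [e]; exact hv' m hm
    obtain ⟨-, hw1⟩ := pair hvw hp2 hqp hpd hqd rfl he.symm
    have hs : (cnt G p : ZMod p) = -1 := (cnt_prime p hpd).2
    have hsq : ∀ i, 2 ≤ i → cnt G (p ^ i) = 0 := by
      intro i hi
      have h1 : (cnt G (p ^ i) : ZMod p) = 0 := by
        rw [ZMod.natCast_eq_zero_iff]
        refine dvd_trans ?_ (totient_dvd_cnt (K := G) (p ^ i))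
        rw [Nat.totient_prime_pow hP (by omega)]
        exact (dvd_pow_self p (by omega)).mul_right _
      have hlt : 2 < p ^ i := lt_of_lt_of_le (lt_of_le_of_ne hP.two_le (Ne.symm hp2)) (Nat.le_self_pow (by omega) p)
      rcases hvw _ hlt with e | e | e
      · exact e
      · rw [e, hs] at h1; exact absurd h1 (neg_ne_zero.mpr one_ne_zero)
      · rw [e, hw1] at h1; exact absurd h1 one_ne_zero
    have ha : 1 ≤ (Nat.card G).factorization p := hP.factorization_pos_of_dvd Nat.card_pos.ne' hpd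
    have h := roots (G := G) (p ^ (Nat.card G).factorization p) (Nat.ordProj_dvd _ _)
    rw [Nat.sum_divisors_prime_pow hP, Finset.sum_range_succ', ← Nat.sub_add_cancel ha,
      Finset.sum_range_succ', pow_zero, cnt_one] at h
    rw [Finset.sum_eq_zero (fun i _ => hsq (i + 1 + 1) (by omega)), zero_add, zero_add, pow_one,
      Nat.sub_add_cancel ha, add_comm, hsame p hp] at h
    exact (hP.pow_dvd_iff_le_factorization (by omega)).mp h
  have hle := Nat.le_of_dvd (by omega) hdiv
  have hsub : 1 + cnt G p0 + cnt G q0 ≤ Nat.card G := by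
    haveI := Fintype.ofFinite G
    have h1 : (({1, p0, q0} : Finset ℕ).sum fun d => cnt G d) ≤ Nat.card G := by
      simp only [cnt, Nat.card_eq_fintype_card, Fintype.card_subtype]
      rw [← Finset.card_biUnion]
      · exact Finset.card_le_univ _
      · intro a _ c _ hac
        rw [Function.onFun, Finset.disjoint_left]
        intro g hg hg'
        exact hac ((Finset.mem_filter.mp hg).2.symm.trans (Finset.mem_filter.mp hg').2)
    rw [Finset.sum_insert (by simp [(info p0 hp0).1.ne_one.symm, (info q0 hq0).1.ne_one.symm]),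
      Finset.sum_pair h01, cnt_one] at h1
    omega
  haveI := Fact.mk (info q0 hq0).1
  have := (cnt_prime (G := G) q0 (info q0 hq0).2.1).1
  omega

include hv in
/-- If there is a single involution and an element of order four, at most one odd prime divides the order. -/
lemma one_odd_aux (h2 : cnt G 2 = 1) (h4 : cnt G 4 ≠ 0) {p q : ℕ} [Fact p.Prime] [Fact q.Prime]
    (hp2 : p ≠ 2) (hq2 : q ≠ 2) (hpq : p ≠ q) (hp : p ∣ Nat.card G) (hq : q ∣ Nat.card G)
    (hcp : cnt G p = s) (hcq0 : cnt G q = s ∨ (cnt G q = b ∧ cnt G 4 = s)) : False := by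
  have hP : p.Prime := Fact.out
  have hQ : q.Prime := Fact.out
  haveI : Fact (Nat.Prime 2) := ⟨Nat.prime_two⟩
  have h4d : 4 ∣ Nat.card G := by
    by_contra h
    exact h4 (cnt_eq_zero_of_notdvd h)
  obtain ⟨⟨z, hz⟩⟩ : Nonempty {g : G // orderOf g = 2} := (Nat.card_eq_one_iff_unique.mp h2).2
  haveI : Subsingleton {g : G // orderOf g = 2} := (Nat.card_eq_one_iff_unique.mp h2).1
  have huniq : ∀ y : G, orderOf y = 2 → y = z := fun y hy =>
    congrArg Subtype.val (Subsingleton.elim (⟨y, hy⟩ : {g : G // orderOf g = 2}) ⟨z, hz⟩)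
  have hzc : ∀ g : G, Commute g z := fun g => by
    have h1 : g * z * g⁻¹ = z := huniq _ (by rw [← hz]; exact (MulAut.conj g).orderOf_eq z)
    exact mul_inv_eq_iff_eq_mul.mp h1
  have hzz : z * z = 1 := by rw [← pow_two, ← hz, pow_orderOf_eq_one]
  have hdouble : ∀ k, Odd k → cnt G (2 * k) = cnt G k := by
    intro k hk
    refine Nat.card_congr
      { toFun := fun y => ⟨(y : G) * z, ?_⟩
        invFun := fun x => ⟨(x : G) * z, ?_⟩
        left_inv := fun y => Subtype.ext (by simp [mul_assoc, hzz])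
        right_inv := fun y => Subtype.ext (by simp [mul_assoc, hzz]) }
    · obtain ⟨y, hy⟩ := y
      have hyk : y ^ k = z := huniq _ (by
        rw [orderOf_pow_of_dvd hk.pos.ne' (hy ▸ dvd_mul_left k 2), hy, Nat.mul_div_cancel _ hk.pos])
      have h1 : (y * z) ^ k = 1 := by
        obtain ⟨j, rfl⟩ := hk
        rw [(hzc y).mul_pow, hyk, pow_succ z, pow_mul, pow_two, hzz, one_pow, one_mul, hzz]
      have hdvd := orderOf_dvd_of_pow_eq_one h1
      refine Nat.dvd_antisymm hdvd ?_
      have h2' : y ^ (2 * orderOf (y * z)) = 1 := by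
        have h3 : (y * z) ^ (2 * orderOf (y * z)) = 1 := by rw [mul_comm, pow_mul, pow_orderOf_eq_one, one_pow]
        rwa [(hzc y).mul_pow, pow_mul z, pow_two z, hzz, one_pow, mul_one] at h3
      have := hy ▸ orderOf_dvd_of_pow_eq_one h2'
      exact Nat.dvd_of_mul_dvd_mul_left (by norm_num) this
    · obtain ⟨x, hx⟩ := x
      rw [(hzc x).orderOf_mul_eq_mul_orderOf_of_coprime (by rw [hx, hz]; exact hk.coprime_two_right), hx, hz, mul_comm]
  have hpo : Odd p := hP.odd_of_ne_two hp2
  have hqo : Odd q := hQ.odd_of_ne_two hq2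
  have hmod4 : cnt G 4 % 4 = 2 := by
    have h := roots (G := G) 4 h4d
    rw [show Nat.divisors 4 = {1, 2, 4} by decide, Finset.sum_insert (by decide),
      Finset.sum_insert (by decide), Finset.sum_singleton, cnt_one, h2] at h
    omega
  -- the roots of 4p
  have h4p : ∀ (x : ℕ) [Fact x.Prime], x ≠ 2 → x ∣ Nat.card G →
      (cnt G 4 : ZMod x) + (cnt G (4 * x) : ZMod x) = 0 := by
    intro x _ hx2 hx
    have hX : x.Prime := Fact.out
    have hxo : Odd x := hX.odd_of_ne_two hx2
    have hnd : ¬ x ∣ 4 := fun e => hx2 ((Nat.prime_dvd_prime_iff_eq hX Nat.prime_two).mp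
      (hX.dvd_of_dvd_pow (show x ∣ 2 ^ 2 from e)))
    have hdvd := roots (G := G) (4 * x) ((((Nat.coprime_two_left).mpr hxo).pow_left 2).mul_dvd_of_dvd_of_dvd h4d hx)
    rw [sum_div_mul hX (by norm_num) hnd, show Nat.divisors 4 = {1, 2, 4} by decide] at hdvd
    simp only [Finset.sum_insert (show (1 : ℕ) ∉ ({2, 4} : Finset ℕ) by decide),
      Finset.sum_insert (show (2 : ℕ) ∉ ({4} : Finset ℕ) by decide), Finset.sum_singleton, cnt_one, h2,
      one_mul, hdouble x hxo] at hdvd
    have h := (ZMod.natCast_eq_zero_iff _ x).mpr ((dvd_mul_left x 4).trans hdvd)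
    push_cast at h
    rw [(cnt_prime (G := G) x hx).2] at h
    linear_combination h
  have hpq4 : 4 ∣ (p * q).totient := by
    rw [Nat.totient_mul ((Nat.coprime_primes hP hQ).mpr hpq), Nat.totient_prime hP, Nat.totient_prime hQ]
    obtain ⟨i, hi⟩ := hpo
    obtain ⟨j, hj⟩ := hqo
    exact ⟨i * j, by rw [hi, hj, Nat.add_sub_cancel, Nat.add_sub_cancel]; ring⟩
  have hpqlt : 2 < p * q := by nlinarith [hP.two_le, hQ.two_le]
  have hpqo : Odd (p * q) := hpo.mul hqo
  -- n4 takes one of the two values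
  have main : ∀ S B : ℕ, (∀ m, 2 < m → cnt G m = 0 ∨ cnt G m = S ∨ cnt G m = B) → cnt G p = S →
      (cnt G q = S ∨ (cnt G q = B ∧ cnt G 4 = S)) → False := by
    intro S B hV hcp hcq
    have hS : (S : ZMod p) = -1 := hcp ▸ (cnt_prime p hp).2
    rcases hcq with hcq | ⟨hcq, h4S⟩
    · obtain ⟨hnpq, hB⟩ := pair hV hp2 hpq hp hq hcp hcq
      obtain ⟨-, hBq⟩ := pair hV hq2 hpq.symm hq hp hcq hcp
      have hB4 : B % 4 = 0 := Nat.dvd_iff_mod_eq_zero.mp (hnpq ▸ hpq4.trans (totient_dvd_cnt _))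
      have h4S : cnt G 4 = S := by
        rcases hV 4 (by norm_num) with e | e | e
        · exact absurd e h4
        · exact e
        · rw [e] at hmod4; omega
      have h1 := h4p p hp2 hp
      rw [h4S, hS] at h1
      have hn4p : cnt G (4 * p) = B := by
        have hn : (cnt G (4 * p) : ZMod p) = 1 := by linear_combination h1
        rcases hV (4 * p) (by have := hP.two_le; omega) with e | e | e
        · rw [e, Nat.cast_zero] at hn; exact absurd hn zero_ne_one
        · rw [e, hS] at hn; exact absurd hn.symm (neg_one_ne hp2)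
        · exact e
      have hn4q : cnt G (4 * q) = B := by
        have hSq : (S : ZMod q) = -1 := hcq ▸ (cnt_prime q hq).2
        have h1 := h4p q hq2 hq
        rw [h4S, hSq] at h1
        have hn : (cnt G (4 * q) : ZMod q) = 1 := by linear_combination h1
        rcases hV (4 * q) (by have := hQ.two_le; omega) with e | e | e
        · rw [e, Nat.cast_zero] at hn; exact absurd hn zero_ne_one
        · rw [e, hSq] at hn; exact absurd hn.symm (neg_one_ne hq2)
        · exact e
      have hnd : ¬ p ∣ 4 := fun e => hp2 ((Nat.prime_dvd_prime_iff_eq hP Nat.prime_two).mp (hP.dvd_of_dvd_pow (show p ∣ 2 ^ 2 from e)))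
      have hndq : ¬ q ∣ 4 * p := fun e => (hQ.dvd_mul.mp e).elim
        (fun e => hq2 ((Nat.prime_dvd_prime_iff_eq hQ Nat.prime_two).mp (hQ.dvd_of_dvd_pow (show q ∣ 2 ^ 2 from e))))
        (fun e => hpq ((Nat.prime_dvd_prime_iff_eq hQ hP).mp e).symm)
      have hc4 : Nat.Coprime 4 (p * q) := ((Nat.coprime_two_left).mpr hpqo).pow_left 2
      have hdvd := roots (G := G) (4 * p * q) (by
        rw [mul_assoc]
        exact hc4.mul_dvd_of_dvd_of_dvd h4d (((Nat.coprime_primes hP hQ).mpr hpq).mul_dvd_of_dvd_of_dvd hp hq))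
      rw [sum_div_mul hQ (mul_ne_zero (by norm_num) hP.ne_zero) hndq, sum_div_mul hP (by norm_num) hnd,
        sum_div_mul hP (by norm_num) hnd, show Nat.divisors 4 = {1, 2, 4} by decide] at hdvd
      simp only [Finset.sum_insert (show (1 : ℕ) ∉ ({2, 4} : Finset ℕ) by decide),
        Finset.sum_insert (show (2 : ℕ) ∉ ({4} : Finset ℕ) by decide), Finset.sum_singleton, cnt_one, h2,
        one_mul, hdouble p hpo, hdouble q hqo, h4S, hcp, hcq, hn4p, hn4q, hnpq, mul_assoc 2 p q,
        hdouble (p * q) hpqo] at hdvd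
      have h := (ZMod.natCast_eq_zero_iff _ p).mpr (((dvd_mul_left p 4).mul_right q).trans hdvd)
      push_cast at h
      rw [hS, hB] at h
      have hn : (cnt G (4 * p * q) : ZMod p) = -1 := by linear_combination h
      have h8 : 8 ∣ cnt G (4 * p * q) := by
        refine dvd_trans ?_ (totient_dvd_cnt _)
        rw [mul_assoc, Nat.totient_mul hc4, show Nat.totient 4 = 2 by decide]
        exact Nat.mul_dvd_mul_left 2 hpq4
      rw [h4S] at hmod4
      rcases hV (4 * p * q) (by nlinarith [hP.two_le, hQ.two_le]) with e | e | e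
      · rw [e, Nat.cast_zero] at hn; exact absurd hn.symm (neg_ne_zero.mpr one_ne_zero)
      · rw [e] at h8; omega
      · rw [e, hB] at hn; exact absurd hn (neg_one_ne hp2)
    · have h1 := h4p p hp2 hp
      rw [h4S, hS] at h1
      have hB : (B : ZMod p) = 1 := by
        have hn : (cnt G (4 * p) : ZMod p) = 1 := by linear_combination h1
        rcases hV (4 * p) (by have := hP.two_le; omega) with e | e | e
        · rw [e, Nat.cast_zero] at hn; exact absurd hn zero_ne_one
        · rw [e, hS] at hn; exact absurd hn.symm (neg_one_ne hp2)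
        · exact e ▸ hn
      have h := (ZMod.natCast_eq_zero_iff _ p).mpr ((dvd_mul_right p q).trans (roots_pq (G := G) hpq hp hq))
      rw [hcp, hcq] at h
      push_cast at h
      rw [hS, hB] at h
      have hn : (cnt G (p * q) : ZMod p) = -1 := by linear_combination h
      have h4' : 4 ∣ cnt G (p * q) := hpq4.trans (totient_dvd_cnt _)
      rw [h4S] at hmod4
      rcases hV (p * q) hpqlt with e | e | e
      · rw [e, Nat.cast_zero] at hn; exact absurd hn.symm (neg_ne_zero.mpr one_ne_zero)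
      · rw [e] at h4'; omega
      · rw [e, hB] at hn; exact absurd hn (neg_one_ne hp2)
  exact main s b hv hcp hcq0

include hv in
lemma one_odd_prime (h2 : cnt G 2 = 1) (h4 : cnt G 4 ≠ 0) {p q : ℕ} [Fact p.Prime] [Fact q.Prime]
    (hp2 : p ≠ 2) (hq2 : q ≠ 2) (hpq : p ≠ q) (hp : p ∣ Nat.card G) (hq : q ∣ Nat.card G) : False := by
  have hv' : ∀ m, 2 < m → cnt G m = 0 ∨ cnt G m = b ∨ cnt G m = s := fun m hm => (hv m hm).imp_right Or.symm
  have val : ∀ (x : ℕ) [Fact x.Prime], x ≠ 2 → x ∣ Nat.card G → cnt G x = s ∨ cnt G x = b := by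
    intro x _ hx2 hx
    rcases hv x (lt_of_le_of_ne (Fact.out : x.Prime).two_le (Ne.symm hx2)) with e | e
    · have := (cnt_prime (G := G) x hx).1; omega
    · exact e
  rcases val p hp2 hp with e | e <;> rcases val q hq2 hq with f | f
  · exact one_odd_aux hv h2 h4 hp2 hq2 hpq hp hq e (Or.inl f)
  · rcases hv 4 (by norm_num) with g | g | g
    · exact h4 g
    · exact one_odd_aux hv h2 h4 hp2 hq2 hpq hp hq e (Or.inr ⟨f, g⟩)
    · exact one_odd_aux hv' h2 h4 hq2 hp2 hpq.symm hq hp f (Or.inr ⟨e, g⟩)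
  · rcases hv 4 (by norm_num) with g | g | g
    · exact h4 g
    · exact one_odd_aux hv h2 h4 hq2 hp2 hpq.symm hq hp f (Or.inr ⟨e, g⟩)
    · exact one_odd_aux hv' h2 h4 hp2 hq2 hpq hp hq e (Or.inr ⟨f, g⟩)
  · exact one_odd_aux hv' h2 h4 hp2 hq2 hpq hp hq e (Or.inl f)

end values

lemma solvable_of_small {H : Type*} [Group H] [Finite H] (h : (Nat.card H).primeFactors.card ≤ 2) :
    Group.IsSolvable H := by
  classical
  have hn : Nat.card H ≠ 0 := Nat.card_pos.ne'
  obtain ⟨p, q, hp, hq, hpq, hsub⟩ : ∃ p q, p.Prime ∧ q.Prime ∧ p ≠ q ∧ (Nat.card H).primeFactors ⊆ {p, q} := by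
    set F := (Nat.card H).primeFactors
    have hFp : ∀ x ∈ F, x.Prime := fun x hx => Nat.prime_of_mem_primeFactors hx
    match hc : F.card, h with
    | 0, _ => exact ⟨2, 3, Nat.prime_two, Nat.prime_three, by norm_num, by rw [Finset.card_eq_zero.mp hc]; exact Finset.empty_subset _⟩
    | 1, _ =>
      obtain ⟨x, hx⟩ := Finset.card_eq_one.mp hc
      obtain ⟨y, hy, hyp⟩ := Nat.exists_infinite_primes (x + 1)
      exact ⟨x, y, hFp x (by rw [hx]; simp), hyp, by omega, by rw [hx]; simp⟩
    | 2, _ =>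
      obtain ⟨x, y, hxy, hF⟩ := Finset.card_eq_two.mp hc
      exact ⟨x, y, hFp x (by rw [hF]; simp), hFp y (by rw [hF]; simp), hxy, by rw [hF]⟩
  refine Cfsg.Agent.S0144.result p q ((Nat.card H).factorization p) ((Nat.card H).factorization q) hp hq ?_
  conv_lhs => rw [← Nat.factorization_prod_pow_eq_self hn]
  rw [Finsupp.prod, Nat.support_factorization, Finset.prod_subset hsub, Finset.prod_pair hpq]
  intro x _ hx
  rw [← Nat.support_factorization, Finsupp.notMem_support_iff] at hx
  rw [hx, pow_zero]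

lemma solvable_odd_value {v : ℕ} (hv : ∀ m, 2 < m → cnt G m = 0 ∨ cnt G m = v ∨ cnt G m = v) :
    Group.IsSolvable G := by
  classical
  refine solvable_of_small ?_
  by_contra hcon
  push Not at hcon
  have hsub : ((Nat.card G).primeFactors.erase 2).card ≥ 2 := by
    have := Finset.pred_card_le_card_erase (a := 2) (s := (Nat.card G).primeFactors)
    omega
  obtain ⟨p, hp, q, hq, hpq⟩ := Finset.one_lt_card.mp hsub
  obtain ⟨hp2, hp⟩ := Finset.mem_erase.mp hp
  obtain ⟨hq2, hq⟩ := Finset.mem_erase.mp hq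
  obtain ⟨hP, hpd, -⟩ := Nat.mem_primeFactors.mp hp
  obtain ⟨hQ, hqd, -⟩ := Nat.mem_primeFactors.mp hq
  haveI := Fact.mk hP; haveI := Fact.mk hQ
  have val : ∀ (x : ℕ) [Fact x.Prime], x ≠ 2 → x ∣ Nat.card G → cnt G x = v := by
    intro x _ hx2 hx
    rcases hv x (lt_of_le_of_ne (Fact.out : x.Prime).two_le (Ne.symm hx2)) with e | e | e
    · have := (cnt_prime (G := G) x hx).1; omega
    · exact e
    · exact e
  obtain ⟨-, h1⟩ := pair hv hp2 hpq hpd hqd (val p hp2 hpd) (val q hq2 hqd)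
  exact neg_one_ne hp2 (h1.symm.trans ((val p hp2 hpd) ▸ (cnt_prime p hpd).2))

lemma solvable_values {s b : ℕ} (h2 : cnt G 2 ≤ 1) (hv : ∀ m, 2 < m → cnt G m = 0 ∨ cnt G m = s ∨ cnt G m = b) :
    Group.IsSolvable G := by
  classical
  haveI : Fact (Nat.Prime 2) := ⟨Nat.prime_two⟩
  by_cases hev : 2 ∣ Nat.card G
  swap
  · exact solvable_of_small (odd_two_primes hv (Nat.odd_iff.mpr (Nat.two_dvd_ne_zero.mp hev)))
  have h2' : cnt G 2 = 1 := le_antisymm h2 (cnt_prime (G := G) 2 hev).1
  by_cases h4 : cnt G 4 = 0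
  · -- the Sylow 2-subgroup has order two
    let P : Sylow 2 G := default
    haveI : Subsingleton {g : G // orderOf g = 2} := (Nat.card_eq_one_iff_unique.mp h2').1
    have hexp : ∀ x : P, x ≠ 1 → orderOf (x : G) = 2 := fun x hx => by
      obtain ⟨j, hj⟩ := IsPGroup.iff_orderOf.mp P.2 x
      rw [← Subgroup.orderOf_coe] at hj
      match j, hj with
      | 0, hj => exact absurd (Subtype.ext (orderOf_eq_one_iff.mp (by rw [hj, pow_zero]))) hx
      | 1, hj => rw [hj, pow_one]
      | (j + 2), hj =>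
        exfalso
        have h : orderOf ((x : G) ^ 2 ^ j) = 4 := by
          rw [orderOf_pow_of_dvd (by positivity) (hj ▸ pow_dvd_pow 2 (by omega)), hj, Nat.pow_div (by omega) (by norm_num),
            show j + 2 - j = 2 by omega]

        exact Nat.card_ne_zero.mpr ⟨⟨⟨_, h⟩⟩, inferInstance⟩ h4
    have hPc : Nat.card P = 2 := by
      obtain ⟨g, hg⟩ := exists_prime_orderOf_dvd_card' (G := P) 2 (P.dvd_card_of_dvd_card hev)
      have hall : ∀ x : P, x ∈ ({1, g} : Finset P) := fun x => by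
        by_cases hx : x = 1
        · simp [hx]
        · have h1 := hexp x hx
          have h2g : orderOf (g : G) = 2 := by rw [Subgroup.orderOf_coe, hg]
          have h3 : (x : G) = g := congrArg (fun w : {g : G // orderOf g = 2} => (w : G))
            (Subsingleton.elim (⟨_, h1⟩ : {g : G // orderOf g = 2}) ⟨_, h2g⟩)
          simp [Subtype.ext h3]
      haveI := Fintype.ofFinite P
      rw [Nat.card_eq_fintype_card, ← Finset.card_univ,
        show (Finset.univ : Finset P) = {1, g} from Finset.ext fun x => by simp [hall x],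
        Finset.card_pair (fun e => by rw [← e, orderOf_one] at hg; omega)]
    haveI : IsCyclic P := isCyclic_of_prime_card hPc
    have hNC : Subgroup.normalizer ((P : Subgroup G) : Set G) ≤ Subgroup.centralizer ((P : Subgroup G) : Set G) :=
      IsCyclic.normalizer_le_centralizer ((Nat.minFac_eq_two_iff _).mpr hev) ‹IsCyclic P›
    set K := (MonoidHom.transferSylow P hNC).ker
    have hK := MonoidHom.ker_transferSylow_isComplement' P hNC
    have hKi : K.index = 2 := hK.symm.index_eq_card.trans hPc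
    have hKo : Odd (Nat.card K) := by
      rw [Nat.odd_iff, Nat.two_dvd_ne_zero.symm]
      intro hd
      have h4d : 2 * 2 ∣ Nat.card G := by rw [← K.card_mul_index, hKi]; exact Nat.mul_dvd_mul_right hd 2
      have h1 := (Nat.prime_two.pow_dvd_iff_le_factorization Nat.card_pos.ne').mp (show 2 ^ 2 ∣ Nat.card G from h4d)
      have h2 := P.card_eq_multiplicity
      rw [hPc] at h2
      have := Nat.pow_le_pow_right (show 2 > 0 by norm_num) h1
      omega
    have hvK : ∀ m, 2 < m → cnt K m = 0 ∨ cnt K m = s ∨ cnt K m = b := by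
      intro m hm
      by_cases hmo : m ∣ Nat.card K
      swap
      · exact Or.inl (cnt_eq_zero_of_notdvd hmo)
      have : cnt K m = cnt G m := by
        refine Nat.card_eq_of_bijective (fun x => ⟨((x : K) : G), by rw [Subgroup.orderOf_coe, x.2]⟩) ⟨fun a c h => ?_, ?_⟩
        · exact Subtype.ext (Subtype.ext (congrArg Subtype.val h :))
        · rintro ⟨g, hg⟩
          have hgK : g ∈ K := by
            have h1 : g ^ 2 ∈ K := hKi ▸ Subgroup.pow_index_mem K g
            obtain ⟨i, hi⟩ := Odd.of_dvd_nat hKo hmo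
            have e : g = (g ^ 2) ^ (i + 1) := by
              rw [← pow_mul, show 2 * (i + 1) = m + 1 by omega, pow_succ, ← hg, pow_orderOf_eq_one, one_mul]
            rw [e]; exact pow_mem h1 _
          exact ⟨⟨⟨g, hgK⟩, by rw [← Subgroup.orderOf_coe]; exact hg⟩, rfl⟩
      rw [this]; exact hv m hm
    haveI : Group.IsSolvable K := solvable_of_small (odd_two_primes hvK hKo)
    haveI : IsCyclic (G ⧸ K) := isCyclic_of_prime_card (p := 2) hKi
    haveI : Group.IsSolvable (G ⧸ K) := isSolvable_of_comm fun a c => (IsCyclic.commGroup (α := G ⧸ K)).mul_comm a c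
    exact solvable_of_ker_le_range K.subtype (QuotientGroup.mk' K) (by rw [QuotientGroup.ker_mk', Subgroup.range_subtype])
  · refine solvable_of_small ?_
    by_contra hcon
    push Not at hcon
    have hsub : ((Nat.card G).primeFactors.erase 2).card ≥ 2 := by
      have := Finset.pred_card_le_card_erase (a := 2) (s := (Nat.card G).primeFactors)
      omega
    obtain ⟨p, hp, q, hq, hpq⟩ := Finset.one_lt_card.mp hsub
    obtain ⟨hp2, hp⟩ := Finset.mem_erase.mp hp
    obtain ⟨hq2, hq⟩ := Finset.mem_erase.mp hq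
    obtain ⟨hP, hpd, -⟩ := Nat.mem_primeFactors.mp hp
    obtain ⟨hQ, hqd, -⟩ := Nat.mem_primeFactors.mp hq
    haveI := Fact.mk hP; haveI := Fact.mk hQ
    exact one_odd_prime hv h2' h4 hp2 hq2 hpq hpd hqd

theorem main (h : ((fun m : ℕ => Nat.card {g : G // orderOf g = m}) '' Set.range (orderOf : G → ℕ)).ncard = 3) :
    Group.IsSolvable G := by
  classical
  set I := ((fun m : ℕ => Nat.card {g : G // orderOf g = m}) '' Set.range (orderOf : G → ℕ)) with hI
  have h1 : (1 : ℕ) ∈ I := ⟨1, ⟨1, orderOf_one⟩, cnt_one⟩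
  obtain ⟨u, v, huv, huvI⟩ := Set.ncard_eq_two.mp (show (I \ {1}).ncard = 2 by
    rw [Set.ncard_sdiff_singleton_of_mem h1, h])
  have hmem : ∀ m, cnt G m = 0 ∨ cnt G m = 1 ∨ cnt G m = u ∨ cnt G m = v := by
    intro m
    by_cases h0 : cnt G m = 0
    · exact Or.inl h0
    obtain ⟨⟨g, hg⟩⟩ := (Nat.card_ne_zero.mp h0).1
    by_cases h1 : cnt G m = 1
    · exact Or.inr (Or.inl h1)
    have hmI : cnt G m ∈ I \ {1} := ⟨⟨m, ⟨g, hg⟩, rfl⟩, h1⟩
    rw [huvI] at hmI
    exact Or.inr (Or.inr hmI)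
  have heven : ∀ m, 2 < m → 2 ∣ cnt G m := fun m hm =>
    (even_iff_two_dvd.mp (Nat.totient_even hm)).trans (totient_dvd_cnt m)
  have hbig : ∀ m, 2 < m → cnt G m = 0 ∨ cnt G m = u ∨ cnt G m = v := fun m hm => by
    rcases hmem m with e | e | e
    · exact Or.inl e
    · have := heven m hm; omega
    · exact Or.inr e
  by_cases h2 : cnt G 2 ≤ 1
  · exact solvable_values h2 hbig
  have hodd : cnt G 2 % 2 = 1 := by
    haveI : Fact (Nat.Prime 2) := ⟨Nat.prime_two⟩
    have hev : 2 ∣ Nat.card G := by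
      by_contra hnd
      have := cnt_eq_zero_of_notdvd (G := G) hnd
      omega
    have := Cfsg.Agent.S3995.prime_dvd_succ_cnt (K := G) Nat.prime_two hev
    omega
  rcases hmem 2 with e | e | e | e
  · omega
  · omega
  · refine solvable_odd_value (v := v) fun m hm => ?_
    rcases hbig m hm with f | f | f
    · exact Or.inl f
    · have := heven m hm; omega
    · exact Or.inr (Or.inl f)
  · refine solvable_odd_value (v := u) fun m hm => ?_
    rcases hbig m hm with f | f | f
    · exact Or.inl f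
    · exact Or.inr (Or.inl f)
    · have := heven m hm; omega

theorem result {G : Type*} [Group G] [Finite G] (h : (((fun m : ℕ => Nat.card {g : G // orderOf g = m}) '' Set.range (orderOf : G → ℕ))).ncard = 3) : Group.IsSolvable G :=
  main h

end Cfsg.Agent.S3996
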