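import Cfsg.Statements.S3997
import Cfsg.Agent.Lib.Frobenius.OrderCount

set_option autoImplicit false
open Cfsg

namespace Cfsg.Agent.S3997

/-- Let G and H be finite groups with the same order type: for every m they have the same number of elements of order m. If G is nilpotent then so is H. -/
theorem result {G H : Type*} [Group G] [Finite G] [Group H] [Finite H] (hT : (∀ m : ℕ, Nat.card {g : G // orderOf g = m} = Nat.card {h : H // orderOf h = m})) (hG : Group.IsNilpotent G) :
    Group.IsNilpotent H := by
  exact CfsgLib.Frobenius.isNilpotent_of_pow_counts hG (CfsgLib.Frobenius.pow_counts_eq hT)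

end Cfsg.Agent.S3997
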