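import Cfsg.Statements.S3998
import Mathlib
import Cfsg.Agent.Lib.Supersolvable.Basic

set_option autoImplicit false
set_option linter.style.haveILetI false
open Cfsg

namespace Cfsg.Agent.S3998

/-- Number of solutions of `x ^ d = 1` in a quotient by a normal subgroup. -/
theorem card_pow_eq_one_quotient {G : Type*} [Group G] [Finite G] (P : Subgroup G) [P.Normal]
    (d : ℕ) :
    Nat.card {y : G ⧸ P // y ^ d = 1} * Nat.card P = Nat.card {x : G // x ^ d ∈ P} := by
  set f := QuotientGroup.mk' P
  have hmem : ∀ x : G, x ^ d ∈ P ↔ (f x) ^ d = 1 := fun x => by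
    rw [← map_pow]; exact (QuotientGroup.eq_one_iff _).symm
  rw [← Nat.card_prod]
  let e : G ≃ (G ⧸ P) × P := Subgroup.groupEquivQuotientProdSubgroup
  have he : ∀ x : G, (e x).1 = f x := fun x => rfl
  refine Nat.card_congr ?_
  calc {y : G ⧸ P // y ^ d = 1} × P
      ≃ {z : (G ⧸ P) × P // z.1 ^ d = 1} :=
        { toFun := fun z => ⟨(z.1.1, z.2), z.1.2⟩
          invFun := fun z => (⟨z.1.1, z.2⟩, z.1.2) }
    _ ≃ {x : G // x ^ d ∈ P} :=
        (e.subtypeEquiv fun x => by rw [hmem, he]).symm

/-- For a normal Sylow subgroup, membership of `x ^ d` is a power equation. -/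
theorem pow_mem_normal_sylow_iff {G : Type*} [Group G] [Finite G] {p : ℕ} [Fact p.Prime]
    (P : Sylow p G) (hP : (P : Subgroup G).Normal) (d : ℕ) (x : G) :
    x ^ d ∈ (P : Subgroup G) ↔ x ^ (d * Nat.card (P : Subgroup G)) = 1 := by
  rw [pow_mul]
  constructor
  · intro h
    exact congrArg Subtype.val (pow_card_eq_one' (x := (⟨x ^ d, h⟩ : (P : Subgroup G))))
  · intro h
    obtain ⟨a, ha⟩ := IsPGroup.iff_card.mp P.2
    rw [ha] at h
    obtain ⟨b, -, hb⟩ := (Nat.dvd_prime_pow Fact.out).mp (orderOf_dvd_of_pow_eq_one h)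
    obtain ⟨Q, hQ⟩ := (IsPGroup.of_card (p := p) (n := b)
      (G := Subgroup.zpowers (x ^ d)) (by rw [Nat.card_zpowers, hb])).exists_le_sylow
    haveI := Sylow.unique_of_normal P hP
    rw [Subsingleton.elim Q P] at hQ
    exact hQ (Subgroup.mem_zpowers _)

universe u v

theorem main (k : ℕ) : ∀ (G : Type u) (H : Type v) [Group G] [Finite G] [Group H] [Finite H],
    Nat.card G = k → (∀ d : ℕ, Nat.card {g : G // g ^ d = 1} = Nat.card {h : H // h ^ d = 1}) →
    Cfsg.IsSupersolvable G → Group.IsSolvable H := by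
  induction k using Nat.strong_induction_on with
  | _ k IH =>
  intro G H _ _ _ _ hk hT hG
  subst hk
  have hcard : Nat.card G = Nat.card H := by
    have h0 := hT 0
    simpa using h0
  rcases subsingleton_or_nontrivial G with hsub | hnt
  · haveI : Subsingleton H := by
      have : Nat.card H = 1 := by rw [← hcard]; exact Nat.card_of_subsingleton 1
      exact (Nat.card_eq_one_iff_unique.mp this).1
    exact Group.isSolvable_of_comm fun a b => Subsingleton.elim _ _
  have hne : (Nat.card G).primeFactors.Nonempty :=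
    Nat.nonempty_primeFactors.mpr Finite.one_lt_card
  set p := (Nat.card G).primeFactors.max' hne
  have hpmem : p ∈ (Nat.card G).primeFactors := Finset.max'_mem _ hne
  haveI : Fact p.Prime := ⟨(Nat.mem_primeFactors.mp hpmem).1⟩
  have hmax : ∀ q : ℕ, q.Prime → q ∣ Nat.card G → q ≤ p := fun q hq hd =>
    Finset.le_max' _ q (Nat.mem_primeFactors.mpr ⟨hq, hd, Nat.card_pos.ne'⟩)
  obtain ⟨P⟩ : Nonempty (Sylow p G) := inferInstance
  obtain ⟨Q⟩ : Nonempty (Sylow p H) := inferInstance
  have hPn : (P : Subgroup G).Normal :=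
    CfsgLib.Supersolvable.normal_sylow_largest_prime hG p hmax P
  have hPQ : Nat.card (P : Subgroup G) = Nat.card (Q : Subgroup H) := by
    rw [P.card_eq_multiplicity, Q.card_eq_multiplicity, hcard]
  have hQpow : ∀ x ∈ (Q : Subgroup H), x ^ Nat.card (Q : Subgroup H) = 1 := fun x hx =>
    congrArg Subtype.val (pow_card_eq_one' (x := (⟨x, hx⟩ : (Q : Subgroup H))))
  -- the `p`-elements of `H` form the single Sylow subgroup `Q`
  have hQset : ∀ x : H, x ^ Nat.card (Q : Subgroup H) = 1 → x ∈ (Q : Subgroup H) := by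
    have h1 : Nat.card {g : G // g ^ Nat.card (P : Subgroup G) = 1} =
        Nat.card (P : Subgroup G) := by
      refine Nat.card_congr (Equiv.subtypeEquivRight fun g => ?_)
      have := pow_mem_normal_sylow_iff P hPn 1 g
      rw [pow_one, one_mul] at this
      exact this.symm
    rw [hT, hPQ] at h1
    have hsub : ((Q : Subgroup H) : Set H) ⊆ {x : H | x ^ Nat.card (Q : Subgroup H) = 1} :=
      fun x hx => hQpow x hx
    have heq := Set.eq_of_subset_of_ncard_le hsub (by
      rw [← Nat.card_coe_set_eq, ← Nat.card_coe_set_eq]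
      exact le_of_eq h1) (Set.toFinite _)
    intro x hx
    exact (Set.ext_iff.mp heq x).mpr hx
  have hQn : (Q : Subgroup H).Normal := ⟨fun x hx y => hQset _ (by
    rw [conj_pow, hQpow x hx]; group)⟩
  haveI := hPn
  haveI := hQn
  have hlt : Nat.card (G ⧸ (P : Subgroup G)) < Nat.card G := by
    rw [Subgroup.card_eq_card_quotient_mul_card_subgroup (P : Subgroup G)]
    refine lt_mul_of_one_lt_right Nat.card_pos (lt_of_lt_of_le (Fact.out : p.Prime).one_lt ?_)
    exact Nat.le_of_dvd Nat.card_pos (P.dvd_card_of_dvd_card (Nat.mem_primeFactors.mp hpmem).2.1)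
  have hT' : ∀ d : ℕ, Nat.card {g : G ⧸ (P : Subgroup G) // g ^ d = 1} =
      Nat.card {h : H ⧸ (Q : Subgroup H) // h ^ d = 1} := by
    intro d
    have e1 := card_pow_eq_one_quotient (P : Subgroup G) d
    have e2 := card_pow_eq_one_quotient (Q : Subgroup H) d
    rw [Nat.card_congr (Equiv.subtypeEquivRight (pow_mem_normal_sylow_iff P hPn d)), hT, hPQ] at e1
    rw [Nat.card_congr (Equiv.subtypeEquivRight (pow_mem_normal_sylow_iff Q hQn d))] at e2
    exact Nat.eq_of_mul_eq_mul_right Nat.card_pos (e1.trans e2.symm)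
  haveI : Group.IsSolvable (H ⧸ (Q : Subgroup H)) :=
    IH _ hlt (G ⧸ (P : Subgroup G)) (H ⧸ (Q : Subgroup H)) rfl hT'
      (CfsgLib.Supersolvable.quotient hG _)
  haveI : Group.IsNilpotent (Q : Subgroup H) := Q.2.isNilpotent
  haveI : Group.IsSolvable (Q : Subgroup H) := IsNilpotent.to_isSolvable
  exact Group.isSolvable_of_ker_le_range (Q : Subgroup H).subtype
    (QuotientGroup.mk' (Q : Subgroup H)) (by rw [QuotientGroup.ker_mk', Subgroup.range_subtype])

/-- Let G and H be finite groups with the same order type (for every m the same number of elements of order m). If G is supersolvable then H is solvable. -/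
theorem result {G H : Type*} [Group G] [Finite G] [Group H] [Finite H] (hT : (∀ m : ℕ, Nat.card {g : G // orderOf g = m} = Nat.card {h : H // orderOf h = m})) (hG : Cfsg.IsSupersolvable G) :
    Group.IsSolvable H := by
  obtain ⟨e, he⟩ : ∃ e : G ≃ H, ∀ g, orderOf (e g) = orderOf g :=
    ⟨Equiv.ofFiberEquiv fun m => (Finite.card_eq.mp (hT m)).some,
      fun g => Equiv.ofFiberEquiv_map _ g⟩
  refine main _ G H rfl (fun d => Nat.card_congr (e.subtypeEquiv fun g => ?_)) hG
  rw [← orderOf_dvd_iff_pow_eq_one, ← orderOf_dvd_iff_pow_eq_one, he]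

end Cfsg.Agent.S3998
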