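import Cfsg.Statements.S4345
import Cfsg.Agent.Lib.Hall.Basic

set_option autoImplicit false
open Cfsg
open scoped Pointwise

namespace Cfsg.Agent.S4345

/-- Let G be a finite solvable group and p, ℓ primes. Then the largest power of ℓ dividing the number of Sylow p-subgroups of G is congruent to 1 modulo p. -/
theorem result {G : Type*} [Group G] [Finite G]
    (hG : Group.IsSolvable G) (p ℓ : ℕ) [Fact p.Prime] (hℓ : ℓ.Prime) :
    ℓ ^ (Nat.card (Sylow p G)).factorization ℓ ≡ 1 [MOD p] := by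
  classical
  haveI := hG
  haveI := Fact.mk hℓ
  have hp := (Fact.out : p.Prime)
  by_cases hpl : ℓ = p
  · subst hpl
    rw [Nat.factorization_eq_zero_of_not_dvd (not_dvd_card_sylow ℓ G), pow_zero]
  obtain ⟨P⟩ : Nonempty (Sylow p G) := inferInstance
  set N := Subgroup.normalizer ((P : Subgroup G) : Set G) with hN
  obtain ⟨L⟩ : Nonempty (Sylow ℓ N) := inferInstance
  set L' := (L : Subgroup N).map N.subtype with hL'
  have hLc : Nat.card L' = ℓ ^ (Nat.card N).factorization ℓ := by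
    rw [hL', Subgroup.card_subtype, L.card_eq_multiplicity]
  have hLN : L' ≤ N := Subgroup.map_subtype_le _
  set a := (Nat.card G).factorization p
  set b := (Nat.card G).factorization ℓ
  set b' := (Nat.card N).factorization ℓ
  set K := L' ⊔ (P : Subgroup G) with hKdef
  have hcop : ∀ i j : ℕ, (ℓ ^ i).Coprime (p ^ j) := fun i j =>
    ((Nat.coprime_primes hℓ hp).mpr hpl).pow i j
  have hKc : Nat.card K = ℓ ^ b' * p ^ a := by
    have hdisj : L' ⊓ (P : Subgroup G) = ⊥ := Subgroup.inf_eq_bot_of_coprime (by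
      rw [hLc, P.card_eq_multiplicity]; exact hcop _ _)
    have h1 : L' ≤ Subgroup.normalizer ((P : Subgroup G) : Set G) := hLN
    show Nat.card ((L' ⊔ (P : Subgroup G) : Subgroup G) : Set G) = _
    rw [← Nat.card_congr (Equiv.setCongr (Subgroup.coe_mul_of_left_le_normalizer_right L' (P : Subgroup G) h1)).symm,
      ← hLc, ← P.card_eq_multiplicity, ← Nat.card_prod]
    refine (Nat.card_congr (Equiv.ofBijective (fun x : L' × (P : Subgroup G) =>
      (⟨(x.1 : G) * x.2, x.1, x.1.2, x.2, x.2.2, rfl⟩ : ((L' : Set G) * ((P : Subgroup G) : Set G) : Set G))) ⟨?_, ?_⟩)).symm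
    · rintro ⟨x, y⟩ ⟨x', y'⟩ h
      have := Subgroup.disjoint_iff_mul_eq_one.mp (disjoint_iff.mpr hdisj) (x := (x' : G)⁻¹ * x) (y := (y : G) * (y' : G)⁻¹)
        (mul_mem (inv_mem x'.2) x.2) (mul_mem y.2 (inv_mem y'.2)) (by
          have h' := congrArg Subtype.val h
          simp only at h'
          rw [mul_assoc, ← mul_assoc (x : G), h']; group)
      exact Prod.ext (Subtype.ext (inv_mul_eq_one.mp this.1).symm) (Subtype.ext (mul_inv_eq_one.mp this.2))
    · rintro ⟨z, x, hx, y, hy, rfl⟩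
      exact ⟨⟨⟨x, hx⟩, ⟨y, hy⟩⟩, rfl⟩
  obtain ⟨n, hn⟩ : ℓ ^ b * p ^ a ∣ Nat.card G :=
    (hcop b a).mul_dvd_of_dvd_of_dvd (Nat.ordProj_dvd _ _) (Nat.ordProj_dvd _ _)
  have hn0 : n ≠ 0 := fun h => Nat.card_pos.ne' (by rw [hn, h, mul_zero] : Nat.card G = 0)
  have hcn : (ℓ ^ b * p ^ a).Coprime n := by
    have key : ∀ q : ℕ, q.Prime → q = ℓ ∨ q = p → q.Coprime n := by
      intro q hq hcase
      refine hq.coprime_iff_not_dvd.mpr fun hd => ?_
      have h1 : q ^ ((Nat.card G).factorization q + 1) ∣ Nat.card G := by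
        rw [pow_succ]
        conv_rhs => rw [hn]
        rcases hcase with rfl | rfl
        · exact mul_dvd_mul (dvd_mul_right _ _) hd
        · exact mul_dvd_mul (dvd_mul_left _ _) hd
      exact Nat.pow_succ_factorization_not_dvd Nat.card_pos.ne' hq h1
    exact Nat.Coprime.mul_left ((key ℓ hℓ (Or.inl rfl)).pow_left b) ((key p hp (Or.inr rfl)).pow_left a)
  have hb : b' ≤ b := (Nat.factorization_le_iff_dvd Nat.card_pos.ne' Nat.card_pos.ne').mpr (Subgroup.card_subgroup_dvd_card N) ℓ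
  obtain ⟨H, hH, hKH⟩ := CfsgLib.Hall.exists_hall_ge (m := ℓ ^ b * p ^ a) hn hcn (K := K) (by
    rw [hKc]; exact hcn.coprime_dvd_left (mul_dvd_mul_right (pow_dvd_pow ℓ hb) _))
  have hPH : (P : Subgroup G) ≤ H := le_sup_right.trans hKH
  set PH : Sylow p H := P.subtype hPH
  have hNH : (Subgroup.normalizer ((PH : Subgroup H) : Set H)).map H.subtype = H ⊓ N := by
    ext x
    constructor
    · rintro ⟨⟨x, hx⟩, h, rfl⟩
      refine ⟨hx, Subgroup.mem_normalizer_iff.mpr fun y => ?_⟩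
      rw [SetLike.mem_coe, Subgroup.mem_normalizer_iff] at h
      constructor
      · intro hy
        exact (h ⟨y, hPH hy⟩).mp hy
      · intro hy
        change x * y * x⁻¹ ∈ (P : Subgroup G) at hy
        have hyH : y ∈ H := by
          have h2 := mul_mem (mul_mem (inv_mem hx) (hPH hy)) hx
          have e : x⁻¹ * (x * y * x⁻¹) * x = y := by group
          rwa [e] at h2
        exact (h ⟨y, hyH⟩).mpr hy
    · rintro ⟨hxH, hxN⟩
      exact ⟨⟨x, hxH⟩, Subgroup.mem_normalizer_iff.mpr fun y => Subgroup.mem_normalizer_iff.mp hxN y, rfl⟩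
  have hHN : H ⊓ N = K := by
    refine (Subgroup.eq_of_le_of_card_ge (le_inf hKH (sup_le hLN Subgroup.le_normalizer)) ?_).symm
    refine Nat.le_of_dvd Nat.card_pos ?_
    obtain ⟨i, hi, j, hj, hij⟩ : ∃ i ≤ b', ∃ j ≤ a, Nat.card (H ⊓ N : Subgroup G) = ℓ ^ i * p ^ j := by
      have hd := (Subgroup.card_dvd_of_le (inf_le_left : H ⊓ N ≤ H)).trans (dvd_of_eq hH)
      obtain ⟨d1, d2, hd1, hd2, e⟩ := exists_dvd_and_dvd_of_dvd_mul hd
      obtain ⟨i, -, rfl⟩ := (Nat.dvd_prime_pow hℓ).mp hd1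
      obtain ⟨j, hj, rfl⟩ := (Nat.dvd_prime_pow hp).mp hd2
      refine ⟨i, (hℓ.pow_dvd_iff_le_factorization Nat.card_pos.ne').mp ?_, j, hj, e⟩
      exact (Dvd.intro _ e.symm).trans (Subgroup.card_dvd_of_le inf_le_right)
    rw [hij, hKc]
    exact mul_dvd_mul (pow_dvd_pow ℓ hi) (pow_dvd_pow p hj)
  have hcount : Nat.card (Sylow p H) * (ℓ ^ b' * p ^ a) = ℓ ^ b * p ^ a := by
    rw [← hKc, ← hH, ← hHN, ← hNH, Subgroup.card_subtype, PH.card_eq_index_normalizer]
    exact Subgroup.index_mul_card _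
  have hcountG : Nat.card (Sylow p G) * Nat.card N = Nat.card G := by
    rw [P.card_eq_index_normalizer]
    exact Subgroup.index_mul_card _
  have hbb : b = (Nat.card (Sylow p G)).factorization ℓ + b' := by
    have h := congrArg (fun x : ℕ => x.factorization ℓ) hcountG
    simp only [Nat.factorization_mul Nat.card_pos.ne' Nat.card_pos.ne', Finsupp.add_apply] at h
    exact h.symm
  rw [hbb, pow_add] at hcount
  have heq : Nat.card (Sylow p H) = ℓ ^ (Nat.card (Sylow p G)).factorization ℓ :=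
    Nat.eq_of_mul_eq_mul_right (Nat.mul_pos (pow_pos hℓ.pos _) (pow_pos hp.pos _)) (by rw [hcount]; ring)
  rw [← heq]
  exact card_sylow_modEq_one p H
end Cfsg.Agent.S4345
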