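import Cfsg.Statements.S3999
import Cfsg.Agent.S0035
import Cfsg.Agent.S0042
import Cfsg.Agent.S3359
import Cfsg.Agent.S4345
import Cfsg.Agent.Lib.FrobCompl.Basic
import Cfsg.Agent.Lib.FrobCompl.Conjugate
import Cfsg.Agent.Lib.FrobCompl.Fpf
-- import your own Cfsg.Agent.* helpers here

set_option autoImplicit false
set_option linter.style.haveILetI false
open Cfsg

namespace Cfsg.Agent.S3999

/-- Same order type gives a bijection preserving orders. -/
theorem exists_equiv {F G : Type*} [Group F] [Finite F] [Group G] [Finite G]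
    (hT : ∀ m : ℕ, Nat.card {g : F // orderOf g = m} = Nat.card {h : G // orderOf h = m}) :
    ∃ e : F ≃ G, ∀ x, orderOf (e x) = orderOf x :=
  ⟨Equiv.ofFiberEquiv fun m => Classical.choice (Finite.card_eq.mp (hT m)), fun x =>
    Equiv.ofFiberEquiv_map _ x⟩

section

variable {X : Type*} [Group X] [Finite X]

/-- A normal subgroup of order coprime to its index contains every element of dividing order. -/
theorem mem_iff_orderOf_dvd (N : Subgroup X) [N.Normal] {n : ℕ} (hn : Nat.card N = n)
    (hcop : n.Coprime N.index) (x : X) : x ∈ N ↔ orderOf x ∣ n := by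
  refine ⟨fun h => hn ▸ N.orderOf_dvd_natCard h, fun h => ?_⟩
  have h1 : orderOf (QuotientGroup.mk' N x) ∣ n := (orderOf_map_dvd _ x).trans h
  have h2 : orderOf (QuotientGroup.mk' N x) ∣ N.index := by
    rw [N.index_eq_card]; exact orderOf_dvd_natCard _
  have h3 := Nat.eq_one_of_dvd_coprimes hcop h1 h2
  rw [orderOf_eq_one_iff] at h3
  exact (QuotientGroup.eq_one_iff x).mp h3

/-- Normal subgroups of coprime orders multiply. -/
theorem card_sup_of_coprime (A B : Subgroup X) [A.Normal] (hcop : (Nat.card A).Coprime (Nat.card B)) :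
    Nat.card ↥(A ⊔ B) = Nat.card A * Nat.card B := by
  rw [← Subgroup.relIndex_bot_left (A ⊔ B), ← Subgroup.relIndex_mul_relIndex ⊥ A (A ⊔ B) bot_le le_sup_left,
    Subgroup.relIndex_bot_left, Subgroup.relIndex_sup_left, ← Subgroup.inf_relIndex_right,
    Subgroup.inf_eq_bot_of_coprime hcop, Subgroup.relIndex_bot_left]

/-- Normal subgroups of the prime power orders give one of the product order. -/
theorem exists_normal (n : ℕ) (hP : ∀ p : ℕ, p.Prime → p ∣ n →
      ∃ P : Subgroup X, P.Normal ∧ Nat.card P = p ^ n.factorization p) (hn : n ≠ 0) :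
    ∃ K : Subgroup X, K.Normal ∧ Nat.card K = n := by
  induction n using Nat.recOnPosPrimePosCoprime with
  | zero => exact absurd rfl hn
  | one => exact ⟨⊥, inferInstance, Subgroup.card_bot⟩
  | prime_pow p k hp hk =>
    obtain ⟨P, hPn, hPc⟩ := hP p hp (dvd_pow_self p hk.ne')
    exact ⟨P, hPn, by rw [hPc, hp.factorization_pow, Finsupp.single_eq_same]⟩
  | coprime a b ha hb hab iha ihb =>
    have ha0 : a ≠ 0 := by omega
    have hb0 : b ≠ 0 := by omega
    obtain ⟨A, hA, hAc⟩ := iha (fun p hp hd => by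
      obtain ⟨P, hPn, hPc⟩ := hP p hp (hd.mul_right b)
      refine ⟨P, hPn, hPc.trans ?_⟩
      rw [Nat.factorization_mul ha0 hb0, Finsupp.add_apply, Nat.factorization_eq_zero_of_not_dvd
        (fun h => hp.ne_one (Nat.eq_one_of_dvd_coprimes hab hd h)), add_zero]) ha0
    obtain ⟨B, hB, hBc⟩ := ihb (fun p hp hd => by
      obtain ⟨P, hPn, hPc⟩ := hP p hp (hd.mul_left a)
      refine ⟨P, hPn, hPc.trans ?_⟩
      rw [Nat.factorization_mul ha0 hb0, Finsupp.add_apply, Nat.factorization_eq_zero_of_not_dvd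
        (fun h => hp.ne_one (Nat.eq_one_of_dvd_coprimes hab h hd)), zero_add]) hb0
    haveI := hA
    haveI := hB
    exact ⟨A ⊔ B, Subgroup.sup_normal A B, by
      rw [card_sup_of_coprime A B (by rw [hAc, hBc]; exact hab), hAc, hBc]⟩

/-- A normal Sylow subgroup consists of the elements of dividing order. -/
theorem mem_normal_sylow_iff (P : Subgroup X) [P.Normal] {p a : ℕ} (hp : p.Prime)
    (ha : a = (Nat.card X).factorization p) (hP : Nat.card P = p ^ a) (x : X) :
    x ∈ P ↔ orderOf x ∣ p ^ a := by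
  refine mem_iff_orderOf_dvd P hP (Nat.Coprime.pow_left _ (hp.coprime_iff_not_dvd.mpr fun h => ?_)) x
  have h1 : p ^ (a + 1) ∣ Nat.card X := by
    rw [← P.card_mul_index, hP, pow_succ]; exact mul_dvd_mul_left _ h
  have := (hp.pow_dvd_iff_le_factorization Nat.card_pos.ne').mp h1
  omega

/-- Elements of order `m` correspond to those of the quotient. -/
theorem card_order_quotient (N : Subgroup X) [N.Normal] {c : ℕ} (hcop : (Nat.card N).Coprime c)
    (hord : ∀ x : X, orderOf x ∣ Nat.card N ∨ orderOf x ∣ c) {m : ℕ} (hm1 : m ≠ 1)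
    (hm : m.Coprime (Nat.card N)) :
    Nat.card {x : X // orderOf x = m} = Nat.card N * Nat.card {q : X ⧸ N // orderOf q = m} := by
  have key : ∀ x : X, orderOf (x : X ⧸ N) ∣ orderOf x := fun x => orderOf_map_dvd (QuotientGroup.mk' N) x
  have up : ∀ x : X, (orderOf x).Coprime (Nat.card N) → orderOf (x : X ⧸ N) = orderOf x := fun x hx => by
    refine Nat.dvd_antisymm (key x) ?_
    have h1 : x ^ orderOf (x : X ⧸ N) ∈ N := by
      rw [← QuotientGroup.eq_one_iff, QuotientGroup.mk_pow, pow_orderOf_eq_one]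
    have h2 : orderOf (x ^ orderOf (x : X ⧸ N)) = 1 :=
      Nat.eq_one_of_dvd_coprimes hx (orderOf_pow_dvd _) (N.orderOf_dvd_natCard h1)
    exact orderOf_dvd_of_pow_eq_one (orderOf_eq_one_iff.mp h2)
  have e : ∀ x : X, orderOf x = m ↔ orderOf (x : X ⧸ N) = m := fun x => by
    constructor
    · intro h; rw [up x (h ▸ hm), h]
    · intro h
      rcases hord x with h' | h'
      · exact absurd (Nat.eq_one_of_dvd_coprimes hm dvd_rfl (h ▸ (key x).trans h')) hm1
      · rw [← up x (hcop.symm.coprime_dvd_left h'), h]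
  rw [Nat.card_congr ((Equiv.subtypeEquivRight e).trans
    (QuotientGroup.preimageMkEquivSubgroupProdSet N {q : X ⧸ N | orderOf q = m})), Nat.card_prod]
  rfl

/-- Elements of order five, when five divides the order once. -/
theorem card_order_five (h : (Nat.card X).factorization 5 = 1) :
    Nat.card {x : X // orderOf x = 5} = 4 * Nat.card (Sylow 5 X) := by
  classical
  haveI : Fact (Nat.Prime 5) := ⟨by norm_num⟩
  have hc : ∀ P : Sylow 5 X, Nat.card (P : Subgroup X) = 5 := fun P => by
    rw [P.card_eq_multiplicity, h, pow_one]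
  have hz : ∀ (P : Sylow 5 X) (y : X), y ∈ (P : Subgroup X) → y ≠ 1 → orderOf y = 5 ∧
      Subgroup.zpowers y = (P : Subgroup X) := fun P y hy hy1 => by
    have hd := (hc P) ▸ (P : Subgroup X).orderOf_dvd_natCard hy
    rcases (Nat.dvd_prime (by norm_num)).mp hd with h' | h'
    · exact absurd (orderOf_eq_one_iff.mp h') hy1
    · exact ⟨h', Subgroup.eq_of_le_of_card_ge (Subgroup.zpowers_le.mpr hy)
        (by rw [Nat.card_zpowers, h', hc P])⟩
  let f : (Σ P : Sylow 5 X, {y : (P : Subgroup X) // y ≠ 1}) → {x : X // orderOf x = 5} :=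
    fun s => ⟨(s.2.1 : X), (hz s.1 _ s.2.1.2 fun e => s.2.2 (Subtype.ext e)).1⟩
  have hf : Function.Bijective f := by
    constructor
    · rintro ⟨P, ⟨y, hy⟩, hy1⟩ ⟨Q, ⟨z, hzz⟩, hz1⟩ e
      have e' : y = z := congrArg Subtype.val e
      subst e'
      have h1 : y ≠ 1 := fun e => hy1 (Subtype.ext e)
      obtain rfl : P = Q := Sylow.ext ((hz P y hy h1).2.symm.trans (hz Q y hzz h1).2)
      rfl
    · rintro ⟨x, hx⟩
      have hp : IsPGroup 5 (Subgroup.zpowers x) := IsPGroup.of_card (n := 1) (by rw [Nat.card_zpowers, hx, pow_one])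
      obtain ⟨P, hP⟩ := hp.exists_le_sylow
      exact ⟨⟨P, ⟨x, hP (Subgroup.mem_zpowers x)⟩, fun e => by
        have : x = 1 := congrArg Subtype.val e
        rw [this, orderOf_one] at hx
        omega⟩, rfl⟩
  haveI := Fintype.ofFinite (Sylow 5 X)
  rw [← Nat.card_eq_of_bijective f hf, Nat.card_sigma, Finset.sum_const_nat (m := 4), Finset.card_univ,
    Nat.card_eq_fintype_card, mul_comm]
  intro P _
  haveI := Fintype.ofFinite (P : Subgroup X)
  rw [Nat.card_eq_fintype_card, Fintype.card_subtype_compl, ← Nat.card_eq_fintype_card, hc P,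
    Fintype.card_subtype_eq]

end

/-- The hypothesis of being isomorphic to a Frobenius complement. -/
def IsFC (A : Type*) [Group A] : Prop :=
  ∃ (L : Type) (_ : Group L) (_ : Finite L) (H : Subgroup L), Cfsg.IsFrobeniusComplement H ∧ Nonempty (A ≃* H)

theorem isFC_of_complement {X : Type*} [Group X] [Finite X] {C : Subgroup X} (hC : Cfsg.IsFrobeniusComplement C)
    {A : Type*} [Group A] (e : A ≃* C) : IsFC A := by
  let f : X ≃* Shrink.{0} X := (Shrink.mulEquiv).symm
  exact ⟨Shrink.{0} X, inferInstance, Finite.of_equiv _ f.toEquiv, C.map f.toMonoidHom,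
    CfsgLib.FrobCompl.isFrobeniusComplement_map f hC,
    ⟨e.trans (C.equivMapOfInjective f.toMonoidHom f.injective)⟩⟩

theorem sl_two_five_noncomm : ∃ u v : Matrix.SpecialLinearGroup (Fin 2) (ZMod 5),
    u ^ 5 = 1 ∧ v ^ 5 = 1 ∧ u * v ≠ v * u :=
  ⟨⟨!![1, 1; 0, 1], by decide⟩, ⟨!![1, 0; 1, 1], by decide⟩, by decide, by decide, by decide⟩

theorem sl_two_five_count :
    Nat.card {x : Matrix.SpecialLinearGroup (Fin 2) (ZMod 5) // orderOf x = 5} = 24 ∧
      Nat.card (Matrix.SpecialLinearGroup (Fin 2) (ZMod 5)) = 120 := by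
  haveI : Fact (Nat.Prime 5) := ⟨by norm_num⟩
  have hcard : Nat.card (Matrix.SpecialLinearGroup (Fin 2) (ZMod 5)) = 120 := by
    rw [Nat.card_eq_fintype_card]; decide +kernel
  refine ⟨?_, hcard⟩
  have hfac : (Nat.card (Matrix.SpecialLinearGroup (Fin 2) (ZMod 5))).factorization 5 = 1 := by
    rw [hcard, show 120 = 5 ^ 1 * 24 by norm_num, Nat.factorization_mul (by norm_num) (by norm_num),
      Finsupp.add_apply, Nat.Prime.factorization_pow (by norm_num), Finsupp.single_eq_same,
      Nat.factorization_eq_zero_of_not_dvd (show ¬ 5 ∣ 24 by norm_num)]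
  rw [card_order_five hfac]
  obtain ⟨P⟩ := (inferInstance : Nonempty (Sylow 5 (Matrix.SpecialLinearGroup (Fin 2) (ZMod 5))))
  have hPc : Nat.card (P : Subgroup (Matrix.SpecialLinearGroup (Fin 2) (ZMod 5))) = 5 := by
    rw [P.card_eq_multiplicity, hfac, pow_one]
  have hidx : (P : Subgroup (Matrix.SpecialLinearGroup (Fin 2) (ZMod 5))).index = 24 := by
    have := (P : Subgroup (Matrix.SpecialLinearGroup (Fin 2) (ZMod 5))).card_mul_index
    rw [hPc, hcard] at this
    omega
  have hd := Sylow.card_dvd_index P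
  rw [hidx] at hd
  have hm := card_sylow_modEq_one 5 (Matrix.SpecialLinearGroup (Fin 2) (ZMod 5))
  set s := Nat.card (Sylow 5 (Matrix.SpecialLinearGroup (Fin 2) (ZMod 5))) with hs
  have hne : s ≠ 1 := by
    intro h1
    haveI : Subsingleton (Sylow 5 (Matrix.SpecialLinearGroup (Fin 2) (ZMod 5))) :=
      (Nat.card_eq_one_iff_unique.mp h1).1
    obtain ⟨u, v, hu, hv, huv⟩ := sl_two_five_noncomm
    have hmem : ∀ w : Matrix.SpecialLinearGroup (Fin 2) (ZMod 5), w ^ 5 = 1 →
        w ∈ (P : Subgroup (Matrix.SpecialLinearGroup (Fin 2) (ZMod 5))) := fun w hw => by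
      have hd : orderOf w ∣ 5 ^ 1 := by rw [pow_one]; exact orderOf_dvd_of_pow_eq_one hw
      obtain ⟨k, -, hk⟩ := (Nat.dvd_prime_pow (by norm_num)).mp hd
      have hp : IsPGroup 5 (Subgroup.zpowers w) := IsPGroup.of_card (n := k) (by rw [Nat.card_zpowers, hk])
      obtain ⟨Q, hQ⟩ := hp.exists_le_sylow
      exact Subsingleton.elim Q P ▸ hQ (Subgroup.mem_zpowers w)
    have hcomm : IsMulCommutative (P : Subgroup (Matrix.SpecialLinearGroup (Fin 2) (ZMod 5))) := by
      haveI := isCyclic_of_prime_card hPc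
      infer_instance
    exact huv (congrArg Subtype.val (hcomm.is_comm.comm ⟨u, hmem u hu⟩ ⟨v, hmem v hv⟩))
  have : s ≤ 24 := Nat.le_of_dvd (by norm_num) hd
  have hm' : s % 5 = 1 := hm
  interval_cases s <;> omega

/-- A nonsolvable complement has twenty-four elements of order five. -/
theorem nonsolvable_count {B : Type*} [Group B] [Finite B] (hB : ¬ Group.IsSolvable B) (hFC : IsFC B) :
    (Nat.card B).factorization 5 = 1 ∧ Nat.card {x : B // orderOf x = 5} = 24 := by
  obtain ⟨G₀, hn, hidx, S, M, hsup, hinf, hcomm, ⟨e⟩, -, hM⟩ := Cfsg.Agent.S3359.result hB hFC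
  haveI := hn
  have h5 : Nat.Coprime 5 (Nat.card M) := (hM.coprime_dvd_right (by norm_num)).symm
  let f : S × M →* B := MonoidHom.noncommCoprod S.subtype M.subtype fun s x => hcomm s s.2 x x.2
  have hfinj : Function.Injective f := by
    rintro ⟨s, x⟩ ⟨s', x'⟩ h
    have h' : (s : B) * x = s' * x' := h
    have h1 : ((s' : B))⁻¹ * s = x' * (x : B)⁻¹ := by
      rw [eq_mul_inv_iff_mul_eq, mul_assoc, h', inv_mul_cancel_left]
    have h2 : ((s' : B))⁻¹ * s ∈ S ⊓ M := Subgroup.mem_inf.mpr
      ⟨S.mul_mem (S.inv_mem s'.2) s.2, by rw [h1]; exact M.mul_mem x'.2 (M.inv_mem x.2)⟩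
    rw [hinf, Subgroup.mem_bot, inv_mul_eq_one] at h2
    rw [← h2, mul_left_cancel_iff] at h'
    exact Prod.ext (Subtype.ext h2.symm) (Subtype.ext h')
  have hfr : f.range = G₀ := by
    rw [← hsup]
    refine (MonoidHom.noncommCoprod_range _ _ _).trans ?_
    rw [Subgroup.range_subtype, Subgroup.range_subtype]
  have hG₀ : Nat.card G₀ = 120 * Nat.card M := by
    rw [← hfr, ← Nat.card_congr (MonoidHom.ofInjective hfinj).toEquiv, Nat.card_prod,
      Nat.card_congr e.toEquiv, sl_two_five_count.2]
  have h5i : ¬ 5 ∣ G₀.index := by rcases hidx with h | h <;> rw [h] <;> norm_num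
  constructor
  · rw [← G₀.card_mul_index, hG₀, show 120 * Nat.card M * G₀.index = 5 ^ 1 * (24 * Nat.card M * G₀.index) by ring,
      Nat.factorization_mul (by norm_num) (by
        have h1 : Nat.card M ≠ 0 := Nat.card_pos.ne'
        have h2 : G₀.index ≠ 0 := Subgroup.index_ne_zero_of_finite
        exact mul_ne_zero (mul_ne_zero (by norm_num) h1) h2), Finsupp.add_apply,
      Nat.Prime.factorization_pow (by norm_num), Finsupp.single_eq_same, Nat.factorization_eq_zero_of_not_dvd]
    intro h
    rcases (Nat.prime_five.dvd_mul).mp h with h | h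
    · rcases (Nat.prime_five.dvd_mul).mp h with h | h
      · norm_num at h
      · exact (Nat.prime_five.coprime_iff_not_dvd.mp h5) h
    · exact h5i h
  · rw [← sl_two_five_count.1]
    let i : Matrix.SpecialLinearGroup (Fin 2) (ZMod 5) →* B := S.subtype.comp e.symm.toMonoidHom
    have hi : Function.Injective i := S.subtype_injective.comp e.symm.injective
    refine (Nat.card_eq_of_bijective
      (fun x : {x : Matrix.SpecialLinearGroup (Fin 2) (ZMod 5) // orderOf x = 5} =>
        (⟨i x.1, by rw [orderOf_injective i hi, x.2]⟩ : {x : B // orderOf x = 5})) ⟨?_, ?_⟩).symm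
    · intro x y h
      simp only [Subtype.mk.injEq] at h
      exact Subtype.ext (hi h)
    · rintro ⟨b, hb⟩
      have hbG : b ∈ G₀ := by
        have h1 : orderOf (QuotientGroup.mk' G₀ b) ∣ 5 := hb ▸ orderOf_map_dvd _ b
        have h2 : orderOf (QuotientGroup.mk' G₀ b) ∣ G₀.index := by
          rw [G₀.index_eq_card]; exact orderOf_dvd_natCard _
        have h3 := Nat.eq_one_of_dvd_coprimes (Nat.prime_five.coprime_iff_not_dvd.mpr h5i) h1 h2
        rw [orderOf_eq_one_iff] at h3
        exact (QuotientGroup.eq_one_iff b).mp h3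
      rw [← hfr] at hbG
      obtain ⟨⟨s, x⟩, rfl⟩ := hbG
      have hx5 : orderOf x ∣ 5 := by
        rw [← hb, orderOf_injective f hfinj, Prod.orderOf_mk]
        exact Nat.dvd_lcm_right _ _
      have hx1 : x = 1 := orderOf_eq_one_iff.mp (Nat.eq_one_of_dvd_coprimes h5 hx5 (orderOf_dvd_natCard x))
      subst hx1
      have hfs : f (s, 1) = i (e s) := by
        show (s : B) * ((1 : M) : B) = (e.symm (e s) : B)
        rw [OneMemClass.coe_one, mul_one, e.symm_apply_apply]
      refine ⟨⟨e s, ?_⟩, Subtype.ext hfs.symm⟩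
      rw [← orderOf_injective i hi, ← hfs, hb]

/-- Same number of elements of order five separates solvable and nonsolvable complements. -/
theorem not_solvable_of_counts {A B : Type*} [Group A] [Finite A] [Group B] [Finite B] (hFC : IsFC B)
    (hcard : Nat.card A = Nat.card B)
    (hn5 : 5 ∣ Nat.card A → Nat.card {x : A // orderOf x = 5} = Nat.card {x : B // orderOf x = 5})
    (hB : ¬ Group.IsSolvable B) : ¬ Group.IsSolvable A := by
  intro hA
  obtain ⟨hfac, h24⟩ := nonsolvable_count hB hFC
  haveI : Fact (Nat.Prime 5) := ⟨by norm_num⟩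
  have hd : 5 ∣ Nat.card A := by
    rw [hcard]
    exact Nat.dvd_of_factorization_pos (by rw [hfac]; norm_num)
  have h := hn5 hd
  rw [card_order_five (hcard ▸ hfac), h24] at h
  have h6 : Nat.card (Sylow 5 A) = 6 := by omega
  have hmod := Cfsg.Agent.S4345.result hA 5 2 Nat.prime_two
  have hf2 : (6 : ℕ).factorization 2 = 1 := by
    rw [show (6 : ℕ) = 2 ^ 1 * 3 by norm_num, Nat.factorization_mul (by norm_num) (by norm_num),
      Finsupp.add_apply, Nat.prime_two.factorization_pow, Finsupp.single_eq_same,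
      Nat.factorization_eq_zero_of_not_dvd (show ¬ 2 ∣ 3 by norm_num)]
  rw [h6, hf2] at hmod
  exact absurd hmod (by decide)

/-- Let F be a finite Frobenius group (it has a Frobenius complement) and G a finite group with the same order type as F (for every m the same number of elements of order m). Then G is a Frobenius group; moreover G is solvable if and only if F is. -/
theorem result {F G : Type*} [Group F] [Finite F] [Group G] [Finite G] (hF : (∃ C : Subgroup F, Cfsg.IsFrobeniusComplement C)) (hT : (∀ m : ℕ, Nat.card {g : F // orderOf g = m} = Nat.card {h : G // orderOf h = m})) :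
    (∃ C : Subgroup G, Cfsg.IsFrobeniusComplement C) ∧ (Group.IsSolvable G ↔ Group.IsSolvable F) := by
  classical
  obtain ⟨e, he⟩ := exists_equiv hT
  have hFG : Nat.card F = Nat.card G := Nat.card_congr e
  obtain ⟨C, hC⟩ := hF
  obtain ⟨N, hNset, hNn, hNc⟩ := Cfsg.Agent.S0035.result C hC
  obtain ⟨N', hN'set, -, hNnil⟩ := Cfsg.Agent.S0042.result C hC
  obtain rfl : N = N' := SetLike.coe_injective (hNset.trans hN'set.symm)
  haveI := hNn
  have hcop : (Nat.card N).Coprime (Nat.card C) := CfsgLib.FrobCompl.isComplement_coprime hC hNc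
  have hFcard : Nat.card N * Nat.card C = Nat.card F := hNc.card_mul
  have hNidx : N.index = Nat.card C := hNc.symm.index_eq_card
  have hord : ∀ x : F, orderOf x ∣ Nat.card N ∨ orderOf x ∣ Nat.card C := fun x => by
    by_cases hx : x ∈ N
    · exact Or.inl (N.orderOf_dvd_natCard hx)
    · have hx' : x ∉ Cfsg.frobeniusKernel C := hNset ▸ hx
      simp only [Cfsg.frobeniusKernel, Set.mem_setOf_eq, not_or, not_forall, not_not] at hx'
      obtain ⟨-, g, hg⟩ := hx'
      obtain ⟨y, hy, rfl⟩ := hg
      exact Or.inr ((orderOf_map_dvd _ y).trans (C.orderOf_dvd_natCard hy))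
  have hordG : ∀ y : G, orderOf y ∣ Nat.card N ∨ orderOf y ∣ Nat.card C := fun y => by
    have := hord (e.symm y)
    rwa [← he, e.apply_symm_apply] at this
  -- the Sylow subgroups of the kernel order are normal in `G`
  have hsyl : ∀ p : ℕ, p.Prime → p ∣ Nat.card N →
      ∃ P : Subgroup G, P.Normal ∧ Nat.card P = p ^ (Nat.card N).factorization p := by
    intro p hp hd
    haveI := Fact.mk hp
    set a := (Nat.card N).factorization p with ha
    have haF : a = (Nat.card F).factorization p := by
      rw [← hFcard, Nat.factorization_mul Nat.card_pos.ne' Nat.card_pos.ne', Finsupp.add_apply,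
        Nat.factorization_eq_zero_of_not_dvd (n := Nat.card C)
          (fun h => hp.ne_one (Nat.eq_one_of_dvd_coprimes hcop hd h)), add_zero]
    obtain ⟨P⟩ := (inferInstance : Nonempty (Sylow p N))
    haveI : Group.IsNilpotent N := hNnil
    haveI hPn : (P : Subgroup N).Normal :=
      P.normal_of_normalizerCondition Group.normalizerCondition_of_isNilpotent
    haveI : (P : Subgroup N).Characteristic := Sylow.characteristic_of_normal P hPn
    have hPc : Nat.card ((P : Subgroup N).map N.subtype) = p ^ a := by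
      rw [Subgroup.card_map_of_injective N.subtype_injective]
      exact P.card_eq_multiplicity
    haveI : ((P : Subgroup N).map N.subtype).Normal := ConjAct.normal_of_characteristic_of_normal
    have hcF : Nat.card {x : F // orderOf x ∣ p ^ a} = p ^ a := by
      refine (Nat.card_congr ?_).trans hPc
      exact Equiv.subtypeEquivRight fun x => (mem_normal_sylow_iff _ hp haF hPc x).symm
    have hcG : Nat.card {x : G // orderOf x ∣ p ^ a} = p ^ a := by
      refine (Nat.card_congr (e.subtypeEquiv fun x => ?_)).symm.trans hcF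
      rw [he]
    obtain ⟨Q⟩ := (inferInstance : Nonempty (Sylow p G))
    have hQc : Nat.card (Q : Subgroup G) = p ^ a := by rw [Q.card_eq_multiplicity, ← hFG, ← haF]
    have hset : ((Q : Subgroup G) : Set G) = {x : G | orderOf x ∣ p ^ a} := by
      refine Set.eq_of_subset_of_ncard_le (fun x hx => hQc ▸ (Q : Subgroup G).orderOf_dvd_natCard hx) ?_
      rw [← Nat.card_coe_set_eq, ← Nat.card_coe_set_eq]
      exact (hcG.trans hQc.symm).le
    refine ⟨Q, ⟨fun x hx g => ?_⟩, hQc⟩
    have h1 : orderOf x ∣ p ^ a := (Set.ext_iff.mp hset x).mp hx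
    exact (Set.ext_iff.mp hset _).mpr
      (by rw [Set.mem_setOf_eq, ← MulAut.conj_apply, MulEquiv.orderOf_eq]; exact h1)
  obtain ⟨K, hKn, hKc⟩ := exists_normal (Nat.card N) hsyl Nat.card_pos.ne'
  haveI := hKn
  have hKidx : K.index = Nat.card C := by
    have h := K.card_mul_index
    rw [hKc, ← hFG, ← hFcard] at h
    exact Nat.eq_of_mul_eq_mul_left Nat.card_pos h
  obtain ⟨D, hD⟩ := Subgroup.exists_right_complement'_of_coprime (N := K) (by rw [hKc, hKidx]; exact hcop)
  have hDc : Nat.card D = Nat.card C := by rw [← hD.symm.index_eq_card, hKidx]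
  have hK1 : K ≠ ⊥ := fun h => by
    have : Nat.card N = 1 := by rw [← hKc, h, Subgroup.card_bot]
    have hN : N = ⊥ := Subgroup.card_eq_one.mp this
    rw [hN] at hNc
    exact hC.2.1 (Subgroup.isComplement'_bot_left.mp hNc)
  have hD1 : D ≠ ⊥ := fun h => by
    rw [h, Subgroup.card_bot] at hDc
    exact hC.1 (Subgroup.card_eq_one.mp hDc.symm)
  have hDF : Cfsg.IsFrobeniusComplement D := by
    refine CfsgLib.FrobCompl.isFrobeniusComplement_of_fpf hD hK1 hD1 fun d hd hd1 k hk hc => ?_
    by_contra hk1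
    have hdk : (orderOf k).Coprime (orderOf d) := Nat.Coprime.coprime_dvd_left
      (hKc ▸ K.orderOf_dvd_natCard hk) (Nat.Coprime.coprime_dvd_right (hDc ▸ D.orderOf_dvd_natCard hd) hcop)
    have ho := Commute.orderOf_mul_eq_mul_orderOf_of_coprime hc hdk
    rcases hordG (k * d) with h | h <;> rw [ho] at h
    · exact hd1 (orderOf_eq_one_iff.mp (Nat.eq_one_of_dvd_coprimes hcop
        ((dvd_mul_left _ _).trans h) (hDc ▸ D.orderOf_dvd_natCard hd)))
    · exact hk1 (orderOf_eq_one_iff.mp (Nat.eq_one_of_dvd_coprimes hcop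
        (hKc ▸ K.orderOf_dvd_natCard hk) ((dvd_mul_right _ _).trans h)))
  refine ⟨⟨D, hDF⟩, ?_⟩
  obtain ⟨K', hK'set, -, hK'nil⟩ := Cfsg.Agent.S0042.result D hDF
  obtain rfl : K = K' := SetLike.coe_injective
    (hK'set.trans (CfsgLib.FrobCompl.frobeniusKernel_eq_of_complement hDF hD)).symm
  haveI : Group.IsNilpotent K := hK'nil
  haveI : Group.IsNilpotent N := hNnil
  -- pass to the quotients
  let eC : (F ⧸ N) ≃* C := hNc.symm.QuotientMulEquiv
  let eD : (G ⧸ K) ≃* D := hD.symm.QuotientMulEquiv
  have hsF : Group.IsSolvable F ↔ Group.IsSolvable (F ⧸ N) := by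
    refine ⟨fun h => solvable_of_surjective (f := QuotientGroup.mk' N) (QuotientGroup.mk'_surjective _), fun h => ?_⟩
    exact solvable_of_ker_le_range N.subtype (QuotientGroup.mk' N) (by simp)
  have hsG : Group.IsSolvable G ↔ Group.IsSolvable (G ⧸ K) := by
    refine ⟨fun h => solvable_of_surjective (f := QuotientGroup.mk' K) (QuotientGroup.mk'_surjective _), fun h => ?_⟩
    exact solvable_of_ker_le_range K.subtype (QuotientGroup.mk' K) (by simp)
  have hq : Nat.card (G ⧸ K) = Nat.card (F ⧸ N) := by rw [← K.index_eq_card, ← N.index_eq_card, hKidx, hNidx]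
  have hn5 : 5 ∣ Nat.card C →
      Nat.card {x : G ⧸ K // orderOf x = 5} = Nat.card {x : F ⧸ N // orderOf x = 5} := by
    intro h5
    have h5N : Nat.Coprime 5 (Nat.card N) := hcop.symm.coprime_dvd_left h5
    have e1 := card_order_quotient N hcop hord (m := 5) (by norm_num) h5N
    have e2 := card_order_quotient K (hKc.symm ▸ hcop) (hKc.symm ▸ hordG) (m := 5) (by norm_num) (hKc.symm ▸ h5N)
    rw [← hT 5, e1, hKc] at e2
    exact (Nat.eq_of_mul_eq_mul_left Nat.card_pos e2).symm
  rw [hsF, hsG]
  constructor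
  · intro h
    by_contra hns
    exact not_solvable_of_counts (isFC_of_complement hC eC) hq
      (fun h5 => hn5 (by rwa [← hKidx, K.index_eq_card])) hns h
  · intro h
    by_contra hns
    exact not_solvable_of_counts (isFC_of_complement hDF eD) hq.symm
      (fun h5 => (hn5 (by rwa [← hNidx, N.index_eq_card])).symm) hns h

end Cfsg.Agent.S3999
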