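import Cfsg.Statements.S4002
import Cfsg.Agent.Lib.Spectrum.ThreePrimes
-- import your own Cfsg.Agent.* helpers here

set_option autoImplicit false
open Cfsg

namespace Cfsg.Agent.S4002

/-- If the set of element orders of a finite group G is {1, 2, …, n} with n ≥ 7, then G is not solvable. -/
theorem result {G : Type*} [Group G] [Finite G] (n : ℕ) (hn : 7 ≤ n) (h : Set.range (orderOf : G → ℕ) = {k : ℕ | 1 ≤ k ∧ k ≤ n}) : ¬ Group.IsSolvable G := by
  intro hsol
  haveI := hsol
  obtain ⟨σ, hσ3, hσp, hσn, hσpair⟩ : ∃ σ : Finset ℕ, 3 ≤ σ.card ∧ (∀ p ∈ σ, p.Prime) ∧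
      (∀ p ∈ σ, p ≤ n) ∧ ∀ p ∈ σ, ∀ q ∈ σ, p ≠ q → n < p * q := by
    by_cases h14 : n ≤ 14
    · refine ⟨{3, 5, 7}, by decide, ?_, ?_, ?_⟩
      · intro p hp; simp at hp; rcases hp with rfl | rfl | rfl <;> norm_num
      · intro p hp; simp at hp; omega
      · intro p hp q hq hpq; simp at hp hq
        rcases hp with rfl | rfl | rfl <;> rcases hq with rfl | rfl | rfl <;> omega
    by_cases h34 : n ≤ 34
    · refine ⟨{5, 7, 11}, by decide, ?_, ?_, ?_⟩
      · intro p hp; simp at hp; rcases hp with rfl | rfl | rfl <;> norm_num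
      · intro p hp; simp at hp; omega
      · intro p hp q hq hpq; simp at hp hq
        rcases hp with rfl | rfl | rfl <;> rcases hq with rfl | rfl | rfl <;> omega
    by_cases h63 : n ≤ 63
    · refine ⟨{7, 11, 13}, by decide, ?_, ?_, ?_⟩
      · intro p hp; simp at hp; rcases hp with rfl | rfl | rfl <;> norm_num
      · intro p hp; simp at hp; omega
      · intro p hp q hq hpq; simp at hp hq
        rcases hp with rfl | rfl | rfl <;> rcases hq with rfl | rfl | rfl <;> omega
    set k := Nat.sqrt n with hk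
    have hk1 : k * k ≤ n := Nat.sqrt_le n
    have hk2 : n < (k + 1) * (k + 1) := Nat.lt_succ_sqrt n
    have hk8 : 8 ≤ k := by
      by_contra h
      have : (k + 1) * (k + 1) ≤ 64 := Nat.mul_le_mul (show k + 1 ≤ 8 by omega) (show k + 1 ≤ 8 by omega)
      omega
    obtain ⟨p, hp, hp1, hp2⟩ := Nat.exists_prime_lt_and_le_two_mul k (by omega)
    obtain ⟨q, hq, hq1, hq2⟩ := Nat.exists_prime_lt_and_le_two_mul (2 * k) (by omega)
    obtain ⟨r, hr, hr1, hr2⟩ := Nat.exists_prime_lt_and_le_two_mul (2 * (2 * k)) (by omega)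
    have h8k : 8 * k ≤ k * k := Nat.mul_le_mul_right k hk8
    refine ⟨{p, q, r}, ?_, ?_, ?_, ?_⟩
    · have e : ({p, q, r} : Finset ℕ).card = 3 := by
        rw [Finset.card_eq_three]
        exact ⟨p, q, r, by omega, by omega, by omega, rfl⟩
      omega
    · intro x hx; simp at hx; rcases hx with rfl | rfl | rfl <;> assumption
    · intro x hx; simp at hx; rcases hx with rfl | rfl | rfl <;> omega
    · intro x hx y hy hxy
      have hx' : k + 1 ≤ x := by simp at hx; omega
      have hy' : k + 1 ≤ y := by simp at hy; omega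
      exact lt_of_lt_of_le hk2 (Nat.mul_le_mul hx' hy')
  have hdvd : ∀ p ∈ σ, p ∣ Nat.card G := by
    intro p hp
    obtain ⟨g, hg⟩ : p ∈ Set.range (orderOf : G → ℕ) := by
      rw [h]; exact ⟨(hσp p hp).one_lt.le, hσn p hp⟩
    exact hg ▸ orderOf_dvd_natCard g
  obtain ⟨p, hp, q, hq, hpq, g, hg⟩ :=
    CfsgLib.Spectrum.exists_adjacent_pair σ hσ3 hσp hdvd
  have hmem : p * q ∈ Set.range (orderOf : G → ℕ) := ⟨g, hg⟩
  rw [h] at hmem
  have := hσpair p hp q hq hpq
  exact absurd hmem.2 (not_le.mpr this)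

end Cfsg.Agent.S4002
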