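import Mathlib
import Cfsg.Agent.Lib.PGroup.NormalRankTwo
import Cfsg.Agent.Lib.OddOmega.Basic
import Cfsg.Agent.Lib.Critical.Basic

/-!
Miller: with noncyclic Sylow p-subgroups, p odd, the number of elements of order p^s (1 < s)
is divisible by p^s.
-/

set_option autoImplicit false
set_option linter.style.haveILetI false

namespace Cfsg.Agent.S4003

open scoped Classical

variable {G : Type*} [Group G] [Finite G]

/-- Cyclic subgroups of order `n`. -/
def CycSub (G : Type*) [Group G] (n : ℕ) : Type _ :=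
  {H : Subgroup G // ∃ x : G, orderOf x = n ∧ Subgroup.zpowers x = H}

instance (n : ℕ) : Finite (CycSub G n) := by unfold CycSub; infer_instance

theorem card_orderOf_eq (n : ℕ) :
    Nat.card {x : G // orderOf x = n} = Nat.totient n * Nat.card (CycSub G n) := by
  haveI := Fintype.ofFinite (CycSub G n)
  let f : {x : G // orderOf x = n} → CycSub G n := fun x => ⟨Subgroup.zpowers x.1, x.1, x.2, rfl⟩
  rw [← Nat.card_congr (Equiv.sigmaFiberEquiv f), Nat.card_sigma, Finset.sum_const_nat (m := Nat.totient n)]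
  · rw [Finset.card_univ, ← Nat.card_eq_fintype_card, mul_comm]
  · rintro ⟨H, x, hx, rfl⟩ -
    haveI := Fintype.ofFinite (Subgroup.zpowers x)
    have hc : Fintype.card (Subgroup.zpowers x) = n := by
      rw [← Nat.card_eq_fintype_card, Nat.card_zpowers, hx]
    rw [← IsCyclic.card_orderOf_eq_totient (α := Subgroup.zpowers x) (d := n) (dvd_of_eq hc.symm),
      ← Fintype.card_subtype, ← Nat.card_eq_fintype_card]
    refine Nat.card_congr
      { toFun := fun y => ⟨⟨y.1.1, ?_⟩, ?_⟩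
        invFun := fun y => ⟨⟨(y.1 : G), ?_⟩, ?_⟩
        left_inv := fun y => rfl
        right_inv := fun y => rfl }
    · have h1 : Subgroup.zpowers (y.1.1 : G) = Subgroup.zpowers x := congrArg Subtype.val y.2
      exact (SetLike.ext_iff.mp h1 _).mp (Subgroup.mem_zpowers _)
    · rw [Subgroup.orderOf_mk]; exact y.1.2
    · rw [Subgroup.orderOf_coe]; exact y.2
    · apply Subtype.ext
      show Subgroup.zpowers (y.1 : G) = Subgroup.zpowers x
      refine Subgroup.eq_of_le_of_card_ge (Subgroup.zpowers_le.mpr y.1.2) ?_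
      rw [Nat.card_zpowers, Nat.card_zpowers, Subgroup.orderOf_coe, y.2, hx]

variable {p : ℕ} [hp : Fact p.Prime]

theorem commutator_central {Q : Type*} [Group Q] [Finite Q] (hQ : IsPGroup p Q) (E : Subgroup Q)
    [E.Normal] (hE : Nat.card E = p ^ 2) {a e : Q} (he : e ∈ E) :
    e * a * e⁻¹ * a⁻¹ ∈ Subgroup.center Q := by
  haveI : Group.IsNilpotent Q := hQ.isNilpotent
  haveI : Nontrivial E := Finite.one_lt_card_iff_nontrivial.mp
    (hE ▸ Nat.one_lt_pow two_ne_zero hp.out.one_lt)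
  set Z := E ⊓ Subgroup.center Q with hZ
  haveI : Z.Normal := Subgroup.normal_inf_normal _ _
  have hZ1 : Z ≠ ⊥ :=
    CfsgLib.Critical.inf_center_ne_bot E ((Subgroup.nontrivial_iff_ne_bot E).mp inferInstance)
  by_cases hEZ : E ≤ Subgroup.center Q
  · rw [← Subgroup.mem_center_iff.mp (hEZ he) a]
    simp
  set f := QuotientGroup.mk' Z
  haveI hn : (E.map f).Normal := Subgroup.Normal.map inferInstance f (QuotientGroup.mk'_surjective _)
  have hQ' : IsPGroup p (Q ⧸ Z) := hQ.to_quotient Z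
  haveI : Group.IsNilpotent (Q ⧸ Z) := hQ'.isNilpotent
  have hcard : Nat.card (E.map f) = p := by
    have h1 : Z.relIndex E = Nat.card (E.map f) := by
      have := Subgroup.relIndex_ker E f
      rwa [QuotientGroup.ker_mk'] at this
    have h2 := Subgroup.card_mul_index (Z.subgroupOf E)
    rw [Nat.card_congr (Subgroup.subgroupOfEquivOfLe (inf_le_left : Z ≤ E)).toEquiv, ← Subgroup.relIndex,
      h1, hE] at h2
    obtain ⟨i, -, hi⟩ := (Nat.dvd_prime_pow hp.out).mp (Dvd.intro _ h2)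
    rw [hi] at h2
    have hi0 : i ≠ 0 := fun h => hZ1 (Subgroup.eq_bot_of_card_eq Z (by rw [hi, h, pow_zero]))
    rcases Nat.lt_or_ge i 2 with h | h
    · have : i = 1 := by omega
      rw [this, pow_one, sq] at h2
      exact Nat.eq_of_mul_eq_mul_left hp.out.pos h2
    · exact absurd (by
        have : Z = E := Subgroup.eq_of_le_of_card_ge inf_le_left
          (by rw [hi, hE]; exact Nat.pow_le_pow_right hp.out.pos h)
        exact this ▸ (inf_le_right : Z ≤ Subgroup.center Q)) hEZ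
  have hne : E.map f ≠ ⊥ := fun h => by
    rw [h, Subgroup.card_bot] at hcard
    exact hp.out.one_lt.ne hcard
  have hcent : E.map f ≤ Subgroup.center (Q ⧸ Z) := by
    have h1 := CfsgLib.Critical.inf_center_ne_bot (E.map f) hne
    have : E.map f ⊓ Subgroup.center (Q ⧸ Z) = E.map f := by
      refine Subgroup.eq_of_le_of_card_ge inf_le_left ?_
      have hd : Nat.card (E.map f ⊓ Subgroup.center (Q ⧸ Z) : Subgroup _) ∣ p :=
        hcard ▸ Subgroup.card_dvd_of_le inf_le_left
      rcases (Nat.dvd_prime hp.out).mp hd with h | h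
      · exact absurd (Subgroup.eq_bot_of_card_eq _ h) h1
      · rw [h, hcard]
    exact this ▸ inf_le_right
  have h3 : e * a * e⁻¹ * a⁻¹ ∈ Z := by
    rw [← QuotientGroup.eq_one_iff]
    show f (e * a * e⁻¹ * a⁻¹) = 1
    rw [map_mul, map_mul, map_mul, ← Subgroup.mem_center_iff.mp (hcent ⟨e, he, rfl⟩) (f a), map_inv,
      map_inv]
    group
  exact h3.2

theorem dvd_card_orderOf_pGroup {Q : Type*} [Group Q] [Finite Q] (hQ : IsPGroup p Q) (hp2 : p ≠ 2)
    (hnc : ¬ IsCyclic Q) {s : ℕ} (hs : 1 < s) : p ^ s ∣ Nat.card {x : Q // orderOf x = p ^ s} := by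
  have htop : ¬ IsCyclic (⊤ : Subgroup Q) := fun h => hnc (Subgroup.topEquiv.isCyclic.mp h)
  obtain ⟨E, -, hEn, hEel, hEc⟩ :=
    CfsgLib.CyclicMax.exists_normal_rank_two hQ hp2 (⊤ : Subgroup Q) inferInstance htop
  haveI := hEn
  obtain ⟨s', rfl⟩ : ∃ s', s = s' + 2 := ⟨s - 2, by omega⟩
  let f : {x : Q // orderOf x = p ^ (s' + 2)} → Subgroup Q := fun x => Subgroup.zpowers x.1 ⊔ E
  haveI := Fintype.ofFinite (Subgroup Q)
  rw [← Nat.card_congr (Equiv.sigmaFiberEquiv f), Nat.card_sigma]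
  refine Finset.dvd_sum fun H _ => ?_
  by_cases hex : Nonempty {x // f x = H}
  swap
  · rw [not_nonempty_iff] at hex
    simp
  obtain ⟨⟨x, hx⟩, rfl⟩ := hex
  set H := Subgroup.zpowers x ⊔ E with hH
  set S := Subgroup.zpowers (x ^ p) ⊔ E with hS
  have hSH : S ≤ H := sup_le
    ((Subgroup.zpowers_le.mpr (pow_mem (Subgroup.mem_zpowers x) p)).trans le_sup_left) le_sup_right
  have hEx : ∀ a : Q, ∀ e ∈ E, (a * e) ^ p = a ^ p := by
    intro a e he
    have hc := commutator_central hQ E hEc (a := a) he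
    have hp' : (e * a * e⁻¹ * a⁻¹) ^ p = 1 := hEel.2 _ (by
      have h2 := E.mul_mem he (hEn.conj_mem _ (E.inv_mem he) a)
      simpa [mul_assoc] using h2)
    rw [CfsgLib.OddOmega.mul_pow_of_central a e _ hc (by group) p, hEel.2 e he, mul_one]
    obtain ⟨j, hj⟩ : p ∣ p.choose 2 := hp.out.dvd_choose_self two_ne_zero
      (lt_of_le_of_ne hp.out.two_le (Ne.symm hp2))
    rw [hj, pow_mul, hp', one_pow, one_mul]
  have hSpow : ∀ z ∈ S, z ^ p ^ (s' + 1) = 1 := by
    intro z hz
    obtain ⟨u, hu, e, he, rfl⟩ := Subgroup.mem_sup_of_normal_right.mp hz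
    obtain ⟨i, rfl⟩ := Subgroup.mem_zpowers_iff.mp hu
    have hxx : ((x ^ p) ^ p) ^ p ^ s' = 1 := by
      rw [← pow_mul, ← pow_mul, show p * (p * p ^ s') = p ^ (s' + 2) by ring, ← hx, pow_orderOf_eq_one]
    rw [show p ^ (s' + 1) = p * p ^ s' by ring, pow_mul, hEx _ e he]
    rw [← zpow_natCast ((x ^ p) ^ i), ← zpow_mul, mul_comm i, zpow_mul, zpow_natCast, ← zpow_natCast
      (((x ^ p) ^ p) ^ i), ← zpow_mul, mul_comm i, zpow_mul, zpow_natCast, hxx, one_zpow]
  have hfib : ∀ z : Q, (∃ h : orderOf z = p ^ (s' + 2), Subgroup.zpowers z ⊔ E = H) ↔ z ∈ H ∧ z ∉ S := by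
    intro z
    constructor
    · rintro ⟨hz, hzH⟩
      refine ⟨hzH ▸ Subgroup.mem_sup_left (Subgroup.mem_zpowers z), fun hzS => ?_⟩
      have h1 := orderOf_dvd_of_pow_eq_one (hSpow z hzS)
      rw [hz, Nat.pow_dvd_pow_iff_le_right hp.out.one_lt] at h1
      omega
    · rintro ⟨hzH, hzS⟩
      obtain ⟨u, hu, e, he, rfl⟩ := Subgroup.mem_sup_of_normal_right.mp hzH
      obtain ⟨i, rfl⟩ := Subgroup.mem_zpowers_iff.mp hu
      have hpi : ¬ (p : ℤ) ∣ i := by
        rintro ⟨j, rfl⟩
        refine hzS (Subgroup.mul_mem _ (Subgroup.mem_sup_left ?_) (Subgroup.mem_sup_right he))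
        rw [zpow_mul, zpow_natCast]
        exact Subgroup.zpow_mem _ (Subgroup.mem_zpowers _) j
      have hcop : IsCoprime i ((p : ℤ) ^ (s' + 2)) :=
        ((Nat.prime_iff_prime_int.mp hp.out).coprime_iff_not_dvd.mpr hpi).symm.pow_right
      have hpow : (x ^ i * e) ^ p = (x ^ i) ^ p := hEx _ e he
      have hord : orderOf (x ^ i * e) = p ^ (s' + 2) := by
        refine orderOf_eq_prime_pow (fun h => hpi ?_) ?_
        · rw [show p ^ (s' + 1) = p * p ^ s' by ring, pow_mul, hpow, ← pow_mul,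
            show p * p ^ s' = p ^ (s' + 1) by ring, ← zpow_natCast, ← zpow_mul,
            ← orderOf_dvd_iff_zpow_eq_one, hx] at h
          push_cast at h
          rw [pow_succ' (p : ℤ) (s' + 1), mul_comm (p : ℤ)] at h
          rw [mul_comm i] at h
          exact (mul_dvd_mul_iff_left (pow_ne_zero _ (by exact_mod_cast hp.out.ne_zero))).mp h
        · rw [show p ^ (s' + 1 + 1) = p * p ^ (s' + 1) by ring, pow_mul, hpow, ← pow_mul,
            show p * p ^ (s' + 1) = p ^ (s' + 2) by ring, ← zpow_natCast, ← zpow_mul,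
            ← orderOf_dvd_iff_zpow_eq_one, hx]
          exact dvd_mul_left _ _
      refine ⟨hord, le_antisymm (sup_le (Subgroup.zpowers_le.mpr hzH) le_sup_right)
        (sup_le (Subgroup.zpowers_le.mpr ?_) le_sup_right)⟩
      have hxi : x ^ i ∈ Subgroup.zpowers (x ^ i * e) ⊔ E := by
        have h1 := Subgroup.mul_mem (Subgroup.zpowers (x ^ i * e) ⊔ E)
          (Subgroup.mem_sup_left (Subgroup.mem_zpowers _)) (Subgroup.mem_sup_right (E.inv_mem he))
        simpa using h1
      obtain ⟨a, b, hab⟩ := hcop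
      have h2 : x = (x ^ i) ^ a := by
        rw [← zpow_mul]
        calc x = x ^ (a * i + b * (p : ℤ) ^ (s' + 2)) := by rw [hab, zpow_one]
          _ = x ^ (i * a) := by
            rw [zpow_add, mul_comm b, zpow_mul x ((p : ℤ) ^ (s' + 2)),
              show ((p : ℤ) ^ (s' + 2)) = ((p ^ (s' + 2) : ℕ) : ℤ) by push_cast; rfl, zpow_natCast,
              ← hx, pow_orderOf_eq_one, one_zpow, mul_one, mul_comm]
      exact (congrArg (· ∈ Subgroup.zpowers (x ^ i * e) ⊔ E) h2).mpr (Subgroup.zpow_mem _ hxi a)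
  have hcard : Nat.card {y // f y = f ⟨x, hx⟩} = Nat.card H - Nat.card S := by
    calc Nat.card {y // f y = f ⟨x, hx⟩} = Nat.card ↥((H : Set Q) \ (S : Set Q)) := Nat.card_congr
          { toFun := fun y => ⟨y.1.1, (hfib _).mp ⟨y.1.2, y.2⟩⟩
            invFun := fun y => ⟨⟨y.1, ((hfib _).mpr y.2).1⟩, ((hfib _).mpr y.2).2⟩
            left_inv := fun y => rfl
            right_inv := fun y => rfl }
      _ = _ := by
        rw [Nat.card_coe_set_eq, Set.ncard_sdiff (by exact hSH), ← Nat.card_coe_set_eq,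
          ← Nat.card_coe_set_eq]
        rfl
  rw [hcard]
  have hdS : p ^ (s' + 2) ∣ Nat.card S := by
    obtain ⟨k, hk⟩ := IsPGroup.iff_card.mp (hQ.to_subgroup S)
    rw [hk]
    refine pow_dvd_pow p ?_
    by_contra hlt
    have hox : orderOf (x ^ p) = p ^ (s' + 1) := by
      rw [orderOf_pow_of_dvd hp.out.ne_zero (hx ▸ dvd_pow_self p (by omega)), hx, pow_succ,
        Nat.mul_div_cancel _ hp.out.pos]
    have hZS : Subgroup.zpowers (x ^ p) = S := Subgroup.eq_of_le_of_card_ge le_sup_left (by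
      rw [hk, Nat.card_zpowers, hox]
      exact Nat.pow_le_pow_right hp.out.pos (by omega))
    haveI : IsCyclic S := hZS ▸ inferInstance
    haveI : IsCyclic E := isCyclic_of_injective (Subgroup.inclusion (le_sup_right : E ≤ S))
      (Subgroup.inclusion_injective _)
    haveI := Fintype.ofFinite E
    have h1 := IsCyclic.card_pow_eq_one_le (α := E) hp.out.pos
    rw [Finset.filter_true_of_mem (fun (u : E) _ => Subtype.ext (hEel.2 u u.2)), Finset.card_univ,
      ← Nat.card_eq_fintype_card, hEc] at h1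
    exact absurd h1 (not_le.mpr (by
      calc p = p ^ 1 := (pow_one p).symm
        _ < p ^ 2 := Nat.pow_lt_pow_right hp.out.one_lt (by omega)))
  exact Nat.dvd_sub (hdS.trans (Subgroup.card_dvd_of_le hSH)) hdS

theorem dvd_card_cycSub_pGroup {Q : Type*} [Group Q] [Finite Q] (hQ : IsPGroup p Q) (hp2 : p ≠ 2)
    (hnc : ¬ IsCyclic Q) {s : ℕ} (hs : 1 < s) : p ∣ Nat.card (CycSub Q (p ^ s)) := by
  have h := dvd_card_orderOf_pGroup hQ hp2 hnc hs
  obtain ⟨t, rfl⟩ : ∃ t, s = t + 1 := ⟨s - 1, by omega⟩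
  rw [card_orderOf_eq, Nat.totient_prime_pow_succ hp.out, pow_succ, mul_assoc] at h
  have h' := (Nat.mul_dvd_mul_iff_left (pow_pos hp.out.pos t)).mp h
  rcases hp.out.dvd_mul.mp h' with h1 | h1
  · exact absurd (Nat.le_of_dvd (by have := hp.out.two_le; omega) h1) (by have := hp.out.pos; omega)
  · exact h1

theorem dvd_card_cycSub (hp2 : p ≠ 2) (P : Sylow p G) (hP : ¬ IsCyclic (P : Subgroup G)) {s : ℕ}
    (hs : 1 < s) : p ∣ Nat.card (CycSub G (p ^ s)) := by
  let conjC : ↥(P : Subgroup G) → CycSub G (p ^ s) → CycSub G (p ^ s) := fun g H =>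
    ⟨H.1.map (MulAut.conj (g : G)).toMonoidHom, by
      obtain ⟨x, hx, hH⟩ := H.2
      refine ⟨MulAut.conj (g : G) x, by rw [MulEquiv.orderOf_eq, hx], ?_⟩
      rw [← hH, MonoidHom.map_zpowers]
      rfl⟩
  letI : MulAction ↥(P : Subgroup G) (CycSub G (p ^ s)) :=
    { smul := conjC
      one_smul := fun H => Subtype.ext (by
        show H.1.map _ = H.1
        ext z; simp)
      mul_smul := fun g g' H => Subtype.ext (by
        show H.1.map _ = (H.1.map _).map _
        rw [Subgroup.map_map]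
        congr 1
        ext z; simp [mul_assoc]) }
  have hstab : ∀ (g : ↥(P : Subgroup G)) (H : CycSub G (p ^ s)), H.1 ≤ (P : Subgroup G) →
      (g • H).1 ≤ (P : Subgroup G) := by
    rintro g H hH _ ⟨z, hz, rfl⟩
    exact Subgroup.mul_mem _ (Subgroup.mul_mem _ g.2 (hH hz)) (Subgroup.inv_mem _ g.2)
  let C : SubMulAction ↥(P : Subgroup G) (CycSub G (p ^ s)) :=
    { carrier := {H | H.1 ≤ (P : Subgroup G)}
      smul_mem' := fun g H hH => hstab g H hH }
  have hfix : ∀ H : CycSub G (p ^ s), H ∈ MulAction.fixedPoints ↥(P : Subgroup G) (CycSub G (p ^ s)) →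
      H.1 ≤ (P : Subgroup G) := by
    intro H hH
    have hn : (P : Subgroup G) ≤ Subgroup.normalizer (H.1 : Set G) := by
      intro g hg
      have h1 : H.1.map (MulAut.conj g).toMonoidHom = H.1 := congrArg Subtype.val (hH ⟨g, hg⟩)
      rw [Subgroup.mem_normalizer_iff]
      intro z
      constructor
      · intro hz; rw [← h1]; exact ⟨z, hz, by simp⟩
      · intro hz
        rw [← h1] at hz
        obtain ⟨w, hw, hw'⟩ := hz
        exact (MulAut.conj g).injective (by simpa using hw') ▸ hw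
    have hHp : IsPGroup p H.1 := by
      obtain ⟨x, hx, hxH⟩ := H.2
      exact IsPGroup.of_card (n := s) (by rw [← hxH, Nat.card_zpowers, hx])
    exact le_sup_left.trans (P.is_maximal' (IsPGroup.to_sup_of_normal_left' hHp P.2 hn) le_sup_right).le
  have h1 := P.2.card_modEq_card_fixedPoints (CycSub G (p ^ s))
  have h2 := P.2.card_modEq_card_fixedPoints C
  have heq : Nat.card (MulAction.fixedPoints ↥(P : Subgroup G) (CycSub G (p ^ s))) =
      Nat.card (MulAction.fixedPoints ↥(P : Subgroup G) C) := Nat.card_congr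
    { toFun := fun H => ⟨⟨H.1, hfix H.1 H.2⟩, fun g => Subtype.ext (H.2 g)⟩
      invFun := fun H => ⟨H.1.1, fun g => congrArg Subtype.val (H.2 g)⟩
      left_inv := fun H => rfl
      right_inv := fun H => rfl }
  have hC : Nat.card C = Nat.card (CycSub ↥(P : Subgroup G) (p ^ s)) := Nat.card_congr
    { toFun := fun H => ⟨H.1.1.subgroupOf (P : Subgroup G), by
        obtain ⟨x, hx, hxH⟩ := H.1.2
        refine ⟨⟨x, H.2 (hxH ▸ Subgroup.mem_zpowers x)⟩, by rw [Subgroup.orderOf_mk, hx], ?_⟩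
        refine Subgroup.map_injective (Subgroup.subtype_injective _) ?_
        rw [MonoidHom.map_zpowers, Subgroup.map_subgroupOf_eq_of_le H.2]
        exact hxH⟩
      invFun := fun K => ⟨⟨K.1.map (P : Subgroup G).subtype, by
        obtain ⟨x, hx, hxK⟩ := K.2
        refine ⟨(x : G), by rw [Subgroup.orderOf_coe, hx], ?_⟩
        rw [← hxK, MonoidHom.map_zpowers]
        rfl⟩, Subgroup.map_subtype_le _⟩
      left_inv := fun H => Subtype.ext (Subtype.ext (Subgroup.map_subgroupOf_eq_of_le H.2))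
      right_inv := fun K => Subtype.ext (Subgroup.comap_map_eq_self_of_injective
        (Subgroup.subtype_injective _) K.1) }
  have h0 : Nat.card C ≡ 0 [MOD p] := Nat.modEq_zero_iff_dvd.mpr
    (hC ▸ dvd_card_cycSub_pGroup P.2 hp2 hP hs)
  exact Nat.modEq_zero_iff_dvd.mp ((h1.trans (heq ▸ h2.symm)).trans h0)

theorem dvd_card_orderOf (hp2 : p ≠ 2) (P : Sylow p G) (hP : ¬ IsCyclic (P : Subgroup G)) {s : ℕ}
    (hs : 1 < s) : p ^ s ∣ Nat.card {x : G // orderOf x = p ^ s} := by
  rw [card_orderOf_eq]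
  obtain ⟨t, rfl⟩ : ∃ t, s = t + 1 := ⟨s - 1, by omega⟩
  obtain ⟨c, hc⟩ := dvd_card_cycSub hp2 P hP hs
  rw [Nat.totient_prime_pow_succ hp.out, hc, pow_succ]
  exact ⟨(p - 1) * c, by ring⟩

theorem pow_pred_dvd_card_orderOf (t : ℕ) : p ^ t ∣ Nat.card {x : G // orderOf x = p ^ (t + 1)} := by
  rw [card_orderOf_eq, Nat.totient_prime_pow_succ hp.out, mul_assoc]
  exact dvd_mul_right _ _

/-- The elements of order `p ^ s * m` as pairs of commuting elements. -/
theorem card_orderOf_mul_eq (s m : ℕ) (hm : Nat.Coprime (p ^ s) m) :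
    Nat.card {g : G // orderOf g = p ^ s * m} =
      Nat.card (Σ y : {y : G // orderOf y = m},
        {x : ↥(Subgroup.centralizer ({(y : G)} : Set G)) // orderOf x = p ^ s}) := by
  refine (Nat.card_congr (Equiv.ofBijective (fun z => ⟨(z.2.1 : G) * z.1.1, ?_⟩) ⟨?_, ?_⟩)).symm
  rotate_left 2
  · have hc : Commute (z.2.1 : G) z.1.1 := Subgroup.mem_centralizer_singleton_iff.mp z.2.1.2
    rw [hc.orderOf_mul_eq_mul_orderOf_of_coprime, Subgroup.orderOf_coe, z.2.2, z.1.2]
    rw [Subgroup.orderOf_coe, z.2.2, z.1.2]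
    exact hm
  · rintro ⟨⟨y, hy⟩, ⟨x, hx⟩⟩ ⟨⟨y', hy'⟩, ⟨x', hx'⟩⟩ h
    have h' : (x : G) * y = (x' : G) * y' := congrArg Subtype.val h
    obtain ⟨u, hu⟩ : ∃ u : ℕ, ∀ a b : G, Commute a b → a ^ (p ^ s) = 1 → b ^ m = 1 →
        (a * b) ^ u = b := by
      obtain ⟨u, hu1, hu2⟩ := Nat.chineseRemainder hm 0 1
      refine ⟨u, fun a b hab ha hb => ?_⟩
      rw [hab.mul_pow, pow_eq_pow_mod u ha, hu1, Nat.zero_mod, pow_zero, one_mul,
        pow_eq_pow_mod u hb, hu2, ← pow_eq_pow_mod 1 hb, pow_one]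
    have e1 : y = y' := by
      rw [← hu x y (Subgroup.mem_centralizer_singleton_iff.mp x.2)
        (by rw [← hx, ← Subgroup.orderOf_coe, pow_orderOf_eq_one]) (hy ▸ pow_orderOf_eq_one y), h',
        hu x' y' (Subgroup.mem_centralizer_singleton_iff.mp x'.2)
        (by rw [← hx', ← Subgroup.orderOf_coe, pow_orderOf_eq_one]) (hy' ▸ pow_orderOf_eq_one y')]
    subst e1
    have e2 : x = x' := Subtype.ext (mul_right_cancel h')
    subst e2
    rfl
  · rintro ⟨g, hg⟩
    obtain ⟨u, hu1, hu2⟩ := Nat.chineseRemainder hm 0 1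
    obtain ⟨v, hv1, hv2⟩ := Nat.chineseRemainder hm 1 0
    have hpm : p ^ s * m ≠ 0 := hg ▸ (orderOf_pos g).ne'
    have hm0 : m ≠ 0 := right_ne_zero_of_mul hpm
    have huv : g ^ v * g ^ u = g := by
      rw [← pow_add, pow_eq_pow_mod (v + u) (hg ▸ pow_orderOf_eq_one g),
        show (v + u) % (p ^ s * m) = 1 % (p ^ s * m) from (Nat.modEq_and_modEq_iff_modEq_mul hm).mp
          ⟨hv1.add hu1, hv2.add hu2⟩, ← pow_eq_pow_mod 1 (hg ▸ pow_orderOf_eq_one g), pow_one]
    have ha : orderOf (g ^ v) ∣ p ^ s := orderOf_dvd_of_pow_eq_one (by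
      rw [← pow_mul, ← orderOf_dvd_iff_pow_eq_one, hg, mul_comm v]
      exact Nat.mul_dvd_mul_left _ (Nat.modEq_zero_iff_dvd.mp hv2))
    have hb : orderOf (g ^ u) ∣ m := orderOf_dvd_of_pow_eq_one (by
      rw [← pow_mul, ← orderOf_dvd_iff_pow_eq_one, hg]
      exact Nat.mul_dvd_mul_right (Nat.modEq_zero_iff_dvd.mp hu1) _)
    have hprod := (Commute.pow_pow_self g v u).orderOf_mul_eq_mul_orderOf_of_coprime
      (Nat.Coprime.of_dvd ha hb hm)
    rw [huv, hg] at hprod
    obtain ⟨a, ha'⟩ := ha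
    obtain ⟨b, hb'⟩ := hb
    have hab : a * b = 1 := by
      have h0 : orderOf (g ^ v) * orderOf (g ^ u) * (a * b) = orderOf (g ^ v) * orderOf (g ^ u) * 1 := by
        rw [mul_one]
        conv_rhs => rw [← hprod, ha', hb']
        ring
      exact Nat.eq_of_mul_eq_mul_left (Nat.mul_pos (orderOf_pos _) (orderOf_pos _)) h0
    obtain ⟨rfl, rfl⟩ : a = 1 ∧ b = 1 := ⟨Nat.eq_one_of_mul_eq_one_right hab, Nat.eq_one_of_mul_eq_one_left hab⟩
    exact ⟨⟨⟨g ^ u, by omega⟩, ⟨⟨g ^ v, Subgroup.mem_centralizer_singleton_iff.mpr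
      (Commute.pow_pow_self g v u).eq⟩, by rw [Subgroup.orderOf_mk]; omega⟩⟩, Subtype.ext huv⟩

theorem main (hp2 : p ≠ 2) (P : Sylow p G) (hP : ¬ IsCyclic (P : Subgroup G)) (s m : ℕ) (hs : 1 < s)
    (hm : Nat.Coprime p m) : p ^ s ∣ Nat.card {g : G // orderOf g = p ^ s * m} := by
  rw [card_orderOf_mul_eq s m (hm.pow_left s)]
  haveI := Fintype.ofFinite G
  rw [Nat.card_sigma]
  set F : {y : G // orderOf y = m} → ℕ := fun y =>
    Nat.card {x : ↥(Subgroup.centralizer ({(y : G)} : Set G)) // orderOf x = p ^ s} with hF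
  rw [show (∑ y, F y) = ∑ c : ConjClasses G, ∑ y ∈ Finset.univ.filter
      (fun y : {y : G // orderOf y = m} => ConjClasses.mk y.1 = c), F y from
      (Finset.sum_fiberwise _ _ _).symm]
  refine Finset.dvd_sum fun c _ => ?_
  by_cases hne : ∃ y : {y : G // orderOf y = m}, ConjClasses.mk y.1 = c
  swap
  · rw [Finset.sum_eq_zero fun y hy => absurd ⟨y, (Finset.mem_filter.mp hy).2⟩ hne]
    exact dvd_zero _
  obtain ⟨y, rfl⟩ := hne
  rw [Finset.sum_const_nat (m := F y)]
  swap
  · intro z hz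
    obtain ⟨g, hg⟩ := isConj_iff.mp (ConjClasses.mk_eq_mk_iff_isConj.mp (Finset.mem_filter.mp hz).2.symm)
    have he : (Subgroup.centralizer ({(y : G)} : Set G)).map (MulAut.conj g).toMonoidHom =
        Subgroup.centralizer ({(z : G)} : Set G) := by
      ext w
      rw [Subgroup.mem_map_equiv, Subgroup.mem_centralizer_singleton_iff,
        Subgroup.mem_centralizer_singleton_iff, ← hg]
      simp only [MulAut.conj_symm_apply]
      constructor <;> intro h <;> [skip; skip] <;>
      · have := congrArg (fun t => g * t * g⁻¹) h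
        have := congrArg (fun t => g⁻¹ * t * g) h
        simp only [mul_assoc, inv_mul_cancel_left, mul_inv_cancel_left, inv_mul_cancel,
          mul_inv_cancel, mul_one] at *
        assumption
    let e := ((Subgroup.centralizer ({(y : G)} : Set G)).equivMapOfInjective
      (MulAut.conj g).toMonoidHom (MulAut.conj g).injective).trans (MulEquiv.subgroupCongr he)
    exact (Nat.card_congr (e.toEquiv.subtypeEquiv fun x => by
      show orderOf x = p ^ s ↔ orderOf (e x) = p ^ s
      rw [MulEquiv.orderOf_eq])).symm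
  have hcard : (Finset.univ.filter fun z : {z : G // orderOf z = m} =>
      ConjClasses.mk z.1 = ConjClasses.mk y.1).card =
      (Subgroup.centralizer ({(y : G)} : Set G)).index := by
    rw [← Fintype.card_subtype, ← Nat.card_eq_fintype_card]
    refine (Nat.card_congr ((Equiv.subtypeSubtypeEquivSubtype
      (q := fun z : G => ConjClasses.mk z = ConjClasses.mk y.1) fun {z} hz => ?_))).trans ?_
    · obtain ⟨g, rfl⟩ := isConj_iff.mp (ConjClasses.mk_eq_mk_iff_isConj.mp hz.symm)
      rw [← MulAut.conj_apply, MulEquiv.orderOf_eq, y.2]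
    · rw [Subgroup.centralizer_eq_comap_stabilizer]
      refine Eq.trans ?_ (Subgroup.index_comap_of_surjective _ (MulEquiv.surjective ConjAct.toConjAct)).symm
      rw [MulAction.index_stabilizer, ← Nat.card_coe_set_eq, ConjAct.orbit_eq_carrier_conjClasses]
      exact Nat.card_congr (Equiv.subtypeEquivRight fun z => (ConjClasses.mem_carrier_iff_mk_eq).symm)
  rw [hcard]
  by_cases hdvd : p ∣ (Subgroup.centralizer ({(y : G)} : Set G)).index
  · obtain ⟨t, rfl⟩ : ∃ t, s = t + 1 := ⟨s - 1, by omega⟩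
    rw [pow_succ']
    exact Nat.mul_dvd_mul hdvd (pow_pred_dvd_card_orderOf t)
  · obtain ⟨Q, hQ⟩ : ∃ Q : Sylow p G, (Q : Subgroup G) ≤ Subgroup.centralizer ({(y : G)} : Set G) := by
      obtain ⟨R⟩ : Nonempty (Sylow p ↥(Subgroup.centralizer ({(y : G)} : Set G))) := inferInstance
      refine ⟨Sylow.ofCard ((R : Subgroup _).map (Subgroup.centralizer ({(y : G)} : Set G)).subtype) ?_,
        Subgroup.map_subtype_le _⟩
      rw [Subgroup.card_map_of_injective (Subgroup.subtype_injective _), R.card_eq_multiplicity]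
      congr 1
      conv_rhs => rw [← Subgroup.card_mul_index (Subgroup.centralizer ({(y : G)} : Set G))]
      rw [Nat.factorization_mul Nat.card_pos.ne' Subgroup.index_ne_zero_of_finite]
      simp [Nat.factorization_eq_zero_of_not_dvd hdvd]
    have hncyc : ¬ IsCyclic ↥(Q.subtype hQ : Subgroup ↥(Subgroup.centralizer ({(y : G)} : Set G))) := by
      intro h
      apply hP
      have h1 : IsCyclic (Q : Subgroup G) := (Subgroup.subgroupOfEquivOfLe hQ).isCyclic.mp h
      exact (Sylow.equiv Q P).isCyclic.mp h1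
    exact Dvd.dvd.mul_left (dvd_card_orderOf hp2 (Q.subtype hQ) hncyc hs) _

end Cfsg.Agent.S4003
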