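import Cfsg.Statements.S4004
import Mathlib
import Cfsg.Agent.S3996
import Cfsg.Agent.Lib.Hall.Basic

-- statement Cfsg.CfsgFrozen.S4004

set_option autoImplicit false

universe u

open scoped Pointwise

namespace Cfsg.Agent.S4004

open Cfsg.Agent.S3995 (cnt cnt_one totient_dvd_cnt)
open Cfsg.Agent.S3996 (roots cnt_prime roots_pq pair neg_one_ne odd_two_primes)

variable {G : Type u} [Group G] [Finite G]

/-- The conjugation action of a subgroup on the elements of a given order. -/
@[reducible] def conjAct (P : Subgroup G) (m : ℕ) : MulAction P {x : G // orderOf x = m} where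
  smul a x := ⟨(a : G) * x * (a : G)⁻¹, ((MulAut.conj (a : G)).orderOf_eq x).trans x.2⟩
  one_smul x := Subtype.ext (by simp [HSMul.hSMul, SMul.smul])
  mul_smul a b x := Subtype.ext (by simp [HSMul.hSMul, SMul.smul, mul_assoc])

lemma pow_inj_coprime {x y : G} {n : ℕ} (hx : (orderOf x).Coprime n) (hy : (orderOf y).Coprime n)
    (h : x ^ n = y ^ n) : x = y := by
  have hcop : n.Coprime (orderOf x * orderOf y) := (hx.symm).mul_right hy.symm
  have hbez := Nat.gcd_eq_gcd_ab n (orderOf x * orderOf y)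
  rw [hcop.gcd_eq_one, Nat.cast_one] at hbez
  have key : ∀ z : G, z ^ (orderOf x * orderOf y) = 1 → z = (z ^ n) ^ n.gcdA (orderOf x * orderOf y) := by
    intro z hz
    conv_lhs => rw [← zpow_one z, hbez, zpow_add, zpow_mul, zpow_mul, zpow_natCast, zpow_natCast, hz, one_zpow, mul_one]
  have kx := key x (by rw [pow_mul, pow_orderOf_eq_one, one_pow])
  have ky := key y (by rw [mul_comm, pow_mul, pow_orderOf_eq_one, one_pow])
  exact kx.trans (h ▸ ky.symm)

lemma two_mul_le {p q : ℕ} [Fact p.Prime] [Fact q.Prime] (hpq : p ≠ q) (hq2 : q ≠ 2)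
    (h : ¬ p ∣ cnt G q) : 2 * cnt G p ≤ cnt G (p * q) := by
  have hP : p.Prime := Fact.out
  have hQ : q.Prime := Fact.out
  let S : Sylow p G := default
  letI := conjAct (S : Subgroup G) q
  obtain ⟨⟨x, hx⟩, hfix⟩ : (MulAction.fixedPoints (S : Subgroup G) {x : G // orderOf x = q}).Nonempty := by
    by_contra hne
    rw [Set.not_nonempty_iff_eq_empty] at hne
    have h1 := S.2.card_modEq_card_fixedPoints (α := {x : G // orderOf x = q})
    rw [hne] at h1
    simp only [Nat.card_coe_set_eq, Set.ncard_empty] at h1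
    exact h (Nat.modEq_zero_iff_dvd.mp h1)
  have hfix' : ∀ y ∈ (S : Subgroup G), Commute y x := fun y hy => mul_inv_eq_iff_eq_mul.mp
    (congrArg Subtype.val (hfix ⟨y, hy⟩) :)
  have hex : ∀ y : {y : G // orderOf y = p}, ∃ w : G, orderOf w = q ∧ Commute (y : G) w := by
    rintro ⟨y, hy⟩
    obtain ⟨T, hT⟩ := (IsPGroup.of_card (p := p) (n := 1) (G := Subgroup.zpowers y)
      (by rw [Nat.card_zpowers, hy, pow_one])).exists_le_sylow
    obtain ⟨g, hg⟩ := MulAction.exists_smul_eq G S T
    have hyT : y ∈ (T : Subgroup G) := hT (Subgroup.mem_zpowers y)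
    rw [← hg, Sylow.coe_subgroup_smul, Subgroup.pointwise_smul_def] at hyT
    obtain ⟨z, hz, hzy⟩ := hyT
    refine ⟨g * x * g⁻¹, ((MulAut.conj g).orderOf_eq x).trans hx, ?_⟩
    have hcm := (hfix' z hz).map (MulAut.conj g).toMonoidHom
    have hzy' : (MulAut.conj g).toMonoidHom z = y := hzy
    rw [hzy'] at hcm
    exact hcm
  choose w hw hwc using hex
  have key : Nat.card ({y : G // orderOf y = p} × Fin (q - 1)) ≤ cnt G (p * q) := by
    refine Nat.card_le_card_of_injective (fun t => ⟨(t.1 : G) * w t.1 ^ ((t.2 : ℕ) + 1), ?_⟩) ?_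
    · have h1 : orderOf (w t.1 ^ ((t.2 : ℕ) + 1)) = q := by
        rw [Nat.Coprime.orderOf_pow (by
          rw [hw]; exact (hQ.coprime_iff_not_dvd.mpr (Nat.not_dvd_of_pos_of_lt (by omega)
            (by have := t.2.2; omega)))), hw]
      rw [((hwc t.1).pow_right _).orderOf_mul_eq_mul_orderOf_of_coprime
        (by rw [t.1.2, h1]; exact (Nat.coprime_primes hP hQ).mpr hpq), t.1.2, h1]
    · rintro ⟨y, i⟩ ⟨y', j⟩ h
      have h' : (y : G) * w y ^ ((i : ℕ) + 1) = (y' : G) * w y' ^ ((j : ℕ) + 1) := congrArg Subtype.val h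
      have hwq : ∀ t k, (w t ^ k) ^ q = 1 := fun t k => by
        rw [← pow_mul, mul_comm, pow_mul, show w t ^ q = 1 from hw t ▸ pow_orderOf_eq_one (w t), one_pow]
      have h2 := congrArg (· ^ q) h'
      simp only [((hwc y).pow_right _).mul_pow, ((hwc y').pow_right _).mul_pow, hwq, mul_one] at h2
      have hy : y = y' := by
        refine Subtype.ext (pow_inj_coprime (n := q) ?_ ?_ h2)
        · rw [y.2]; exact (Nat.coprime_primes hP hQ).mpr hpq
        · rw [y'.2]; exact (Nat.coprime_primes hP hQ).mpr hpq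
      subst hy
      have h3 := mul_left_cancel h'
      have h4 : (i : ℕ) + 1 = (j : ℕ) + 1 := pow_injOn_Iio_orderOf
        (show (i : ℕ) + 1 ∈ Set.Iio (orderOf (w y)) by rw [hw, Set.mem_Iio]; have := i.2; omega)
        (show (j : ℕ) + 1 ∈ Set.Iio (orderOf (w y)) by rw [hw, Set.mem_Iio]; have := j.2; omega) h3
      exact Prod.ext rfl (Fin.ext (show (i : ℕ) = (j : ℕ) by omega))
  rw [Nat.card_prod, Nat.card_fin] at key
  refine le_trans ?_ key
  rw [mul_comm]
  exact Nat.mul_le_mul_left _ (by have := hQ.two_le; omega)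

lemma free_dvd {p : ℕ} [Fact p.Prime] {m : ℕ} (hm : ∀ (y x : G), orderOf y = p → orderOf x = m → ¬ Commute y x) :
    p ^ (Nat.card G).factorization p ∣ cnt G m := by
  classical
  let S : Sylow p G := default
  letI := conjAct (S : Subgroup G) m
  rw [← S.card_eq_multiplicity]
  have hstab : ∀ x : {x : G // orderOf x = m}, MulAction.stabilizer (S : Subgroup G) x = ⊥ := by
    intro x
    by_contra hne
    haveI := (Subgroup.nontrivial_iff_ne_bot _).mpr hne
    obtain ⟨k, hk⟩ := IsPGroup.iff_card.mp (S.2.to_subgroup (MulAction.stabilizer (S : Subgroup G) x))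
    have hk0 : k ≠ 0 := fun e => by
      have := Finite.one_lt_card (α := MulAction.stabilizer (S : Subgroup G) x)
      rw [hk, e, pow_zero] at this; omega
    obtain ⟨y, hy⟩ := exists_prime_orderOf_dvd_card' (G := MulAction.stabilizer (S : Subgroup G) x) p
      (hk ▸ dvd_pow_self p hk0)
    refine hm ((y : (S : Subgroup G)) : G) (x : G) ?_ x.2 (mul_inv_eq_iff_eq_mul.mp (congrArg Subtype.val y.2 :))
    rw [Subgroup.orderOf_coe, Subgroup.orderOf_coe, hy]
  rw [cnt, Nat.card_congr (MulAction.selfEquivSigmaOrbits (S : Subgroup G) {x : G // orderOf x = m})]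
  haveI := Fintype.ofFinite (MulAction.orbitRel.Quotient (S : Subgroup G) {x : G // orderOf x = m})
  rw [Nat.card_sigma]
  refine Finset.dvd_sum fun o _ => dvd_of_eq ?_
  rw [Nat.card_congr (MulAction.orbitEquivQuotientStabilizer _ _), hstab]
  exact (Nat.card_congr QuotientGroup.quotientBot.toEquiv).symm

lemma full_dvd {p : ℕ} [Fact p.Prime] (hp : p ∣ Nat.card G) (hsq : ∀ i, 2 ≤ i → cnt G (p ^ i) = 0) :
    p ^ (Nat.card G).factorization p ∣ 1 + cnt G p := by
  have hP : p.Prime := Fact.out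
  have ha : 1 ≤ (Nat.card G).factorization p := hP.factorization_pos_of_dvd Nat.card_pos.ne' hp
  have h := roots (G := G) (p ^ (Nat.card G).factorization p) (Nat.ordProj_dvd _ _)
  rw [Nat.sum_divisors_prime_pow hP, Finset.sum_range_succ', ← Nat.sub_add_cancel ha,
    Finset.sum_range_succ', pow_zero, cnt_one] at h
  rw [Finset.sum_eq_zero (fun i _ => hsq (i + 1 + 1) (by omega)), zero_add, zero_add, pow_one,
    Nat.sub_add_cancel ha, add_comm] at h
  exact h

section frob

variable {p q : ℕ} [Fact p.Prime] [Fact q.Prime]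

/-- Norms along elements of prime order vanish. -/
lemma prod_pow_conj {N : Subgroup G} [N.Normal] [IsMulCommutative N] (u : N) (g : G) (n : ℕ) :
    ((u : G) * g) ^ n = ((List.range n).map (fun i => ((MulAut.conjNormal (g ^ i) u : N) : G))).prod * g ^ n := by
  induction n with
  | zero => simp
  | succ k ih =>
    rw [pow_succ, ih, List.range_succ, List.map_append, List.prod_append, List.map_singleton,
      List.prod_singleton, MulAut.conjNormal_apply, pow_succ]
    group

lemma double_count {A : Type*} [CommGroup A] (f : G →* MulAut A) (K : Subgroup G) [Fintype K] (b : G)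
    {r : ℕ} (hr : r.Prime) (hb : ∀ k ∈ K, b * k * b⁻¹ ∈ K)
    (hord : ∀ k ∈ K, orderOf (k * b) = r) (h0 : ∀ a : A, ∏ k : K, f (k : G) a = 1)
    (hcyc : ∀ k ∈ K, ∀ a : A, ∏ i ∈ Finset.range r, f ((k * b) ^ i) a = 1) (a : A) :
    a ^ Fintype.card K = 1 := by
  classical
  have hmem : ∀ (k : K) (i : ℕ), ((k : G) * b) ^ i * (b ^ i)⁻¹ ∈ K := by
    intro k i
    induction i with
    | zero => simp
    | succ j ih =>
      have h1 : b * (((k : G) * b) ^ j * (b ^ j)⁻¹) * b⁻¹ ∈ K := hb _ ih
      have h2 := mul_mem k.2 h1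
      convert h2 using 1
      rw [pow_succ', pow_succ']; group
  have h1 : ∏ k : K, ∏ i ∈ Finset.range r, f (((k : G) * b) ^ i) a = 1 :=
    Finset.prod_eq_one fun k _ => hcyc k k.2 a
  rw [Finset.prod_comm] at h1
  rw [← Finset.prod_erase_mul (Finset.range r) _ (Finset.mem_range.mpr hr.pos), Finset.prod_eq_one, one_mul] at h1
  · simpa using h1
  intro i hi
  obtain ⟨hi0, hi⟩ := Finset.mem_erase.mp hi
  have hir : i < r := Finset.mem_range.mp hi
  have hbij : Function.Bijective (fun k : K => (⟨((k : G) * b) ^ i * (b ^ i)⁻¹, hmem k i⟩ : K)) := by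
    refine Finite.injective_iff_bijective.mp fun k k' h => Subtype.ext (mul_right_cancel (b := b) ?_)
    have h2 : ((k : G) * b) ^ i = ((k' : G) * b) ^ i := mul_right_cancel (congrArg Subtype.val h :)
    have hc : i.Coprime r := (hr.coprime_iff_not_dvd.mpr (Nat.not_dvd_of_pos_of_lt (Nat.pos_of_ne_zero hi0) hir)).symm
    exact pow_inj_coprime (by rw [hord _ k.2]; exact hc.symm) (by rw [hord _ k'.2]; exact hc.symm) h2
  calc ∏ k : K, f (((k : G) * b) ^ i) a
      = ∏ k : K, f (((k : G) * b) ^ i * (b ^ i)⁻¹) (f (b ^ i) a) := Finset.prod_congr rfl fun k _ => by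
        rw [← MulAut.mul_apply, ← map_mul, inv_mul_cancel_right]
    _ = ∏ k : K, f (k : G) (f (b ^ i) a) :=
        Fintype.prod_bijective _ hbij _ _ (fun k => rfl)
    _ = 1 := h0 _

lemma exists_complement (hpq : p ≠ q) (hp : p ∣ Nat.card G) (hq : q ∣ Nat.card G)
    (hord : ∀ g : G, g ≠ 1 → orderOf g = p ∨ orderOf g = q) (N : Subgroup G) [hNn : N.Normal]
    [hNc : IsMulCommutative N] (hN : N ≠ ⊥) (hNp : IsPGroup p N) :
    ∃ C : Subgroup G, Cfsg.IsFrobeniusComplement C ∧ (Nat.card C).Prime := by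
  classical
  have hP : p.Prime := Fact.out
  have hQ : q.Prime := Fact.out
  letI : CommGroup N := { (inferInstance : Group N) with mul_comm := hNc.is_comm.comm }
  set f : G →* MulAut N := MulAut.conjNormal
  have hNord : ∀ n ∈ N, n ≠ 1 → orderOf n = p := by
    intro n hn hn1
    obtain ⟨k, hk⟩ := IsPGroup.iff_orderOf.mp hNp ⟨n, hn⟩
    rw [Subgroup.orderOf_mk] at hk
    refine (hord n hn1).resolve_right fun e => hpq ?_
    exact ((Nat.prime_dvd_prime_iff_eq hQ hP).mp (hQ.dvd_of_dvd_pow (hk ▸ e.symm.dvd))).symm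
  have hnocomm : ∀ x y : G, orderOf x = q → orderOf y = p → ¬ Commute x y := by
    intro x y hx hy hc
    have h1 := hc.orderOf_mul_eq_mul_orderOf_of_coprime (by rw [hx, hy]; exact (Nat.coprime_primes hQ hP).mpr hpq.symm)
    rw [hx, hy] at h1
    have hne : x * y ≠ 1 := fun e => by
      rw [e, orderOf_one] at h1
      exact hQ.ne_one (Nat.eq_one_of_mul_eq_one_right h1.symm)
    rcases hord _ hne with e | e <;> rw [h1] at e
    · have := hQ.two_le; nlinarith [hP.pos]
    · have := hP.two_le; nlinarith [hQ.pos]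
  -- norm along an element outside N
  have hnorm : ∀ g : G, g ∉ N → ∀ a : N, ∏ i ∈ Finset.range (orderOf g), f (g ^ i) a = 1 := by
    intro g hg a
    have hg1 : g ≠ 1 := fun e => hg (e ▸ one_mem N)
    have hr : (orderOf g).Prime := by rcases hord g hg1 with e | e <;> rw [e] <;> assumption
    haveI := Fact.mk hr
    have hbar : orderOf (g : G ⧸ N) = orderOf g := orderOf_eq_prime
      (by rw [← QuotientGroup.mk_pow, pow_orderOf_eq_one]; rfl) (fun e => hg ((QuotientGroup.eq_one_iff g).mp e))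
    have hag : (((a : G) * g : G) : G ⧸ N) = (g : G ⧸ N) := by
      rw [QuotientGroup.mk_mul, (QuotientGroup.eq_one_iff _).mpr a.2, one_mul]
    have hne : (a : G) * g ≠ 1 := fun e => hg (by rw [← QuotientGroup.eq_one_iff, ← hag, e]; rfl)
    have hdvd : orderOf g ∣ orderOf ((a : G) * g) := by
      rw [← hbar, ← hag]; exact orderOf_map_dvd (QuotientGroup.mk' N) _
    have heq : orderOf ((a : G) * g) = orderOf g := by
      rcases hord _ hne with e | e <;> rw [e] at hdvd ⊢
      · exact ((Nat.prime_dvd_prime_iff_eq hr hP).mp hdvd).symm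
      · exact ((Nat.prime_dvd_prime_iff_eq hr hQ).mp hdvd).symm
    have h1 := prod_pow_conj a g (orderOf g)
    rw [pow_orderOf_eq_one g, mul_one, ← heq, pow_orderOf_eq_one, heq] at h1
    refine Subtype.ext ?_
    rw [OneMemClass.coe_one, h1]
    rw [Finset.prod_eq_multiset_prod, Finset.range_val, Multiset.range, Multiset.map_coe, Multiset.prod_coe]
    show N.subtype _ = _
    rw [map_list_prod, List.map_map]
    rfl
  have hK0 : ∀ (K : Subgroup G) [Fintype K], (∃ x ∈ K, orderOf x = q) → ∀ a : N, ∏ k : K, f (k : G) a = 1 := by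
    intro K _ hxK a
    obtain ⟨x, hx, hxo⟩ := hxK
    set z := ∏ k : K, f (k : G) a
    have hfix : f x z = z := by
      rw [map_prod]
      exact Fintype.prod_bijective (fun k : K => (⟨x, hx⟩ : K) * k) (Group.mulLeft_bijective _) _ _
        (fun k => by rw [Subgroup.coe_mul, map_mul, MulAut.mul_apply])
    by_contra hz
    refine hnocomm x (z : G) hxo (hNord _ z.2 fun e => hz (Subtype.ext e)) ?_
    have := congrArg Subtype.val hfix
    rw [MulAut.conjNormal_apply] at this
    exact mul_inv_eq_iff_eq_mul.mp this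
  haveI := (Subgroup.nontrivial_iff_ne_bot N).mpr hN
  obtain ⟨⟨n0, hn0⟩, hn01⟩ := exists_ne (1 : N)
  have hn0p : orderOf n0 = p := hNord n0 hn0 fun e => hn01 (Subtype.ext e)
  -- a contradiction from the double count
  have contra : ∀ (K : Subgroup G) (b : G) (r : ℕ), r.Prime → Nat.card K = q → (∀ k ∈ K, b * k * b⁻¹ ∈ K) →
      (∀ k ∈ K, k * b ∉ N ∧ orderOf (k * b) = r) → False := by
    intro K b r hr hK hb hkb
    haveI := Fintype.ofFinite K
    obtain ⟨x, hx⟩ := exists_prime_orderOf_dvd_card' (G := K) q (by rw [hK])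
    have h := double_count f K b hr hb (fun k hk => (hkb k hk).2)
      (hK0 K ⟨x, x.2, by rw [Subgroup.orderOf_coe, hx]⟩)
      (fun k hk a => by have := hnorm _ (hkb k hk).1 a; rwa [(hkb k hk).2] at this) ⟨n0, hn0⟩
    rw [← Nat.card_eq_fintype_card, hK] at h
    have h1 : n0 ^ q = 1 := congrArg Subtype.val h
    have := orderOf_dvd_of_pow_eq_one h1
    rw [hn0p] at this
    exact hpq ((Nat.prime_dvd_prime_iff_eq hP hQ).mp this)
  let S : Sylow q G := default
  have hSord : ∀ g ∈ (S : Subgroup G), g ≠ 1 → orderOf g = q ∧ g ∉ N := by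
    intro g hg hg1
    obtain ⟨k, hk⟩ := IsPGroup.iff_orderOf.mp S.2 ⟨g, hg⟩
    rw [Subgroup.orderOf_mk] at hk
    have h1 : orderOf g = q := (hord g hg1).resolve_left fun e => hpq
      ((Nat.prime_dvd_prime_iff_eq hP hQ).mp (hP.dvd_of_dvd_pow (hk ▸ e.symm.dvd)))
    exact ⟨h1, fun hgN => hpq ((hNord g hgN hg1).symm.trans h1)⟩
  haveI : Nontrivial (S : Subgroup G) := by
    rw [← Finite.one_lt_card_iff_nontrivial]
    exact lt_of_lt_of_le hQ.one_lt (Nat.le_of_dvd Nat.card_pos (S.dvd_card_of_dvd_card hq))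
  haveI : Fact q.Prime := ⟨hQ⟩
  haveI := S.2.center_nontrivial
  obtain ⟨⟨a, haZ⟩, ha1⟩ := exists_ne (1 : Subgroup.center (S : Subgroup G))
  have hao : orderOf (a : G) = q := (hSord _ a.2 fun e => ha1 (Subtype.ext (Subtype.ext e))).1
  set Q : Subgroup G := Subgroup.zpowers (a : G)
  have hQc : Nat.card Q = q := by rw [Nat.card_zpowers, hao]
  have hQS : Q = (S : Subgroup G) := by
    refine le_antisymm (Subgroup.zpowers_le.mpr a.2) fun b hb => ?_
    by_contra hbQ
    refine contra Q b q hQ hQc (fun k hk => ?_) (fun k hk => ?_)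
    · obtain ⟨i, rfl⟩ := hk
      have hc : Commute b (a : G) := congrArg Subtype.val (Subgroup.mem_center_iff.mp haZ ⟨b, hb⟩)
      rw [(hc.zpow_right i).eq, mul_inv_cancel_right]
      exact zpow_mem (Subgroup.mem_zpowers _) i
    · have hmem : k * b ∈ (S : Subgroup G) := mul_mem ((Subgroup.zpowers_le.mpr a.2) hk) hb
      have hne : k * b ≠ 1 := fun e => hbQ (by rw [eq_inv_of_mul_eq_one_right e]; exact inv_mem hk)
      exact ⟨(hSord _ hmem hne).2, (hSord _ hmem hne).1⟩
  have hNQ : Subgroup.normalizer (Q : Set G) = Q := by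
    refine le_antisymm (fun b hb => ?_) Subgroup.le_normalizer
    by_contra hbQ
    have hp' : ∀ y ∈ Subgroup.normalizer (Q : Set G), y ∉ Q → orderOf y = p ∧ y ∉ N := by
      intro y hy hyQ
      have hy1 : y ≠ 1 := fun e => hyQ (e ▸ one_mem Q)
      have hyo : orderOf y = p := by
        refine (hord y hy1).resolve_right fun e => hyQ ?_
        have hyp : IsPGroup q (Subgroup.zpowers y) := IsPGroup.of_card (n := 1) (by rw [Nat.card_zpowers, e, pow_one])
        have hQp : IsPGroup q Q := hQS ▸ S.2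
        have hsup := hyp.to_sup_of_normal_right' hQp (Subgroup.zpowers_le.mpr hy)
        have := S.3 hsup (hQS ▸ le_sup_right)
        rw [hQS, ← this]
        exact Subgroup.mem_sup_left (Subgroup.mem_zpowers y)
      refine ⟨hyo, fun hyN => ?_⟩
      have hc : (a : G) * y * (a : G)⁻¹ * y⁻¹ = 1 := by
        have h1 : (a : G) * y * (a : G)⁻¹ * y⁻¹ ∈ N := mul_mem (hNn.conj_mem y hyN a) (inv_mem hyN)
        have h2 : (a : G) * y * (a : G)⁻¹ * y⁻¹ ∈ Q := by
          rw [mul_assoc, mul_assoc, ← mul_assoc y]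
          exact mul_mem (Subgroup.mem_zpowers _) ((Subgroup.mem_normalizer_iff.mp hy _).mp (inv_mem (Subgroup.mem_zpowers _)))
        by_contra hne
        have h3 : (a : G) * y * (a : G)⁻¹ * y⁻¹ ∈ (S : Subgroup G) := hQS.le h2
        exact (hSord _ h3 hne).2 h1
      exact hnocomm a y hao hyo (mul_inv_eq_iff_eq_mul.mp (mul_inv_eq_one.mp hc))
    refine contra Q b p hP hQc (fun k hk => (Subgroup.mem_normalizer_iff.mp hb k).mp hk) (fun k hk => ?_)
    have := hp' (k * b) (mul_mem (Subgroup.le_normalizer hk) hb) (fun h => hbQ (by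
      have := mul_mem (inv_mem hk) h
      rwa [inv_mul_cancel_left] at this))
    exact ⟨this.2, this.1⟩
  refine ⟨Q, ⟨?_, ?_, fun g hg => ?_⟩, hQc ▸ hQ⟩
  · intro h; rw [h, Subgroup.card_bot] at hQc; exact hQ.ne_one hQc.symm
  · intro h
    rw [h, Subgroup.card_top] at hQc
    rw [hQc] at hp
    exact hpq ((Nat.prime_dvd_prime_iff_eq hP hQ).mp hp)
  · by_contra hne
    have hc : Nat.card ↥(Q ⊓ MulAut.conj g • Q) = q := by
      have hd : Nat.card ↥(Q ⊓ MulAut.conj g • Q) ∣ q := hQc ▸ Subgroup.card_dvd_of_le inf_le_left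
      rcases hQ.eq_one_or_self_of_dvd _ hd with e | e
      · exact absurd (Subgroup.eq_bot_of_card_eq _ e) hne
      · exact e
    have heq : Q ⊓ MulAut.conj g • Q = Q := Subgroup.eq_of_le_of_card_ge inf_le_left (by rw [hc, hQc])
    have heq2 : MulAut.conj g • Q = Q := (Subgroup.eq_of_le_of_card_ge (inf_eq_left.mp heq)
      (by rw [CfsgLib.Coprime.card_conj_smul])).symm
    refine hg ?_
    rw [← hNQ, Subgroup.mem_normalizer_iff]
    intro x
    conv_rhs => rw [← heq2]
    constructor
    · intro hx; exact ⟨x, hx, rfl⟩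
    · rintro ⟨y, hy, hyx⟩
      have : y = x := (MulAut.conj g).injective hyx
      exact this ▸ hy

end frob

theorem main (hodd : Odd (Nat.card G))
    (h : ((fun m : ℕ => Nat.card {g : G // orderOf g = m}) '' Set.range (orderOf : G → ℕ)).ncard = 3) :
    (Nat.card G).primeFactors.card ≤ 2 ∧
      ((Nat.card G).primeFactors.card = 2 →
        (∀ (p : ℕ) [Fact p.Prime] (P : Sylow p G), p ∣ Nat.card G → Monoid.exponent ↥(P : Subgroup G) = p) ∧
        ∃ C : Subgroup G, Cfsg.IsFrobeniusComplement C ∧ (Nat.card ↥C).Prime) := by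
  classical
  set I := ((fun m : ℕ => Nat.card {g : G // orderOf g = m}) '' Set.range (orderOf : G → ℕ))
  have h1 : (1 : ℕ) ∈ I := ⟨1, ⟨1, orderOf_one⟩, cnt_one⟩
  obtain ⟨s, b, hsb, hsbI⟩ := Set.ncard_eq_two.mp (show (I \ {1}).ncard = 2 by
    rw [Set.ncard_sdiff_singleton_of_mem h1, h])
  have hv : ∀ m, 2 < m → cnt G m = 0 ∨ cnt G m = s ∨ cnt G m = b := by
    intro m hm
    by_cases h0 : cnt G m = 0
    · exact Or.inl h0
    obtain ⟨⟨g, hg⟩⟩ := (Nat.card_ne_zero.mp h0).1
    have h2 : 2 ∣ cnt G m := (even_iff_two_dvd.mp (Nat.totient_even hm)).trans (totient_dvd_cnt m)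
    have hmI : cnt G m ∈ I \ {1} := ⟨⟨m, ⟨g, hg⟩, rfl⟩, fun e => by
      rw [Set.mem_singleton_iff] at e; omega⟩
    rw [hsbI] at hmI
    exact Or.inr hmI
  refine ⟨odd_two_primes hv hodd, fun h2 => ?_⟩
  obtain ⟨p, q, hpq, hF⟩ := Finset.card_eq_two.mp h2
  obtain ⟨hP, hp, -⟩ := Nat.mem_primeFactors.mp (show p ∈ (Nat.card G).primeFactors by rw [hF]; simp)
  obtain ⟨hQ, hq, -⟩ := Nat.mem_primeFactors.mp (show q ∈ (Nat.card G).primeFactors by rw [hF]; simp)
  haveI := Fact.mk hP; haveI := Fact.mk hQ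
  have hn2 : ∀ x, x ∣ Nat.card G → x ≠ 2 := fun x hx e =>
    (Nat.not_even_iff_odd.mpr hodd) (even_iff_two_dvd.mpr (e ▸ hx))
  have hp2 := hn2 p hp
  have hq2 := hn2 q hq
  have hPlt : 2 < p := lt_of_le_of_ne hP.two_le hp2.symm
  have hQlt : 2 < q := lt_of_le_of_ne hQ.two_le hq2.symm
  -- the values at p and q
  have hdist : ∀ S B : ℕ, (∀ m, 2 < m → cnt G m = 0 ∨ cnt G m = S ∨ cnt G m = B) → cnt G p = S → cnt G q ≠ S := by
    intro S B hV hcp hcq
    obtain ⟨hnpq, hB⟩ := pair hV hp2 hpq hp hq hcp hcq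
    obtain ⟨-, hBq⟩ := pair hV hq2 hpq.symm hq hp hcq hcp
    have hsq : ∀ (x : ℕ) [Fact x.Prime], x ≠ 2 → (S : ZMod x) = -1 → (B : ZMod x) = 1 → ∀ i, 2 ≤ i → cnt G (x ^ i) = 0 := by
      intro x _ hx2 hS hB i hi
      have hX : x.Prime := Fact.out
      have h1 : (cnt G (x ^ i) : ZMod x) = 0 := by
        rw [ZMod.natCast_eq_zero_iff]
        refine dvd_trans ?_ (totient_dvd_cnt (K := G) (x ^ i))
        rw [Nat.totient_prime_pow hX (by omega)]
        exact (dvd_pow_self x (by omega)).mul_right _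
      have hlt : 2 < x ^ i := lt_of_lt_of_le (lt_of_le_of_ne hX.two_le (Ne.symm hx2)) (Nat.le_self_pow (by omega) x)
      rcases hV _ hlt with e | e | e
      · exact e
      · rw [e, hS] at h1; exact absurd h1 (neg_ne_zero.mpr one_ne_zero)
      · rw [e, hB] at h1; exact absurd h1 one_ne_zero
    have d1 := full_dvd hp (hsq p hp2 (hcp ▸ (cnt_prime p hp).2) hB)
    have d2 := full_dvd hq (hsq q hq2 (hcq ▸ (cnt_prime q hq).2) hBq)
    rw [hcp] at d1
    rw [hcq] at d2
    have hd : Nat.card G ∣ 1 + S := by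
      have hc : (p ^ (Nat.card G).factorization p).Coprime (q ^ (Nat.card G).factorization q) :=
        Nat.Coprime.pow _ _ ((Nat.coprime_primes hP hQ).mpr hpq)
      refine (dvd_of_eq ?_).trans (hc.mul_dvd_of_dvd_of_dvd d1 d2)
      conv_lhs => rw [← Nat.prod_factorization_pow_eq_self (Nat.card_pos (α := G)).ne']
      rw [Finsupp.prod, Nat.support_factorization, hF, Finset.prod_pair hpq]
    have hle := Nat.le_of_dvd (by omega) hd
    have hdisj : cnt G p + cnt G q + 1 ≤ Nat.card G := by
      have hs := Nat.card_le_card_of_injective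
        (Sum.elim (Sum.elim (fun x : {g : G // orderOf g = p} => (x : G)) (fun x : {g : G // orderOf g = q} => (x : G)))
          (fun _ : Unit => (1 : G))) (by
          rintro ((x | x) | x) ((y | y) | y) e <;> simp only [Sum.elim_inl, Sum.elim_inr] at e
          all_goals first
            | exact congrArg _ (congrArg _ (Subtype.ext e))
            | rfl
            | (exfalso; have e' := congrArg orderOf e
               simp only [x.2, y.2, orderOf_one] at e'
               first | exact hpq e' | exact hpq e'.symm | omega)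
            | (exfalso; have e' := congrArg orderOf e
               simp only [x.2, orderOf_one] at e'; omega)
            | (exfalso; have e' := congrArg orderOf e
               simp only [y.2, orderOf_one] at e'; omega))
      rwa [Nat.card_sum, Nat.card_sum, Nat.card_unique (α := Unit)] at hs
    have := (cnt_prime (G := G) q hq).1
    omega
  have hv' : ∀ m, 2 < m → cnt G m = 0 ∨ cnt G m = b ∨ cnt G m = s := fun m hm => (hv m hm).imp_right Or.symm
  obtain ⟨S, B, hV, hcp, hcq⟩ : ∃ S B, (∀ m, 2 < m → cnt G m = 0 ∨ cnt G m = S ∨ cnt G m = B) ∧ cnt G p = S ∧ cnt G q = B := by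
    have e1 := (hv p hPlt).resolve_left (cnt_prime (G := G) p hp).1.ne'
    have e2 := (hv q hQlt).resolve_left (cnt_prime (G := G) q hq).1.ne'
    rcases e1 with e | e <;> rcases e2 with f | f
    · exact absurd f (hdist s b hv e)
    · exact ⟨s, b, hv, e, f⟩
    · exact ⟨b, s, hv', e, f⟩
    · exact absurd f (hdist b s hv' e)
  have hS : (S : ZMod p) = -1 := hcp ▸ (cnt_prime p hp).2
  have hB : (B : ZMod q) = -1 := hcq ▸ (cnt_prime q hq).2
  have hdvd := roots_pq (G := G) hpq hp hq
  rw [hcp, hcq] at hdvd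
  have hmodp := (ZMod.natCast_eq_zero_iff _ p).mpr ((dvd_mul_right p q).trans hdvd)
  have hmodq := (ZMod.natCast_eq_zero_iff _ q).mpr ((dvd_mul_left q p).trans hdvd)
  push_cast at hmodp hmodq
  rw [hS] at hmodp
  rw [hB] at hmodq
  -- no elements of order pq
  have hzero : cnt G (p * q) = 0 := by
    rcases hV (p * q) (by nlinarith) with e | e | e
    · exact e
    · exfalso
      rw [e, hS] at hmodp
      have hnd : ¬ p ∣ cnt G q := fun hd => by
        have h0 := (ZMod.natCast_eq_zero_iff _ p).mpr hd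
        rw [hcq] at h0
        rw [h0] at hmodp
        exact one_ne_zero (neg_eq_zero.mp (by linear_combination hmodp))
      have := two_mul_le hpq hq2 hnd
      have := (cnt_prime (G := G) p hp).1
      omega
    · exfalso
      rw [e, hB] at hmodq
      have hnd : ¬ q ∣ cnt G p := fun hd => by
        have h0 := (ZMod.natCast_eq_zero_iff _ q).mpr hd
        rw [hcp] at h0
        rw [h0] at hmodq
        exact one_ne_zero (neg_eq_zero.mp (by linear_combination hmodq))
      have := two_mul_le hpq.symm hp2 hnd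
      rw [mul_comm q p] at this
      have := (cnt_prime (G := G) q hq).1
      omega
  have hncomm : ∀ y x : G, ∀ i, orderOf y = p → orderOf x = q ^ (i + 1) → ¬ Commute y x := by
    intro y x i hy hx hc
    have hxi : orderOf (x ^ q ^ i) = q := by
      rw [orderOf_pow_of_dvd (pow_ne_zero _ hQ.ne_zero) (hx ▸ pow_dvd_pow q (by omega)), hx,
        Nat.pow_div (by omega) hQ.pos, show i + 1 - i = 1 by omega, pow_one]
    have h1 := (hc.pow_right (q ^ i)).orderOf_mul_eq_mul_orderOf_of_coprime
      (by rw [hxi, hy]; exact (Nat.coprime_primes hP hQ).mpr hpq)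
    rw [hy, hxi] at h1
    exact Nat.card_ne_zero.mpr ⟨⟨⟨_, h1⟩⟩, inferInstance⟩ hzero
  have hncomm' : ∀ y x : G, ∀ i, orderOf y = q → orderOf x = p ^ (i + 1) → ¬ Commute y x := by
    intro y x i hy hx hc
    have hxi : orderOf (x ^ p ^ i) = p := by
      rw [orderOf_pow_of_dvd (pow_ne_zero _ hP.ne_zero) (hx ▸ pow_dvd_pow p (by omega)), hx,
        Nat.pow_div (by omega) hP.pos, show i + 1 - i = 1 by omega, pow_one]
    have h1 := (hc.pow_right (p ^ i)).orderOf_mul_eq_mul_orderOf_of_coprime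
      (by rw [hxi, hy]; exact (Nat.coprime_primes hQ hP).mpr hpq.symm)
    rw [hy, hxi, mul_comm] at h1
    exact Nat.card_ne_zero.mpr ⟨⟨⟨_, h1⟩⟩, inferInstance⟩ hzero
  have hsqp : ∀ i, 2 ≤ i → cnt G (p ^ i) = 0 := by
    intro i hi
    have hlt : 2 < p ^ i := lt_of_lt_of_le hPlt (Nat.le_self_pow (by omega) p)
    rcases hV _ hlt with e | e | e
    · exact e
    · have h1 : p ∣ cnt G (p ^ i) := by
        refine dvd_trans ?_ (totient_dvd_cnt (K := G) (p ^ i))
        rw [Nat.totient_prime_pow hP (by omega)]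
        exact (dvd_pow_self p (by omega)).mul_right _
      rw [e, ← ZMod.natCast_eq_zero_iff, hS] at h1
      exact absurd h1 (neg_ne_zero.mpr one_ne_zero)
    · have h1 := free_dvd (G := G) (p := q) (m := p ^ i) (fun y x hy hx => hncomm' y x (i - 1) hy (by rw [hx, Nat.sub_add_cancel (by omega : 1 ≤ i)]))
      rw [e] at h1
      have h2 := (dvd_pow_self q (hQ.factorization_pos_of_dvd Nat.card_pos.ne' hq).ne').trans h1
      rw [← ZMod.natCast_eq_zero_iff, hB] at h2
      exact absurd h2 (neg_ne_zero.mpr one_ne_zero)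
  have hsqq : ∀ i, 2 ≤ i → cnt G (q ^ i) = 0 := by
    intro i hi
    have hlt : 2 < q ^ i := lt_of_lt_of_le hQlt (Nat.le_self_pow (by omega) q)
    rcases hV _ hlt with e | e | e
    · exact e
    · have h1 := free_dvd (G := G) (p := p) (m := q ^ i) (fun y x hy hx => hncomm y x (i - 1) hy (by rw [hx, Nat.sub_add_cancel (by omega : 1 ≤ i)]))
      rw [e] at h1
      have h2 := (dvd_pow_self p (hP.factorization_pos_of_dvd Nat.card_pos.ne' hp).ne').trans h1
      rw [← ZMod.natCast_eq_zero_iff, hS] at h2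
      exact absurd h2 (neg_ne_zero.mpr one_ne_zero)
    · have h1 : q ∣ cnt G (q ^ i) := by
        refine dvd_trans ?_ (totient_dvd_cnt (K := G) (q ^ i))
        rw [Nat.totient_prime_pow hQ (by omega)]
        exact (dvd_pow_self q (by omega)).mul_right _
      rw [e, ← ZMod.natCast_eq_zero_iff, hB] at h1
      exact absurd h1 (neg_ne_zero.mpr one_ne_zero)
  have hord : ∀ g : G, g ≠ 1 → orderOf g = p ∨ orderOf g = q := by
    intro g hg
    set o := orderOf g
    have ho : o ∣ Nat.card G := orderOf_dvd_natCard g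
    have hex : ∀ d, d ∣ o → ∃ y : G, orderOf y = d := fun d hd => ⟨g ^ (o / d), orderOf_pow_orderOf_div (orderOf_pos g).ne' hd⟩
    have hno : ∀ d, d ∣ o → cnt G d ≠ 0 := fun d hd => by
      obtain ⟨y, hy⟩ := hex d hd
      exact Nat.card_ne_zero.mpr ⟨⟨⟨y, hy⟩⟩, inferInstance⟩
    obtain ⟨r, hr, hro⟩ := Nat.exists_prime_and_dvd (fun e : o = 1 => hg (orderOf_eq_one_iff.mp e))
    have honly : ∀ r', r'.Prime → r' ∣ o → r' = p ∨ r' = q := fun r' hr' hd => by
      have : r' ∈ (Nat.card G).primeFactors := Nat.mem_primeFactors.mpr ⟨hr', hd.trans ho, Nat.card_pos.ne'⟩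
      rw [hF] at this; simpa using this
    have hnotboth : ¬ (p ∣ o ∧ q ∣ o) := fun hh => hno _ (((Nat.coprime_primes hP hQ).mpr hpq).mul_dvd_of_dvd_of_dvd hh.1 hh.2) hzero
    have hopos : o ≠ 0 := (orderOf_pos g).ne'
    rcases honly r hr hro with rfl | rfl
    · left
      have e := Nat.eq_prime_pow_of_unique_prime_dvd hopos (p := r) fun {d} hd hdo =>
        (honly d hd hdo).resolve_right fun e => hnotboth ⟨hro, e ▸ hdo⟩
      set j := o.primeFactorsList.length
      have : j < 2 := by
        by_contra hj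
        exact hno o dvd_rfl (by rw [e]; exact hsqp j (by omega))
      have hj0 : j ≠ 0 := fun e0 => by rw [e, e0, pow_zero] at hro; exact hr.not_dvd_one hro
      rw [e, show j = 1 by omega, pow_one]
    · right
      have e := Nat.eq_prime_pow_of_unique_prime_dvd hopos (p := r) fun {d} hd hdo =>
        (honly d hd hdo).resolve_left fun e => hnotboth ⟨e ▸ hdo, hro⟩
      set j := o.primeFactorsList.length
      have : j < 2 := by
        by_contra hj
        exact hno o dvd_rfl (by rw [e]; exact hsqq j (by omega))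
      have hj0 : j ≠ 0 := fun e0 => by rw [e, e0, pow_zero] at hro; exact hr.not_dvd_one hro
      rw [e, show j = 1 by omega, pow_one]
  refine ⟨fun x _ P hx => ?_, ?_⟩
  · have hX : x.Prime := Fact.out
    refine (hX.eq_one_or_self_of_dvd _ (Monoid.exponent_dvd_of_forall_pow_eq_one fun y => ?_)).resolve_left ?_
    · by_cases hy : (y : G) = 1
      · rw [show y = 1 from Subtype.ext hy, one_pow]
      obtain ⟨k, hk⟩ := IsPGroup.iff_orderOf.mp P.2 y
      rw [← Subgroup.orderOf_coe] at hk
      refine Subtype.ext ?_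
      have hpr : (orderOf (y : G)).Prime := by rcases hord _ hy with e | e <;> rw [e] <;> assumption
      have := (Nat.prime_dvd_prime_iff_eq hpr hX).mp (hpr.dvd_of_dvd_pow hk.dvd)
      exact orderOf_dvd_iff_pow_eq_one.mp this.dvd
    · intro he
      have h3 := P.dvd_card_of_dvd_card hx
      haveI : Subsingleton (P : Subgroup G) := Monoid.exp_eq_one_iff.mp he
      rw [Nat.card_eq_one_iff_unique.mpr ⟨inferInstance, inferInstance⟩] at h3
      exact hX.not_dvd_one h3
  · haveI : Group.IsSolvable G := Cfsg.Agent.S3996.solvable_of_small h2.le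
    haveI : Nontrivial G := Finite.one_lt_card_iff_nontrivial.mp (lt_of_lt_of_le hP.one_lt (Nat.le_of_dvd Nat.card_pos hp))
    obtain ⟨r, hr, N, hNn, hN, hNr, hNc⟩ := CfsgLib.Hall.exists_normal_pgroup_ne_bot (G := G)
    haveI := hNn; haveI := hNc
    haveI := Fact.mk hr
    have hrF : r ∈ (Nat.card G).primeFactors := by
      obtain ⟨k, hk⟩ := IsPGroup.iff_card.mp hNr
      have hk0 : k ≠ 0 := fun e => hN (Subgroup.eq_bot_of_card_eq N (by rw [hk, e, pow_zero]))
      exact Nat.mem_primeFactors.mpr ⟨hr, ((dvd_pow_self r hk0).trans hk.symm.dvd).trans (Subgroup.card_subgroup_dvd_card N), Nat.card_pos.ne'⟩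
    rw [hF, Finset.mem_insert, Finset.mem_singleton] at hrF
    rcases hrF with rfl | rfl
    · exact exists_complement hpq hp hq hord N hN hNr
    · exact exists_complement hpq.symm hq hp (fun g hg => (hord g hg).symm) N hN hNr

theorem result {G : Type*} [Group G] [Finite G] (hodd : Odd (Nat.card G)) (h : (((fun m : ℕ => Nat.card {g : G // orderOf g = m}) '' Set.range (orderOf : G → ℕ))).ncard = 3) :
    (Nat.card G).primeFactors.card ≤ 2 ∧
      ((Nat.card G).primeFactors.card = 2 →
        (∀ (p : ℕ) [Fact p.Prime] (P : Sylow p G), p ∣ Nat.card G → Monoid.exponent ↥(P : Subgroup G) = p) ∧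
        ∃ C : Subgroup G, Cfsg.IsFrobeniusComplement C ∧ (Nat.card ↥C).Prime) :=
  main hodd h

end Cfsg.Agent.S4004
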