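import Cfsg.Statements.S4005
import Cfsg.Agent.Lib.Hall.Basic
import Cfsg.Agent.Lib.Fitting.Basic
import Cfsg.Agent.Lib.Coprime.Generation
import Cfsg.Agent.S0144

set_option autoImplicit false
set_option linter.style.haveILetI false
open Cfsg

namespace Cfsg.Agent.S4005

open CfsgLib

variable {G : Type*} [Group G] [Finite G]

theorem pow_or (h : Set.range (orderOf : G → ℕ) = {k : ℕ | 1 ≤ k ∧ k ≤ 3}) (g : G) :
    g ^ 2 = 1 ∨ g ^ 3 = 1 := by
  have := (h ▸ ⟨g, rfl⟩ : orderOf g ∈ {k : ℕ | 1 ≤ k ∧ k ≤ 3})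
  obtain ⟨h1, h2⟩ := this
  rcases (show orderOf g = 1 ∨ orderOf g = 2 ∨ orderOf g = 3 by omega) with e | e | e
  · exact Or.inl (by rw [orderOf_eq_one_iff.mp e, one_pow])
  · exact Or.inl (e ▸ pow_orderOf_eq_one g)
  · exact Or.inr (e ▸ pow_orderOf_eq_one g)

/-- A finite group whose set of element orders is exactly {1, 2, 3} has either a normal elementary abelian 3-subgroup of index 2 or a normal elementary abelian 2-subgroup of index 3. -/
theorem result {G : Type*} [Group G] [Finite G] (h : Set.range (orderOf : G → ℕ) = {k : ℕ | 1 ≤ k ∧ k ≤ 3}) :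
    (∃ N : Subgroup G, N.Normal ∧ Cfsg.IsElementaryAbelian 3 N ∧ N.index = 2) ∨
      (∃ N : Subgroup G, N.Normal ∧ Cfsg.IsElementaryAbelian 2 N ∧ N.index = 3) := by
  have hpo := pow_or h
  have hprime : ∀ r : ℕ, r.Prime → r ∣ Nat.card G → r = 2 ∨ r = 3 := by
    intro r hr hd
    haveI := Fact.mk hr
    obtain ⟨g, hg⟩ := exists_prime_orderOf_dvd_card' r hd
    have := (h ▸ ⟨g, rfl⟩ : orderOf g ∈ {k : ℕ | 1 ≤ k ∧ k ≤ 3})
    simp only [Set.mem_setOf_eq, hg] at this
    have := hr.two_le
    omega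
  have hex : ∀ k, 1 ≤ k → k ≤ 3 → ∃ g : G, orderOf g = k := fun k h1 h2 => by
    have : k ∈ Set.range (orderOf : G → ℕ) := h ▸ ⟨h1, h2⟩
    exact this
  haveI : Group.IsSolvable G := by
    refine Cfsg.Agent.S0144.result 2 3 ((Nat.card G).factorization 2)
      ((ordCompl[2] (Nat.card G)).primeFactorsList.length) Nat.prime_two Nat.prime_three ?_
    conv_lhs => rw [← Nat.ordProj_mul_ordCompl_eq_self (Nat.card G) 2]
    congr 1
    refine Nat.eq_prime_pow_of_unique_prime_dvd ?_ ?_
    · exact (Nat.ordCompl_pos 2 Nat.card_pos.ne').ne'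
    · intro d hd hdd
      rcases hprime d hd (hdd.trans (Nat.ordCompl_dvd _ _)) with e | e
      · exact absurd (e ▸ hdd) (Nat.not_dvd_ordCompl Nat.prime_two Nat.card_pos.ne')
      · exact e
  obtain ⟨x2, hx2⟩ := hex 2 (by omega) (by omega)
  haveI : Nontrivial G := ⟨⟨x2, 1, fun e => by rw [e, orderOf_one] at hx2; omega⟩⟩
  obtain ⟨p, hp, M, hMn, hM1, hMp, -⟩ := CfsgLib.Hall.exists_normal_pgroup_ne_bot (G := G)
  haveI := Fact.mk hp
  set R := Cfsg.pCore p G with hR
  haveI hRn : R.Normal := CfsgLib.Fitting.pCore_normal p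
  have hRp : IsPGroup p R := CfsgLib.Fitting.pCore_isPGroup p
  have hMR : M ≤ R := CfsgLib.Fitting.le_pCore hMn hMp
  obtain ⟨⟨m, hm⟩, hm1⟩ := Subgroup.ne_bot_iff_exists_ne_one.mp hM1
  have hm0 : m ≠ 1 := fun e => hm1 (Subtype.ext e)
  have hRG : p = 2 ∨ p = 3 := by
    obtain ⟨k, hk⟩ := IsPGroup.iff_orderOf.mp hRp ⟨m, hMR hm⟩
    rw [Subgroup.orderOf_mk] at hk
    refine hprime p hp ((dvd_pow_self p (fun e => hm0 ?_)).trans (?_ : p ^ k ∣ Nat.card G))
    · rw [e, pow_zero, orderOf_eq_one_iff] at hk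
      exact hk
    · rw [← hk]; exact orderOf_dvd_natCard m
  -- mixed commuting elements are trivial
  have hmix : ∀ a b : G, a ^ 2 = 1 → b ^ 3 = 1 → a * b = b * a → a = 1 ∨ b = 1 := by
    intro a b ha hb hab
    have hc : Commute a b := hab
    rcases hpo (a * b) with e | e
    · right
      rw [hc.mul_pow, ha, one_mul] at e
      calc b = b ^ 3 * (b ^ 2)⁻¹ := by group
        _ = 1 := by rw [hb, e]; group
    · left
      rw [hc.mul_pow, hb, mul_one] at e
      calc a = a ^ 3 * (a ^ 2)⁻¹ := by group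
        _ = 1 := by rw [ha, e]; group
  have hR2 : p = 2 → ∀ r ∈ R, r ^ 2 = 1 := by
    intro hp2 r hr
    rcases hpo r with e | e
    · exact e
    obtain ⟨k, hk⟩ := hRp ⟨r, hr⟩
    have h1 : r ^ p ^ k = 1 := congrArg Subtype.val hk
    have h2 : orderOf r = 1 := Nat.eq_one_of_dvd_coprimes
      (show Nat.Coprime (p ^ k) 3 by rw [hp2]; exact Nat.Coprime.pow_left k (by norm_num))
      (orderOf_dvd_of_pow_eq_one h1) (orderOf_dvd_of_pow_eq_one e)
    rw [orderOf_eq_one_iff.mp h2, one_pow]
  have hR3 : p = 3 → ∀ r ∈ R, r ^ 3 = 1 := by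
    intro hp3 r hr
    rcases hpo r with e | e
    swap
    · exact e
    obtain ⟨k, hk⟩ := hRp ⟨r, hr⟩
    have h1 : r ^ p ^ k = 1 := congrArg Subtype.val hk
    have h2 : orderOf r = 1 := Nat.eq_one_of_dvd_coprimes
      (show Nat.Coprime (p ^ k) 2 by rw [hp3]; exact Nat.Coprime.pow_left k (by norm_num))
      (orderOf_dvd_of_pow_eq_one h1) (orderOf_dvd_of_pow_eq_one e)
    rw [orderOf_eq_one_iff.mp h2, one_pow]
  -- the centraliser of `R` lies in `R`
  have hCR : Subgroup.centralizer (R : Set G) ≤ R := by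
    refine CfsgLib.Fitting.le_pCore inferInstance ?_
    intro c
    refine ⟨1, Subtype.ext ?_⟩
    show (c : G) ^ p ^ 1 = 1
    rw [pow_one]
    have hmc : m * (c : G) = (c : G) * m := c.2 m (hMR hm)
    rcases hRG with e | e <;> subst e <;> rcases hpo (c : G) with ec | ec
    · exact ec
    · rw [(hmix m c (hR2 rfl m (hMR hm)) ec hmc).resolve_left hm0, one_pow]
    · rw [(hmix c m ec (hR3 rfl m (hMR hm)) hmc.symm).resolve_right hm0, one_pow]
    · exact ec
  rcases hRG with e | e <;> subst e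
  · -- `p = 2`
    right
    have hcomm : IsMulCommutative R := ⟨⟨fun a b => Subtype.ext (by
      have ha := hR2 rfl _ a.2
      have hb := hR2 rfl _ b.2
      have hab := hR2 rfl _ (a * b).2
      rw [sq] at ha hb hab
      show (a : G) * b = b * a
      calc (a : G) * b = (a : G) * (((a * b : R) : G) * ((a * b : R) : G)) * b := by rw [hab, mul_one]
        _ = ((a : G) * a) * (b * a) * (b * b) := by rw [Subgroup.coe_mul]; simp only [mul_assoc]
        _ = b * a := by rw [ha, hb, one_mul, mul_one])⟩⟩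
    have hinv : ∀ g : G, g ^ 2 = 1 → g ∈ R := by
      intro g hg
      by_contra hgR
      refine hgR (hCR fun r hr => ?_)
      have hgr : (g * r) ^ 2 = 1 := by
        rcases hpo (g * r) with e | e
        · exact e
        exfalso
        apply hgR
        have h1 : QuotientGroup.mk' R g = 1 := by
          have e1 := congrArg (QuotientGroup.mk' R) e
          have e2 := congrArg (QuotientGroup.mk' R) hg
          rw [map_pow, map_mul, (QuotientGroup.eq_one_iff r).mpr hr |> fun h =>
            (show QuotientGroup.mk' R r = 1 from h), mul_one, map_one] at e1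
          rw [map_pow, map_one] at e2
          calc QuotientGroup.mk' R g = (QuotientGroup.mk' R g) ^ 3 * ((QuotientGroup.mk' R g) ^ 2)⁻¹ := by group
            _ = 1 := by rw [e1, e2]; group
        exact (QuotientGroup.eq_one_iff g).mp h1
      have hr2 := hR2 rfl r hr
      rw [sq] at hg hr2 hgr
      calc r * g = (g * g) * r * g * (r * r) := by rw [hg, hr2, one_mul, mul_one]
        _ = g * ((g * r) * (g * r)) * r := by simp only [mul_assoc]
        _ = g * r := by rw [hgr, mul_one]
    refine ⟨R, hRn, ⟨hcomm, hR2 rfl⟩, ?_⟩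
    haveI : Fact (Nat.Prime 3) := ⟨Nat.prime_three⟩
    have hQ : IsPGroup 3 (G ⧸ R) := by
      intro z
      obtain ⟨g, rfl⟩ := QuotientGroup.mk_surjective z
      refine ⟨1, ?_⟩
      rw [pow_one, ← QuotientGroup.mk_pow, QuotientGroup.eq_one_iff]
      rcases hpo g with e | e
      · exact pow_mem (hinv g e) 3
      · rw [e]; exact one_mem R
    obtain ⟨j, hj⟩ := IsPGroup.iff_card.mp hQ
    rw [← Subgroup.index_eq_card] at hj
    obtain ⟨x3, hx3⟩ := hex 3 (by omega) (by omega)
    obtain ⟨i, hi⟩ := IsPGroup.iff_card.mp hRp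
    have hj1 : 1 ≤ j := by
      by_contra h0
      rw [show j = 0 by omega, pow_zero, Subgroup.index_eq_one] at hj
      have h2 := hR2 rfl x3 (hj ▸ Subgroup.mem_top x3)
      have := orderOf_dvd_of_pow_eq_one h2
      rw [hx3] at this
      norm_num at this
    by_contra hne
    have hj2 : 2 ≤ j := by
      rcases (show j = 1 ∨ 2 ≤ j by omega) with e | e
      · exact absurd (by rw [hj, e, pow_one]) hne
      · exact e
    obtain ⟨A, hA⟩ := Sylow.exists_subgroup_card_pow_prime (G := G) 3 (n := 2) (by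
      rw [← Subgroup.card_mul_index R, hj]
      exact dvd_mul_of_dvd_right (pow_dvd_pow 3 hj2) _)
    haveI : IsMulCommutative A :=
      ⟨(IsPGroup.isMulCommutative_of_card_eq_prime_sq hA).1⟩
    have hAc : ¬ IsCyclic A := fun hc => by
      obtain ⟨g, hg⟩ := hc.exists_ofOrder_eq_natCard
      rw [hA, ← Subgroup.orderOf_coe] at hg
      have h' := (h ▸ ⟨_, hg⟩ : 3 ^ 2 ∈ {k : ℕ | 1 ≤ k ∧ k ≤ 3})
      simp at h'
    have hle := CfsgLib.Coprime.le_of_centralizer_le (K := R) (Y := ⊥) hAc
      (fun a _ => Subgroup.le_normalizer_of_normal (Subgroup.mem_top a))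
      (by rw [hA, hi]; exact Nat.Coprime.pow _ _ (by norm_num))
      fun g hg hg1 r hr => by
        obtain ⟨hrR, hrC⟩ := Subgroup.mem_inf.mp hr
        rcases hpo g with e | e
        · exfalso
          have h1 : orderOf g ∣ 3 ^ 2 := hA ▸ Subgroup.orderOf_dvd_natCard A hg
          exact hg1 (orderOf_eq_one_iff.mp (Nat.eq_one_of_dvd_coprimes
            (by norm_num : Nat.Coprime (3 ^ 2) 2) h1 (orderOf_dvd_of_pow_eq_one e)))
        · exact Subgroup.mem_bot.mpr ((hmix r g (hR2 rfl r hrR) e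
            (Subgroup.mem_centralizer_singleton_iff.mp hrC)).resolve_right hg1)
    exact hm0 (Subgroup.mem_bot.mp (hle (hMR hm)))
  · -- `p = 3`
    left
    have hinvert : ∀ t : G, t ^ 2 = 1 → t ≠ 1 → ∀ r ∈ R, t * r * t⁻¹ = r⁻¹ := by
      intro t ht ht1 r hr
      have htR : t ∉ R := fun htR => ht1 (by
        calc t = t ^ 3 * (t ^ 2)⁻¹ := by group
          _ = 1 := by rw [hR3 rfl t htR, ht]; group)
      have htr : (t * r) ^ 2 = 1 := by
        rcases hpo (t * r) with e | e
        · exact e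
        exfalso
        apply htR
        have h1 : QuotientGroup.mk' R t = 1 := by
          have e1 := congrArg (QuotientGroup.mk' R) e
          have e2 := congrArg (QuotientGroup.mk' R) ht
          rw [map_pow, map_mul, show QuotientGroup.mk' R r = 1 from (QuotientGroup.eq_one_iff r).mpr hr,
            mul_one, map_one] at e1
          rw [map_pow, map_one] at e2
          calc QuotientGroup.mk' R t = (QuotientGroup.mk' R t) ^ 3 * ((QuotientGroup.mk' R t) ^ 2)⁻¹ := by group
            _ = 1 := by rw [e1, e2]; group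
        exact (QuotientGroup.eq_one_iff t).mp h1
      rw [sq] at ht htr
      rw [inv_eq_of_mul_eq_one_right ht]
      exact eq_inv_of_mul_eq_one_left (by simpa [mul_assoc] using htr)
    have hx1 : x2 ≠ 1 := fun e => by rw [e, orderOf_one] at hx2; omega
    have ht2 : x2 ^ 2 = 1 := hx2 ▸ pow_orderOf_eq_one x2
    have hcomm : IsMulCommutative R := ⟨⟨fun a b => Subtype.ext (by
      have e := hinvert x2 ht2 hx1 _ (mul_mem a.2 b.2)
      rw [show x2 * ((a : G) * b) * x2⁻¹ = (x2 * a * x2⁻¹) * (x2 * b * x2⁻¹) by group,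
        hinvert x2 ht2 hx1 _ a.2, hinvert x2 ht2 hx1 _ b.2, mul_inv_rev] at e
      have e' := congrArg Inv.inv e
      simp only [mul_inv_rev, inv_inv] at e'
      exact e'.symm)⟩⟩
    refine ⟨R, hRn, ⟨hcomm, hR3 rfl⟩, ?_⟩
    set π := QuotientGroup.mk' R with hπ
    have hinvol : ∀ t : G, t ^ 2 = 1 → t ≠ 1 → π t = π x2 := by
      intro t ht ht1
      have : x2⁻¹ * t ∈ R := hCR fun r hr => by
        have e1 : t * r * t⁻¹ = r⁻¹ := hinvert t ht ht1 r hr
        have e2 : x2 * r * x2⁻¹ = r⁻¹ := hinvert x2 ht2 hx1 r hr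
        have e3 : t * r * t⁻¹ = x2 * r * x2⁻¹ := e1.trans e2.symm
        calc r * (x2⁻¹ * t) = x2⁻¹ * (x2 * r * x2⁻¹) * t := by group
          _ = x2⁻¹ * (t * r * t⁻¹) * t := by rw [e3]
          _ = x2⁻¹ * t * r := by group
      exact (QuotientGroup.eq.mpr this).symm
    have ht2' : (π x2) ^ 2 = 1 := by rw [← map_pow, ht2, map_one]
    rw [Subgroup.index_eq_two_iff]
    refine ⟨x2, fun g => ?_⟩
    have hx2R : x2 ∉ R := fun hR' => hx1 (by
      calc x2 = x2 ^ 3 * (x2 ^ 2)⁻¹ := by group
        _ = 1 := by rw [hR3 rfl x2 hR', ht2]; group)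
    have hgm : π g = 1 ∨ π g = π x2 := by
      rcases hpo g with e | e
      · by_cases hg1 : g = 1
        · left; rw [hg1, map_one]
        · exact Or.inr (hinvol g e hg1)
      · left
        have hc : π g * π x2 = π x2 * π g := by
          have h1 := hinvol (g * x2 * g⁻¹) (by
            rw [show (g * x2 * g⁻¹) ^ 2 = g * x2 ^ 2 * g⁻¹ by rw [sq, sq]; group, ht2]; group)
            (fun e' => hx1 (by rwa [mul_inv_eq_one, mul_eq_left] at e'))
          rw [map_mul, map_mul, map_inv, mul_inv_eq_iff_eq_mul] at h1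
          exact h1
        have hc' : Commute (π g) (π x2) := hc
        have hg3 : π g ^ 3 = 1 := by rw [← map_pow, e, map_one]
        rcases hpo (g * x2) with e' | e'
        · have e1 := congrArg π e'
          rw [map_pow, map_mul, hc'.mul_pow, ht2', mul_one, map_one] at e1
          calc π g = π g ^ 3 * (π g ^ 2)⁻¹ := by group
            _ = 1 := by rw [hg3, e1]; group
        · exfalso
          apply hx2R
          have e1 := congrArg π e'
          rw [map_pow, map_mul, hc'.mul_pow, hg3, one_mul, map_one] at e1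
          refine (QuotientGroup.eq_one_iff x2).mp ?_
          calc π x2 = π x2 ^ 3 * (π x2 ^ 2)⁻¹ := by group
            _ = 1 := by rw [e1, ht2']; group
    rcases hgm with e | e
    · have hgR : g ∈ R := (QuotientGroup.eq_one_iff g).mp e
      exact Or.inr ⟨hgR, fun hh => hx2R ((Subgroup.mul_mem_cancel_left R hgR).mp hh)⟩
    · refine Or.inl ⟨(QuotientGroup.eq_one_iff (g * x2)).mp ?_, fun hgR => hx2R ?_⟩
      · show π (g * x2) = 1
        rw [map_mul, e, ← sq, ht2']
      · refine (QuotientGroup.eq_one_iff x2).mp ?_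
        rw [show π g = 1 from (QuotientGroup.eq_one_iff g).mpr hgR] at e
        exact e.symm
end Cfsg.Agent.S4005
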