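import Cfsg.Statements.S4006
import Cfsg.Agent.Lib.OneToFour.Basic
import Cfsg.Agent.Lib.FourOrbit.Basic
import Cfsg.Agent.Lib.Hall.Basic
import Cfsg.Agent.Lib.PSolvable.Core
import Cfsg.Agent.Lib.ZStar.Recognize
import Cfsg.Agent.Lib.ThreeTransp.StringHom
-- import your own Cfsg.Agent.* helpers here

set_option autoImplicit false
open Cfsg

namespace Cfsg.Agent.S4006

variable {G : Type*} [Group G]

/-- The spectrum hypothesis. -/
def Spec (G : Type*) [Group G] : Prop := ∀ g : G, g ^ 4 = 1 ∨ g ^ 3 = 1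

theorem spec_of_range (h : Set.range (orderOf : G → ℕ) = {k : ℕ | 1 ≤ k ∧ k ≤ 4}) :
    Spec G ∧ ∀ g : G, orderOf g ≤ 4 := by
  have h4 : ∀ g : G, 1 ≤ orderOf g ∧ orderOf g ≤ 4 := fun g => h.le ⟨g, rfl⟩
  refine ⟨fun g => ?_, fun g => (h4 g).2⟩
  obtain ⟨h1, h2⟩ := h4 g
  obtain ⟨n, hn⟩ : ∃ n, orderOf g = n := ⟨_, rfl⟩
  rw [hn] at h1 h2
  interval_cases n <;>
    first
      | (refine Or.inl (orderOf_dvd_iff_pow_eq_one.mp ?_); norm_num [hn]; done)
      | (refine Or.inr (orderOf_dvd_iff_pow_eq_one.mp ?_); norm_num [hn]; done)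

/-- No element of order six. -/
theorem no_six (h : ∀ g : G, orderOf g ≤ 4) {x y : G} (hx : x ^ 3 = 1) (hx1 : x ≠ 1) (hy : y ^ 4 = 1)
    (hxy : Commute x y) : y = 1 := by
  haveI := Fact.mk Nat.prime_three
  have h3 : orderOf x = 3 := orderOf_eq_prime hx hx1
  by_contra hy1
  have hd : orderOf y ∣ 2 ^ 2 := orderOf_dvd_of_pow_eq_one hy
  obtain ⟨k, -, hk⟩ := (Nat.dvd_prime_pow Nat.prime_two).mp hd
  have hk0 : k ≠ 0 := fun e => hy1 (orderOf_eq_one_iff.mp (by rw [hk, e, pow_zero]))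
  have := h (x * y)
  rw [hxy.orderOf_mul_eq_mul_orderOf_of_coprime (by rw [h3, hk]; exact (Nat.Coprime.pow_right k (by norm_num))),
    h3, hk] at this
  have : 2 ≤ 2 ^ k := Nat.le_self_pow hk0 2
  omega

theorem eq_one_of_pows {g : G} (h4 : g ^ 4 = 1) (h3 : g ^ 3 = 1) : g = 1 := by
  rwa [pow_succ, h3, one_mul] at h4

theorem pow_four_of_isPGroup (hs : Spec G) {N : Subgroup G} (hN : IsPGroup 2 N) {g : G} (hg : g ∈ N) :
    g ^ 4 = 1 := by
  refine (hs g).elim id fun h3 => ?_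
  obtain ⟨k, hk⟩ := hN ⟨g, hg⟩
  have hk' : g ^ 2 ^ k = 1 := congrArg Subtype.val hk
  have : g = 1 := orderOf_eq_one_iff.mp (Nat.eq_one_of_dvd_coprimes
    (show Nat.Coprime (2 ^ k) 3 from Nat.Coprime.pow_left k (by norm_num))
    (orderOf_dvd_of_pow_eq_one hk') (orderOf_dvd_of_pow_eq_one h3))
  rw [this, one_pow]

theorem pow_three_of_isPGroup (hs : Spec G) {N : Subgroup G} (hN : IsPGroup 3 N) {g : G} (hg : g ∈ N) :
    g ^ 3 = 1 := by
  refine (hs g).elim (fun h4 => ?_) id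
  obtain ⟨k, hk⟩ := hN ⟨g, hg⟩
  have hk' : g ^ 3 ^ k = 1 := congrArg Subtype.val hk
  have : g = 1 := orderOf_eq_one_iff.mp (Nat.eq_one_of_dvd_coprimes
    (show Nat.Coprime (3 ^ k) 4 from Nat.Coprime.pow_left k (by norm_num))
    (orderOf_dvd_of_pow_eq_one hk') (orderOf_dvd_of_pow_eq_one h4))
  rw [this, one_pow]

theorem le_pCore {p : ℕ} {H : Subgroup G} (hn : H.Normal) (hp : IsPGroup p H) : H ≤ Cfsg.pCore p G :=
  le_sSup (show H ∈ {M : Subgroup G | M.Normal ∧ IsPGroup p M} from ⟨hn, hp⟩)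

section CaseThree

theorem case_three [Finite G] (hs : Spec G) (hle : ∀ g : G, orderOf g ≤ 4) (hN1 : Cfsg.pCore 3 G ≠ ⊥)
    (h2 : ∃ g : G, orderOf g = 2) (h4 : ∃ g : G, orderOf g = 4) :
    ∃ (N : Subgroup G) (_ : N.Normal),
      Cfsg.IsElementaryAbelian 3 N ∧ ((IsCyclic (G ⧸ N) ∧ N.index = 4) ∨
        Nonempty (G ⧸ N ≃* QuaternionGroup 2)) := by
  haveI := Fact.mk Nat.prime_three
  haveI := Fact.mk Nat.prime_two
  set N := Cfsg.pCore 3 G
  haveI hNn : N.Normal := CfsgLib.Fitting.pCore_normal 3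
  have hNp : IsPGroup 3 N := CfsgLib.Fitting.pCore_isPGroup 3
  have hN3 : ∀ n ∈ N, n ^ 3 = 1 := fun n hn => pow_three_of_isPGroup hs hNp hn
  have hsq : ∀ t : G, t ^ 2 = 1 → t ^ 4 = 1 := fun t h => by rw [show 4 = 2 * 2 from rfl, pow_mul, h, one_pow]
  have hinv : ∀ t : G, t ^ 2 = 1 → t ≠ 1 → ∀ n ∈ N, t * n * t⁻¹ = n⁻¹ := by
    intro t ht ht1 n hn
    let β : N ≃* N := MulAut.conjNormal t
    have hfpf : ∀ g, β g = g → g = 1 := fun g hg => by
      by_contra hg1
      have e : t * g * t⁻¹ = g := (MulAut.conjNormal_apply t g).symm.trans (congrArg Subtype.val hg)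
      exact ht1 (no_six hle (hN3 g g.2) (fun h => hg1 (Subtype.ext h)) (hsq t ht)
        (mul_inv_eq_iff_eq_mul.mp e).symm)
    have h22 : ∀ g, β (β g) = g := fun g => by
      show (MulAut.conjNormal (H := N) t * MulAut.conjNormal t : MulAut N) g = g
      rw [← map_mul, ← pow_two, ht, map_one, MulAut.one_apply]
    have := CfsgLib.SymThree.inv_of_fpf_involution β h22 hfpf ⟨n, hn⟩
    exact (MulAut.conjNormal_apply t (⟨n, hn⟩ : N)).symm.trans (congrArg Subtype.val this)
  obtain ⟨z, hz⟩ := h2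
  have hz2 : z ^ 2 = 1 := hz ▸ pow_orderOf_eq_one z
  have hz1 : z ≠ 1 := fun h => by rw [h, orderOf_one] at hz; norm_num at hz
  have hab : IsMulCommutative N := ⟨⟨fun a b => Subtype.ext (by
    have e1 := hinv z hz2 hz1 _ (mul_mem (inv_mem a.2) (inv_mem b.2))
    rw [show z * ((a : G)⁻¹ * (b : G)⁻¹) * z⁻¹ = (z * (a : G)⁻¹ * z⁻¹) * (z * (b : G)⁻¹ * z⁻¹) by group,
      hinv z hz2 hz1 _ (inv_mem a.2), hinv z hz2 hz1 _ (inv_mem b.2), inv_inv, inv_inv, mul_inv_rev,
      inv_inv, inv_inv] at e1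
    exact e1)⟩⟩
  obtain ⟨n₀, hn₀, hn₀1⟩ : ∃ n ∈ N, n ≠ 1 := by
    by_contra hne
    push Not at hne
    exact hN1 ((Subgroup.eq_bot_iff_forall _).mpr hne)
  have hC : Subgroup.centralizer (N : Set G) ≤ N := by
    refine le_pCore inferInstance fun g => ⟨1, Subtype.ext ?_⟩
    rw [pow_one]
    refine (hs g).elim (fun h => ?_) id
    have : (g : G) = 1 := no_six hle (hN3 n₀ hn₀) hn₀1 h (g.2 n₀ hn₀)
    show (g : G) ^ 3 = 1
    rw [this, one_pow]
  have hmod : ∀ t : G, t ^ 2 = 1 → t ≠ 1 → t * z ∈ N := fun t ht ht1 => hC fun n hn => by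
    have : t * z * n * (t * z)⁻¹ = n := by
      rw [show t * z * n * (t * z)⁻¹ = t * (z * n * z⁻¹) * t⁻¹ by group, hinv z hz2 hz1 n hn,
        hinv t ht ht1 _ (inv_mem hn), inv_inv]
    exact (mul_inv_eq_iff_eq_mul.mp this).symm
  set π := QuotientGroup.mk' N
  have hπ3 : ∀ x : G, x ^ 3 = 1 → π x = 1 := by
    intro x hx
    set m := x * z * x⁻¹ * z
    have hm : m ∈ N := hmod _ (by rw [conj_pow, hz2, mul_one, mul_inv_cancel]) (by simpa using hz1)
    set y := m * x
    have hzy : Commute z y := by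
      have hzm : z * m = m⁻¹ * z := by
        rw [← hinv z hz2 hz1 m hm, inv_mul_cancel_right]
      have hxz : x * z = m * z * x := by
        have hzz : z * z = 1 := by rw [← pow_two]; exact hz2
        simp only [m]; rw [mul_assoc (x * z * x⁻¹), hzz, mul_one, inv_mul_cancel_right]
      show z * (m * x) = m * x * z
      rw [mul_assoc m x z, hxz, ← mul_assoc z, hzm]
      have hm3 := hN3 m hm
      have : m⁻¹ = m * m := inv_eq_of_mul_eq_one_right (by rw [← mul_assoc]; simpa [pow_succ] using hm3)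
      rw [this]; group
    have hy : π y = π x := by
      rw [map_mul, show π m = 1 from (QuotientGroup.eq_one_iff m).mpr hm, one_mul]
    have hy4 : y ^ 4 = 1 := by
      refine (hs y).elim id fun h => ?_
      by_contra hne
      have hy1 : y ≠ 1 := fun e => hne (by rw [e, one_pow])
      exact hz1 (no_six hle h hy1 (hsq z hz2) hzy.symm)
    refine eq_one_of_pows ?_ (by rw [← map_pow, hx, map_one])
    rw [← hy, ← map_pow, hy4, map_one]
  have hQ : ∀ q : G ⧸ N, q ^ 4 = 1 := fun q => by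
    obtain ⟨g, rfl⟩ := QuotientGroup.mk'_surjective N q
    rcases hs g with h | h
    · rw [← map_pow, h, map_one]
    · rw [hπ3 g h, one_pow]
  have hQp : IsPGroup 2 (G ⧸ N) := fun q => ⟨2, hQ q⟩
  have huniq : ∀ a b : G ⧸ N, orderOf a = 2 → orderOf b = 2 → a = b := by
    have key : ∀ a : G ⧸ N, orderOf a = 2 → a = π z := by
      intro a ha
      obtain ⟨g, rfl⟩ := QuotientGroup.mk'_surjective N a
      have hg1 : π g ≠ 1 := fun h => by rw [h, orderOf_one] at ha; norm_num at ha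
      have hg4 : g ^ 4 = 1 := (hs g).resolve_right fun h => hg1 (hπ3 g h)
      have hg2 : g ^ 2 ∈ N := (QuotientGroup.eq_one_iff _).mp (by
        show π (g ^ 2) = 1
        rw [map_pow, ← ha, pow_orderOf_eq_one])
      have hg22 : g ^ 2 = 1 := eq_one_of_pows (by rw [← pow_mul, show 2 * 4 = 4 * 2 from rfl, pow_mul, hg4, one_pow]) (hN3 _ hg2)
      have h := (QuotientGroup.eq_one_iff _).mpr (hmod g hg22 fun e => hg1 (by rw [e, map_one]))
      change π (g * z) = 1 at h
      rw [map_mul] at h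
      rw [eq_inv_of_mul_eq_one_left h, inv_eq_of_mul_eq_one_right]
      rw [← map_mul, ← pow_two, hz2, map_one]
    exact fun a b ha hb => (key a ha).trans (key b hb).symm
  obtain ⟨g, hg⟩ := h4
  have hg4 : g ^ 4 = 1 := hg ▸ pow_orderOf_eq_one g
  have hπg : orderOf (π g) = 4 := by
    refine orderOf_eq_prime_pow (p := 2) (n := 1) ?_ (hQ _)
    rw [pow_one, ← map_pow]
    intro h
    have := eq_one_of_pows (g := g ^ 2) (by rw [← pow_mul, show 2 * 4 = 4 * 2 from rfl, pow_mul, hg4, one_pow])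
      (hN3 _ ((QuotientGroup.eq_one_iff _).mp h))
    have := Nat.le_of_dvd (by norm_num) (orderOf_dvd_of_pow_eq_one this)
    omega
  have hcyc : IsCyclic (G ⧸ N) → IsCyclic (G ⧸ N) ∧ N.index = 4 := by
    intro hc
    refine ⟨hc, ?_⟩
    obtain ⟨q, hq⟩ := IsCyclic.exists_ofOrder_eq_natCard (α := G ⧸ N)
    rw [Subgroup.index]
    refine Nat.dvd_antisymm (hq ▸ orderOf_dvd_of_pow_eq_one (hQ q)) (hπg ▸ orderOf_dvd_natCard _)
  refine ⟨N, hNn, ⟨hab, hN3⟩, ?_⟩
  rcases CfsgLib.ZStar.cyclic_or_quaternion hQp huniq with hc | ⟨m, ⟨f⟩⟩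
  · exact Or.inl (hcyc hc)
  have hm : m ≤ 1 := by
    haveI : NeZero (2 ^ m) := ⟨by positivity⟩
    have h1 : orderOf (f.symm (QuaternionGroup.a 1)) = 2 ^ (m + 1) := by
      rw [MulEquiv.orderOf_eq, QuaternionGroup.orderOf_a_one, pow_succ']
    have h2 := orderOf_dvd_of_pow_eq_one (hQ (f.symm (QuaternionGroup.a 1)))
    rw [h1, show 4 = 2 ^ 2 by norm_num, Nat.pow_dvd_pow_iff_le_right (by norm_num)] at h2
    omega
  interval_cases m
  · haveI : IsCyclic (QuaternionGroup (2 ^ 0)) := QuaternionGroup.quaternionGroup_one_isCyclic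
    exact Or.inl (hcyc (isCyclic_of_surjective f.symm f.symm.surjective))
  · exact Or.inr ⟨f⟩

end CaseThree

section CaseTwo

theorem mem_zpowers_of_comm [Finite G] (hs : Spec G) (hle : ∀ g : G, orderOf g ≤ 4) {N : Subgroup G}
    [N.Normal] (hN : IsPGroup 2 N) (hN1 : N ≠ ⊥) {x y : G} (hx : x ^ 3 = 1) (hx1 : x ≠ 1) (hy : y ^ 3 = 1)
    (hxy : Commute x y) : y ∈ Subgroup.zpowers x := by
  haveI := Fact.mk Nat.prime_two
  haveI : Nontrivial N := (Subgroup.nontrivial_iff_ne_bot N).mpr hN1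
  haveI := hN.center_nontrivial
  by_contra hyx
  set Z := (Subgroup.center N).map N.subtype
  have hfix : ∀ c : G, c ^ 3 = 1 → c ≠ 1 → ∀ v ∈ Z, v * (c * v * c⁻¹) * (c ^ 2 * v * (c ^ 2)⁻¹) = 1 := by
    intro c hc hc1 v hv
    have hcomm : ∀ a ∈ Z, ∀ b ∈ Z, a * b = b * a := by
      rintro _ ⟨a, ha, rfl⟩ _ ⟨b, hb, rfl⟩
      rw [← map_mul, ← map_mul, Subgroup.mem_center_iff.mp hb a]
    have hZn : Z.Normal := inferInstance
    set p := v * (c * v * c⁻¹) * (c ^ 2 * v * (c ^ 2)⁻¹)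
    have hm1 : c * v * c⁻¹ ∈ Z := hZn.conj_mem v hv c
    have hm2 : c ^ 2 * v * (c ^ 2)⁻¹ ∈ Z := hZn.conj_mem v hv _
    have hp : p ∈ Z := mul_mem (mul_mem hv hm1) hm2
    refine no_six hle hc hc1 (pow_four_of_isPGroup hs hN (Subgroup.map_subtype_le _ hp)) ?_
    show c * p = p * c
    have e : c * p * c⁻¹ = (c * v * c⁻¹) * (c ^ 2 * v * (c ^ 2)⁻¹) * v := by
      have : c ^ 3 * v * (c ^ 3)⁻¹ = v := by rw [hc]; group
      calc c * p * c⁻¹ = (c * v * c⁻¹) * (c ^ 2 * v * (c ^ 2)⁻¹) * (c ^ 3 * v * (c ^ 3)⁻¹) := by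
            simp only [p, pow_succ, pow_zero]; group
        _ = _ := by rw [this]
    rw [← mul_inv_eq_iff_eq_mul, e, hcomm _ (mul_mem hm1 hm2) _ hv]
    simp only [p, mul_assoc]
  obtain ⟨⟨v₀, hv₀c⟩, hv₀1⟩ := exists_ne (1 : Subgroup.center N)
  have hv₀ : (v₀ : G) ∈ Z := ⟨v₀, hv₀c, rfl⟩
  haveI hZc : IsMulCommutative Z := inferInstance
  letI : CommGroup Z := { (inferInstance : Group Z) with mul_comm := fun a b => hZc.1.1 a b }
  let a : G → Z := fun g => ⟨g * v₀ * g⁻¹, Subgroup.Normal.conj_mem inferInstance _ hv₀ g⟩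
  have hmem : ∀ k : G, k ^ 3 = 1 → k ≠ 1 → ∀ g : G, a g * a (k * g) * a (k ^ 2 * g) = 1 := by
    intro k hk hk1 g
    refine Subtype.ext ((?_ : _ = _).trans (hfix k hk hk1 _ (a g).2))
    simp only [a, Subgroup.coe_mul]
    group
  have hnot : ∀ i : ℤ, x ^ i * y ≠ 1 := fun i h => hyx ⟨-i, by
    show x ^ (-i) = y
    rw [zpow_neg, eq_comm]; exact eq_inv_of_mul_eq_one_right h⟩
  have hy1 : y ≠ 1 := fun h => hyx (h ▸ one_mem _)
  have h3 : ∀ i : ℕ, (x ^ i * y) ^ 3 = 1 := fun i => by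
    rw [(hxy.pow_left i).mul_pow, hy, mul_one, ← pow_mul, mul_comm, pow_mul, hx, one_pow]
  have e1 := hmem x hx hx1 1
  have e2 := hmem y hy hy1 1
  have e3 := hmem (x * y) (by simpa using h3 1) (by simpa using hnot 1) 1
  have e4 := hmem (x ^ 2 * y) (h3 2) (by simpa using hnot 2) 1
  have e5 := hmem x hx hx1 y
  have e6 := hmem x hx hx1 (y ^ 2)
  simp only [mul_one] at e1 e2 e3 e4
  have q3 : (x * y) ^ 2 = x ^ 2 * y ^ 2 := hxy.mul_pow 2
  have q4 : (x ^ 2 * y) ^ 2 = x * y ^ 2 := by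
    rw [(hxy.pow_left 2).mul_pow, ← pow_mul, show 2 * 2 = 3 + 1 from rfl, pow_succ, hx, one_mul]
  rw [q3] at e3
  rw [q4] at e4
  have hc : (a 1 * a 1 * a 1) * ((a 1 * a x * a (x ^ 2)) * (a y * a (x * y) * a (x ^ 2 * y)) *
      (a (y ^ 2) * a (x * y ^ 2) * a (x ^ 2 * y ^ 2))) =
      (a 1 * a x * a (x ^ 2)) * (a 1 * a y * a (y ^ 2)) * (a 1 * a (x * y) * a (x ^ 2 * y ^ 2)) *
      (a 1 * a (x ^ 2 * y) * a (x * y ^ 2)) := by ac_rfl
  rw [e1, e2, e3, e4, e5, e6] at hc
  simp only [mul_one] at hc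
  have hv3 : (v₀ : G) ^ 3 = 1 := by
    have := congrArg Subtype.val hc
    simpa [a, pow_succ] using this
  exact hv₀1 (Subtype.ext (Subtype.ext (eq_one_of_pows (pow_four_of_isPGroup hs hN v₀.2) hv3)))

theorem case_two [Finite G] (hs : Spec G) (hle : ∀ g : G, orderOf g ≤ 4) (hsol : Group.IsSolvable G)
    (hN1 : Cfsg.pCore 2 G ≠ ⊥) (h3 : ∃ g : G, orderOf g = 3) (h4 : ∃ g : G, orderOf g = 4) :
    ∃ (N : Subgroup G) (_ : N.Normal),
      (IsPGroup 2 N ∧ Monoid.exponent N = 4 ∧ Group.nilpotencyClass N ≤ 2 ∧ N.index = 3) ∨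
      (Cfsg.IsElementaryAbelian 2 N ∧ Nonempty (G ⧸ N ≃* Equiv.Perm (Fin 3))) := by
  haveI := Fact.mk Nat.prime_three
  haveI := Fact.mk Nat.prime_two
  set N := Cfsg.pCore 2 G
  haveI hNn : N.Normal := CfsgLib.Fitting.pCore_normal 2
  have hNp : IsPGroup 2 N := CfsgLib.Fitting.pCore_isPGroup 2
  have key := @mem_zpowers_of_comm G _ _ hs hle N hNn hNp hN1
  obtain ⟨x, hxo⟩ := h3
  have hx : x ^ 3 = 1 := hxo ▸ pow_orderOf_eq_one x
  have hx1 : x ≠ 1 := fun h => by rw [h, orderOf_one] at hxo; norm_num at hxo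
  set R := Subgroup.zpowers x
  have hRc : Nat.card R = 3 := by rw [Nat.card_zpowers, hxo]
  have hfixN : ∀ n ∈ N, Commute x n → n = 1 := fun n hn h =>
    no_six hle hx hx1 (pow_four_of_isPGroup hs hNp hn) h
  set π := QuotientGroup.mk' N
  have hπx : π x ≠ 1 := fun h =>
    hx1 (eq_one_of_pows (pow_four_of_isPGroup hs hNp ((QuotientGroup.eq_one_iff x).mp h)) hx)
  -- a Sylow three-subgroup has order three
  obtain ⟨S, hS⟩ := (IsPGroup.of_card (n := 1) (hRc.trans (pow_one 3).symm)).exists_le_sylow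
  have hSR : (S : Subgroup G) = R := by
    refine le_antisymm (fun y hy => ?_) hS
    haveI : Nontrivial S := (Subgroup.nontrivial_iff_ne_bot _).mpr fun h =>
      hx1 (Subgroup.mem_bot.mp (h ▸ hS (Subgroup.mem_zpowers x)))
    haveI := S.2.center_nontrivial
    obtain ⟨⟨c, hc⟩, hc1⟩ := exists_ne (1 : Subgroup.center S)
    have hc3 : (c : G) ^ 3 = 1 := pow_three_of_isPGroup hs S.2 c.2
    have hc1' : (c : G) ≠ 1 := fun h => hc1 (Subtype.ext (Subtype.ext h))
    have hxc : x ∈ Subgroup.zpowers (c : G) := key hc3 hc1' hx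
      (congrArg Subtype.val (Subgroup.mem_center_iff.mp hc ⟨x, hS (Subgroup.mem_zpowers x)⟩)).symm
    have hyc : y ∈ Subgroup.zpowers (c : G) := key hc3 hc1' (pow_three_of_isPGroup hs S.2 hy)
      (congrArg Subtype.val (Subgroup.mem_center_iff.mp hc ⟨y, hy⟩)).symm
    have : R = Subgroup.zpowers (c : G) := by
      refine Subgroup.eq_of_le_of_card_ge (Subgroup.zpowers_le.mpr hxc) ?_
      rw [hRc, Nat.card_zpowers, orderOf_eq_prime hc3 hc1']
    rw [this]; exact hyc
  -- a normal subgroup of the quotient of order three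
  haveI : Nontrivial (G ⧸ N) := ⟨⟨π x, 1, hπx⟩⟩
  haveI := hsol
  obtain ⟨p, hp, M', hM'n, hM'1, hM'p, -⟩ := CfsgLib.Hall.exists_normal_pgroup_ne_bot (G := G ⧸ N)
  haveI := hM'n
  set M := M'.comap π with hM
  haveI hMn : M.Normal := hM'n.comap π
  have hsurj : Function.Surjective π := QuotientGroup.mk'_surjective N
  have hcardM : Nat.card M = Nat.card N * Nat.card M' := by
    rw [hM, CfsgLib.PSolvable.card_comap_of_surjective hsurj, QuotientGroup.ker_mk']
  obtain ⟨e, he⟩ := IsPGroup.iff_card.mp hNp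
  have hp3 : p = 3 := by
    haveI := Fact.mk hp
    obtain ⟨k, hk⟩ := IsPGroup.iff_card.mp hM'p
    have hk0 : k ≠ 0 := fun h => hM'1 (Subgroup.card_eq_one.mp (by rw [hk, h, pow_zero]))
    obtain ⟨m, hm⟩ : ∃ m ∈ M', m ≠ 1 := by
      by_contra hne
      push Not at hne
      exact hM'1 ((Subgroup.eq_bot_iff_forall _).mpr hne)
    obtain ⟨g, rfl⟩ := hsurj m
    by_contra hne
    by_cases hp2 : p = 2
    · have hMp : IsPGroup 2 M := IsPGroup.of_card (n := e + k) (by rw [hcardM, he, hk, hp2, pow_add])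
      exact hm.2 ((QuotientGroup.eq_one_iff g).mpr (le_pCore hMn hMp hm.1))
    · obtain ⟨q, hq⟩ := exists_prime_orderOf_dvd_card' p (hk ▸ dvd_pow_self p hk0)
      obtain ⟨g', hg'⟩ := hsurj (q : G ⧸ N)
      have hd : orderOf (q : G ⧸ N) ∣ orderOf g' := hg' ▸ orderOf_map_dvd π g'
      rw [Subgroup.orderOf_coe, hq] at hd
      rcases hs g' with h | h
      · exact hp2 ((Nat.prime_dvd_prime_iff_eq hp Nat.prime_two).mp
          (hp.dvd_of_dvd_pow (n := 2) (hd.trans (orderOf_dvd_of_pow_eq_one h))))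
      · exact hne ((Nat.prime_dvd_prime_iff_eq hp Nat.prime_three).mp
          (hd.trans (orderOf_dvd_of_pow_eq_one h)))
  subst hp3
  obtain ⟨k, hk⟩ := IsPGroup.iff_card.mp hM'p
  have hk0 : k ≠ 0 := fun h => hM'1 (Subgroup.card_eq_one.mp (by rw [hk, h, pow_zero]))
  have hk1 : k = 1 := by
    have h1 : 3 ^ k ∣ Nat.card G := by
      rw [← hk]
      exact (Subgroup.card_subgroup_dvd_card M').trans (Subgroup.card_quotient_dvd_card N)
    have h2 : Nat.card S = 3 ^ (Nat.card G).factorization 3 := S.card_eq_multiplicity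
    rw [show Nat.card S = 3 ^ 1 by rw [hSR, hRc, pow_one]] at h2
    have h3 := (Nat.Prime.pow_dvd_iff_le_factorization Nat.prime_three Nat.card_pos.ne').mp h1
    rw [← Nat.pow_right_injective (show 2 ≤ 3 by norm_num) h2] at h3
    omega
  have hRM : R ≤ M := by
    obtain ⟨y, hy⟩ := exists_prime_orderOf_dvd_card' 3 (G := M)
      (hcardM ▸ dvd_mul_of_dvd_right (hk ▸ dvd_pow_self 3 hk0) _)
    obtain ⟨T, hT⟩ := (IsPGroup.of_card (n := 1) (G := Subgroup.zpowers (y : G))
      (by rw [Nat.card_zpowers, Subgroup.orderOf_coe, hy, pow_one])).exists_le_sylow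
    have hTle : (T : Subgroup G) ≤ M := by
      have : Subgroup.zpowers (y : G) = T := Subgroup.eq_of_le_of_card_ge hT (by
        rw [Nat.card_zpowers, Subgroup.orderOf_coe, hy, Sylow.card_eq_multiplicity,
          ← Sylow.card_eq_multiplicity S, hSR, hRc])
      exact this ▸ Subgroup.zpowers_le.mpr y.2
    obtain ⟨g, hg⟩ := MulAction.exists_smul_eq G T S
    rw [← hSR, ← hg]
    intro r hr
    rw [Sylow.coe_subgroup_smul, Subgroup.mem_pointwise_smul_iff_inv_smul_mem] at hr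
    have := hMn.conj_mem _ (hTle hr) g
    simpa [mul_assoc] using this
  set K := Subgroup.normalizer (R : Set G)
  have hgen : ∀ g : G, ∃ n ∈ N, ∃ h ∈ K, g = n * h := by
    intro g
    let P : Sylow 3 M := S.subtype (hSR ▸ hRM)
    have hF := Sylow.normalizer_sup_eq_top P
    rw [show ((P : Subgroup M).map M.subtype) = R by
      rw [Sylow.coe_subtype, Subgroup.map_subgroupOf_eq_of_le (hSR ▸ hRM), hSR]] at hF
    have hg : g ∈ M ⊔ K := by rw [sup_comm]; exact hF.symm ▸ Subgroup.mem_top g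
    obtain ⟨m, hm, h, hh, rfl⟩ := Subgroup.mem_sup_of_normal_left.mp hg
    have hgenM : π m ∈ Subgroup.zpowers (π x) := by
      have : Subgroup.zpowers (π x) = M' := Subgroup.eq_of_le_of_card_ge
        (Subgroup.zpowers_le.mpr (hRM (Subgroup.mem_zpowers x))) (by
          rw [hk, hk1, Nat.card_zpowers, orderOf_eq_prime (by rw [← map_pow, hx, map_one]) hπx, pow_one])
      rw [this]; exact hm
    obtain ⟨i, hi⟩ := hgenM
    refine ⟨m * (x ^ i)⁻¹, (QuotientGroup.eq_one_iff _).mp ?_, x ^ i * h,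
      mul_mem (Subgroup.le_normalizer (zpow_mem (Subgroup.mem_zpowers x) i)) hh, by group⟩
    show π _ = 1
    rw [map_mul, map_inv, map_zpow, ← hi, mul_inv_cancel]
  have hcent : ∀ g : G, Commute x g → g ∈ R := fun g hg => by
    rcases hs g with h | h
    · rw [no_six hle hx hx1 h hg]; exact one_mem _
    · exact key hx hx1 h hg
  have hKN : ∀ h ∈ K, h ∈ N → h = 1 := fun h hh hhN => by
    have h1 : h * x * h⁻¹ * x⁻¹ ∈ R :=
      mul_mem ((Subgroup.mem_normalizer_iff.mp hh x).mp (Subgroup.mem_zpowers x)) (inv_mem (Subgroup.mem_zpowers x))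
    have h2 : h * x * h⁻¹ * x⁻¹ ∈ N := by
      rw [mul_assoc, mul_assoc, ← mul_assoc x]
      exact mul_mem hhN (hNn.conj_mem _ (inv_mem hhN) x)
    have h3 := eq_one_of_pows (pow_four_of_isPGroup hs hNp h2)
      (pow_three_of_isPGroup hs (IsPGroup.of_card (n := 1) (hRc.trans (pow_one 3).symm)) h1)
    exact hfixN h hhN (show x * h = h * x from
      (mul_inv_eq_iff_eq_mul.mp (mul_inv_eq_one.mp h3)).symm)
  let φ : K →* G ⧸ N := π.comp K.subtype
  have hφ : Function.Bijective φ := by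
    constructor
    · rw [injective_iff_map_eq_one]
      exact fun a ha => Subtype.ext (hKN a a.2 ((QuotientGroup.eq_one_iff _).mp ha))
    · intro q
      obtain ⟨g, rfl⟩ := hsurj q
      obtain ⟨n, hn, h, hh, rfl⟩ := hgen g
      exact ⟨⟨h, hh⟩, by
        show π h = π (n * h)
        rw [map_mul, show π n = 1 from (QuotientGroup.eq_one_iff n).mpr hn, one_mul]⟩
  obtain ⟨eK⟩ : Nonempty (K ≃* G ⧸ N) := ⟨MulEquiv.ofBijective φ hφ⟩
  let σ : N ≃* N := MulAut.conjNormal x
  have hσ3 : ∀ g, σ (σ (σ g)) = g := fun g => by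
    show (MulAut.conjNormal (H := N) x * MulAut.conjNormal x * MulAut.conjNormal x : MulAut N) g = g
    rw [← map_mul, ← map_mul, ← pow_two, ← pow_succ, hx, map_one, MulAut.one_apply]
  have hσfpf : ∀ g, σ g = g → g = 1 := fun g hg =>
    Subtype.ext (hfixN g g.2 (mul_inv_eq_iff_eq_mul.mp
      ((MulAut.conjNormal_apply x g).symm.trans (congrArg Subtype.val hg))))
  by_cases hKR : K ≤ R
  · have hidx : N.index = 3 := by
      rw [Subgroup.index, ← Nat.card_congr eK.toEquiv, le_antisymm hKR Subgroup.le_normalizer, hRc]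
    refine ⟨N, hNn, Or.inl ⟨hNp, ?_, ?_, hidx⟩⟩
    · obtain ⟨g, hg⟩ := h4
      have hgN : g ∈ N := (QuotientGroup.eq_one_iff g).mp (by
        have h4' : (π g) ^ 4 = 1 := by rw [← map_pow, ← hg, pow_orderOf_eq_one, map_one]
        have h3' : (π g) ^ 3 = 1 := by
          rw [← hidx, Subgroup.index]; exact pow_card_eq_one'
        exact eq_one_of_pows h4' h3')
      refine Nat.dvd_antisymm (Monoid.exponent_dvd_of_forall_pow_eq_one fun n =>
        Subtype.ext (pow_four_of_isPGroup hs hNp n.2)) ?_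
      rw [← hg, ← Subgroup.orderOf_mk g hgN]
      exact Monoid.order_dvd_exponent _
    · haveI := hNp.isNilpotent
      refine Subgroup.lowerCentralSeries_eq_bot_iff_nilpotencyClass_le.mp ?_
      rw [Subgroup.lowerCentralSeries_succ, eq_bot_iff, Subgroup.commutator_le]
      intro c hc z _
      rw [Subgroup.mem_bot, commutatorElement_eq_one_iff_mul_comm]
      rw [Subgroup.top_lowerCentralSeries_one] at hc
      have hle' : commutator N ≤ Subgroup.centralizer {z} := by
        rw [commutator_eq_closure, Subgroup.closure_le]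
        rintro _ ⟨a, b, rfl⟩
        exact Subgroup.mem_centralizer_singleton_iff.mpr
          (CfsgLib.OneToFour.commutator_central hNp σ hσ3 hσfpf a b z)
      exact Subgroup.mem_centralizer_singleton_iff.mp (hle' hc)
  · obtain ⟨t, htK, htR⟩ := SetLike.not_le_iff_exists.mp hKR
    have hpow : ∀ r ∈ R, r = 1 ∨ r = x ∨ r = x⁻¹ := by
      intro r hr
      obtain ⟨i, rfl⟩ := hr
      show x ^ i = 1 ∨ x ^ i = x ∨ x ^ i = x⁻¹
      rw [← zpow_mod_orderOf x i, hxo]
      have h1 := Int.emod_nonneg i (show ((3 : ℕ) : ℤ) ≠ 0 by norm_num)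
      have h2 := Int.emod_lt_of_pos i (show (0 : ℤ) < ((3 : ℕ) : ℤ) by norm_num)
      obtain ⟨j, hj⟩ : ∃ j, i % ((3 : ℕ) : ℤ) = j := ⟨_, rfl⟩
      rw [hj] at h1 h2 ⊢
      push_cast at h2
      interval_cases j
      · exact Or.inl (zpow_zero x)
      · exact Or.inr (Or.inl (zpow_one x))
      · exact Or.inr (Or.inr (eq_inv_of_mul_eq_one_right (by rw [← hx]; group)))
    have hconjinv : ∀ g ∈ K, g ∉ R → g * x * g⁻¹ = x⁻¹ := by
      intro g hg hgR
      rcases hpow _ ((Subgroup.mem_normalizer_iff.mp hg x).mp (Subgroup.mem_zpowers x)) with h | h | h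
      · exact absurd (conj_eq_one_iff.mp h) hx1
      · exact absurd (hcent g (mul_inv_eq_iff_eq_mul.mp h).symm) hgR
      · exact h
    have hcomm : ∀ g ∈ K, g ∉ R → g * t ∈ R := fun g hg hgR => hcent _ (by
      have : g * t * x * (g * t)⁻¹ = x := by
        rw [show g * t * x * (g * t)⁻¹ = g * (t * x * t⁻¹) * g⁻¹ by group, hconjinv t htK htR,
          show g * x⁻¹ * g⁻¹ = (g * x * g⁻¹)⁻¹ by group, hconjinv g hg hgR, inv_inv]
      exact (mul_inv_eq_iff_eq_mul.mp this).symm)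
    have ht2R : t * t ∈ R := hcomm t htK htR
    have ht4 : t ^ 4 = 1 := (hs t).resolve_right fun h => htR (by
      have : t = (t * t) * (t * t) := by
        rw [show t * t * (t * t) = t * t ^ 3 by simp [pow_succ, mul_assoc], h, mul_one]
      rw [this]; exact mul_mem ht2R ht2R)
    have ht2 : t * t = 1 := eq_one_of_pows (by rw [← pow_two, ← pow_mul, show 2 * 4 = 4 * 2 from rfl, pow_mul, ht4, one_pow])
      (pow_three_of_isPGroup hs (IsPGroup.of_card (n := 1) (hRc.trans (pow_one 3).symm)) ht2R)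
    have ht1 : t ≠ 1 := fun h => htR (h ▸ one_mem _)
    have htinv : t⁻¹ = t := inv_eq_of_mul_eq_one_right ht2
    have htx : t * x = x⁻¹ * t := by
      rw [← hconjinv t htK htR, inv_mul_cancel_right]
    refine ⟨N, hNn, Or.inr ⟨?_, ?_⟩⟩
    · let τ : N ≃* N := MulAut.conjNormal t
      have hts : ∀ g, τ (σ g) = σ (σ (τ g)) := fun g => by
        show (MulAut.conjNormal (H := N) t * MulAut.conjNormal x : MulAut N) g =
          (MulAut.conjNormal (H := N) x * MulAut.conjNormal x * MulAut.conjNormal t : MulAut N) g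
        rw [← map_mul, ← map_mul, ← map_mul, htx]
        congr 2
        rw [show x⁻¹ = x * x from inv_eq_of_mul_eq_one_right (by rw [← hx]; simp [pow_succ, mul_assoc])]
      have hτ2 : ∀ g, τ (τ g) = g := fun g => by
        show (MulAut.conjNormal (H := N) t * MulAut.conjNormal t : MulAut N) g = g
        rw [← map_mul, ht2, map_one, MulAut.one_apply]
      have hπt : π t ≠ 1 := fun h => ht1 (hKN t htK ((QuotientGroup.eq_one_iff t).mp h))
      have hq : ∀ v, (v * τ v) ^ 2 = 1 := fun v => by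
        refine Subtype.ext ?_
        show ((v : G) * ((τ v : N) : G)) ^ 2 = 1
        rw [show ((τ v : N) : G) = t * v * t⁻¹ from MulAut.conjNormal_apply t v, htinv,
          show (v : G) * (t * v * t) = (v * t) ^ 2 by simp [pow_two, mul_assoc], ← pow_mul]
        refine (hs ((v : G) * t)).resolve_right fun h => hπt ?_
        have e : π ((v : G) * t) = π t := by
          rw [map_mul, show π (v : G) = 1 from (QuotientGroup.eq_one_iff _).mpr v.2, one_mul]
        refine eq_one_of_pows (by rw [← map_pow, ht4, map_one]) ?_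
        rw [← e, ← map_pow, h, map_one]
      obtain ⟨hc, hsq⟩ := CfsgLib.OneToFour.elementary_of_sym_three hNp σ hσ3 hσfpf τ hts hτ2 hq
      exact ⟨⟨⟨hc⟩⟩, fun n hn => congrArg Subtype.val (hsq ⟨n, hn⟩)⟩
    · let a : K := ⟨t, htK⟩
      let b : K := ⟨x * t, mul_mem (Subgroup.le_normalizer (Subgroup.mem_zpowers x)) htK⟩
      have hb : b * b = 1 := Subtype.ext (by
        show x * t * (x * t) = 1
        rw [mul_assoc x t, ← mul_assoc t x t, htx, mul_assoc, ← mul_assoc x, mul_inv_cancel, one_mul, ht2])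
      have hab : a * b * a = b * a * b := Subtype.ext (by
        show t * (x * t) * t = x * t * t * (x * t)
        rw [mul_assoc x t t, ht2, mul_one, mul_assoc t (x * t) t, mul_assoc x t t, ht2, mul_one, htx,
          show x⁻¹ = x * x from inv_eq_of_mul_eq_one_right (by rw [← hx]; simp [pow_succ, mul_assoc]), mul_assoc])
      obtain ⟨ψ, hψa, hψb⟩ := CfsgLib.ThreeTransp.exists_hom_perm_three (a := a) (b := b)
        (Subtype.ext ht2) hb hab
      have hs' : Function.Surjective ψ := by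
        intro k
        have hax : (⟨x, Subgroup.le_normalizer (Subgroup.mem_zpowers x)⟩ : K) ∈ ψ.range := by
          refine ⟨Equiv.swap 1 2 * Equiv.swap 0 1, ?_⟩
          rw [map_mul, hψa, hψb]
          exact Subtype.ext (by show x * t * t = x; rw [mul_assoc, ht2, mul_one])
        have hat : a ∈ ψ.range := ⟨_, hψa⟩
        have hRr : ∀ r : K, (r : G) ∈ R → r ∈ ψ.range := by
          intro r hr
          obtain ⟨i, hi⟩ := hr
          have : r = (⟨x, Subgroup.le_normalizer (Subgroup.mem_zpowers x)⟩ : K) ^ i :=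
            Subtype.ext (by rw [Subgroup.coe_zpow]; exact hi.symm)
          rw [this]; exact zpow_mem hax i
        by_cases hk : (k : G) ∈ R
        · exact hRr k hk
        · have h1 := mul_mem (hRr (k * a) (hcomm k k.2 hk)) (inv_mem hat)
          rw [mul_inv_cancel_right] at h1
          exact h1
      refine ⟨(MulEquiv.ofBijective ψ ⟨?_, hs'⟩).trans eK |>.symm⟩
      haveI : Finite K := inferInstance
      refine Finite.injective_iff_surjective_of_equiv ?_ |>.mpr hs'
      refine (Fintype.equivOfCardEq ?_ : Equiv.Perm (Fin 3) ≃ Fin 6).trans ((Nat.equivFinOfCardPos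
        (α := K) Nat.card_pos.ne').trans (finCongr ?_)).symm
      · rw [Fintype.card_perm, Fintype.card_fin, Fintype.card_fin]; rfl
      · have h6 : Nat.card K ≤ 6 := by
          refine (Nat.card_le_card_of_surjective ψ hs').trans ?_
          rw [Nat.card_eq_fintype_card, Fintype.card_perm, Fintype.card_fin]; rfl
        have h2 : 2 * Nat.card R ≤ Nat.card K := by
          obtain ⟨c, hc⟩ := Subgroup.card_dvd_of_le (show R ≤ K from Subgroup.le_normalizer)
          have : c ≠ 1 := fun h => hKR (Subgroup.eq_of_le_of_card_ge Subgroup.le_normalizer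
            (by rw [hc, h, mul_one])).ge
          have : c ≠ 0 := fun h => by rw [h, mul_zero] at hc; exact Nat.card_pos.ne' hc
          rw [hc, mul_comm 2]
          exact Nat.mul_le_mul_left _ (by omega)
        omega

end CaseTwo

/-- A finite group whose set of element orders is exactly {1, 2, 3, 4} has a normal subgroup N such that either N is a 2-group of exponent 4 and nilpotency class at most 2 with G/N of order 3, or N is an elementary abelian 2-group with G/N isomorphic to the symmetric group of degree 3, or N is an elementary abelian 3-group with G/N cyclic of order 4 or quaternion of order 8. -/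
theorem result {G : Type*} [Group G] [Finite G] (h : Set.range (orderOf : G → ℕ) = {k : ℕ | 1 ≤ k ∧ k ≤ 4}) :
    ∃ (N : Subgroup G) (_ : N.Normal),
      (IsPGroup 2 ↥N ∧ Monoid.exponent ↥N = 4 ∧ Group.nilpotencyClass ↥N ≤ 2 ∧ N.index = 3) ∨
      (Cfsg.IsElementaryAbelian 2 N ∧ Nonempty (G ⧸ N ≃* Equiv.Perm (Fin 3))) ∨
      (Cfsg.IsElementaryAbelian 3 N ∧ ((IsCyclic (G ⧸ N) ∧ N.index = 4) ∨ Nonempty (G ⧸ N ≃* QuaternionGroup 2))) := by
  classical
  obtain ⟨hs, hle⟩ := spec_of_range h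
  have hex : ∀ k, 1 ≤ k → k ≤ 4 → ∃ g : G, orderOf g = k := fun k h1 h2 => h.symm.le ⟨h1, h2⟩
  haveI : Nontrivial G := by
    obtain ⟨g, hg⟩ := hex 2 (by norm_num) (by norm_num)
    exact ⟨⟨g, 1, fun e => by rw [e, orderOf_one] at hg; norm_num at hg⟩⟩
  have hprimes : ∀ s : ℕ, s.Prime → s ∣ Nat.card G → s = 2 ∨ s = 3 := by
    intro s hsp hd
    haveI := Fact.mk hsp
    obtain ⟨g, hg⟩ := exists_prime_orderOf_dvd_card' s hd
    have := hle g
    have := hsp.two_le
    have h4 : s ≠ 4 := by rintro rfl; norm_num at hsp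
    omega
  haveI hsol := CfsgLib.FourOrbit.isSolvable_of_two_primes Nat.prime_two Nat.prime_three (by norm_num) hprimes
  by_cases h3 : Cfsg.pCore 3 G = ⊥
  · obtain ⟨p, hp, N₀, hN₀n, hN₀1, hN₀p, -⟩ := CfsgLib.Hall.exists_normal_pgroup_ne_bot (G := G)
    have h2 : Cfsg.pCore 2 G ≠ ⊥ := by
      haveI := Fact.mk hp
      obtain ⟨k, hk⟩ := IsPGroup.iff_card.mp hN₀p
      have hk0 : k ≠ 0 := fun h => hN₀1 (Subgroup.card_eq_one.mp (by rw [hk, h, pow_zero]))
      rcases hprimes p hp ((hk ▸ dvd_pow_self p hk0).trans (Subgroup.card_subgroup_dvd_card N₀)) with rfl | rfl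
      · exact fun h => hN₀1 (eq_bot_iff.mpr (h ▸ le_pCore hN₀n hN₀p))
      · exact absurd (eq_bot_iff.mpr (h3 ▸ le_pCore hN₀n hN₀p)) hN₀1
    obtain ⟨N, hN, h⟩ := case_two hs hle hsol h2 (hex 3 (by norm_num) (by norm_num)) (hex 4 (by norm_num) le_rfl)
    exact ⟨N, hN, h.imp id Or.inl⟩
  · obtain ⟨N, hN, h⟩ := case_three hs hle h3 (hex 2 (by norm_num) (by norm_num)) (hex 4 (by norm_num) le_rfl)
    exact ⟨N, hN, Or.inr (Or.inr h)⟩

end Cfsg.Agent.S4006
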