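import Cfsg.Statements.S4010
import Cfsg.Agent.Lib.LinearPGroup.DerivedLength

set_option autoImplicit false
open Cfsg

namespace Cfsg.Agent.S4010

/-- Let F be a field, n ≥ 1, and P a finite p-group (p a prime) admitting an injective homomorphism into the general linear group of degree n over F. Then the derived length of P is at most ⌊log₂ n⌋ + 1: that term of the derived series of P is trivial. -/
theorem result {P : Type*} [Group P] [Finite P] (p : ℕ) [Fact p.Prime] (hP : IsPGroup p P) (F : Type*) [Field F] (n : ℕ) (hn : 1 ≤ n) (ρ : P →* Matrix.GeneralLinearGroup (Fin n) F) (hρ : Function.Injective ρ) : derivedSeries P (Nat.log 2 n + 1) = ⊥ := by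
  let K := AlgebraicClosure F
  let φ : Matrix (Fin n) (Fin n) F →+* Matrix (Fin n) (Fin n) K := (algebraMap F K).mapMatrix
  let σ : P →* Module.End K (Fin n → K) :=
    ((Matrix.toLinAlgEquiv' : Matrix (Fin n) (Fin n) K ≃ₐ[K] _).toRingEquiv.toMonoidHom).comp
      (φ.toMonoidHom.comp ((Units.coeHom _).comp ρ))
  have hσ : Function.Injective σ := by
    intro x y h
    refine hρ (Units.ext (Matrix.ext fun i j => (algebraMap F K).injective ?_))
    have h' := (Matrix.toLinAlgEquiv' : Matrix (Fin n) (Fin n) K ≃ₐ[K] _).injective h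
    exact congrArg (fun M : Matrix (Fin n) (Fin n) K => M i j) h'
  have hdim : Module.finrank K (Fin n → K) = n := Module.finrank_fin_fun K
  rw [← hdim]
  by_cases h0 : (p : K) = 0
  · haveI : CharP K p := by
      haveI := Fact.out (p := p.Prime)
      exact (CharP.charP_iff_prime_eq_zero Fact.out).2 h0
    exact Cfsg.Agent.LinearPGroup.derivedSeries_eq_bot_of_charP hP σ hσ
  · exact Cfsg.Agent.LinearPGroup.derivedSeries_eq_bot_of_ne h0 hP σ hσ
end Cfsg.Agent.S4010
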