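import Cfsg.Statements.S4013
import Mathlib
import Cfsg.Agent.Lib.Critical.Basic

set_option autoImplicit false
set_option linter.style.haveILetI false
open Cfsg

namespace Cfsg.Agent.S4013

/-- Let G be a finite p-group (p prime) and N < M normal subgroups of G such that for some g ∈ M ∖ N the conjugacy class of g is exactly M ∖ N. Then p = 2 and N has index 2 in M. -/
theorem result {G : Type*} [Group G] [Finite G] (p : ℕ) [Fact p.Prime] (hG : IsPGroup p G) (N M : Subgroup G) [N.Normal] [M.Normal] (hNM : N < M) (g : G) (hgM : g ∈ M) (hgN : g ∉ N) (hcl : {h : G | IsConj g h} = (M : Set G) \ (N : Set G)) : p = 2 ∧ N.relIndex M = 2 := by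
  classical
  haveI : Group.IsNilpotent (G ⧸ N) := (hG.to_quotient N).isNilpotent
  haveI hMn : (M.map (QuotientGroup.mk' N)).Normal := Subgroup.Normal.map inferInstance _ (QuotientGroup.mk'_surjective N)
  have hMne : M.map (QuotientGroup.mk' N) ≠ ⊥ := fun h => hgN (by
    have : (g : G ⧸ N) ∈ M.map (QuotientGroup.mk' N) := ⟨g, hgM, rfl⟩
    rw [h, Subgroup.mem_bot, QuotientGroup.eq_one_iff] at this
    exact this)
  obtain ⟨z, hzmem, hz1⟩ := (Subgroup.bot_or_exists_ne_one _).resolve_left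
    (CfsgLib.Critical.inf_center_ne_bot (M.map (QuotientGroup.mk' N)) hMne)
  obtain ⟨⟨m, hm, rfl⟩, hzc⟩ := hzmem
  have hmN : m ∉ N := fun h => hz1 ((QuotientGroup.eq_one_iff m).mpr h)
  have hgm : IsConj g m := show m ∈ {h : G | IsConj g h} from hcl ▸ (⟨hm, hmN⟩ : m ∈ (M : Set G) \ (N : Set G))
  have hcoset : ∀ w ∈ M, w ∉ N → m⁻¹ * w ∈ N := by
    intro w hw hwN
    have h1 : IsConj g w := show w ∈ {h : G | IsConj g h} from hcl ▸ (⟨hw, hwN⟩ : w ∈ (M : Set G) \ (N : Set G))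
    obtain ⟨c, rfl⟩ := isConj_iff.mp (hgm.symm.trans h1)
    rw [← QuotientGroup.eq]
    show (m : G ⧸ N) = (c : G ⧸ N) * (m : G ⧸ N) * (c : G ⧸ N)⁻¹
    rw [Subgroup.mem_center_iff.mp (show (m : G ⧸ N) ∈ Subgroup.center _ from hzc) (c : G ⧸ N)]
    group
  have h2 : N.relIndex M = 2 := by
    show (N.subgroupOf M).index = 2
    rw [Subgroup.index_eq_two_iff]
    refine ⟨⟨m⁻¹, M.inv_mem hm⟩, fun b => ?_⟩
    simp only [Subgroup.mem_subgroupOf, Subgroup.coe_mul]
    rcases em ((b : G) ∈ N) with hb | hb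
    · exact Or.inr ⟨hb, fun h => hmN (by
        have := N.mul_mem (N.inv_mem hb) h
        rw [inv_mul_cancel_left] at this
        simpa using N.inv_mem this)⟩
    · refine Or.inl ⟨?_, hb⟩
      exact (inferInstance : N.Normal).mem_comm (hcoset b b.2 hb)
  refine ⟨?_, h2⟩
  obtain ⟨k, hk⟩ := (hG.to_subgroup M).exists_card_eq
  have h3 : 2 ∣ p ^ k := hk ▸ h2 ▸ Subgroup.index_dvd_card (N.subgroupOf M)
  exact ((Nat.prime_dvd_prime_iff_eq Nat.prime_two Fact.out).mp (Nat.prime_two.dvd_of_dvd_pow h3)).symm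

end Cfsg.Agent.S4013
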