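import Cfsg.Statements.S4015
import Mathlib
import Cfsg.Agent.Lib.LinearPGroup.CrossChar
import Cfsg.Agent.Lib.LinearPGroup.WreathRep
import Cfsg.Agent.S4014

set_option autoImplicit false
open Cfsg

namespace Cfsg.Agent.S4015

/-- Let p be an odd prime, F a finite field with q elements where p does not divide q, and e the multiplicative order of q modulo p. Let n ≥ e and write w = ⌊n/e⌋ and k = ⌊log_p w⌋. Then a Sylow p-subgroup of GL(n, F) has derived length exactly k + 1: its (k+1)-st derived subgroup is trivial and its k-th is not. -/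
theorem result (p : ℕ) [Fact p.Prime] (hp : p ≠ 2) (F : Type*) [Field F] [Fintype F] (q : ℕ) (hq : Fintype.card F = q) (hpq : ¬ p ∣ q) (n : ℕ) (hn : orderOf (q : ZMod p) ≤ n) (P : Sylow p (Matrix.GeneralLinearGroup (Fin n) F)) : derivedSeries ↥(P : Subgroup (Matrix.GeneralLinearGroup (Fin n) F)) (Nat.log p (n / orderOf (q : ZMod p)) + 1) = ⊥ ∧ derivedSeries ↥(P : Subgroup (Matrix.GeneralLinearGroup (Fin n) F)) (Nat.log p (n / orderOf (q : ZMod p))) ≠ ⊥ := by
  classical
  have he : 0 < orderOf (q : ZMod p) := CfsgLib.Classical.SylowLargePrime.order_pos hpq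
  refine ⟨Cfsg.Agent.LinearPGroup.derivedSeries_eq_bot_cross hq hpq P.isPGroup' hn
    ((Units.coeHom _).comp (P : Subgroup (GL (Fin n) F)).subtype) (fun x y h => Subtype.ext (Units.ext h)), fun hbot => ?_⟩
  set k := Nat.log p (n / orderOf (q : ZMod p)) with hk
  obtain ⟨ρ, hρ⟩ := Cfsg.Agent.LinearPGroup.exists_iterated_rep (F := F) (p := p) hq hpq k
  have hle : orderOf (q : ZMod p) * p ^ k ≤ n :=
    le_trans (Nat.mul_le_mul_left _ (Nat.pow_log_le_self p (Nat.pos_iff_ne_zero.mp
      (Nat.div_pos hn he)))) (Nat.mul_div_le n _)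
  let M := (((CfsgLib.Singer.padHom (F := F) hle).comp ρ)).toHomUnits
  have hM : Function.Injective M := fun x y h =>
    hρ (CfsgLib.Singer.padHom_injective hle (congrArg Units.val h))
  haveI : Finite (IteratedWreathProduct (Cfsg.Agent.S4014.Cp p) (k + 1)) := Finite.of_injective M hM
  have hI : IsPGroup p (IteratedWreathProduct (Cfsg.Agent.S4014.Cp p) (k + 1)) := by
    refine IsPGroup.of_card (n := ∑ i ∈ Finset.range (k + 1), p ^ i) ?_
    rw [IteratedWreathProduct.card]
    simp
  obtain ⟨R, hR⟩ := (hI.of_surjective M.rangeRestrict M.rangeRestrict_surjective).exists_le_sylow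
  let f : IteratedWreathProduct (Cfsg.Agent.S4014.Cp p) (k + 1) →* ↥(P : Subgroup (GL (Fin n) F)) :=
    (R.equiv P).toMonoidHom.comp ((Subgroup.inclusion hR).comp M.rangeRestrict)
  have hf : Function.Injective f :=
    (R.equiv P).injective.comp ((Subgroup.inclusion_injective hR).comp fun u v h =>
      hM (congrArg Subtype.val h))
  exact Cfsg.Agent.S4014.iterated_ne_bot k
    (Cfsg.Agent.S4014.derivedSeries_eq_bot_of_injective f hf hbot)

end Cfsg.Agent.S4015
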