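import Cfsg.Statements.S4016
import Cfsg.Agent.Lib.CyclicSylow.AbelianCaseOne
import Cfsg.Agent.Lib.CyclicSylow.AbelianCaseTwo

set_option autoImplicit false
open Cfsg

namespace Cfsg.Agent.S4016

universe u

theorem aux {p : ℕ} [hp : Fact p.Prime] : ∀ (n : ℕ) (G : Type u) [Group G] [Finite G],
    Nat.card G = n → CfsgLib.CycAb.Cyc p G → CfsgLib.CycAb.Ab p G → CfsgLib.CycAb.Good p G := by
  intro n
  induction n using Nat.strong_induction_on with
  | _ n ih =>
    intro G _ _ hn hc h
    subst hn
    by_contra hbad
    have hproper : ∀ H : Subgroup G, H ≠ ⊤ → CfsgLib.CycAb.Good p H := fun H hH => by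
      refine ih _ ?_ H rfl (hc.subgroup H) (h.subgroup H)
      exact lt_of_le_of_ne H.card_le_card_group fun e => hH (Subgroup.eq_top_of_card_eq H e)
    obtain ⟨P⟩ := (inferInstance : Nonempty (Sylow p G))
    -- no normal `p`-subgroup or `p'`-subgroup other than `1`
    have hred : ∀ R : Subgroup G, R.Normal → (IsPGroup p R ∨ ¬ p ∣ Nat.card R) → R = ⊥ := by
      intro R hR hRp
      haveI := hR
      by_contra hR0
      have hlt : Nat.card (G ⧸ R) < Nat.card G := by
        rw [← Subgroup.index, ← R.card_mul_index]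
        exact lt_mul_of_one_lt_left (Nat.pos_of_ne_zero Subgroup.index_ne_zero_of_finite)
          (Subgroup.one_lt_card_iff_ne_bot R |>.mpr hR0)
      have hQ := ih _ hlt (G ⧸ R) rfl (hc.quotient R) (h.quotient R hRp)
      rcases hRp with hRp | hRp
      · exact hbad (CfsgLib.CycAb.good_of_isPGroup hc R hRp hQ)
      · exact hbad (CfsgLib.CycAb.good_of_coprime hc h R hRp hQ)
    have hnontriv : Nontrivial G := by
      by_contra hcon
      rw [not_nontrivial_iff_subsingleton] at hcon
      exact hbad (Or.inr fun Q => by rw [Subsingleton.elim (Q : Subgroup G) ⊥]; infer_instance)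
    have hsimple : IsSimpleGroup G := by
      refine ⟨fun N hN => ?_⟩
      by_contra hcon
      push Not at hcon
      haveI := hN
      rcases CfsgLib.CycAb.core_ne_bot hcon.1 (hproper N hcon.2) with h1 | h1
      · exact h1 (hred _ (CfsgLib.Fitting.pCore_normal p)
          (Or.inl (CfsgLib.Fitting.pCore_isPGroup p)))
      · exact h1 (hred _ (CfsgLib.Transfer.pPrimeCore_normal p G)
          (Or.inr CfsgLib.Transfer.not_dvd_card_pPrimeCore))
    have hh : CfsgLib.CycAb.Hyp p G := ⟨hc, h, hsimple, hproper, hbad⟩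
    by_cases hF : CfsgLib.CycAb.Free p G
    · exact CfsgLib.CycAb.caseOne hh hF
    · simp only [CfsgLib.CycAb.Free, not_forall] at hF
      obtain ⟨Q, x, hx, hx1, z, hzc, hzx, hz1⟩ := hF
      exact CfsgLib.CycAb.caseTwo hh Q (hh.commute_prime_to_p Q (hh.centralizer_le Q hx hx1
        (Subgroup.mem_centralizer_singleton_iff.mpr hzx)) hzc hx hx1 hzx) hzc hz1

/-- Let G be a finite group and p a prime such that a Sylow p-subgroup P of G is cyclic and every subgroup of G of order prime to p is abelian. Then G has a normal p-complement or P is normal in G. -/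
theorem result {G : Type*} [Group G] [Finite G] {p : ℕ}
    [Fact p.Prime] (P : Sylow p G) (hcyc : IsCyclic P)
    (hab : ∀ H : Subgroup G, ¬ p ∣ Nat.card H → IsMulCommutative H) :
    Cfsg.HasNormalPComplement p G ∨ (P : Subgroup G).Normal := by
  have hc : CfsgLib.CycAb.Cyc p G := fun Q => by
    haveI := hcyc
    exact isCyclic_of_surjective (P.equiv Q).toMonoidHom (P.equiv Q).surjective
  exact (aux _ G rfl hc hab).imp id fun h => h P

end Cfsg.Agent.S4016
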