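import Cfsg.Statements.S4017
import Cfsg.Agent.Lib.MixedPrimes.Main

set_option autoImplicit false
open Cfsg

namespace Cfsg.Agent.S4017

universe u

open CfsgLib.MixedPrimes in
theorem aux {p : ℕ} : ∀ (n : ℕ) (G : Type u) [Group G] [Finite G] (q : ℕ),
    Nat.card G = n → Mix p q G → ∀ r : ℕ, r.Prime → r ∣ Nat.card G → r = p ∨ r = q := by
  intro n
  induction n using Nat.strong_induction_on with
  | _ n ih =>
    intro G _ _ q hn h
    subst hn
    intro r hr hrG
    by_contra hcon
    push Not at hcon
    by_cases hno : ∀ (X : Subgroup G) (y : G), IsPGroup q X → y ∈ Subgroup.normalizer (X : Set G) →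
        (∃ k : ℕ, orderOf y = p ^ k) → ∀ x ∈ X, y * x * y⁻¹ = x
    · exact (h.primes_of_no_action hno r hr hrG).elim hcon.1 hcon.2
    push Not at hno
    obtain ⟨X, y, hX, hyN, hyk, hne⟩ := hno
    obtain ⟨rfl, hp2, hXc, hab, hsq, hfix, htr⟩ := h.action hX hyN hyk hne
    haveI := Fact.mk h.pp
    haveI := Fact.mk Nat.prime_two
    set S₀ : Sylow 2 G := Sylow.ofCard X hXc with hS₀
    have hS₀X : (S₀ : Subgroup G) = X := rfl
    have hconjX : ∀ t : G, orderOf t = 2 → ∃ g : G, g * t * g⁻¹ ∈ X ∧ g * t * g⁻¹ ≠ 1 := by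
      intro t ht
      obtain ⟨g, hg⟩ := CfsgLib.Transfer.exists_map_conj_le_sylow
        (CfsgLib.Transfer.isPGroup_zpowers (p := 2) (x := t) ⟨1, by rw [ht, pow_one]⟩) S₀
      refine ⟨g, hg ⟨t, Subgroup.mem_zpowers t, rfl⟩, fun e => ?_⟩
      rw [conj_eq_one_iff] at e
      rw [e, orderOf_one] at ht
      omega
    -- quotients by normal `p`-subgroups are smaller counterexamples
    have hcore : Cfsg.pCore p G = ⊥ := by
      by_contra hN0
      haveI := CfsgLib.Fitting.pCore_normal (G := G) p
      set N := Cfsg.pCore p G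
      set f := QuotientGroup.mk' N
      have hf : Function.Surjective f := QuotientGroup.mk'_surjective N
      obtain ⟨k, hk⟩ := IsPGroup.iff_card.mp (CfsgLib.Fitting.pCore_isPGroup (G := G) p)
      have hndvd : ∀ s : ℕ, s.Prime → s ≠ p → s ∣ Nat.card G → s ∣ Nat.card (G ⧸ N) := by
        intro s hs hsp hsG
        rw [← N.card_mul_index] at hsG
        exact (hs.dvd_mul.mp hsG).resolve_left fun hd =>
          hsp ((Nat.prime_dvd_prime_iff_eq hs h.pp).mp (hs.dvd_of_dvd_pow (hk ▸ hd)))
      have hlift : ∀ H : Subgroup (G ⧸ N), ¬ p ∣ Nat.card H → 2 ∣ Nat.card H → IsPGroup 2 H := by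
        intro H hH h2
        set K := H.comap f
        have hNK : N ≤ K := fun x hx => by
          show f x ∈ H
          rw [show f x = 1 from (QuotientGroup.eq_one_iff x).mpr hx]
          exact one_mem H
        have hNc : Nat.card (N.subgroupOf K) = Nat.card N :=
          Nat.card_congr (Subgroup.subgroupOfEquivOfLe hNK).toEquiv
        have hKc : Nat.card K = Nat.card N * Nat.card H := by
          rw [CfsgLib.PSolvable.card_comap_of_surjective hf, QuotientGroup.ker_mk']
        have hidx : (N.subgroupOf K).index = Nat.card H := by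
          have h1 := (N.subgroupOf K).card_mul_index
          rw [hNc, hKc] at h1
          exact Nat.eq_of_mul_eq_mul_left Nat.card_pos h1
        obtain ⟨L, hL⟩ := Subgroup.exists_right_complement'_of_coprime (N := N.subgroupOf K)
          (by rw [hNc, hidx, hk]; exact (h.pp.coprime_iff_not_dvd.mpr hH).pow_left k)
        have hLc : Nat.card (L.map K.subtype) = Nat.card H := by
          rw [Subgroup.card_map_of_injective K.subtype_injective, ← hidx, hL.symm.index_eq_card]
        have hLp : IsPGroup 2 (L.map K.subtype) :=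
          h.q_pow_mul (hLc ▸ h2) (hLc ▸ hH)
        obtain ⟨i, hi⟩ := IsPGroup.iff_card.mp hLp
        exact IsPGroup.of_card (hLc.symm.trans hi)
      have hpQ : p ∣ Nat.card (G ⧸ N) := by
        by_contra hd
        obtain ⟨i, hi⟩ := IsPGroup.iff_card.mp (hlift ⊤ (by rwa [Subgroup.card_top])
          (by rw [Subgroup.card_top]; exact hndvd 2 Nat.prime_two (Ne.symm h.odd) h.qG))
        rw [Subgroup.card_top] at hi
        have := hndvd r hr hcon.1 hrG
        rw [hi] at this
        exact hcon.2 ((Nat.prime_dvd_prime_iff_eq hr Nat.prime_two).mp (hr.dvd_of_dvd_pow this))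
      have hQ : Mix p 2 (G ⧸ N) := by
        refine ⟨h.pp, Nat.prime_two, h.ne, h.odd, hpQ, hndvd 2 Nat.prime_two (Ne.symm h.odd) h.qG,
          fun H _ hH h2 => ?_, Or.inr ⟨?_, fun P => ?_⟩⟩
        · by_contra hd
          exact hH (hlift H hd h2)
        · have e : (Nat.card G).factorization 2 = (Nat.card (G ⧸ N)).factorization 2 := by
            rw [← N.card_mul_index, Nat.factorization_mul Nat.card_pos.ne' Subgroup.index_ne_zero_of_finite,
              Finsupp.add_apply, hk, Nat.factorization_eq_zero_of_not_dvd (fun hd =>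
                h.ne ((Nat.prime_dvd_prime_iff_eq Nat.prime_two h.pp).mp
                  (Nat.prime_two.dvd_of_dvd_pow hd)).symm), zero_add]
            rfl
          rw [← e]; exact hp2
        · obtain ⟨P', rfl⟩ := Sylow.mapSurjective_surjective hf p P
          refine ⟨⟨?_⟩⟩
          rintro ⟨_, a, ha, rfl⟩ ⟨_, b, hb, rfl⟩
          refine Subtype.ext (show f a * f b = f b * f a from ?_)
          rw [← map_mul, ← map_mul,
            show a * b = b * a from congrArg Subtype.val ((hab P').is_comm.comm ⟨a, ha⟩ ⟨b, hb⟩)]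
      have hlt : Nat.card (G ⧸ N) < Nat.card G := by
        rw [← Subgroup.index, ← N.card_mul_index]
        exact lt_mul_of_one_lt_left (Nat.pos_of_ne_zero Subgroup.index_ne_zero_of_finite)
          (Subgroup.one_lt_card_iff_ne_bot N |>.mpr hN0)
      exact (ih _ hlt (G ⧸ N) 2 rfl hQ r hr (hndvd r hr hcon.1 hrG)).elim hcon.1 hcon.2
    refine Act.elim_act (p := p) (G := G)
      { mix := h
        ab := hab
        card := by have := Nat.one_le_two_pow (n := (Nat.card G).factorization 2); omega
        sq := fun S x hx => ?_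
        fpf := fun S => ?_
        oneClass := fun s t hs ht => ?_
        noCore := hcore
        proper := fun H hH h2 s hs hsH => ?_
        third := ⟨r, hr, hrG, hcon⟩ }
    · obtain ⟨g, rfl⟩ := MulAction.exists_smul_eq G S₀ S
      rw [CfsgLib.Transfer.mem_smul_sylow] at hx
      have e := hsq _ hx
      calc x * x = g * (g⁻¹ * x * g * (g⁻¹ * x * g)) * g⁻¹ := by group
        _ = 1 := by rw [e]; group
    · obtain ⟨g, rfl⟩ := MulAction.exists_smul_eq G S₀ S
      obtain ⟨k, hk⟩ := hyk
      refine ⟨g * y * g⁻¹, ?_, ⟨k, hk ▸ CfsgLib.Transfer.orderOf_conj g y⟩, fun x hx e => ?_⟩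
      · refine Sylow.smul_eq_iff_mem_normalizer.mp ?_
        rw [← mul_smul, inv_mul_cancel_right, mul_smul,
          Sylow.smul_eq_iff_mem_normalizer.mpr (show y ∈ Subgroup.normalizer
            ((S₀ : Subgroup G) : Set G) from hyN)]
      · rw [CfsgLib.Transfer.mem_smul_sylow] at hx
        have h1 := hfix _ hx (by
          calc y * (g⁻¹ * x * g) * y⁻¹ = g⁻¹ * (g * y * g⁻¹ * x * (g * y * g⁻¹)⁻¹) * g := by group
            _ = g⁻¹ * x * g := by rw [e])
        calc x = g * (g⁻¹ * x * g) * g⁻¹ := by group
          _ = 1 := by rw [h1]; group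
    · obtain ⟨a, ha, ha1⟩ := hconjX s hs
      obtain ⟨b, hb, hb1⟩ := hconjX t ht
      exact ((isConj_iff.mpr ⟨a, rfl⟩).trans (htr _ ha ha1 _ hb hb1)).trans
        (isConj_iff.mpr ⟨b, rfl⟩).symm
    · by_cases hH2 : IsPGroup 2 H
      · obtain ⟨i, hi⟩ := IsPGroup.iff_card.mp hH2
        exact Or.inr ((Nat.prime_dvd_prime_iff_eq hs Nat.prime_two).mp
          (hs.dvd_of_dvd_pow (hi ▸ hsH)))
      refine ih _ (lt_of_le_of_ne H.card_le_card_group fun e => hH (Subgroup.eq_top_of_card_eq H e))
        H 2 rfl ⟨h.pp, Nat.prime_two, h.ne, h.odd, h.mix H hH hH2 h2, h2, fun K _ hK hK2 => ?_, ?_⟩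
        s hs hsH
      · have e : Nat.card (K.map H.subtype) = Nat.card K :=
          Subgroup.card_map_of_injective H.subtype_injective
        rw [← e]
        refine h.mix _ (fun e' => hH (top_le_iff.mp (e' ▸ Subgroup.map_subtype_le K))) (fun hp' => ?_)
          (e ▸ hK2)
        obtain ⟨i, hi⟩ := IsPGroup.iff_card.mp hp'
        exact hK (IsPGroup.of_card (e.symm.trans hi))
      · have hle : (Nat.card H).factorization 2 ≤ (Nat.card G).factorization 2 :=
          (Nat.factorization_le_iff_dvd Nat.card_pos.ne' Nat.card_pos.ne').mpr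
            H.card_subgroup_dvd_card 2
        rcases lt_or_eq_of_le hle with hlt | heq
        · left
          have h1 := Nat.pow_lt_pow_right (a := 2) one_lt_two hlt
          have h2 := Nat.one_le_two_pow (n := (Nat.card H).factorization 2)
          omega
        · refine Or.inr ⟨by rw [heq]; exact hp2, fun P => ?_⟩
          obtain ⟨Q, hQ⟩ := (P.2.map H.subtype).exists_le_sylow
          refine ⟨⟨fun a b => Subtype.ext (Subtype.ext ?_)⟩⟩
          show ((a : H) : G) * ((b : H) : G) = ((b : H) : G) * ((a : H) : G)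
          exact congrArg Subtype.val
            ((hab Q).is_comm.comm ⟨_, hQ (Subgroup.mem_map_of_mem H.subtype a.2)⟩
              ⟨_, hQ (Subgroup.mem_map_of_mem H.subtype b.2)⟩)

/-- Let G be a finite group and let p and q be distinct primes dividing the order of G, with p odd. Suppose that p divides the order of every proper subgroup of G that is neither a q-group nor of order prime to q. Let q^a be the q-part of the order of G. If p > q^a − 1, or if p = q^a − 1 and the Sylow p-subgroups of G are abelian, then p and q are the only primes dividing the order of G. -/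
theorem result {G : Type*} [Group G] [Finite G]
    {p q : ℕ} (hp : p.Prime) (hq : q.Prime) (hpq : p ≠ q) (hp2 : p ≠ 2)
    (hpG : p ∣ Nat.card G) (hqG : q ∣ Nat.card G)
    (hmix : ∀ H : Subgroup G, H ≠ ⊤ → ¬ IsPGroup q H → q ∣ Nat.card H → p ∣ Nat.card H)
    (hlarge : q ^ (Nat.card G).factorization q - 1 < p ∨
      (p = q ^ (Nat.card G).factorization q - 1 ∧ ∀ P : Sylow p G, IsMulCommutative P)) :
    ∀ r : ℕ, r.Prime → r ∣ Nat.card G → r = p ∨ r = q := by
  exact aux _ G q rfl ⟨hp, hq, hpq, hp2, hpG, hqG, hmix, hlarge⟩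

end Cfsg.Agent.S4017
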