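import Cfsg.Statements.S4018
import Mathlib

-- statement Cfsg.CfsgFrozen.S4018

set_option autoImplicit false

universe u

namespace Cfsg.Agent.S4018

variable {G : Type u} [Group G] [Finite G]

/-- The commuting graph on involutions is a regular friendship graph, which is impossible. -/
lemma no_friendship {V : Type*} [Fintype V] [DecidableEq V] (R : V → V → Prop) [DecidableRel R]
    (hirr : ∀ x, ¬ R x x) (hsymm : ∀ x y, R x y → R y x) (k r : ℕ) [Fact r.Prime] (hr : r ∣ k - 1) (hk : 2 ≤ k)
    (hdeg : ∀ x, Nat.card {y // R x y} = k) (hfr : ∀ x y, x ≠ y → ∃! z, R x z ∧ R z y) [Nonempty V] : False := by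
  classical
  set A : Matrix V V (ZMod r) := Matrix.of fun x y => if R x y then 1 else 0
  set J : Matrix V V (ZMod r) := Matrix.of fun _ _ => 1
  have hk1 : (k : ZMod r) = 1 := by
    obtain ⟨d, hd⟩ := hr
    rw [show k = r * d + 1 by omega]
    push_cast
    rw [ZMod.natCast_self, zero_mul, zero_add]
  have hdeg' : ∀ x, (∑ y, if R x y then (1 : ZMod r) else 0) = 1 := fun x => by
    rw [Finset.sum_boole, ← Fintype.card_subtype, ← Nat.card_eq_fintype_card, hdeg, hk1]
  have hA2 : A * A = J := by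
    ext x y
    simp only [A, J, Matrix.mul_apply, Matrix.of_apply]
    by_cases hxy : x = y
    · subst hxy
      refine Eq.trans (Finset.sum_congr rfl fun z _ => ?_) (hdeg' x)
      by_cases h : R x z
      · simp [h, hsymm x z h]
      · simp [h]
    · obtain ⟨z, ⟨hz1, hz2⟩, huniq⟩ := hfr x y hxy
      rw [Finset.sum_eq_single z]
      · simp [hz1, hz2]
      · intro w _ hw
        by_cases h1 : R x w
        · by_cases h2 : R w y
          · exact absurd (huniq w ⟨h1, h2⟩) hw
          · simp [h1, h2]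
        · simp [h1]
      · simp
  have hAJ : A * J = J := by
    ext x y
    simp only [A, J, Matrix.mul_apply, Matrix.of_apply, mul_one]
    exact hdeg' x
  have hpow : ∀ j, A ^ (j + 2) = J := by
    intro j
    induction j with
    | zero => rw [pow_two, hA2]
    | succ j ih => rw [show j + 1 + 2 = (j + 2) + 1 by omega, pow_succ', ih, hAJ]
  have htr : (A ^ r).trace = 0 := by
    rw [ZMod.trace_pow_card]
    have : A.trace = 0 := Finset.sum_eq_zero fun x _ => by simp [A, hirr x]
    rw [this, zero_pow (Fact.out : r.Prime).ne_zero]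
  obtain ⟨j, hj⟩ : ∃ j, r = j + 2 := ⟨r - 2, by have := (Fact.out : r.Prime).two_le; omega⟩
  rw [show A ^ r = A ^ (j + 2) from congrArg (A ^ ·) hj, hpow] at htr
  have htrJ : J.trace = (Fintype.card V : ZMod r) := by simp [J, Matrix.trace]
  rw [htrJ] at htr
  have hJJ : J * J = J := by
    calc J * J = A * A * J := by rw [hA2]
      _ = J := by rw [mul_assoc, hAJ, hAJ]
  obtain ⟨x0⟩ := ‹Nonempty V›
  have h := congrFun (congrFun hJJ x0) x0
  simp [J, Matrix.mul_apply, htr] at h

theorem main (P : Sylow 3 G) (hab : IsMulCommutative P)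
    (hN : Nat.card (Subgroup.normalizer ((P : Subgroup G) : Set G)) = 4 * Nat.card P)
    (hC : Nat.card (Subgroup.centralizer ((P : Subgroup G) : Set G)) = 2 * Nat.card P)
    (hTI : Cfsg.IsTISubset (Subgroup.centralizer ((P : Subgroup G) : Set G) : Set G))
    (heven : ∀ H : Subgroup G, H ≠ ⊤ → 2 ∣ Nat.card H → Nat.card H ∣ 4 * Nat.card P)
    (hs : IsSimpleGroup G) : False := by
  classical
  haveI := hs
  haveI := Fintype.ofFinite G
  haveI : Fact (Nat.Prime 3) := ⟨Nat.prime_three⟩
  haveI : Fact (Nat.Prime 2) := ⟨Nat.prime_two⟩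
  set m := Nat.card P with hm
  obtain ⟨a, ha⟩ := IsPGroup.iff_card.mp P.2
  have ha' : m = 3 ^ a := ha
  have hmodd : Odd m := by rw [ha']; exact Odd.pow (by decide)
  set N := Subgroup.normalizer ((P : Subgroup G) : Set G) with hNdef
  set C := Subgroup.centralizer ((P : Subgroup G) : Set G) with hCdef
  -- degenerate case
  have ha0 : a ≠ 0 := by
    intro h0
    rw [h0, pow_zero] at ha'
    have hP : (P : Subgroup G) = ⊥ := Subgroup.eq_bot_of_card_eq _ ha'
    have hGc : Nat.card G = 4 := by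
      have : N = ⊤ := by rw [hNdef, hP, Subgroup.normalizer_eq_top]
      rw [this, Subgroup.card_top] at hN
      omega
    have hCc : C = ⊤ := by
      rw [hCdef, hP]
      exact eq_top_iff.mpr fun x _ => Subgroup.mem_centralizer_iff.mpr fun y hy => by
        rw [Subgroup.mem_bot.mp hy, one_mul, mul_one]
    rw [hCc, Subgroup.card_top] at hC
    omega
  have hm3 : 3 ≤ m := by rw [ha']; exact Nat.le_self_pow ha0 3
  have hPne : (P : Subgroup G) ≠ ⊥ := fun h => by
    have : m = 1 := by rw [hm]; rw [show Nat.card P = Nat.card (P : Subgroup G) from rfl, h, Subgroup.card_bot]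
    omega
  have hPC : (P : Subgroup G) ≤ C := fun x hx => Subgroup.mem_centralizer_iff.mpr fun y hy =>
    congrArg Subtype.val (hab.is_comm.comm (⟨y, hy⟩ : (P : Subgroup G)) ⟨x, hx⟩)
  have hCN : C ≤ N := Subgroup.centralizer_le_normalizer _
  have hNne : N ≠ ⊤ := fun h => by
    rcases hs.eq_bot_or_eq_top_of_normal _ (Subgroup.normalizer_eq_top_iff.mp h) with e | e
    · exact hPne e
    · have h1 : Nat.card G = m := by rw [hm, show Nat.card P = Nat.card (P : Subgroup G) from rfl, e, Subgroup.card_top]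
      rw [h, Subgroup.card_top] at hN
      omega
  -- the involution of C
  obtain ⟨⟨u, huC⟩, hu0⟩ := exists_prime_orderOf_dvd_card' (G := C) 2 (by rw [hC]; exact dvd_mul_right 2 m)
  have huo : orderOf u = 2 := by rwa [Subgroup.orderOf_mk] at hu0
  have hu2 : u * u = 1 := by rw [← pow_two, ← huo, pow_orderOf_eq_one]
  have hu1 : u ≠ 1 := fun h => by rw [h, orderOf_one] at huo; omega
  -- C is commutative with one involution
  have hPidx : ((P : Subgroup G).subgroupOf C).index = 2 := by
    have h := ((P : Subgroup G).subgroupOf C).card_mul_index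
    rw [Nat.card_congr (Subgroup.subgroupOfEquivOfLe hPC).toEquiv, hC, mul_comm 2] at h
    exact Nat.eq_of_mul_eq_mul_left Nat.card_pos h
  have huP : u ∉ (P : Subgroup G) := fun h => by
    have h1 : orderOf u ∣ m := Subgroup.orderOf_mk u h ▸ orderOf_dvd_natCard (⟨u, h⟩ : (P : Subgroup G))
    rw [huo] at h1
    exact (Nat.not_even_iff_odd.mpr hmodd) (even_iff_two_dvd.mpr h1)
  have hCsplit : ∀ c ∈ C, c ∈ (P : Subgroup G) ∨ ∃ x ∈ (P : Subgroup G), c = x * u := by
    intro c hc
    by_cases h : c ∈ (P : Subgroup G)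
    · exact Or.inl h
    refine Or.inr ⟨c * u, ?_, by rw [mul_assoc, hu2, mul_one]⟩
    have h2 := (Subgroup.mul_mem_iff_of_index_two hPidx (a := (⟨c, hc⟩ : C)) (b := ⟨u, huC⟩)).mpr
      (iff_of_false h huP)
    exact h2
  have huP' : ∀ x ∈ (P : Subgroup G), Commute x u := fun x hx => Subgroup.mem_centralizer_iff.mp huC x hx
  have hPP : ∀ x ∈ (P : Subgroup G), ∀ y ∈ (P : Subgroup G), Commute x y := fun x hx y hy =>
    congrArg Subtype.val (hab.is_comm.comm (⟨x, hx⟩ : (P : Subgroup G)) ⟨y, hy⟩)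
  have hPinv : ∀ x ∈ (P : Subgroup G), x * x = 1 → x = 1 := by
    intro x hx hxx
    have h1 : orderOf x ∣ m := Subgroup.orderOf_mk x hx ▸ orderOf_dvd_natCard (⟨x, hx⟩ : (P : Subgroup G))
    have h2 : orderOf x ∣ 2 := orderOf_dvd_of_pow_eq_one (by rw [pow_two, hxx])
    exact orderOf_eq_one_iff.mp (Nat.eq_one_of_dvd_coprimes hmodd.coprime_two_right h1 h2)
  have hCinv : ∀ c ∈ C, orderOf c = 2 → c = u := by
    intro c hc hco
    have hcc : c * c = 1 := by rw [← pow_two, ← hco, pow_orderOf_eq_one]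
    rcases hCsplit c hc with h | ⟨x, hx, rfl⟩
    · rw [hPinv c h hcc, orderOf_one] at hco; omega
    · have : x * x = 1 := by
        calc x * x = x * x * (u * u) := by rw [hu2, mul_one]
          _ = x * u * (x * u) := by rw [(huP' x hx).symm.mul_mul_mul_comm]
          _ = 1 := hcc
      rw [hPinv x hx this, one_mul]
  have hCcomm : ∀ c ∈ C, ∀ d ∈ C, Commute c d := by
    intro c hc d hd
    rcases hCsplit c hc with h | ⟨x, hx, rfl⟩ <;> rcases hCsplit d hd with k | ⟨y, hy, rfl⟩
    · exact hPP c h d k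
    · exact (hPP c h y hy).mul_right (huP' c h)
    · exact (hPP x hx d k).mul_left (huP' d k).symm
    · exact ((hPP x hx y hy).mul_right (huP' x hx)).mul_left ((huP' y hy).symm.mul_right (Commute.refl u))
  have hNu : ∀ g ∈ N, Commute g u := by
    intro g hg
    have h1 : g * u * g⁻¹ ∈ C := by
      refine Subgroup.mem_centralizer_iff.mpr fun y hy => ?_
      have h2 : g⁻¹ * y * g ∈ (P : Subgroup G) := by
        have := (Subgroup.mem_normalizer_iff.mp (inv_mem hg) y).mp hy
        simpa using this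
      calc y * (g * u * g⁻¹) = g * ((g⁻¹ * y * g) * u) * g⁻¹ := by group
        _ = g * u * g⁻¹ * y := by rw [(huP' _ h2).eq]; group
    exact mul_inv_eq_iff_eq_mul.mp (hCinv _ h1 (((MulAut.conj g).orderOf_eq u).trans huo))
  -- C(u) = N
  have hcent : ∀ g : G, Commute g u → g ∈ N := by
    set Cu := Subgroup.centralizer ({u} : Set G)
    have hle : N ≤ Cu := fun g hg => Subgroup.mem_centralizer_singleton_iff.mpr (hNu g hg)
    have hne : Cu ≠ ⊤ := fun h => by
      have hc : u ∈ Subgroup.center G := Subgroup.mem_center_iff.mpr fun g =>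
        Subgroup.mem_centralizer_singleton_iff.mp ((eq_top_iff.mp h) (Subgroup.mem_top g))
      rcases hs.eq_bot_or_eq_top_of_normal (Subgroup.center G) inferInstance with e | e
      · rw [e, Subgroup.mem_bot] at hc; exact hu1 hc
      · refine hNne (Subgroup.normalizer_eq_top_iff.mpr ⟨fun x hx g => ?_⟩)
        have : g * x = x * g := Subgroup.mem_center_iff.mp (e ▸ Subgroup.mem_top x) g
        rw [this, mul_inv_cancel_right]; exact hx
    have hd := heven Cu hne ((dvd_mul_right 2 (2 * m)).trans (by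
      rw [← mul_assoc, show 2 * 2 = 4 from rfl, ← hN]; exact Subgroup.card_dvd_of_le hle))
    have heq : N = Cu := Subgroup.eq_of_le_of_card_ge hle (by rw [hN]; exact Nat.le_of_dvd (by omega) hd)
    intro g hg
    rw [heq]
    exact Subgroup.mem_centralizer_singleton_iff.mpr hg
  have hTIu : ∀ g x : G, x ∈ C → g * x * g⁻¹ ∈ C → x ≠ 1 → Commute g u := by
    intro g x hx hgx hx1
    by_cases hg : g ∈ Subgroup.normalizer (C : Set G)
    · exact mul_inv_eq_iff_eq_mul.mp (hCinv _ ((Subgroup.mem_normalizer_iff.mp hg u).mp huC)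
        (((MulAut.conj g).orderOf_eq u).trans huo))
    · exact absurd (hTI g hg x hx hgx) hx1
  -- Sylow 2-subgroups
  have hS4 : ∀ T : Subgroup G, IsPGroup 2 T → Nat.card T ∣ 4 := by
    intro T hT
    obtain ⟨k, hk⟩ := IsPGroup.iff_card.mp hT
    rcases Nat.eq_zero_or_pos k with rfl | hk0
    · rw [hk, pow_zero]; exact one_dvd _
    have hne : T ≠ ⊤ := fun h => by
      rw [h, Subgroup.card_top] at hk
      have h3 : 3 ∣ 2 ^ k := hk ▸ ((dvd_pow_self 3 ha0).trans (ha'.symm.dvd.trans (Subgroup.card_subgroup_dvd_card _)))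
      exact absurd (Nat.prime_three.dvd_of_dvd_pow h3) (by norm_num)
    have := heven T hne (hk ▸ dvd_pow_self 2 hk0.ne')
    rw [hk] at this ⊢
    exact (Nat.Coprime.pow_left k hmodd.coprime_two_left).dvd_of_dvd_mul_right this
  obtain ⟨S0', hS0⟩ := Sylow.exists_subgroup_card_pow_prime (G := N) 2 (n := 2) (by rw [hN]; exact dvd_mul_right 4 m)
  set S0 : Subgroup G := S0'.map N.subtype with hS0def
  have hS0c : Nat.card S0 = 4 := by rw [hS0def, Subgroup.card_subtype, hS0]; norm_num
  have hS0N : S0 ≤ N := by rintro _ ⟨x, -, rfl⟩; exact x.2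
  have hS0p : IsPGroup 2 S0 := IsPGroup.of_card (n := 2) (by rw [hS0c]; norm_num)
  obtain ⟨T, hT⟩ := hS0p.exists_le_sylow
  have hTS : S0 = (T : Subgroup G) := Subgroup.eq_of_le_of_card_ge hT (by
    rw [hS0c]; exact Nat.le_of_dvd (by norm_num) (hS4 _ T.2))
  have huS : u ∈ S0 := by
    have hsup : IsPGroup 2 ↥(Subgroup.zpowers u ⊔ S0) := (IsPGroup.of_card (p := 2) (n := 1)
      (G := Subgroup.zpowers u) (by rw [Nat.card_zpowers, huo, pow_one])).to_sup_of_normal_left' hS0p (fun x hx => by
        rw [Subgroup.mem_normalizer_iff]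
        intro y
        constructor
        · rintro ⟨i, rfl⟩
          rw [((hNu x (hS0N hx)).zpow_right i).eq, mul_inv_cancel_right]
          exact ⟨i, rfl⟩
        · rintro ⟨i, hi⟩
          refine ⟨i, ?_⟩
          have hi' : u ^ i = x * y * x⁻¹ := hi
          calc u ^ i = x⁻¹ * (x * u ^ i) := by group
            _ = y := by rw [((hNu x (hS0N hx)).zpow_right i).eq, hi']; group)
    have h := T.3 hsup (hTS ▸ le_sup_right)
    rw [hTS, ← h]
    exact Subgroup.mem_sup_left (Subgroup.mem_zpowers u)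
  have hncyc : ¬ IsCyclic (T : Subgroup G) := by
    intro hcyc
    have hNC := IsCyclic.normalizer_le_centralizer (P := T) ((Nat.minFac_eq_two_iff _).mpr
      ((show 2 ∣ 4 * m from ⟨2 * m, by ring⟩).trans (hN ▸ Subgroup.card_subgroup_dvd_card N))) hcyc
    have hK := MonoidHom.ker_transferSylow_isComplement' T hNC
    have hTc : Nat.card (T : Subgroup G) = 4 := hTS ▸ hS0c
    rcases hs.eq_bot_or_eq_top_of_normal (MonoidHom.transferSylow T hNC).ker inferInstance with e | e
    · have h1 := hK.card_mul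
      rw [e, Subgroup.card_bot, one_mul, hTc] at h1
      have := Nat.le_of_dvd Nat.card_pos (Subgroup.card_subgroup_dvd_card N)
      rw [hN] at this; omega
    · have h1 := hK.symm.index_eq_card
      rw [e, Subgroup.index_top, hTc] at h1
      omega
  have hexp : ∀ x ∈ S0, x * x = 1 := by
    intro x hx
    by_contra hne
    refine hncyc ?_
    have h1 : orderOf x ∣ 4 := hS0c ▸ (Subgroup.orderOf_mk x hx ▸ orderOf_dvd_natCard (⟨x, hx⟩ : S0))
    have h2 : orderOf x = 4 := by
      have h4 : orderOf x ≤ 4 := Nat.le_of_dvd (by norm_num) h1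
      have hn2 : ¬ orderOf x ∣ 2 := fun h => hne (by rw [← pow_two]; exact orderOf_dvd_iff_pow_eq_one.mp h)
      interval_cases orderOf x <;> omega
    refine isCyclic_of_orderOf_eq_card (⟨x, hTS ▸ hx⟩ : (T : Subgroup G)) ?_
    rw [Subgroup.orderOf_mk, h2]
    exact (hTS ▸ hS0c).symm
  have hScomm : ∀ x ∈ S0, ∀ y ∈ S0, Commute x y := by
    intro x hx y hy
    have h := hexp _ (mul_mem hx hy)
    calc x * y = (x * x) * (y * y) * (x * y)⁻¹ * 1 := by
          rw [hexp x hx, hexp y hy, one_mul, one_mul, mul_one, inv_eq_of_mul_eq_one_left h]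
      _ = y * x := by
          rw [hexp x hx, hexp y hy, mul_inv_rev, inv_eq_of_mul_eq_one_left (hexp x hx), inv_eq_of_mul_eq_one_left (hexp y hy)]
          simp
  have hinvT : ∀ x ∈ S0, x ≠ 1 → orderOf x = 2 := fun x hx hx1 =>
    orderOf_eq_prime (by rw [pow_two, hexp x hx]) hx1
  have hS4max : ∀ x : G, ∀ (i : ℕ), orderOf x = 2 ^ i → x ∈ Subgroup.normalizer (S0 : Set G) → x ∈ S0 := by
    intro x i hxi hx
    have hsup : IsPGroup 2 ↥(Subgroup.zpowers x ⊔ S0) := (IsPGroup.of_card (p := 2) (n := i)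
      (G := Subgroup.zpowers x) (by rw [Nat.card_zpowers, hxi])).to_sup_of_normal_right' hS0p (Subgroup.zpowers_le.mpr hx)
    have h := T.3 hsup (hTS ▸ le_sup_right)
    rw [hTS, ← h]
    exact Subgroup.mem_sup_left (Subgroup.mem_zpowers x)
  -- all involutions are conjugate to u
  have hconjS : ∀ x ∈ S0, x ≠ 1 → ∃ g : G, x = g * u * g⁻¹ := by
    obtain ⟨g, hg, hgC⟩ : ∃ g, g ∈ Subgroup.normalizer (S0 : Set G) ∧ g ∉ Subgroup.centralizer (S0 : Set G) := by
      by_contra hcon
      push Not at hcon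
      have hNC : Subgroup.normalizer ((T : Subgroup G) : Set G) ≤ Subgroup.centralizer ((T : Subgroup G) : Set G) := by
        rw [← hTS]; exact hcon
      have hK := MonoidHom.ker_transferSylow_isComplement' T hNC
      have hTc : Nat.card (T : Subgroup G) = 4 := hTS ▸ hS0c
      rcases hs.eq_bot_or_eq_top_of_normal (MonoidHom.transferSylow T hNC).ker inferInstance with e | e
      · have h1 := hK.card_mul
        rw [e, Subgroup.card_bot, one_mul, hTc] at h1
        have := Nat.le_of_dvd Nat.card_pos (Subgroup.card_subgroup_dvd_card N)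
        rw [hN] at this; omega
      · have h1 := hK.symm.index_eq_card
        rw [e, Subgroup.index_top, hTc] at h1
        omega
    have hmap : ∀ x ∈ S0, g * x * g⁻¹ ∈ S0 := fun x hx => (Subgroup.mem_normalizer_iff.mp hg x).mp hx
    haveI := Fintype.ofFinite S0
    have four : ∀ x y z w : G, x ∈ S0 → y ∈ S0 → z ∈ S0 → w ∈ S0 → x ≠ 1 → y ≠ 1 → z ≠ 1 → w ≠ 1 →
        x ≠ y → x ≠ z → y ≠ z → w = x ∨ w = y ∨ w = z := by
      intro x y z w hx hy hz hw x1 y1 z1 w1 xy xz yz
      by_contra hcon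
      push Not at hcon
      have h5 : ({1, x, y, z, w} : Finset G) ⊆ Finset.univ.filter (· ∈ S0) := by
        simp [Finset.insert_subset_iff, hx, hy, hz, hw]
      have := Finset.card_le_card h5
      rw [← Fintype.card_subtype, ← Nat.card_eq_fintype_card] at this
      rw [Finset.card_insert_of_notMem (by simp [Ne.symm x1, Ne.symm y1, Ne.symm z1, Ne.symm w1]),
        Finset.card_insert_of_notMem (by simp [xy, xz, Ne.symm hcon.1]),
        Finset.card_insert_of_notMem (by simp [yz, Ne.symm hcon.2.1]),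
        Finset.card_insert_of_notMem (by simp [Ne.symm hcon.2.2]), Finset.card_singleton] at this
      change 5 ≤ Nat.card S0 at this
      omega
    -- the square of g moves every involution of S0
    have key : ∀ x ∈ S0, x ≠ 1 → g * x * g⁻¹ ≠ x := by
      intro x hx hx1 hfix
      -- then g^2 centralizes S0
      have hsq : ∀ y ∈ S0, g * (g * y * g⁻¹) * g⁻¹ = y := by
        intro y hy
        by_cases hy1 : y = 1
        · rw [hy1]; group
        by_cases hgy : g * y * g⁻¹ = y
        · rw [hgy, hgy]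
        have hyx : y ≠ x := fun e => hgy (e ▸ hfix)
        set y' := g * y * g⁻¹ with hy'
        have hy'1 : y' ≠ 1 := fun e => hy1 (by simpa [y'] using e)
        have hy'x : y' ≠ x := fun e => hyx ((MulAut.conj g).injective (e.trans hfix.symm))
        have hy''1 : g * y' * g⁻¹ ≠ 1 := fun e => hy'1 (by simpa using e)
        rcases four x y y' (g * y' * g⁻¹) hx hy (hmap y hy) (hmap _ (hmap y hy)) hx1 hy1 hy'1 hy''1
          (Ne.symm hyx) (Ne.symm hy'x) (Ne.symm hgy) with e | e | e
        · exact absurd ((MulAut.conj g).injective (e.trans hfix.symm)) hy'x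
        · exact e
        · exact absurd ((MulAut.conj g).injective e) hgy
      refine hgC (Subgroup.mem_centralizer_iff.mpr fun y hy => ?_)
      set j := ordCompl[2] (orderOf g)
      have hg0 : orderOf g ≠ 0 := (orderOf_pos g).ne'
      have hgj : g ^ j ∈ S0 := hS4max _ ((orderOf g).factorization 2)
        (by rw [orderOf_pow_of_dvd (Nat.ordCompl_pos 2 hg0).ne' (Nat.ordCompl_dvd _ _), Nat.div_div_self (Nat.ordProj_dvd _ _) hg0])
        (pow_mem hg j)
      have hjodd : Odd j := by
        rw [← Nat.not_even_iff_odd, even_iff_two_dvd]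
        exact Nat.not_dvd_ordCompl Nat.prime_two hg0
      obtain ⟨i, hi⟩ := hjodd
      have hit : ∀ i : ℕ, g ^ (2 * i) * y * (g ^ (2 * i))⁻¹ = y := by
        intro i
        induction i with
        | zero => simp
        | succ i ih =>
          calc g ^ (2 * (i + 1)) * y * (g ^ (2 * (i + 1)))⁻¹ = g * (g * (g ^ (2 * i) * y * (g ^ (2 * i))⁻¹) * g⁻¹) * g⁻¹ := by
                rw [show 2 * (i + 1) = 1 + 1 + 2 * i by ring, pow_add, pow_add, pow_one]; group
            _ = y := by rw [ih, hsq y hy]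
      have h1 : g ^ j * y * (g ^ j)⁻¹ = y := by rw [(hScomm _ hgj y hy).eq, mul_inv_cancel_right]
      rw [hi, add_comm, pow_add, pow_one] at h1
      have h2 : g * y * g⁻¹ = y := by
        calc g * y * g⁻¹ = g * (g ^ (2 * i) * y * (g ^ (2 * i))⁻¹) * g⁻¹ := by rw [hit]
          _ = g * g ^ (2 * i) * y * (g * g ^ (2 * i))⁻¹ := by group
          _ = y := h1
      exact (mul_inv_eq_iff_eq_mul.mp h2).symm
    intro x hx hx1
    have hu' : u ≠ 1 := hu1
    set u1 := g * u * g⁻¹ with hu1'
    set u2 := g * u1 * g⁻¹ with hu2'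
    have m1 : u1 ∈ S0 := hmap u huS
    have n1 : u1 ≠ 1 := fun e => hu' (by simpa [u1] using e)
    have m2 : u2 ∈ S0 := hmap _ m1
    have n2 : u2 ≠ 1 := fun e => n1 (by simpa [u2] using e)
    have d1 : u1 ≠ u := key u huS hu'
    have d2 : u2 ≠ u1 := key u1 m1 n1
    have d3 : u2 ≠ u := by
      intro e
      -- the third involution would be fixed
      set z := u * u1 with hz
      have hz1 : z ≠ 1 := fun e' => d1 (by
        calc u1 = u * u * u1 := by rw [hu2, one_mul]
          _ = u * z := by rw [mul_assoc]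
          _ = u := by rw [e', mul_one])
      refine key z (mul_mem huS m1) hz1 ?_
      calc g * z * g⁻¹ = u1 * u2 := by simp only [z, u1, u2]; group
        _ = z := by rw [e, hz]; exact (hScomm u1 m1 u huS).eq
    rcases four u u1 u2 x huS m1 m2 hx hu' n1 n2 hx1 (Ne.symm d1) (Ne.symm d3) (Ne.symm d2) with e | e | e
    · exact ⟨1, by rw [e]; group⟩
    · exact ⟨g, e⟩
    · exact ⟨g * g, by rw [e, hu2', hu1']; group⟩
  have hclass : ∀ w : G, orderOf w = 2 → ∃ g : G, w = g * u * g⁻¹ := by
    intro w hw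
    obtain ⟨T', hT'⟩ := (IsPGroup.of_card (p := 2) (n := 1) (G := Subgroup.zpowers w)
      (by rw [Nat.card_zpowers, hw, pow_one])).exists_le_sylow
    obtain ⟨h, hh⟩ := MulAction.exists_smul_eq G T T'
    have hwT : w ∈ (T' : Subgroup G) := hT' (Subgroup.mem_zpowers w)
    rw [← hh, Sylow.coe_subgroup_smul, Subgroup.pointwise_smul_def, ← hTS] at hwT
    obtain ⟨z, hz, hzw⟩ := hwT
    have hzw' : h * z * h⁻¹ = w := hzw
    have hz1 : z ≠ 1 := fun e => by rw [← hzw', e, mul_one, mul_inv_cancel, orderOf_one] at hw; omega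
    obtain ⟨g, hg⟩ := hconjS z hz hz1
    exact ⟨h * g, by rw [← hzw', hg]; group⟩
  have hS4' : ∀ x y : G, orderOf x = 2 → orderOf y = 2 → Commute x y → x ≠ y → orderOf (x * y) = 2 := by
    intro x y hx hy hc hxy
    refine orderOf_eq_prime ?_ ?_
    · rw [hc.mul_pow, show x ^ 2 = 1 from hx ▸ pow_orderOf_eq_one x, show y ^ 2 = 1 from hy ▸ pow_orderOf_eq_one y, one_mul]
    · intro e
      have hy' : y⁻¹ = y := inv_eq_of_mul_eq_one_left (by rw [← pow_two, ← hy, pow_orderOf_eq_one])
      exact hxy ((eq_inv_of_mul_eq_one_left e).trans hy')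
  -- elements of N outside C invert P
  have hinvert : ∀ v ∈ N, v ∉ C → orderOf v = 2 → ∀ x ∈ C, v * x * v⁻¹ = x⁻¹ := by
    intro v hv hvC hvo
    have hv2 : v * v = 1 := by rw [← pow_two, ← hvo, pow_orderOf_eq_one]
    have hfix : ∀ x ∈ (P : Subgroup G), Commute v x → x = 1 := by
      intro x hx hc
      by_contra hx1
      obtain ⟨g, hg⟩ := hclass v hvo
      have hxN : Commute (g⁻¹ * x * g) u := by
        have h := hc.symm.map (MulAut.conj g⁻¹).toMonoidHom
        have e : (MulAut.conj g⁻¹).toMonoidHom v = u := by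
          show g⁻¹ * v * g⁻¹⁻¹ = u
          rw [hg]; group
        rw [e] at h
        simpa using h
      have hxN' := hcent _ hxN
      have h3 : g⁻¹ * x * g ∈ (P : Subgroup G) := by
        have hp : IsPGroup 3 ↥(Subgroup.zpowers (g⁻¹ * x * g)) := by
          obtain ⟨e, he⟩ := IsPGroup.iff_orderOf.mp P.2 ⟨x, hx⟩
          rw [Subgroup.orderOf_mk] at he
          refine IsPGroup.of_card (n := e) ?_
          rw [Nat.card_zpowers, ← he, show g⁻¹ * x * g = MulAut.conj g⁻¹ x by simp, MulEquiv.orderOf_eq]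
        have hsup := hp.to_sup_of_normal_right' P.2 (Subgroup.zpowers_le.mpr hxN')
        rw [← P.3 hsup le_sup_right]
        exact Subgroup.mem_sup_left (Subgroup.mem_zpowers _)
      have h4 : g * (g⁻¹ * x * g) * g⁻¹ ∈ C := by
        rw [show g * (g⁻¹ * x * g) * g⁻¹ = x by group]; exact hPC hx
      have hgu := hTIu g _ (hPC h3) h4 (fun e => hx1 (by simpa [mul_eq_one_iff_eq_inv] using congrArg (fun z => g * z * g⁻¹) e))
      refine hvC ?_
      rw [hg, hgu.eq, mul_inv_cancel_right]
      exact huC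
    intro x hx
    have hPinvv : ∀ x ∈ (P : Subgroup G), v * x * v⁻¹ = x⁻¹ := by
      intro x hx
      have hy : v * x * v⁻¹ ∈ (P : Subgroup G) := (Subgroup.mem_normalizer_iff.mp hv x).mp hx
      refine eq_inv_of_mul_eq_one_left (hfix _ (mul_mem hy hx) ?_)
      show v * (v * x * v⁻¹ * x) = v * x * v⁻¹ * x * v
      have hvi : v⁻¹ = v := inv_eq_of_mul_eq_one_left hv2
      have hc := hPP _ hy _ hx
      calc v * (v * x * v⁻¹ * x) = x * (v⁻¹ * x) := by
            rw [← mul_assoc, ← mul_assoc, ← mul_assoc, hv2, one_mul, mul_assoc]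
        _ = x * (v * x * v⁻¹) * v := by rw [hvi]; simp [mul_assoc, hv2]
        _ = v * x * v⁻¹ * x * v := by rw [hc.eq]
    rcases hCsplit x hx with h | ⟨y, hy, rfl⟩
    · exact hPinvv x h
    · calc v * (y * u) * v⁻¹ = (v * y * v⁻¹) * (v * u * v⁻¹) := by group
        _ = y⁻¹ * u⁻¹ := by
            rw [hPinvv y hy, (hNu v hv).eq, mul_inv_cancel_right, inv_eq_of_mul_eq_one_left hu2]
        _ = (y * u)⁻¹ := by rw [← mul_inv_rev, (huP' y hy).eq]
  -- the set of involutions commuting with u
  obtain ⟨v0, hv0N, hv0C, hv0o⟩ : ∃ v ∈ N, v ∉ C ∧ orderOf v = 2 := by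
    by_contra hcon
    push Not at hcon
    have hsub : S0 ≤ Subgroup.zpowers u := fun x hx => by
      by_cases hx1 : x = 1
      · rw [hx1]; exact one_mem _
      by_cases hxC : x ∈ C
      · rw [hCinv x hxC (hinvT x hx hx1)]; exact Subgroup.mem_zpowers u
      · exact absurd (hinvT x hx hx1) (hcon x (hS0N hx) hxC)
    have := Subgroup.card_le_of_le hsub
    rw [hS0c, Nat.card_zpowers, huo] at this
    omega
  have hCidx : (C.subgroupOf N).index = 2 := by
    have h := (C.subgroupOf N).card_mul_index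
    rw [Nat.card_congr (Subgroup.subgroupOfEquivOfLe hCN).toEquiv, hC, hN, show 4 * m = 2 * m * 2 by ring] at h
    exact Nat.eq_of_mul_eq_mul_left (by omega) h
  have hdeg : Nat.card {x : G // orderOf x = 2 ∧ x ≠ u ∧ Commute x u} = 2 * m := by
    rw [← hC]
    refine (Nat.card_eq_of_bijective (fun c : C => (⟨v0 * c, ?_⟩ : {x : G // orderOf x = 2 ∧ x ≠ u ∧ Commute x u})) ⟨?_, ?_⟩).symm
    · have hnot : v0 * (c : G) ∉ C := fun h => hv0C (by simpa using mul_mem h (inv_mem c.2))
      refine ⟨orderOf_eq_prime ?_ (fun e => hnot (e ▸ one_mem C)), fun e => hnot (e ▸ huC), hNu _ (mul_mem hv0N (hCN c.2))⟩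
      have hv2 : v0⁻¹ = v0 := inv_eq_of_mul_eq_one_left (by rw [← pow_two, ← hv0o, pow_orderOf_eq_one])
      calc (v0 * (c : G)) ^ 2 = (v0 * c * v0) * c := by rw [pow_two]; group
        _ = (v0 * c * v0⁻¹) * c := by rw [hv2]
        _ = 1 := by rw [hinvert v0 hv0N hv0C hv0o c c.2, inv_mul_cancel]
    · intro c d h
      exact Subtype.ext (mul_left_cancel (congrArg Subtype.val h :))
    · rintro ⟨x, hxo, hxu, hxc⟩
      have hxN := hcent x hxc
      have hxC : x ∉ C := fun h => hxu (hCinv x h hxo)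
      have h2 := (Subgroup.mul_mem_iff_of_index_two hCidx (a := (⟨v0, hv0N⟩ : N)⁻¹) (b := ⟨x, hxN⟩)).mpr
        (iff_of_false (fun h => hv0C (inv_mem_iff.mp h)) hxC)
      exact ⟨⟨v0⁻¹ * x, h2⟩, Subtype.ext (by simp)⟩
  have hinvC : ∀ s : G, orderOf s = 2 → s ≠ u → Commute s u → s ∈ N ∧ s ∉ C :=
    fun s hs2 hsu hc => ⟨hcent s hc, fun h => hsu (hCinv s h hs2)⟩
  -- the graph
  let R : {w : G // orderOf w = 2} → {w : G // orderOf w = 2} → Prop :=
    fun s t => (s : G) ≠ t ∧ Commute (s : G) t
  haveI : Fintype {w : G // orderOf w = 2} := Fintype.ofFinite _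
  haveI : Nonempty {w : G // orderOf w = 2} := ⟨⟨u, huo⟩⟩
  set r := (2 * m - 1).minFac
  haveI : Fact r.Prime := ⟨Nat.minFac_prime (by omega)⟩
  refine no_friendship R (fun x h => h.1 rfl) (fun x y h => ⟨h.1.symm, h.2.symm⟩) (2 * m) r (Nat.minFac_dvd _) (by omega) ?_ ?_
  · rintro ⟨w, hw⟩
    obtain ⟨g, hg⟩ := hclass w hw
    rw [← hdeg]
    refine Nat.card_congr
      { toFun := fun y => ⟨g⁻¹ * ((y : {w : G // orderOf w = 2}) : G) * g, ?_⟩
        invFun := fun x => ⟨⟨g * (x : G) * g⁻¹, ((MulAut.conj g).orderOf_eq _).trans x.2.1⟩, ?_⟩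
        left_inv := fun y => Subtype.ext (Subtype.ext (by group))
        right_inv := fun x => Subtype.ext (by group) }
    · obtain ⟨⟨y, hy⟩, hne, hc⟩ := y
      refine ⟨?_, fun e => hne ?_, ?_⟩
      · rw [show g⁻¹ * y * g = MulAut.conj g⁻¹ y by simp, MulEquiv.orderOf_eq, hy]
      · show w = y
        rw [hg, ← e]; group
      · have h := hc.symm.map (MulAut.conj g⁻¹).toMonoidHom
        have e : (MulAut.conj g⁻¹).toMonoidHom w = u := by
          show g⁻¹ * w * g⁻¹⁻¹ = u
          rw [hg]; group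
        rw [e] at h
        simpa using h
    · obtain ⟨x, hxo, hxu, hxc⟩ := x
      refine ⟨fun e => hxu ?_, ?_⟩
      · have e' : w = g * x * g⁻¹ := e
        rw [hg] at e'
        exact (MulAut.conj g).injective e'.symm
      · show Commute w (g * x * g⁻¹)
        rw [hg]
        exact hxc.symm.map (MulAut.conj g).toMonoidHom
  rintro ⟨s, hs2⟩ ⟨t, ht2⟩ hne
  have hst : s ≠ t := fun e => hne (Subtype.ext e)
  have hs' : s * s = 1 := by rw [← pow_two, ← hs2, pow_orderOf_eq_one]
  have ht' : t * t = 1 := by rw [← pow_two, ← ht2, pow_orderOf_eq_one]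
  have hsi : s⁻¹ = s := inv_eq_of_mul_eq_one_left hs'
  have hti : t⁻¹ = t := inv_eq_of_mul_eq_one_left ht'
  by_cases hc : Commute s t
  · have hz : orderOf (s * t) = 2 := hS4' s t hs2 ht2 hc hst
    refine ⟨⟨s * t, hz⟩, ⟨⟨fun e => ?_, ?_⟩, fun e => ?_, ?_⟩, ?_⟩
    · have e' : s = s * t := e
      have : t = 1 := mul_eq_left.mp e'.symm
      rw [this, orderOf_one] at ht2; omega
    · exact (Commute.refl s).mul_right hc
    · have e' : s * t = t := e
      have : s = 1 := mul_eq_right.mp e'
      rw [this, orderOf_one] at hs2; omega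
    · exact hc.mul_left (Commute.refl t)
    rintro ⟨w, hw⟩ ⟨⟨hsw, hcsw⟩, hwt, hcwt⟩
    refine Subtype.ext ?_
    show w = s * t
    by_contra hwne
    obtain ⟨g, hg⟩ := hclass w hw
    -- a group of exponent two and order at most four
    set E := Subgroup.closure ({s, t, w} : Set G)
    have hcommE : ∀ x ∈ ({s, t, w} : Set G), ∀ y ∈ ({s, t, w} : Set G), x * y = y * x := by
      rintro x (rfl | rfl | rfl) y (rfl | rfl | rfl)
      all_goals first | rfl | exact hc.eq | exact hc.symm.eq | exact hcsw.eq | exact hcsw.symm.eq | exact hcwt.eq | exact hcwt.symm.eq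
    have hEc : E ≤ Subgroup.centralizer (E : Set G) := by
      have h0 : E ≤ Subgroup.centralizer ({s, t, w} : Set G) :=
        (Subgroup.closure_le _).mpr fun a ha => Subgroup.mem_centralizer_iff.mpr fun b hb => hcommE b hb a ha
      refine (Subgroup.closure_le _).mpr fun a ha => Subgroup.mem_centralizer_iff.mpr fun b hb => ?_
      exact (Subgroup.mem_centralizer_iff.mp (h0 hb) a ha).symm
    have hE2 : ∀ x ∈ E, x * x = 1 := by
      intro x hx
      refine Subgroup.closure_induction ?_ (one_mul 1) ?_ ?_ hx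
      · rintro x (rfl | rfl | rfl)
        · exact hs'
        · exact ht'
        · rw [← pow_two, ← hw, pow_orderOf_eq_one]
      · intro x y hx hy h1 h2
        have hxy : Commute x y := Subgroup.mem_centralizer_iff.mp (hEc hy) x hx
        rw [hxy.symm.mul_mul_mul_comm, h1, h2, mul_one]
      · intro x _ h1
        rw [inv_eq_of_mul_eq_one_left h1, h1]
    have hEp : IsPGroup 2 E := fun x => ⟨1, Subtype.ext (by rw [pow_one, pow_two]; exact hE2 x x.2)⟩
    have hE4 := Nat.le_of_dvd (by norm_num) (hS4 E hEp)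
    haveI := Fintype.ofFinite E
    have h5 : ({1, s, t, s * t, w} : Finset G) ⊆ Finset.univ.filter (· ∈ E) := by
      have h1 : s ∈ E := Subgroup.subset_closure (by simp)
      have h2 : t ∈ E := Subgroup.subset_closure (by simp)
      have h3 : w ∈ E := Subgroup.subset_closure (by simp)
      simp [Finset.insert_subset_iff, h1, h2, h3, mul_mem h1 h2]
    have h6 := Finset.card_le_card h5
    rw [← Fintype.card_subtype, ← Nat.card_eq_fintype_card] at h6
    have n1 : s ≠ 1 := fun e => by rw [e, orderOf_one] at hs2; omega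
    have n2 : t ≠ 1 := fun e => by rw [e, orderOf_one] at ht2; omega
    have n3 : w ≠ 1 := fun e => by rw [e, orderOf_one] at hw; omega
    have n4 : s * t ≠ 1 := fun e => by rw [e, orderOf_one] at hz; omega
    rw [Finset.card_insert_of_notMem (by simp only [Finset.mem_insert, Finset.mem_singleton]; push Not; exact ⟨n1.symm, n2.symm, n4.symm, n3.symm⟩),
      Finset.card_insert_of_notMem (by
        simp only [Finset.mem_insert, Finset.mem_singleton]; push Not
        exact ⟨hst, fun e => n2 (mul_eq_left.mp e.symm), hsw⟩),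
      Finset.card_insert_of_notMem (by
        simp only [Finset.mem_insert, Finset.mem_singleton]; push Not
        exact ⟨fun e => n1 (mul_eq_right.mp e.symm), fun e => hwt e.symm⟩),
      Finset.card_insert_of_notMem (by simp only [Finset.mem_singleton]; exact fun e => hwne e.symm),
      Finset.card_singleton] at h6
    change 5 ≤ Nat.card E at h6
    omega
  -- noncommuting pair
  set x := s * t with hx
  have hxinv : s * x * s⁻¹ = x⁻¹ := by rw [hx, mul_inv_rev, hsi, hti, ← mul_assoc, hs', one_mul]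
  have hxinvt : t * x * t⁻¹ = x⁻¹ := by rw [hx, mul_inv_rev, hsi, hti, mul_assoc, mul_assoc, ht', mul_one]
  have hx2 : x * x ≠ 1 := fun e => hc (by
    show s * t = t * s
    calc s * t = x⁻¹ := eq_inv_of_mul_eq_one_left e
      _ = t * s := by rw [hx, mul_inv_rev, hsi, hti])
  -- existence
  obtain ⟨w, hw, hwx⟩ : ∃ w : G, orderOf w = 2 ∧ Commute w x ∧ Commute s w := by
    by_cases hev : 2 ∣ orderOf x
    · obtain ⟨o, ho⟩ := hev
      have ho0 : o ≠ 0 := fun e => by rw [e, mul_zero] at ho; exact (orderOf_pos x).ne' ho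
      have h1 : orderOf (x ^ o) = 2 := by
        rw [orderOf_pow_of_dvd ho0 (ho ▸ dvd_mul_left o 2), ho, Nat.mul_div_cancel _ (Nat.pos_of_ne_zero ho0)]
      refine ⟨x ^ o, h1, (Commute.refl x).pow_left o, ?_⟩
      have h2 : s * x ^ o * s⁻¹ = x ^ o := by
        rw [← conj_pow, hxinv, inv_pow]
        exact inv_eq_of_mul_eq_one_left (by rw [← pow_two, ← h1, pow_orderOf_eq_one])
      exact mul_inv_eq_iff_eq_mul.mp h2
    · have hox : orderOf x ≠ 1 := fun e => by
        rw [orderOf_eq_one_iff] at e; exact hx2 (by rw [e, mul_one])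
      -- only the prime 3
      have h3 : ∀ d, d.Prime → d ∣ orderOf x → d = 3 := by
        intro d hd hdx
        set y := x ^ (orderOf x / d)
        have hy : orderOf y = d := orderOf_pow_orderOf_div (orderOf_pos x).ne' hdx
        set H := Subgroup.normalizer (Subgroup.zpowers y : Set G)
        have hsH : s ∈ H := by
          have hsy : s * y * s⁻¹ = y⁻¹ := by simp only [y]; rw [← conj_pow, hxinv, inv_pow]
          rw [Subgroup.mem_normalizer_iff]
          intro z
          constructor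
          · rintro ⟨i, rfl⟩
            exact ⟨-i, by simp only; rw [← conj_zpow, hsy, inv_zpow, zpow_neg]⟩
          · rintro ⟨i, hi⟩
            refine ⟨-i, ?_⟩
            have hi' : y ^ i = s * z * s⁻¹ := hi
            calc y ^ (-i) = s⁻¹ * (s * y ^ (-i) * s⁻¹) * s := by group
              _ = s⁻¹ * (y ^ i) * s := by rw [← conj_zpow, hsy, inv_zpow, zpow_neg, inv_inv]
              _ = z := by rw [hi']; group
        have hHne : H ≠ ⊤ := fun e => by
          rcases hs.eq_bot_or_eq_top_of_normal _ (Subgroup.normalizer_eq_top_iff.mp e) with e' | e'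
          · rw [Subgroup.zpowers_eq_bot] at e'
            rw [e', orderOf_one] at hy
            exact hd.ne_one hy.symm
          · have h4 : Nat.card G = d := by rw [← hy, ← Nat.card_zpowers, e', Subgroup.card_top]
            have h5 : Nat.card N ∣ d := h4 ▸ Subgroup.card_subgroup_dvd_card N
            have := (Nat.dvd_prime hd).mp h5
            rw [hN] at this
            rcases this with e'' | e''
            · omega
            · exact (Nat.not_prime_mul (show 4 ≠ 1 by norm_num) (show m ≠ 1 by omega)) (e''.symm ▸ hd)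
        have h4 := heven H hHne (hs2 ▸ (Subgroup.orderOf_mk s hsH ▸ orderOf_dvd_natCard (⟨s, hsH⟩ : H)))
        have hyd : d ∣ Nat.card H := by
          rw [← hy]
          exact Subgroup.orderOf_mk y (Subgroup.le_normalizer (Subgroup.mem_zpowers y)) ▸ orderOf_dvd_natCard (⟨y, Subgroup.le_normalizer (Subgroup.mem_zpowers y)⟩ : H)
        rcases hd.dvd_mul.mp (hyd.trans h4) with e | e
        · have : d = 2 := (Nat.prime_dvd_prime_iff_eq hd Nat.prime_two).mp (hd.dvd_of_dvd_pow (show d ∣ 2 ^ 2 from e))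
          exact absurd (this ▸ hdx) hev
        · rw [ha'] at e
          exact (Nat.prime_dvd_prime_iff_eq hd Nat.prime_three).mp (hd.dvd_of_dvd_pow e)
      have hxp := Nat.eq_prime_pow_of_unique_prime_dvd (orderOf_pos x).ne' (p := 3) fun {d} hd hdx => h3 d hd hdx
      obtain ⟨P', hP'⟩ := (IsPGroup.of_card (p := 3) (G := Subgroup.zpowers x) (by rw [Nat.card_zpowers]; exact hxp)).exists_le_sylow
      obtain ⟨g, hg⟩ := MulAction.exists_smul_eq G P P'
      have hxP : x ∈ (P' : Subgroup G) := hP' (Subgroup.mem_zpowers x)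
      rw [← hg, Sylow.coe_subgroup_smul, Subgroup.pointwise_smul_def] at hxP
      obtain ⟨z, hz, hzx⟩ := hxP
      have hzx' : g * z * g⁻¹ = x := hzx
      refine ⟨g * u * g⁻¹, ((MulAut.conj g).orderOf_eq u).trans huo, ?_, ?_⟩
      · rw [← hzx']
        exact (huP' z hz).symm.map (MulAut.conj g).toMonoidHom
      · have hz1 : z ≠ 1 := fun e => by rw [← hzx', e] at hx2; simp at hx2
        have h5 : (g⁻¹ * s * g) * z * (g⁻¹ * s * g)⁻¹ ∈ C := by
          rw [show (g⁻¹ * s * g) * z * (g⁻¹ * s * g)⁻¹ = g⁻¹ * (s * (g * z * g⁻¹) * s⁻¹) * g by group, hzx', hxinv, ← hzx',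
            show g⁻¹ * (g * z * g⁻¹)⁻¹ * g = z⁻¹ by group]
          exact inv_mem (hPC hz)
        have h6 := (hTIu _ z (hPC hz) h5 hz1).map (MulAut.conj g).toMonoidHom
        have e : (MulAut.conj g).toMonoidHom (g⁻¹ * s * g) = s := by
          show g * (g⁻¹ * s * g) * g⁻¹ = s
          group
        rw [e] at h6
        exact h6
  obtain ⟨hwx, hsw⟩ := hwx
  have htw : Commute w t := by
    have : t = s * x := by rw [hx, ← mul_assoc, hs', one_mul]
    rw [this]
    exact hsw.symm.mul_right hwx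
  have hws : s ≠ w := fun e => hx2 (by
    subst e
    have := hwx.eq
    calc x * x = x * (s * x * s⁻¹)⁻¹ := by rw [hxinv, inv_inv]
      _ = 1 := by rw [this, mul_inv_cancel_right, mul_inv_cancel])
  refine ⟨⟨w, hw⟩, ⟨⟨hws, hsw⟩, fun e => hc ?_, htw⟩, ?_⟩
  · have e' : w = t := e
    exact e' ▸ hsw
  rintro ⟨w', hw'⟩ ⟨⟨hsw', hcsw'⟩, hw't, hcw't⟩
  refine Subtype.ext ?_
  show w' = w
  -- both conjugates of C contain the square of x
  have key : ∀ w : G, orderOf w = 2 → s ≠ w → w ≠ t → Commute s w → Commute w t →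
      ∀ g : G, w = g * u * g⁻¹ → g⁻¹ * x * g ∈ C := by
    intro w hw n1 n2 c1 c2 g hg
    have tr : ∀ s : G, orderOf s = 2 → s ≠ w → Commute s w → g⁻¹ * s * g ∈ N ∧ g⁻¹ * s * g ∉ C := by
      intro s hs2 n c
      refine hinvC _ (by rw [show g⁻¹ * s * g = MulAut.conj g⁻¹ s by simp, MulEquiv.orderOf_eq, hs2]) (fun e => n ?_) ?_
      · rw [hg, ← e]; group
      · have h := c.map (MulAut.conj g⁻¹).toMonoidHom
        have e : (MulAut.conj g⁻¹).toMonoidHom w = u := by
          show g⁻¹ * w * g⁻¹⁻¹ = u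
          rw [hg]; group
        rw [e] at h
        simpa using h
    obtain ⟨a1, a2⟩ := tr s hs2 n1 c1
    obtain ⟨b1, b2⟩ := tr t ht2 (Ne.symm n2) c2.symm
    have h := (Subgroup.mul_mem_iff_of_index_two hCidx (a := (⟨_, a1⟩ : N)) (b := ⟨_, b1⟩)).mpr (iff_of_false a2 b2)
    have h' : g⁻¹ * s * g * (g⁻¹ * t * g) ∈ C := h
    rwa [show g⁻¹ * s * g * (g⁻¹ * t * g) = g⁻¹ * x * g by rw [hx]; group] at h'
  obtain ⟨g, hg⟩ := hclass w hw
  obtain ⟨g', hg'⟩ := hclass w' hw'
  have k1 := key w hw hws (fun e => hc (e ▸ hsw)) hsw htw g hg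
  have k2 := key w' hw' hsw' hw't hcsw' hcw't g' hg'
  have h7 := hTIu (g⁻¹ * g') (g'⁻¹ * x * g') k2
    (by rw [show g⁻¹ * g' * (g'⁻¹ * x * g') * (g⁻¹ * g')⁻¹ = g⁻¹ * x * g by group]; exact k1)
    (fun e => hx2 (by
      have : x = 1 := by
        calc x = g' * (g'⁻¹ * x * g') * g'⁻¹ := by group
          _ = 1 := by rw [e]; group
      rw [this, mul_one]))
  rw [hg, hg']
  calc g' * u * g'⁻¹ = g * ((g⁻¹ * g') * u) * g'⁻¹ := by group
    _ = g * u * g⁻¹ := by rw [h7.eq]; group

theorem result {G : Type*} [Group G] [Finite G]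
    (P : Sylow 3 G) (hab : IsMulCommutative P)
    (hN : Nat.card (Subgroup.normalizer ((P : Subgroup G) : Set G)) = 4 * Nat.card P)
    (hC : Nat.card (Subgroup.centralizer (P : Set G)) = 2 * Nat.card P)
    (hTI : Cfsg.IsTISubset (Subgroup.centralizer (P : Set G) : Set G))
    (heven : ∀ H : Subgroup G, H ≠ ⊤ → 2 ∣ Nat.card H → Nat.card H ∣ 4 * Nat.card P) :
    ¬ IsSimpleGroup G :=
  fun hs => main P hab hN hC hTI heven hs

end Cfsg.Agent.S4018
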