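import Cfsg.Agent.Lib.EqualOrderConj.Extraspecial
import Cfsg.Prelude.Def_Transfer

set_option autoImplicit false
open Cfsg

namespace Cfsg.Agent.S4020

/-- Let G be a finite group in which, for every prime p, any two p-subgroups of the same order are conjugate. Then every Sylow subgroup of G is cyclic, elementary abelian, or a quaternion group of order 8. -/
theorem result {G : Type*} [Group G] [Finite G]
    (hD : ∀ p : ℕ, p.Prime → ∀ H K : Subgroup G, IsPGroup p H → IsPGroup p K → Nat.card H = Nat.card K →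
      ∃ g : G, K = H.map (MulAut.conj g).toMonoidHom) {p : ℕ} [Fact p.Prime] (P : Sylow p G) :
    IsCyclic P ∨ Cfsg.IsElementaryAbelian p (P : Subgroup G) ∨ Nonempty ((P : Subgroup G) ≃* QuaternionGroup 2) := by
  have key : ∀ (q : ℕ) [Fact q.Prime] (Q : Sylow q G), IsCyclic (Q : Subgroup G) ∨
      (q = 2 ∧ Nonempty ((Q : Subgroup G) ≃* QuaternionGroup 2)) ∨
      (IsMulCommutative (Q : Subgroup G) ∧ ∀ x : (Q : Subgroup G), x ^ q = 1) ∨
      (q ≠ 2 ∧ Nat.card (Q : Subgroup G) = q ^ 3 ∧ ¬ IsMulCommutative (Q : Subgroup G) ∧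
        ∀ x : (Q : Subgroup G), x ^ q = 1) := by
    intro q hq Q
    refine CfsgLib.EqualOrderConj.shape Q.2 fun H K hHK => ?_
    obtain ⟨g, hg⟩ := hD q hq.out (H.map (Q : Subgroup G).subtype) (K.map (Q : Subgroup G).subtype)
      (Q.2.to_le (Subgroup.map_subtype_le _)) (Q.2.to_le (Subgroup.map_subtype_le _))
      (by rw [Subgroup.card_map_of_injective (Q : Subgroup G).subtype_injective,
        Subgroup.card_map_of_injective (Q : Subgroup G).subtype_injective, hHK])
    exact ⟨((Subgroup.equivMapOfInjective H _ (Q : Subgroup G).subtype_injective).trans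
      (Subgroup.equivMapOfInjective _ _ (MulAut.conj g).injective)).trans
      ((MulEquiv.subgroupCongr hg.symm).trans
        (Subgroup.equivMapOfInjective K _ (Q : Subgroup G).subtype_injective).symm)⟩
  have hT : ∀ S : Sylow 2 G, ∀ a ∈ (S : Subgroup G), ∀ b ∈ (S : Subgroup G),
      a * b = b * a ∨ a * b = b * a * (a * a) := by
    intro S a ha b hb
    haveI : Fact (Nat.Prime 2) := ⟨Nat.prime_two⟩
    have hcomm : IsMulCommutative (S : Subgroup G) → a * b = b * a := fun h =>
      congrArg Subtype.val (mul_comm' (⟨a, ha⟩ : (S : Subgroup G)) ⟨b, hb⟩)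
    rcases key 2 S with h | ⟨-, ⟨e⟩⟩ | ⟨h, -⟩ | ⟨h, -⟩
    · exact Or.inl (hcomm ⟨⟨fun u v => IsCyclic.commGroup.mul_comm u v⟩⟩)
    · have hq : ∀ u v : QuaternionGroup 2, u * v = v * u ∨ u * v = v * u * (u * u) := by decide
      rcases hq (e ⟨a, ha⟩) (e ⟨b, hb⟩) with h | h
      · rw [← map_mul, ← map_mul] at h
        exact Or.inl (congrArg Subtype.val (e.injective h))
      · rw [← map_mul, ← map_mul, ← map_mul, ← map_mul] at h
        exact Or.inr (congrArg Subtype.val (e.injective h))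
    · exact Or.inl (hcomm h)
    · exact absurd rfl h
  rcases key p P with h | ⟨-, h⟩ | ⟨h, hexp⟩ | ⟨h2, hc, hna, hexp⟩
  · exact Or.inl h
  · exact Or.inr (Or.inr h)
  · exact Or.inr (Or.inl ⟨h, fun a ha => congrArg Subtype.val (hexp ⟨a, ha⟩)⟩)
  · exact ((⟨h2, hc, hna, fun x hx => congrArg Subtype.val (hexp ⟨x, hx⟩)⟩ :
      CfsgLib.EqualOrderConj.Cube P).false_of_two (hD p Fact.out) hT).elim

end Cfsg.Agent.S4020
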