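import Cfsg.Statements.S4023
import Cfsg.Agent.S3908
import Cfsg.Agent.Lib.PGroup.NormalSub
import Cfsg.Agent.Lib.Coprime.Action

set_option autoImplicit false
set_option linter.style.haveILetI false
open Cfsg

namespace Cfsg.Agent.S4023

open scoped commutatorElement Pointwise

theorem exponent_prime {G : Type*} [Group G] [Finite G] {p : ℕ} [Fact p.Prime]
    (hC : ∀ H K : Subgroup G, IsPGroup p H → IsPGroup p K → Nat.card H = Nat.card K →
      ∃ g : G, K = H.map (MulAut.conj g).toMonoidHom)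
    (P : Subgroup G) (hP : IsPGroup p P) {H K : Subgroup P}
    (hH : Nat.card H = p) (hK : Nat.card K = p) (hne : H ≠ K) : ∀ x : P, x ^ p = 1 := by
  have hp : p.Prime := Fact.out
  obtain ⟨E, -, hEe, hEcard⟩ := Cfsg.Agent.S3908.exists_central_pair hP hH hK hne
  intro x
  by_contra hxp
  obtain ⟨k, hk⟩ := IsPGroup.iff_orderOf.mp hP x
  have hk2 : 2 ≤ k := by
    by_contra h
    refine hxp (orderOf_dvd_iff_pow_eq_one.mp ?_)
    rw [hk]
    exact (pow_dvd_pow p (show k ≤ 1 by omega)).trans (pow_one p).dvd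
  set y := x ^ p ^ (k - 2) with hy
  have hyo : orderOf y = p ^ 2 := by
    rw [hy, orderOf_pow_of_dvd (pow_ne_zero _ hp.ne_zero) (hk ▸ pow_dvd_pow p (by omega)), hk,
      Nat.pow_div (by omega) hp.pos, show k - (k - 2) = 2 by omega]
  obtain ⟨g, hg⟩ := hC (E.map P.subtype) (Subgroup.zpowers (y : G))
    ((hP.to_subgroup E).map _) (IsPGroup.of_card (by rw [Nat.card_zpowers, Subgroup.orderOf_coe, hyo]))
    (by rw [Subgroup.card_map_of_injective P.subtype_injective, hEcard, Nat.card_zpowers, Subgroup.orderOf_coe, hyo])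
  have hym : (y : G) ∈ (E.map P.subtype).map (MulAut.conj g).toMonoidHom := hg ▸ Subgroup.mem_zpowers _
  obtain ⟨_, ⟨e, he, rfl⟩, hey⟩ := hym
  have h2 : y ^ p = 1 := Subtype.ext (by
    rw [SubgroupClass.coe_pow, ← hey, ← map_pow, ← map_pow, hEe e he, map_one, map_one]; rfl)
  rw [← orderOf_dvd_iff_pow_eq_one, hyo, pow_two] at h2
  have := Nat.le_of_dvd hp.pos h2
  nlinarith [hp.two_le]

theorem exists_abelian_cube {P : Type*} [Group P] [Finite P] {p : ℕ} [Fact p.Prime] (hP : IsPGroup p P)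
    {n : ℕ} (hn : Nat.card P = p ^ n) (h4 : 4 ≤ n) (hexp : ∀ x : P, x ^ p = 1) :
    ∃ A : Subgroup P, IsMulCommutative A ∧ Nat.card A = p ^ 3 := by
  have hp : p.Prime := Fact.out
  haveI := hP.isNilpotent
  obtain ⟨W, hWn, -, hWc⟩ := CfsgLib.CyclicMax.exists_normal_le_card_pow hP (n - 2) (j := 2) (⊤ : Subgroup P)
    inferInstance (by rw [Subgroup.card_top, hn]; congr 1; omega)
  haveI := hWn
  have hlt : ∀ U : Subgroup P, U.Normal → U ≠ ⊥ → ⁅U, (⊤ : Subgroup P)⁆ < U := fun U hU hne =>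
    CfsgLib.Coprime.commutator_lt_of_isNilpotent (X := (⊤ : Subgroup P)) le_top le_top
      (le_top.trans (Subgroup.normalizer_eq_top U).ge) hne
  set L := ⁅W, (⊤ : Subgroup P)⁆ with hL
  have hWne : W ≠ ⊥ := fun h => by
    rw [h, Subgroup.card_bot] at hWc
    exact (Nat.one_lt_pow two_ne_zero hp.one_lt).ne hWc
  have hLW : L < W := hlt W hWn hWne
  have hLc : Nat.card L ∣ p := by
    obtain ⟨j, hj2, hj⟩ := (Nat.dvd_prime_pow hp).mp (hWc ▸ Subgroup.card_dvd_of_le hLW.le)
    rw [hj]
    have : j ≠ 2 := fun e => hLW.ne (Subgroup.eq_of_le_of_card_ge hLW.le (by rw [hWc, hj, e]))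
    exact (pow_dvd_pow p (show j ≤ 1 by omega)).trans (pow_one p).dvd
  haveI hLn : L.Normal := by rw [hL]; infer_instance
  have hLcen : ∀ l ∈ L, ∀ x : P, x * l = l * x := by
    intro l hl x
    rcases eq_or_ne L ⊥ with h | h
    · rw [h, Subgroup.mem_bot] at hl; simp [hl]
    have h1 := hlt L hLn h
    have h2 : ⁅L, (⊤ : Subgroup P)⁆ = ⊥ := by
      rw [← Subgroup.card_eq_one]
      rcases (Nat.dvd_prime hp).mp ((Subgroup.card_dvd_of_le h1.le).trans hLc) with e | e
      · exact e
      · exfalso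
        refine h1.ne (Subgroup.eq_of_le_of_card_ge h1.le ?_)
        rw [e]; exact Nat.le_of_dvd hp.pos hLc
    exact (Subgroup.commutator_eq_bot_iff_le_centralizer.mp h2 hl x (Subgroup.mem_top x))
  obtain ⟨w, hw, hwL⟩ := SetLike.exists_of_lt hLW
  set C := Subgroup.centralizer ({w} : Set P) with hC
  have hCidx : C.index ≤ p := by
    refine le_trans ?_ (Nat.le_of_dvd hp.pos hLc)
    let φ : P ⧸ C → L := Quotient.lift (fun x => (⟨⁅w, x⁆⁻¹, inv_mem (Subgroup.commutator_mem_commutator hw (Subgroup.mem_top x))⟩ : L)) (by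
      intro x y hxy
      have hc := Subgroup.mem_centralizer_singleton_iff.mp (QuotientGroup.leftRel_apply.mp hxy : x⁻¹ * y ∈ C)
      refine Subtype.ext ?_
      show ⁅w, x⁆⁻¹ = ⁅w, y⁆⁻¹
      congr 1
      simp only [commutatorElement_def]
      calc w * x * w⁻¹ * x⁻¹ = w * x * (w⁻¹ * (x⁻¹ * y)) * y⁻¹ := by group
        _ = w * x * ((x⁻¹ * y) * w⁻¹) * y⁻¹ := by
          rw [(show Commute (x⁻¹ * y) w from hc).inv_right.eq]
        _ = w * y * w⁻¹ * y⁻¹ := by group)
    have hφ : Function.Injective φ := by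
      intro x y
      induction x using QuotientGroup.induction_on with
      | _ x =>
      induction y using QuotientGroup.induction_on with
      | _ y =>
      intro h
      have h' : ⁅w, x⁆⁻¹ = ⁅w, y⁆⁻¹ := congrArg Subtype.val h
      rw [inv_inj, commutatorElement_def, commutatorElement_def] at h'
      refine (QuotientGroup.eq (s := C)).mpr (Subgroup.mem_centralizer_singleton_iff.mpr ?_)
      have h2 : x * w⁻¹ * x⁻¹ = y * w⁻¹ * y⁻¹ := by
        simpa [mul_assoc] using congrArg (fun z => w⁻¹ * z) h'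
      calc x⁻¹ * y * w = x⁻¹ * (y * w⁻¹ * y⁻¹)⁻¹ * y := by group
        _ = w * (x⁻¹ * y) := by rw [← h2]; group
    exact Nat.card_le_card_of_injective φ hφ
  have hWab : ∀ a ∈ W, ∀ b ∈ W, a * b = b * a := by
    haveI := IsPGroup.isMulCommutative_of_card_eq_prime_sq hWc
    exact fun a ha b hb => congrArg Subtype.val (mul_comm' (⟨a, ha⟩ : W) ⟨b, hb⟩)
  obtain ⟨x, hxW, hxc⟩ : ∃ x, x ∉ W ∧ ∀ b ∈ W, x * b = b * x := by
    rcases (Nat.dvd_prime hp).mp hLc with e | e
    · have hWlt : W < ⊤ := lt_top_iff_ne_top.mpr fun e1 => by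
        rw [e1, Subgroup.card_top, hn] at hWc
        have := Nat.pow_right_injective hp.two_le hWc
        omega
      obtain ⟨x, -, hx⟩ := SetLike.exists_of_lt hWlt
      exact ⟨x, hx, fun b hb => (Subgroup.commutator_eq_bot_iff_le_centralizer.mp (Subgroup.card_eq_one.mp e) hb x (Subgroup.mem_top x))⟩
    · have hwo : orderOf w = p := orderOf_eq_prime (hexp w) (fun e1 => hwL (e1 ▸ one_mem L))
      have hd : L ⊓ Subgroup.zpowers w = ⊥ := by
        haveI : Fact (Nat.card (Subgroup.zpowers w)).Prime := ⟨by rw [Nat.card_zpowers, hwo]; exact hp⟩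
        rcases (L.subgroupOf (Subgroup.zpowers w)).eq_bot_or_eq_top_of_prime_card with h | h
        · rw [Subgroup.subgroupOf_eq_bot, disjoint_iff] at h
          exact h
        · exact absurd (Subgroup.subgroupOf_eq_top.mp h (Subgroup.mem_zpowers w)) hwL
      have hwW : L ⊔ Subgroup.zpowers w = W := by
        refine Subgroup.eq_of_le_of_card_ge (sup_le hLW.le (Subgroup.zpowers_le.mpr hw)) ?_
        rw [CfsgLib.Coprime.card_sup_of_normalizer (le_top.trans (Subgroup.normalizer_eq_top L).ge) hd, e,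
          Nat.card_zpowers, hwo, hWc, pow_two]
      have hCW : ¬ C ≤ W := fun hle => by
        have h1 := C.card_mul_index
        rw [hn] at h1
        have h2 : Nat.card C ≤ p ^ 2 := hWc ▸ Subgroup.card_le_of_le hle
        have h3 : p ^ n ≤ p ^ 2 * p := h1 ▸ Nat.mul_le_mul h2 hCidx
        rw [← pow_succ] at h3
        have := (Nat.pow_le_pow_iff_right hp.one_lt).mp h3
        omega
      obtain ⟨x, hxC, hxW⟩ := SetLike.not_le_iff_exists.mp hCW
      have hle : W ≤ Subgroup.centralizer ({x} : Set P) := by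
        rw [← hwW]
        refine sup_le (fun l hl => Subgroup.mem_centralizer_singleton_iff.mpr (hLcen l hl x).symm)
          (Subgroup.zpowers_le.mpr (Subgroup.mem_centralizer_singleton_iff.mpr ?_))
        exact (Subgroup.mem_centralizer_singleton_iff.mp hxC).symm
      exact ⟨x, hxW, fun b hb => (Subgroup.mem_centralizer_singleton_iff.mp (hle hb)).symm⟩
  have hxo : orderOf x = p := orderOf_eq_prime (hexp x) (fun e1 => hxW (e1 ▸ one_mem W))
  refine ⟨W ⊔ Subgroup.zpowers x, ⟨⟨?_⟩⟩, ?_⟩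
  · rintro ⟨a, ha⟩ ⟨b, hb⟩
    obtain ⟨a1, ha1, a2, ⟨i, rfl⟩, rfl⟩ := Subgroup.mem_sup_of_normal_left.mp ha
    obtain ⟨b1, hb1, b2, ⟨j, rfl⟩, rfl⟩ := Subgroup.mem_sup_of_normal_left.mp hb
    have ca : ∀ c ∈ W, ∀ m : ℤ, Commute c (x ^ m) := fun c hc m => (show Commute x c from hxc c hc).symm.zpow_right m
    exact Subtype.ext (((show Commute a1 b1 from hWab a1 ha1 b1 hb1).mul_right (ca a1 ha1 j)).mul_left
      ((ca b1 hb1 i).symm.mul_right (Commute.zpow_zpow_self x i j))).eq
  · have hd : W ⊓ Subgroup.zpowers x = ⊥ := by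
      haveI : Fact (Nat.card (Subgroup.zpowers x)).Prime := ⟨by rw [Nat.card_zpowers, hxo]; exact hp⟩
      rcases (W.subgroupOf (Subgroup.zpowers x)).eq_bot_or_eq_top_of_prime_card with h | h
      · rw [Subgroup.subgroupOf_eq_bot, disjoint_iff] at h
        exact h
      · exact absurd (Subgroup.subgroupOf_eq_top.mp h (Subgroup.mem_zpowers x)) hxW
    rw [CfsgLib.Coprime.card_sup_of_normalizer (le_top.trans (Subgroup.normalizer_eq_top W).ge) hd, hWc,
      Nat.card_zpowers, hxo, ← pow_succ]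

theorem exists_nonabelian_cube {P : Type*} [Group P] [Finite P] {p : ℕ} [Fact p.Prime] (hP : IsPGroup p P)
    (hexp : ∀ x : P, x ^ p = 1) (hab : ¬ IsMulCommutative P) :
    ∃ B : Subgroup P, ¬ IsMulCommutative B ∧ Nat.card B = p ^ 3 := by
  have hp : p.Prime := Fact.out
  haveI : Nontrivial (P ⧸ Subgroup.center P) := QuotientGroup.nontrivial_iff.mpr fun h =>
    hab ⟨⟨fun a b => (Subgroup.mem_center_iff.mp (h ▸ Subgroup.mem_top a) b).symm⟩⟩
  haveI := (hP.to_quotient (Subgroup.center P)).center_nontrivial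
  obtain ⟨⟨yb, hyb⟩, hy1⟩ := exists_ne (1 : Subgroup.center (P ⧸ Subgroup.center P))
  obtain ⟨y, rfl⟩ := QuotientGroup.mk'_surjective (Subgroup.center P) yb
  have hyc : y ∉ Subgroup.center P := fun h => hy1 (Subtype.ext ((QuotientGroup.eq_one_iff y).mpr h))
  obtain ⟨x, hx⟩ : ∃ x, x * y ≠ y * x := by
    by_contra h
    push Not at h
    exact hyc (Subgroup.mem_center_iff.mpr h)
  set z := ⁅x, y⁆ with hz
  have hzc : z ∈ Subgroup.center P := by
    rw [← QuotientGroup.eq_one_iff]
    show QuotientGroup.mk' _ ⁅x, y⁆ = 1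
    rw [map_commutatorElement, commutatorElement_eq_one_iff_mul_comm]
    exact Subgroup.mem_center_iff.mp hyb _
  have hz1 : z ≠ 1 := fun h => hx (commutatorElement_eq_one_iff_mul_comm.mp h)
  have hpr : ∀ w : P, w ≠ 1 → Nat.card (Subgroup.zpowers w) = p := fun w hw => by
    rw [Nat.card_zpowers, orderOf_eq_prime (hexp w) hw]
  have hdisj : ∀ (U : Subgroup P) (w : P), w ∉ U → U ⊓ Subgroup.zpowers w = ⊥ := fun U w hw => by
    haveI : Fact (Nat.card (Subgroup.zpowers w)).Prime := ⟨by rw [hpr w (fun e => hw (e ▸ one_mem U))]; exact hp⟩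
    rcases (U.subgroupOf (Subgroup.zpowers w)).eq_bot_or_eq_top_of_prime_card with h | h
    · rw [Subgroup.subgroupOf_eq_bot, disjoint_iff] at h
      exact h
    · exact absurd (Subgroup.subgroupOf_eq_top.mp h (Subgroup.mem_zpowers w)) hw
  set Z := Subgroup.zpowers z
  haveI : Z.Normal := ⟨fun a ha g => by
    rw [Subgroup.mem_center_iff.mp (Subgroup.zpowers_le.mpr hzc ha) g, mul_inv_cancel_right]; exact ha⟩
  have hyZ : y ∉ Z := fun h => hyc (Subgroup.zpowers_le.mpr hzc h)
  have hA : Nat.card ↥(Z ⊔ Subgroup.zpowers y) = p * p := by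
    rw [CfsgLib.Coprime.card_sup_of_normalizer (le_top.trans (Subgroup.normalizer_eq_top Z).ge) (hdisj Z y hyZ),
      hpr z hz1, hpr y fun e => hyc (e ▸ one_mem _)]
  have hcy : Z ⊔ Subgroup.zpowers y ≤ Subgroup.centralizer ({y} : Set P) :=
    sup_le (Subgroup.zpowers_le.mpr (Subgroup.mem_centralizer_singleton_iff.mpr (Subgroup.mem_center_iff.mp hzc y).symm))
      (Subgroup.zpowers_le.mpr (Subgroup.mem_centralizer_singleton_iff.mpr rfl))
  have hxA : x ∉ Z ⊔ Subgroup.zpowers y := fun h => hx (Subgroup.mem_centralizer_singleton_iff.mp (hcy h))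
  have hnorm : Subgroup.zpowers x ≤ Subgroup.normalizer ((Z ⊔ Subgroup.zpowers y : Subgroup P) : Set P) := by
    refine Subgroup.zpowers_le.mpr ?_
    rw [CfsgLib.Coprime.mem_normalizer_iff_conj_smul]
    refine Subgroup.eq_of_le_of_card_ge ?_ (by rw [CfsgLib.Coprime.card_conj_smul])
    rintro _ ⟨a, ha, rfl⟩
    obtain ⟨a1, ha1, a2, ⟨i, rfl⟩, rfl⟩ := Subgroup.mem_sup_of_normal_left.mp ha
    show x * (a1 * y ^ i) * x⁻¹ ∈ _
    have e1 : x * y * x⁻¹ = z * y := by rw [hz, commutatorElement_def]; group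
    rw [show x * (a1 * y ^ i) * x⁻¹ = (x * a1 * x⁻¹) * (x * y ^ i * x⁻¹) by group, ← conj_zpow, e1]
    exact mul_mem (Subgroup.mem_sup_left (Subgroup.Normal.conj_mem inferInstance a1 ha1 x))
      (zpow_mem (mul_mem (Subgroup.mem_sup_left (Subgroup.mem_zpowers z)) (Subgroup.mem_sup_right (Subgroup.mem_zpowers y))) i)
  refine ⟨(Z ⊔ Subgroup.zpowers y) ⊔ Subgroup.zpowers x, fun hc => ?_, ?_⟩
  · haveI := hc
    exact hx (congrArg Subtype.val (mul_comm'
      (⟨x, Subgroup.mem_sup_right (Subgroup.mem_zpowers x)⟩ : ↥((Z ⊔ Subgroup.zpowers y) ⊔ Subgroup.zpowers x))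
      ⟨y, Subgroup.mem_sup_left (Subgroup.mem_sup_right (Subgroup.mem_zpowers y))⟩))
  · rw [CfsgLib.Coprime.card_sup_of_normalizer hnorm (hdisj _ x hxA), hA, hpr x fun e => hx (by rw [e]; group)]
    ring

/-- Let p be a prime and G a finite group in which any two p-subgroups of the same order are conjugate, with Sylow p-subgroup P. Then P is cyclic, or elementary abelian, or p = 2 and P is a quaternion group of order 8, or p is odd and P is non-abelian of order p³ and exponent p. -/
theorem result {G : Type*} [Group G] [Finite G]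
    {p : ℕ} [Fact p.Prime] (hC : ∀ H K : Subgroup G, IsPGroup p H → IsPGroup p K → Nat.card H = Nat.card K →
      ∃ g : G, K = H.map (MulAut.conj g).toMonoidHom) (P : Sylow p G) :
    IsCyclic P ∨ Cfsg.IsElementaryAbelian p (P : Subgroup G) ∨
      (p = 2 ∧ Nonempty ((P : Subgroup G) ≃* QuaternionGroup 2)) ∨
      (p ≠ 2 ∧ ¬ IsMulCommutative P ∧ Nat.card P = p ^ 3 ∧ Monoid.exponent P = p) := by
  classical
  have hp : p.Prime := Fact.out
  by_cases huniq : ∀ H K : Subgroup (P : Subgroup G), Nat.card H = p → Nat.card K = p → H = K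
  · by_cases hp2 : p = 2
    · subst hp2
      rcases CfsgLib.ZStar.cyclic_or_quaternion P.2 (fun x y hx hy => by
          have h := huniq (Subgroup.zpowers x) (Subgroup.zpowers y) (by rw [Nat.card_zpowers, hx]) (by rw [Nat.card_zpowers, hy])
          obtain ⟨i, hi⟩ : x ∈ Subgroup.zpowers y := h ▸ Subgroup.mem_zpowers x
          simp only at hi
          have hb2 : y ^ (2 : ℤ) = 1 := by rw [zpow_ofNat]; exact orderOf_dvd_iff_pow_eq_one.mp hy.dvd
          rcases Int.even_or_odd i with ⟨j, rfl⟩ | ⟨j, rfl⟩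
          · rw [← two_mul, zpow_mul, hb2, one_zpow] at hi
            rw [← hi, orderOf_one] at hx
            omega
          · rw [zpow_add, zpow_mul, hb2, one_zpow, one_mul, zpow_one] at hi
            exact hi.symm) with hc | ⟨k, ⟨e⟩⟩
      · exact Or.inl hc
      haveI : NeZero (2 ^ k) := ⟨by positivity⟩
      rcases (show k = 0 ∨ k = 1 ∨ 2 ≤ k by omega) with rfl | rfl | hk
      · refine Or.inl (isCyclic_of_orderOf_eq_card (e.symm (QuaternionGroup.xa 0)) ?_)
        rw [MulEquiv.orderOf_eq, QuaternionGroup.orderOf_xa, Nat.card_congr e.toEquiv,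
          Nat.card_eq_fintype_card, QuaternionGroup.card]
        norm_num
      · rw [pow_one] at e
        exact Or.inr (Or.inr (Or.inl ⟨rfl, ⟨e⟩⟩))
      exfalso
      obtain ⟨k, rfl⟩ : ∃ j, k = j + 2 := ⟨k - 2, by omega⟩
      set f : QuaternionGroup (2 ^ (k + 2)) →* G := (P : Subgroup G).subtype.comp e.symm.toMonoidHom
      have hf : Function.Injective f := fun u v h => e.symm.injective (Subtype.ext h)
      set a1 : QuaternionGroup (2 ^ (k + 2)) := QuaternionGroup.a 1
      have ho : orderOf a1 = 2 ^ (k + 3) := by rw [QuaternionGroup.orderOf_a_one]; ring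
      have h8 : orderOf (a1 ^ 2 ^ k) = 2 * 4 := by
        rw [orderOf_pow_of_dvd (by positivity) (ho ▸ pow_dvd_pow 2 (by omega)), ho, Nat.pow_div (by omega) two_pos,
          show k + 3 - k = 3 by omega]
        norm_num
      have h4 : orderOf (a1 ^ 2 ^ (k + 1)) = 2 * 2 := by
        rw [orderOf_pow_of_dvd (by positivity) (ho ▸ pow_dvd_pow 2 (by omega)), ho, Nat.pow_div (by omega) two_pos,
          show k + 3 - (k + 1) = 2 by omega]
        norm_num
      have hx0 : QuaternionGroup.xa (0 : ZMod (2 * 2 ^ (k + 2))) ∉ Subgroup.zpowers (a1 ^ 2 ^ (k + 1)) := by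
        intro h
        have h' := Subgroup.zpowers_le.mpr (pow_mem (Subgroup.mem_zpowers a1) (2 ^ (k + 1))) h
        rw [← mem_powers_iff_mem_zpowers] at h'
        obtain ⟨i, hi⟩ := h'
        simp only at hi
        rw [QuaternionGroup.a_one_pow] at hi
        cases hi
      obtain ⟨F, hF, -⟩ := CfsgLib.Classical.exists_quaternion_hom (n := 2) h4
        (w := QuaternionGroup.xa (0 : ZMod (2 * 2 ^ (k + 2)))) (by
          rw [← pow_mul, QuaternionGroup.a_one_pow, QuaternionGroup.xa_mul_xa]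
          congr 1
          push_cast
          ring) (by
          rw [QuaternionGroup.a_one_pow, mul_inv_eq_iff_eq_mul, eq_inv_mul_iff_mul_eq, QuaternionGroup.xa_mul_a,
            QuaternionGroup.a_mul_xa]
          congr 1
          ring) hx0
      have hcard : Nat.card (Subgroup.zpowers (f (a1 ^ 2 ^ k))) = Nat.card (f.comp F).range := by
        rw [Nat.card_zpowers, orderOf_injective f hf, h8, ← Nat.card_congr (MonoidHom.ofInjective (show Function.Injective (f.comp F) from hf.comp hF)).toEquiv,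
          Nat.card_eq_fintype_card, QuaternionGroup.card]
      obtain ⟨g, hg⟩ := hC (Subgroup.zpowers (f (a1 ^ 2 ^ k))) (f.comp F).range
        (IsPGroup.of_card (n := 3) (by rw [Nat.card_zpowers, orderOf_injective f hf, h8]; norm_num))
        (IsPGroup.of_card (n := 3) (by rw [← hcard, Nat.card_zpowers, orderOf_injective f hf, h8]; norm_num)) hcard
      rw [MonoidHom.map_zpowers] at hg
      haveI : IsCyclic (f.comp F).range := by rw [hg]; infer_instance
      haveI : IsCyclic (QuaternionGroup 2) := isCyclic_of_injective (MonoidHom.ofInjective (show Function.Injective (f.comp F) from hf.comp hF)).toMonoidHom (MulEquiv.injective _)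
      haveI := IsCyclic.isMulCommutative (α := QuaternionGroup 2)
      exact absurd (mul_comm' (QuaternionGroup.a 1 : QuaternionGroup 2) (QuaternionGroup.xa 0)) (by decide)
    · exact Or.inl (CfsgLib.ZStar.cyclic_of_unique_subgroup hp2 P.2 huniq)
  push Not at huniq
  obtain ⟨H, K, hH, hK, hne⟩ := huniq
  have hexp := exponent_prime hC (P : Subgroup G) P.2 hH hK hne
  by_cases hab : IsMulCommutative (P : Subgroup G)
  · exact Or.inr (Or.inl ⟨hab, fun a ha => congrArg Subtype.val (hexp ⟨a, ha⟩)⟩)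
  obtain ⟨n, hn⟩ := IsPGroup.iff_card.mp P.2
  have hp2 : p ≠ 2 := by
    rintro rfl
    exact hab ⟨⟨fun a b => mul_comm_of_exponent_two (Nat.dvd_antisymm (Monoid.exponent_dvd_of_forall_pow_eq_one hexp) (by
      obtain ⟨x, hx⟩ : ∃ x : (P : Subgroup G), x ≠ 1 := by
        by_contra h
        push Not at h
        exact hab ⟨⟨fun a b => by rw [h a, h b]⟩⟩
      exact (orderOf_eq_prime (hexp x) hx).symm.dvd.trans (Monoid.order_dvd_exponent x))) a b⟩⟩
  refine Or.inr (Or.inr (Or.inr ⟨hp2, hab, ?_, ?_⟩))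
  · -- the order is `p ^ 3`
    obtain ⟨u, v, huv⟩ : ∃ u v : (P : Subgroup G), u * v ≠ v * u := by
      by_contra h
      push Not at h
      exact hab ⟨⟨h⟩⟩
    have hn3 : 3 ≤ n := by
      by_contra h
      rcases (show n = 0 ∨ n = 1 ∨ n = 2 by omega) with rfl | rfl | rfl
      · exact hab ⟨⟨fun a b => by
          haveI : Subsingleton (P : Subgroup G) := (Nat.card_eq_one_iff_unique.mp hn).1
          exact Subsingleton.elim _ _⟩⟩
      · haveI : IsCyclic (P : Subgroup G) := isCyclic_of_prime_card (hn.trans (pow_one p))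
        exact hab IsCyclic.isMulCommutative
      · exact hab (IsPGroup.isMulCommutative_of_card_eq_prime_sq hn)
    rw [hn]
    congr 1
    by_contra hn3'
    obtain ⟨A, hA, hAc⟩ := exists_abelian_cube P.2 hn (by omega) hexp
    -- a nonabelian subgroup of order `p ^ 3`
    haveI := P.2.isNilpotent
    obtain ⟨B, hBn, hBc⟩ : ∃ B : Subgroup (P : Subgroup G), ¬ IsMulCommutative B ∧ Nat.card B = p ^ 3 :=
      exists_nonabelian_cube P.2 hexp hab
    obtain ⟨g, hg⟩ := hC (A.map (P : Subgroup G).subtype) (B.map (P : Subgroup G).subtype)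
      ((P.2.to_subgroup A).map _) ((P.2.to_subgroup B).map _)
      (by rw [Subgroup.card_map_of_injective (P : Subgroup G).subtype_injective,
        Subgroup.card_map_of_injective (P : Subgroup G).subtype_injective, hAc, hBc])
    refine hBn ⟨⟨fun b c => Subtype.ext (Subtype.ext ?_)⟩⟩
    obtain ⟨_, ⟨a1, ha1, rfl⟩, e1⟩ : ((b : (P : Subgroup G)) : G) ∈ (A.map (P : Subgroup G).subtype).map (MulAut.conj g).toMonoidHom :=
      hg ▸ Subgroup.mem_map_of_mem _ b.2
    obtain ⟨_, ⟨a2, ha2, rfl⟩, e2⟩ : ((c : (P : Subgroup G)) : G) ∈ (A.map (P : Subgroup G).subtype).map (MulAut.conj g).toMonoidHom :=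
      hg ▸ Subgroup.mem_map_of_mem _ c.2
    show ((b : (P : Subgroup G)) : G) * _ = _ * _
    rw [← e1, ← e2, ← map_mul, ← map_mul, ← map_mul, ← map_mul]
    haveI := hA
    exact congrArg (fun t : A => MulAut.conj g ((t : (P : Subgroup G)) : G)) (mul_comm' (⟨a1, ha1⟩ : A) ⟨a2, ha2⟩)
  · exact Nat.dvd_antisymm (Monoid.exponent_dvd_of_forall_pow_eq_one hexp) (by
      obtain ⟨x, hx⟩ : ∃ x : (P : Subgroup G), x ≠ 1 := by
        by_contra h
        push Not at h
        exact hab ⟨⟨fun a b => by rw [h a, h b]⟩⟩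
      exact (orderOf_eq_prime (hexp x) hx).symm.dvd.trans (Monoid.order_dvd_exponent x))

end Cfsg.Agent.S4023
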