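import Cfsg.Statements.S4024
import Cfsg.Agent.Lib.PSolvable.Core
import Cfsg.Agent.Lib.PGroup.NormalRankTwo
-- import your own Cfsg.Agent.* helpers here

set_option autoImplicit false
open Cfsg

namespace Cfsg.Agent.S4024

/-- Let p be an odd prime and G a finite group in which any two p-subgroups of the same order are conjugate, with Sylow p-subgroup P. If H is a normal p-solvable subgroup of G whose order is divisible by p, then P is abelian, and either P ≤ H or P is cyclic. -/
theorem result {G : Type*} [Group G] [Finite G]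
    {p : ℕ} [Fact p.Prime] (hp : p ≠ 2) (hC : ∀ H K : Subgroup G, IsPGroup p H → IsPGroup p K → Nat.card H = Nat.card K →
      ∃ g : G, K = H.map (MulAut.conj g).toMonoidHom) (P : Sylow p G)
    (H : Subgroup G) [H.Normal] (hsolv : Cfsg.IsPSolvable p H) (hdiv : p ∣ Nat.card H) :
    IsMulCommutative P ∧ ((P : Subgroup G) ≤ H ∨ IsCyclic P) := by
  classical
  have hpr := (Fact.out : p.Prime)
  haveI : Finite (Subgroup G) := inferInstance
  -- a normal subgroup with order divisible by `p` contains all elements of order `p`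
  have key : ∀ (K : Subgroup G) [K.Normal], p ∣ Nat.card K → ∀ x : G, x ^ p = 1 → x ∈ K := by
    intro K _ hK x hx
    by_cases hx1 : x = 1
    · exact hx1 ▸ one_mem K
    obtain ⟨y, hy⟩ := exists_prime_orderOf_dvd_card' p hK
    have hxo : orderOf x = p := orderOf_eq_prime hx hx1
    have hyo : orderOf (y : G) = p := by rw [Subgroup.orderOf_coe, hy]
    have hyp : IsPGroup p (Subgroup.zpowers (y : G)) :=
      IsPGroup.of_card (n := 1) (by rw [Nat.card_zpowers, hyo, pow_one])
    have hxp : IsPGroup p (Subgroup.zpowers x) :=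
      IsPGroup.of_card (n := 1) (by rw [Nat.card_zpowers, hxo, pow_one])
    obtain ⟨g, hg⟩ := hC _ _ hyp hxp (by rw [Nat.card_zpowers, Nat.card_zpowers, hxo, hyo])
    have hmem : x ∈ (Subgroup.zpowers (y : G)).map (MulAut.conj g).toMonoidHom :=
      hg ▸ Subgroup.mem_zpowers x
    obtain ⟨z, hz, rfl⟩ := hmem
    exact Subgroup.Normal.conj_mem inferInstance z ((Subgroup.zpowers_le.mpr y.2) hz) g
  by_cases hcyc : IsCyclic P
  · exact ⟨⟨⟨fun a b => hcyc.isMulCommutative.1.1 a b⟩⟩, .inr hcyc⟩
  have hexp : ∀ x ∈ (P : Subgroup G), x ^ p = 1 := by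
    by_contra hne
    push Not at hne
    obtain ⟨x, hxP, hx⟩ := hne
    obtain ⟨A, -, -, hAe, hAc⟩ := CfsgLib.CyclicMax.exists_normal_rank_two P.2 hp ⊤
      inferInstance fun hc => hcyc (isCyclic_of_surjective Subgroup.topEquiv (MulEquiv.surjective _))
    obtain ⟨k, hk⟩ := P.2 ⟨x, hxP⟩
    have hk' : x ^ p ^ k = 1 := congrArg Subtype.val hk
    obtain ⟨j, -, hj⟩ := (Nat.dvd_prime_pow hpr).mp (orderOf_dvd_of_pow_eq_one hk')
    have hj2 : 2 ≤ j := by
      by_contra h
      exact hx (orderOf_dvd_iff_pow_eq_one.mp (by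
        rw [hj]
        exact (pow_dvd_pow p (show j ≤ 1 by omega)).trans (pow_one p).dvd))
    set z := x ^ p ^ (j - 2)
    have hzo : orderOf z = p ^ 2 := by
      rw [orderOf_pow_of_dvd (pow_ne_zero _ hpr.ne_zero) (hj ▸ pow_dvd_pow p (Nat.sub_le j 2)), hj,
        Nat.pow_div (Nat.sub_le j 2) hpr.pos, show j - (j - 2) = 2 by omega]
    set A' := A.map (P : Subgroup G).subtype
    have hA' : Nat.card A' = p ^ 2 := by
      rw [Subgroup.card_map_of_injective (P : Subgroup G).subtype_injective, hAc]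
    have hAexp : ∀ a ∈ A', a ^ p = 1 := by
      rintro _ ⟨a, ha, rfl⟩
      rw [← map_pow, hAe.2 a ha, map_one]
    obtain ⟨g, hg⟩ := hC (Subgroup.zpowers z) A'
      (IsPGroup.of_card (n := 2) (by rw [Nat.card_zpowers, hzo]))
      (IsPGroup.of_card (n := 2) hA') (by rw [Nat.card_zpowers, hzo, hA'])
    have h1 := hAexp _ (hg ▸ Subgroup.mem_map_of_mem _ (Subgroup.mem_zpowers z))
    rw [← map_pow] at h1
    have hzp : z ^ p = 1 := (MulAut.conj g).injective (h1.trans (map_one _).symm)
    have := orderOf_dvd_of_pow_eq_one hzp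
    rw [hzo] at this
    have := Nat.le_of_dvd hpr.pos this
    have : p < p ^ 2 := lt_self_pow₀ hpr.one_lt (by norm_num)
    omega
  have hPH : (P : Subgroup G) ≤ H := fun x hx => key H hdiv x (hexp x hx)
  refine ⟨?_, .inl hPH⟩
  -- the largest normal `p'`-subgroup inside `H`
  obtain ⟨O, ⟨hOn, hOH, hOc⟩, hmax⟩ := Set.Finite.exists_maximal
    (s := {O : Subgroup G | O.Normal ∧ O ≤ H ∧ (Nat.card O).Coprime p}) (Set.toFinite _)
    ⟨⊥, Subgroup.normal_bot, bot_le, by rw [Subgroup.card_bot]; exact Nat.coprime_one_left p⟩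
  haveI := hOn
  set π := QuotientGroup.mk' O
  have hπ : Function.Surjective π := QuotientGroup.mk'_surjective O
  haveI hHn : (H.map π).Normal := Subgroup.Normal.map inferInstance π hπ
  set Hb := H.map π
  have hsolb : Cfsg.IsPSolvable p Hb :=
    CfsgLib.PSolvable.isPSolvable_of_surjective (π.subgroupMap H) (π.subgroupMap_surjective H) hsolv
  haveI := CfsgLib.Transfer.pPrimeCore_normal p Hb
  haveI := CfsgLib.Fitting.pCore_normal (G := Hb) p
  have hcomapH : Hb.comap π = H := by
    rw [Subgroup.comap_map_eq, QuotientGroup.ker_mk', sup_eq_left.mpr hOH]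
  have hcore : Cfsg.pPrimeCore p Hb = ⊥ := by
    haveI : (Cfsg.pPrimeCore p Hb).Characteristic := inferInstance
    set R' := (Cfsg.pPrimeCore p Hb).map Hb.subtype
    have hle : O ≤ R'.comap π := fun o ho => by
      rw [Subgroup.mem_comap, show π o = 1 from (QuotientGroup.eq_one_iff o).mpr ho]
      exact one_mem _
    have hin : R'.comap π ∈ {O : Subgroup G | O.Normal ∧ O ≤ H ∧ (Nat.card O).Coprime p} := by
      refine ⟨inferInstance, hcomapH ▸ Subgroup.comap_mono (Subgroup.map_subtype_le _), ?_⟩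
      rw [CfsgLib.PSolvable.card_comap_of_surjective hπ, QuotientGroup.ker_mk',
        Subgroup.card_map_of_injective Hb.subtype_injective]
      exact Nat.Coprime.mul_left hOc (CfsgLib.Transfer.pPrimeCore_coprime p)
    have heq : R'.comap π ≤ O := hmax hin hle
    have : R' = ⊥ := by
      rw [← Subgroup.map_comap_eq_self_of_surjective hπ R', eq_bot_iff]
      exact (Subgroup.map_mono heq).trans (QuotientGroup.map_mk'_self O).le
    exact (Subgroup.map_eq_bot_iff_of_injective _ Hb.subtype_injective).mp this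
  have hpHb : p ∣ Nat.card Hb := by
    have h1 := CfsgLib.PSolvable.card_comap_of_surjective hπ Hb
    rw [hcomapH, QuotientGroup.ker_mk'] at h1
    exact (hpr.coprime_iff_not_dvd.mpr fun h => hpr.ne_one (Nat.eq_one_of_dvd_coprimes hOc h dvd_rfl)).dvd_of_dvd_mul_left
      (h1 ▸ hdiv)
  set R := Cfsg.pCore p Hb
  have hR : R ≠ ⊥ := by
    intro h
    have h1 := CfsgLib.PSolvable.centralizer_pCore_le hsolb hcore
    rw [show Cfsg.pCore p Hb = ⊥ from h] at h1
    have htop : (⊤ : Subgroup Hb) ≤ ⊥ := le_trans (fun y _ => Subgroup.mem_centralizer_iff.mpr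
      fun t ht => by rw [Subgroup.mem_bot.mp ht, one_mul, mul_one]) h1
    have := Subgroup.card_le_of_le htop
    rw [Subgroup.card_top, Subgroup.card_bot] at this
    have := Nat.le_of_dvd (Nat.card_pos) hpHb
    have := hpr.one_lt
    omega
  haveI : R.Characteristic := inferInstance
  set Rg := R.map Hb.subtype
  have hRp : IsPGroup p Rg := (CfsgLib.Fitting.pCore_isPGroup p).map _
  haveI : Nontrivial Rg := (Subgroup.nontrivial_iff_ne_bot _).mpr fun h =>
    hR ((Subgroup.map_eq_bot_iff_of_injective _ Hb.subtype_injective).mp h)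
  haveI : Nontrivial (Subgroup.center Rg) := hRp.center_nontrivial
  set Z := (Subgroup.center Rg).map Rg.subtype
  have hpZ : p ∣ Nat.card (Z.comap π) := by
    rw [CfsgLib.PSolvable.card_comap_of_surjective hπ, Subgroup.card_map_of_injective Rg.subtype_injective]
    obtain ⟨n, hn, hcard⟩ := (hRp.to_subgroup (Subgroup.center Rg)).nontrivial_iff_card.mp inferInstance
    exact dvd_mul_of_dvd_right (hcard ▸ dvd_pow_self p (by omega)) _
  refine ⟨⟨fun a b => Subtype.ext ?_⟩⟩
  have hmem : ∀ x : (P : Subgroup G), π x ∈ Z := fun x => key (Z.comap π) hpZ x (hexp x x.2)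
  obtain ⟨u, hu, hu'⟩ := hmem a
  obtain ⟨v, hv, hv'⟩ := hmem b
  have hab : π (a * b) = π (b * a) := by
    rw [map_mul, map_mul, ← hu', ← hv', ← map_mul, ← map_mul, Subgroup.mem_center_iff.mp hv u]
  have hone : ((a : G) * b) / (b * a) ∈ O := by
    rw [← QuotientGroup.eq_one_iff, ← QuotientGroup.mk'_apply, map_div, hab, div_self']
  have hd : ((a : G) * b) / (b * a) ∈ (P : Subgroup G) := div_mem (mul_mem a.2 b.2) (mul_mem b.2 a.2)
  have hinf : (P : Subgroup G) ⊓ O = ⊥ :=
    Subgroup.inf_eq_bot_of_coprime (CfsgLib.PSolvable.coprime_card_of_isPGroup P.2 hOc)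
  exact div_eq_one.mp (Subgroup.mem_bot.mp (hinf ▸ Subgroup.mem_inf.mpr ⟨hd, hone⟩))

end Cfsg.Agent.S4024
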