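import Cfsg.Statements.S4025
import Cfsg.Agent.Lib.SubgroupTrans.Normalizer
-- import your own Cfsg.Agent.* helpers here

set_option autoImplicit false
open Cfsg

namespace Cfsg.Agent.S4025

/-- Let p be a prime and G a finite group in which any two p-subgroups of the same order are conjugate, and suppose a Sylow p-subgroup P of G is elementary abelian of order pⁿ with n ≥ 3. Let N be the normalizer of P and K the largest normal subgroup of N of order prime to p, and assume N/K is solvable. Then either n = 3 and N/K embeds in the one-dimensional semi-affine group over the field with p³ elements (and for p = 2 it is isomorphic to the affine or the semi-affine group over the field with 8 elements), or n = 5, p = 2 and N/K is isomorphic to the one-dimensional semi-affine group over the field with 32 elements. -/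
theorem result {G : Type*} [Group G] [Finite G]
    {p : ℕ} [Fact p.Prime] (hC : ∀ H K : Subgroup G, IsPGroup p H → IsPGroup p K → Nat.card H = Nat.card K →
      ∃ g : G, K = H.map (MulAut.conj g).toMonoidHom) (P : Sylow p G) (n : ℕ) (hn : 3 ≤ n)
    (hel : Cfsg.IsElementaryAbelian p (P : Subgroup G)) (hcard : Nat.card P = p ^ n)
    (N : Subgroup G) (hN : N = Subgroup.normalizer ((P : Subgroup G) : Set G))
    (hsolv : Group.IsSolvable (↥N ⧸ Cfsg.pPrimeCore p ↥N)) :
    (n = 3 ∧ (∃ f : ↥N ⧸ Cfsg.pPrimeCore p ↥N →* ↥(Cfsg.semiaffineGroup (GaloisField p 3)), Function.Injective f) ∧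
      (p = 2 → Nonempty (↥N ⧸ Cfsg.pPrimeCore p ↥N ≃* Cfsg.semiaffineGroup (GaloisField 2 3)) ∨
               Nonempty (↥N ⧸ Cfsg.pPrimeCore p ↥N ≃* Cfsg.affineGroup (GaloisField 2 3)))) ∨
    (n = 5 ∧ p = 2 ∧ Nonempty (↥N ⧸ Cfsg.pPrimeCore p ↥N ≃* Cfsg.semiaffineGroup (GaloisField 2 5))) := by
  subst hN
  classical
  have hPN : (P : Subgroup G) ≤ Subgroup.normalizer ((P : Subgroup G) : Set G) := Subgroup.le_normalizer
  haveI := (Subgroup.normal_subgroupOf_iff_le_normalizer hPN).mpr le_rfl
  refine CfsgLib.SubgroupTrans.reduce ((P : Subgroup G).subgroupOf _) n hn ?_ ?_ ?_ ?_ hsolv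
  · haveI := hel.1
    exact ⟨⟨⟨fun a b => (Subgroup.subgroupOfEquivOfLe hPN).injective
      (by rw [map_mul, map_mul, mul_comm'])⟩⟩,
      fun a ha => Subtype.ext (hel.2 _ ha)⟩
  · rw [Nat.card_congr (Subgroup.subgroupOfEquivOfLe hPN).toEquiv]
    exact hcard
  · intro h
    exact P.not_dvd_index (h.trans (Subgroup.relIndex_dvd_index_of_le hPN))
  · intro H K hH hK hcd
    have hmap : ∀ L : Subgroup ↥(Subgroup.normalizer ((P : Subgroup G) : Set G)),
        L ≤ (P : Subgroup G).subgroupOf _ → L.map (Subgroup.subtype _) ≤ (P : Subgroup G) := by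
      rintro L hL _ ⟨y, hy, rfl⟩
      exact hL hy
    have hcardmap : ∀ L : Subgroup ↥(Subgroup.normalizer ((P : Subgroup G) : Set G)),
        Nat.card (L.map (Subgroup.subtype _)) = Nat.card L := fun L =>
      (Nat.card_congr (L.equivMapOfInjective _ (Subgroup.subtype_injective _)).toEquiv).symm
    obtain ⟨g, hg⟩ := hC _ _ (P.2.to_le (hmap H hH)) (P.2.to_le (hmap K hK))
      (by rw [hcardmap, hcardmap, hcd])
    obtain ⟨m, hm, hmem⟩ := CfsgLib.SubgroupTrans.fusion P hel.1 (hmap H hH) (hmap K hK) g hg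
    refine ⟨⟨m, hm⟩, fun h hh => ?_⟩
    obtain ⟨k, hk, hke⟩ := hmem _ ⟨h, hh, rfl⟩
    have : (⟨m, hm⟩ * h * ⟨m, hm⟩⁻¹ : ↥(Subgroup.normalizer ((P : Subgroup G) : Set G))) = k :=
      Subtype.ext hke.symm
    rw [this]
    exact hk

end Cfsg.Agent.S4025
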