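import Cfsg.Statements.S4027
import Cfsg.Agent.Lib.Baer.NoReal
import Cfsg.Agent.Lib.Invol.Dihedral

set_option autoImplicit false
open Cfsg

namespace Cfsg.Agent.S4027

/-- Let G be a finite group in which every element x of odd order satisfies N_G(⟨x⟩) = C_G(x). Then the Sylow 2-subgroups of G are normal. -/
theorem result {G : Type*} [Group G] [Finite G]
    (hirr : ∀ x : G, (∀ r : ℕ, r.Prime → r ∣ orderOf x → r ≠ 2) →
      Subgroup.normalizer ((Subgroup.zpowers x : Subgroup G) : Set G) ≤ Subgroup.centralizer {x}) (P : Sylow 2 G) :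
    (P : Subgroup G).Normal := by
  refine CfsgLib.Baer.sylow_two_normal_of_no_inverted (fun x hx1 hodd t ht => ?_) P
  have hN : t ∈ Subgroup.normalizer ((Subgroup.zpowers x : Subgroup G) : Set G) := by
    refine CfsgLib.Coprime.mem_normalizer_iff_conj_smul.mpr ?_
    rw [CfsgLib.Coprime.conj_smul_eq_map, MonoidHom.map_zpowers]
    show Subgroup.zpowers (t * x * t⁻¹) = _
    rw [ht, Subgroup.zpowers_inv]
  have hc := Subgroup.mem_centralizer_singleton_iff.mp (hirr x (fun r _ hdvd hr2 => by
    subst hr2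
    exact (Nat.not_even_iff_odd.mpr hodd) (even_iff_two_dvd.mpr hdvd)) hN)
  have he : x = x⁻¹ := by
    rw [← ht, hc, mul_inv_cancel_right]
  exact hx1 (CfsgLib.Invol.eq_one_of_odd_of_sq hodd (by nth_rw 2 [he]; exact mul_inv_cancel x))
end Cfsg.Agent.S4027
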