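import Cfsg.Statements.S4028
import Mathlib
import Cfsg.Agent.Lib.Elem.PrimaryParts

set_option autoImplicit false
set_option linter.style.haveILetI false
open Cfsg
open scoped Pointwise

namespace Cfsg.Agent.S4028

/-- Let G be a finite group with Sylow 2-subgroup P. Then N_G(⟨x⟩) = C_G(x) holds for every 2-element x of G if and only if N_P(⟨y⟩) = C_P(y) holds for every y ∈ P (computed inside P). -/
theorem result {G : Type*} [Group G] [Finite G] (P : Sylow 2 G) :
    (∀ x : G, (∀ r : ℕ, r.Prime → r ∣ orderOf x → r = 2) →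
      Subgroup.normalizer ((Subgroup.zpowers x : Subgroup G) : Set G) ≤ Subgroup.centralizer {x}) ↔
    (∀ y : ↥(P : Subgroup G), Subgroup.normalizer ((Subgroup.zpowers y : Subgroup ↥(P : Subgroup G)) : Set ↥(P : Subgroup G)) ≤
        Subgroup.centralizer {y}) := by
  classical
  constructor
  · intro h y n hn
    have hy2 : ∀ r : ℕ, r.Prime → r ∣ orderOf (y : G) → r = 2 := by
      obtain ⟨k, hk⟩ := IsPGroup.iff_orderOf.mp P.2 y
      intro r hr hd
      rw [Subgroup.orderOf_coe, hk] at hd
      exact (Nat.prime_dvd_prime_iff_eq hr Nat.prime_two).mp (hr.dvd_of_dvd_pow hd)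
    have hn' : (n : G) ∈ Subgroup.normalizer ((Subgroup.zpowers (y : G) : Subgroup G) : Set G) := by
      apply CfsgLib.PrimaryParts.mem_normalizer_of_conj_mem
      rintro w ⟨i, rfl⟩
      have h1 := (Subgroup.mem_normalizer_iff.mp hn (y ^ i)).mp ⟨i, rfl⟩
      obtain ⟨j, hj⟩ := h1
      exact ⟨j, by simpa using congrArg Subtype.val hj⟩
    have h2 := Subgroup.mem_centralizer_singleton_iff.mp (h _ hy2 hn')
    exact Subgroup.mem_centralizer_singleton_iff.mpr (Subtype.ext h2)
  · intro h x hx g hg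
    set Z := Subgroup.zpowers x
    haveI := Fact.mk Nat.prime_two
    have hZ : IsPGroup 2 Z := by
      obtain ⟨k, hk⟩ : ∃ k, orderOf x = 2 ^ k :=
        ⟨_, Nat.eq_prime_pow_of_unique_prime_dvd (orderOf_pos x).ne' (fun {d} hd hdd => hx d hd hdd)⟩
      exact IsPGroup.of_card (n := k) (by rw [Nat.card_zpowers, hk])
    obtain ⟨k, hk⟩ := hZ.exists_card_eq
    refine CfsgLib.PrimaryParts.mem_of_primePow_parts fun w hw q j hq hwo => ?_
    have hwN : w ∈ Subgroup.normalizer (Z : Set G) := Subgroup.zpowers_le.mpr hg hw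
    rw [Subgroup.mem_centralizer_singleton_iff]
    by_cases hq2 : q = 2
    · have hW : IsPGroup 2 (Subgroup.zpowers w) := IsPGroup.of_card (n := j) (by rw [Nat.card_zpowers, hwo, hq2])
      obtain ⟨Q, hQ⟩ := (hW.to_sup_of_normal_right' hZ (Subgroup.zpowers_le.mpr hwN)).exists_le_sylow
      obtain ⟨c, hc⟩ := MulAction.exists_smul_eq G Q P
      have hm : ∀ u ∈ Subgroup.zpowers w ⊔ Z, c * u * c⁻¹ ∈ (P : Subgroup G) := fun u hu => by
        rw [← hc, Sylow.coe_subgroup_smul]
        exact Subgroup.smul_mem_pointwise_smul u (MulAut.conj c) _ (hQ hu)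
      have hxP := hm x (Subgroup.mem_sup_right (Subgroup.mem_zpowers x))
      have hwP := hm w (Subgroup.mem_sup_left (Subgroup.mem_zpowers w))
      have hn : (⟨_, hwP⟩ : (P : Subgroup G)) ∈ Subgroup.normalizer ((Subgroup.zpowers (⟨_, hxP⟩ : (P : Subgroup G))) : Set ↥(P : Subgroup G)) := by
        apply CfsgLib.PrimaryParts.mem_normalizer_of_conj_mem
        rintro u ⟨i, rfl⟩
        obtain ⟨l, hl⟩ := (Subgroup.mem_normalizer_iff.mp hwN (x ^ i)).mp ⟨i, rfl⟩
        refine ⟨l, Subtype.ext ?_⟩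
        push_cast
        simp only [← MulAut.conj_apply, ← map_zpow, ← map_inv, ← map_mul]
        exact congrArg _ hl
      have h1 := congrArg Subtype.val (Subgroup.mem_centralizer_singleton_iff.mp (h _ hn))
      simp only [Subgroup.coe_mul, ← MulAut.conj_apply, ← map_mul] at h1
      exact (MulAut.conj c).injective h1
    · have h1 : orderOf (Subgroup.normalizerMonoidHom Z ⟨w, hwN⟩) ∣ Nat.gcd (q ^ j) (Nat.card (MulAut Z)) :=
        Nat.dvd_gcd (by rw [← hwo, ← Subgroup.orderOf_mk w hwN]; exact orderOf_map_dvd _ _) (orderOf_dvd_natCard _)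
      have h2 : Nat.gcd (q ^ j) (Nat.card (MulAut Z)) = 1 := by
        rw [IsCyclic.card_mulAut, hk]
        rcases Nat.eq_zero_or_pos k with rfl | hk0
        · simp
        · rw [Nat.totient_prime_pow Nat.prime_two hk0]
          simp only [show (2 : ℕ) - 1 = 1 from rfl, mul_one]
          exact ((Nat.coprime_primes hq Nat.prime_two).mpr hq2).pow _ _
      rw [h2, Nat.dvd_one, orderOf_eq_one_iff] at h1
      have h3 : (⟨w, hwN⟩ : Subgroup.normalizer (Z : Set G)) ∈ (Subgroup.normalizerMonoidHom Z).ker := h1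
      rw [Subgroup.normalizerMonoidHom_ker, Subgroup.mem_subgroupOf] at h3
      exact (Subgroup.mem_centralizer_iff.mp h3 x (Subgroup.mem_zpowers x)).symm

end Cfsg.Agent.S4028
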