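import Cfsg.Statements.S4029
import Cfsg.Agent.Lib.Char.Counting
import Cfsg.Agent.Lib.PSolvable.Omega

set_option autoImplicit false
set_option linter.style.haveILetI false
open Cfsg

namespace Cfsg.Agent.S4029

open scoped commutatorElement

/-- Let P be a finite 2-group in which N_P(⟨y⟩) = C_P(y) for every y ∈ P. If s is the number of conjugacy classes of involutions of P, then #(P/Φ(P)) ≤ s + 1; in particular the subgroup generated by the involutions of P has order at least #(P/Φ(P)). -/
theorem result {P : Type*} [Group P] [Finite P] (hP : IsPGroup 2 P)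
    (hirr : ∀ y : P, Subgroup.normalizer ((Subgroup.zpowers y : Subgroup P) : Set P) ≤ Subgroup.centralizer {y}) :
    Nat.card (P ⧸ frattini P) ≤ Nat.card {c : ConjClasses P // ∃ y : P, ConjClasses.mk y = c ∧ orderOf y = 2} + 1 ∧
    Nat.card (P ⧸ frattini P) ≤ Nat.card (Subgroup.closure {y : P | orderOf y = 2}) := by
  classical
  haveI : Fact (Nat.Prime 2) := ⟨Nat.prime_two⟩
  haveI : Fintype P := Fintype.ofFinite P
  obtain ⟨hcomm, hsq⟩ := CfsgLib.PSolvable.commutator_le_frattini hP
  haveI : IsMulCommutative (P ⧸ frattini P) := ⟨⟨fun a b => by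
    obtain ⟨x, rfl⟩ := QuotientGroup.mk_surjective a
    obtain ⟨y, rfl⟩ := QuotientGroup.mk_surjective b
    rw [← QuotientGroup.mk_mul, ← QuotientGroup.mk_mul, QuotientGroup.eq]
    refine hcomm ?_
    rw [commutator_def]
    have h := Subgroup.commutator_mem_commutator (Subgroup.mem_top y⁻¹) (Subgroup.mem_top x⁻¹)
    rwa [commutatorElement_def, inv_inv, inv_inv, show y⁻¹ * x⁻¹ * y * x = (x * y)⁻¹ * (y * x) by group] at h⟩⟩
  letI : CommGroup (P ⧸ frattini P) :=
    { (inferInstance : Group (P ⧸ frattini P)) with mul_comm := mul_comm' }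
  have hreal : Nat.card (P ⧸ frattini P) ≤
      Nat.card {C : ConjClasses P // ∀ g : P, ConjClasses.mk g = C → IsConj g g⁻¹} := by
    rw [← CfsgLib.Char.card_hom_units (P ⧸ frattini P), ← CfsgLib.Char.card_real_irr]
    haveI := CfsgLib.Char.finite_irrCharacter (G := P)
    refine Nat.card_le_card_of_injective (fun f => ⟨⟨fun g => ((f (QuotientGroup.mk' (frattini P) g) : ℂˣ) : ℂ),
      CfsgLib.Char.isIrrCharacter_monoidHom (f.comp (QuotientGroup.mk' (frattini P)))⟩, fun g => ?_⟩) fun a b hab => ?_
    · have h2 : f (QuotientGroup.mk' (frattini P) g) ^ 2 = 1 := by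
        rw [← map_pow, ← map_pow, show QuotientGroup.mk' (frattini P) (g ^ 2) = 1 from
          (QuotientGroup.eq_one_iff _).mpr (hsq g), map_one]
      have h3 := congrArg Units.val h2
      rw [Units.val_pow_eq_pow_val, Units.val_one] at h3
      show ((f (QuotientGroup.mk' (frattini P) g) : ℂˣ) : ℂ).im = 0
      rcases sq_eq_one_iff.mp h3 with h | h <;> rw [h] <;> simp
    · refine MonoidHom.ext fun q => ?_
      obtain ⟨g, rfl⟩ := QuotientGroup.mk_surjective q
      exact Units.ext (congrFun (congrArg Subtype.val (congrArg Subtype.val hab)) g)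
  -- real classes consist of involutions
  have hinvol : ∀ g : P, IsConj g g⁻¹ → g = 1 ∨ orderOf g = 2 := by
    intro g hg
    obtain ⟨c, hc⟩ := isConj_iff.mp hg
    have hcN : c ∈ Subgroup.normalizer ((Subgroup.zpowers g : Subgroup P) : Set P) := by
      rw [Subgroup.mem_normalizer_iff_map_conj_eq, MonoidHom.map_zpowers]
      show Subgroup.zpowers (c * g * c⁻¹) = _
      rw [hc, Subgroup.zpowers_inv]
    have h1 := Subgroup.mem_centralizer_singleton_iff.mp (hirr g hcN)
    rw [h1, mul_inv_cancel_right] at hc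
    by_cases h : g = 1
    · exact Or.inl h
    · exact Or.inr (orderOf_eq_prime (by rw [pow_two]; nth_rewrite 2 [hc]; exact mul_inv_cancel g) h)
  set s := Nat.card {c : ConjClasses P // ∃ y : P, ConjClasses.mk y = c ∧ orderOf y = 2} with hs
  have hle : Nat.card (P ⧸ frattini P) ≤ s + 1 := by
    refine hreal.trans ?_
    rw [hs, ← Finite.card_option]
    refine Nat.card_le_card_of_injective (fun C => if h : ∃ y : P, ConjClasses.mk y = C.1 ∧ orderOf y = 2
      then some ⟨C.1, h⟩ else none) fun A B hAB => ?_
    have key : ∀ C : {C : ConjClasses P // ∀ g : P, ConjClasses.mk g = C → IsConj g g⁻¹},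
        ¬ (∃ y : P, ConjClasses.mk y = C.1 ∧ orderOf y = 2) → C.1 = ConjClasses.mk 1 := by
      intro C hC
      obtain ⟨g, hg⟩ := ConjClasses.exists_rep C.1
      rcases hinvol g (C.2 g hg) with h | h
      · rw [← hg, h]
      · exact absurd ⟨g, hg, h⟩ hC
    simp only at hAB
    by_cases hA : ∃ y : P, ConjClasses.mk y = A.1 ∧ orderOf y = 2
    · by_cases hB : ∃ y : P, ConjClasses.mk y = B.1 ∧ orderOf y = 2
      · rw [dif_pos hA, dif_pos hB, Option.some.injEq, Subtype.mk.injEq] at hAB
        exact Subtype.ext hAB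
      · simp [dif_pos hA, dif_neg hB] at hAB
    · by_cases hB : ∃ y : P, ConjClasses.mk y = B.1 ∧ orderOf y = 2
      · simp [dif_neg hA, dif_pos hB] at hAB
      · exact Subtype.ext ((key A hA).trans (key B hB).symm)
  refine ⟨hle, hle.trans ?_⟩
  rw [hs, ← Finite.card_option]
  set H := Subgroup.closure {y : P | orderOf y = 2}
  refine Nat.card_le_card_of_injective (fun o => o.elim (1 : H)
    fun c => ⟨c.2.choose, Subgroup.subset_closure c.2.choose_spec.2⟩) ?_
  rintro (_ | a) (_ | b) hab
  · rfl
  · exfalso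
    have := b.2.choose_spec.2
    rw [show b.2.choose = 1 from (congrArg Subtype.val hab).symm, orderOf_one] at this
    norm_num at this
  · exfalso
    have := a.2.choose_spec.2
    rw [show a.2.choose = 1 from congrArg Subtype.val hab, orderOf_one] at this
    norm_num at this
  · refine congrArg some (Subtype.ext ?_)
    rw [← a.2.choose_spec.1, show a.2.choose = b.2.choose from congrArg Subtype.val hab, b.2.choose_spec.1]
end Cfsg.Agent.S4029
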