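import Cfsg.Statements.S4032
import Mathlib
import Cfsg.Agent.Lib.Coprime.SchurZassenhaus

set_option autoImplicit false
set_option linter.style.haveILetI false
open Cfsg
open scoped Pointwise

namespace Cfsg.Agent.S4032

/-- Let π be a set of primes and G a finite group in which N_G(⟨x⟩) = C_G(x) for every π-element x. If N is a normal subgroup of G whose order is divisible by no prime of π, then G/N has the same property: N_{G/N}(⟨y⟩) = C_{G/N}(y) for every π-element y of G/N. -/
theorem result {G : Type*} [Group G] [Finite G] (π : Set ℕ)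
    (hirr : ∀ x : G, (∀ r : ℕ, r.Prime → r ∣ orderOf x → r ∈ π) →
      Subgroup.normalizer ((Subgroup.zpowers x : Subgroup G) : Set G) ≤ Subgroup.centralizer {x})
    (N : Subgroup G) [N.Normal] (hN : ∀ r : ℕ, r.Prime → r ∣ Nat.card N → r ∉ π) :
    ∀ y : G ⧸ N, (∀ r : ℕ, r.Prime → r ∣ orderOf y → r ∈ π) →
      Subgroup.normalizer ((Subgroup.zpowers y : Subgroup (G ⧸ N)) : Set (G ⧸ N)) ≤ Subgroup.centralizer {y} := by
  classical
  intro y hy gb hg
  obtain ⟨x0, rfl⟩ := QuotientGroup.mk_surjective y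
  obtain ⟨g, rfl⟩ := QuotientGroup.mk_surjective gb
  set o := orderOf (x0 : G ⧸ N)
  set n := Nat.card N
  have hcop : n.Coprime o := Nat.coprime_of_dvd fun r hr h1 h2 => hN r hr h1 (hy r hr h2)
  obtain ⟨u, hu⟩ := exists_pow_eq_self_of_coprime (x := (x0 : G ⧸ N)) hcop
  set x := (x0 ^ n) ^ u
  have hxmk : (x : G ⧸ N) = (x0 : G ⧸ N) := by
    simp only [x, QuotientGroup.mk_pow]
    exact hu
  have hxo : orderOf x ∣ o := by
    apply orderOf_dvd_of_pow_eq_one
    have hmem : x0 ^ o ∈ N := by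
      rw [← QuotientGroup.eq_one_iff, QuotientGroup.mk_pow, pow_orderOf_eq_one]
    have h1 : (x0 ^ o) ^ n = 1 := congrArg Subtype.val (pow_card_eq_one' (x := (⟨x0 ^ o, hmem⟩ : N)))
    simp only [x]
    rw [← pow_mul, ← pow_mul, show n * (u * o) = o * n * u by ring, pow_mul, pow_mul, h1, one_pow]
  set Z := Subgroup.zpowers x
  have hcopZ : n.Coprime (Nat.card Z) := by
    rw [Nat.card_zpowers]; exact hcop.coprime_dvd_right hxo
  have hsup : N ⊔ MulAut.conj g • Z = N ⊔ Z := by
    have h1 : (MulAut.conj g • Z).map (QuotientGroup.mk' N) = Z.map (QuotientGroup.mk' N) := by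
      rw [MonoidHom.map_zpowers]
      ext w
      constructor
      · rintro ⟨v, hv, rfl⟩
        obtain ⟨a, ⟨i, rfl⟩, rfl⟩ := hv
        show ((g * x ^ i * g⁻¹ : G) : G ⧸ N) ∈ Subgroup.zpowers (x : G ⧸ N)
        rw [QuotientGroup.mk_mul, QuotientGroup.mk_mul, QuotientGroup.mk_zpow, QuotientGroup.mk_inv, hxmk]
        exact (Subgroup.mem_normalizer_iff.mp hg _).mp ⟨i, rfl⟩
      · intro hw
        have h2 : (g : G ⧸ N)⁻¹ * w * (g : G ⧸ N) ∈ Subgroup.zpowers (x0 : G ⧸ N) := by
          rw [Subgroup.mem_normalizer_iff.mp hg]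
          have : w ∈ Subgroup.zpowers (x0 : G ⧸ N) := hxmk ▸ hw
          convert this using 1
          group
        obtain ⟨i, hi⟩ := h2
        refine ⟨g * x ^ i * g⁻¹, ⟨x ^ i, ⟨i, rfl⟩, rfl⟩, ?_⟩
        show ((g * x ^ i * g⁻¹ : G) : G ⧸ N) = w
        rw [QuotientGroup.mk_mul, QuotientGroup.mk_mul, QuotientGroup.mk_zpow, QuotientGroup.mk_inv, hxmk]
        simp only at hi
        rw [hi]
        group
    have h3 := Subgroup.map_eq_map_iff.mp h1
    rwa [QuotientGroup.ker_mk', sup_comm, sup_comm Z N] at h3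
  obtain ⟨m, hm, hmZ⟩ := CfsgLib.Coprime.exists_conj_of_coprime (N := N) (H := Z) (K := MulAut.conj g • Z)
    (by rw [Subgroup.normalizer_eq_top_iff.mpr inferInstance]; exact le_top) hcopZ
    (by rwa [Nat.card_congr (Subgroup.equivSMul (MulAut.conj g) Z).symm.toEquiv]) hsup.symm
    (Or.inr (Group.isSolvable_of_comm fun a b => mul_comm' a b))
  have hn : m⁻¹ * g ∈ Subgroup.normalizer (Z : Set G) := by
    rw [CfsgLib.Coprime.mem_normalizer_iff_conj_smul, map_mul, mul_smul, ← hmZ, map_inv, inv_smul_smul]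
  have hc := Subgroup.mem_centralizer_singleton_iff.mp (hirr x (fun r hr hd => hy r hr (hd.trans hxo)) hn)
  rw [Subgroup.mem_centralizer_singleton_iff]
  have h4 := congrArg (fun z : G => (z : G ⧸ N)) hc
  simp only [QuotientGroup.mk_mul, QuotientGroup.mk_inv, (QuotientGroup.eq_one_iff m).mpr hm, inv_one, one_mul, hxmk] at h4
  exact h4

end Cfsg.Agent.S4032
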