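import Cfsg.Statements.S4033
import Cfsg.Agent.S4034
import Cfsg.Agent.Lib.TwoPReg.Quot

/-! Two lengths of `p`-regular classes. -/

set_option autoImplicit false
set_option linter.style.haveILetI false
set_option linter.unusedSectionVars false
open Cfsg
open CfsgLib.TwoPReg

namespace Cfsg.Agent.S4033

universe u

variable {G : Type u} [Group G] [Finite G] {p : ℕ}

theorem eq_of_le_index {H K : Subgroup G} (hle : H ≤ K) (hi : H.index = K.index) : H = K := by
  refine Subgroup.eq_of_le_of_card_ge hle ?_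
  have h1 := Subgroup.card_mul_index H
  rw [← Subgroup.card_mul_index K, hi] at h1
  exact (Nat.eq_of_mul_eq_mul_right (Nat.pos_of_ne_zero K.index_ne_zero_of_finite) h1).ge

/-- All noncentral `p`-regular elements have the same index. -/
def Const (p : ℕ) (G : Type u) [Group G] : Prop :=
  ∀ u v : G, NC p u → NC p v → (cz u).index = (cz v).index

theorem cz_pow (hC : Const p G) {u : G} {k : ℕ} (hu : NC p u) (hk : NC p (u ^ k)) :
    cz (u ^ k) = cz u := by
  refine (eq_of_le_index ?_ (hC u _ hu hk)).symm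
  intro g hg
  exact mem_cz.mpr (Commute.pow_right (show Commute g u from mem_cz.mp hg) k).eq

theorem exists_rho_mem (hp : p.Prime) (hC : Const p G) {x : G} (hx : NC p x) {r : ℕ}
    (hr : r.Prime) (hrp : r ≠ p) (hrho : Rho G r) :
    ∃ y ∈ cz x, SEl r y ∧ y ∉ Subgroup.center G := by
  haveI := Fact.mk hr
  by_contra hne
  push Not at hne
  obtain ⟨y, hy, hys⟩ := hrho
  have hyn : NC p y := ⟨reg_of_sel hp hr hrp hys, hy⟩
  let R : Sylow r (cz x) := default
  set R' := (R : Subgroup (cz x)).map (cz x).subtype with hR'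
  have hR'p : IsPGroup r R' := R.2.map _
  have hR'c : R' ≤ Subgroup.center G := by
    intro g hg
    obtain ⟨a, ha, rfl⟩ := hg
    exact hne _ a.2 (sel_of_mem hR'p ⟨a, ha, rfl⟩)
  haveI : R'.Normal := ⟨fun g hg c => by
    have e : c * g * c⁻¹ = g := by
      rw [Subgroup.mem_center_iff.mp (hR'c hg) c, mul_inv_cancel_right]
    rwa [e]⟩
  set S := R' ⊔ Subgroup.zpowers y with hS
  have hSp : IsPGroup r S :=
    IsPGroup.to_sup_of_normal_left hR'p (isPGroup_zpowers_of_sel hys)
  have hSle : S ≤ cz y := sup_le (hR'c.trans (center_le_cz y))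
    (Subgroup.zpowers_le.mpr (self_mem_cz y))
  have hcard : Nat.card (cz y) = Nat.card (cz x) := by
    have h1 := Subgroup.card_mul_index (cz y)
    rw [← Subgroup.card_mul_index (cz x), hC y x hyn hx] at h1
    exact Nat.eq_of_mul_eq_mul_right (Nat.pos_of_ne_zero (cz x).index_ne_zero_of_finite) h1
  have hRc : Nat.card R' = r ^ (Nat.card (cz x)).factorization r := by
    rw [hR', Subgroup.card_map_of_injective (cz x).subtype_injective]
    exact R.card_eq_multiplicity
  obtain ⟨j, hj⟩ := IsPGroup.iff_card.mp hSp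
  have hlt : R' < S := by
    refine lt_of_le_of_ne le_sup_left fun e => hy (hR'c ?_)
    rw [e]
    exact Subgroup.mem_sup_right (Subgroup.mem_zpowers y)
  have h1 : Nat.card R' < Nat.card S := Set.Finite.card_lt_card (Set.toFinite _) hlt
  have h2 : r ^ j ∣ Nat.card (cz x) := hcard ▸ hj ▸ Subgroup.card_dvd_of_le hSle
  rw [hRc, hj] at h1
  have h3 := (Nat.pow_lt_pow_iff_right hr.one_lt).mp h1
  have h4 := (hr.pow_dvd_iff_le_factorization Nat.card_pos.ne').mp h2
  omega

theorem cz_eq_of_ne (hp : p.Prime) (hC : Const p G) {q r : ℕ} (hq : q.Prime) (hr : r.Prime)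
    (hqr : q ≠ r) {x y : G} (hx : NC p x) (hy : NC p y) (hxs : SEl q x) (hys : SEl r y)
    (hxy : Commute x y) : cz y = cz x := by
  have hcop : (orderOf x).Coprime (orderOf y) := by
    obtain ⟨a, ha⟩ := hxs.orderOf_eq hq
    obtain ⟨b, hb⟩ := hys.orderOf_eq hr
    rw [ha, hb]
    exact Nat.Coprime.pow a b ((Nat.coprime_primes hq hr).mpr hqr)
  have key : ∀ a b : G, Commute a b → (orderOf a).Coprime (orderOf b) → NC p a → NC p b →
      cz (a * b) = cz a := by
    intro a b hab hc ha hb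
    obtain ⟨k, hk⟩ := exists_pow_eq_self_of_coprime (x := a) (n := orderOf b) hc.symm
    have he : (a * b) ^ (orderOf b * k) = a := by
      rw [pow_mul, hab.mul_pow, pow_orderOf_eq_one b, mul_one, hk]
    have hn : NC p (a * b) := by
      refine ⟨?_, fun hcen => ha.2 (he ▸ pow_mem hcen _)⟩
      show (orderOf (a * b)).Coprime p
      rw [hab.orderOf_mul_eq_mul_orderOf_of_coprime hc]
      exact Nat.Coprime.mul_left ha.1 hb.1
    have := cz_pow hC hn (k := orderOf b * k) (by rwa [he])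
    rwa [he, eq_comm] at this
  have h1 := key x y hxy hcop hx hy
  have h2 := key y x hxy.symm hcop.symm hy hx
  rw [← hxy.eq] at h2
  exact h2.symm.trans h1

theorem cz_eq_of_commute (hp : p.Prime) (hC : Const p G)
    (hT : ∀ q : ℕ, ∃ r : ℕ, r.Prime ∧ r ≠ p ∧ r ≠ q ∧ Rho G r) {u v : G} (hu : NC p u)
    (hv : NC p v) (hvu : v ∈ cz u) : cz v = cz u := by
  obtain ⟨s, hs, hsp, k, hk, hks⟩ := hu.exists_prime_part hp
  obtain ⟨t, ht, htp, l, hl, hls⟩ := hv.exists_prime_part hp
  rw [← cz_pow hC hu hk, ← cz_pow hC hv hl]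
  have hcm : Commute (u ^ k) (v ^ l) :=
    Commute.pow_pow (show Commute u v from (mem_cz.mp hvu).symm) k l
  rcases ne_or_eq s t with hst | rfl
  · exact cz_eq_of_ne hp hC hs ht hst hk hl hks hls hcm
  · obtain ⟨r, hr, hrp, hrs, hrho⟩ := hT s
    obtain ⟨y, hy, hys, hyc⟩ := exists_rho_mem hp hC hk hr hrp hrho
    have hyn : NC p y := ⟨reg_of_sel hp hr hrp hys, hyc⟩
    have h1 := cz_eq_of_ne hp hC hs hr hrs.symm hk hyn hks hys
      (show Commute (u ^ k) y from (mem_cz.mp hy).symm)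
    have h2 : v ^ l ∈ cz y := h1 ▸ mem_cz.mpr hcm.symm.eq
    have h3 := cz_eq_of_ne hp hC hs hr hrs.symm hl hyn hls hys
      (show Commute (v ^ l) y from mem_cz.mp h2)
    exact h3.symm.trans h1

theorem one_prime (hp : p.Prime) {u₀ : G} (hu₀ : NC p u₀)
    (hT : ¬ ∃ q r : ℕ, q.Prime ∧ r.Prime ∧ q ≠ p ∧ r ≠ p ∧ q ≠ r ∧ Rho G q ∧ Rho G r) :
    ∃ (q : ℕ) (_ : Fact q.Prime) (P : Sylow p G) (Q : Sylow q G) (A : Subgroup G), q ≠ p ∧
      A ≤ Subgroup.center G ∧
      Nat.card ↥((P : Subgroup G) ⊔ (Q : Subgroup G)) = Nat.card P * Nat.card Q ∧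
      ((P : Subgroup G) ⊔ (Q : Subgroup G)).Normal ∧
      ((P : Subgroup G) ⊔ (Q : Subgroup G)) ⊓ A = ⊥ ∧
      ((P : Subgroup G) ⊔ (Q : Subgroup G)) ⊔ A = ⊤ := by
  obtain ⟨q, hq, hqp, k, hk, hks⟩ := hu₀.exists_prime_part hp
  haveI := Fact.mk hq
  haveI := Fact.mk hp
  have huniq : ∀ r : ℕ, r.Prime → r ≠ p → r ≠ q → ∀ x : G, SEl r x → x ∈ Subgroup.center G := by
    intro r hr hrp hrq x hx
    by_contra hc
    exact hT ⟨r, q, hr, hq, hrp, hqp, hrq, ⟨x, hc, hx⟩, ⟨_, hk.2, hks⟩⟩
  let A : Subgroup G :=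
    { carrier := {x | x ∈ Subgroup.center G ∧ (orderOf x).Coprime (p * q)}
      mul_mem' := fun {a b} ha hb => ⟨mul_mem ha.1 hb.1, Nat.Coprime.coprime_dvd_left
        ((Commute.orderOf_mul_dvd_lcm (Subgroup.mem_center_iff.mp ha.1 b).symm).trans
          (Nat.lcm_dvd_mul _ _)) (Nat.Coprime.mul_left ha.2 hb.2)⟩
      one_mem' := ⟨one_mem _, by rw [orderOf_one]; exact Nat.coprime_one_left _⟩
      inv_mem' := fun {a} ha => ⟨inv_mem ha.1, by rw [orderOf_inv]; exact ha.2⟩ }
  have hmemA : ∀ x : G, x ∈ A ↔ x ∈ Subgroup.center G ∧ (orderOf x).Coprime (p * q) :=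
    fun x => Iff.rfl
  have hAc : A ≤ Subgroup.center G := fun x hx => hx.1
  haveI : A.Normal := ⟨fun g hg c => by
    have e : c * g * c⁻¹ = g := by
      rw [Subgroup.mem_center_iff.mp (hAc hg) c, mul_inv_cancel_right]
    rwa [e]⟩
  have hApr : ∀ r : ℕ, r.Prime → r ∣ Nat.card A → r ≠ p ∧ r ≠ q := by
    intro r hr hd
    haveI := Fact.mk hr
    obtain ⟨a, ha⟩ := exists_prime_orderOf_dvd_card' (G := A) r hd
    have h1 := ((hmemA _).mp a.2).2
    rw [Subgroup.orderOf_coe, ha] at h1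
    have h2 := hr.coprime_iff_not_dvd.mp h1
    exact ⟨fun e => h2 (e ▸ dvd_mul_right p q), fun e => h2 (e ▸ dvd_mul_left q p)⟩
  have hAi : ∀ r : ℕ, r.Prime → r ∣ A.index → r = p ∨ r = q := by
    intro r hr hd
    by_contra! hne
    haveI := Fact.mk hr
    let R : Sylow r G := default
    have hle : (R : Subgroup G) ≤ A := by
      intro x hx
      have hxs := sel_of_mem R.2 hx
      obtain ⟨j, hj⟩ := hxs.orderOf_eq hr
      refine (hmemA x).mpr ⟨huniq r hr hne.1 hne.2 x hxs, ?_⟩
      rw [hj]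
      exact (Nat.Coprime.mul_right ((Nat.coprime_primes hr hp).mpr hne.1)
        ((Nat.coprime_primes hr hq).mpr hne.2)).pow_left j
    exact R.not_dvd_index (hd.trans (Subgroup.index_dvd_of_le hle))
  have hcop : (Nat.card A).Coprime A.index :=
    Nat.coprime_of_dvd fun r hr h1 h2 =>
      (hAi r hr h2).elim (hApr r hr h1).1 (hApr r hr h1).2
  obtain ⟨K, hK⟩ := Subgroup.exists_right_complement'_of_coprime hcop
  have hKn : K.Normal := by
    refine ⟨fun x hx g => ?_⟩
    obtain ⟨⟨a, b⟩, hab⟩ := (hK.symm.existsUnique g).exists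
    have hg : g = (a : G) * (b : G) := hab.symm
    have hc := Subgroup.mem_center_iff.mp (hAc (SetLike.mem_coe.mp b.2))
    have e : g * x * g⁻¹ = (a : G) * x * (a : G)⁻¹ := by
      rw [hg]
      calc (a : G) * b * x * ((a : G) * b)⁻¹ = (a : G) * (b * x) * ((b : G)⁻¹ * (a : G)⁻¹) := by
            group
        _ = (a : G) * (x * b) * ((b : G)⁻¹ * (a : G)⁻¹) := by rw [hc x]
        _ = (a : G) * x * (a : G)⁻¹ := by group
    rw [e]
    exact mul_mem (mul_mem a.2 hx) (inv_mem a.2)
  haveI := hKn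
  have hKi : K.index = Nat.card A := hK.index_eq_card
  have hKc : Nat.card K = A.index := hK.symm.index_eq_card.symm
  have hsyl : ∀ r : ℕ, r.Prime → (r = p ∨ r = q) → ∀ S : Sylow r G, (S : Subgroup G) ≤ K := by
    intro r hr hrpq S
    haveI := Fact.mk hr
    rw [← Subgroup.relIndex_eq_one]
    refine Nat.eq_one_of_dvd_coprimes (a := Nat.card (S : Subgroup G)) (b := Nat.card A) ?_
      (Subgroup.relIndex_dvd_card _ _) (hKi ▸ Subgroup.relIndex_dvd_index_of_normal _ _)
    rw [show Nat.card (S : Subgroup G) = _ from S.card_eq_multiplicity]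
    refine Nat.Coprime.pow_left _ (hr.coprime_iff_not_dvd.mpr fun hd => ?_)
    rcases hrpq with rfl | rfl
    · exact (hApr _ hr hd).1 rfl
    · exact (hApr _ hr hd).2 rfl
  let P : Sylow p G := default
  let Q : Sylow q G := default
  have hle : (P : Subgroup G) ⊔ (Q : Subgroup G) ≤ K :=
    sup_le (hsyl p hp (Or.inl rfl) P) (hsyl q hq (Or.inr rfl) Q)
  have hPQ : Nat.card P * Nat.card Q = Nat.card K := by
    refine Nat.eq_of_factorization_eq (mul_ne_zero Nat.card_pos.ne' Nat.card_pos.ne')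
      Nat.card_pos.ne' fun r => ?_
    have hGK := Subgroup.card_mul_index K
    rw [Nat.factorization_mul Nat.card_pos.ne' Nat.card_pos.ne', P.card_eq_multiplicity,
      Q.card_eq_multiplicity, hp.factorization_pow, hq.factorization_pow, Finsupp.add_apply]
    have hnd : r.Prime → r = p ∨ r = q →
        (Nat.card G).factorization r = (Nat.card K).factorization r := by
      intro hr hrpq
      rw [← hGK, Nat.factorization_mul Nat.card_pos.ne' K.index_ne_zero_of_finite,
        Finsupp.add_apply, hKi,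
        Nat.factorization_eq_zero_of_not_dvd (n := Nat.card A) (p := r) fun hd => ?_, add_zero]
      rcases hrpq with rfl | rfl
      · exact (hApr _ hr hd).1 rfl
      · exact (hApr _ hr hd).2 rfl
    by_cases h1 : r = p
    · subst h1
      rw [Finsupp.single_eq_same, Finsupp.single_eq_of_ne hqp.symm, add_zero]
      exact hnd hp (Or.inl rfl)
    by_cases h2 : r = q
    · subst h2
      rw [Finsupp.single_eq_same, Finsupp.single_eq_of_ne hqp, zero_add]
      exact hnd hq (Or.inr rfl)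
    rw [Finsupp.single_eq_of_ne h1, Finsupp.single_eq_of_ne h2]
    symm
    by_cases hr : r.Prime
    · refine Nat.factorization_eq_zero_of_not_dvd fun hd => ?_
      rcases hAi r hr (hKc ▸ hd) with e | e
      · exact h1 e
      · exact h2 e
    · exact Nat.factorization_eq_zero_of_not_prime _ hr
  have hPQe : (P : Subgroup G) ⊔ (Q : Subgroup G) = K := by
    refine Subgroup.eq_of_le_of_card_ge hle (hPQ ▸ Nat.le_of_dvd Nat.card_pos ?_)
    refine Nat.Coprime.mul_dvd_of_dvd_of_dvd ?_ (Subgroup.card_dvd_of_le le_sup_left)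
      (Subgroup.card_dvd_of_le le_sup_right)
    rw [P.card_eq_multiplicity, Q.card_eq_multiplicity]
    exact Nat.Coprime.pow _ _ ((Nat.coprime_primes hp hq).mpr hqp.symm)
  refine ⟨q, Fact.mk hq, P, Q, A, hqp, hAc, ?_, ?_, ?_, ?_⟩ <;> rw [hPQe]
  · exact hPQ.symm
  · exact hKn
  · exact disjoint_iff.mp hK.disjoint.symm
  · exact hK.symm.sup_eq_top

/-- Let G be a finite group and p a prime, and suppose the conjugacy classes of p-regular elements of G (elements of order prime to p) have exactly two distinct sizes. Then either G has an abelian p-complement (an abelian subgroup of order prime to p and p-power index), or there are a prime q ≠ p, a Sylow p-subgroup P, a Sylow q-subgroup Q and a central subgroup A such that PQ is a normal subgroup of order #P·#Q and G is the internal direct product PQ × A. -/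
theorem result {G : Type*} [Group G] [Finite G] {p : ℕ} (hp : p.Prime)
    (h2 : Set.ncard (Set.range fun x : {x : G // (orderOf x).Coprime p} => (ConjClasses.mk (x : G)).carrier.ncard) = 2) :
    (∃ H : Subgroup G, IsMulCommutative H ∧ ¬ p ∣ Nat.card H ∧ ∃ k : ℕ, H.index = p ^ k) ∨
    (∃ (q : ℕ) (_ : Fact q.Prime) (P : Sylow p G) (Q : Sylow q G) (A : Subgroup G), q ≠ p ∧
        A ≤ Subgroup.center G ∧ Nat.card ↥((P : Subgroup G) ⊔ (Q : Subgroup G)) = Nat.card P * Nat.card Q ∧
        ((P : Subgroup G) ⊔ (Q : Subgroup G)).Normal ∧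
        ((P : Subgroup G) ⊔ (Q : Subgroup G)) ⊓ A = ⊥ ∧ ((P : Subgroup G) ⊔ (Q : Subgroup G)) ⊔ A = ⊤) := by
  set S := Set.range fun x : {x : G // (orderOf x).Coprime p} =>
    (ConjClasses.mk (x : G)).carrier.ncard with hS
  obtain ⟨a, b, hab, hSab⟩ := Set.ncard_eq_two.mp h2
  have hmem : ∀ x : G, Reg p x → (cz x).index ∈ S := fun x hx =>
    ⟨⟨x, hx⟩, Cfsg.Agent.S4034.carrier_ncard x⟩
  have hone : (1 : ℕ) ∈ S := by
    have := hmem 1 (by show (orderOf (1 : G)).Coprime p; rw [orderOf_one]; exact Nat.coprime_one_left p)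
    rwa [cz_eq_top.mpr (one_mem _), Subgroup.index_top] at this
  have hne1 : ∀ u : G, NC p u → (cz u).index ≠ 1 := fun u hu h1 =>
    hu.2 (cz_eq_top.mp (Subgroup.index_eq_one.mp h1))
  have hC : Const p G := by
    intro u v hu hv
    have h3 := hmem u hu.1
    have h4 := hmem v hv.1
    have h5 := hne1 u hu
    have h6 := hne1 v hv
    rw [hSab] at hone h3 h4
    simp only [Set.mem_insert_iff, Set.mem_singleton_iff] at hone h3 h4
    omega
  obtain ⟨u₀, hu₀⟩ : ∃ u : G, NC p u := by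
    by_contra! hno
    have hall : ∀ n ∈ S, n = 1 := by
      rintro _ ⟨⟨x, hx⟩, rfl⟩
      show (ConjClasses.mk x).carrier.ncard = 1
      rw [Cfsg.Agent.S4034.carrier_ncard, Subgroup.index_eq_one]
      exact cz_eq_top.mpr (by_contra fun hc => hno x ⟨hx, hc⟩)
    exact hab ((hall a (by simp [hSab])).trans (hall b (by simp [hSab])).symm)
  by_cases hpow : ∃ k : ℕ, (cz u₀).index = p ^ k
  · refine Or.inl ((Cfsg.Agent.S4034.result hp).mp fun x hx => ?_)
    rw [Cfsg.Agent.S4034.carrier_ncard]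
    by_cases hc : x ∈ Subgroup.center G
    · exact ⟨0, by rw [show Subgroup.centralizer ({x} : Set G) = ⊤ from cz_eq_top.mpr hc,
        Subgroup.index_top, pow_zero]⟩
    · obtain ⟨k, hk⟩ := hpow
      exact ⟨k, (hC x u₀ ⟨hx, hc⟩ hu₀).trans hk⟩
  by_cases hT : ∃ q r : ℕ, q.Prime ∧ r.Prime ∧ q ≠ p ∧ r ≠ p ∧ q ≠ r ∧ Rho G q ∧ Rho G r
  swap
  · exact Or.inr (one_prime hp hu₀ hT)
  refine (Cfg.false' (p := p) (G := G) ⟨hp, ?_, ?_, hT, ?_⟩).elim
  · refine fun u v hu hv hvu => cz_eq_of_commute hp hC (fun s => ?_) hu hv hvu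
    obtain ⟨q, r, hq, hr, hqp, hrp, hqr, hQ, hR⟩ := hT
    by_cases h : q = s
    · exact ⟨r, hr, hrp, fun e => hqr (h.trans e.symm), hR⟩
    · exact ⟨q, hq, hqp, h, hQ⟩
  · intro u v hu hv s _ _
    have h1 := Subgroup.card_mul_index (cz u)
    rw [← Subgroup.card_mul_index (cz v), hC u v hu hv] at h1
    rw [Nat.eq_of_mul_eq_mul_right (Nat.pos_of_ne_zero (cz v).index_ne_zero_of_finite) h1]
  · by_contra hno
    refine hpow ⟨_, Nat.eq_prime_pow_of_unique_prime_dvd (p := p)
      (cz u₀).index_ne_zero_of_finite fun {d} hd hdd => ?_⟩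
    by_contra hdp
    exact hno ⟨d, u₀, hd, hdp, hu₀, hdd⟩

end Cfsg.Agent.S4033
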