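import Cfsg.Statements.S4036
import Mathlib
-- import your own Cfsg.Agent.* helpers here

set_option autoImplicit false
open Cfsg

namespace Cfsg.Agent.S4036

/-- Let P be a finite abelian p-group and K a group of automorphisms of P (a subgroup of Aut P) whose order is divisible by p. If all non-identity elements of K have the same fixed-point subgroup on P, then K has no non-trivial normal subgroup of order prime to p. -/
theorem result {P : Type*} [CommGroup P] [Finite P] {p : ℕ}
    [Fact p.Prime] (hP : IsPGroup p P) (K : Subgroup (MulAut P)) (hK : p ∣ Nat.card K)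
    (hfix : ∀ x y : MulAut P, x ∈ K → y ∈ K → x ≠ 1 → y ≠ 1 → ∀ v : P, x v = v ↔ y v = v) :
    ∀ N : Subgroup ↥K, N.Normal → ¬ p ∣ Nat.card N → N = ⊥ := by
  classical
  intro N hN hpN
  by_contra hne
  obtain ⟨⟨n₀, hn₀⟩, hn01⟩ : ∃ n : N, n ≠ 1 := by
    by_contra! h
    exact hne ((Subgroup.eq_bot_iff_forall N).mpr fun x hx => congrArg Subtype.val (h ⟨x, hx⟩))
  have hn01' : ((n₀ : K) : MulAut P) ≠ 1 := fun h => hn01 (Subtype.ext (Subtype.ext h))
  have : Fintype N := Fintype.ofFinite _
  let π : P →* P :=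
    { toFun := fun v => ∏ n : N, ((n : K) : MulAut P) v
      map_one' := by simp
      map_mul' := fun v w => by simp [Finset.prod_mul_distrib] }
  obtain ⟨x, hx⟩ := exists_prime_orderOf_dvd_card' (G := K) p hK
  let W : Subgroup P := π.ker
  have hπx : ∀ v, π ((x : MulAut P) v) = (x : MulAut P) (π v) := fun v => by
    show ∏ n : N, ((n : K) : MulAut P) ((x : MulAut P) v) = (x : MulAut P) (∏ n : N, ((n : K) : MulAut P) v)
    rw [map_prod]
    let e : N ≃ N := (MulAut.conjNormal (H := N) x⁻¹).toEquiv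
    refine Fintype.prod_equiv e _ _ fun n => ?_
    show ((n : K) : MulAut P) ((x : MulAut P) v) = _
    rw [show (((e n : N) : K) : MulAut P) = (x : MulAut P)⁻¹ * ((n : K) : MulAut P) * (x : MulAut P) from by
      simp [e, MulAut.conjNormal_apply]]
    simp [MulAut.mul_apply]
  have hfixN : ∀ n : N, ∀ v, ((n : K) : MulAut P) (π v) = π v := fun n v => by
    show ((n : K) : MulAut P) (∏ m : N, ((m : K) : MulAut P) v) = ∏ m : N, ((m : K) : MulAut P) v
    rw [map_prod]
    exact Fintype.prod_equiv (Equiv.mulLeft n) _ _ fun m => by simp [MulAut.mul_apply]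
  let W' := {v : P // v ∈ W}
  let : MulAction (Subgroup.zpowers x) W' :=
    { smul := fun k v => ⟨((k : K) : MulAut P) v.1, by
        obtain ⟨k, hk⟩ := k
        obtain ⟨i, rfl⟩ := mem_powers_iff_mem_zpowers.mpr hk
        show π _ = 1
        induction i with
        | zero =>
          have hv : π v.1 = 1 := v.2
          simpa using hv
        | succ i ih =>
          have hi : (x ^ i : K) ∈ Subgroup.zpowers x := pow_mem (Subgroup.mem_zpowers x) i
          have h := ih hi
          change π (((x ^ i : K) : MulAut P) v.1) = 1 at h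
          show π (((x ^ (i + 1) : K) : MulAut P) v.1) = 1
          rw [pow_succ', Subgroup.coe_mul, MulAut.mul_apply, hπx, h, map_one]⟩
      one_smul := fun v => Subtype.ext rfl
      mul_smul := fun a b v => Subtype.ext rfl }
  have hgrp : IsPGroup p (Subgroup.zpowers x) := IsPGroup.of_card (n := 1) (by rw [Nat.card_zpowers, hx, pow_one])
  obtain ⟨w, hw, hw1⟩ : ∃ w ∈ W, w ≠ 1 := by
    obtain ⟨v, hv⟩ : ∃ v, ((n₀ : K) : MulAut P) v ≠ v := by
      by_contra! h
      exact hn01' (MulEquiv.ext h)
    refine ⟨((n₀ : K) : MulAut P) v / v, ?_, fun h => hv (div_eq_one.mp h)⟩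
    show π _ = 1
    rw [map_div, div_eq_one]
    exact Fintype.prod_equiv (Equiv.mulRight (⟨n₀, hn₀⟩ : N)) _ _ fun m => by simp [MulAut.mul_apply]
  have hdvd : p ∣ Nat.card W' := by
    have hWp : IsPGroup p W := hP.to_subgroup W
    obtain ⟨k, hk⟩ := IsPGroup.iff_card.mp hWp
    rcases k with _ | k
    · exact absurd (Subgroup.eq_bot_of_card_eq W hk ▸ hw : w ∈ (⊥ : Subgroup P)) (by simpa using hw1)
    · exact (dvd_pow_self p k.succ_ne_zero).trans (dvd_of_eq hk.symm)
  obtain ⟨⟨u, hu⟩, hufix, hu1⟩ := hgrp.exists_fixed_point_of_prime_dvd_card_of_fixed_point W' hdvd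
    (a := ⟨1, one_mem W⟩) (fun k => Subtype.ext (map_one ((k : K) : MulAut P)))
  have hu' : u ≠ 1 := fun h => hu1 (Subtype.ext h.symm)
  have hxu : (x : MulAut P) u = u := congrArg Subtype.val (hufix ⟨x, Subgroup.mem_zpowers x⟩)
  have hx1 : (x : MulAut P) ≠ 1 := fun h => by
    rw [show x = 1 from Subtype.ext h, orderOf_one] at hx
    exact (Fact.out : p.Prime).ne_one hx.symm
  have hall : ∀ n : N, ((n : K) : MulAut P) u = u := fun n => by
    by_cases h : ((n : K) : MulAut P) = 1
    · rw [h]; rfl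
    · exact (hfix x n x.2 (n : K).2 hx1 h u).mp hxu
  have h1 : u ^ Nat.card N = 1 := by
    have h : π u = 1 := hu
    change ∏ n : N, ((n : K) : MulAut P) u = 1 at h
    rwa [Finset.prod_congr rfl fun n _ => hall n, Finset.prod_const, Finset.card_univ, ← Nat.card_eq_fintype_card] at h
  obtain ⟨k, hk⟩ := IsPGroup.iff_orderOf.mp hP u
  have hd := orderOf_dvd_of_pow_eq_one h1
  rw [hk] at hd
  rcases k with _ | k
  · exact hu' (orderOf_eq_one_iff.mp (by rw [hk, pow_zero]))
  · exact hpN ((dvd_pow_self p k.succ_ne_zero).trans hd)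

end Cfsg.Agent.S4036
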