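import Cfsg.Statements.S4038
import Cfsg.Agent.Lib.NilMaxAction.Two
import Cfsg.Agent.Lib.Transfer.ThompsonComplement
import Cfsg.Agent.Lib.Coprime.Action
import Cfsg.Agent.Lib.Transfer.Hall
import Cfsg.Agent.Lib.Splitting.Nilpotent
import Cfsg.Agent.Lib.OddOrder.Solvable

set_option autoImplicit false
set_option linter.style.haveILetI false
open Cfsg
open scoped commutatorElement

namespace Cfsg.Agent.S4038

open CfsgLib

universe u v

variable {G : Type u} [Group G] [Finite G] {A : Type v} [Group A] [Finite A]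

/-- One of two groups of coprime orders is solvable. -/
theorem solvable_or (G : Type u) [Group G] [Finite G] (A : Type v) [Group A] [Finite A]
    (hcop : (Nat.card A).Coprime (Nat.card G)) : Group.IsSolvable A ∨ Group.IsSolvable G := by
  rcases Nat.even_or_odd (Nat.card A) with ha | ha
  · refine Or.inr (CfsgLib.OddOrder.odd_order_solvable (Nat.not_even_iff_odd.mp fun hb => ?_))
    exact Nat.not_coprime_of_dvd_of_dvd one_lt_two ha.two_dvd hb.two_dvd hcop
  · exact Or.inl (CfsgLib.OddOrder.odd_order_solvable ha)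

/-- A coprime action fixes a Sylow subgroup for each prime. -/
theorem exists_fixed_sylow (φ : A →* MulAut G) (hcop : (Nat.card A).Coprime (Nat.card G))
    (p : ℕ) [Fact p.Prime] : ∃ Q : Sylow p G, ∀ a, (Q : Subgroup G).map (φ a).toMonoidHom = Q := by
  classical
  let i : G →* G ⋊[φ] A := SemidirectProduct.inl
  let j : A →* G ⋊[φ] A := SemidirectProduct.inr
  haveI : Finite (G ⋊[φ] A) := Finite.of_equiv _ SemidirectProduct.equivProd.symm
  have hi : Function.Injective i := SemidirectProduct.inl_injective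
  have hconj : ∀ (a : A) (g : G), j a * i g * (j a)⁻¹ = i (φ a g) := fun a g => by
    have h1 := SemidirectProduct.inl_aut (φ := φ) a g
    rw [map_inv] at h1
    exact h1.symm
  haveI hKn : i.range.Normal := by
    show (SemidirectProduct.inl : G →* G ⋊[φ] A).range.Normal
    rw [SemidirectProduct.range_inl_eq_ker_rightHom]
    infer_instance
  let e : G ≃* i.range := MonoidHom.ofInjective hi
  let e' : A ≃* j.range := MonoidHom.ofInjective SemidirectProduct.inr_injective
  have hcop' : (Nat.card j.range).Coprime (Nat.card i.range) := by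
    rwa [← Nat.card_congr e'.toEquiv, ← Nat.card_congr e.toEquiv]
  have hsolv : Group.IsSolvable j.range ∨ Group.IsSolvable i.range := by
    rcases solvable_or G A hcop with h | h <;> haveI := h
    · exact Or.inl (Group.isSolvable_of_surjective (f := e'.toMonoidHom) e'.surjective)
    · exact Or.inr (Group.isSolvable_of_surjective (f := e.toMonoidHom) e.surjective)
  obtain ⟨P, hP⟩ := Coprime.exists_invariant_sylow (A := j.range) (K := i.range)
    Subgroup.le_normalizer_of_normal hcop' hsolv p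
  let Q := P.mapSurjective (f := e.symm.toMonoidHom) e.symm.surjective
  refine ⟨Q, fun a => ?_⟩
  have hmap : (Q : Subgroup G).map i = (P : Subgroup i.range).map i.range.subtype := by
    show ((P : Subgroup i.range).map e.symm.toMonoidHom).map i = _
    rw [Subgroup.map_map]
    exact congrArg (fun f => (P : Subgroup i.range).map f)
      (MonoidHom.ext fun x => congrArg Subtype.val (e.apply_symm_apply x))
  refine Subgroup.eq_of_le_of_card_ge ?_
    (le_of_eq (Subgroup.card_map_of_injective (φ a).injective).symm)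
  rintro _ ⟨x, hx, rfl⟩
  have := (Subgroup.mem_normalizer_iff.mp (hP ⟨a, rfl⟩) (i x)).mp
    (hmap ▸ Subgroup.mem_map_of_mem i hx)
  rw [← hmap, hconj] at this
  obtain ⟨y, hy, hye⟩ := this
  exact hi hye ▸ hy

/-- A two-element image has a two-element preimage. -/
theorem lift_two {H : Type*} [Group H] [Finite H] (f : G →* H) {a : G}
    (ha : ∃ k : ℕ, f a ^ 2 ^ k = 1) :
    ∃ i : ℕ, (∃ k : ℕ, (a ^ i) ^ 2 ^ k = 1) ∧ f (a ^ i) = f a := by
  obtain ⟨k, m, hm, hn⟩ := Nat.exists_eq_two_pow_mul_odd (orderOf_pos a).ne'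
  obtain ⟨l, hl⟩ := ha
  have hcop : Nat.Coprime m (orderOf (f a)) :=
    ((Nat.coprime_two_right.mpr hm).pow_right l).coprime_dvd_right (orderOf_dvd_of_pow_eq_one hl)
  obtain ⟨j, hj⟩ := exists_pow_eq_self_of_coprime hcop
  refine ⟨m * j, ⟨k, ?_⟩, by rw [map_pow, pow_mul, hj]⟩
  rw [← pow_mul]
  refine orderOf_dvd_iff_pow_eq_one.mp ⟨j, ?_⟩
  rw [hn]; ring

theorem map_autC {C : Subgroup G} [C.Normal] {M : Subgroup G} (ψ : G ≃* G) (hψ : C.map ψ.toMonoidHom = C)
    (hψM : ∀ m, m ∈ M → ψ m ∈ M) :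
    ∀ m, m ∈ M.map (QuotientGroup.mk' C) →
      QuotientGroup.congr C C ψ hψ m ∈ M.map (QuotientGroup.mk' C) := by
  rintro _ ⟨m, hm, rfl⟩
  exact ⟨ψ m, hψM m hm, rfl⟩

theorem aux : ∀ (n : ℕ) (G : Type u) [Group G] [Finite G], Nat.card G = n →
    ∀ (φ : A →* MulAut G), (Nat.card A).Coprime (Nat.card G) → ∀ M : Subgroup G, M ≠ ⊤ →
    (∀ a : A, M.map (φ a).toMonoidHom = M) →
    (∀ H : Subgroup G, M ≤ H → H ≠ ⊤ → (∀ a : A, ∀ h : G, h ∈ H → φ a h ∈ H) → H = M) →
    Group.IsNilpotent M →
    (∀ a ∈ M, ∀ b ∈ M, ∀ c ∈ M, (∃ k : ℕ, a ^ 2 ^ k = 1) → (∃ k : ℕ, b ^ 2 ^ k = 1) →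
      (∃ k : ℕ, c ^ 2 ^ k = 1) → ⁅a, b⁆ * c = c * ⁅a, b⁆) → Group.IsSolvable G := by
  intro n
  induction n using Nat.strong_induction_on with
  | _ n ih =>
  intro G _ _ hn φ hcop M hMtop hMA hmax hnil hcl
  classical
  haveI := hnil
  have hMs : Group.IsSolvable M := inferInstance
  rcases eq_or_ne M.normalCore ⊥ with hcore | hcore
  swap
  · set C := M.normalCore with hC
    haveI : C.Normal := Subgroup.normalCore_normal M
    have hCM : C ≤ M := Subgroup.normalCore_le M
    have hCA : ∀ a, C.map (φ a).toMonoidHom = C := fun a => by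
      refine Subgroup.eq_of_le_of_card_ge ?_
        (le_of_eq (Subgroup.card_map_of_injective (φ a).injective).symm)
      haveI : (C.map (φ a).toMonoidHom).Normal := Subgroup.Normal.map ‹_› _ (φ a).surjective
      exact Subgroup.normal_le_normalCore.mpr (le_of_le_of_eq (Subgroup.map_mono hCM) (hMA a))
    set f := QuotientGroup.mk' C with hf
    have hsurj : Function.Surjective f := QuotientGroup.mk'_surjective _
    have hcomap : (M.map f).comap f = M := by
      rw [Subgroup.comap_map_eq, hf, QuotientGroup.ker_mk', sup_eq_left.mpr hCM]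
    have hlt : Nat.card (G ⧸ C) < n := by
      rw [← hn, Subgroup.card_eq_card_quotient_mul_card_subgroup C]
      exact lt_mul_of_one_lt_right Nat.card_pos ((Subgroup.one_lt_card_iff_ne_bot C).mpr hcore)
    let ψ : A →* MulAut (G ⧸ C) :=
      { toFun := fun a => QuotientGroup.congr C C (φ a) (hCA a)
        map_one' := by
          ext x
          obtain ⟨g, rfl⟩ := hsurj x
          change f (φ 1 g) = f g
          rw [map_one]; rfl
        map_mul' := fun a b => by
          ext x
          obtain ⟨g, rfl⟩ := hsurj x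
          change f (φ (a * b) g) = f (φ a (φ b g))
          rw [map_mul]; rfl }
    have hcop' : (Nat.card A).Coprime (Nat.card (G ⧸ C)) :=
      hcop.coprime_dvd_right (Subgroup.card_quotient_dvd_card C)
    have hq : Group.IsSolvable (G ⧸ C) := by
      refine ih _ hlt _ rfl ψ hcop' (M.map f) ?_ ?_ ?_ ?_ ?_
      · intro h; exact hMtop (by rw [← hcomap, h, Subgroup.comap_top])
      · intro a
        refine Subgroup.eq_of_le_of_card_ge ?_
          (le_of_eq (Subgroup.card_map_of_injective (ψ a).injective).symm)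
        rintro _ ⟨y, hy, rfl⟩
        exact map_autC (φ a) (hCA a) (fun m hm => (hMA a).le ⟨m, hm, rfl⟩) y hy
      · intro L hL hLtop hLA
        have h1 : M ≤ L.comap f := fun m hm => hL ⟨m, hm, rfl⟩
        have h2 := hmax _ h1 (fun e => hLtop (by
          rw [← Subgroup.map_comap_eq_self_of_surjective hsurj L, e,
            Subgroup.map_top_of_surjective _ hsurj]))
          (fun a h hh => hLA a (f h) hh)
        rw [← Subgroup.map_comap_eq_self_of_surjective hsurj L, h2]
      · exact Group.nilpotent_of_surjective (f.subgroupMap M) (f.subgroupMap_surjective M)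
      · rintro _ ⟨a, ha, rfl⟩ _ ⟨b, hb, rfl⟩ _ ⟨c, hc, rfl⟩ ha2 hb2 hc2
        obtain ⟨i, hi2, hi⟩ := lift_two f ha2
        obtain ⟨j, hj2, hj⟩ := lift_two f hb2
        obtain ⟨l, hl2, hl⟩ := lift_two f hc2
        rw [← hi, ← hj, ← hl, ← map_commutatorElement, ← map_mul, ← map_mul,
          hcl _ (pow_mem ha i) _ (pow_mem hb j) _ (pow_mem hc l) hi2 hj2 hl2]
    haveI := hq
    haveI : Group.IsSolvable C := Group.isSolvable_of_isSolvable_injective
      (f := Subgroup.inclusion hCM) (Subgroup.inclusion_injective hCM)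
    exact Group.isSolvable_of_ker_le_range C.subtype f (by
      rw [hf, QuotientGroup.ker_mk', Subgroup.range_subtype])
  rcases eq_or_ne M ⊥ with rfl | hMbot
  · -- no proper nontrivial invariant subgroup
    obtain ⟨q, hq, hqd⟩ := Nat.exists_prime_and_dvd (show Nat.card G ≠ 1 from fun h => hMtop
      ((Subgroup.eq_top_of_card_eq _ (by rw [Subgroup.card_bot, h]))))
    haveI := Fact.mk hq
    obtain ⟨Q, hQ⟩ := exists_fixed_sylow φ hcop q
    by_cases hQtop : (Q : Subgroup G) = ⊤
    · haveI : Group.IsNilpotent G :=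
        (Q.2.of_surjective (Q : Subgroup G).subtype (fun g => ⟨⟨g, hQtop ▸ Subgroup.mem_top g⟩, rfl⟩)).isNilpotent
      infer_instance
    · exact absurd (hmax _ bot_le hQtop fun a x hx => (hQ a).le ⟨x, hx, rfl⟩)
        (Q.ne_bot_of_dvd_card hqd)
  have hNM : ∀ K : Subgroup G, K ≠ ⊥ → K ≤ M → M ≤ Subgroup.normalizer (K : Set G) →
      (∀ a, K.map (φ a).toMonoidHom = K) → Subgroup.normalizer (K : Set G) = M := by
    intro K hK hKM hle hKA
    refine hmax _ hle (fun e => ?_) fun a h hh => ?_
    · haveI : K.Normal := Subgroup.normalizer_eq_top_iff.mp e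
      exact hK (le_bot_iff.mp (hcore ▸ Subgroup.normal_le_normalCore.mpr hKM))
    · have h2 : φ a h ∈ (Subgroup.normalizer (K : Set G)).map (φ a).toMonoidHom := ⟨h, hh, rfl⟩
      rw [Subgroup.map_equiv_normalizer_eq, hKA a] at h2
      exact h2
  -- every prime divisor of `|M|` gives a normal complement
  have hnpc : ∀ p : ℕ, p.Prime → p ∣ Nat.card M → Cfsg.HasNormalPComplement p G ∧
      ¬ p ∣ Nat.card (Cfsg.pResidual p G) ∧
      ∃ R : Subgroup G, R ≤ M ∧ Subgroup.centralizer (R : Set G) ≤ M := by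
    intro p hp hpM
    haveI : Fact p.Prime := ⟨hp⟩
    obtain ⟨P₀⟩ := (inferInstance : Nonempty (Sylow p M))
    haveI hP₀n : (P₀ : Subgroup M).Normal := CfsgLib.Transfer.sylow_normal_of_isNilpotent P₀
    set R := (P₀ : Subgroup M).map M.subtype with hR
    have hRM : R ≤ M := Subgroup.map_subtype_le _
    have hRne : R ≠ ⊥ := by
      rw [hR, ne_eq, Subgroup.map_eq_bot_iff_of_injective _ M.subtype_injective]
      exact P₀.ne_bot_of_dvd_card hpM
    have hMR : M ≤ Subgroup.normalizer (R : Set G) :=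
      (Subgroup.normal_subgroupOf_iff_le_normalizer hRM).mp (by
        rw [hR, Subgroup.subgroupOf, Subgroup.comap_map_eq_self_of_injective M.subtype_injective]
        exact hP₀n)
    -- the `p`-elements of `M` lie in `R`
    have hpel : ∀ x ∈ M, (∃ k : ℕ, x ^ p ^ k = 1) → x ∈ R := by
      intro x hx hk
      obtain ⟨k, hk⟩ := hk
      have hz : IsPGroup p (Subgroup.zpowers (⟨x, hx⟩ : M)) := by
        rintro ⟨y, hy⟩
        obtain ⟨i, rfl⟩ := Subgroup.mem_zpowers_iff.mp hy
        refine ⟨k, Subtype.ext ?_⟩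
        have : (⟨x, hx⟩ : M) ^ p ^ k = 1 := Subtype.ext (by simpa using hk)
        rw [Subgroup.coe_pow, Subgroup.coe_one, ← zpow_natCast ((⟨x, hx⟩ : M) ^ i), zpow_comm,
          zpow_natCast, this, one_zpow]
      obtain ⟨T, hT⟩ := hz.exists_le_sylow
      haveI := Sylow.unique_of_normal P₀ hP₀n
      rw [Subsingleton.elim T P₀] at hT
      exact ⟨⟨x, hx⟩, hT (Subgroup.mem_zpowers _), rfl⟩
    have hRA : ∀ a, R.map (φ a).toMonoidHom = R := by
      intro a
      refine Subgroup.eq_of_le_of_card_ge ?_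
        (le_of_eq (Subgroup.card_map_of_injective (φ a).injective).symm)
      rintro _ ⟨x, hx, rfl⟩
      refine hpel _ ((hMA a).le ⟨x, hRM hx, rfl⟩) ?_
      obtain ⟨k, hk⟩ := (P₀.2.map M.subtype) ⟨x, hx⟩
      refine ⟨k, ?_⟩
      show (φ a x) ^ p ^ k = 1
      rw [← map_pow, show x ^ p ^ k = 1 from congrArg Subtype.val hk, map_one]
    have hNR := hNM R hRne hRM hMR hRA
    obtain ⟨S, hRS⟩ := ((P₀.2.map M.subtype) : IsPGroup p R).exists_le_sylow
    have hSR : (S : Subgroup G) = R := by
      by_contra hne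
      haveI := S.2.isNilpotent
      have hlt : R.subgroupOf (S : Subgroup G) < ⊤ := lt_top_iff_ne_top.mpr fun e => hne
        (le_antisymm (Subgroup.subgroupOf_eq_top.mp e) hRS)
      obtain ⟨w, hwN, hwR⟩ := SetLike.exists_of_lt
        (Group.normalizerCondition_of_isNilpotent (G := (S : Subgroup G)) _ hlt)
      refine hwR (Subgroup.mem_subgroupOf.mpr (hpel _ ?_ ?_))
      · rw [← hNR]
        refine NilMaxAction.mem_normalizer_of_conj fun x hx => ?_
        exact Subgroup.mem_subgroupOf.mp
          ((Subgroup.mem_normalizer_iff.mp hwN ⟨x, hRS hx⟩).mp hx)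
      · obtain ⟨k, hk⟩ := S.2 w
        exact ⟨k, by simpa using congrArg Subtype.val hk⟩
    have hZne : NilMaxAction.zc R ≠ ⊥ := by
      haveI : Nontrivial R := (Subgroup.nontrivial_iff_ne_bot _).mpr hRne
      haveI := ((P₀.2.map M.subtype) : IsPGroup p R).center_nontrivial
      obtain ⟨z, hz⟩ := exists_ne (1 : Subgroup.center R)
      intro e
      refine hz (Subtype.ext (Subtype.ext ?_))
      have hmem : ((z : R) : G) ∈ NilMaxAction.zc R := NilMaxAction.mem_zc.mpr
        ⟨(z : R).2, fun r hr => congrArg Subtype.val (Subgroup.mem_center_iff.mp z.2 ⟨r, hr⟩)⟩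
      rw [e, Subgroup.mem_bot] at hmem
      exact hmem
    have hsplit : ∀ m ∈ M, ∃ z ∈ R, ∃ r : G, (∀ a ∈ R, a * r = r * a) ∧ m = z * r := by
      intro m hm
      have : (⟨m, hm⟩ : M) ∈ (P₀ : Subgroup M) ⊔
          Subgroup.centralizer ((P₀ : Subgroup M) : Set M) := by
        rw [CfsgLib.Transfer.sylow_sup_centralizer_eq_top P₀]; trivial
      obtain ⟨z, hz, r, hr, he⟩ := Subgroup.mem_sup_of_normal_left.mp this
      refine ⟨(z : G), ⟨z, hz, rfl⟩, (r : G), ?_, (congrArg Subtype.val he).symm⟩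
      rintro _ ⟨a, ha, rfl⟩
      exact congrArg Subtype.val (Subgroup.mem_centralizer_iff.mp hr a ha)
    have hMzc : M ≤ Subgroup.normalizer ((NilMaxAction.zc R : Subgroup G) : Set G) := fun m hm =>
      NilMaxAction.mem_normalizer_of_conj fun x hx => NilMaxAction.conj_mem_zc (hMR hm) hx
    have hCR : Subgroup.centralizer (R : Set G) ≤ M :=
      (Subgroup.centralizer_le_normalizer _).trans (le_of_eq hNR)
    by_cases hp2 : p = 2
    · subst hp2
      have hu1ne : NilMaxAction.u1 R ≠ ⊥ := by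
        haveI : Nontrivial (NilMaxAction.zc R) := (Subgroup.nontrivial_iff_ne_bot _).mpr hZne
        have hzp : IsPGroup 2 (NilMaxAction.zc R) :=
          (P₀.2.map M.subtype).to_le inf_le_left
        obtain ⟨k, hk0, hk⟩ := hzp.nontrivial_iff_card.mp inferInstance
        obtain ⟨x, hx⟩ := exists_prime_orderOf_dvd_card' 2
          (show 2 ∣ Nat.card (NilMaxAction.zc R) from hk ▸ dvd_pow_self 2 hk0.ne')
        intro e
        have hmem : (x : G) ∈ NilMaxAction.u1 R := NilMaxAction.mem_u1.mpr ⟨x.2, by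
          have h1 := pow_orderOf_eq_one x
          rw [hx, pow_two] at h1
          simpa using congrArg Subtype.val h1⟩
        rw [e, Subgroup.mem_bot] at hmem
        have : x = 1 := Subtype.ext hmem
        rw [this, orderOf_one] at hx
        omega
      have hMu : M ≤ Subgroup.normalizer ((NilMaxAction.u1 R : Subgroup G) : Set G) := fun m hm =>
        NilMaxAction.mem_normalizer_of_conj fun x hx => NilMaxAction.conj_mem_u1 (hMR hm) hx
      have hCu : Subgroup.centralizer ((NilMaxAction.u1 R : Subgroup G) : Set G) ≤ M :=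
        (Subgroup.centralizer_le_normalizer _).trans (le_of_eq (hNM _ hu1ne
          ((NilMaxAction.u1_le_zc R).trans (inf_le_left.trans hRM)) hMu
          fun a => by rw [NilMaxAction.map_u1, hRA]))
      have htwo : ∀ x ∈ R, ∃ k : ℕ, x ^ 2 ^ k = 1 := fun x hx => by
        obtain ⟨k, hk⟩ := (P₀.2.map M.subtype) ⟨x, hx⟩
        exact ⟨k, congrArg Subtype.val hk⟩
      have hset : NilMaxAction.Setup S M := by
        refine ⟨?_, ?_, ?_, ?_, ?_, ?_⟩ <;> rw [hSR]
        · exact hRM
        · intro a ha b hb c hc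
          exact hcl a (hRM ha) b (hRM hb) c (hRM hc) (htwo a ha) (htwo b hb) (htwo c hc)
        · exact hsplit
        · exact hpel
        · exact le_of_eq hNR
        · exact hCu
      have hodd : Odd (Nat.card A) := Nat.not_even_iff_odd.mp fun he =>
        Nat.not_coprime_of_dvd_of_dvd one_lt_two he.two_dvd
          (hpM.trans (Subgroup.card_subgroup_dvd_card M)) hcop
      have hfus := NilMaxAction.no_fusion hset φ hodd (fun a => by rw [hSR]; exact hRA a) hMA
        (hSR ▸ hRne) hNM
      have h := CfsgLib.Transfer.hasNormalPComplement_of_no_fusion S hfus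
      exact ⟨h, CfsgLib.Transfer.hasNormalPComplement_iff_pResidual.mp h, R, hRM, hCR⟩
    · have hMnpc : Cfsg.HasNormalPComplement p M := CfsgLib.Splitting.hasNPC_of_isNilpotent hnil p
      have hthy : CfsgLib.Transfer.ThompsonHyp p p (S : Subgroup G) := by
        rw [hSR]
        have hJle := (CfsgLib.Transfer.thompsonJ_le p R).trans hRM
        have hJne := CfsgLib.Transfer.thompsonJ_ne_bot (dvd_refl p) (P₀.2.map M.subtype) hRne
        have hJchar : M ≤ Subgroup.normalizer (CfsgLib.Transfer.thompsonJ p R : Set G) :=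
          hMR.trans (CfsgLib.Transfer.normalizer_le_normalizer_thompsonJ p R)
        have hJA : ∀ a, (CfsgLib.Transfer.thompsonJ p R).map (φ a).toMonoidHom =
            CfsgLib.Transfer.thompsonJ p R := fun a => by
          rw [CfsgLib.Transfer.map_thompsonJ p (φ a).toMonoidHom (φ a).injective.injOn, hRA]
        refine ⟨CfsgLib.Transfer.hasNPC_of_le (le_of_eq (hNM _ hJne hJle hJchar hJA)) hMnpc, ?_⟩
        refine CfsgLib.Transfer.hasNPC_of_le ?_ hMnpc
        exact (Subgroup.centralizer_le_normalizer _).trans (le_of_eq (hNM _ hZne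
          (inf_le_left.trans hRM) hMzc fun a => by
            show (NilMaxAction.zc R).map (φ a).toMonoidHom = NilMaxAction.zc R
            rw [NilMaxAction.map_zc, hRA]))
      have h := CfsgLib.Transfer.thompson_normal_complement (dvd_refl p) (Or.inl hp2) S hthy
      exact ⟨h, CfsgLib.Transfer.hasNormalPComplement_iff_pResidual.mp h, R, hRM, hCR⟩
  let π := (Nat.card M).primeFactors
  set K : Subgroup G := ⨅ p : π, Cfsg.pResidual (p : ℕ) G with hK
  haveI : ∀ p : π, (Cfsg.pResidual (p : ℕ) G).Normal := fun p => CfsgLib.Transfer.pResidual_normal _ _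
  haveI : K.Normal := Subgroup.normal_iInf_normal fun p => inferInstance
  have hcopK : (Nat.card M).Coprime (Nat.card K) := by
    refine Nat.coprime_of_dvd fun p hp hpM hpK => ?_
    refine (hnpc p hp hpM).2.1 (hpK.trans (Subgroup.card_dvd_of_le ?_))
    exact iInf_le (fun q : π => Cfsg.pResidual (q : ℕ) G)
      ⟨p, Nat.mem_primeFactors.mpr ⟨hp, hpM, Nat.card_pos.ne'⟩⟩
  have hKA : ∀ a, ∀ x ∈ K, φ a x ∈ K := by
    intro a x hx
    rw [hK, Subgroup.mem_iInf] at hx ⊢
    exact fun p => CfsgLib.Transfer.map_pResidual_le (φ a).toMonoidHom ⟨x, hx p, rfl⟩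
  by_cases hK0 : K = ⊥
  · haveI : ∀ p : π, Group.IsNilpotent (G ⧸ Cfsg.pResidual (p : ℕ) G) := fun p => by
      haveI : Fact (p : ℕ).Prime := ⟨Nat.prime_of_mem_primeFactors p.2⟩
      exact (CfsgLib.Transfer.isPGroup_quotient_pResidual : IsPGroup (p : ℕ) _).isNilpotent
    haveI : Group.IsNilpotent (∀ p : π, G ⧸ Cfsg.pResidual (p : ℕ) G) := Group.isNilpotent_pi
    let F : G →* (∀ p : π, G ⧸ Cfsg.pResidual (p : ℕ) G) := MonoidHom.pi fun p => QuotientGroup.mk' _
    refine Group.isSolvable_of_isSolvable_injective (f := F) ?_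
    rw [← MonoidHom.ker_eq_bot_iff, eq_bot_iff, ← hK0, hK]
    intro g hg
    rw [Subgroup.mem_iInf]
    intro p
    exact (QuotientGroup.eq_one_iff g).mp (congrFun hg p)
  obtain ⟨q, hq, hqK⟩ := Nat.exists_prime_and_dvd ((Subgroup.one_lt_card_iff_ne_bot K).mpr hK0).ne'
  haveI : Fact q.Prime := ⟨hq⟩
  have hMK : M ≤ Subgroup.normalizer (K : Set G) := by
    rw [Subgroup.normalizer_eq_top_iff.mpr inferInstance]; exact le_top
  obtain ⟨Q, hQ⟩ := CfsgLib.Coprime.exists_invariant_sylow (A := M) (K := K) hMK hcopK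
    (Or.inl hMs) q
  set W := (Q : Subgroup K).map K.subtype with hW
  -- `W` is the only such subgroup, hence invariant
  have hWA : ∀ a, W.map (φ a).toMonoidHom = W := by
    intro a
    let e : K ≃* K :=
      { toFun := fun x => ⟨φ a x, hKA a x x.2⟩
        invFun := fun x => ⟨(φ a).symm x, by
          have := hKA a⁻¹ x x.2
          rwa [map_inv] at this⟩
        left_inv := fun x => Subtype.ext ((φ a).symm_apply_apply _)
        right_inv := fun x => Subtype.ext ((φ a).apply_symm_apply _)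
        map_mul' := fun x y => Subtype.ext (map_mul (φ a) _ _) }
    let Q' := Q.mapSurjective (f := e.toMonoidHom) e.surjective
    have hQ' : (Q' : Subgroup K).map K.subtype = W.map (φ a).toMonoidHom := by
      show ((Q : Subgroup K).map e.toMonoidHom).map K.subtype = _
      rw [Subgroup.map_map, hW, Subgroup.map_map]
      rfl
    have hQ'M : M ≤ Subgroup.normalizer ((Q' : Subgroup K).map K.subtype : Set G) := by
      rw [hQ', ← hMA a, ← Subgroup.map_equiv_normalizer_eq]
      exact Subgroup.map_mono hQ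
    obtain ⟨c, hc, hcQ⟩ := CfsgLib.Coprime.invariant_sylow_conj hMK hcopK (Or.inl hMs) Q Q' hQ hQ'M
    obtain ⟨r, hr, hrd⟩ := Nat.exists_prime_and_dvd ((Subgroup.one_lt_card_iff_ne_bot M).mpr hMbot).ne'
    obtain ⟨R, hRM, hCR⟩ := (hnpc r hr hrd).2.2
    have hcM : (c : G) ∈ M := hCR (Subgroup.centralizer_le hRM hc)
    have hc1 : (c : G) = 1 := by
      have : (c : G) ∈ M ⊓ K := ⟨hcM, c.2⟩
      rwa [Subgroup.inf_eq_bot_of_coprime hcopK, Subgroup.mem_bot] at this
    rw [show c = 1 from Subtype.ext hc1, one_smul] at hcQ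
    rw [← hQ', ← hcQ]
  have hWM : ¬ W ≤ M := by
    intro hle
    have h1 : Nat.card W ∣ Nat.card M := Subgroup.card_dvd_of_le hle
    have h2 : Nat.card W ∣ Nat.card K := Subgroup.card_dvd_of_le (Subgroup.map_subtype_le _)
    have h3 := Nat.eq_one_of_dvd_coprimes hcopK h1 h2
    rw [hW, Subgroup.card_map_of_injective K.subtype_injective, Q.card_eq_multiplicity] at h3
    exact (Nat.one_lt_pow (Nat.pos_iff_ne_zero.mp (hq.factorization_pos_of_dvd Nat.card_pos.ne' hqK))
      hq.one_lt).ne' h3
  have htop : W ⊔ M = ⊤ := by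
    by_contra hne
    refine hWM (le_sup_left.trans (hmax _ le_sup_right hne fun a h hh => ?_).le)
    have := Subgroup.mem_map_of_mem (φ a).toMonoidHom hh
    rw [Subgroup.map_sup, hWA a, hMA a] at this
    exact this
  have hWsolv : Group.IsSolvable W := by
    haveI : Group.IsNilpotent W := ((Q.2.map K.subtype) : IsPGroup q W).isNilpotent
    infer_instance
  have hs := CfsgLib.Coprime.isSolvable_sup_of_le_normalizer hWsolv hMs hQ
  rw [htop] at hs
  haveI := hs
  exact Group.isSolvable_of_surjective (f := (Subgroup.topEquiv : (⊤ : Subgroup G) ≃* G).toMonoidHom)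
    (MulEquiv.surjective _)

/-- Let A and G be finite groups of coprime orders with A acting on G by automorphisms. Suppose G has a proper A-invariant subgroup M, maximal among proper A-invariant subgroups, which is nilpotent and whose Sylow 2-subgroups have nilpotency class at most 2. Then G is solvable. -/
theorem result {G A : Type*} [Group G] [Finite G]
    [Group A] [Finite A] (φ : A →* MulAut G) (hcop : (Nat.card A).Coprime (Nat.card G))
    (M : Subgroup G) (hMtop : M ≠ ⊤) (hMinv : ∀ a : A, ∀ m : G, m ∈ M → φ a m ∈ M)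
    (hMmax : ∀ H : Subgroup G, M ≤ H → H ≠ ⊤ → (∀ a : A, ∀ h : G, h ∈ H → φ a h ∈ H) → H = M)
    (hnil : Group.IsNilpotent M) (h2 : ∀ S : Sylow 2 ↥M, Group.nilpotencyClass ↥(S : Subgroup ↥M) ≤ 2) :
    Group.IsSolvable G := by
  refine aux (A := A) _ G rfl φ hcop M hMtop (fun a => ?_) hMmax hnil ?_
  · refine Subgroup.eq_of_le_of_card_ge ?_
      (le_of_eq (Subgroup.card_map_of_injective (φ a).injective).symm)
    rintro _ ⟨m, hm, rfl⟩
    exact hMinv a m hm
  haveI := hnil
  obtain ⟨S⟩ := (inferInstance : Nonempty (Sylow 2 M))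
  haveI hSn : (S : Subgroup M).Normal := CfsgLib.Transfer.sylow_normal_of_isNilpotent S
  have hmem : ∀ x : G, ∀ hx : x ∈ M, (∃ k : ℕ, x ^ 2 ^ k = 1) → (⟨x, hx⟩ : M) ∈ (S : Subgroup M) := by
    rintro x hx ⟨k, hk⟩
    have hz : IsPGroup 2 (Subgroup.zpowers (⟨x, hx⟩ : M)) := by
      rintro ⟨y, hy⟩
      obtain ⟨i, rfl⟩ := Subgroup.mem_zpowers_iff.mp hy
      refine ⟨k, Subtype.ext ?_⟩
      have : (⟨x, hx⟩ : M) ^ 2 ^ k = 1 := Subtype.ext (by simpa using hk)
      rw [Subgroup.coe_pow, Subgroup.coe_one, ← zpow_natCast ((⟨x, hx⟩ : M) ^ i), zpow_comm,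
        zpow_natCast, this, one_zpow]
    obtain ⟨T, hT⟩ := hz.exists_le_sylow
    haveI := Sylow.unique_of_normal S hSn
    rw [Subsingleton.elim T S] at hT
    exact hT (Subgroup.mem_zpowers _)
  intro a ha b hb c hc ha2 hb2 hc2
  haveI : Group.IsNilpotent (S : Subgroup M) := S.2.isNilpotent
  have h2' : Subgroup.upperCentralSeries (S : Subgroup M) 2 = ⊤ := by
    rw [eq_top_iff, ← Subgroup.upperCentralSeries_nilpotencyClass (G := (S : Subgroup M))]
    exact Subgroup.upperCentralSeries_mono _ (h2 S)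
  have hm1 : (⟨⟨a, ha⟩, hmem a ha ha2⟩ : (S : Subgroup M)) ∈
      Subgroup.upperCentralSeries (S : Subgroup M) 2 := by rw [h2']; trivial
  have h1 := Subgroup.mem_upperCentralSeries_succ_iff.mp hm1 ⟨⟨b, hb⟩, hmem b hb hb2⟩
  rw [Subgroup.upperCentralSeries_one, Subgroup.mem_center_iff] at h1
  exact (congrArg (fun z : (S : Subgroup M) => ((z : M) : G)) (h1 ⟨⟨c, hc⟩, hmem c hc hc2⟩)).symm

end Cfsg.Agent.S4038
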