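import Mathlib
import Cfsg.Statements.S4039
import Cfsg.Agent.Lib.Transfer.Frobenius
import Cfsg.Agent.Lib.Coprime.Action

set_option autoImplicit false
set_option linter.style.haveILetI false
open Cfsg
open scoped commutatorElement

namespace Cfsg.Agent.S4039

variable {G : Type*} [Group G] [Finite G]

/-- In a finite nilpotent group every element is a product of an element of a Sylow `p`-subgroup
and an element centralising it. -/
theorem exists_mul_centralizer [hn : Group.IsNilpotent G] {p : ℕ} [Fact p.Prime] (P : Sylow p G)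
    (k : G) : ∃ z ∈ (P : Subgroup G), ∃ r ∈ Subgroup.centralizer ((P : Subgroup G) : Set G),
      k = z * r := by
  haveI hnorm : ∀ (q : ℕ) [Fact q.Prime] (Q : Sylow q G), (Q : Subgroup G).Normal := fun q _ Q =>
    Sylow.normal_of_all_max_subgroups_normal (fun H hH => (Group.isNilpotent_of_finite_tfae (G := G)).out 0 2 rfl rfl |>.mp hn H hH) Q
  haveI := hnorm p P
  have htop : (P : Subgroup G) ⊔ Subgroup.centralizer ((P : Subgroup G) : Set G) = ⊤ := by
    rw [← Subgroup.index_eq_one]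
    by_contra hne
    obtain ⟨q, hq, hqdvd⟩ := Nat.exists_prime_and_dvd hne
    haveI := Fact.mk hq
    rcases eq_or_ne q p with rfl | hqp
    · exact P.not_dvd_index (hqdvd.trans (Subgroup.index_dvd_of_le le_sup_left))
    · obtain ⟨Q⟩ : Nonempty (Sylow q G) := inferInstance
      haveI := hnorm q Q
      have hQ : (Q : Subgroup G) ≤ Subgroup.centralizer ((P : Subgroup G) : Set G) := by
        intro b hb
        rw [Subgroup.mem_centralizer_iff]
        intro a ha
        exact (Subgroup.commute_of_normal_of_disjoint (P : Subgroup G) (Q : Subgroup G) inferInstance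
          inferInstance (IsPGroup.disjoint_of_ne p q (Ne.symm hqp) _ _ P.2 Q.2) a b ha hb).eq
      exact Q.not_dvd_index (hqdvd.trans (Subgroup.index_dvd_of_le (hQ.trans le_sup_right)))
  have hk : k ∈ (P : Subgroup G) ⊔ Subgroup.centralizer ((P : Subgroup G) : Set G) := by
    rw [htop]; trivial
  obtain ⟨z, hz, r, hr, h⟩ := Subgroup.mem_sup_of_normal_left.mp hk
  exact ⟨z, hz, r, hr, h.symm⟩

/-- `P ⊓ C` is a Sylow subgroup of a normal subgroup `C`. -/
theorem inf_normal_sylow {p : ℕ} [Fact p.Prime] (S : Sylow p G) (C : Subgroup G) [C.Normal] :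
    ∃ T : Sylow p C, (T : Subgroup C).map C.subtype = (S : Subgroup G) ⊓ C := by
  obtain ⟨T, hT⟩ := (S.2.comap_of_injective C.subtype C.subtype_injective).exists_le_sylow
  refine ⟨T, le_antisymm ?_ ?_⟩
  · obtain ⟨S', hS'⟩ := (T.2.map C.subtype).exists_le_sylow
    obtain ⟨g, hg⟩ := MulAction.exists_smul_eq G S S'
    have hle : (T : Subgroup C).map C.subtype ≤
        ((S : Subgroup G) ⊓ C).map (MulAut.conj g).toMonoidHom := by
      intro x hx
      have h1 : x ∈ (S' : Subgroup G) := hS' hx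
      have h2 : x ∈ C := Subgroup.map_subtype_le _ hx
      rw [← hg, Sylow.coe_subgroup_smul] at h1
      obtain ⟨y, hy, rfl⟩ := h1
      refine ⟨y, ⟨hy, ?_⟩, rfl⟩
      have := ‹C.Normal›.conj_mem _ h2 g⁻¹
      simpa [MulAut.conj_apply, mul_assoc] using this
    have hge : (S : Subgroup G) ⊓ C ≤ (T : Subgroup C).map C.subtype := by
      rintro x ⟨hxS, hxC⟩
      exact ⟨⟨x, hxC⟩, hT hxS, rfl⟩
    exact (Subgroup.eq_of_le_of_card_ge hge ((Subgroup.card_le_of_le hle).trans
      (le_of_eq (Subgroup.card_map_of_injective (MulAut.conj g).injective)))).ge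
  · rintro x ⟨hxS, hxC⟩
    exact ⟨⟨x, hxC⟩, hT hxS, rfl⟩

/-- For a nilpotent maximal subgroup of class at most two with trivial core, each of its primes
gives a normal complement. -/
theorem normal_complement {M : Subgroup G} (hmax : IsCoatom M) (hnil : Group.IsNilpotent M)
    (hcl : ∀ a ∈ M, ∀ b ∈ M, ∀ c ∈ M, ⁅a, b⁆ * c = c * ⁅a, b⁆) (hcore : M.normalCore = ⊥)
    (p : ℕ) [Fact p.Prime] (hp : p ∣ Nat.card M) :
    ¬ p ∣ M.index ∧ Cfsg.HasNormalPComplement p G := by
  classical
  haveI := hnil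
  obtain ⟨P0⟩ : Nonempty (Sylow p M) := inferInstance
  haveI hP0n : (P0 : Subgroup M).Normal :=
    Sylow.normal_of_all_max_subgroups_normal (fun H hH => (Group.isNilpotent_of_finite_tfae (G := M)).out 0 2 rfl rfl |>.mp hnil H hH) P0
  set P1 : Subgroup G := (P0 : Subgroup M).map M.subtype with hP1
  have hP1M : P1 ≤ M := Subgroup.map_subtype_le _
  have hP1ne : P1 ≠ ⊥ := by
    rw [hP1, ne_eq, Subgroup.map_eq_bot_iff_of_injective _ M.subtype_injective]
    exact P0.ne_bot_of_dvd_card hp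
  have hnotN : ∀ E : Subgroup G, E ≤ M → E ≠ ⊥ → M ≤ Subgroup.normalizer (E : Set G) →
      Subgroup.normalizer (E : Set G) = M := by
    intro E hEM hE hN
    rcases hmax.le_iff.mp hN with h | h
    · haveI : E.Normal := Subgroup.normalizer_eq_top_iff.mp h
      exact absurd (le_bot_iff.mp (hcore ▸ Subgroup.normal_le_normalCore.mpr hEM)) hE
    · exact h
  have hMN1 : M ≤ Subgroup.normalizer (P1 : Set G) := by
    intro m hm
    rw [Subgroup.mem_normalizer_iff]
    intro n
    constructor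
    · rintro ⟨y, hy, rfl⟩
      exact ⟨⟨m, hm⟩ * y * ⟨m, hm⟩⁻¹, hP0n.conj_mem y hy _, by simp⟩
    · rintro ⟨y, hy, he⟩
      refine ⟨⟨m, hm⟩⁻¹ * y * ⟨m, hm⟩⁻¹⁻¹, hP0n.conj_mem y hy _, ?_⟩
      simp only [Subgroup.coe_subtype] at he
      simp [he, mul_assoc]
  have hN1 := hnotN P1 hP1M hP1ne hMN1
  obtain ⟨P, hP⟩ := (P0.2.map M.subtype : IsPGroup p P1).exists_le_sylow
  have hPeq : (P : Subgroup G) = P1 := by
    by_contra hne
    have hlt : P1 < (P : Subgroup G) := lt_of_le_of_ne hP (Ne.symm hne)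
    haveI : Group.IsNilpotent (P : Subgroup G) := P.2.isNilpotent
    have hnc := Group.normalizerCondition_of_isNilpotent (G := (P : Subgroup G))
      (P1.subgroupOf (P : Subgroup G)) (lt_top_iff_ne_top.mpr fun h => hlt.not_ge
        (Subgroup.subgroupOf_eq_top.mp h))
    obtain ⟨y, hy, hy'⟩ := SetLike.exists_of_lt hnc
    have hyN : (y : G) ∈ Subgroup.normalizer (P1 : Set G) := by
      rw [Subgroup.mem_normalizer_iff]
      intro n
      constructor
      · intro hn
        have := (Subgroup.mem_normalizer_iff.mp hy ⟨n, hP hn⟩).mp hn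
        exact this
      · intro hn
        have hnP : n ∈ (P : Subgroup G) := by
          have h := hP hn
          have h' := (P : Subgroup G).mul_mem ((P : Subgroup G).mul_mem
            ((P : Subgroup G).inv_mem y.2) h) y.2
          simpa [mul_assoc] using h'
        exact (Subgroup.mem_normalizer_iff.mp hy ⟨n, hnP⟩).mpr hn
    rw [hN1] at hyN
    -- `P ⊓ M` is a `p`-subgroup of `M` strictly above `P0`
    have hle : (P0 : Subgroup M) ≤ (P : Subgroup G).subgroupOf M := fun z hz =>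
      hP ⟨z, hz, rfl⟩
    have := P0.3 (P.2.comap_of_injective M.subtype M.subtype_injective) hle
    apply hy'
    refine ⟨⟨(y : G), hyN⟩, ?_, rfl⟩
    rw [← this]
    exact y.2
  have hPM : (P : Subgroup G) ≤ M := hPeq ▸ hP1M
  refine ⟨?_, ?_⟩
  · intro hdvd
    refine P.not_dvd_index (hdvd.trans (Subgroup.index_dvd_of_le hPM))
  -- elements of `M` act on `P` like elements of `P`
  have hsplit : ∀ k ∈ M, ∃ z ∈ (P : Subgroup G), ∃ r : G,
      (∀ a ∈ (P : Subgroup G), a * r = r * a) ∧ k = z * r := by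
    intro k hk
    obtain ⟨z, hz, r, hr, he⟩ := exists_mul_centralizer P0 ⟨k, hk⟩
    refine ⟨(z : G), hPeq ▸ ⟨z, hz, rfl⟩, (r : G), ?_, congrArg Subtype.val he⟩
    intro a ha
    rw [hPeq] at ha
    obtain ⟨a, ha, rfl⟩ := ha
    exact congrArg Subtype.val (Subgroup.mem_centralizer_iff.mp hr a ha)
  refine CfsgLib.Transfer.hasNormalPComplement_of_no_fusion P ?_
  intro x hx g hg
  have hch := CfsgLib.Transfer.alperin_set P (A := {x}) (g := g⁻¹)
    (Set.singleton_subset_iff.mpr hx) (by
      rintro _ ⟨a, rfl : a = x, rfl⟩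
      change g⁻¹⁻¹ * a * g⁻¹ ∈ (P : Subgroup G)
      rw [inv_inv]; exact hg)
  suffices hstep : ∀ (D : Subgroup G) (d : G), CfsgLib.Transfer.IsTameInter P D →
      d ∈ Subgroup.normalizer (D : Set G) → ∃ k ∈ M, ∀ a ∈ D, k⁻¹ * a * k = d⁻¹ * a * d by
    obtain ⟨k, hk, hk'⟩ := hch.exists_mem M hstep
    obtain ⟨z, hz, r, hr, he⟩ := hsplit k⁻¹ (M.inv_mem hk)
    refine ⟨z, hz, ?_⟩
    have h := hk' x rfl
    rw [inv_inv] at h
    have hkk : k = (z * r)⁻¹ := by rw [← he, inv_inv]
    calc z * x * z⁻¹ = z * (x * r) * r⁻¹ * z⁻¹ := by group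
      _ = z * (r * x) * r⁻¹ * z⁻¹ := by rw [hr x hx]
      _ = k⁻¹ * x * k := by rw [hkk]; group
      _ = g * x * g⁻¹ := h
  rintro D d ⟨Q, rfl, hPD, -⟩ hd
  set D := (P : Subgroup G) ⊓ (Q : Subgroup G) with hD
  set N := Subgroup.normalizer (D : Set G) with hN
  have hS : IsPGroup p ((P : Subgroup G).subgroupOf N) :=
    P.2.comap_of_injective _ N.subtype_injective
  have hidx : ¬ p ∣ ((P : Subgroup G).subgroupOf N).index := by
    rwa [Subgroup.inf_relIndex_right] at hPD
  let C : Subgroup N := (Subgroup.centralizer (D : Set G)).subgroupOf N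
  haveI : C.Normal := by
    constructor
    intro c hc u
    simp only [C, Subgroup.mem_subgroupOf, Subgroup.mem_centralizer_iff, Subgroup.coe_mul,
      Subgroup.coe_inv] at hc ⊢
    intro a ha
    have h1 : (u : G)⁻¹ * a * (u : G) ∈ D := by
      have := (Subgroup.mem_normalizer_iff.mp (N.inv_mem u.2) a).mp ha
      simpa using this
    have h2 := hc _ h1
    calc a * ((u : G) * c * (u : G)⁻¹) = (u : G) * (((u : G)⁻¹ * a * u) * c) * (u : G)⁻¹ := by group
      _ = (u : G) * ((c : G) * ((u : G)⁻¹ * a * u)) * (u : G)⁻¹ := by rw [h2]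
      _ = (u : G) * c * (u : G)⁻¹ * a := by group
  obtain ⟨T, hT⟩ := inf_normal_sylow (hS.toSylow hidx) C
  have hfr : (⟨d, hd⟩ : N) ∈ C ⊔ Subgroup.normalizer
      (((T : Subgroup C).map C.subtype : Subgroup N) : Set N) := by
    rw [sup_comm, Sylow.normalizer_sup_eq_top T]; trivial
  obtain ⟨c, hc, y, hy, hcy⟩ := Subgroup.mem_sup_of_normal_left.mp hfr
  rw [hT] at hy
  -- the subgroup `E`
  set Cd : Subgroup G := (P : Subgroup G) ⊓ Subgroup.centralizer (D : Set G) with hCd
  set E : Subgroup G := D ⊔ Cd with hE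
  have hEP : E ≤ (P : Subgroup G) := sup_le inf_le_left inf_le_left
  have hcomm : ∀ a ∈ (P : Subgroup G), ∀ b ∈ (P : Subgroup G), ⁅a, b⁆ ∈ Cd := by
    intro a ha b hb
    refine ⟨?_, Subgroup.mem_centralizer_iff.mpr fun e he =>
      (hcl a (hPM ha) b (hPM hb) e (hPM (inf_le_left (b := (Q : Subgroup G)) he))).symm⟩
    rw [commutatorElement_def]
    exact (P : Subgroup G).mul_mem ((P : Subgroup G).mul_mem ((P : Subgroup G).mul_mem ha hb)
      ((P : Subgroup G).inv_mem ha)) ((P : Subgroup G).inv_mem hb)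
  have hME : M ≤ Subgroup.normalizer (E : Set G) := by
    have key : ∀ m ∈ M, ∀ n ∈ E, m * n * m⁻¹ ∈ E := by
      intro m hm n hn
      obtain ⟨z, hz, r, hr, rfl⟩ := hsplit m hm
      have h1 : z * r * n * (z * r)⁻¹ = ⁅z, n⁆ * n := by
        calc z * r * n * (z * r)⁻¹ = z * (r * n) * r⁻¹ * z⁻¹ := by group
          _ = z * (n * r) * r⁻¹ * z⁻¹ := by rw [hr n (hEP hn)]
          _ = ⁅z, n⁆ * n := by rw [commutatorElement_def]; group
      rw [h1]
      exact E.mul_mem (Subgroup.mem_sup_right (hcomm z hz n (hEP hn))) hn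
    intro m hm
    rw [Subgroup.mem_normalizer_iff]
    intro n
    refine ⟨key m hm n, fun h => ?_⟩
    have := key m⁻¹ (M.inv_mem hm) _ h
    simpa [mul_assoc] using this
  have hE0 : E ≠ ⊥ := by
    intro h0
    have hD0 : D = ⊥ := le_bot_iff.mp (h0 ▸ le_sup_left)
    have hc0 : ∀ a : G, a ∈ Subgroup.centralizer (D : Set G) := by
      intro a
      rw [hD0, Subgroup.mem_centralizer_iff]
      intro b hb
      rw [SetLike.mem_coe, Subgroup.mem_bot] at hb
      simp [hb]
    have : (P : Subgroup G) ≤ E := fun a ha => Subgroup.mem_sup_right ⟨ha, hc0 a⟩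
    rw [h0, hPeq] at this
    exact hP1ne (le_bot_iff.mp this)
  have hNE := hnotN E (hEP.trans hPM) hE0 hME
  have hconj : ∀ (n : G), n ∈ Cd → (y : G) * n * (y : G)⁻¹ ∈ Cd := by
    intro n hn
    have hnN : n ∈ N := by
      rw [hN, Subgroup.mem_normalizer_iff]
      intro a
      constructor
      · intro ha
        have := Subgroup.mem_centralizer_iff.mp hn.2 a ha
        rwa [← this, mul_assoc, mul_inv_cancel, mul_one]
      · intro ha
        have := Subgroup.mem_centralizer_iff.mp hn.2 _ ha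
        have h2 : a = n * a * n⁻¹ := mul_left_cancel (a := n) (by
          calc n * a = n * a * n⁻¹ * n := by group
            _ = n * (n * a * n⁻¹) := this)
        rw [h2]; exact ha
    have := (Subgroup.mem_normalizer_iff.mp hy ⟨n, hnN⟩).mp ⟨hn.1, hn.2⟩
    exact ⟨this.1, this.2⟩
  have hyM : (y : G) ∈ M := by
    rw [← hNE]
    have hle : E.map (MulAut.conj (y : G)).toMonoidHom ≤ E := by
      rw [hE, Subgroup.map_sup]
      refine sup_le_sup ?_ ?_
      · rintro _ ⟨n, hn, rfl⟩
        exact (Subgroup.mem_normalizer_iff.mp y.2 n).mp hn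
      · rintro _ ⟨n, hn, rfl⟩
        exact hconj n hn
    have heq := Subgroup.eq_of_le_of_card_ge hle
      (le_of_eq (Subgroup.card_map_of_injective (MulAut.conj (y : G)).injective).symm)
    rw [Subgroup.mem_normalizer_iff]
    intro n
    refine ⟨fun hn => hle ⟨n, hn, rfl⟩, fun hn => ?_⟩
    rw [← heq] at hn
    obtain ⟨m, hm, he⟩ := hn
    have h1 : (y : G) * m * (y : G)⁻¹ = (y : G) * n * (y : G)⁻¹ := he
    exact mul_left_cancel (mul_right_cancel h1) ▸ hm
  refine ⟨(y : G), hyM, fun a ha => ?_⟩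
  have hca : a * (c : G) = (c : G) * a := Subgroup.mem_centralizer_iff.mp hc a ha
  have hdeq : d = (c : G) * (y : G) := by rw [← Subgroup.coe_mul, hcy]
  calc (y : G)⁻¹ * a * (y : G) = (y : G)⁻¹ * ((c : G)⁻¹ * ((c : G) * a)) * y := by group
    _ = (y : G)⁻¹ * ((c : G)⁻¹ * (a * c)) * y := by rw [hca]
    _ = d⁻¹ * a * d := by rw [hdeq]; group

universe u

theorem solvable_of_maximal : ∀ (n : ℕ) (G : Type u) [Group G] [Finite G], Nat.card G = n →
    ∀ M : Subgroup G, IsCoatom M → Group.IsNilpotent M →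
      (∀ a ∈ M, ∀ b ∈ M, ∀ c ∈ M, ⁅a, b⁆ * c = c * ⁅a, b⁆) → Group.IsSolvable G := by
  intro n
  induction n using Nat.strong_induction_on with
  | _ n ih =>
  intro G _ _ hn M hmax hnil hcl
  haveI := hnil
  have hMs : Group.IsSolvable M := inferInstance
  rcases eq_or_ne M.normalCore ⊥ with hcore | hcore
  swap
  · -- pass to the quotient by the core
    set K := M.normalCore with hK
    haveI : K.Normal := Subgroup.normalCore_normal M
    have hKM : K ≤ M := Subgroup.normalCore_le M
    haveI hKs : Group.IsSolvable K := Group.isSolvable_of_isSolvable_injective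
      (f := Subgroup.inclusion hKM) (Subgroup.inclusion_injective hKM)
    have hlt : Nat.card (G ⧸ K) < n := by
      rw [← hn, ← Subgroup.index_eq_card, ← K.index_mul_card]
      exact lt_mul_of_one_lt_right (Nat.pos_of_ne_zero K.index_ne_zero_of_finite)
        ((Subgroup.one_lt_card_iff_ne_bot _).mpr hcore)
    have hcomap : (M.map (QuotientGroup.mk' K)).comap (QuotientGroup.mk' K) = M := by
      rw [Subgroup.comap_map_eq, QuotientGroup.ker_mk', sup_eq_left.mpr hKM]
    haveI : Group.IsSolvable (G ⧸ K) := by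
      refine ih _ hlt _ rfl (M.map (QuotientGroup.mk' K)) ?_ ?_ ?_
      · refine ⟨fun h => hmax.1 (by rw [← hcomap, h, Subgroup.comap_top]), fun b hb => ?_⟩
        have h1 : M < b.comap (QuotientGroup.mk' K) := hcomap ▸
          (Subgroup.comap_lt_comap_of_surjective (QuotientGroup.mk'_surjective K)).mpr hb
        rw [← Subgroup.map_comap_eq_self_of_surjective (QuotientGroup.mk'_surjective K) b,
          hmax.2 _ h1]
        exact Subgroup.map_top_of_surjective _ (QuotientGroup.mk'_surjective K)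
      · exact Group.nilpotent_of_surjective ((QuotientGroup.mk' K).subgroupMap M)
          ((QuotientGroup.mk' K).subgroupMap_surjective M)
      · rintro _ ⟨a, ha, rfl⟩ _ ⟨b, hb, rfl⟩ _ ⟨c, hc, rfl⟩
        rw [← map_commutatorElement, ← map_mul, ← map_mul, hcl a ha b hb c hc]
    exact Group.isSolvable_of_ker_le_range K.subtype (QuotientGroup.mk' K) (by simp)
  rcases eq_or_ne M ⊥ with rfl | hM
  · -- `G` has prime order
    have hcyc : ∀ a : G, a ≠ 1 → Subgroup.zpowers a = ⊤ := fun a ha =>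
      hmax.2 _ (bot_lt_iff_ne_bot.mpr (by simpa [Subgroup.zpowers_eq_bot] using ha))
    refine Group.isSolvable_of_comm fun a b => ?_
    rcases eq_or_ne a 1 with rfl | ha
    · simp
    · have hb : b ∈ Subgroup.zpowers a := by rw [hcyc a ha]; trivial
      obtain ⟨i, rfl⟩ := Subgroup.mem_zpowers_iff.mp hb
      exact ((Commute.refl a).zpow_right i).eq
  -- the normal complement
  classical
  obtain ⟨N, hNn, hNle, hNge⟩ : ∃ N : Subgroup G, N.Normal ∧
      (∀ q ∈ (Nat.card M).primeFactors, N ≤ Cfsg.pPrimeCore q G) ∧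
      ∀ x : G, (∀ q ∈ (Nat.card M).primeFactors, x ∈ Cfsg.pPrimeCore q G) → x ∈ N := by
    refine ⟨⨅ q : {q : ℕ // q ∈ (Nat.card M).primeFactors}, Cfsg.pPrimeCore q.1 G,
      Subgroup.normal_iInf_normal fun q => CfsgLib.Transfer.pPrimeCore_normal _ G,
      fun q hq x hx => ?_, fun x hx => ?_⟩
    · exact Subgroup.mem_iInf.mp hx ⟨q, hq⟩
    · exact Subgroup.mem_iInf.mpr fun q => hx q.1 q.2
  haveI := hNn
  have hcopM : (Nat.card N).Coprime (Nat.card M) := by
    apply Nat.coprime_of_dvd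
    intro q hq hqN hqM
    haveI := Fact.mk hq
    have hmem : q ∈ (Nat.card M).primeFactors := Nat.mem_primeFactors.mpr ⟨hq, hqM, Nat.card_pos.ne'⟩
    exact CfsgLib.Transfer.not_dvd_card_pPrimeCore
      (hqN.trans (Subgroup.card_dvd_of_le (hNle q hmem)))
  -- every `p'`-element for all primes of `M` lies in `N`
  have hmemN : ∀ q : ℕ, q.Prime → q ∣ M.index → ∀ x : G, orderOf x = q → x ∈ N := by
    intro q hq hqi x hx
    refine hNge x fun r hrm => ?_
    obtain ⟨hr, hrM, -⟩ := Nat.mem_primeFactors.mp hrm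
    haveI := Fact.mk hr
    obtain ⟨hni, hc⟩ := normal_complement hmax hnil hcl hcore r hrM
    rw [CfsgLib.Transfer.pPrimeCore_eq_pResidual hc]
    refine CfsgLib.Transfer.mem_pResidual_of_coprime ?_
    rw [hx]
    exact (Nat.coprime_primes hq hr).mpr fun h => hni (h ▸ hqi)
  obtain ⟨q, hq, hqi⟩ := Nat.exists_prime_and_dvd
    (show M.index ≠ 1 from fun h => hmax.1 (Subgroup.index_eq_one.mp h))
  haveI := Fact.mk hq
  obtain ⟨x, hx⟩ := exists_prime_orderOf_dvd_card' q (hqi.trans M.index_dvd_card)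
  have hxN := hmemN q hq hqi x hx
  have hqN : q ∣ Nat.card N := hx ▸ Subgroup.orderOf_dvd_natCard N hxN
  obtain ⟨Q, hQ⟩ := CfsgLib.Coprime.exists_invariant_sylow (A := M) (K := N)
    (le_of_le_of_eq le_top (Subgroup.normalizer_eq_top_iff.mpr hNn).symm)
    hcopM.symm (Or.inl hMs) q
  set Q1 := (Q : Subgroup N).map N.subtype with hQ1
  have hQ1ne : Q1 ≠ ⊥ := by
    rw [hQ1, ne_eq, Subgroup.map_eq_bot_iff_of_injective _ N.subtype_injective]
    exact Q.ne_bot_of_dvd_card hqN
  have htop : Q1 ⊔ M = ⊤ := by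
    refine hmax.2 _ (lt_of_le_of_ne le_sup_right fun h => hQ1ne ?_)
    have hQM : Q1 ≤ M := h ▸ le_sup_left
    have hQN : Q1 ≤ N := Subgroup.map_subtype_le _
    exact le_bot_iff.mp (Subgroup.inf_eq_bot_of_coprime hcopM ▸ le_inf hQN hQM)
  haveI hQ1n : Q1.Normal := by
    rw [← Subgroup.normalizer_eq_top_iff, eq_top_iff, ← htop]
    exact sup_le Subgroup.le_normalizer hQ
  haveI : Group.IsNilpotent Q1 := (Q.2.map N.subtype : IsPGroup q Q1).isNilpotent
  haveI := hMs
  haveI : Group.IsSolvable (G ⧸ Q1) := by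
    refine Group.isSolvable_of_surjective (f := (QuotientGroup.mk' Q1).comp M.subtype) fun z => ?_
    obtain ⟨g, rfl⟩ := QuotientGroup.mk'_surjective Q1 z
    have hg : g ∈ Q1 ⊔ M := by rw [htop]; trivial
    obtain ⟨a, ha, m, hm, rfl⟩ := Subgroup.mem_sup_of_normal_left.mp hg
    exact ⟨⟨m, hm⟩, by simp [(QuotientGroup.eq_one_iff a).mpr ha]⟩
  exact Group.isSolvable_of_ker_le_range Q1.subtype (QuotientGroup.mk' Q1) (by simp)

theorem result {G : Type*} [Group G] [Finite G]
    (M : Subgroup G) (hmax : IsCoatom M) (hnil : Group.IsNilpotent M) (hcl : Group.nilpotencyClass ↥M ≤ 2) :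
    Group.IsSolvable G := by
  refine solvable_of_maximal _ G rfl M hmax hnil ?_
  intro a ha b hb c hc
  haveI := hnil
  have h2 : Subgroup.upperCentralSeries M 2 = ⊤ := by
    rw [eq_top_iff, ← Subgroup.upperCentralSeries_nilpotencyClass (G := M)]
    exact Subgroup.upperCentralSeries_mono M hcl
  have hmem : (⟨a, ha⟩ : M) ∈ Subgroup.upperCentralSeries M 2 := by rw [h2]; trivial
  have h1 := Subgroup.mem_upperCentralSeries_succ_iff.mp hmem ⟨b, hb⟩
  rw [Subgroup.upperCentralSeries_one, Subgroup.mem_center_iff] at h1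
  exact (congrArg Subtype.val (h1 ⟨c, hc⟩)).symm

end Cfsg.Agent.S4039
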