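import Cfsg.Statements.S4040
import Cfsg.Agent.Lib.Transfer.ThompsonComplement
import Cfsg.Agent.Lib.Coprime.Action
import Cfsg.Agent.Lib.Transfer.Hall
import Cfsg.Agent.Lib.Splitting.Nilpotent

set_option autoImplicit false
open Cfsg

namespace Cfsg.Agent.S4040

universe u

set_option linter.style.haveILetI false

theorem aux : ∀ (k : ℕ) (G : Type u) [Group G] [Finite G], Nat.card G = k →
    ∀ M : Subgroup G, IsCoatom M → Group.IsNilpotent M → Odd (Nat.card M) → Group.IsSolvable G := by
  intro k
  induction k using Nat.strong_induction_on with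
  | _ k ih =>
  intro G _ _ hk M hmax hnil hodd
  classical
  have hMsolv : Group.IsSolvable M := inferInstance
  by_cases hMn : M.Normal
  · haveI := hMn
    have hle : ∀ L : Subgroup (G ⧸ M), L = ⊥ ∨ L = ⊤ := fun L => by
      have h1 : M ≤ L.comap (QuotientGroup.mk' M) := by
        conv_lhs => rw [← QuotientGroup.ker_mk' M]
        exact Subgroup.ker_le_comap _ L
      rcases eq_or_lt_of_le h1 with h | h
      · left
        rw [← Subgroup.map_comap_eq_self_of_surjective (QuotientGroup.mk'_surjective M) L, ← h,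
          QuotientGroup.map_mk'_self]
      · right
        rw [← Subgroup.map_comap_eq_self_of_surjective (QuotientGroup.mk'_surjective M) L,
          hmax.2 _ h, Subgroup.map_top_of_surjective _ (QuotientGroup.mk'_surjective M)]
    haveI : Group.IsSolvable (G ⧸ M) := by
      by_cases hsub : ∀ q : G ⧸ M, q = 1
      · haveI : Subsingleton (G ⧸ M) := ⟨fun a b => (hsub a).trans (hsub b).symm⟩
        infer_instance
      · push Not at hsub
        obtain ⟨q, hq⟩ := hsub
        have hz : Subgroup.zpowers q = ⊤ := (hle _).resolve_left fun h => hq (by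
          simpa [h] using Subgroup.mem_zpowers q)
        haveI : IsCyclic (G ⧸ M) := ⟨q, fun x => hz.ge (Subgroup.mem_top x)⟩
        letI := IsCyclic.commGroup (α := G ⧸ M)
        infer_instance
    exact Group.isSolvable_of_ker_le_range M.subtype (QuotientGroup.mk' M) (by
      rw [QuotientGroup.ker_mk', Subgroup.range_subtype])
  set C := M.normalCore with hC
  by_cases hC0 : C ≠ ⊥
  · haveI : C.Normal := Subgroup.normalCore_normal M
    have hCM : C ≤ M := Subgroup.normalCore_le M
    set f := QuotientGroup.mk' C with hf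
    have hsurj : Function.Surjective f := QuotientGroup.mk'_surjective _
    have hcomap : (M.map f).comap f = M := by
      rw [Subgroup.comap_map_eq, hf, QuotientGroup.ker_mk', sup_eq_left.mpr hCM]
    have hlt : Nat.card (G ⧸ C) < k := by
      rw [← hk, Subgroup.card_eq_card_quotient_mul_card_subgroup C]
      exact lt_mul_of_one_lt_right Nat.card_pos ((Subgroup.one_lt_card_iff_ne_bot C).mpr hC0)
    haveI := hnil
    have hq : Group.IsSolvable (G ⧸ C) := by
      refine ih _ hlt _ rfl (M.map f) ⟨fun h => hmax.1 ?_, fun L hL => ?_⟩ ?_ ?_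
      · rw [← hcomap, h, Subgroup.comap_top]
      · have h1 : M < L.comap f := by
          rw [← hcomap]
          exact (Subgroup.comap_lt_comap_of_surjective hsurj).mpr hL
        rw [← Subgroup.map_comap_eq_self_of_surjective hsurj L, hmax.2 _ h1,
          Subgroup.map_top_of_surjective _ hsurj]
      · exact Group.nilpotent_of_surjective (f.subgroupMap M) (f.subgroupMap_surjective M)
      · obtain ⟨d, hd⟩ := Subgroup.card_map_dvd M f
        rw [hd] at hodd
        exact (Nat.odd_mul.mp hodd).1
    haveI : Group.IsSolvable C := Group.isSolvable_of_isSolvable_injective (f := Subgroup.inclusion hCM)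
      (Subgroup.inclusion_injective hCM)
    exact Group.isSolvable_of_ker_le_range C.subtype f (by
      rw [hf, QuotientGroup.ker_mk', Subgroup.range_subtype])
  rw [ne_eq, not_not] at hC0
  have hcore : ∀ K : Subgroup G, K.Normal → K ≤ M → K = ⊥ := fun K hK hKM => by
    rw [eq_bot_iff, ← hC0, hC]
    exact (Subgroup.normal_le_normalCore (N := K)).mpr hKM
  -- every prime divisor of `|M|` gives a normal complement
  have hnpc : ∀ p : ℕ, p.Prime → p ∣ Nat.card M → Cfsg.HasNormalPComplement p G ∧
      ¬ p ∣ Nat.card (Cfsg.pResidual p G) := by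
    intro p hp hpM
    haveI : Fact p.Prime := ⟨hp⟩
    haveI := hnil
    obtain ⟨P₀⟩ := (inferInstance : Nonempty (Sylow p M))
    haveI hP₀n : (P₀ : Subgroup M).Normal := CfsgLib.Transfer.sylow_normal_of_isNilpotent P₀
    haveI hP₀c : (P₀ : Subgroup M).Characteristic := Sylow.characteristic_of_normal P₀ hP₀n
    set R := (P₀ : Subgroup M).map M.subtype with hR
    have hRM : R ≤ M := Subgroup.map_subtype_le _
    have hRne : R ≠ ⊥ := by
      rw [hR, ne_eq, Subgroup.map_eq_bot_iff_of_injective _ M.subtype_injective]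
      intro e
      have h1 := P₀.card_eq_multiplicity
      rw [show (P₀ : Subgroup M) = ⊥ from e, Subgroup.card_bot] at h1
      exact (Nat.one_lt_pow (Nat.pos_iff_ne_zero.mp (hp.factorization_pos_of_dvd Nat.card_pos.ne' hpM))
        hp.one_lt).ne h1
    have hNM : ∀ K : Subgroup G, K ≠ ⊥ → K ≤ M → M ≤ Subgroup.normalizer (K : Set G) →
        Subgroup.normalizer (K : Set G) = M := by
      intro K hK hKM hle
      rcases eq_or_lt_of_le hle with h | h
      · exact h.symm
      · exact absurd (hcore K (Subgroup.normalizer_eq_top_iff.mp (hmax.2 _ h)) hKM) hK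
    have hMR : M ≤ Subgroup.normalizer (R : Set G) :=
      (Subgroup.normal_subgroupOf_iff_le_normalizer hRM).mp (by
        rw [hR, Subgroup.subgroupOf, Subgroup.comap_map_eq_self_of_injective M.subtype_injective]
        exact hP₀n)
    have hNR := hNM R hRne hRM hMR
    -- `R` is a Sylow subgroup of `G`
    obtain ⟨S, hRS⟩ := ((P₀.2.map M.subtype) : IsPGroup p R).exists_le_sylow
    have hSR : (S : Subgroup G) = R := by
      by_contra hne
      haveI := S.2.isNilpotent
      have hlt : R.subgroupOf (S : Subgroup G) < ⊤ := lt_top_iff_ne_top.mpr fun e => hne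
        (le_antisymm (Subgroup.subgroupOf_eq_top.mp e) hRS)
      obtain ⟨w, hwN, hwR⟩ := SetLike.exists_of_lt
        (Group.normalizerCondition_of_isNilpotent (G := (S : Subgroup G)) _ hlt)
      have hwM : (w : G) ∈ M := by
        rw [← hNR, Subgroup.mem_normalizer_iff]
        intro x
        constructor
        · intro hx
          exact Subgroup.mem_subgroupOf.mp
            ((Subgroup.mem_normalizer_iff.mp hwN ⟨x, hRS hx⟩).mp hx)
        · intro hx
          have hxS : x ∈ (S : Subgroup G) := by
            have := mul_mem (mul_mem (inv_mem w.2) (hRS hx)) w.2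
            rwa [show (w : G)⁻¹ * ((w : G) * x * (w : G)⁻¹) * w = x by group] at this
          exact Subgroup.mem_subgroupOf.mp
            ((Subgroup.mem_normalizer_iff.mp hwN ⟨x, hxS⟩).mpr (Subgroup.mem_subgroupOf.mpr hx))
      refine hwR (Subgroup.mem_subgroupOf.mpr ?_)
      have hT : IsPGroup p (((S : Subgroup G) ⊓ M).subgroupOf M) :=
        (S.2.to_le inf_le_left : IsPGroup p ↥((S : Subgroup G) ⊓ M)).comap_of_injective M.subtype
          M.subtype_injective
      have hP₀le : (P₀ : Subgroup M) ≤ ((S : Subgroup G) ⊓ M).subgroupOf M := fun x hx =>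
        Subgroup.mem_subgroupOf.mpr ⟨hRS ⟨x, hx, rfl⟩, x.2⟩
      exact ⟨⟨w, hwM⟩, (P₀.3 hT hP₀le).le (Subgroup.mem_subgroupOf.mpr ⟨w.2, hwM⟩), rfl⟩
    have hp2 : p ≠ 2 := by
      rintro rfl
      exact (Nat.not_even_iff_odd.mpr hodd) (even_iff_two_dvd.mpr hpM)
    have hMnpc : Cfsg.HasNormalPComplement p M := CfsgLib.Splitting.hasNPC_of_isNilpotent hnil p
    have hthy : CfsgLib.Transfer.ThompsonHyp p p (S : Subgroup G) := by
      rw [hSR]
      have hJle := (CfsgLib.Transfer.thompsonJ_le p R).trans hRM
      have hJne := CfsgLib.Transfer.thompsonJ_ne_bot (dvd_refl p) (P₀.2.map M.subtype) hRne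
      have hJchar : M ≤ Subgroup.normalizer (CfsgLib.Transfer.thompsonJ p R : Set G) :=
        hMR.trans (CfsgLib.Transfer.normalizer_le_normalizer_thompsonJ p R)
      have hZne : R ⊓ Subgroup.centralizer (R : Set G) ≠ ⊥ := by
        haveI : Nontrivial R := (Subgroup.nontrivial_iff_ne_bot _).mpr hRne
        haveI := ((P₀.2.map M.subtype) : IsPGroup p R).center_nontrivial
        obtain ⟨z, hz⟩ := exists_ne (1 : Subgroup.center R)
        intro e
        refine hz (Subtype.ext (Subtype.ext ?_))
        have : ((z : R) : G) ∈ R ⊓ Subgroup.centralizer (R : Set G) :=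
          ⟨(z : R).2, fun r hr => congrArg Subtype.val (Subgroup.mem_center_iff.mp z.2 ⟨r, hr⟩)⟩
        rw [e, Subgroup.mem_bot] at this
        exact this
      refine ⟨CfsgLib.Transfer.hasNPC_of_le (le_of_eq (hNM _ hJne hJle hJchar)) hMnpc, ?_⟩
      refine CfsgLib.Transfer.hasNPC_of_le ?_ hMnpc
      refine (Subgroup.centralizer_le_normalizer _).trans (le_of_eq (hNM _ hZne (inf_le_left.trans hRM) ?_))
      exact hMR.trans (CfsgLib.Coprime.le_normalizer_inf_of_le le_rfl
        (CfsgLib.Coprime.le_normalizer_centralizer le_rfl))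
    have h := CfsgLib.Transfer.thompson_normal_complement (dvd_refl p) (Or.inl hp2) S hthy
    exact ⟨h, CfsgLib.Transfer.hasNormalPComplement_iff_pResidual.mp h⟩
  let π := (Nat.card M).primeFactors
  set K : Subgroup G := ⨅ p : π, Cfsg.pResidual (p : ℕ) G with hK
  haveI : ∀ p : π, (Cfsg.pResidual (p : ℕ) G).Normal := fun p => CfsgLib.Transfer.pResidual_normal _ _
  haveI : K.Normal := Subgroup.normal_iInf_normal fun p => inferInstance
  have hcop : (Nat.card M).Coprime (Nat.card K) := by
    refine Nat.coprime_of_dvd fun p hp hpM hpK => ?_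
    refine (hnpc p hp hpM).2 (hpK.trans (Subgroup.card_dvd_of_le ?_))
    exact iInf_le (fun q : π => Cfsg.pResidual (q : ℕ) G)
      ⟨p, Nat.mem_primeFactors.mpr ⟨hp, hpM, Nat.card_pos.ne'⟩⟩
  by_cases hK0 : K = ⊥
  · haveI : ∀ p : π, Group.IsNilpotent (G ⧸ Cfsg.pResidual (p : ℕ) G) := fun p => by
      haveI : Fact (p : ℕ).Prime := ⟨Nat.prime_of_mem_primeFactors p.2⟩
      exact (CfsgLib.Transfer.isPGroup_quotient_pResidual : IsPGroup (p : ℕ) _).isNilpotent
    haveI : Group.IsNilpotent (∀ p : π, G ⧸ Cfsg.pResidual (p : ℕ) G) := Group.isNilpotent_pi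
    let F : G →* (∀ p : π, G ⧸ Cfsg.pResidual (p : ℕ) G) := MonoidHom.pi fun p => QuotientGroup.mk' _
    refine Group.isSolvable_of_isSolvable_injective (f := F) ?_
    rw [← MonoidHom.ker_eq_bot_iff, eq_bot_iff, ← hK0, hK]
    intro g hg
    rw [Subgroup.mem_iInf]
    intro p
    exact (QuotientGroup.eq_one_iff g).mp (congrFun hg p)
  obtain ⟨q, hq, hqK⟩ := Nat.exists_prime_and_dvd ((Subgroup.one_lt_card_iff_ne_bot K).mpr hK0).ne'
  haveI : Fact q.Prime := ⟨hq⟩
  obtain ⟨Q, hQ⟩ := CfsgLib.Coprime.exists_invariant_sylow (A := M) (K := K)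
    (by rw [Subgroup.normalizer_eq_top_iff.mpr inferInstance]; exact le_top) hcop (Or.inl hMsolv) q
  set W := (Q : Subgroup K).map K.subtype with hW
  have hWM : ¬ W ≤ M := by
    intro hle
    have h1 : Nat.card W ∣ Nat.card M := Subgroup.card_dvd_of_le hle
    have h2 : Nat.card W ∣ Nat.card K := Subgroup.card_dvd_of_le (Subgroup.map_subtype_le _)
    have h3 := Nat.eq_one_of_dvd_coprimes hcop h1 h2
    rw [hW, Subgroup.card_map_of_injective K.subtype_injective, Q.card_eq_multiplicity] at h3
    exact (Nat.one_lt_pow (Nat.pos_iff_ne_zero.mp (hq.factorization_pos_of_dvd Nat.card_pos.ne' hqK))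
      hq.one_lt).ne' h3
  have htop : W ⊔ M = ⊤ := hmax.2 _ (lt_of_le_of_ne le_sup_right fun e =>
    hWM (le_sup_left.trans e.ge))
  have hWsolv : Group.IsSolvable W := by
    haveI : Group.IsNilpotent W := ((Q.2.map K.subtype) : IsPGroup q W).isNilpotent
    infer_instance
  have hs := CfsgLib.Coprime.isSolvable_sup_of_le_normalizer hWsolv hMsolv hQ
  rw [htop] at hs
  haveI := hs
  exact Group.isSolvable_of_surjective (f := (Subgroup.topEquiv : (⊤ : Subgroup G) ≃* G).toMonoidHom)
    (MulEquiv.surjective _)


/-- A finite group possessing a maximal subgroup that is nilpotent of odd order is solvable. -/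
theorem result {G : Type*} [Group G] [Finite G]
    (M : Subgroup G) (hmax : IsCoatom M) (hnil : Group.IsNilpotent M) (hodd : Odd (Nat.card M)) :
    Group.IsSolvable G := by
  exact aux _ G rfl M hmax hnil hodd

end Cfsg.Agent.S4040
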