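import Cfsg.Statements.S4043
import Cfsg.Agent.Lib.Coprime.SchurZassenhaus
import Cfsg.Agent.Lib.Critical.Basic

set_option autoImplicit false
open Cfsg

namespace Cfsg.Agent.S4043

open scoped Pointwise

theorem kernel_facts {G : Type*} [Group G] [Finite G] {p : ℕ} [Fact p.Prime] (N : Subgroup G) [N.Normal]
    (hN : IsPGroup p N) (A : Subgroup G) (hA : A.IsComplement' N) (hAp : Cfsg.HasNormalPComplement p A)
    (hC : ∀ n : G, n ∈ N → (∀ a : G, a ∈ A → a * n * a⁻¹ = n) → n = 1) :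
    ∃ K : Subgroup G, (Nat.card K).Coprime p ∧ (N ⊔ K).Normal ∧ (∃ k, (N ⊔ K).index = p ^ k) ∧
      Subgroup.normalizer (K : Set G) = A := by
  obtain ⟨P, M, hMn, hMc⟩ := hAp
  haveI := hMn
  set K := M.map A.subtype with hK
  have hKA : K ≤ A := Subgroup.map_subtype_le _
  have hAK : A ≤ Subgroup.normalizer (K : Set G) := by
    intro a ha
    refine CfsgLib.Coprime.mem_normalizer_iff_conj_smul.mpr (le_antisymm ?_ ?_)
    · rintro _ ⟨_, ⟨m, hm, rfl⟩, rfl⟩
      exact ⟨⟨a, ha⟩ * m * ⟨a, ha⟩⁻¹, hMn.conj_mem m hm _, rfl⟩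
    · intro y hy
      obtain ⟨m, hm, rfl⟩ := hy
      refine ⟨a⁻¹ * (m : G) * a, ⟨⟨a, ha⟩⁻¹ * m * ⟨a, ha⟩, ?_, rfl⟩, ?_⟩
      · simpa using hMn.conj_mem m hm ⟨a, ha⟩⁻¹
      · show a * (a⁻¹ * (m : G) * a) * a⁻¹ = (m : G)
        group
  obtain ⟨j, hj⟩ := IsPGroup.iff_card.mp P.2
  have hcop : (Nat.card M).Coprime p := by
    have h1 : ¬ p ∣ (P : Subgroup A).index := P.not_dvd_index
    rw [hMc.index_eq_card] at h1
    exact ((Fact.out : p.Prime).coprime_iff_not_dvd.mpr h1).symm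
  have hKc : Nat.card K = Nat.card M := Subgroup.card_map_of_injective A.subtype_injective
  have hNK : Subgroup.normalizer (K : Set G) = A := by
    refine le_antisymm (fun g hg => ?_) hAK
    have hg' : g ∈ A ⊔ N := by rw [hA.sup_eq_top]; trivial
    obtain ⟨a, ha, n, hn, rfl⟩ := Subgroup.mem_sup_of_normal_right.mp hg'
    have hnK : n ∈ Subgroup.normalizer (K : Set G) := by
      simpa using mul_mem (inv_mem (hAK ha)) hg
    set C := N ⊓ Subgroup.centralizer (K : Set G) with hCdef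
    have hdis : K ⊓ N = ⊥ := le_bot_iff.mp ((inf_le_inf_right N hKA).trans hA.disjoint.eq_bot.le)
    have hnC : n ∈ C := by
      refine Subgroup.mem_inf.mpr ⟨hn, Subgroup.mem_centralizer_iff.mpr fun k hk => ?_⟩
      have h1 : n * k * n⁻¹ * k⁻¹ ∈ K ⊓ N := by
        refine Subgroup.mem_inf.mpr ⟨mul_mem ((Subgroup.mem_normalizer_iff.mp hnK k).mp hk) (inv_mem hk), ?_⟩
        have := mul_mem hn ((inferInstance : N.Normal).conj_mem _ (inv_mem hn) k)
        simpa [mul_assoc] using this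
      rw [hdis, Subgroup.mem_bot, mul_inv_eq_one, mul_inv_eq_iff_eq_mul] at h1
      exact h1.symm
    suffices hC0 : C = ⊥ by
      rw [hC0, Subgroup.mem_bot] at hnC
      rw [hnC, mul_one]; exact ha
    by_contra hC1
    set Q := (P : Subgroup A).map A.subtype with hQ
    have hQC : Q ≤ Subgroup.normalizer (C : Set G) := by
      intro q hq
      have hqK := hAK (Subgroup.map_subtype_le (P : Subgroup A) hq)
      refine Subgroup.mem_normalizer_iff.mpr fun y => ?_
      have key : ∀ g ∈ Subgroup.normalizer (K : Set G), ∀ z ∈ C, g * z * g⁻¹ ∈ C := by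
        intro g hg z hz
        obtain ⟨hzN, hzK⟩ := Subgroup.mem_inf.mp hz
        refine Subgroup.mem_inf.mpr ⟨(inferInstance : N.Normal).conj_mem z hzN g, Subgroup.mem_centralizer_iff.mpr fun k hk => ?_⟩
        have h2 := Subgroup.mem_centralizer_iff.mp hzK _ ((Subgroup.mem_normalizer_iff'.mp hg (g⁻¹ * k)).mpr
          (by simpa using hk))
        have h3 : g * (g⁻¹ * k * g * z) * g⁻¹ = g * (z * (g⁻¹ * k * g)) * g⁻¹ := by rw [h2]
        simpa [mul_assoc] using h3
      refine ⟨fun hy => key q hqK y hy, fun hy => ?_⟩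
      have := key q⁻¹ (inv_mem hqK) _ hy
      simpa [mul_assoc] using this
    have hT : IsPGroup p ↥(C ⊔ Q) := (hN.to_le inf_le_left).to_sup_of_normal_left' (P.2.map _) hQC
    set T := C ⊔ Q with hTdef
    haveI : Group.IsNilpotent T := hT.isNilpotent
    haveI : (C.subgroupOf T).Normal := Subgroup.normal_subgroupOf_of_le_normalizer
      (sup_le Subgroup.le_normalizer hQC)
    have hne : C.subgroupOf T ≠ ⊥ := fun h => hC1 (by
      rw [Subgroup.subgroupOf_eq_bot] at h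
      exact h.eq_bot_of_le le_sup_left)
    obtain ⟨c, hc, hc1⟩ := (Subgroup.bot_or_exists_ne_one _).resolve_left (CfsgLib.Critical.inf_center_ne_bot _ hne)
    obtain ⟨hcC, hcZ⟩ := Subgroup.mem_inf.mp hc
    obtain ⟨hcN, hcK⟩ := Subgroup.mem_inf.mp (Subgroup.mem_subgroupOf.mp hcC)
    refine hc1 (Subtype.ext (hC c hcN fun b hb => ?_))
    have hb' : (⟨b, hb⟩ : A) ∈ M ⊔ (P : Subgroup A) := by rw [hMc.sup_eq_top]; trivial
    obtain ⟨m, hm, q, hq, hmq⟩ := Subgroup.mem_sup_of_normal_left.mp hb'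
    have h1 : Commute (m : G) c := Subgroup.mem_centralizer_iff.mp hcK _ ⟨m, hm, rfl⟩
    have h2 : Commute (q : G) c := congrArg Subtype.val
      (Subgroup.mem_center_iff.mp hcZ ⟨(q : G), Subgroup.mem_sup_right ⟨q, hq, rfl⟩⟩)
    have h3 : b = (m : G) * q := (congrArg Subtype.val hmq).symm
    rw [h3, mul_inv_eq_iff_eq_mul]
    exact h1.mul_left h2
  have hKn : K ≤ Subgroup.normalizer (N : Set G) := by rw [Subgroup.normalizer_eq_top]; exact le_top
  refine ⟨K, hKc ▸ hcop, ⟨fun y hy g => ?_⟩, ⟨j, ?_⟩, hNK⟩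
  · have hg : g ∈ N ⊔ A := by rw [sup_comm, hA.sup_eq_top]; trivial
    obtain ⟨n, hn, a, ha, rfl⟩ := Subgroup.mem_sup_of_normal_left.mp hg
    obtain ⟨u, hu, k, hk, rfl⟩ := Subgroup.mem_sup_of_normal_left.mp hy
    have e : n * a * (u * k) * (n * a)⁻¹ = n * (a * u * a⁻¹) * (a * k * a⁻¹) * n⁻¹ := by group
    rw [e]
    refine mul_mem (mul_mem (Subgroup.mem_sup_left ?_) (Subgroup.mem_sup_right ?_)) (Subgroup.mem_sup_left (inv_mem hn))
    · exact mul_mem hn ((inferInstance : N.Normal).conj_mem u hu a)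
    · exact (Subgroup.mem_normalizer_iff.mp (hAK ha) k).mp hk
  · refine Nat.eq_of_mul_eq_mul_left (show 0 < Nat.card ↥(N ⊔ K) from Nat.card_pos) ?_
    rw [Subgroup.card_mul_index, CfsgLib.Coprime.card_sup_of_normalizer hKn, hKc, ← hj, mul_assoc,
      hMc.card_mul_card, mul_comm, hA.card_mul_card]
    exact le_bot_iff.mp (((inf_comm N K).le.trans (inf_le_inf_right N hKA)).trans hA.disjoint.eq_bot.le)

theorem le_sup_of_index {G : Type*} [Group G] [Finite G] {p : ℕ} (M K : Subgroup G) [M.Normal]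
    (hM : ∃ k, M.index = p ^ k) (hK : (Nat.card K).Coprime p) : K ≤ M := by
  obtain ⟨k, hk⟩ := hM
  intro x hx
  rw [← QuotientGroup.eq_one_iff, ← orderOf_eq_one_iff]
  refine Nat.eq_one_of_dvd_coprimes (hK.pow_right k) ?_ ?_
  · exact (orderOf_map_dvd (QuotientGroup.mk' M) x).trans (Subgroup.orderOf_dvd_natCard K hx)
  · rw [← hk]; exact orderOf_dvd_natCard _

/-- Let G be a finite group that is the semidirect product of a normal p-subgroup N by a subgroup A, and also of N by a subgroup A₁, where p is a prime and A and A₁ both have normal p-complements. If C_N(A) = C_N(A₁) = 1, then A₁ is conjugate to A by an element of N. -/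
theorem result {G : Type*} [Group G] [Finite G] {p : ℕ}
    [Fact p.Prime] (N : Subgroup G) [N.Normal] (hN : IsPGroup p N) (A A₁ : Subgroup G)
    (hA : A.IsComplement' N) (hA₁ : A₁.IsComplement' N)
    (hAp : Cfsg.HasNormalPComplement p A) (hA₁p : Cfsg.HasNormalPComplement p A₁)
    (hC : ∀ n : G, n ∈ N → (∀ a : G, a ∈ A → a * n * a⁻¹ = n) → n = 1)
    (hC₁ : ∀ n : G, n ∈ N → (∀ a : G, a ∈ A₁ → a * n * a⁻¹ = n) → n = 1) :
    ∃ n : G, n ∈ N ∧ A₁ = A.map (MulAut.conj n).toMonoidHom := by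
  obtain ⟨K, hK, hKn, hKi, hKA⟩ := kernel_facts N hN A hA hAp hC
  obtain ⟨K₁, hK₁, hK₁n, hK₁i, hK₁A⟩ := kernel_facts N hN A₁ hA₁ hA₁p hC₁
  haveI := hKn
  haveI := hK₁n
  obtain ⟨j, hj⟩ := IsPGroup.iff_card.mp hN
  have hc : (Nat.card N).Coprime (Nat.card K) := by rw [hj]; exact (hK.pow_right j).symm
  have hc₁ : (Nat.card N).Coprime (Nat.card K₁) := by rw [hj]; exact (hK₁.pow_right j).symm
  have hsup : N ⊔ K = N ⊔ K₁ :=
    le_antisymm (sup_le le_sup_left (le_sup_of_index _ K hK₁i hK)) (sup_le le_sup_left (le_sup_of_index _ K₁ hKi hK₁))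
  haveI : Group.IsNilpotent N := hN.isNilpotent
  obtain ⟨n, hn, hne⟩ := CfsgLib.Coprime.exists_conj_of_coprime
    (by rw [Subgroup.normalizer_eq_top]; exact le_top) hc hc₁ hsup (Or.inl inferInstance)
  refine ⟨n, hn, ?_⟩
  rw [← hK₁A, ← hne, ← hKA]
  exact (Subgroup.map_normalizer_eq_of_bijective _ (MulAut.conj n).bijective).symm
end Cfsg.Agent.S4043
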