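import Cfsg.Statements.S4049
import Cfsg.Agent.Lib.Baer.NoReal
import Cfsg.Agent.Lib.Invol.Dihedral

set_option autoImplicit false
open Cfsg

namespace Cfsg.Agent.S4049

/-- Let G be a finite group such that N_G(H)/C_G(H) has odd order for every nontrivial subgroup H of odd order. Then the Sylow 2-subgroups of G are normal. -/
theorem result {G : Type*} [Group G] [Finite G]
    (hhom : ∀ H : Subgroup G, H ≠ ⊥ → ¬ 2 ∣ Nat.card ↥H →
        ¬ 2 ∣ (Subgroup.centralizer (H : Set G)).relIndex (Subgroup.normalizer (H : Set G))) (P : Sylow 2 G) :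
    (P : Subgroup G).Normal := by
  refine CfsgLib.Baer.sylow_two_normal_of_no_inverted (fun x hx1 hodd t ht => ?_) P
  set H := Subgroup.zpowers x with hH
  set N := Subgroup.normalizer ((H : Subgroup G) : Set G)
  have hN : t ∈ N := by
    refine CfsgLib.Coprime.mem_normalizer_iff_conj_smul.mpr ?_
    rw [CfsgLib.Coprime.conj_smul_eq_map, hH, MonoidHom.map_zpowers]
    show Subgroup.zpowers (t * x * t⁻¹) = _
    rw [ht, Subgroup.zpowers_inv]
  have hodd' : ¬ 2 ∣ Nat.card H := by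
    rw [hH, Nat.card_zpowers, ← even_iff_two_dvd, Nat.not_even_iff_odd]
    exact hodd
  have hrel := hhom H (fun h => hx1 (Subgroup.zpowers_eq_bot.mp h)) hodd'
  set C := (Subgroup.centralizer (H : Set G)).subgroupOf N with hC
  haveI : C.Normal := by
    rw [hC, ← Subgroup.normalizerMonoidHom_ker]; infer_instance
  have ht2 : (⟨t, hN⟩ : N) ^ 2 ∈ C := by
    rw [hC, Subgroup.mem_subgroupOf, Subgroup.mem_centralizer_iff]
    rintro _ ⟨k, rfl⟩
    show x ^ k * (t ^ 2 : G) = t ^ 2 * x ^ k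
    have h1 : t ^ 2 * x * (t ^ 2)⁻¹ = x := by
      calc t ^ 2 * x * (t ^ 2)⁻¹ = t * (t * x * t⁻¹) * t⁻¹ := by rw [pow_two]; group
        _ = t * x⁻¹ * t⁻¹ := by rw [ht]
        _ = (t * x * t⁻¹)⁻¹ := by group
        _ = x := by rw [ht, inv_inv]
    exact ((Commute.zpow_right (mul_inv_eq_iff_eq_mul.mp h1 : Commute (t ^ 2) x) k).eq).symm
  have hidx := Subgroup.pow_index_mem C (⟨t, hN⟩ : N)
  have hmem : (⟨t, hN⟩ : N) ∈ C := by
    obtain ⟨j, hj⟩ := Nat.odd_iff.mpr (Nat.two_dvd_ne_zero.mp hrel) |> fun h => h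
    change C.index = 2 * j + 1 at hj
    rw [hj, pow_succ, pow_mul] at hidx
    exact (mul_mem_cancel_left (pow_mem ht2 j)).mp hidx
  rw [hC, Subgroup.mem_subgroupOf, Subgroup.mem_centralizer_iff] at hmem
  have hc := hmem x (Subgroup.mem_zpowers x)
  have he : x = x⁻¹ := by
    rw [← ht]
    exact (mul_inv_eq_iff_eq_mul.mpr hc.symm).symm
  exact hx1 (CfsgLib.Invol.eq_one_of_odd_of_sq hodd (by nth_rw 2 [he]; exact mul_inv_cancel x))
end Cfsg.Agent.S4049
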