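import Cfsg.Statements.S4050
import Cfsg.Agent.Lib.PSolvable.PiElements

set_option autoImplicit false
open Cfsg

namespace Cfsg.Agent.S4050

/-- Let π be a set of primes and G a finite group. The π-elements of G (elements whose order is divisible only by primes of π) form a subgroup if and only if G is π-separable (it has a chain of normal subgroups from 1 to G with each successive index divisible only by primes in π or only by primes outside π) and N_G(H)/C_G(H) is a π'-group for every nontrivial π'-subgroup H of G. -/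
theorem result {G : Type*} [Group G] [Finite G] (π : Set ℕ)
    (hπ : ∀ p ∈ π, p.Prime) :
    (∃ K : Subgroup G, ∀ x : G, x ∈ K ↔ ∀ p : ℕ, p.Prime → p ∣ orderOf x → p ∈ π) ↔
    ((∃ (n : ℕ) (H : Fin (n + 1) → Subgroup G), H 0 = ⊥ ∧ H (Fin.last n) = ⊤ ∧ Monotone H ∧ (∀ i, (H i).Normal) ∧
      ∀ i : Fin n, (∀ q : ℕ, q.Prime → q ∣ (H i.castSucc).relIndex (H i.succ) → q ∈ π) ∨
        (∀ q : ℕ, q.Prime → q ∣ (H i.castSucc).relIndex (H i.succ) → q ∉ π)) ∧
     (∀ H : Subgroup G, H ≠ ⊥ → (∀ p : ℕ, p.Prime → p ∣ Nat.card ↥H → p ∉ π) →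
        ∀ p : ℕ, p.Prime → p ∣ (Subgroup.centralizer (H : Set G)).relIndex (Subgroup.normalizer (H : Set G)) → p ∉ π)) := by
  classical
  constructor
  · rintro ⟨L, hL⟩
    refine ⟨?_, CfsgLib.PiElements.automizer_of_subgroup L hL⟩
    have hLn : L.Normal := ⟨fun y hy z => (hL _).mpr (by
      rw [show z * y * z⁻¹ = MulAut.conj z y from rfl, MulEquiv.orderOf_eq]
      exact (hL y).mp hy)⟩
    refine ⟨2, ![⊥, L, ⊤], rfl, rfl, ?_, ?_, ?_⟩
    · intro i j hij
      fin_cases i <;> fin_cases j <;> simp_all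
    · intro i
      fin_cases i
      · exact Subgroup.normal_bot
      · exact hLn
      · exact Subgroup.normal_top
    · intro i
      fin_cases i
      · left
        show ∀ q : ℕ, q.Prime → q ∣ (⊥ : Subgroup G).relIndex L → q ∈ π
        rw [Subgroup.relIndex_bot_left]
        exact CfsgLib.PiElements.piNum_card fun x hx => (hL x).mp hx
      · right
        show ∀ q : ℕ, q.Prime → q ∣ L.relIndex ⊤ → q ∉ π
        intro q hq hd hqπ
        haveI := Fact.mk hq
        rw [Subgroup.relIndex_top_right] at hd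
        obtain ⟨P⟩ := (inferInstance : Nonempty (Sylow q G))
        refine P.not_dvd_index (hd.trans (Subgroup.index_dvd_of_le fun x hx => (hL x).mpr fun r hr hrd => ?_))
        obtain ⟨k, hk⟩ := IsPGroup.iff_card.mp P.2
        rw [(Nat.prime_dvd_prime_iff_eq hr hq).mp (hr.dvd_of_dvd_pow (hrd.trans (hk ▸ (P : Subgroup G).orderOf_dvd_natCard hx)))]
        exact hqπ
  · rintro ⟨⟨n, H, h0, hn, hmono, hnorm, hfac⟩, hA⟩
    have key : ∀ i : Fin (n + 1), ∃ L : Subgroup G, ∀ x, x ∈ L ↔ x ∈ H i ∧ CfsgLib.PiElements.PiNum π (orderOf x) := by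
      intro i
      induction i using Fin.induction with
      | zero =>
        refine ⟨⊥, fun x => ?_⟩
        rw [h0, Subgroup.mem_bot]
        refine ⟨fun hx => ⟨hx, fun p hp hd => ?_⟩, fun hx => hx.1⟩
        rw [hx, orderOf_one, Nat.dvd_one] at hd
        exact absurd hd hp.ne_one
      | succ j ih =>
        obtain ⟨L, hL⟩ := ih
        have hle : H j.castSucc ≤ H j.succ := hmono (by simp [Fin.le_def])
        haveI := hnorm j.castSucc
        haveI := hnorm j.succ
        rcases hfac j with hπj | hπj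
        · exact CfsgLib.PiElements.step hA _ _ hle hπj L hL
        · refine ⟨L, fun x => ⟨fun hx => ⟨hle ((hL x).mp hx).1, ((hL x).mp hx).2⟩, fun hx => (hL x).mpr ⟨?_, hx.2⟩⟩⟩
          rw [← QuotientGroup.eq_one_iff, ← orderOf_eq_one_iff]
          refine Nat.eq_one_of_dvd_coprimes (CfsgLib.PiElements.coprime_of_pi hx.2 hπj)
            (orderOf_map_dvd (QuotientGroup.mk' (H j.castSucc)) x) ?_
          have hmem : (x : G ⧸ H j.castSucc) ∈ (H j.succ).map (QuotientGroup.mk' (H j.castSucc)) := ⟨x, hx.1, rfl⟩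
          refine (Subgroup.orderOf_dvd_natCard _ hmem).trans (dvd_of_eq ?_)
          rw [← Subgroup.relIndex_bot_left, ← Subgroup.relIndex_comap, MonoidHom.comap_bot, QuotientGroup.ker_mk']
    obtain ⟨L, hL⟩ := key (Fin.last n)
    exact ⟨L, fun x => (hL x).trans (by rw [hn]; exact ⟨fun h => h.2, fun h => ⟨trivial, h⟩⟩)⟩
end Cfsg.Agent.S4050
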