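import Cfsg.Statements.S4051
import Cfsg.Agent.Lib.PSolvable.PiElements

set_option autoImplicit false
open Cfsg

namespace Cfsg.Agent.S4051

/-- Let π be a set of primes and G a finite group such that N_G(H)/C_G(H) is a π'-group for every nontrivial π'-subgroup H of G. If K is a normal subgroup of G such that the π-elements of K form a subgroup and the π-elements of G/K form a subgroup, then the π-elements of G form a subgroup. -/
theorem result {G : Type*} [Group G] [Finite G] (π : Set ℕ)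
    (hπ : ∀ p ∈ π, p.Prime) (hhom : (∀ H : Subgroup G, H ≠ ⊥ → (∀ p : ℕ, p.Prime → p ∣ Nat.card ↥H → p ∉ π) →
        ∀ p : ℕ, p.Prime → p ∣ (Subgroup.centralizer (H : Set G)).relIndex (Subgroup.normalizer (H : Set G)) → p ∉ π))
    (K : Subgroup G) [K.Normal]
    (hK : ∃ L : Subgroup ↥K, ∀ x : ↥K, x ∈ L ↔ ∀ p : ℕ, p.Prime → p ∣ orderOf x → p ∈ π)
    (hQ : ∃ L : Subgroup (G ⧸ K), ∀ x : G ⧸ K, x ∈ L ↔ ∀ p : ℕ, p.Prime → p ∣ orderOf x → p ∈ π) :
    (∃ K : Subgroup G, ∀ x : G, x ∈ K ↔ ∀ p : ℕ, p.Prime → p ∣ orderOf x → p ∈ π) := by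
  obtain ⟨L₀, hL₀⟩ := hK
  obtain ⟨Lq, hLq⟩ := hQ
  have hLn : Lq.Normal := ⟨fun y hy z => (hLq _).mpr (by
    rw [show z * y * z⁻¹ = MulAut.conj z y from rfl, MulEquiv.orderOf_eq]
    exact (hLq y).mp hy)⟩
  haveI := hLn
  set M := Lq.comap (QuotientGroup.mk' K) with hM
  have hKM : K ≤ M := fun x hx => by
    rw [hM, Subgroup.mem_comap, QuotientGroup.mk'_apply, (QuotientGroup.eq_one_iff x).mpr hx]
    exact one_mem _
  have hidx : CfsgLib.PiElements.PiNum π (K.relIndex M) := by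
    refine (CfsgLib.PiElements.piNum_card (L := Lq) fun x hx => (hLq x).mp hx).dvd (dvd_of_eq ?_)
    conv_lhs => arg 1; rw [← QuotientGroup.ker_mk' K, ← MonoidHom.comap_bot]
    rw [Subgroup.relIndex_comap, hM, Subgroup.map_comap_eq_self_of_surjective (QuotientGroup.mk'_surjective K),
      Subgroup.relIndex_bot_left]
  obtain ⟨W, hW⟩ := CfsgLib.PiElements.step hhom K M hKM hidx (L₀.map K.subtype) (fun x => by
    constructor
    · rintro ⟨y, hy, rfl⟩
      exact ⟨y.2, fun p hp hd => (hL₀ y).mp hy p hp (by simpa [Subgroup.orderOf_coe] using hd)⟩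
    · rintro ⟨hx, hπ⟩
      exact ⟨⟨x, hx⟩, (hL₀ _).mpr fun p hp hd => hπ p hp (by simpa [Subgroup.orderOf_mk] using hd), rfl⟩)
  refine ⟨W, fun x => ⟨fun hx => ((hW x).mp hx).2, fun hx => (hW x).mpr ⟨?_, hx⟩⟩⟩
  rw [hM, Subgroup.mem_comap, hLq]
  exact fun p hp hd => hx p hp (hd.trans (orderOf_map_dvd _ x))
end Cfsg.Agent.S4051
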