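import Cfsg.Statements.S4052
import Cfsg.Agent.S0877
import Cfsg.Agent.Lib.PiHomog.Basic
-- import your own Cfsg.Agent.* helpers here

set_option autoImplicit false
open Cfsg

namespace Cfsg.Agent.S4052

/-- Let π be a set of primes and G a finite group whose maximal π-subgroups are pairwise conjugate (so Hall π-subgroups exist, any two are conjugate, and every π-subgroup lies in one of them), and suppose N_G(H)/C_G(H) is a π-group for every nontrivial π-subgroup H. If either 3 does not divide the order of G, or the π'-elements of every proper subgroup of G form a subgroup, then the π'-elements of G form a subgroup. -/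
theorem result {G : Type*} [Group G] [Finite G] (π : Set ℕ)
    (hπ : ∀ p ∈ π, p.Prime) (hD : Cfsg.IsDPiGroup π G) (hhom : (∀ H : Subgroup G, H ≠ ⊥ → (∀ p : ℕ, p.Prime → p ∣ Nat.card ↥H → p ∈ π) →
        ∀ p : ℕ, p.Prime → p ∣ (Subgroup.centralizer (H : Set G)).relIndex (Subgroup.normalizer (H : Set G)) → p ∈ π))
    (hcase : ¬ 3 ∣ Nat.card G ∨ ∀ M : Subgroup G, M ≠ ⊤ →
      ∃ L : Subgroup ↥M, ∀ x : ↥M, x ∈ L ↔ ∀ p : ℕ, p.Prime → p ∣ orderOf x → p ∉ π) :
    (∃ K : Subgroup G, ∀ x : G, x ∈ K ↔ ∀ p : ℕ, p.Prime → p ∣ orderOf x → p ∉ π) := by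
  obtain ⟨H, hH⟩ := CfsgLib.PiHomog.exists_dominant hD
  have hhom' := CfsgLib.PiHomog.homog_of_relIndex hhom
  have hidx := CfsgLib.PiHomog.coPiNum_index hH
  obtain ⟨K, hKn, hsup, hinf⟩ := Cfsg.Agent.S0877.result H
    (CfsgLib.PiElements.coprime_of_pi hH.pi hidx)
    (fun x hx y hy hxy => CfsgLib.PiHomog.fusion hH hhom' hx hy hxy)
    (fun E p _ _ hd => hH.conj E (hH.pi.dvd hd))
  haveI := hKn
  have hKi : K.index = Nat.card H := by
    rw [← K.relIndex_top_right, ← hsup, Subgroup.relIndex_sup_left, ← Subgroup.inf_relIndex_right,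
      hinf, Subgroup.relIndex_bot_left]
  have hKc : Nat.card K = H.index := by
    have h1 := K.card_mul_index
    rw [hKi, ← H.card_mul_index, mul_comm] at h1
    exact Nat.eq_of_mul_eq_mul_left Nat.card_pos h1
  refine ⟨K, fun x => ⟨fun hx p hp hpd => hidx p hp (hKc ▸ hpd.trans (K.orderOf_dvd_natCard hx)),
    fun hx => ?_⟩⟩
  obtain ⟨m, hm⟩ := exists_pow_eq_self_of_coprime
    (CfsgLib.PiElements.coprime_of_pi (hKi.symm ▸ hH.pi) hx)
  exact hm ▸ K.pow_mem (K.pow_index_mem x) m

end Cfsg.Agent.S4052
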