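import Cfsg.Statements.S4056
import Cfsg.Agent.Lib.Critical.Basic

set_option autoImplicit false
open scoped commutatorElement
open Cfsg

namespace Cfsg.Agent.S4056

/-- In a finite 2-group of nilpotency class at most 2 and exponent dividing 4, the Frattini subgroup lies in the centre and is elementary abelian. -/
theorem result {P : Type*} [Group P] [Finite P] (hP : IsPGroup 2 P)
    (hcl : Group.nilpotencyClass P ≤ 2) (hexp : Monoid.exponent P ∣ 4) :
    frattini P ≤ Subgroup.center P ∧ Cfsg.IsElementaryAbelian 2 (frattini P) := by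
  haveI := Fact.mk Nat.prime_two
  haveI := hP.isNilpotent
  have hc : ∀ a b : P, ⁅a, b⁆ ∈ Subgroup.center P := by
    intro a b
    have h2 : Subgroup.lowerCentralSeries (⊤ : Subgroup P) 2 = ⊥ :=
      Subgroup.lowerCentralSeries_eq_bot_iff_nilpotencyClass_le.mpr hcl
    refine Subgroup.mem_center_iff.mpr fun g => ?_
    have hmem : ⁅⁅a, b⁆, g⁆ ∈ Subgroup.lowerCentralSeries (⊤ : Subgroup P) 2 := by
      rw [Subgroup.lowerCentralSeries_succ, Subgroup.lowerCentralSeries_succ, Subgroup.lowerCentralSeries_zero]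
      exact Subgroup.commutator_mem_commutator
        (Subgroup.commutator_mem_commutator (Subgroup.mem_top _) (Subgroup.mem_top _)) (Subgroup.mem_top _)
    rw [h2, Subgroup.mem_bot, commutatorElement_eq_one_iff_mul_comm] at hmem
    exact hmem.symm
  have h4 : ∀ x : P, x ^ 4 = 1 := fun x =>
    orderOf_dvd_iff_pow_eq_one.mp ((Monoid.order_dvd_exponent x).trans hexp)
  have hswap : ∀ a b : P, a * b = ⁅a, b⁆ * (b * a) := fun a b => by rw [commutatorElement_def]; group
  have hcsq : ∀ a b : P, ⁅a, b⁆ ^ 2 = 1 := by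
    intro a b
    set c := ⁅b, a⁆ with hcdef
    have hcc : ∀ g, Commute c g := fun g => (Subgroup.mem_center_iff.mp (hc b a) g).symm
    have hba : b * a = c * (a * b) := hswap b a
    have e2 : (a * b) ^ 2 = c * (a ^ 2 * b ^ 2) := by
      rw [pow_two, pow_two, pow_two, show a * b * (a * b) = a * (b * a) * b by group, hba,
        show a * (c * (a * b)) * b = a * c * (a * b) * b by group, ← (hcc a).eq]
      group
    have hb2a : b ^ 2 * a = c ^ 2 * (a * b ^ 2) := by
      rw [pow_two, pow_two, show b * b * a = b * (b * a) by group, hba,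
        show b * (c * (a * b)) = b * c * a * b by group, ← (hcc b).eq,
        show c * b * a * b = c * (b * a) * b by group, hba]
      group
    have hb2a2 : b ^ 2 * a ^ 2 = c ^ 4 * (a ^ 2 * b ^ 2) := by
      rw [show a ^ 2 = a * a from pow_two a, ← mul_assoc (b ^ 2), hb2a,
        show c ^ 2 * (a * b ^ 2) * a = c ^ 2 * a * (b ^ 2 * a) by group, hb2a,
        show c ^ 2 * a * (c ^ 2 * (a * b ^ 2)) = c ^ 2 * (a * c ^ 2) * (a * b ^ 2) by group,
        ← ((hcc a).pow_left 2).eq]
      group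
    rw [h4 c, one_mul] at hb2a2
    have e4 : (a * b) ^ 4 = c ^ 2 := by
      rw [show (4 : ℕ) = 2 * 2 from rfl, pow_mul, e2, (hcc _).mul_pow, pow_two (a ^ 2 * b ^ 2),
        show a ^ 2 * b ^ 2 * (a ^ 2 * b ^ 2) = a ^ 2 * (b ^ 2 * a ^ 2) * b ^ 2 by group, hb2a2,
        show a ^ 2 * (a ^ 2 * b ^ 2) * b ^ 2 = a ^ 4 * b ^ 4 by group, h4, h4, one_mul, mul_one]
    rw [h4] at e4
    rw [← commutatorElement_inv b a, inv_pow, ← hcdef, ← e4, inv_one]
  have hsq : ∀ a : P, a ^ 2 ∈ Subgroup.center P := by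
    intro a
    refine Subgroup.mem_center_iff.mpr fun g => ?_
    have hcc : ∀ g', Commute ⁅g, a⁆ g' := fun g' => (Subgroup.mem_center_iff.mp (hc g a) g').symm
    calc g * a ^ 2 = (g * a) * a := by rw [pow_two]; group
      _ = ⁅g, a⁆ * (a * g) * a := by rw [← hswap]
      _ = ⁅g, a⁆ * a * (g * a) := by group
      _ = ⁅g, a⁆ * a * (⁅g, a⁆ * (a * g)) := by rw [← hswap]
      _ = ⁅g, a⁆ * (a * ⁅g, a⁆) * a * g := by group
      _ = ⁅g, a⁆ * (⁅g, a⁆ * a) * a * g := by rw [(hcc a).eq]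
      _ = ⁅g, a⁆ ^ 2 * a ^ 2 * g := by rw [pow_two, pow_two]; group
      _ = a ^ 2 * g := by rw [hcsq, one_mul]
  let N : Subgroup P :=
    { carrier := {x | x ∈ Subgroup.center P ∧ x ^ 2 = 1}
      one_mem' := ⟨one_mem _, one_pow 2⟩
      mul_mem' := fun {x y} hx hy => ⟨mul_mem hx.1 hy.1, by
        rw [Commute.mul_pow (Subgroup.mem_center_iff.mp hy.1 x), hx.2, hy.2, one_mul]⟩
      inv_mem' := fun {x} hx => ⟨inv_mem hx.1, by rw [inv_pow, hx.2, inv_one]⟩ }
  haveI : N.Normal := ⟨fun x hx g => by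
    rw [show g * x * g⁻¹ = x by rw [Subgroup.mem_center_iff.mp hx.1 g, mul_inv_cancel_right]]
    exact hx⟩
  have hle : frattini P ≤ N := by
    refine CfsgLib.Critical.frattini_le_of_elementary (p := 2) N ?_ (fun x => ⟨hsq x, by rw [← pow_mul]; exact h4 x⟩)
    rw [commutator_def, Subgroup.commutator_le]
    exact fun a _ b _ => ⟨hc a b, hcsq a b⟩
  refine ⟨hle.trans fun x hx => hx.1, ⟨⟨fun a b => ?_⟩⟩, fun a ha => ?_⟩
  · exact Subtype.ext (Subgroup.mem_center_iff.mp (hle b.2).1 a)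
  · exact (hle ha).2

end Cfsg.Agent.S4056
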