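import Cfsg.Statements.S4057
import Cfsg.Agent.Lib.PGroup.UnitriRank
import Cfsg.Agent.Lib.PGroup.CentralOmega
import Cfsg.Agent.Lib.PGroup.AlperinElementary
import Cfsg.Agent.Lib.NilCover.Basic

set_option autoImplicit false
open Cfsg

namespace Cfsg.Agent.S4057

open CfsgLib in
theorem unitri_generators {p k : ℕ} [hp : Fact p.Prime] {Q : Type*} [Group Q] [Finite Q]
    (hQ : IsPGroup p Q) (ρ : Q →* GL (Fin k) (ZMod p)) (hρ : Function.Injective ρ) :
    ∃ S : Finset Q, S.card ≤ k ^ 2 / 4 ∧ Subgroup.closure (S : Set Q) = ⊤ := by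
  obtain ⟨c, hc⟩ := NilCover.exists_conj_unitri p ρ.range (hQ.of_surjective _ ρ.rangeRestrict_surjective)
  let f : Q →* Matrix (Fin k) (Fin k) (ZMod p) :=
    (Units.coeHom _).comp ((MulAut.conj c⁻¹).toMonoidHom.comp ρ)
  have hf : Function.Injective f := fun a b h =>
    hρ ((MulAut.conj c⁻¹).injective (Units.ext h))
  let R : UnitriRank.Rep p k Q := ⟨f, hf, fun q i j hij => by
    obtain ⟨x, hx, hxe⟩ := hc (ρ q) ⟨q, rfl⟩
    have : f q = (x : Matrix (Fin k) (Fin k) (ZMod p)) := by
      show Units.val (c⁻¹ * ρ q * c⁻¹⁻¹) = _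
      rw [hxe, show c⁻¹ * (c * Matrix.SpecialLinearGroup.toGL x * c⁻¹) * c⁻¹⁻¹ =
        Matrix.SpecialLinearGroup.toGL x by group]
      rfl
    rw [this]
    exact hx i j hij⟩
  exact PGroup.exists_generators hQ (frattini Q) le_rfl (R.frattini_index_le hQ)

/-- Additive endomorphisms are linear over the prime field. -/
def zmodRep {p : ℕ} {P V : Type*} [Monoid P] [AddCommGroup V] [Module (ZMod p) V]
    (f : P →* AddMonoid.End V) : P →* Module.End (ZMod p) V where
  toFun g := AddMonoidHom.toZModLinearMap p (f g)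
  map_one' := LinearMap.ext fun v => by
    show f 1 v = v
    rw [map_one]
    rfl
  map_mul' g h := LinearMap.ext fun v => by
    show f (g * h) v = f g (f h v)
    rw [map_mul]
    rfl

theorem matrix_rep {p : ℕ} [hp : Fact p.Prime] {P V : Type*} [Group P] [AddCommGroup V] [Finite V]
    [Module (ZMod p) V] (f : P →* AddMonoid.End V) :
    ∃ (m : ℕ) (ρ : P →* GL (Fin m) (ZMod p)), Nat.card V = p ^ m ∧ ∀ g, ρ g = 1 ↔ f g = 1 := by
  haveI : Module.Finite (ZMod p) V := Module.Finite.of_finite
  let b := Module.finBasis (ZMod p) V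
  let e := LinearMap.toMatrixAlgEquiv b
  refine ⟨_, (e.toMonoidHom.comp (zmodRep f)).toHomUnits, ?_, fun g => ?_⟩
  · rw [Module.natCard_eq_pow_finrank (K := ZMod p), Nat.card_zmod]
  · constructor
    · intro h
      have h1 : e (zmodRep f g) = 1 := congrArg Units.val h
      have h2 : zmodRep f g = 1 := e.injective (h1.trans (map_one e).symm)
      exact AddMonoidHom.ext fun v => LinearMap.congr_fun h2 v
    · intro h
      refine Units.ext (show e (zmodRep f g) = 1 from ?_)
      rw [show zmodRep (p := p) f g = 1 from LinearMap.ext fun v => DFunLike.congr_fun h v, map_one]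

open CfsgLib in
theorem conjugation_rep {P : Type*} [Group P] [Finite P] {p : ℕ} [hp : Fact p.Prime]
    (E : Subgroup P) [E.Normal] (hE : Cfsg.IsElementaryAbelian p E) :
    ∃ (m : ℕ) (ρ : P →* GL (Fin m) (ZMod p)), Nat.card E = p ^ m ∧
      ρ.ker = Subgroup.centralizer (E : Set P) := by
  haveI := hE.1
  letI : CommGroup E := { (inferInstance : Group E) with mul_comm := fun a b => mul_comm' a b }
  letI : Module (ZMod p) (Additive E) := AddCommGroup.zmodModule fun v =>
    Additive.toMul.injective (Subtype.ext (hE.2 _ v.toMul.2))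
  let c : P →* AddMonoid.End (Additive E) :=
    { toFun := fun g => MonoidHom.toAdditive (MulAut.conjNormal g : E ≃* E).toMonoidHom
      map_one' := AddMonoidHom.ext fun v => Additive.toMul.injective (Subtype.ext (by
        show (1 : P) * ((Additive.toMul v : E) : P) * (1 : P)⁻¹ = _
        rw [one_mul, inv_one, mul_one]
        rfl))
      map_mul' := fun g h => AddMonoidHom.ext fun v => Additive.toMul.injective (Subtype.ext (by
        show g * h * ((Additive.toMul v : E) : P) * (g * h)⁻¹ =
          g * (h * ((Additive.toMul v : E) : P) * h⁻¹) * g⁻¹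
        group)) }
  obtain ⟨m, ρ, hm, hρ⟩ := matrix_rep (p := p) c
  refine ⟨m, ρ, ?_, ?_⟩
  · rw [← hm, Nat.card_congr Additive.ofMul]
  · ext g
    rw [MonoidHom.mem_ker, hρ, Subgroup.mem_centralizer_iff]
    constructor
    · intro h e he
      have h4 : c g (Additive.ofMul ⟨e, he⟩) = Additive.ofMul ⟨e, he⟩ := by rw [h]; rfl
      have h3 : g * e * g⁻¹ = e := congrArg (fun v : Additive E => (v.toMul : P)) h4
      exact (mul_inv_eq_iff_eq_mul.mp h3).symm
    · intro h
      exact AddMonoidHom.ext fun v => Additive.toMul.injective (Subtype.ext (by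
        show g * ((Additive.toMul v : E) : P) * g⁻¹ = _
        rw [← h _ (Additive.toMul v).2, mul_inv_cancel_right]
        rfl))

/-- Let p be an odd prime and P a finite p-group in which every normal abelian subgroup can be generated by k elements. Then every subgroup of P can be generated by at most ⌊k(k+4)/4⌋ elements. -/
theorem result {P : Type*} [Group P] [Finite P] {p : ℕ} [Fact p.Prime]
    (hp : p ≠ 2) (hP : IsPGroup p P) (k : ℕ)
    (hab : ∀ A : Subgroup P, A.Normal → IsMulCommutative A → ∃ S : Finset P, S.card ≤ k ∧ Subgroup.closure (S : Set P) = A) :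
    ∀ H : Subgroup P, ∃ S : Finset P, S.card ≤ k * (k + 4) / 4 ∧ Subgroup.closure (S : Set P) = H := by
  classical
  haveI := Fintype.ofFinite (Subgroup P)
  obtain ⟨E, hE1, hEmax⟩ := Finset.exists_max_image
    (Finset.univ.filter fun B : Subgroup P => B.Normal ∧ Cfsg.IsElementaryAbelian p B)
    (fun B => Nat.card B)
    ⟨⊥, Finset.mem_filter.mpr ⟨Finset.mem_univ _, inferInstance, ⟨⟨⟨fun a b => Subsingleton.elim _ _⟩⟩,
      fun a ha => by rw [Subgroup.mem_bot.mp ha, one_pow]⟩⟩⟩
  simp only [Finset.mem_filter, Finset.mem_univ, true_and] at hE1 hEmax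
  obtain ⟨hEn, hEe⟩ := hE1
  haveI := hEn
  have hEk : Nat.card E ≤ p ^ k := by
    obtain ⟨S, hSk, hSE⟩ := hab E hEn hEe.1
    haveI := hEe.1
    letI : CommGroup E := { (inferInstance : Group E) with mul_comm := fun a b => mul_comm' a b }
    have hS : (S : Set P) ⊆ E := fun s hs => hSE ▸ Subgroup.subset_closure hs
    let S' : Finset E := S.subtype (· ∈ E)
    have hcard : S'.card ≤ k := by
      rw [Finset.card_subtype]
      exact (Finset.card_filter_le _ _).trans hSk
    have htop : Subgroup.closure (S' : Set E) = ⊤ := by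
      refine Subgroup.map_injective E.subtype_injective ?_
      rw [MonoidHom.map_closure, ← MonoidHom.range_eq_map, Subgroup.range_subtype]
      refine Eq.trans ?_ hSE
      congr 1
      ext s
      constructor
      · rintro ⟨w, hw, rfl⟩
        exact Finset.mem_subtype.mp (Finset.mem_coe.mp hw)
      · exact fun hs => ⟨⟨s, hS hs⟩, Finset.mem_coe.mpr (Finset.mem_subtype.mpr hs), rfl⟩
    have h := CfsgLib.PGroup.card_le_pow_of_closure (Fact.out : p.Prime).pos
      (fun v : E => Subtype.ext (hEe.2 _ v.2)) S'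
    rw [htop, Subgroup.card_top] at h
    exact h.trans (Nat.pow_le_pow_right (Fact.out : p.Prime).pos hcard)
  have hmax : ∀ B' : Subgroup P, B'.Normal → Cfsg.IsElementaryAbelian p B' → E ≤ B' → B' = E :=
    fun B' h1 h2 h3 => (Subgroup.eq_of_le_of_card_ge h3 (hEmax B' ⟨h1, h2⟩)).symm
  obtain ⟨m, ρ, hm, hker⟩ := conjugation_rep E hEe
  have hmk : m ≤ k := (Nat.pow_le_pow_iff_right (Fact.out : p.Prime).one_lt).mp (hm ▸ hEk)
  intro H
  set φ := ρ.comp H.subtype with hφ
  obtain ⟨T, hT, hTtop⟩ := unitri_generators (hP.to_subgroup H |>.of_surjective _ φ.rangeRestrict_surjective)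
    φ.range.subtype φ.range.subtype_injective
  have hK : ∀ z : φ.ker, ((z : H) : P) ∈ Subgroup.centralizer (E : Set P) := fun z => hker.le z.2
  have hom : ∀ z : φ.ker, z ^ p = 1 → ((z : H) : P) ∈ E := fun z hz =>
    CfsgLib.AlperinElem.mem_of_maximal hP hp hEe hmax (hK z) (congrArg (fun w : φ.ker => ((w : H) : P)) hz)
  obtain ⟨U, hU, hUtop⟩ := CfsgLib.CentralOmega.exists_generators hp _ φ.ker rfl
    ((hP.to_subgroup H).to_subgroup _)
    (fun z hz => Subgroup.mem_center_iff.mpr fun v =>
      Subtype.ext (Subtype.ext (hK v _ (hom z hz)).symm)) k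
    (le_trans (Nat.card_le_card_of_injective
      (fun z : {z : φ.ker // z ^ p = 1} => (⟨((z.1 : H) : P), hom z.1 z.2⟩ : E))
      (fun a b h => Subtype.ext (Subtype.ext (Subtype.ext (congrArg (fun w : E => (w : P)) h))))) hEk)
  have hs : ∀ t : φ.range, ∃ h : H, φ h = t := fun t => t.2
  choose g hg using hs
  let S0 : Finset H := U.image Subtype.val ∪ T.image g
  have hS0 : Subgroup.closure (S0 : Set H) = ⊤ := by
    refine eq_top_iff.mpr fun h _ => ?_
    have hle : φ.ker ≤ Subgroup.closure (S0 : Set H) := by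
      intro z hz
      have h1 : z ∈ (Subgroup.closure (U : Set φ.ker)).map φ.ker.subtype :=
        ⟨⟨z, hz⟩, hUtop.ge (Subgroup.mem_top _), rfl⟩
      rw [MonoidHom.map_closure] at h1
      refine Subgroup.closure_mono ?_ h1
      rintro _ ⟨w, hw, rfl⟩
      exact Finset.mem_coe.mpr (Finset.mem_union_left _ (Finset.mem_image_of_mem _ hw))
    have hle2 : Subgroup.closure (T : Set φ.range) ≤
        (Subgroup.closure (S0 : Set H)).map φ.rangeRestrict := by
      rw [Subgroup.closure_le]
      intro t ht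
      exact ⟨g t, Subgroup.subset_closure (Finset.mem_coe.mpr
        (Finset.mem_union_right _ (Finset.mem_image_of_mem _ ht))), Subtype.ext (hg t)⟩
    obtain ⟨u, hu, hue⟩ := hle2 (hTtop.ge (Subgroup.mem_top (φ.rangeRestrict h)))
    have h3 : u⁻¹ * h ∈ φ.ker := by
      rw [MonoidHom.mem_ker, map_mul, map_inv, inv_mul_eq_one]
      exact congrArg Subtype.val hue
    have h4 := mul_mem hu (hle h3)
    rwa [mul_inv_cancel_left] at h4
  refine ⟨S0.image Subtype.val, ?_, ?_⟩
  · refine Finset.card_image_le.trans ((Finset.card_union_le _ _).trans ?_)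
    refine (Nat.add_le_add (Finset.card_image_le.trans hU) (Finset.card_image_le.trans hT)).trans ?_
    have h1 : m ^ 2 / 4 ≤ k ^ 2 / 4 := Nat.div_le_div_right (Nat.pow_le_pow_left hmk 2)
    have h2 : k * (k + 4) / 4 = k + k ^ 2 / 4 := by
      rw [show k * (k + 4) = k ^ 2 + k * 4 by ring, Nat.add_mul_div_right _ _ (by norm_num)]
      ring
    omega
  · rw [Finset.coe_image]
    have h1 := MonoidHom.map_closure H.subtype (S0 : Set H)
    rw [hS0, ← MonoidHom.range_eq_map, Subgroup.range_subtype] at h1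
    exact h1.symm

end Cfsg.Agent.S4057
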