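import Cfsg.Statements.S4058
import Cfsg.Agent.Lib.FSCount.Basic

set_option autoImplicit false
open Cfsg

namespace Cfsg.Agent.S4058

open CfsgLib.Char CfsgLib.FSCount in
open scoped CfsgLib.Char in
theorem key {G : Type*} [Group G] [Fintype G] (hG : IsPGroup 2 G) (k : ℕ)
    (hgen : 2 ^ (2 * k + 1) ≤ Nat.card (G ⧸ frattini G)) :
    2 ^ (k + 1) ∣ Nat.card {x : G // x ^ 2 = 1} := by
  classical
  haveI : Fact (Nat.Prime 2) := ⟨Nat.prime_two⟩
  -- squares lie in the Frattini subgroup
  have hsq : ∀ g : G, g ^ 2 ∈ frattini G := by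
    intro g
    show g ^ 2 ∈ Order.radical (Subgroup G)
    simp only [Order.radical, Subgroup.mem_iInf]
    intro M hM
    haveI hnil : Group.IsNilpotent G := hG.isNilpotent
    have hMn : M.Normal := Subgroup.NormalizerCondition.normal_of_coatom M (Group.normalizerCondition_of_isNilpotent (G := G)) hM
    haveI := hMn
    have hcard : Nat.card (G ⧸ M) = 2 := by
      obtain ⟨j, hj⟩ := IsPGroup.iff_card.mp (hG.to_quotient M)
      have hj1 : 1 ≤ j := by
        by_contra hj0
        have : M = ⊤ := Subgroup.index_eq_one.mp (by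
          show Nat.card (G ⧸ M) = 1
          rw [hj, show j = 0 by omega, pow_zero])
        exact hM.1 this
      obtain ⟨L, hL, -⟩ := Sylow.exists_subgroup_card_pow_prime_le 2 (n := 0) (m := 1)
        (G := G ⧸ M) (by rw [hj]; exact pow_dvd_pow 2 hj1) ⊥ (by simp) (by omega)
      have hle : M < L.comap (QuotientGroup.mk' M) := by
        refine lt_of_le_of_ne (fun x hx => ?_) fun h => ?_
        · rw [Subgroup.mem_comap, QuotientGroup.mk'_apply, (QuotientGroup.eq_one_iff x).mpr hx]
          exact L.one_mem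
        · have hmap := congrArg (Subgroup.map (QuotientGroup.mk' M)) h
          rw [Subgroup.map_comap_eq_self_of_surjective (QuotientGroup.mk'_surjective M),
            QuotientGroup.map_mk'_self] at hmap
          rw [← hmap, Subgroup.card_bot] at hL
          norm_num at hL
      have htop := hM.2 _ hle
      have : L = ⊤ := by
        rw [← Subgroup.map_comap_eq_self_of_surjective (QuotientGroup.mk'_surjective M) L, htop,
          Subgroup.map_top_of_surjective _ (QuotientGroup.mk'_surjective M)]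
      rw [this, Subgroup.card_top, pow_one] at hL
      exact hL
    rw [← QuotientGroup.eq_one_iff, QuotientGroup.mk_pow, ← hcard]
    exact pow_card_eq_one'
  haveI : (frattini G).Normal := inferInstance
  have hq : ∀ q : G ⧸ frattini G, q * q = 1 := by
    intro q
    obtain ⟨g, rfl⟩ := QuotientGroup.mk_surjective q
    rw [← QuotientGroup.mk_mul, ← sq, QuotientGroup.eq_one_iff]
    exact hsq g
  letI : CommGroup (G ⧸ frattini G) :=
    { (inferInstance : Group (G ⧸ frattini G)) with
      mul_comm := fun a b => by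
        have ha := inv_eq_of_mul_eq_one_right (hq a)
        have hb := inv_eq_of_mul_eq_one_right (hq b)
        have hab := inv_eq_of_mul_eq_one_right (hq (a * b))
        rw [mul_inv_rev, ha, hb] at hab
        exact hab.symm }
  haveI : Finite (G →* ℂˣ) := Finite.of_injective (fun f => (fun g => (⟨f g, by
      rw [mem_rootsOfUnity]
      rw [← map_pow, pow_card_eq_one', map_one]⟩ : rootsOfUnity (Nat.card G) ℂ)))
    fun f f' h => MonoidHom.ext fun g => congrArg Subtype.val (congrFun h g)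
  let Λ : Subgroup (G →* ℂˣ) :=
    { carrier := {f | f ^ 2 = 1}
      one_mem' := one_pow 2
      mul_mem' := fun {a b} (ha : a ^ 2 = 1) (hb : b ^ 2 = 1) => by
        show (a * b) ^ 2 = 1
        refine MonoidHom.ext fun g => ?_
        have h1 : a g ^ 2 = 1 := by simpa using DFunLike.congr_fun ha g
        have h2 : b g ^ 2 = 1 := by simpa using DFunLike.congr_fun hb g
        simp [mul_pow, h1, h2]
      inv_mem' := fun {a} (ha : a ^ 2 = 1) => by
        show a⁻¹ ^ 2 = 1
        refine MonoidHom.ext fun g => ?_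
        have h1 : a g ^ 2 = 1 := by simpa using DFunLike.congr_fun ha g
        simp [inv_pow, h1] }
  haveI : Fintype Λ := Fintype.ofFinite _
  have hΛge : 2 ^ (2 * k + 1) ≤ Nat.card Λ := by
    refine hgen.trans ?_
    rw [← card_hom_units (G ⧸ frattini G)]
    refine Nat.card_le_card_of_injective
      (fun φ => (⟨φ.comp (QuotientGroup.mk' (frattini G)), MonoidHom.ext fun g => ?_⟩ : Λ)) fun φ φ' h => ?_
    · rw [MonoidHom.pow_apply, MonoidHom.comp_apply, ← map_pow, sq, hq, map_one, MonoidHom.one_apply]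
    · exact QuotientGroup.monoidHom_ext _ (congrArg Subtype.val h)
  obtain ⟨L, hL⟩ : ∃ L, Nat.card Λ = 2 ^ L := IsPGroup.iff_card.mp fun f => ⟨1, Subtype.ext (by
    rw [pow_one]
    exact f.2)⟩
  have hLk : 2 * k + 1 ≤ L := (Nat.pow_le_pow_iff_right Nat.one_lt_two).mp (hL ▸ hΛge)
  letI : MulAction Λ (IrrCharacter G) :=
    { smul := fun f χ => ⟨(fun g => ((f : G →* ℂˣ) g : ℂ)) * χ.1, isIrrCharacter_twist f.1 f.2 χ.2⟩
      one_smul := fun χ => Subtype.ext (funext fun g => by
        show ((1 : G →* ℂˣ) g : ℂ) * χ.1 g = χ.1 g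
        simp)
      mul_smul := fun f f' χ => Subtype.ext (funext fun g => by
        show (((f * f' : Λ) : G →* ℂˣ) g : ℂ) * χ.1 g =
          ((f : G →* ℂˣ) g : ℂ) * (((f' : G →* ℂˣ) g : ℂ) * χ.1 g)
        simp [mul_assoc]) }
  have hsmul : ∀ (f : Λ) (χ : IrrCharacter G) (g : G),
      (f • χ).1 g = ((f : G →* ℂˣ) g : ℂ) * χ.1 g := fun _ _ _ => rfl
  choose ν hν using fun χ : IrrCharacter G => exists_int_indicator (isCharacter_of_isIrr χ.2)
  choose d hd hdpos hddvd using fun χ : IrrCharacter G => exists_degree_dvd_card χ.2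
  have hinv : ∀ (f : Λ) (χ : IrrCharacter G), ν (f • χ) = ν χ ∧ d (f • χ) = d χ := by
    intro f χ
    have hf : ∀ g : G, ((f : G →* ℂˣ) (g * g) : ℂ) = 1 := fun g => by
      rw [map_mul, ← sq, ← MonoidHom.pow_apply, f.2, MonoidHom.one_apply, Units.val_one]
    constructor
    · have h1 : ((ν (f • χ) : ℤ) : ℂ) = (ν χ : ℂ) := by
        rw [← hν, ← hν]
        simp only [hsmul, hf, one_mul]
      exact_mod_cast h1
    · have h1 : ((d (f • χ) : ℕ) : ℂ) = (d χ : ℂ) := by
        rw [← hd, ← hd, hsmul, map_one, Units.val_one, one_mul]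
      exact_mod_cast h1
  have hsum : (Nat.card {x : G // x ^ 2 = 1} : ℤ) = ∑ χ : IrrCharacter G, ν χ * (d χ : ℤ) := by
    have h := card_sqrt_one (G := G)
    rw [Finset.sum_congr rfl fun (χ : IrrCharacter G) _ => by rw [hν χ, hd χ]] at h
    exact_mod_cast h
  suffices ((2 ^ (k + 1) : ℕ) : ℤ) ∣ (Nat.card {x : G // x ^ 2 = 1} : ℤ) by exact_mod_cast this
  rw [hsum, ← Finset.sum_fiberwise_of_maps_to (g := fun χ => (Quotient.mk (MulAction.orbitRel Λ (IrrCharacter G)) χ))
    (t := Finset.univ) (fun χ _ => Finset.mem_univ _) (fun χ => ν χ * (d χ : ℤ))]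
  refine Finset.dvd_sum fun q _ => ?_
  obtain ⟨χ₀, rfl⟩ := Quotient.exists_rep q
  have hfib : ∀ χ ∈ Finset.univ.filter (fun χ => Quotient.mk (MulAction.orbitRel Λ (IrrCharacter G)) χ =
      Quotient.mk _ χ₀), ν χ * (d χ : ℤ) = ν χ₀ * (d χ₀ : ℤ) := by
    intro χ hχ
    rw [Finset.mem_filter] at hχ
    obtain ⟨f, rfl⟩ := Quotient.exact hχ.2
    show ν (f • χ₀) * (d (f • χ₀) : ℤ) = _
    rw [(hinv f χ₀).1, (hinv f χ₀).2]
  rw [Finset.sum_congr rfl hfib, Finset.sum_const, nsmul_eq_mul]
  set O := (Finset.univ.filter (fun χ => Quotient.mk (MulAction.orbitRel Λ (IrrCharacter G)) χ =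
      Quotient.mk _ χ₀)).card with hO
  have horb : O = (MulAction.stabilizer Λ χ₀).index := by
    rw [MulAction.index_stabilizer, hO, ← Set.ncard_coe_finset]
    congr 1
    ext χ
    simp only [Finset.coe_filter, Finset.mem_univ, true_and]
    exact Quotient.eq (r := MulAction.orbitRel Λ (IrrCharacter G))
  have hmul := Subgroup.index_mul_card (MulAction.stabilizer Λ χ₀)
  rw [← horb, hL] at hmul
  obtain ⟨a, -, ha⟩ := (Nat.dvd_prime_pow Nat.prime_two).mp ((hddvd χ₀).trans (IsPGroup.iff_card.mp hG).choose_spec.dvd)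
  obtain ⟨o, -, ho⟩ := (Nat.dvd_prime_pow Nat.prime_two).mp (Dvd.intro _ hmul : O ∣ 2 ^ L)
  obtain ⟨s, -, hs⟩ := (Nat.dvd_prime_pow Nat.prime_two).mp
    (Dvd.intro_left _ hmul : Nat.card (MulAction.stabilizer Λ χ₀) ∣ 2 ^ L)
  have hosL : o + s = L := by
    rw [ho, hs, ← pow_add] at hmul
    exact Nat.pow_right_injective le_rfl hmul
  have hs2 : s ≤ 2 * a := by
    have h := card_fixing_le ((MulAction.stabilizer Λ χ₀).map Λ.subtype)
      (by rintro _ ⟨f, -, rfl⟩; exact f.2) χ₀.2 (hd χ₀)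
      (by
        rintro _ ⟨f, hf, rfl⟩
        exact congrArg Subtype.val hf)
    rw [Subgroup.card_map_of_injective Λ.subtype_injective, hs, ha, ← pow_mul] at h
    have := (Nat.pow_le_pow_iff_right Nat.one_lt_two).mp h
    omega
  have hfinal : 2 ^ (k + 1) ∣ O * d χ₀ := by
    rw [ho, ha, ← pow_add]
    exact pow_dvd_pow 2 (by omega)
  have hdvd : ((2 ^ (k + 1) : ℕ) : ℤ) ∣ ((O * d χ₀ : ℕ) : ℤ) := Int.natCast_dvd_natCast.mpr hfinal
  refine hdvd.trans ⟨ν χ₀, ?_⟩
  push_cast
  ring


/-- Let G be a finite 2-group with #(G/Φ(G)) ≥ 2^(2k+1). Then the number of elements x of G with x² = 1 is divisible by 2^(k+1). -/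
theorem result {G : Type*} [Group G] [Finite G] (hG : IsPGroup 2 G) (k : ℕ)
    (hgen : 2 ^ (2 * k + 1) ≤ Nat.card (G ⧸ frattini G)) :
    2 ^ (k + 1) ∣ Nat.card {x : G // x ^ 2 = 1} := by
  haveI := Fintype.ofFinite G
  exact key hG k hgen

end Cfsg.Agent.S4058
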