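import Cfsg.Statements.S4059
import Mathlib
import Cfsg.Agent.Lib.Elem.PrimaryParts

set_option autoImplicit false
set_option linter.style.haveILetI false
open Cfsg
open scoped commutatorElement

namespace Cfsg.Agent.S4059

/-- Let G be a finite group in which every element is conjugate to its inverse. Then: every non-identity element commuting with all elements of some Sylow 2-subgroup is an involution; the centre of G is an elementary abelian 2-group; the commutator quotient G/G' is an elementary abelian 2-group; and G is generated by its 2-elements. -/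
theorem result {G : Type*} [Group G] [Finite G] (hamb : ∀ x : G, IsConj x x⁻¹) :
    (∀ (S : Sylow 2 G) (x : G), x ∈ Subgroup.centralizer ((S : Subgroup G) : Set G) → x ≠ 1 → orderOf x = 2) ∧
    (∀ z : G, z ∈ Subgroup.center G → z ^ 2 = 1) ∧
    (∀ x : G, x ^ 2 ∈ commutator G) ∧
    Subgroup.closure {x : G | ∃ k : ℕ, orderOf x = 2 ^ k} = ⊤ := by
  classical
  have key : ∀ x : G, ∃ h : G, (∃ k : ℕ, orderOf h = 2 ^ k) ∧ h * x * h⁻¹ = x⁻¹ := by
    intro x
    obtain ⟨g, hg⟩ := isConj_iff.mp (hamb x)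
    obtain ⟨m, k, hm, hk⟩ := CfsgLib.PrimaryParts.exists_pow_primePow 2 Nat.prime_two g
    refine ⟨g ^ m, ⟨k, hk⟩, ?_⟩
    obtain ⟨j, rfl⟩ : Odd m := Nat.odd_iff.mpr (by omega)
    have hsq : ∀ j : ℕ, g ^ (2 * j) * x * (g ^ (2 * j))⁻¹ = x := by
      intro j
      induction j with
      | zero => simp
      | succ j ih =>
        have h2 : g * x⁻¹ * g⁻¹ = x := by rw [← MulAut.conj_apply, map_inv, MulAut.conj_apply, hg, inv_inv]
        calc g ^ (2 * (j + 1)) * x * (g ^ (2 * (j + 1)))⁻¹
            = g * (g * (g ^ (2 * j) * x * (g ^ (2 * j))⁻¹) * g⁻¹) * g⁻¹ := by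
              rw [show 2 * (j + 1) = 2 * j + 1 + 1 by ring, pow_succ' g (2 * j + 1), pow_succ' g (2 * j)]
              group
          _ = x := by rw [ih, hg, h2]
    calc g ^ (2 * j + 1) * x * (g ^ (2 * j + 1))⁻¹
        = g * (g ^ (2 * j) * x * (g ^ (2 * j))⁻¹) * g⁻¹ := by rw [pow_succ' g (2 * j)]; group
      _ = x⁻¹ := by rw [hsq, hg]
  refine ⟨fun S x hx hx1 => ?_, fun z hz => ?_, fun x => ?_, ?_⟩
  · obtain ⟨h, ⟨k, hk⟩, hh⟩ := key x
    refine orderOf_eq_prime ?_ hx1
    set C := Subgroup.centralizer ({x} : Set G)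
    have hS : (S : Subgroup G) ≤ C := fun s hs =>
      Subgroup.mem_centralizer_singleton_iff.mpr (Subgroup.mem_centralizer_iff.mp hx s hs)
    by_contra hx2
    have hhC : h ∉ C := by
      intro hc
      apply hx2
      rw [Subgroup.mem_centralizer_singleton_iff] at hc
      rw [hc, mul_inv_cancel_right] at hh
      rw [sq]
      nth_rewrite 2 [hh]
      rw [mul_inv_cancel]
    have hnorm : h ∈ Subgroup.normalizer (C : Set G) := by
      rw [Subgroup.mem_normalizer_iff]
      intro c
      rw [Subgroup.mem_centralizer_singleton_iff, Subgroup.mem_centralizer_singleton_iff]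
      have hh' : h⁻¹ * x * h = x⁻¹ := by
        have h1 : h * x⁻¹ * h⁻¹ = x := by rw [← MulAut.conj_apply, map_inv, MulAut.conj_apply, hh, inv_inv]
        calc h⁻¹ * x * h = h⁻¹ * (h * x⁻¹ * h⁻¹) * h := by rw [h1]
          _ = x⁻¹ := by group
      constructor
      · intro hc
        have e : Commute c x⁻¹ := Commute.inv_right hc
        calc h * c * h⁻¹ * x = h * (c * (h⁻¹ * x * h)) * h⁻¹ := by group
          _ = h * ((h⁻¹ * x * h) * c) * h⁻¹ := by rw [hh', e.eq]
          _ = x * (h * c * h⁻¹) := by group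
      · intro hc
        have e : Commute (h * c * h⁻¹) x⁻¹ := Commute.inv_right hc
        calc c * x = h⁻¹ * ((h * c * h⁻¹) * (h * x * h⁻¹)) * h := by group
          _ = h⁻¹ * ((h * x * h⁻¹) * (h * c * h⁻¹)) * h := by rw [hh, e.eq]
          _ = x * c := by group
    set H := C ⊔ Subgroup.zpowers h
    have hH : H ≤ Subgroup.normalizer (C : Set G) := sup_le Subgroup.le_normalizer (Subgroup.zpowers_le.mpr hnorm)
    haveI : (C.subgroupOf H).Normal := Subgroup.normal_subgroupOf_iff_le_normalizer le_sup_left |>.mpr hH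
    have h1 : C.relIndex H ∣ C.index := Subgroup.relIndex_dvd_index_of_le le_sup_left
    have h2 : ¬ 2 ∣ C.relIndex H := fun hd => S.not_dvd_index (dvd_trans (hd.trans h1) (Subgroup.index_dvd_of_le hS))
    have h3 : orderOf (QuotientGroup.mk (s := C.subgroupOf H) (⟨h, Subgroup.mem_sup_right (Subgroup.mem_zpowers h)⟩ : H)) ∣ C.relIndex H :=
      orderOf_dvd_natCard _
    have h4 : orderOf (QuotientGroup.mk (s := C.subgroupOf H) (⟨h, Subgroup.mem_sup_right (Subgroup.mem_zpowers h)⟩ : H)) ∣ 2 ^ k := by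
      have := orderOf_map_dvd (QuotientGroup.mk' (C.subgroupOf H)) (⟨h, Subgroup.mem_sup_right (Subgroup.mem_zpowers h)⟩ : H)
      rwa [Subgroup.orderOf_mk, hk] at this
    obtain ⟨i, -, hi⟩ := (Nat.dvd_prime_pow Nat.prime_two).mp h4
    rcases i with _ | i
    · rw [pow_zero, orderOf_eq_one_iff, QuotientGroup.eq_one_iff] at hi
      exact hhC hi
    · exact h2 ((dvd_pow_self 2 (Nat.succ_ne_zero i)).trans (hi ▸ h3))
  · obtain ⟨g, hg⟩ := isConj_iff.mp (hamb z)
    rw [Subgroup.mem_center_iff.mp hz g, mul_inv_cancel_right] at hg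
    rw [sq]
    nth_rewrite 2 [hg]
    rw [mul_inv_cancel]
  · obtain ⟨g, hg⟩ := isConj_iff.mp (hamb x)
    have : x ^ 2 = ⁅x, g⁆ := by
      rw [commutatorElement_def, sq]
      calc x * x = x * (g * x * g⁻¹)⁻¹ := by rw [hg, inv_inv]
        _ = x * g * x⁻¹ * g⁻¹ := by group
    rw [this, commutator_def]
    exact Subgroup.commutator_mem_commutator (Subgroup.mem_top x) (Subgroup.mem_top g)
  · set T := {x : G | ∃ k : ℕ, orderOf x = 2 ^ k}
    set N := Subgroup.closure T
    have hN : N.Normal := by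
      refine ⟨fun w hw g => ?_⟩
      have : N ≤ N.comap (MulAut.conj g).toMonoidHom := (Subgroup.closure_le _).mpr fun t ⟨k, hk⟩ =>
        Subgroup.subset_closure ⟨k, by rw [← hk]; exact MulEquiv.orderOf_eq (MulAut.conj g) t⟩
      exact this hw
    rw [eq_top_iff]
    intro x _
    refine CfsgLib.PrimaryParts.mem_of_primePow_parts fun y _ p a hp hy => ?_
    by_cases hp2 : p = 2
    · exact Subgroup.subset_closure ⟨a, hp2 ▸ hy⟩
    obtain ⟨h, hh, hhy⟩ := key y
    have hhN : h ∈ N := Subgroup.subset_closure hh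
    have h2 : y ^ 2 ∈ N := by
      have h3 := N.mul_mem (hN.conj_mem h hhN y) (N.inv_mem hhN)
      have : y ^ 2 = y * h * y⁻¹ * h⁻¹ := by
        rw [sq]
        calc y * y = y * (h * y * h⁻¹)⁻¹ := by rw [hhy, inv_inv]
          _ = y * h * y⁻¹ * h⁻¹ := by group
      rw [this]
      exact h3
    have hcop : (orderOf y).Coprime 2 := by
      rw [hy]
      exact ((Nat.coprime_primes hp Nat.prime_two).mpr hp2).pow_left a
    obtain ⟨u, hu⟩ := exists_pow_eq_self_of_coprime hcop.symm
    rw [← hu]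
    exact N.pow_mem h2 u

end Cfsg.Agent.S4059
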