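import Cfsg.Statements.S4060
import Cfsg.Agent.Lib.Hall.Basic

-- import your own Cfsg.Agent.* helpers here

set_option autoImplicit false
open Cfsg

namespace Cfsg.Agent.S4060

universe u

theorem aux : ∀ (n : ℕ) {G : Type u} [Group G] [Finite G] [Group.IsSolvable G], Nat.card G ≤ n →
    ∀ (S : Sylow 2 G) (x : G), x ≠ 1 → Odd (orderOf x) →
    x ∈ Subgroup.normalizer ((S : Subgroup G) : Set G) → ¬ IsConj x x⁻¹ := by
  intro n
  induction n with
  | zero =>
    intro G _ _ _ hc
    exact absurd (Nat.card_pos (α := G)) (by omega)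
  | succ n ih =>
    intro G _ _ _ hc S x hx hodd hnorm hconj
    haveI : Nontrivial G := ⟨⟨x, 1, hx⟩⟩
    obtain ⟨p, hp, N, hN, hNne, hNp, -⟩ := CfsgLib.Hall.exists_normal_pgroup_ne_bot (G := G)
    haveI := hN
    haveI := Fact.mk hp
    have hsurj := QuotientGroup.mk'_surjective N
    by_cases hxN : x ∈ N
    · have hx2 : x ≠ x⁻¹ := by
        intro h
        have h2 : x ^ 2 = 1 := by rw [sq]; nth_rewrite 2 [h]; exact mul_inv_cancel x
        have h3 := Nat.Coprime.eq_one_of_dvd hodd.coprime_two_right (orderOf_dvd_of_pow_eq_one h2)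
        exact hx (orderOf_eq_one_iff.mp h3)
      have hp2 : p ≠ 2 := by
        rintro rfl
        obtain ⟨k, hk⟩ := hNp ⟨x, hxN⟩
        have h2 : x ^ 2 ^ k = 1 := congrArg Subtype.val hk
        have h3 := Nat.Coprime.eq_one_of_dvd (hodd.coprime_two_right.pow_right k) (orderOf_dvd_of_pow_eq_one h2)
        exact hx (orderOf_eq_one_iff.mp h3)
      have hdis : Disjoint N (S : Subgroup G) := IsPGroup.disjoint_of_ne p 2 hp2 _ _ hNp S.isPGroup'
      have hSC : (S : Subgroup G) ≤ Subgroup.centralizer ({x} : Set G) := by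
        intro s hs
        rw [Subgroup.mem_centralizer_singleton_iff]
        have h1 : x * s * x⁻¹ * s⁻¹ ∈ (S : Subgroup G) :=
          mul_mem ((Subgroup.mem_normalizer_iff.mp hnorm s).mp hs) (inv_mem hs)
        have h2 : x * s * x⁻¹ * s⁻¹ ∈ N := by
          have := mul_mem hxN (hN.conj_mem _ (inv_mem hxN) s)
          simpa [mul_assoc] using this
        have h3 := Subgroup.disjoint_def.mp hdis h2 h1
        have h4 : x * s * x⁻¹ = s := mul_inv_eq_one.mp h3
        calc s * x = x * s * x⁻¹ * x := by rw [h4]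
          _ = x * s := by group
      obtain ⟨g, hg⟩ := isConj_iff.mp hconj
      let M : Subgroup G :=
        { carrier := {h | h * x * h⁻¹ = x ∨ h * x * h⁻¹ = x⁻¹}
          one_mem' := Or.inl (by simp)
          mul_mem' := by
            intro a b ha hb
            have e : a * b * x * (a * b)⁻¹ = a * (b * x * b⁻¹) * a⁻¹ := by group
            have e' : a * x⁻¹ * a⁻¹ = (a * x * a⁻¹)⁻¹ := by group
            simp only [Set.mem_setOf_eq] at ha hb ⊢
            rw [e]
            rcases hb with hb | hb <;> rw [hb]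
            · exact ha
            · rw [e']
              rcases ha with ha | ha <;> rw [ha]
              · exact Or.inr rfl
              · exact Or.inl (inv_inv x)
          inv_mem' := by
            intro a ha
            simp only [Set.mem_setOf_eq, inv_inv] at ha ⊢
            rcases ha with ha | ha
            · left; nth_rewrite 1 [← ha]; group
            · right
              have : a⁻¹ * (a * x * a⁻¹) * a = a⁻¹ * x⁻¹ * a := by rw [ha]
              calc a⁻¹ * x * a = (a⁻¹ * x⁻¹ * a)⁻¹ := by group
                _ = x⁻¹ := by rw [← this]; group }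
      set C := Subgroup.centralizer ({x} : Set G)
      have hCmem : ∀ h : G, h ∈ C ↔ h * x * h⁻¹ = x := by
        intro h
        rw [Subgroup.mem_centralizer_singleton_iff, mul_inv_eq_iff_eq_mul]
      have hidx : C.relIndex M = 2 := by
        rw [Subgroup.relIndex, Subgroup.index_eq_two_iff]
        refine ⟨⟨g, Or.inr hg⟩, fun b => ?_⟩
        simp only [Subgroup.mem_subgroupOf, Subgroup.coe_mul]
        rw [hCmem, hCmem]
        have e : (b : G) * g * x * ((b : G) * g)⁻¹ = ((b : G) * x * (b : G)⁻¹)⁻¹ := by
          calc (b : G) * g * x * ((b : G) * g)⁻¹ = (b : G) * (g * x * g⁻¹) * (b : G)⁻¹ := by group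
            _ = _ := by rw [hg]; group
        rw [e, inv_eq_iff_eq_inv]
        rcases b.2 with hb | hb
        · rw [hb]; exact Or.inr ⟨rfl, hx2⟩
        · rw [hb]; exact Or.inl ⟨rfl, hx2.symm⟩
      have hCM : C ≤ M := fun h hh => Or.inl ((hCmem h).mp hh)
      have h2 : 2 ∣ C.index := hidx ▸ Dvd.intro _ (Subgroup.relIndex_mul_index hCM)
      exact S.not_dvd_index (h2.trans (Subgroup.index_dvd_of_le hSC))
    · have hlt : Nat.card (G ⧸ N) ≤ n := by
        have h1 := N.card_eq_card_quotient_mul_card_subgroup
        have h2 : 1 < Nat.card N := Finite.one_lt_card_iff_nontrivial.mpr ((Subgroup.nontrivial_iff_ne_bot N).mpr hNne)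
        have h3 := Nat.card_pos (α := G ⧸ N)
        have h4 : Nat.card (G ⧸ N) * 2 ≤ Nat.card G := h1 ▸ Nat.mul_le_mul_left _ h2
        omega
      refine ih hlt (S.mapSurjective hsurj) (QuotientGroup.mk' N x) ?_ ?_ ?_ ?_
      · exact fun h => hxN ((QuotientGroup.eq_one_iff x).mp h)
      · exact hodd.of_dvd_nat (orderOf_map_dvd _ x)
      · rw [Sylow.coe_mapSurjective]
        exact Subgroup.le_normalizer_map (QuotientGroup.mk' N) ⟨x, hnorm, rfl⟩
      · rw [← map_inv]
        exact (QuotientGroup.mk' N).map_isConj hconj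


/-- Let G be a finite solvable group with Sylow 2-subgroup S, and let x ≠ 1 be an element of odd order normalizing S. Then x is not conjugate to its inverse in G. -/
theorem result {G : Type*} [Group G] [Finite G] [Group.IsSolvable G]
    (S : Sylow 2 G) (x : G) (hx : x ≠ 1) (hodd : Odd (orderOf x))
    (hnorm : x ∈ Subgroup.normalizer ((S : Subgroup G) : Set G)) : ¬ IsConj x x⁻¹ := by
  exact aux (Nat.card G) le_rfl S x hx hodd hnorm

end Cfsg.Agent.S4060
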