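import Cfsg.Statements.S4061
import Cfsg.Agent.Lib.Invol.SolvableCore
import Cfsg.Agent.Lib.ZStar.Recognize
import Cfsg.Agent.Lib.Groups.SelfCentPrime
import Cfsg.Agent.Lib.Fitting.Basic
import Mathlib.GroupTheory.FixedPointFree

set_option autoImplicit false
set_option linter.style.haveILetI false
open Cfsg

namespace Cfsg.Agent.S4061

open scoped commutatorElement

variable {G : Type*} [Group G] [Finite G]

omit [Finite G] in
/-- An element of odd order, inverted by an element of odd order, is trivial. -/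
theorem eq_one_of_odd_inverted {x g : G} (hx : Odd (orderOf x)) (hg : Odd (orderOf g))
    (h : g * x * g⁻¹ = x⁻¹) : x = 1 := by
  obtain ⟨k, hk⟩ := hg
  have h2 : Commute (g ^ 2) x := by
    have h' : g * x⁻¹ * g⁻¹ = x := by rw [← conj_inv, h, inv_inv]
    have : g ^ 2 * x * (g ^ 2)⁻¹ = x := by
      calc g ^ 2 * x * (g ^ 2)⁻¹ = g * (g * x * g⁻¹) * g⁻¹ := by simp [pow_two, mul_assoc]
        _ = x := by rw [h, h']
    exact mul_inv_eq_iff_eq_mul.mp this
  have hg' : g = (g ^ 2) ^ (k + 1) := by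
    rw [← pow_mul, show 2 * (k + 1) = orderOf g + 1 by omega, pow_add, pow_orderOf_eq_one, one_mul,
      pow_one]
  have hc : Commute g x := hg' ▸ h2.pow_left (k + 1)
  rw [hc.eq, mul_inv_cancel_right] at h
  have hd : orderOf x ∣ 2 := orderOf_dvd_of_pow_eq_one (by rw [pow_two]; nth_rw 1 [h]; exact inv_mul_cancel x)
  rcases (Nat.dvd_prime Nat.prime_two).mp hd with h1 | h1
  · exact orderOf_eq_one_iff.mp h1
  · exact absurd (h1 ▸ hx) (by decide)

omit [Finite G] in
theorem ambivalent_map {Q : Type*} [Group Q] (f : G →* Q) (hf : Function.Surjective f)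
    (hamb : ∀ x : G, IsConj x x⁻¹) (y : Q) : IsConj y y⁻¹ := by
  obtain ⟨x, rfl⟩ := hf y
  rw [← map_inv]
  exact f.map_isConj (hamb x)

theorem subsingleton_of_odd_ambivalent (hamb : ∀ x : G, IsConj x x⁻¹) (hodd : Odd (Nat.card G)) (x : G) :
    x = 1 := by
  obtain ⟨g, hg⟩ := isConj_iff.mp (hamb x)
  exact eq_one_of_odd_inverted (Odd.of_dvd_nat hodd (orderOf_dvd_natCard x))
    (Odd.of_dvd_nat hodd (orderOf_dvd_natCard g)) hg

theorem exists_ne_one_of_card {S : Subgroup G} (h : 1 < Nat.card S) : ∃ t : S, t ≠ 1 := by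
  haveI := Finite.one_lt_card_iff_nontrivial.mp h
  exact exists_ne 1

theorem unique_involution [Group.IsSolvable G] (hcore : Subgroup.centralizer (Cfsg.pCore 2 G : Set G) ≤ Cfsg.pCore 2 G)
    (hamb : ∀ x : G, IsConj x x⁻¹) (hone : ∀ s t : G, orderOf s = 2 → orderOf t = 2 → IsConj s t)
    (s t : G) (hs : orderOf s = 2) (ht : orderOf t = 2) : s = t := by
  classical
  haveI := Fact.mk Nat.prime_two
  set R := Cfsg.pCore 2 G with hR
  haveI hRn : R.Normal := CfsgLib.Fitting.pCore_normal 2
  have hRp : IsPGroup 2 R := CfsgLib.Fitting.pCore_isPGroup 2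
  let I : Subgroup G :=
    { carrier := {x | x ∈ R ∧ (∀ r ∈ R, x * r = r * x) ∧ x ^ 2 = 1}
      one_mem' := ⟨R.one_mem, by simp, one_pow _⟩
      mul_mem' := fun {a b} ha hb => ⟨R.mul_mem ha.1 hb.1,
        fun r hr => by rw [mul_assoc, hb.2.1 r hr, ← mul_assoc, ha.2.1 r hr, mul_assoc],
        by rw [Commute.mul_pow (ha.2.1 b hb.1), ha.2.2, hb.2.2, one_mul]⟩
      inv_mem' := fun {a} ha => ⟨R.inv_mem ha.1,
        fun r hr => ((Commute.inv_left (ha.2.1 r hr))).eq, by rw [inv_pow, ha.2.2, inv_one]⟩ }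
  haveI hIn : I.Normal := ⟨fun x hx g => ⟨hRn.conj_mem x hx.1 g, fun r hr => by
    have h := hx.2.1 (g⁻¹ * r * g) (by simpa using hRn.conj_mem r hr g⁻¹)
    calc g * x * g⁻¹ * r = g * (x * (g⁻¹ * r * g)) * g⁻¹ := by simp [mul_assoc]
      _ = g * (g⁻¹ * r * g * x) * g⁻¹ := by rw [h]
      _ = r * (g * x * g⁻¹) := by simp [mul_assoc],
    by rw [conj_pow, hx.2.2, mul_one, mul_inv_cancel]⟩⟩
  -- `R` is non-trivial
  have hR1 : R ≠ ⊥ := fun e => by
    have hs1 : s ∈ R := hcore (by rw [e]; simp [Subgroup.mem_centralizer_iff])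
    rw [e, Subgroup.mem_bot] at hs1
    rw [hs1, orderOf_one] at hs
    omega
  haveI : Nontrivial R := (Subgroup.nontrivial_iff_ne_bot R).mpr hR1
  haveI : Nontrivial (Subgroup.center R) := hRp.center_nontrivial
  obtain ⟨z, hz⟩ := exists_prime_orderOf_dvd_card' 2 (show 2 ∣ Nat.card (Subgroup.center R) by
    obtain ⟨m, hm⟩ := IsPGroup.iff_card.mp (hRp.to_subgroup (Subgroup.center R))
    rcases Nat.eq_zero_or_pos m with hm0 | hm0
    · rw [hm0, pow_zero] at hm
      have := Finite.one_lt_card (α := Subgroup.center R)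
      omega
    · rw [hm]; exact dvd_pow_self 2 (by omega))
  have hzI : ((z : R) : G) ∈ I := ⟨(z : R).2,
    fun r hr => (congrArg Subtype.val (Subgroup.mem_center_iff.mp z.2 ⟨r, hr⟩)).symm, by
      have := pow_orderOf_eq_one z
      rw [hz] at this
      exact congrArg (fun w : Subgroup.center R => ((w : R) : G)) this⟩
  have hz2 : orderOf ((z : R) : G) = 2 := by rw [Subgroup.orderOf_coe, Subgroup.orderOf_coe, hz]
  have hall : ∀ u : G, orderOf u = 2 → u ∈ I := fun u hu => by
    obtain ⟨g, rfl⟩ := isConj_iff.mp (hone _ u hz2 hu)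
    exact hIn.conj_mem _ hzI g
  set T := Subgroup.centralizer (I : Set G) with hT
  haveI : T.Normal := Subgroup.normal_centralizer
  by_contra hst
  -- `I` is not central
  have hTtop : T ≠ ⊤ := by
    intro e
    obtain ⟨g, hg⟩ := isConj_iff.mp (hone s t hs ht)
    have hgT : g ∈ T := by rw [e]; exact Subgroup.mem_top g
    rw [← Subgroup.mem_centralizer_iff.mp hgT s (hall s hs), mul_inv_cancel_right] at hg
    exact hst hg
  haveI : Nontrivial (G ⧸ T) := QuotientGroup.nontrivial_iff.mpr hTtop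
  -- a non-trivial normal `r`-subgroup of `G ⧸ T`
  obtain ⟨m, hm⟩ := (Group.isSolvable_def (G ⧸ T)).mp inferInstance
  obtain ⟨k, hk1, hk2⟩ : ∃ k, derivedSeries (G ⧸ T) k ≠ ⊥ ∧ derivedSeries (G ⧸ T) (k + 1) = ⊥ := by
    by_contra hno
    push Not at hno
    have : ∀ k, derivedSeries (G ⧸ T) k ≠ ⊥ := fun k => by
      induction k with
      | zero => simp
      | succ k ih => exact hno k ih
    exact this m hm
  set A := derivedSeries (G ⧸ T) k with hA
  have hAc : ∀ a ∈ A, ∀ b ∈ A, Commute a b := fun a ha b hb => by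
    have : ⁅a, b⁆ ∈ derivedSeries (G ⧸ T) (k + 1) := Subgroup.commutator_mem_commutator ha hb
    rw [hk2, Subgroup.mem_bot] at this
    exact commutatorElement_eq_one_iff_mul_comm.mp this
  obtain ⟨r, hr, hrA⟩ := Nat.exists_prime_and_dvd (n := Nat.card A) fun h =>
    hk1 (Subgroup.eq_bot_of_card_eq A h)
  haveI := Fact.mk hr
  obtain ⟨a, ha⟩ := exists_prime_orderOf_dvd_card' r hrA
  let B' : Subgroup (G ⧸ T) :=
    { carrier := {x | x ∈ A ∧ x ^ r = 1}
      one_mem' := ⟨A.one_mem, one_pow _⟩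
      mul_mem' := fun {u v} hu hv => ⟨A.mul_mem hu.1 hv.1, by
        rw [(hAc u hu.1 v hv.1).mul_pow, hu.2, hv.2, one_mul]⟩
      inv_mem' := fun {u} hu => ⟨A.inv_mem hu.1, by rw [inv_pow, hu.2, inv_one]⟩ }
  haveI : B'.Normal := ⟨fun x hx g => ⟨(inferInstance : (derivedSeries (G ⧸ T) k).Normal).conj_mem x hx.1 g,
    by rw [conj_pow, hx.2, mul_one, mul_inv_cancel]⟩⟩
  have hB'p : IsPGroup r B' := fun x => ⟨1, Subtype.ext (by simpa using x.2.2)⟩
  have hB'1 : B' ≠ ⊥ := fun e => by
    have h1 : (a : G ⧸ T) ∈ B' := ⟨a.2, by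
      rw [← Subgroup.coe_pow, ← ha, pow_orderOf_eq_one, Subgroup.coe_one]⟩
    rw [e, Subgroup.mem_bot] at h1
    rw [show a = 1 from Subtype.ext h1, orderOf_one] at ha
    exact hr.one_lt.ne ha
  set B := B'.comap (QuotientGroup.mk' T) with hB
  haveI : B.Normal := Subgroup.Normal.comap inferInstance _
  obtain ⟨B0⟩ : Nonempty (Sylow r B) := inferInstance
  set B1 := (B0 : Subgroup B).map B.subtype with hB1
  -- `B = T B1`
  have hTB : T ≤ B := fun x hx => by
    rw [hB, Subgroup.mem_comap, QuotientGroup.mk'_apply, (QuotientGroup.eq_one_iff x).mpr hx]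
    exact B'.one_mem
  have hmapB : B1.map (QuotientGroup.mk' T) = B' := by
    let f : B →* B' := ((QuotientGroup.mk' T).comp B.subtype).codRestrict B' fun x => x.2
    have hf : Function.Surjective f := fun y => by
      obtain ⟨x, hx⟩ := QuotientGroup.mk'_surjective T (y : G ⧸ T)
      exact ⟨⟨x, by rw [hB, Subgroup.mem_comap, hx]; exact y.2⟩, Subtype.ext hx⟩
    have htop : ((B0.mapSurjective hf : Sylow r B') : Subgroup B') = ⊤ := by
      obtain ⟨j, hj⟩ := IsPGroup.iff_card.mp hB'p
      refine Subgroup.eq_top_of_card_eq _ ?_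
      rw [Sylow.card_eq_multiplicity, hj, hr.factorization_pow, Finsupp.single_eq_same]
    refine le_antisymm ?_ fun y hy => ?_
    · rw [Subgroup.map_le_iff_le_comap, ← hB]
      exact Subgroup.map_subtype_le _
    · have h1 : (⟨y, hy⟩ : B') ∈ (B0 : Subgroup B).map f := by
        rw [← Sylow.coe_mapSurjective hf B0, htop]; exact Subgroup.mem_top _
      obtain ⟨x, hx, hxy⟩ := h1
      exact ⟨x, ⟨x, hx, rfl⟩, congrArg Subtype.val hxy⟩
  have hBgen : ∀ b ∈ B, ∃ b1 ∈ B1, b1⁻¹ * b ∈ T := by
    intro b hb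
    have h1 : QuotientGroup.mk' T b ∈ B1.map (QuotientGroup.mk' T) := by rw [hmapB]; exact hb
    obtain ⟨b1, hb1, e⟩ := h1
    exact ⟨b1, hb1, QuotientGroup.eq.mp e⟩
  have hB1p : IsPGroup r B1 := B0.2.map B.subtype
  -- fixed points of `B1` on `I`
  let F : Subgroup G := I ⊓ Subgroup.centralizer (B1 : Set G)
  have hFeq : F = I ⊓ Subgroup.centralizer (B : Set G) := by
    refine le_antisymm (fun x hx => ⟨hx.1, Subgroup.mem_centralizer_iff.mpr fun b hb => ?_⟩)
      (inf_le_inf_left _ (Subgroup.centralizer_le (Subgroup.map_subtype_le _)))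
    obtain ⟨b1, hb1, hbT⟩ := hBgen b hb
    have e1 := Subgroup.mem_centralizer_iff.mp hx.2 b1 hb1
    have e2 := Subgroup.mem_centralizer_iff.mp hbT x hx.1
    rw [show b = b1 * (b1⁻¹ * b) by group]
    exact (Commute.mul_left e1 e2.symm).eq
  haveI hFn : F.Normal := by rw [hFeq]; exact Subgroup.normal_inf_normal _ _
  have hFbot : F = ⊥ := by
    by_contra hne
    haveI : Nontrivial F := (Subgroup.nontrivial_iff_ne_bot F).mpr hne
    obtain ⟨u, hu⟩ := exists_ne (1 : F)
    have hu2 : orderOf (u : G) = 2 := orderOf_eq_prime u.2.1.2.2 (fun h => hu (Subtype.ext h))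
    have hIF : ∀ w ∈ I, w ∈ F := fun w hw => by
      by_cases hw1 : w = 1
      · rw [hw1]; exact F.one_mem
      · obtain ⟨g, rfl⟩ := isConj_iff.mp (hone u w hu2 (orderOf_eq_prime hw.2.2 hw1))
        exact hFn.conj_mem _ u.2 g
    refine hB'1 ?_
    rw [← hmapB, Subgroup.map_eq_bot_iff, QuotientGroup.ker_mk']
    intro b hb
    exact Subgroup.mem_centralizer_iff.mpr fun w hw =>
      (Subgroup.mem_centralizer_iff.mp (hIF w hw).2 b hb).symm
  have hr2 : r ≠ 2 := by
    rintro rfl
    haveI : Nontrivial I := (Subgroup.nontrivial_iff_ne_bot I).mpr fun e => by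
      have := hall s hs
      rw [e, Subgroup.mem_bot] at this
      rw [this, orderOf_one] at hs
      omega
    have hI2 : 2 ∣ Nat.card I := by
      have := orderOf_dvd_natCard (⟨s, hall s hs⟩ : I)
      rwa [Subgroup.orderOf_mk, hs] at this
    let _ : MulAction B1 I :=
      { smul := fun b x => ⟨b * x * (b : G)⁻¹, hIn.conj_mem x x.2 b⟩
        one_smul := fun x => Subtype.ext (by show ((1 : B1) : G) * x * ((1 : B1) : G)⁻¹ = x; simp)
        mul_smul := fun a b x => Subtype.ext (by
          show ((a * b : B1) : G) * x * ((a * b : B1) : G)⁻¹ = (a : G) * ((b : G) * x * (b : G)⁻¹) * (a : G)⁻¹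
          simp [mul_assoc]) }
    have h1 : (1 : I) ∈ MulAction.fixedPoints B1 I := fun b => Subtype.ext (by
      show (b : G) * ((1 : I) : G) * (b : G)⁻¹ = 1
      simp)
    obtain ⟨w, hw, hw1⟩ := hB1p.exists_fixed_point_of_prime_dvd_card_of_fixed_point (α := I) hI2 h1
    have hwF : (w : G) ∈ F := ⟨w.2, Subgroup.mem_centralizer_iff.mpr fun b hb =>
      mul_inv_eq_iff_eq_mul.mp (congrArg Subtype.val (hw ⟨b, hb⟩))⟩
    rw [hFbot, Subgroup.mem_bot] at hwF
    exact hw1 (Subtype.ext hwF.symm)
  -- the normalizer of `B1` has odd order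
  set N := Subgroup.normalizer (B1 : Set G) with hN
  have hNodd : Odd (Nat.card N) := by
    rw [← Nat.not_even_iff_odd, even_iff_two_dvd]
    intro h
    obtain ⟨u, hu⟩ := exists_prime_orderOf_dvd_card' 2 h
    have hu' : orderOf (u : G) = 2 := by rw [Subgroup.orderOf_coe, hu]
    have huI := hall _ hu'
    have : (u : G) ∈ F := ⟨huI, Subgroup.mem_centralizer_iff.mpr fun b hb => by
      have hcI : ⁅b, (u : G)⁆ ∈ I := by
        rw [commutatorElement_def]; exact I.mul_mem (hIn.conj_mem _ huI b) (I.inv_mem huI)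
      have hcB : ⁅b, (u : G)⁆ ∈ B1 := by
        rw [commutatorElement_def, mul_assoc, mul_assoc, ← mul_assoc (u : G)]
        exact B1.mul_mem hb ((Subgroup.mem_normalizer_iff.mp u.2 b⁻¹).mp (B1.inv_mem hb))
      obtain ⟨j, hj⟩ := hB1p ⟨_, hcB⟩
      have hj' : ⁅b, (u : G)⁆ ^ r ^ j = 1 := congrArg Subtype.val hj
      have h2 : orderOf ⁅b, (u : G)⁆ = 1 := Nat.eq_one_of_dvd_coprimes
        (((Nat.coprime_primes hr Nat.prime_two).mpr hr2).pow_left j)
        (orderOf_dvd_of_pow_eq_one hj') (orderOf_dvd_of_pow_eq_one hcI.2.2)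
      exact commutatorElement_eq_one_iff_mul_comm.mp (orderOf_eq_one_iff.mp h2)⟩
    rw [hFbot, Subgroup.mem_bot] at this
    rw [this, orderOf_one] at hu'
    omega
  -- it covers `G ⧸ T`
  have hcov : N.map (QuotientGroup.mk' T) = ⊤ := by
    have hfr : N ⊔ B = ⊤ := Sylow.normalizer_sup_eq_top B0
    rw [eq_top_iff, ← Subgroup.map_top_of_surjective _ (QuotientGroup.mk'_surjective T), ← hfr,
      Subgroup.map_sup]
    refine sup_le le_rfl ?_
    rw [hB, Subgroup.map_comap_eq_self_of_surjective (QuotientGroup.mk'_surjective T), ← hmapB]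
    exact Subgroup.map_mono Subgroup.le_normalizer
  have hQodd : Odd (Nat.card (G ⧸ T)) := by
    refine Odd.of_dvd_nat hNodd ?_
    rw [← Subgroup.card_top, ← hcov]
    exact N.card_map_dvd _
  haveI : Subsingleton (G ⧸ T) := ⟨fun x y =>
    (subsingleton_of_odd_ambivalent (ambivalent_map (QuotientGroup.mk' T) (QuotientGroup.mk'_surjective T) hamb) hQodd x).trans
      (subsingleton_of_odd_ambivalent (ambivalent_map (QuotientGroup.mk' T) (QuotientGroup.mk'_surjective T) hamb) hQodd y).symm⟩
  exact false_of_nontrivial_of_subsingleton (G ⧸ T)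

/-- Let G be a finite solvable group of even order in which every element is conjugate to its inverse and all involutions are conjugate. Then a Sylow 2-subgroup S of G has order 2 or is a generalized quaternion group (of order at least 8). Moreover, if S has order 2, then G is the semidirect product of its largest normal subgroup of odd order O(G) by S, O(G) equals the derived subgroup of G, and the involution of S inverts every element of O(G). -/
theorem result {G : Type*} [Group G] [Finite G] [Group.IsSolvable G]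
    (hamb : ∀ x : G, IsConj x x⁻¹) (heven : 2 ∣ Nat.card G) (hone : ∀ s t : G, orderOf s = 2 → orderOf t = 2 → IsConj s t) (S : Sylow 2 G) :
    (Nat.card S = 2 ∨ ∃ n : ℕ, Nonempty ((S : Subgroup G) ≃* QuaternionGroup (2 ^ (n + 1)))) ∧
    (Nat.card S = 2 → (S : Subgroup G).IsComplement' (Cfsg.oddCore G) ∧ Cfsg.oddCore G = commutator G ∧
        ∀ t : G, t ∈ S → t ≠ 1 → ∀ x : G, x ∈ Cfsg.oddCore G → t * x * t⁻¹ = x⁻¹) := by
  classical
  haveI := Fact.mk Nat.prime_two
  haveI hOn : (Cfsg.oddCore G).Normal := CfsgLib.SelfCent.pPrimeCore_normal' 2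
  have hOodd : Odd (Nat.card (Cfsg.oddCore G)) :=
    Nat.coprime_two_right.mp (CfsgLib.SelfCent.pPrimeCore_coprime 2)
  set π := QuotientGroup.mk' (Cfsg.oddCore G) with hπ
  -- unique involution
  have huq : ∀ x y : S, orderOf x = 2 → orderOf y = 2 → x = y := by
    intro x y hx hy
    have hker : ∀ z : S, π z = 1 → z = 1 := fun z hz => by
      obtain ⟨j, hj⟩ := S.2 z
      have h1 : orderOf (z : G) ∣ 2 ^ j := by rw [Subgroup.orderOf_coe]; exact orderOf_dvd_of_pow_eq_one hj
      have hzO : (z : G) ∈ Cfsg.oddCore G := (QuotientGroup.eq_one_iff _).mp hz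
      have h2 : Odd (orderOf (z : G)) := by
        refine Odd.of_dvd_nat hOodd ?_
        have := orderOf_dvd_natCard (⟨(z : G), hzO⟩ : Cfsg.oddCore G)
        rwa [Subgroup.orderOf_mk] at this
      have := Nat.eq_one_of_dvd_coprimes ((Nat.coprime_two_right.mpr h2).symm.pow_left j) h1 dvd_rfl
      exact Subtype.ext (orderOf_eq_one_iff.mp this)
    have hord : ∀ z : S, orderOf z = 2 → orderOf (π z) = 2 := fun z hz => by
      refine orderOf_eq_prime ?_ fun h => ?_
      · rw [← map_pow, ← Subgroup.coe_pow, show z ^ 2 = 1 from orderOf_dvd_iff_pow_eq_one.mp hz.dvd, Subgroup.coe_one, map_one]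
      · rw [hker z h, orderOf_one] at hz; omega
    have hlift : ∀ u v : G ⧸ Cfsg.oddCore G, orderOf u = 2 → orderOf v = 2 → IsConj u v := by
      have key : ∀ u : G ⧸ Cfsg.oddCore G, orderOf u = 2 → ∃ w : G, orderOf w = 2 ∧ π w = u := by
        intro u hu
        obtain ⟨w, rfl⟩ := QuotientGroup.mk'_surjective (Cfsg.oddCore G) u
        have hwm : w ^ 2 ∈ Cfsg.oddCore G := by
          rw [← QuotientGroup.eq_one_iff, QuotientGroup.mk_pow, ← hu]
          exact pow_orderOf_eq_one (π w)
        obtain ⟨m, hm⟩ := hOodd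
        have e : (w ^ 2) ^ (2 * m + 1) = 1 := by
          rw [← hm]
          exact congrArg Subtype.val (pow_card_eq_one' (x := (⟨w ^ 2, hwm⟩ : Cfsg.oddCore G)))
        have h1 : π (w ^ (2 * m + 1)) = π w := by
          rw [map_pow, pow_succ, pow_mul, ← hu, pow_orderOf_eq_one, one_pow, one_mul]
        refine ⟨w ^ (2 * m + 1), orderOf_eq_prime ?_ fun h => ?_, h1⟩
        · rw [← pow_mul, mul_comm, pow_mul, e]
        · rw [h, map_one] at h1
          rw [← h1, orderOf_one] at hu
          omega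
      intro u v hu hv
      obtain ⟨a, ha, rfl⟩ := key u hu
      obtain ⟨b, hb, rfl⟩ := key v hv
      exact π.map_isConj (hone a b ha hb)
    have hQ : Group.IsSolvable (G ⧸ Cfsg.oddCore G) := inferInstance
    have := unique_involution (CfsgLib.Invol.solvable_centralizer_core_le inferInstance)
      (ambivalent_map π (QuotientGroup.mk'_surjective _) hamb) hlift (π x) (π y) (hord x hx) (hord y hy)
    have h1 : π ((x⁻¹ * y : S) : G) = 1 := by
      rw [Subgroup.coe_mul, Subgroup.coe_inv, map_mul, map_inv, this, inv_mul_cancel]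
    exact (inv_mul_eq_one.mp (hker _ h1))
  have hS1 : 2 ∣ Nat.card S := by
    have := S.pow_dvd_card_of_pow_dvd_card (n := 1) (by rwa [pow_one])
    rwa [pow_one] at this
  have hmf : (Nat.card G).minFac = 2 := (Nat.minFac_eq_two_iff _).mpr heven
  -- a cyclic Sylow 2-subgroup has order two
  have hcyc : IsCyclic S → Nat.card S = 2 ∧ ∃ K : Subgroup G, K.Normal ∧ (S : Subgroup G).IsComplement' K := by
    intro hc
    obtain ⟨K, hKn, hK⟩ : ∃ K : Subgroup G, K.Normal ∧ (S : Subgroup G).IsComplement' K :=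
      ⟨_, inferInstance, (IsCyclic.isComplement' hmf (P := S) hc).symm⟩
    haveI := hKn
    refine ⟨?_, K, hKn, hK⟩
    haveI : IsCyclic (G ⧸ K) := isCyclic_of_surjective hK.QuotientMulEquiv.symm
      hK.QuotientMulEquiv.symm.surjective
    obtain ⟨g, hg⟩ := IsCyclic.exists_ofOrder_eq_natCard (α := G ⧸ K)
    obtain ⟨c, hc'⟩ := isConj_iff.mp (ambivalent_map (QuotientGroup.mk' K) (QuotientGroup.mk'_surjective K) hamb g)
    letI : CommGroup (G ⧸ K) := IsCyclic.commGroup
    rw [mul_comm c g, mul_inv_cancel_right] at hc'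
    have h2 : orderOf g ∣ 2 := orderOf_dvd_of_pow_eq_one (by rw [pow_two]; exact eq_inv_iff_mul_eq_one.mp hc')
    rw [hg, Nat.card_congr hK.QuotientMulEquiv.toEquiv] at h2
    exact Nat.dvd_antisymm h2 hS1
  refine ⟨?_, fun h2 => ?_⟩
  · rcases CfsgLib.ZStar.cyclic_or_quaternion S.2 huq with h | ⟨n, hn⟩
    · exact Or.inl (hcyc h).1
    · rcases n with _ | n
      · obtain ⟨e⟩ := hn
        haveI := QuaternionGroup.quaternionGroup_one_isCyclic
        exact Or.inl (hcyc (isCyclic_of_surjective e.symm e.symm.surjective)).1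
      · exact Or.inr ⟨n, hn⟩
  · obtain ⟨-, K, hKn, hK⟩ := hcyc (isCyclic_of_prime_card h2)
    haveI := hKn
    have hKidx : K.index = 2 := by rw [hK.index_eq_card, h2]
    have hKodd : Odd (Nat.card K) := by
      rw [← Nat.not_even_iff_odd, even_iff_two_dvd]
      intro h
      refine S.not_dvd_index ?_
      rw [hK.symm.index_eq_card]
      exact h
    have hKO : K = Cfsg.oddCore G := by
      refine le_antisymm (CfsgLib.SelfCent.le_pPrimeCore hKn (Nat.coprime_two_right.mpr hKodd)) fun x hx => ?_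
      have hodd : Odd (orderOf x) := by
        refine Odd.of_dvd_nat hOodd ?_
        have := orderOf_dvd_natCard (⟨x, hx⟩ : Cfsg.oddCore G)
        rwa [Subgroup.orderOf_mk] at this
      have h1 : orderOf (QuotientGroup.mk' K x) ∣ 2 := by
        rw [← hKidx]; exact orderOf_dvd_natCard _
      have h3 := Nat.eq_one_of_dvd_coprimes (Nat.coprime_two_right.mpr hodd) (orderOf_map_dvd _ x) h1
      exact (QuotientGroup.eq_one_iff x).mp (orderOf_eq_one_iff.mp h3)
    have hinv : ∀ t : G, t ∈ S → t ≠ 1 → ∀ x : G, x ∈ K → t * x * t⁻¹ = x⁻¹ := by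
      intro t ht ht1
      have ht2 : t ^ 2 = 1 := by
        have h := congrArg Subtype.val (orderOf_dvd_iff_pow_eq_one.mp
          ((orderOf_dvd_natCard (⟨t, ht⟩ : (S : Subgroup G))).trans h2.dvd))
        exact h
      have htinv : t⁻¹ = t := inv_eq_iff_mul_eq_one.mpr (by rw [← pow_two, ht2])
      let φ : K →* K := (MulAut.conjNormal t : MulAut K).toMonoidHom
      have hφ : ∀ x : K, ((φ x : K) : G) = t * x * t⁻¹ := fun x => rfl
      have hinvol : Function.Involutive φ := fun x => Subtype.ext (by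
        rw [hφ, hφ, htinv, show t * (t * (x : G) * t) * t = t ^ 2 * x * t ^ 2 by simp [pow_two, mul_assoc],
          ht2, one_mul, mul_one])
      have hfpf : MonoidHom.FixedPointFree φ := by
        intro c hc
        have hcom : Commute t (c : G) := mul_inv_eq_iff_eq_mul.mp (by rw [← hφ, hc])
        obtain ⟨g, hg⟩ := isConj_iff.mp (hamb (t * c))
        set m := Nat.card K with hm
        have hcm : (c : G) ^ m = 1 := congrArg Subtype.val (pow_card_eq_one' (x := c))
        obtain ⟨j, hj⟩ := hKodd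
        have htm : (t * c) ^ m = t := by
          rw [hcom.mul_pow, hcm, mul_one, hj, pow_succ, pow_mul, ht2, one_pow, one_mul]
        have hgt : Commute g t := by
          have h := congrArg (fun z => z ^ m) hg
          simp only [conj_pow, inv_pow, htm, htinv] at h
          exact mul_inv_eq_iff_eq_mul.mp h
        have hgc : g * (c : G) * g⁻¹ = (c : G)⁻¹ := by
          rw [mul_inv_rev, htinv, show g * (t * (c : G)) * g⁻¹ = (g * t) * c * g⁻¹ by simp [mul_assoc],
            hgt.eq, mul_assoc t g, mul_assoc t (g * (c : G)), ← ((hcom.inv_right)).eq] at hg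
          exact mul_left_cancel hg
        have hcodd : Odd (orderOf (c : G)) := by
          rw [Subgroup.orderOf_coe]; exact Odd.of_dvd_nat ⟨j, hj⟩ (orderOf_dvd_natCard c)
        refine Subtype.ext ?_
        by_cases hgK : g ∈ K
        · refine eq_one_of_odd_inverted hcodd ?_ hgc
          have := orderOf_dvd_natCard (⟨g, hgK⟩ : K)
          rw [Subgroup.orderOf_mk] at this
          exact Odd.of_dvd_nat ⟨j, hj⟩ this
        · have htK : t ∉ K := fun h => by
            have := Subgroup.disjoint_def.mp hK.disjoint ht h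
            exact ht1 this
          have htg : t * g ∈ K := (Subgroup.mul_mem_iff_of_index_two hKidx).mpr (iff_of_false htK hgK)
          refine eq_one_of_odd_inverted (g := t * g) hcodd ?_ ?_
          · have := orderOf_dvd_natCard (⟨t * g, htg⟩ : K)
            rw [Subgroup.orderOf_mk] at this
            exact Odd.of_dvd_nat ⟨j, hj⟩ this
          · rw [show t * g * (c : G) * (t * g)⁻¹ = t * (g * c * g⁻¹) * t⁻¹ by simp [mul_assoc], hgc,
              (hcom.inv_right).eq, mul_inv_cancel_right]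
      intro x hx
      exact congrArg Subtype.val (congrFun (hfpf.coe_eq_inv_of_involutive hinvol) ⟨x, hx⟩)
    rw [← hKO]
    refine ⟨hK, le_antisymm (fun x hx => ?_) ?_, hinv⟩
    · obtain ⟨⟨t, ht⟩, ht1⟩ := exists_ne_one_of_card (S := (S : Subgroup G)) (by omega)
      obtain ⟨j, hj⟩ := hKodd
      have hxm : x ^ (2 * j + 1) = 1 := by
        rw [← hj]; exact congrArg Subtype.val (pow_card_eq_one' (x := (⟨x, hx⟩ : K)))
      have hsq : x ^ 2 ∈ commutator G := by
        have h := hinv t ht (fun h => ht1 (Subtype.ext h)) x hx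
        have : ⁅x, t⁆ = x ^ 2 := by
          rw [commutatorElement_def, pow_two]
          have h' : t * x⁻¹ * t⁻¹ = x := by rw [← conj_inv, h, inv_inv]
          rw [mul_assoc x, mul_assoc x, h']
        rw [← this]
        exact Subgroup.commutator_mem_commutator (Subgroup.mem_top _) (Subgroup.mem_top _)
      have e : x = (x ^ 2) ^ (j + 1) := by
        rw [← pow_mul, show 2 * (j + 1) = 2 * j + 1 + 1 by ring, pow_succ, hxm, one_mul]
      rw [e]
      exact pow_mem hsq _
    · haveI : IsCyclic (G ⧸ K) := isCyclic_of_prime_card (p := 2) (by rw [← Subgroup.index, hKidx])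
      letI : CommGroup (G ⧸ K) := IsCyclic.commGroup
      rw [← QuotientGroup.ker_mk' K]
      exact Abelianization.commutator_subset_ker _

end Cfsg.Agent.S4061
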