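import Cfsg.Statements.S4062
import Cfsg.Agent.Lib.Hall.Basic

set_option autoImplicit false
open Cfsg

namespace Cfsg.Agent.S4062

universe u

theorem perm_three_split : ∀ s : Equiv.Perm (Fin 3), s * s = 1 ∨
    ∃ a b : Equiv.Perm (Fin 3), a * a = 1 ∧ a ≠ 1 ∧ b * b = 1 ∧ b ≠ 1 ∧ s = a * b := by decide

theorem perm_three_cent : ∀ a g : Equiv.Perm (Fin 3), a * a = 1 → a ≠ 1 → g * a = a * g → g = 1 ∨ g = a := by decide

theorem perm_three_ne : ∃ a b : Equiv.Perm (Fin 3), a * b ≠ b * a := by decide

/-- In an abelian group with the property, orders separate elements. -/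
theorem card_le_divisors {G : Type*} [Group G] [Finite G] (hab : ∀ a b : G, a * b = b * a)
    (h : ∀ x y : G, orderOf x = orderOf y → IsConj x y) : Nat.card G ≤ (Nat.card G).divisors.card := by
  classical
  haveI := Fintype.ofFinite G
  rw [Nat.card_eq_fintype_card, ← Finset.card_univ]
  refine Finset.card_le_card_of_injOn orderOf (fun x _ => ?_) fun x _ y _ hxy => ?_
  · rw [Finset.mem_coe, Nat.mem_divisors, Finset.card_univ, ← Nat.card_eq_fintype_card]
    exact ⟨orderOf_dvd_natCard x, Nat.card_pos.ne'⟩
  · obtain ⟨g, hg⟩ := isConj_iff.mp (h x y hxy)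
    rw [← hg, hab g x, mul_inv_cancel_right]

theorem comm_of_generators {G : Type*} [Group G] [Finite G] (hc : Nat.card G = 6) {t y : G}
    (ht : orderOf t = 2) (hy : orderOf y = 3) (hty : Commute t y) : IsCyclic G :=
  isCyclic_of_orderOf_eq_card (t * y) (by
    rw [hty.orderOf_mul_eq_mul_orderOf_of_coprime (by rw [ht, hy]; decide), ht, hy, hc])

theorem equiv_perm_three {G : Type*} [Group G] [Finite G] (hc : Nat.card G = 6)
    (hna : ¬ ∀ a b : G, a * b = b * a) : Nonempty (G ≃* Equiv.Perm (Fin 3)) := by
  haveI := Fact.mk Nat.prime_two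
  haveI := Fact.mk Nat.prime_three
  obtain ⟨t, ht⟩ := exists_prime_orderOf_dvd_card' (G := G) 2 (by rw [hc]; norm_num)
  obtain ⟨y, hy⟩ := exists_prime_orderOf_dvd_card' (G := G) 3 (by rw [hc]; norm_num)
  set T := Subgroup.zpowers t with hT
  have hTi : T.index = 3 := by
    have := T.card_mul_index
    rw [hT, Nat.card_zpowers, ht, hc] at this
    rw [hT]
    omega
  set φ := MulAction.toPermHom G (G ⧸ T) with hφ
  have hinj : Function.Injective φ := by
    rw [← MonoidHom.ker_eq_bot_iff, ← Subgroup.normalCore_eq_ker]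
    by_contra hne
    apply hna
    have hle : T.normalCore ≤ T := Subgroup.normalCore_le T
    have hd := Subgroup.card_dvd_of_le hle
    rw [hT, Nat.card_zpowers, ht] at hd
    have hcard : Nat.card T.normalCore = 2 := ((Nat.dvd_prime Nat.prime_two).mp (by rwa [hT])).resolve_left
      fun h1 => hne (Subgroup.card_eq_one.mp h1)
    have heq : T.normalCore = T := Subgroup.eq_of_le_of_card_ge hle (by rw [hcard, hT, Nat.card_zpowers, ht])
    have hn : T.Normal := heq ▸ Subgroup.normalCore_normal T
    have hty : Commute t y := by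
      have hmem := hn.conj_mem t (Subgroup.mem_zpowers t) y
      obtain ⟨i, hi⟩ := hmem
      rcases Int.even_or_odd i with ⟨j, hj⟩ | ⟨j, hj⟩
      · exfalso
        have e : t ^ i = 1 := by
          rw [hj, ← two_mul, zpow_mul, show t ^ (2 : ℤ) = 1 by
            rw [show (2 : ℤ) = ((2 : ℕ) : ℤ) from rfl, zpow_natCast, ← ht, pow_orderOf_eq_one], one_zpow]
        simp only at hi
        rw [e, eq_comm, mul_inv_eq_one, mul_eq_left] at hi
        rw [hi, orderOf_one] at ht
        omega
      · have e : t ^ i = t := by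
          rw [hj, zpow_add, zpow_mul, show t ^ (2 : ℤ) = 1 by
            rw [show (2 : ℤ) = ((2 : ℕ) : ℤ) from rfl, zpow_natCast, ← ht, pow_orderOf_eq_one],
            one_zpow, one_mul, zpow_one]
        simp only at hi
        rw [e] at hi
        exact (eq_mul_inv_iff_mul_eq.mp hi)
    haveI := comm_of_generators hc ht hy hty
    letI := IsCyclic.commGroup (α := G)
    exact fun a b => mul_comm a b
  let e : G ⧸ T ≃ Fin 3 := Finite.equivFinOfCardEq hTi
  let ψ : G →* Equiv.Perm (Fin 3) := e.permCongrHom.toMonoidHom.comp φ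
  have hψ : Function.Injective ψ := e.permCongrHom.injective.comp hinj
  have hcard : Nat.card (Equiv.Perm (Fin 3)) = Nat.card G := by rw [hc, Nat.card_perm, Nat.card_fin]; rfl
  exact ⟨MulEquiv.ofBijective ψ (hψ.bijective_of_nat_card_le hcard.le)⟩

/-- Small groups with the property. -/
theorem small_case {G : Type*} [Group G] [Finite G] (h : ∀ x y : G, orderOf x = orderOf y → IsConj x y)
    {p : ℕ} [Fact p.Prime] (N : Subgroup G) [N.Normal] (hNc : ∀ a ∈ N, ∀ b ∈ N, a * b = b * a)
    (hNp : ∀ a ∈ N, a ^ p = 1) (hN1 : N ≠ ⊥)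
    (hq : Nat.card (G ⧸ N) = 1 ∨ Nat.card (G ⧸ N) = 2 ∨ Nonempty ((G ⧸ N) ≃* Equiv.Perm (Fin 3))) :
    Nat.card G = 1 ∨ Nat.card G = 2 ∨ Nonempty (G ≃* Equiv.Perm (Fin 3)) := by
  classical
  have hNord : ∀ a ∈ N, a ≠ 1 → orderOf a = p := fun a ha h1 => orderOf_eq_prime (hNp a ha) h1
  have hall : ∀ x : G, orderOf x = p → x ∈ N := by
    intro x hx
    obtain ⟨a, ha, ha1⟩ := (Subgroup.bot_or_exists_ne_one N).resolve_left hN1
    obtain ⟨g, hg⟩ := isConj_iff.mp (h a x ((hNord a ha ha1).trans hx.symm))
    rw [← hg]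
    exact (inferInstance : N.Normal).conj_mem a ha g
  obtain ⟨v, hvN, hv1⟩ := (Subgroup.bot_or_exists_ne_one N).resolve_left hN1
  set C := Subgroup.centralizer ({v} : Set G) with hC
  have hNC : N ≤ C := fun a ha => Subgroup.mem_centralizer_singleton_iff.mpr (hNc a ha v hvN)
  -- the class of `v` is `N` without one
  have hclass : C.index + 1 = Nat.card N := by
    have e : (MulAction.stabilizer (ConjAct G) v).index = C.index := by
      refine Nat.eq_of_mul_eq_mul_left (show 0 < Nat.card C from Nat.card_pos) ?_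
      rw [Subgroup.card_mul_index, hC, Subgroup.nat_card_centralizer_nat_card_stabilizer,
        Subgroup.card_mul_index]
      rfl
    rw [← e, MulAction.index_stabilizer]
    have : MulAction.orbit (ConjAct G) v = (N : Set G) \ {1} := by
      ext z
      rw [ConjAct.mem_orbit_conjAct]
      refine ⟨fun hz => ?_, fun ⟨hz, hz1⟩ => h z v ((hNord z hz hz1).trans (hNord v hvN hv1).symm)⟩
      obtain ⟨g, hg⟩ := isConj_iff.mp hz.symm
      refine ⟨hg ▸ (inferInstance : N.Normal).conj_mem v hvN g, fun h1 => hv1 ?_⟩
      rw [Set.mem_singleton_iff] at h1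
      rw [h1, mul_inv_eq_one, mul_eq_left] at hg
      exact hg
    rw [this, Set.ncard_diff_singleton_of_mem (one_mem N), ← Nat.card_coe_set_eq]
    have : 0 < Nat.card N := Nat.card_pos
    change Nat.card N - 1 + 1 = _
    omega
  have hCdvd : C.index ∣ Nat.card (G ⧸ N) := Subgroup.index_dvd_of_le hNC
  have hGc : Nat.card G = Nat.card (G ⧸ N) * Nat.card N := Subgroup.card_eq_card_quotient_mul_card_subgroup N
  have hN2 : 2 ≤ Nat.card N := by
    have := Nat.card_pos (α := N)
    have : Nat.card N ≠ 1 := fun h1 => hN1 (Subgroup.card_eq_one.mp h1)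
    omega
  rcases hq with hq | hq | ⟨⟨e3⟩⟩
  · rw [hq, Nat.dvd_one] at hCdvd
    exact Or.inr (Or.inl (by rw [hGc, hq]; omega))
  · rw [hq] at hCdvd
    have := Nat.le_of_dvd two_pos hCdvd
    have hN23 : Nat.card N = 2 ∨ Nat.card N = 3 := by omega
    have hab : ∀ hab : (∀ a b : G, a * b = b * a), False := fun hab => by
      have := card_le_divisors hab h
      rcases hN23 with h2 | h2 <;> rw [hGc, hq, h2] at this <;>
        simp (config := {decide := true}) at this
    rcases hN23 with h2 | h2
    · exfalso
      refine hab ?_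
      exact IsPGroup.commutative_of_card_eq_prime_sq (p := 2) (by rw [hGc, hq, h2]; norm_num)
    · exact Or.inr (Or.inr (equiv_perm_three (by rw [hGc, hq, h2]) fun hab' => hab hab'))
  · exfalso
    set f := (e3.toMonoidHom).comp (QuotientGroup.mk' N) with hf
    have hfs : Function.Surjective f := e3.surjective.comp (QuotientGroup.mk'_surjective N)
    have hker : ∀ z, f z = 1 ↔ z ∈ N := fun z => by
      rw [← QuotientGroup.eq_one_iff]
      exact ⟨fun hz => e3.injective (hz.trans (map_one e3).symm), fun hz => by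
        show e3 (z : G ⧸ N) = 1
        rw [hz, map_one]⟩
    have hq6 : Nat.card (G ⧸ N) = 6 := by
      rw [Nat.card_congr e3.toEquiv, Nat.card_perm, Nat.card_fin]; rfl
    rw [hq6] at hCdvd hGc
    have hidx : C.index = 1 ∨ C.index = 2 ∨ C.index = 3 ∨ C.index = 6 := by
      have := Nat.le_of_dvd (by norm_num) hCdvd
      have h0 : C.index ≠ 0 := Subgroup.index_ne_zero_of_finite
      interval_cases hh : C.index <;> first | omega | norm_num at hCdvd
    obtain ⟨a₀, b₀, hne⟩ := perm_three_ne
    rcases hidx with h1 | h1 | h1 | h1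
    · -- `N` has order two
      have hN : Nat.card N = 2 := by omega
      have hp2 : p = 2 := by
        have := Subgroup.orderOf_dvd_natCard N hvN
        rw [hNord v hvN hv1, hN] at this
        exact (Nat.prime_dvd_prime_iff_eq Fact.out Nat.prime_two).mp this
      obtain ⟨x, hx⟩ := hfs (Equiv.swap 0 1)
      have hfx : f x * f x = 1 := by rw [hx]; decide
      have hfx1 : f x ≠ 1 := by rw [hx]; decide
      have hxx : x * x ∈ N := (hker _).mp (by rw [map_mul, hfx])
      have hx2 : x * x ≠ 1 := fun h0 => hfx1 ((hker x).mpr (hall x (hp2 ▸ orderOf_eq_prime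
        (by rw [pow_two]; exact h0) fun h00 => hfx1 (by rw [h00, map_one]))))
      obtain ⟨g, hg⟩ := isConj_iff.mp (h x x⁻¹ (orderOf_inv x).symm)
      have hfg : f g * f x = f x * f g := by
        have e := congrArg f hg
        rw [map_mul, map_mul, map_inv, map_inv] at e
        have e2 : (f x)⁻¹ = f x := inv_eq_of_mul_eq_one_right hfx
        rw [e2] at e
        exact mul_inv_eq_iff_eq_mul.mp e
      have hcen : ∀ z ∈ N, ∀ w : G, w * z = z * w := by
        intro z hz w
        by_cases hz1 : z = 1
        · rw [hz1, one_mul, mul_one]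
        have hzv : z = v := by
          by_contra hne'
          have hsub : ({1, v, z} : Set G) ⊆ (N : Set G) := by
            rintro u (rfl | rfl | rfl)
            exacts [one_mem N, hvN, hz]
          have hnc := Set.ncard_le_ncard hsub
          rw [Set.ncard_insert_of_notMem (by simp [Ne.symm hv1, Ne.symm hz1]), Set.ncard_pair (Ne.symm hne'),
            ← Nat.card_coe_set_eq] at hnc
          change 3 ≤ Nat.card N at hnc
          omega
        have hw : w ∈ C := by rw [Subgroup.index_eq_one.mp h1]; trivial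
        rw [hzv]
        exact Subgroup.mem_centralizer_singleton_iff.mp hw
      have hgx : g * x = x * g := by
        rcases perm_three_cent (f x) (f g) hfx hfx1 hfg with h0 | h0
        · exact (hcen g ((hker g).mp h0) x).symm
        · have hmem : g * x⁻¹ ∈ N := (hker _).mp (by rw [map_mul, h0, map_inv, mul_inv_cancel])
          have := hcen _ hmem x
          calc g * x = g * x⁻¹ * x * x := by group
            _ = x * (g * x⁻¹) * x := by rw [this]
            _ = x * g := by group
      rw [hgx, mul_inv_cancel_right] at hg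
      exact hx2 (mul_eq_one_iff_eq_inv.mpr hg)
    · -- `N` has order three
      have hN : Nat.card N = 3 := by omega
      have hp3 : p = 3 := by
        have := Subgroup.orderOf_dvd_natCard N hvN
        rw [hNord v hvN hv1, hN] at this
        exact (Nat.prime_dvd_prime_iff_eq Fact.out Nat.prime_three).mp this
      subst hp3
      obtain ⟨P⟩ := (inferInstance : Nonempty (Sylow 3 G))
      have hPc : Nat.card (P : Subgroup G) = 9 := by
        rw [P.card_eq_multiplicity, hGc, hN, show 6 * 3 = 3 ^ 2 * 2 by norm_num,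
          Nat.factorization_mul (by norm_num) (by norm_num), Finsupp.add_apply, Nat.factorization_pow,
          Nat.prime_three.factorization, Nat.prime_two.factorization]
        simp
      obtain ⟨y, hyP, hy9⟩ : ∃ y ∈ (P : Subgroup G), orderOf y = 9 := by
        by_contra hcon
        push Not at hcon
        have hle : (P : Subgroup G) ≤ N := fun y hy => by
          by_cases hy1 : y = 1
          · rw [hy1]; exact one_mem N
          refine hall y ?_
          have hd := Subgroup.orderOf_dvd_natCard (P : Subgroup G) hy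
          rw [hPc, show (9 : ℕ) = 3 ^ 2 by norm_num, Nat.dvd_prime_pow Nat.prime_three] at hd
          obtain ⟨i, hi, hi'⟩ := hd
          interval_cases i
          · rw [pow_zero, orderOf_eq_one_iff] at hi'; exact absurd hi' hy1
          · simpa using hi'
          · exact absurd (by simpa using hi') (hcon y hy)
        have := Subgroup.card_le_of_le hle
        omega
      set Cy := Subgroup.centralizer ({y} : Set G) with hCy
      have h9 : 9 ≤ Nat.card Cy := by
        rw [← hy9, ← Nat.card_zpowers]
        refine Subgroup.card_le_of_le (Subgroup.zpowers_le.mpr ?_)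
        exact Subgroup.mem_centralizer_singleton_iff.mpr rfl
      have horb : (MulAction.orbit (ConjAct G) y).ncard ≤ 2 := by
        have h2 := (MulAction.stabilizer (ConjAct G) y).card_mul_index
        rw [← Subgroup.nat_card_centralizer_nat_card_stabilizer, MulAction.index_stabilizer] at h2
        have h2' : Nat.card Cy * (MulAction.orbit (ConjAct G) y).ncard = 18 := h2.trans (hGc.trans (by rw [hN]))
        nlinarith
      have hpow : ∀ k : ℕ, Nat.Coprime 9 k → y ^ k ∈ MulAction.orbit (ConjAct G) y := fun k hk => by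
        rw [ConjAct.mem_orbit_conjAct]
        refine h _ _ ?_
        rw [Nat.Coprime.orderOf_pow]
        rwa [hy9]
      have hinj : ∀ i j : ℕ, i < 9 → j < 9 → y ^ i = y ^ j → i = j := fun i j hi hj he =>
        pow_injOn_Iio_orderOf (by rw [hy9]; exact hi) (by rw [hy9]; exact hj) he
      have hsub : ({y ^ 1, y ^ 2, y ^ 4} : Set G) ⊆ MulAction.orbit (ConjAct G) y := by
        rintro u (rfl | rfl | rfl)
        exacts [hpow 1 (by decide), hpow 2 (by decide), hpow 4 (by decide)]
      have hnc := Set.ncard_le_ncard hsub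
      rw [Set.ncard_insert_of_notMem, Set.ncard_pair] at hnc
      · omega
      · exact fun he => by simpa using hinj 2 4 (by norm_num) (by norm_num) he
      · simp only [Set.mem_insert_iff, Set.mem_singleton_iff, not_or]
        exact ⟨fun he => by simpa using hinj 1 2 (by norm_num) (by norm_num) he,
          fun he => by simpa using hinj 1 4 (by norm_num) (by norm_num) he⟩
    · -- `N` has order four
      have hN : Nat.card N = 4 := by omega
      have hp2 : p = 2 := by
        have := Subgroup.orderOf_dvd_natCard N hvN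
        rw [hNord v hvN hv1, hN, show (4 : ℕ) = 2 ^ 2 by norm_num] at this
        exact (Nat.prime_dvd_prime_iff_eq Fact.out Nat.prime_two).mp ((Fact.out : p.Prime).dvd_of_dvd_pow this)
      subst hp2
      have hsqN : ∀ a ∈ N, a * a = 1 := fun a ha => by rw [← pow_two]; exact hNp a ha
      have hinvol : ∀ x : G, f x * f x = 1 → f x ≠ 1 → x * x ∈ N ∧ x * x ≠ 1 := by
        intro x hx hx1
        refine ⟨(hker _).mp (by rw [map_mul, hx]), fun h0 => hx1 ((hker x).mpr (hall x (orderOf_eq_prime
          (by rw [pow_two]; exact h0) fun h00 => hx1 (by rw [h00, map_one]))))⟩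
      have hxC : ∀ x : G, f x * f x = 1 → f x ≠ 1 → x ∈ C := by
        intro x hx hx1
        obtain ⟨hcN, hc1⟩ := hinvol x hx hx1
        rw [hC, Subgroup.mem_centralizer_singleton_iff, ← mul_inv_eq_iff_eq_mul]
        by_contra hmove
        set a := v with ha
        set b := x * a * x⁻¹ with hb
        have hbN : b ∈ N := (inferInstance : N.Normal).conj_mem a hvN x
        set c := x * x with hc
        have hcx : x * c * x⁻¹ = c := by rw [hc]; group
        have hb1 : b ≠ 1 := fun h0 => hv1 (by
          rw [hb, mul_inv_eq_one, mul_eq_left] at h0; exact h0)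
        have hab1 : a * b ≠ 1 := fun h0 => hmove (by
          rw [← inv_eq_of_mul_eq_one_right h0, inv_eq_of_mul_eq_one_right (hsqN a hvN)])
        have hsub : ({1, a, b, a * b} : Set G) ⊆ (N : Set G) := by
          rintro w (rfl | rfl | rfl | rfl)
          exacts [one_mem N, hvN, hbN, mul_mem hvN hbN]
        have hn4 : ({1, a, b, a * b} : Set G).ncard = 4 := by
          rw [Set.ncard_insert_of_notMem, Set.ncard_insert_of_notMem, Set.ncard_pair]
          · simpa using hv1
          · simp only [Set.mem_insert_iff, Set.mem_singleton_iff, not_or]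
            exact ⟨fun h0 => hmove h0.symm, fun h0 => hb1 (by simpa using h0)⟩
          · simp only [Set.mem_insert_iff, Set.mem_singleton_iff, not_or]
            exact ⟨Ne.symm hv1, Ne.symm hb1, Ne.symm hab1⟩
        have hNeq := Set.eq_of_subset_of_ncard_le hsub (by
          rw [hn4, ← Nat.card_coe_set_eq]; exact hN.le)
        have hcmem : c ∈ ({1, a, b, a * b} : Set G) := by rw [hNeq]; exact hcN
        have hcab : c = a * b := by
          rcases hcmem with e | e | e | e
          · exact absurd e hc1
          · exact absurd (by rw [hb, ← e, hcx]) hmove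
          · exfalso
            apply hmove
            have e1 : x * c * x⁻¹ = b := hcx.trans e
            have e2 : c = a := by
              rw [hb] at e1
              exact mul_left_cancel (mul_right_cancel e1)
            rw [← e, e2]
          · exact e
        have hfxa : f (x * a) = f x := by rw [map_mul, (hker a).mpr hvN, mul_one]
        apply (hinvol (x * a) (by rw [hfxa]; exact hx) (by rw [hfxa]; exact hx1)).2
        calc x * a * (x * a) = b * c * a := by rw [hb, hc]; group
          _ = b * (a * b) * a := by rw [hcab]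
          _ = (b * a) * (b * a) := by group
          _ = (a * b) * (b * a) := by nth_rw 1 [hNc b hbN a hvN]
          _ = a * (b * b) * a := by group
          _ = 1 := by rw [hsqN b hbN, mul_one, hsqN a hvN]
      have htop : C = ⊤ := by
        rw [Subgroup.eq_top_iff']
        intro g
        rcases perm_three_split (f g) with h0 | ⟨a, b, ha, ha1, hb, hb1, hab⟩
        · by_cases hg1 : f g = 1
          · exact hNC ((hker g).mp hg1)
          · exact hxC g h0 hg1
        · obtain ⟨x, rfl⟩ := hfs a
          obtain ⟨y, rfl⟩ := hfs b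
          have hmem : (x * y)⁻¹ * g ∈ C := hNC ((hker _).mp (by rw [map_mul, map_inv, map_mul, hab, inv_mul_cancel]))
          simpa [mul_assoc] using mul_mem (mul_mem (hxC x ha ha1) (hxC y hb hb1)) hmem
      rw [htop, Subgroup.index_top] at h1
      omega
    · -- `N` has order seven
      have hN : Nat.card N = 7 := by omega
      have hCN : C = N := by
        refine (Subgroup.eq_of_le_of_card_ge hNC ?_).symm
        have := C.card_mul_index
        rw [h1, hGc] at this
        omega
      haveI : Fact (Nat.Prime 7) := ⟨by norm_num⟩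
      haveI hcyc : IsCyclic N := isCyclic_of_prime_card hN
      obtain ⟨⟨w, hw⟩, hwgen⟩ := hcyc.exists_generator
      obtain ⟨x, hx⟩ := hfs a₀
      obtain ⟨y, hy⟩ := hfs b₀
      have hzp : ∀ g : G, ∃ i : ℤ, g * w * g⁻¹ = w ^ i := fun g => by
        obtain ⟨i, hi⟩ := Subgroup.mem_zpowers_iff.mp (hwgen ⟨_, (inferInstance : N.Normal).conj_mem w hw g⟩)
        exact ⟨i, (congrArg Subtype.val hi).symm⟩
      obtain ⟨i, hi⟩ := hzp x
      obtain ⟨j, hj⟩ := hzp y
      have hcomm : x * y * w * (x * y)⁻¹ = y * x * w * (y * x)⁻¹ := by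
        calc x * y * w * (x * y)⁻¹ = x * (y * w * y⁻¹) * x⁻¹ := by group
          _ = (w ^ i) ^ j := by rw [hj, ← conj_zpow, hi]
          _ = (w ^ j) ^ i := by rw [← zpow_mul, ← zpow_mul, mul_comm]
          _ = y * (x * w * x⁻¹) * y⁻¹ := by rw [hi, ← conj_zpow, hj]
          _ = y * x * w * (y * x)⁻¹ := by group
      have hw' : ((y * x)⁻¹ * (x * y)) * w = w * ((y * x)⁻¹ * (x * y)) := by
        calc ((y * x)⁻¹ * (x * y)) * w = (y * x)⁻¹ * (x * y * w * (x * y)⁻¹) * (x * y) := by group
          _ = w * ((y * x)⁻¹ * (x * y)) := by rw [hcomm]; group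
      obtain ⟨l, hl⟩ := Subgroup.mem_zpowers_iff.mp (hwgen ⟨v, hvN⟩)
      have hl' : w ^ l = v := congrArg Subtype.val hl
      have hmem : (y * x)⁻¹ * (x * y) ∈ C := Subgroup.mem_centralizer_singleton_iff.mpr (by
        rw [← hl']
        exact (Commute.zpow_right (hw' : Commute _ w) l).eq)
      rw [hCN] at hmem
      have := (hker _).mpr hmem
      rw [map_mul, map_inv, map_mul, map_mul, hx, hy, inv_mul_eq_one] at this
      exact hne this.symm

theorem main (n : ℕ) : ∀ {G : Type u} [Group G] [Finite G] [Group.IsSolvable G], Nat.card G = n →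
    (∀ x y : G, orderOf x = orderOf y → IsConj x y) →
    Nat.card G = 1 ∨ Nat.card G = 2 ∨ Nonempty (G ≃* Equiv.Perm (Fin 3)) := by
  induction n using Nat.strong_induction_on with
  | _ n IH =>
  intro G _ _ _ hn h
  classical
  by_cases h1 : Nat.card G = 1
  · exact Or.inl h1
  haveI : Nontrivial G := Finite.one_lt_card_iff_nontrivial.mp (by have := Nat.card_pos (α := G); omega)
  obtain ⟨p, hp, M, hMn, hM1, hMp, hMc⟩ := CfsgLib.Hall.exists_normal_pgroup_ne_bot (G := G)
  haveI := Fact.mk hp
  haveI := hMn
  have hMcomm : ∀ a ∈ M, ∀ b ∈ M, a * b = b * a := fun a ha b hb =>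
    congrArg Subtype.val (mul_comm' (⟨a, ha⟩ : M) ⟨b, hb⟩)
  let N : Subgroup G :=
    { carrier := {a | a ∈ M ∧ a ^ p = 1}
      one_mem' := ⟨one_mem M, one_pow p⟩
      mul_mem' := fun {a b} ha hb => ⟨mul_mem ha.1 hb.1, by
        rw [Commute.mul_pow (hMcomm a ha.1 b hb.1), ha.2, hb.2, one_mul]⟩
      inv_mem' := fun {a} ha => ⟨inv_mem ha.1, by rw [inv_pow, ha.2, inv_one]⟩ }
  haveI hNn : N.Normal := ⟨fun a ha g => ⟨hMn.conj_mem a ha.1 g, by rw [conj_pow, ha.2, mul_one, mul_inv_cancel]⟩⟩
  haveI : Nontrivial M := (Subgroup.nontrivial_iff_ne_bot M).mpr hM1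
  obtain ⟨k, hk0, hk⟩ := (IsPGroup.nontrivial_iff_card hMp).mp inferInstance
  obtain ⟨⟨a, ha⟩, hao⟩ := exists_prime_orderOf_dvd_card' (G := M) p (hk ▸ dvd_pow_self p hk0.ne')
  rw [Subgroup.orderOf_mk] at hao
  have haN : a ∈ N := ⟨ha, hao ▸ pow_orderOf_eq_one a⟩
  have hN1 : N ≠ ⊥ := fun h0 => by
    rw [h0, Subgroup.mem_bot] at haN
    rw [haN, orderOf_one] at hao
    exact hp.one_lt.ne hao
  have hall : ∀ x : G, x ^ p = 1 → x ∈ N := by
    intro x hx
    by_cases hx1 : x = 1
    · rw [hx1]; exact one_mem N
    obtain ⟨g, hg⟩ := isConj_iff.mp (h a x (hao.trans (orderOf_eq_prime hx hx1).symm))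
    rw [← hg]
    exact hNn.conj_mem a haN g
  have hlt : Nat.card (G ⧸ N) < n := by
    have := Subgroup.card_eq_card_quotient_mul_card_subgroup N
    have h2 : 1 < Nat.card N := by
      have := Nat.card_pos (α := N)
      have : Nat.card N ≠ 1 := fun h1 => hN1 (Subgroup.card_eq_one.mp h1)
      omega
    have := Nat.card_pos (α := G ⧸ N)
    nlinarith
  -- lifts with prescribed order
  have lift : ∀ q : G ⧸ N, ∃ z : G, (z : G ⧸ N) = q ∧
      orderOf z = orderOf q * (if p ∣ orderOf q then p else 1) := by
    intro q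
    obtain ⟨z, rfl⟩ := QuotientGroup.mk_surjective q
    have hd1 : orderOf (z : G ⧸ N) ∣ orderOf z := orderOf_map_dvd (QuotientGroup.mk' N) z
    set m := orderOf (z : G ⧸ N) with hm
    have hzm : z ^ m ∈ N := by
      rw [← QuotientGroup.eq_one_iff, QuotientGroup.mk_pow, hm, pow_orderOf_eq_one]
    have hd2 : orderOf z ∣ m * p := orderOf_dvd_of_pow_eq_one (by rw [pow_mul]; exact hzm.2)
    obtain ⟨d, hd⟩ := hd1
    have hm0 : 0 < m := orderOf_pos _
    have hdp : d = 1 ∨ d = p := (Nat.dvd_prime hp).mp (Nat.dvd_of_mul_dvd_mul_left hm0 (hd ▸ hd2))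
    by_cases hpm : p ∣ m
    · refine ⟨z, rfl, ?_⟩
      rw [if_pos hpm]
      rcases hdp with rfl | rfl
      · exfalso
        obtain ⟨m', hm'⟩ := hpm
        have hmem : z ^ m' ∈ N := hall _ (by rw [← pow_mul, mul_comm, ← hm', ← mul_one m, ← hd, pow_orderOf_eq_one])
        have h0 : (z : G ⧸ N) ^ m' = 1 := by rw [← QuotientGroup.mk_pow]; exact (QuotientGroup.eq_one_iff _).mpr hmem
        have hm'0 : 0 < m' := by nlinarith
        have := Nat.le_of_dvd hm'0 (orderOf_dvd_of_pow_eq_one h0)
        rw [← hm, hm'] at this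
        nlinarith [hp.two_le]
      · rw [hd]
    · rw [if_neg hpm, mul_one]
      rcases hdp with rfl | rfl
      · exact ⟨z, rfl, by rw [hd, mul_one]⟩
      · have hco : d.Coprime m := hp.coprime_iff_not_dvd.mpr hpm
        obtain ⟨i, hi⟩ := exists_pow_eq_self_of_coprime (x := (z : G ⧸ N)) (n := d) (hm ▸ hco)
        refine ⟨(z ^ d) ^ i, by rw [QuotientGroup.mk_pow, QuotientGroup.mk_pow]; exact hi, ?_⟩
        refine Nat.dvd_antisymm (orderOf_dvd_of_pow_eq_one ?_) ?_
        · rw [← pow_mul, ← pow_mul, show d * (i * m) = m * d * i by ring, pow_mul, ← hd, pow_orderOf_eq_one, one_pow]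
        · have := orderOf_map_dvd (QuotientGroup.mk' N) ((z ^ d) ^ i)
          rw [map_pow, map_pow, QuotientGroup.mk'_apply, hi] at this
          exact this
  have hq := IH _ hlt (G := G ⧸ N) rfl (fun q r hqr => by
    obtain ⟨x, rfl, hx⟩ := lift q
    obtain ⟨y, rfl, hy⟩ := lift r
    exact (QuotientGroup.mk' N).map_isConj (h x y (by rw [hx, hy, hqr])))
  exact small_case h N (fun a ha b hb => hMcomm a ha.1 b hb.1) (fun a ha => ha.2) hN1 hq

/-- A finite solvable group in which any two elements of the same order are conjugate has order 1 or 2 or is isomorphic to the symmetric group of degree 3. -/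
theorem result {G : Type*} [Group G] [Finite G] [Group.IsSolvable G]
    (h : ∀ x y : G, orderOf x = orderOf y → IsConj x y) :
    Nat.card G = 1 ∨ Nat.card G = 2 ∨ Nonempty (G ≃* Equiv.Perm (Fin 3)) := by
  exact main (Nat.card G) rfl h
end Cfsg.Agent.S4062
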