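import Cfsg.Statements.S4064
import Cfsg.Agent.Lib.Invol.TICent

set_option autoImplicit false
open Cfsg

namespace Cfsg.Agent.S4064

/-- Let G be a finite group in which the centralizer of every element meets each of its conjugates by elements outside its normalizer trivially. Then G is nilpotent; or G is a Frobenius group with a complement that is cyclic or isomorphic to the direct product of a cyclic group of odd order and the quaternion group of order 8; or G is isomorphic to PSL₂(2ⁿ) for some n ≥ 2. -/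
theorem result {G : Type*} [Group G] [Finite G] (hTI : ∀ x : G, Cfsg.IsTISubset (Subgroup.centralizer ({x} : Set G) : Set G)) :
    Group.IsNilpotent G ∨
    (∃ H : Subgroup G, Cfsg.IsFrobeniusComplement H ∧
      (IsCyclic H ∨ ∃ m : ℕ, Odd m ∧ Nonempty (H ≃* Multiplicative (ZMod m) × QuaternionGroup 2))) ∨
    (∃ n : ℕ, 2 ≤ n ∧ Nonempty (G ≃* Matrix.ProjectiveSpecialLinearGroup (Fin 2) (GaloisField 2 n))) := by
  classical
  by_cases hnn : Group.IsNilpotent G
  · exact Or.inl hnn
  refine Or.inr ?_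
  by_cases hc : ∃ (x : G) (M F : Subgroup G), x ≠ 1 ∧ CfsgLib.Invol.TICent.Cls M F ∧ x ∈ F ∧ (M = F ∨ M = ⊤)
  · obtain ⟨x, M, F, hx, hF, hxF, hMF⟩ := hc
    obtain ⟨E, hE, hnil, hcomm⟩ := CfsgLib.Invol.TICent.exists_complement hTI hnn hx hF hxF hMF
    exact Or.inl ⟨E, hE, CfsgLib.Invol.TICent.complement_shape hE hnil hcomm⟩
  · push Not at hc
    obtain ⟨K, _, _, f, hf, hK, ⟨e⟩⟩ :=
      CfsgLib.Invol.TICent.classify hTI hnn fun x M F hx hF hxF => hc x M F hx hF hxF
    have : Fact (Nat.Prime 2) := ⟨Nat.prime_two⟩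
    obtain ⟨e'⟩ := CfsgLib.Invol.SelfNorm.psl_equiv_of_card (K := K) (F := GaloisField 2 f) (by
      rw [Nat.card_eq_fintype_card, hK, GaloisField.card 2 f (by omega)])
    exact Or.inr ⟨f, hf, ⟨e.trans e'⟩⟩

end Cfsg.Agent.S4064
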