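import Cfsg.Statements.S4065
import Cfsg.Agent.Lib.SL2.Facts

set_option autoImplicit false
open Cfsg

namespace Cfsg.Agent.S4065

/-- Let F be a finite field with 2ⁿ elements, n ≥ 2. In PSL₂(F) the centralizer of every element meets each of its conjugates by elements outside its normalizer trivially. -/
theorem result (n : ℕ) (hn : 2 ≤ n)
    (x : Matrix.ProjectiveSpecialLinearGroup (Fin 2) (GaloisField 2 n)) :
    Cfsg.IsTISubset (Subgroup.centralizer ({x} : Set (Matrix.ProjectiveSpecialLinearGroup (Fin 2) (GaloisField 2 n))) :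
      Set (Matrix.ProjectiveSpecialLinearGroup (Fin 2) (GaloisField 2 n))) := by
  set G := Matrix.SpecialLinearGroup (Fin 2) (GaloisField 2 n)
  have hz : Subgroup.center G = ⊥ := by
    rw [eq_bot_iff]
    intro z hz
    rw [Subgroup.mem_bot]
    rcases CfsgLib.SL2.eq_one_or_eq_neg_one_of_mem_center z hz with h | h
    · exact h
    · rw [h]
      apply Subtype.ext
      ext i j
      fin_cases i <;> fin_cases j <;> simp [CharTwo.neg_eq]
  let e : Matrix.ProjectiveSpecialLinearGroup (Fin 2) (GaloisField 2 n) ≃* G :=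
    (QuotientGroup.quotientMulEquivOfEq hz).trans QuotientGroup.quotientBot
  intro g hg y hy hy'
  by_contra hy1
  apply hg
  have hns : ∀ w, w ≠ 1 → CfsgLib.SL2.NonScalar ((e w : G) : Matrix (Fin 2) (Fin 2) (GaloisField 2 n)) := by
    intro w hw
    by_contra hn
    apply hw
    have h := (CfsgLib.SL2.mem_center_iff_not_nonScalar _).mpr hn
    have h' : e w = 1 := Subgroup.mem_bot.mp (le_of_eq hz h)
    exact e.injective (h'.trans e.map_one.symm)
  have hmem : ∀ w z, w ∈ Subgroup.centralizer ({z} : Set (Matrix.ProjectiveSpecialLinearGroup (Fin 2) (GaloisField 2 n))) ↔ e w ∈ CfsgLib.SL2.cent (e z) := by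
    intro w z
    rw [CfsgLib.SL2.mem_cent_iff, Subgroup.mem_centralizer_iff, ← map_mul, ← map_mul,
      EmbeddingLike.apply_eq_iff_eq]
    simp
  rw [Subgroup.mem_normalizer_iff]
  intro h
  show h ∈ Subgroup.centralizer {x} ↔ g * h * g⁻¹ ∈ Subgroup.centralizer {x}
  by_cases hx : x = 1
  · subst hx
    simp [Subgroup.mem_centralizer_iff]
  have hgy1 : g * y * g⁻¹ ≠ 1 := fun h => hy1 (conj_eq_one_iff.mp h)
  have e1 := CfsgLib.SL2.cent_eq_of_mem (hns x hx) (hns y hy1) ((hmem y x).mp hy)
  have e2 := CfsgLib.SL2.cent_eq_of_mem (hns x hx) (hns _ hgy1) ((hmem _ x).mp hy')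
  rw [hmem h x, hmem (g * h * g⁻¹) x]
  conv_lhs => rw [← e1]
  conv_rhs => rw [← e2]
  rw [← hmem h y, ← hmem (g * h * g⁻¹) (g * y * g⁻¹), Subgroup.mem_centralizer_iff,
    Subgroup.mem_centralizer_iff]
  simp [mul_assoc]
  simp [← mul_assoc]

end Cfsg.Agent.S4065
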