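import Cfsg.Statements.S4066
import Mathlib

set_option autoImplicit false
open Cfsg

namespace Cfsg.Agent.S4066

/-- Let G be a finite group in which the centralizer of every element meets each of its conjugates by elements outside its normalizer trivially. Then any two distinct Sylow p-subgroups of G, for any prime p, intersect trivially. -/
theorem result {G : Type*} [Group G] [Finite G] (hTI : ∀ x : G, Cfsg.IsTISubset (Subgroup.centralizer ({x} : Set G) : Set G))
    {p : ℕ} [Fact p.Prime] (P Q : Sylow p G) (hPQ : P ≠ Q) : (P : Subgroup G) ⊓ (Q : Subgroup G) = ⊥ := by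
  by_contra hne
  obtain ⟨⟨z, hz⟩, hzne⟩ := Subgroup.ne_bot_iff_exists_ne_one.mp hne
  have hz1 : z ≠ 1 := fun e => hzne (Subtype.ext e)
  obtain ⟨hzP, hzQ⟩ := hz
  haveI : Nontrivial (P : Subgroup G) := ⟨⟨z, hzP⟩, 1, fun e => hz1 (congrArg Subtype.val e)⟩
  haveI : Nontrivial (Q : Subgroup G) := ⟨⟨z, hzQ⟩, 1, fun e => hz1 (congrArg Subtype.val e)⟩
  haveI := P.2.center_nontrivial
  haveI := Q.2.center_nontrivial
  obtain ⟨u, hu⟩ := exists_ne (1 : Subgroup.center (P : Subgroup G))
  obtain ⟨v, hv⟩ := exists_ne (1 : Subgroup.center (Q : Subgroup G))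
  have hu1 : ((u : (P : Subgroup G)) : G) ≠ 1 := fun e => hu (Subtype.ext (Subtype.ext e))
  have hv1 : ((v : (Q : Subgroup G)) : G) ≠ 1 := fun e => hv (Subtype.ext (Subtype.ext e))
  set a : G := ((u : (P : Subgroup G)) : G) with ha
  set b : G := ((v : (Q : Subgroup G)) : G) with hb
  set X := Subgroup.centralizer ({a} : Set G) with hX
  have hPX : (P : Subgroup G) ≤ X := fun x hx => Subgroup.mem_centralizer_singleton_iff.mpr
    (congrArg Subtype.val (Subgroup.mem_center_iff.mp u.2 ⟨x, hx⟩))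
  have hQb : ∀ x ∈ (Q : Subgroup G), x * b = b * x := fun x hx =>
    congrArg Subtype.val (Subgroup.mem_center_iff.mp v.2 ⟨x, hx⟩)
  -- whatever centralizes a non-trivial element of `X` normalizes `X`
  have claim : ∀ w ∈ X, w ≠ 1 → ∀ g : G, g * w = w * g → g ∈ Subgroup.normalizer (X : Set G) := by
    intro w hw hw1 g hg
    by_contra hgn
    exact hw1 (hTI a g hgn w hw (by rw [hg, mul_inv_cancel_right]; exact hw))
  have hXn : ((X.subgroupOf (Subgroup.normalizer (X : Set G)))).Normal := Subgroup.normal_in_normalizer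
  -- the p-elements of the normalizer lie in `X`
  have hpX : ∀ y ∈ Subgroup.normalizer (X : Set G), (∃ k : ℕ, y ^ p ^ k = 1) → y ∈ X := by
    intro y hy ⟨k, hk⟩
    have hnd : ¬ p ∣ X.relIndex (Subgroup.normalizer (X : Set G)) := fun h =>
      P.not_dvd_index ((h.trans (Subgroup.relIndex_dvd_index_of_le Subgroup.le_normalizer)).trans
        (Subgroup.index_dvd_of_le hPX))
    have h1 : (QuotientGroup.mk' (X.subgroupOf (Subgroup.normalizer (X : Set G)))) ⟨y, hy⟩ ^ p ^ k = 1 := by
      rw [← map_pow, show (⟨y, hy⟩ : Subgroup.normalizer (X : Set G)) ^ p ^ k = 1 from Subtype.ext hk, map_one]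
    have h2 := orderOf_dvd_natCard ((QuotientGroup.mk' (X.subgroupOf (Subgroup.normalizer (X : Set G)))) ⟨y, hy⟩)
    have h3 : orderOf ((QuotientGroup.mk' (X.subgroupOf (Subgroup.normalizer (X : Set G)))) ⟨y, hy⟩) = 1 :=
      Nat.eq_one_of_dvd_coprimes
        ((Nat.Prime.coprime_iff_not_dvd (Fact.out : p.Prime)).mpr hnd |>.pow_left k)
        (orderOf_dvd_of_pow_eq_one h1) h2
    rw [orderOf_eq_one_iff, QuotientGroup.mk'_apply, QuotientGroup.eq_one_iff] at h3
    exact h3
  have hpQ : ∀ y ∈ (Q : Subgroup G), ∃ k : ℕ, y ^ p ^ k = 1 := fun y hy => by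
    obtain ⟨k, hk⟩ := Q.2 ⟨y, hy⟩
    exact ⟨k, congrArg Subtype.val hk⟩
  have hbX : b ∈ X := hpX b (claim z (hPX hzP) hz1 b (hQb z hzQ).symm) (hpQ b v.1.2)
  have hQX : (Q : Subgroup G) ≤ X := fun y hy => hpX y (claim b hbX hv1 y (hQb y hy)) (hpQ y hy)
  -- centralizers in `X` are normal in `X`
  have hnorm : ∀ y ∈ X, ∀ g ∈ X, g * y * g⁻¹ * y = y * (g * y * g⁻¹) := by
    intro y hy g hg
    have hay : a ∈ Subgroup.centralizer ({y} : Set G) := Subgroup.mem_centralizer_singleton_iff.mpr
      (Subgroup.mem_centralizer_singleton_iff.mp hy).symm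
    have hgn : g ∈ Subgroup.normalizer (Subgroup.centralizer ({y} : Set G) : Set G) := by
      by_contra hgn
      refine hu1 (hTI y g hgn a hay ?_)
      rw [Subgroup.mem_centralizer_singleton_iff.mp hg, mul_inv_cancel_right]
      exact hay
    have hyy : y ∈ Subgroup.centralizer ({y} : Set G) := Subgroup.mem_centralizer_singleton_iff.mpr rfl
    exact Subgroup.mem_centralizer_singleton_iff.mp ((Subgroup.mem_normalizer_iff.mp hgn y).mp hyy)
  -- so every element of `Q` lies in `P`
  have hsub : (Q : Subgroup G) ≤ (P : Subgroup G) := by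
    intro y hy
    let cl : Set G := {w | ∃ g ∈ X, g * y * g⁻¹ = w}
    have hcomm : ∀ w ∈ cl, ∀ w' ∈ cl, w * w' = w' * w := by
      rintro _ ⟨g, hg, rfl⟩ _ ⟨h, hh, rfl⟩
      have := congrArg (fun t => g * t * g⁻¹) (hnorm y (hQX hy) (g⁻¹ * h) (mul_mem (inv_mem hg) hh))
      simp only [mul_assoc, inv_mul_cancel_left, mul_inv_cancel_left, mul_inv_rev, inv_inv,
        mul_inv_cancel, mul_one] at this ⊢
      exact this.symm
    let A := Subgroup.closure cl
    have hA : IsPGroup p A := by
      obtain ⟨k, hk⟩ := hpQ y hy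
      have hab : ∀ w ∈ A, ∀ w' ∈ A, w * w' = w' * w := fun w hw w' hw' => by
        refine Subgroup.mem_centralizer_iff.mp ((Subgroup.closure_le _).mpr (fun s hs => ?_) hw') w hw
        refine Subgroup.mem_centralizer_iff.mpr fun t ht => ?_
        exact (Subgroup.mem_centralizer_iff.mp ((Subgroup.closure_le _).mpr
          (fun t' ht' => Subgroup.mem_centralizer_singleton_iff.mpr (hcomm t' ht' s hs)) ht :
            t ∈ Subgroup.centralizer ({s} : Set G)) s rfl).symm
      have key : ∀ w (hw : w ∈ A), w ^ p ^ k = 1 := fun w hw => by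
        induction hw using Subgroup.closure_induction with
        | mem w hw => obtain ⟨g, -, rfl⟩ := hw; rw [conj_pow, hk, mul_one, mul_inv_cancel]
        | one => exact one_pow _
        | mul w w' hw hw' h h' => rw [Commute.mul_pow (hab w hw w' hw'), h, h', one_mul]
        | inv w _ h => rw [inv_pow, h, inv_one]
      exact fun w => ⟨k, Subtype.ext (key w w.2)⟩
    have hAn : (P : Subgroup G) ≤ Subgroup.normalizer (A : Set G) := by
      refine fun g hg => Subgroup.normalizer_le_normalizer_closure cl ?_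
      rw [Subgroup.mem_normalizer_iff_conj_image_eq]
      ext w
      constructor
      · rintro ⟨_, ⟨h, hh, rfl⟩, rfl⟩
        exact ⟨g * h, mul_mem (hPX hg) hh, by simp [mul_assoc]⟩
      · rintro ⟨h, hh, rfl⟩
        exact ⟨_, ⟨g⁻¹ * h, mul_mem (inv_mem (hPX hg)) hh, rfl⟩, by simp [mul_assoc]⟩
    have hsup : IsPGroup p ((P : Subgroup G) ⊔ A : Subgroup G) := P.2.to_sup_of_normal_right' hA hAn
    have := P.3 hsup le_sup_left
    rw [← this]
    exact (le_sup_right : A ≤ (P : Subgroup G) ⊔ A) (Subgroup.subset_closure ⟨1, X.one_mem, by simp⟩)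
  exact hPQ (Sylow.ext (Q.3 P.2 hsub))

end Cfsg.Agent.S4066
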