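import Cfsg.Statements.S4067
import Mathlib

-- statement Cfsg.CfsgFrozen.S4067

set_option autoImplicit false

universe u

namespace Cfsg.Agent.S4067

variable {G : Type u} [Group G] [Finite G]

lemma fiber_sum_le {Q : Type*} [Finite Q] (q : G → Q) (hq : Function.Surjective q) (w : G → ℕ)
    (hw0 : ∀ x, 0 < w x) (hw : ∀ x, w x ≤ Nat.card {y : G // q y = q x}) [Fintype G] :
    (Nat.card Q : ℚ) ≤ ∑ x, (1 : ℚ) / w x := by
  classical
  haveI := Fintype.ofFinite Q
  rw [← Finset.sum_fiberwise Finset.univ q (fun x => (1 : ℚ) / w x), Nat.card_eq_fintype_card,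
    Fintype.card_eq_sum_ones, Nat.cast_sum]
  refine Finset.sum_le_sum fun a _ => ?_
  set F := Finset.univ.filter fun x => q x = a
  obtain ⟨x0, hx0⟩ := hq a
  have hFn : F.Nonempty := ⟨x0, by simp [F, hx0]⟩
  have hF : ∀ x ∈ F, (1 : ℚ) / F.card ≤ 1 / w x := fun x hx => by
    refine one_div_le_one_div_of_le (by exact_mod_cast hw0 x) ?_
    have hxa : q x = a := (Finset.mem_filter.mp hx).2
    have h := hw x
    rw [Nat.card_eq_fintype_card, Fintype.card_subtype, hxa] at h
    exact_mod_cast h
  calc ((1 : ℕ) : ℚ) = ∑ x ∈ F, (1 : ℚ) / F.card := by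
        rw [Finset.sum_const, nsmul_eq_mul, mul_one_div, div_self (by exact_mod_cast hFn.card_pos.ne'), Nat.cast_one]
    _ ≤ _ := Finset.sum_le_sum hF

lemma index_le_fiber {Q : Type*} (q : G → Q) (hq : ∀ g x : G, q (g * x * g⁻¹) = q x) (x : G) :
    (Subgroup.centralizer ({x} : Set G)).index ≤ Nat.card {y : G // q y = q x} := by
  refine Nat.card_le_card_of_injective (Quotient.lift (fun g : G => (⟨g * x * g⁻¹, hq g x⟩ : {y : G // q y = q x})) ?_) ?_
  · intro a b hab
    have h := Subgroup.mem_centralizer_singleton_iff.mp (QuotientGroup.leftRel_apply.mp hab)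
    refine Subtype.ext ?_
    calc a * x * a⁻¹ = a * (x * (a⁻¹ * b)) * b⁻¹ := by group
      _ = b * x * b⁻¹ := by rw [← h]; group
  · intro u v
    induction u using Quotient.inductionOn with
    | _ a =>
      induction v using Quotient.inductionOn with
      | _ b =>
        intro h
        have h1 : a * x * a⁻¹ = b * x * b⁻¹ := congrArg Subtype.val h
        refine Quotient.sound (QuotientGroup.leftRel_apply.mpr (Subgroup.mem_centralizer_singleton_iff.mpr ?_))
        calc a⁻¹ * b * x = a⁻¹ * (b * x * b⁻¹) * b := by group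
          _ = x * (a⁻¹ * b) := by rw [← h1]; group

/-- Number of classes. -/
noncomputable def kk (G : Type u) [Group G] : ℕ := Nat.card (ConjClasses G)

/-- Number of automorphism orbits. -/
noncomputable def orb (G : Type u) [Group G] : ℕ := Nat.card (MulAction.orbitRel.Quotient (MulAut G) G)

lemma orb_conj (g x : G) :
    (Quotient.mk _ (g * x * g⁻¹) : MulAction.orbitRel.Quotient (MulAut G) G) = Quotient.mk _ x :=
  Quotient.sound ⟨MulAut.conj g, rfl⟩

lemma orb_le_kk : orb G ≤ kk G := by
  refine Nat.card_le_card_of_surjective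
    (Quotient.lift (fun x : G => (Quotient.mk _ x : MulAction.orbitRel.Quotient (MulAut G) G)) ?_) ?_
  · intro a b hab
    obtain ⟨c, hc⟩ := isConj_iff.mp hab
    rw [← hc, orb_conj]
  · rintro ⟨x⟩; exact ⟨ConjClasses.mk x, rfl⟩

lemma kk_le_mul (N : Subgroup G) [N.Normal] : kk G ≤ Nat.card N * kk (G ⧸ N) := by
  rw [kk, kk, ← Nat.card_prod]
  have hsur : ∀ c : ConjClasses (G ⧸ N), ∃ r : G, ConjClasses.mk (QuotientGroup.mk' N r) = c := by
    intro c
    induction c using Quotient.inductionOn with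
    | _ y =>
      obtain ⟨r, hr⟩ := QuotientGroup.mk'_surjective N y
      exact ⟨r, by rw [hr]; rfl⟩
  choose r hr using hsur
  refine Nat.card_le_card_of_surjective (fun t : N × ConjClasses (G ⧸ N) => ConjClasses.mk (r t.2 * (t.1 : G))) ?_
  intro c
  induction c using Quotient.inductionOn with
  | _ y =>
    set d := ConjClasses.mk (QuotientGroup.mk' N y)
    obtain ⟨g, hg⟩ := isConj_iff.mp (ConjClasses.mk_eq_mk_iff_isConj.mp (hr d))
    obtain ⟨g, rfl⟩ := QuotientGroup.mk'_surjective N g
    rw [← map_inv, ← map_mul, ← map_mul] at hg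
    have hn : (g * r d * g⁻¹)⁻¹ * y ∈ N := QuotientGroup.eq.mp hg
    refine ⟨(⟨g⁻¹ * ((g * r d * g⁻¹)⁻¹ * y) * g, by
      have := (inferInstance : N.Normal).conj_mem _ hn g⁻¹; simpa using this⟩, d), ?_⟩
    refine ConjClasses.mk_eq_mk_iff_isConj.mpr (isConj_iff.mpr ⟨g, ?_⟩)
    show g * (r d * (g⁻¹ * ((g * r d * g⁻¹)⁻¹ * y) * g)) * g⁻¹ = y
    group

lemma index_ne_one_of_notMem {x : G} (hx : x ∉ Subgroup.center G) :
    (Subgroup.centralizer ({x} : Set G)).index ≠ 1 := fun h => by
  rw [Subgroup.index_eq_one] at h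
  exact hx (Subgroup.mem_center_iff.mpr fun g =>
    Subgroup.mem_centralizer_singleton_iff.mp (h ▸ Subgroup.mem_top g))

lemma minFac_le_of_dvd {d : ℕ} (hd : d ∣ Nat.card G) (h1 : d ≠ 1) : (Nat.card G).minFac ≤ d :=
  Nat.minFac_le_of_dvd (by have := Nat.pos_of_dvd_of_pos hd Nat.card_pos; omega) hd

lemma center_index {p : ℕ} (hna : ¬ IsMulCommutative G)
    (hp : ∀ d : ℕ, d ∣ Nat.card G → d ≠ 1 → p ≤ d) :
    p * p * Nat.card (Subgroup.center G) ≤ Nat.card G := by
  set i := (Subgroup.center G).index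
  have hi : i ∣ Nat.card G := Subgroup.index_dvd_card _
  have hi1 : i ≠ 1 := fun h => hna ⟨⟨fun a b => by
    have ha : a ∈ Subgroup.center G := by rw [Subgroup.index_eq_one.mp h]; exact Subgroup.mem_top a
    exact (Subgroup.mem_center_iff.mp ha b).symm⟩⟩
  set r := i.minFac
  have hr := Nat.minFac_prime hi1
  obtain ⟨s, hs⟩ := Nat.minFac_dvd i
  have hs1 : s ≠ 1 := by
    rintro rfl
    rw [mul_one] at hs
    haveI : Fact r.Prime := ⟨hr⟩
    haveI : IsCyclic (G ⧸ Subgroup.center G) := isCyclic_of_prime_card (p := r) hs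
    exact hna ⟨⟨fun a b => (commGroupOfCyclicCenterQuotient (QuotientGroup.mk' (Subgroup.center G))
      (by rw [QuotientGroup.ker_mk'])).mul_comm a b⟩⟩
  have h1 : p ≤ r := hp r ((Nat.minFac_dvd i).trans hi) hr.ne_one
  have h2 : p ≤ s := hp s ((Dvd.intro_left _ hs.symm).trans hi) hs1
  calc p * p * Nat.card (Subgroup.center G) ≤ r * s * Nat.card (Subgroup.center G) := by gcongr
    _ = Nat.card G := by rw [← hs, mul_comm, Subgroup.card_mul_index]

open Classical in
lemma count {Q : Type*} [Finite Q] (q : G → Q) (hq : Function.Surjective q)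
    (hconj : ∀ g x : G, q (g * x * g⁻¹) = q x) (p m : ℕ) (hp : 2 ≤ p) (hm : p ≤ m)
    (hcl : ∀ x, x ∉ Subgroup.center G → p ≤ (Subgroup.centralizer ({x} : Set G)).index)
    (S : Set G) (hS : ∀ x ∈ S, x ∉ Subgroup.center G ∧ m ≤ Nat.card {y : G // q y = q x}) :
    (Nat.card Q : ℚ) ≤ (Nat.card G : ℚ) / p + (Nat.card (Subgroup.center G) : ℚ) * (1 - 1 / p) -
      (Nat.card S : ℚ) * (1 / p - 1 / m) := by
  haveI := Fintype.ofFinite G
  let w : G → ℕ := fun x => if x ∈ Subgroup.center G then 1 else if x ∈ S then m else p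
  have h := fiber_sum_le q hq w (fun x => by simp only [w]; split_ifs <;> omega) (fun x => by
    simp only [w]
    split_ifs with h1 h2
    · exact Nat.one_le_iff_ne_zero.mpr (Nat.card_ne_zero.mpr ⟨⟨⟨x, rfl⟩⟩, inferInstance⟩)
    · exact (hS x h2).2
    · exact (hcl x h1).trans (index_le_fiber q hconj x))
  have e : ∀ x : G, (1 : ℚ) / w x = 1 / p + (if x ∈ Subgroup.center G then (1 : ℚ) - 1 / p else 0) -
      (if x ∈ S then (1 : ℚ) / p - 1 / m else 0) := fun x => by
    simp only [w]
    by_cases h1 : x ∈ Subgroup.center G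
    · have h2 : x ∉ S := fun h2 => (hS x h2).1 h1
      simp [h1, h2]
    · by_cases h2 : x ∈ S <;> simp [h1, h2]
  refine h.trans (le_of_eq ?_)
  simp only [e, Finset.sum_sub_distrib, Finset.sum_add_distrib, Finset.sum_const, ← Finset.sum_filter,
    nsmul_eq_mul]
  rw [Finset.card_univ, ← Nat.card_eq_fintype_card]
  rw [Nat.card_eq_fintype_card (α := Subgroup.center G), Fintype.card_subtype,
    Nat.card_eq_fintype_card (α := S)]
  simp only [Fintype.card_subtype, Set.coe_eq_subtype]
  ring

lemma kk_not_nilpotent : ∀ (n : ℕ) (G : Type u) [Group G] [Finite G], Nat.card G = n →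
    ¬ Group.IsNilpotent G → kk G * (Nat.card G).minFac ≤ Nat.card G := by
  intro n
  induction n using Nat.strong_induction_on with
  | _ n ih =>
    intro G _ _ hn hnil
    have hne : Nat.card G ≠ 1 := fun h => by
      haveI : Subsingleton G := (Nat.card_eq_one_iff_unique.mp h).1
      exact hnil inferInstance
    set p := (Nat.card G).minFac
    have hp : p.Prime := Nat.minFac_prime hne
    set Z := Subgroup.center G
    by_cases hZ : Z = ⊥
    · have h := count (fun x : G => ConjClasses.mk x) ConjClasses.mk_surjective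
        (fun g x => (ConjClasses.mk_eq_mk_iff_isConj.mpr (isConj_iff.mpr ⟨g, rfl⟩)).symm) p p hp.two_le le_rfl
        (fun x hx => minFac_le_of_dvd (Subgroup.index_dvd_card _) (index_ne_one_of_notMem hx)) ∅ (by simp)
      have hz : Nat.card Z = 1 := by rw [hZ, Subgroup.card_bot]
      have hlt : (kk G : ℚ) * p < Nat.card G + p := by
        rw [show Nat.card (Subgroup.center G) = 1 from hz] at h
        have hp0 : (0 : ℚ) < p := by exact_mod_cast hp.pos
        have h' : (kk G : ℚ) ≤ (Nat.card G : ℚ) / p + (1 - 1 / p) := by simpa [kk] using h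
        have := mul_le_mul_of_nonneg_right h' hp0.le
        rw [add_mul, div_mul_cancel₀ _ hp0.ne', sub_mul, one_div, inv_mul_cancel₀ hp0.ne'] at this
        linarith
      have hlt' : kk G * p < Nat.card G + p := by exact_mod_cast hlt
      obtain ⟨t, ht⟩ : p ∣ Nat.card G := Nat.minFac_dvd _
      rw [ht, mul_comm p t] at hlt' ⊢
      have : kk G < t + 1 := Nat.lt_of_mul_lt_mul_right (a := p) (by rw [Nat.add_mul, one_mul]; exact hlt')
      exact Nat.mul_le_mul_right p (by omega)
    · have hnq : ¬ Group.IsNilpotent (G ⧸ Z) := fun h => hnil (Group.of_quotient_center_nilpotent h)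
      have hcard := Subgroup.card_eq_card_quotient_mul_card_subgroup Z
      have h1 : 1 < Nat.card Z := Finite.one_lt_card_iff_nontrivial.mpr ((Subgroup.nontrivial_iff_ne_bot Z).mpr hZ)
      have hlt : Nat.card (G ⧸ Z) < n := by
        rw [← hn, hcard]; exact lt_mul_of_one_lt_right Nat.card_pos h1
      have hq1 : Nat.card (G ⧸ Z) ≠ 1 := fun h => by
        haveI : Subsingleton (G ⧸ Z) := (Nat.card_eq_one_iff_unique.mp h).1
        exact hnq inferInstance
      have hle : p ≤ (Nat.card (G ⧸ Z)).minFac :=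
        minFac_le_of_dvd ((Nat.minFac_dvd _).trans (Subgroup.card_quotient_dvd_card Z)) (Nat.minFac_prime hq1).ne_one
      calc kk G * p ≤ Nat.card Z * kk (G ⧸ Z) * (Nat.card (G ⧸ Z)).minFac := Nat.mul_le_mul (kk_le_mul Z) hle
        _ ≤ Nat.card Z * Nat.card (G ⧸ Z) := by rw [mul_assoc]; exact Nat.mul_le_mul_left _ (ih _ hlt _ rfl hnq)
        _ = Nat.card G := by rw [hcard, mul_comm]

/-- The automorphism attached to `a`, `b`. -/
lemma exists_twist {p : ℕ} [Fact p.Prime] (M : Subgroup G) [M.Normal] (hM : M.index = p) {a b : G}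
    (ha : a ∉ M) (hb : b ∈ M) (hbc : ∀ m ∈ M, b * m = m * b) (hpow : (a * b) ^ p = a ^ p) :
    ∃ θ : MulAut G, (∀ m ∈ M, θ m = m) ∧
      ∀ x : G, ∃ i : ℤ, (a ^ i)⁻¹ * x ∈ M ∧ θ x = (a * b) ^ i * ((a ^ i)⁻¹ * x) := by
  have hsame : ∀ i : ℤ, ∀ m ∈ M, (a * b) ^ i * m * ((a * b) ^ i)⁻¹ = a ^ i * m * (a ^ i)⁻¹ := by
    intro i m hm
    have h1 : MulAut.conjNormal (H := M) b = 1 := by
      ext y
      rw [MulAut.conjNormal_apply, hbc y y.2, mul_inv_cancel_right]
      rfl
    have h2 : MulAut.conjNormal (H := M) ((a * b) ^ i) = MulAut.conjNormal (H := M) (a ^ i) := by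
      rw [map_zpow, map_zpow, map_mul, h1, mul_one]
    rw [← MulAut.conjNormal_apply ((a * b) ^ i) (⟨m, hm⟩ : M), ← MulAut.conjNormal_apply (a ^ i) (⟨m, hm⟩ : M), h2]
  have hiff : ∀ i : ℤ, a ^ i ∈ M ↔ (p : ℤ) ∣ i := by
    intro i
    rw [← QuotientGroup.eq_one_iff, QuotientGroup.mk_zpow, ← orderOf_dvd_iff_zpow_eq_one]
    have : orderOf (a : G ⧸ M) = p := by
      refine orderOf_eq_prime ?_ (fun h => ha ((QuotientGroup.eq_one_iff a).mp h))
      rw [← hM, Subgroup.index]
      exact pow_card_eq_one'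
    rw [this]
  have hex : ∀ x : G, ∃ i : ℤ, (a ^ i)⁻¹ * x ∈ M := by
    intro x
    have hc : Nat.card (G ⧸ M) = p := hM
    have h1 : (a : G ⧸ M) ≠ 1 := fun h => ha ((QuotientGroup.eq_one_iff a).mp h)
    obtain ⟨i, hi⟩ := Subgroup.mem_zpowers_iff.mp (mem_zpowers_of_prime_card hc h1 (g' := (x : G ⧸ M)))
    refine ⟨i, QuotientGroup.eq.mp ?_⟩
    rw [QuotientGroup.mk_zpow, hi]
  choose n hn using hex
  have hper : ∀ x : G, ∀ i : ℤ, (a ^ i)⁻¹ * x ∈ M →
      (a * b) ^ n x * ((a ^ n x)⁻¹ * x) = (a * b) ^ i * ((a ^ i)⁻¹ * x) := by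
    intro x i hi
    have hd : (a ^ i)⁻¹ * a ^ n x ∈ M := by
      have := mul_mem hi (inv_mem (hn x))
      simpa [mul_assoc] using this
    rw [← zpow_neg, ← zpow_add] at hd
    obtain ⟨k, hk⟩ := (hiff _).mp hd
    have e : n x = i + p * k := by omega
    have h1 : (a * b) ^ ((p : ℤ) * k) = a ^ ((p : ℤ) * k) := by
      rw [zpow_mul, zpow_natCast, zpow_mul, zpow_natCast, hpow]
    rw [e, zpow_add, h1, zpow_add]
    group
  let f : G →* G := MonoidHom.mk' (fun x => (a * b) ^ n x * ((a ^ n x)⁻¹ * x)) (by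
    intro x y
    set m := (a ^ n x)⁻¹ * x
    set m' := (a ^ n y)⁻¹ * y
    have hmem : (a ^ (n x + n y))⁻¹ * (x * y) = ((a ^ n y)⁻¹ * m * a ^ n y) * m' := by
      simp only [m, m']; rw [zpow_add]; group
    have h0 : (a ^ n y)⁻¹ * m * a ^ n y ∈ M := by
      simpa using (inferInstance : M.Normal).conj_mem m (hn x) (a ^ n y)⁻¹
    rw [hper (x * y) (n x + n y) (by rw [hmem]; exact mul_mem h0 (hn y)), hmem,
      ← mul_assoc ((a * b) ^ (n x + n y))]
    have h3 := hsame (n y) _ h0
    have h4 : (a * b) ^ n y * ((a ^ n y)⁻¹ * m * a ^ n y) = m * (a * b) ^ n y := by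
      rw [← mul_inv_eq_iff_eq_mul, h3]; group
    show (a * b) ^ (n x + n y) * ((a ^ n y)⁻¹ * m * a ^ n y) * m' = (a * b) ^ n x * m * ((a * b) ^ n y * m')
    rw [zpow_add, mul_assoc ((a * b) ^ n x), h4]
    group)
  have hfM : ∀ m ∈ M, f m = m := fun m hm => by
    show (a * b) ^ n m * ((a ^ n m)⁻¹ * m) = m
    rw [hper m 0 (by simpa using hm)]; simp
  have hf : Function.Injective f := by
    rw [injective_iff_map_eq_one]
    intro x hx
    have hx' : (a * b) ^ n x * ((a ^ n x)⁻¹ * x) = 1 := hx
    have h1 : (a * b) ^ n x ∈ M := by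
      rw [eq_inv_of_mul_eq_one_left hx']; exact inv_mem (hn x)
    have h2 : a ^ n x ∈ M := by
      rw [← QuotientGroup.eq_one_iff, QuotientGroup.mk_zpow] at h1 ⊢
      rwa [QuotientGroup.mk_mul, (QuotientGroup.eq_one_iff b).mpr hb, mul_one] at h1
    have hxM : x ∈ M := by simpa using mul_mem h2 (hn x)
    rw [← hfM x hxM]; exact hx
  exact ⟨MulEquiv.ofBijective f (Finite.injective_iff_bijective.mp hf), hfM,
    fun x => ⟨n x, hn x, rfl⟩⟩

lemma class_two_pow (x y : G) (hc : ∀ g, g * (y * x * y⁻¹ * x⁻¹) = (y * x * y⁻¹ * x⁻¹) * g) (n : ℕ) :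
    (x * y) ^ n = x ^ n * y ^ n * (y * x * y⁻¹ * x⁻¹) ^ (n.choose 2) := by
  set c := y * x * y⁻¹ * x⁻¹
  have hyx : y * x = c * x * y := by simp only [c]; group
  have hyn : ∀ k : ℕ, y ^ k * x = c ^ k * x * y ^ k := by
    intro k
    induction k with
    | zero => simp
    | succ k ih =>
      have hcy : Commute (c ^ k) y := Commute.pow_left (hc y).symm k
      calc y ^ (k + 1) * x = y * (y ^ k * x) := by rw [pow_succ', mul_assoc]
        _ = c ^ k * (y * x) * y ^ k := by rw [ih, mul_assoc (c ^ k), ← mul_assoc y, ← hcy.eq]; group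
        _ = c ^ (k + 1) * x * y ^ (k + 1) := by rw [hyx, pow_succ, pow_succ' y]; group
  induction n with
  | zero => simp
  | succ k ih =>
    have hcc : ∀ g, ∀ j : ℕ, g * c ^ j = c ^ j * g := fun g j => (Commute.pow_right (hc g) j).eq
    rw [pow_succ, ih, Nat.choose_succ_succ, Nat.choose_one_right, pow_succ x, pow_succ y, pow_add]
    calc x ^ k * y ^ k * c ^ k.choose 2 * (x * y) = x ^ k * (y ^ k * x) * y * c ^ k.choose 2 := by
          rw [mul_assoc (x ^ k * y ^ k), ← hcc (x * y)]; group
      _ = x ^ k * x * (y ^ k * y) * c ^ k * c ^ k.choose 2 := by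
          rw [hyn, ← hcc x, mul_assoc, mul_assoc x, ← hcc (y ^ k)]
          simp only [mul_assoc]
          rw [← mul_assoc (c ^ k) y, ← hcc y k, mul_assoc]
      _ = _ := by simp only [mul_assoc]

lemma final_arith {p z s N o : ℕ} (hp : 2 ≤ p)
    (h : (o : ℚ) ≤ (N : ℚ) / p + (z : ℚ) * (1 - 1 / p) - (s : ℚ) * (1 / p - 1 / ((p * p : ℕ) : ℚ)))
    (hs : p * z ≤ s) : o * p ≤ N := by
  have hs' : (p : ℚ) * z ≤ s := by exact_mod_cast hs
  have hp0 : (0 : ℚ) < p := by exact_mod_cast (by omega : 0 < p)
  have hp1 : (2 : ℚ) ≤ p := by exact_mod_cast hp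
  suffices (o : ℚ) * p ≤ N by exact_mod_cast this
  push_cast at h
  have h2 : (o : ℚ) * (p * p) ≤ N * p + (p * z - s) * (p - 1) := by
    have := mul_le_mul_of_nonneg_right h (mul_nonneg hp0.le hp0.le)
    calc (o : ℚ) * (p * p) ≤ _ := this
      _ = _ := by field_simp; ring
  nlinarith [mul_nonpos_of_nonpos_of_nonneg (sub_nonpos.mpr hs') (by linarith : (0 : ℚ) ≤ p - 1)]

section small

variable {p : ℕ} [hp : Fact p.Prime]
  (hidx : ∀ x : G, x ∉ Subgroup.center G → (Subgroup.centralizer ({x} : Set G)).index = p)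
  (hnorm : ∀ x : G, x ∉ Subgroup.center G → (Subgroup.centralizer ({x} : Set G)).Normal)

/-- The commutator value. -/
def cm (g x : G) : G := g * x * g⁻¹ * x⁻¹

include hidx hnorm in
lemma cm_central (g x h : G) : h * cm g x = cm g x * h := by
  by_cases hh : h ∈ Subgroup.center G
  · exact (Subgroup.mem_center_iff.mp hh _).symm
  haveI := hnorm h hh
  set C := Subgroup.centralizer ({h} : Set G)
  haveI : IsCyclic (G ⧸ C) := isCyclic_of_prime_card (p := p) (hidx h hh)
  have hmem : cm g x ∈ C := by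
    rw [← QuotientGroup.eq_one_iff, cm, QuotientGroup.mk_mul, QuotientGroup.mk_mul, QuotientGroup.mk_mul,
      QuotientGroup.mk_inv, QuotientGroup.mk_inv,
      show (g : G ⧸ C) * x = x * g from (IsCyclic.commGroup (α := G ⧸ C)).mul_comm _ _]
    group
  exact (Subgroup.mem_centralizer_singleton_iff.mp hmem).symm

/-- `g ↦ [g, x]`. -/
def cmHom (hidx : ∀ x : G, x ∉ Subgroup.center G → (Subgroup.centralizer ({x} : Set G)).index = p)
    (hnorm : ∀ x : G, x ∉ Subgroup.center G → (Subgroup.centralizer ({x} : Set G)).Normal) (x : G) : G →* G :=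
  MonoidHom.mk' (fun g => cm g x) (fun g h => by
    calc cm (g * h) x = g * cm h x * g⁻¹ * cm g x := by unfold cm; group
      _ = cm g x * cm h x := by
        rw [cm_central hidx hnorm h x g, mul_inv_cancel_right]
        exact (cm_central hidx hnorm h x (cm g x)).symm)

include hidx hnorm in
lemma exists_T (hna : ¬ IsMulCommutative G) :
    ∃ T : Subgroup G, Nat.card T = p ∧ T ≤ Subgroup.center G ∧ ∀ g x : G, cm g x ∈ T := by
  have hker : ∀ x, (cmHom hidx hnorm x).ker = Subgroup.centralizer ({x} : Set G) := fun x => by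
    ext g
    rw [MonoidHom.mem_ker, Subgroup.mem_centralizer_singleton_iff]
    show g * x * g⁻¹ * x⁻¹ = 1 ↔ _
    rw [mul_inv_eq_one, mul_inv_eq_iff_eq_mul]
  have hR : ∀ x, x ∉ Subgroup.center G → Nat.card (cmHom hidx hnorm x).range = p := fun x hx => by
    refine (Nat.card_congr (QuotientGroup.quotientKerEquivRange _).toEquiv.symm).trans ?_
    show (cmHom hidx hnorm x).ker.index = p
    exact (congrArg Subgroup.index (hker x)).trans (hidx x hx)
  have heq : ∀ R S : Subgroup G, Nat.card R = p → Nat.card S = p → ∀ u, u ≠ 1 → u ∈ R → u ∈ S → R = S := by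
    intro R S hR hS u hu huR huS
    have key : ∀ R : Subgroup G, Nat.card R = p → u ∈ R → Subgroup.zpowers u = R := by
      intro R hR huR
      refine Subgroup.eq_of_le_of_card_ge (by rwa [Subgroup.zpowers_le]) ?_
      rw [Nat.card_zpowers, hR]
      have h1 : orderOf (⟨u, huR⟩ : R) ∣ p := hR ▸ orderOf_dvd_natCard _
      rw [Subgroup.orderOf_mk] at h1
      rcases hp.out.eq_one_or_self_of_dvd _ h1 with h | h
      · exact absurd (orderOf_eq_one_iff.mp h) hu
      · exact h.ge
    rw [← key R hR huR, key S hS huS]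
  have hne : ∀ g x : G, g * x ≠ x * g → cm g x ≠ 1 := fun g x h e => h (mul_inv_eq_iff_eq_mul.mp (mul_inv_eq_one.mp e))
  have hnc : ∀ g x : G, g * x ≠ x * g → x ∉ Subgroup.center G := fun g x h hx => h (Subgroup.mem_center_iff.mp hx g)
  have hdiff : ∀ x y : G, x ∉ Subgroup.center G → y ∉ Subgroup.center G →
      Subgroup.centralizer ({x} : Set G) ≠ Subgroup.centralizer ({y} : Set G) →
      (cmHom hidx hnorm x).range = (cmHom hidx hnorm y).range := by
    intro x y hx hy hd
    have h1 : ∀ x y : G, x ∉ Subgroup.center G → y ∉ Subgroup.center G →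
        Subgroup.centralizer ({x} : Set G) ≠ Subgroup.centralizer ({y} : Set G) →
        ∃ g, g * x = x * g ∧ g * y ≠ y * g := by
      intro x y hx hy hd
      by_contra hcon
      push Not at hcon
      refine hd (Subgroup.eq_of_le_of_card_ge (fun g hg => Subgroup.mem_centralizer_singleton_iff.mpr
        (hcon g (Subgroup.mem_centralizer_singleton_iff.mp hg))) (le_of_eq ?_))
      have a1 := (Subgroup.centralizer ({x} : Set G)).card_mul_index
      rw [← (Subgroup.centralizer ({y} : Set G)).card_mul_index, hidx x hx, hidx y hy] at a1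
      exact (Nat.eq_of_mul_eq_mul_right hp.out.pos a1).symm
    obtain ⟨g, hgx, hgy⟩ := h1 x y hx hy hd
    obtain ⟨h, hhy, hhx⟩ := h1 y x hy hx (Ne.symm hd)
    have hcmul : ∀ g x y : G, cm g (x * y) = cm g x * (x * cm g y * x⁻¹) := fun g x y => by unfold cm; group
    have e1 : cm g (x * y) = cm g y := by
      rw [hcmul, cm_central hidx hnorm g y x, mul_inv_cancel_right,
        show cm g x = 1 by unfold cm; rw [hgx, mul_inv_cancel_right, mul_inv_cancel], one_mul]
    have e2 : cm h (x * y) = cm h x := by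
      rw [hcmul, show cm h y = 1 by unfold cm; rw [hhy, mul_inv_cancel_right, mul_inv_cancel], mul_one,
        mul_inv_cancel, mul_one]
    have hxy : x * y ∉ Subgroup.center G := fun hh => hne g y hgy (by
      rw [← e1]; unfold cm; rw [Subgroup.mem_center_iff.mp hh g]; group)
    rw [heq _ _ (hR x hx) (hR _ hxy) _ (hne h x hhx) ⟨h, rfl⟩ ⟨h, e2⟩,
      heq _ _ (hR y hy) (hR _ hxy) _ (hne g y hgy) ⟨g, rfl⟩ ⟨g, e1⟩]
  have hall : ∀ x y : G, x ∉ Subgroup.center G → y ∉ Subgroup.center G →
      (cmHom hidx hnorm x).range = (cmHom hidx hnorm y).range := by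
    intro x y hx hy
    by_cases hd : Subgroup.centralizer ({x} : Set G) = Subgroup.centralizer ({y} : Set G)
    · obtain ⟨w, hw⟩ : ∃ w, w * x ≠ x * w := by
        by_contra hcon
        push Not at hcon
        exact hx (Subgroup.mem_center_iff.mpr hcon)
      have hwc : w ∉ Subgroup.center G := hnc x w (Ne.symm hw)
      have hd2 : Subgroup.centralizer ({x} : Set G) ≠ Subgroup.centralizer ({w} : Set G) := fun h => by
        have : x ∈ Subgroup.centralizer ({w} : Set G) := h ▸ Subgroup.mem_centralizer_singleton_iff.mpr rfl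
        exact hw (Subgroup.mem_centralizer_singleton_iff.mp this).symm
      rw [hdiff x w hx hwc hd2, hdiff y w hy hwc (hd ▸ hd2)]
    · exact hdiff x y hx hy hd
  obtain ⟨x0, hx0⟩ : ∃ x0 : G, x0 ∉ Subgroup.center G := by
    by_contra hcon
    push Not at hcon
    exact hna ⟨⟨fun a b => (Subgroup.mem_center_iff.mp (hcon a) b).symm⟩⟩
  refine ⟨(cmHom hidx hnorm x0).range, hR x0 hx0, ?_, fun g x => ?_⟩
  · rintro _ ⟨g, rfl⟩
    exact Subgroup.mem_center_iff.mpr (cm_central hidx hnorm g x0)
  · by_cases hx : x ∈ Subgroup.center G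
    · rw [show cm g x = 1 by unfold cm; rw [Subgroup.mem_center_iff.mp hx g]; group]
      exact one_mem _
    · rw [hall x0 x hx0 hx]; exact ⟨g, rfl⟩

include hidx hnorm in
lemma orb_small (hna : ¬ IsMulCommutative G) (hp2 : ∀ d : ℕ, d ∣ Nat.card G → d ≠ 1 → p ≤ d) :
    orb G * p ≤ Nat.card G := by
  obtain ⟨T, hT, hTZ, hcm⟩ := exists_T hidx hnorm hna
  haveI hTn : T.Normal := ⟨fun t ht g => by rwa [Subgroup.mem_center_iff.mp (hTZ ht) g, mul_inv_cancel_right]⟩
  set Z := Subgroup.center G
  have hTp : ∀ t ∈ T, t ^ p = 1 := fun t ht => by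
    have h := pow_card_eq_one' (x := (⟨t, ht⟩ : T))
    rw [hT] at h
    exact congrArg Subtype.val h
  have hpow : ∀ x : G, x ^ p ∈ Z := fun x => Subgroup.mem_center_iff.mpr fun g => by
    have h1 : g * x * g⁻¹ = cm g x * x := by unfold cm; group
    have hc : Commute (cm g x) x := (Subgroup.mem_center_iff.mp (hTZ (hcm g x)) x).symm
    have h2 : (g * x * g⁻¹) ^ p = x ^ p := by rw [h1, hc.mul_pow, hTp _ (hcm g x), one_mul]
    rw [conj_pow] at h2
    exact mul_inv_eq_iff_eq_mul.mp h2
  -- data for the twist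
  obtain ⟨M, a, b, hMn, hMi, hZM, haM, hbM, hbc, hab, hbT, hbpT⟩ : ∃ (M : Subgroup G) (a b : G), M.Normal ∧
      M.index = p ∧ Z ≤ M ∧ a ∉ M ∧ b ∈ M ∧ (∀ m ∈ M, b * m = m * b) ∧ (a * b) ^ p = a ^ p ∧ b ∉ T ∧ b ^ p ∈ T := by
    by_cases hcase : ∃ z ∈ Z, z ^ p = 1 ∧ z ∉ T
    · obtain ⟨z, hz, hzp, hzT⟩ := hcase
      obtain ⟨x, hx⟩ : ∃ x : G, x ∉ Z := by
        by_contra hcon
        push Not at hcon
        exact hna ⟨⟨fun a b => (Subgroup.mem_center_iff.mp (hcon a) b).symm⟩⟩
      set M := Subgroup.centralizer ({x} : Set G)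
      obtain ⟨a, ha⟩ : ∃ a, a ∉ M := by
        by_contra hcon
        push Not at hcon
        exact index_ne_one_of_notMem hx (Subgroup.index_eq_one.mpr (eq_top_iff.mpr fun g _ => hcon g))
      refine ⟨M, a, z, hnorm x hx, hidx x hx, Subgroup.center_le_centralizer _, ha,
        Subgroup.mem_centralizer_singleton_iff.mpr (Subgroup.mem_center_iff.mp hz x).symm,
        fun m _ => (Subgroup.mem_center_iff.mp hz m).symm, ?_, hzT, by rw [hzp]; exact one_mem _⟩
      rw [Commute.mul_pow (show Commute a z from Subgroup.mem_center_iff.mp hz a), hzp, mul_one]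
    · push Not at hcase
      -- p-th powers of the centre
      let φ : Z →* Z := MonoidHom.mk' (fun z => z ^ p) (fun u v => (show Commute u v from Subtype.ext (Subgroup.mem_center_iff.mp v.2 u)).mul_pow p)
      have hIidx : φ.range.index ≤ p := by
        rw [← hT]
        have h1 := φ.range.card_mul_index
        have h2 := φ.ker.card_mul_index
        have h3 : φ.ker.index = Nat.card φ.range := Nat.card_congr (QuotientGroup.quotientKerEquivRange φ).toEquiv
        rw [h3] at h2
        have h4 : φ.range.index = Nat.card φ.ker := by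
          apply Nat.eq_of_mul_eq_mul_left (show 0 < Nat.card φ.range from Nat.card_pos)
          rw [h1, ← h2, mul_comm]
        rw [h4]
        exact Nat.card_le_card_of_injective (fun z : φ.ker => (⟨((z : Z) : G), hcase _ (z : Z).2
          (congrArg Subtype.val z.2 :)⟩ : T)) (fun u v h => Subtype.ext (Subtype.ext (congrArg Subtype.val h :)))
      obtain ⟨a0, b0, hab0⟩ : ∃ a b : G, a * b ≠ b * a := by
        by_contra hcon
        push Not at hcon
        exact hna ⟨⟨hcon⟩⟩
      -- the exponent adjusting element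
      obtain ⟨b, hbZ, hb⟩ : ∃ b : G, b ∉ Z ∧ ∀ a : G, a * b ≠ b * a → (a * b) ^ p = a ^ p := by
        by_cases hp2' : p = 2
        · subst hp2'
          have hc1 : cm b0 a0 ≠ 1 := fun e => hab0 (mul_inv_eq_iff_eq_mul.mp (mul_inv_eq_one.mp e)).symm
          have hTeq : ∀ t ∈ T, t ≠ 1 → t = cm b0 a0 := fun t ht h1 => by
            obtain ⟨u, v, huv, hu⟩ := Nat.card_eq_two_iff.mp hT
            have k1 : ∀ s : T, s = u ∨ s = v := fun s => by
              have : s ∈ ({u, v} : Set T) := hu ▸ Set.mem_univ s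
              simpa using this
            have h1' : (⟨t, ht⟩ : T) ≠ 1 := fun e => h1 (congrArg Subtype.val e)
            have h2' : (⟨cm b0 a0, hcm _ _⟩ : T) ≠ 1 := fun e => hc1 (congrArg Subtype.val e)
            rcases k1 1 with e | e <;> rcases k1 ⟨t, ht⟩ with f | f <;> rcases k1 ⟨cm b0 a0, hcm _ _⟩ with g | g
            all_goals first
              | exact congrArg Subtype.val (f.trans g.symm)
              | exact absurd (f.trans e.symm) h1'
              | exact absurd (g.trans e.symm) h2'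
          set c := cm b0 a0
          let q : G → Z := fun u => ⟨u ^ 2 * c, mul_mem (hpow u) (hTZ (hcm _ _))⟩
          obtain ⟨u, huZ, hu⟩ : ∃ u, u ∉ Z ∧ q u ∈ φ.range := by
            by_contra hcon
            push Not at hcon
            have ha0 : a0 ∉ Z := fun h => hab0 (Subgroup.mem_center_iff.mp h b0).symm
            have hb0 : b0 ∉ Z := fun h => hab0 (Subgroup.mem_center_iff.mp h a0)
            have hab1 : a0 * b0 ∉ Z := fun h => hab0 (by
              have := Subgroup.mem_center_iff.mp h a0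
              rw [mul_assoc a0 b0 a0] at this
              exact mul_left_cancel this)
            have hidx2 : φ.range.index = 2 := by
              have h1 : φ.range.index ≠ 1 := fun h => hcon a0 ha0 (Subgroup.index_eq_one.mp h ▸ Subgroup.mem_top _)
              have := Subgroup.index_ne_zero_of_finite (H := φ.range)
              omega
            refine hcon _ hab1 ?_
            have h12 : q a0 * q b0 ∈ φ.range := by
              rw [Subgroup.mul_mem_iff_of_index_two hidx2]
              exact iff_of_false (hcon a0 ha0) (hcon b0 hb0)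
            convert h12 using 1
            refine Subtype.ext ?_
            show (a0 * b0) ^ 2 * c = a0 ^ 2 * c * (b0 ^ 2 * c)
            rw [class_two_pow a0 b0 (cm_central hidx hnorm b0 a0) 2, Nat.choose_self, pow_one]
            have hcb : b0 ^ 2 * c = c * b0 ^ 2 := cm_central hidx hnorm b0 a0 (b0 ^ 2)
            show a0 ^ 2 * b0 ^ 2 * c * c = a0 ^ 2 * c * (b0 ^ 2 * c)
            rw [mul_assoc (a0 ^ 2) c, ← mul_assoc c, ← hcb]; group
          obtain ⟨z, hz⟩ := hu
          have hz' : (z : G) ^ 2 = u ^ 2 * c := congrArg Subtype.val hz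
          refine ⟨u * (z : G)⁻¹, fun h => huZ (by simpa using mul_mem h z.2), fun a hne => ?_⟩
          set b := u * (z : G)⁻¹
          have hb2 : b ^ 2 = c := by
            have hc2 : c * c = 1 := by rw [← pow_two]; exact hTp c (hcm _ _)
            have hzc : Commute u (z : G)⁻¹ := Commute.inv_right (Subgroup.mem_center_iff.mp z.2 u)
            rw [show b = u * (z : G)⁻¹ from rfl, hzc.mul_pow, inv_pow, hz', mul_inv_rev]
            rw [show c⁻¹ = c from inv_eq_of_mul_eq_one_left hc2, ← mul_assoc,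
              show u ^ 2 * c = c * u ^ 2 from cm_central hidx hnorm b0 a0 (u ^ 2), mul_inv_cancel_right]
          rw [class_two_pow a b (cm_central hidx hnorm b a) 2, Nat.choose_self, pow_one]
          have h1 : cm b a ≠ 1 := fun e => hne (mul_inv_eq_iff_eq_mul.mp (mul_inv_eq_one.mp e)).symm
          show a ^ 2 * b ^ 2 * cm b a = a ^ 2
          rw [hTeq _ (hcm b a) h1, hb2, mul_assoc, ← pow_two, hTp c (hcm _ _), mul_one]
        · have hmul : ∀ x y : G, (x * y) ^ p = x ^ p * y ^ p := fun x y => by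
            rw [class_two_pow x y (cm_central hidx hnorm y x) p]
            obtain ⟨k, hk⟩ := hp.out.dvd_choose_self (k := 2) (by norm_num)
              (lt_of_le_of_ne hp.out.two_le (Ne.symm hp2'))
            rw [hk, pow_mul, show (y * x * y⁻¹ * x⁻¹) ^ p = 1 from hTp _ (hcm y x), one_pow, mul_one]
          obtain ⟨u, huZ, z, hz⟩ : ∃ u, u ∉ Z ∧ ∃ z : Z, (z : G) ^ p = u ^ p := by
            have ha0 : a0 ∉ Z := fun h => hab0 (Subgroup.mem_center_iff.mp h b0).symm
            let q : G → Z := fun u => ⟨u ^ p, hpow u⟩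
            by_cases h : q a0 ∈ φ.range
            · obtain ⟨z, hz⟩ := h; exact ⟨a0, ha0, z, congrArg Subtype.val hz⟩
            have hcardq : Nat.card (Z ⧸ φ.range) = p := by
              have h1 : φ.range.index ≠ 1 := fun e => h (Subgroup.index_eq_one.mp e ▸ Subgroup.mem_top _)
              have h2 : φ.range.index ∣ Nat.card G := (Subgroup.index_dvd_card _).trans (Subgroup.card_subgroup_dvd_card Z)
              exact le_antisymm hIidx (hp2 _ h2 h1)
            obtain ⟨i, hi⟩ := Subgroup.mem_zpowers_iff.mp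
              (mem_zpowers_of_prime_card hcardq (g := (q a0 : Z ⧸ φ.range))
                (fun e => h ((QuotientGroup.eq_one_iff _).mp e)) (g' := (q b0 : Z ⧸ φ.range)))
            rw [← QuotientGroup.mk_zpow, QuotientGroup.eq] at hi
            obtain ⟨z, hz⟩ := hi
            refine ⟨(a0 ^ i)⁻¹ * b0, fun hh => hab0 ?_, z, ?_⟩
            · have h5 := Subgroup.mem_center_iff.mp hh a0
              have h6 : Commute a0 (a0 ^ i)⁻¹ := ((Commute.refl a0).zpow_right i).inv_right
              rw [← mul_assoc, h6.eq, mul_assoc, mul_assoc (a0 ^ i)⁻¹ b0] at h5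
              exact mul_left_cancel h5
            · rw [show (z : G) ^ p = ((φ z : Z) : G) from rfl, hz, hmul, inv_pow]
              show ((a0 ^ p) ^ i)⁻¹ * b0 ^ p = ((a0 ^ i) ^ p)⁻¹ * b0 ^ p
              rw [← zpow_natCast (a0 ^ i) p, ← zpow_natCast a0 p, ← zpow_mul, ← zpow_mul, mul_comm i]
          refine ⟨u * (z : G)⁻¹, fun h => huZ (by simpa using mul_mem h z.2), fun a _ => ?_⟩
          rw [hmul, hmul, inv_pow, hz, mul_inv_cancel, mul_one]
      obtain ⟨a, ha⟩ : ∃ a, a * b ≠ b * a := by
        by_contra hcon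
        push Not at hcon
        exact hbZ (Subgroup.mem_center_iff.mpr hcon)
      refine ⟨Subgroup.centralizer ({b} : Set G), a, b, hnorm b hbZ, hidx b hbZ, Subgroup.center_le_centralizer _,
        fun h => ha (Subgroup.mem_centralizer_singleton_iff.mp h),
        Subgroup.mem_centralizer_singleton_iff.mpr rfl,
        fun m hm => (Subgroup.mem_centralizer_singleton_iff.mp hm).symm, hb a ha,
        fun h => hbZ (hTZ h), ?_⟩
      have hcomm : cm b a ^ p = 1 := hTp _ (hcm b a)
      by_cases hp2' : p = 2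
      · subst hp2'
        have h1 := hb a ha
        rw [class_two_pow a b (cm_central hidx hnorm b a) 2, Nat.choose_self, pow_one, mul_assoc, mul_eq_left] at h1
        rw [eq_inv_of_mul_eq_one_left h1]
        exact inv_mem (hcm b a)
      · have h1 := hb a ha
        obtain ⟨k, hk⟩ := hp.out.dvd_choose_self (k := 2) (by norm_num)
          (lt_of_le_of_ne hp.out.two_le (Ne.symm hp2'))
        rw [class_two_pow a b (cm_central hidx hnorm b a) p, hk, pow_mul] at h1
        change a ^ p * b ^ p * (cm b a ^ p) ^ k = a ^ p at h1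
        rw [hcomm, one_pow, mul_one, mul_eq_left] at h1
        rw [h1]; exact one_mem _
  haveI := hMn
  obtain ⟨θ, hθM, hθ⟩ := exists_twist M hMi haM hbM hbc hab
  have hTM : T ≤ M := hTZ.trans hZM
  have hθb : θ b = b := hθM b hbM
  have hmk : ∀ u v : G, (u : G ⧸ T) * v = v * u := fun u v => by
    rw [← mul_inv_eq_iff_eq_mul, ← mul_inv_eq_one]
    rw [← QuotientGroup.mk_mul, ← QuotientGroup.mk_inv, ← QuotientGroup.mk_mul, ← QuotientGroup.mk_inv,
      ← QuotientGroup.mk_mul, QuotientGroup.eq_one_iff]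
    exact hcm u v
  -- each element outside M has an orbit with at least p^2 elements
  have hS : ∀ x : G, x ∉ M → x ∉ Z ∧ p * p ≤ Nat.card {y : G //
      (Quotient.mk _ y : MulAction.orbitRel.Quotient (MulAut G) G) = Quotient.mk _ x} := by
    intro x hx
    obtain ⟨i, hi, hθx⟩ := hθ x
    have hip : ¬ (p : ℤ) ∣ i := by
      rintro ⟨k, rfl⟩
      refine hx ?_
      have h1 : a ^ ((p : ℤ) * k) ∈ M := by
        rw [zpow_mul, zpow_natCast]
        exact zpow_mem (by rw [← hMi]; exact Subgroup.pow_index_mem M a) k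
      simpa using mul_mem h1 hi
    have hθT : ((θ x : G) : G ⧸ T) = (x : G ⧸ T) * (b : G ⧸ T) ^ i := by
      rw [hθx]
      simp only [QuotientGroup.mk_mul, QuotientGroup.mk_zpow, QuotientGroup.mk_inv]
      rw [
        Commute.mul_zpow (show Commute (a : G ⧸ T) b from hmk a b)]
      have hcomm' : (b : G ⧸ T) ^ i * ((a : G ⧸ T) ^ i)⁻¹ = ((a : G ⧸ T) ^ i)⁻¹ * (b : G ⧸ T) ^ i :=
        (((show Commute (b : G ⧸ T) a from hmk b a).zpow_left i).zpow_right i).inv_right
      rw [mul_assoc, ← mul_assoc ((b : G ⧸ T) ^ i), hcomm', ← mul_assoc, ← mul_assoc, mul_inv_cancel, one_mul,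
        ← QuotientGroup.mk_zpow, hmk]
    have hfix : ∀ k : ℕ, (((θ ^ k) x : G) : G ⧸ T) = (x : G ⧸ T) * ((b : G ⧸ T) ^ i) ^ k := by
      intro k
      induction k with
      | zero => simp
      | succ k ih =>
        rw [← QuotientGroup.mk_zpow, ← QuotientGroup.mk_pow, ← QuotientGroup.mk_mul, QuotientGroup.eq] at ih
        have h1 : θ (((θ ^ k) x)⁻¹ * (x * (b ^ i) ^ k)) ∈ T := by rw [hθM _ (hTM ih)]; exact ih
        rw [map_mul, map_inv, map_mul, map_pow, map_zpow, hθb, ← QuotientGroup.eq_one_iff, QuotientGroup.mk_mul,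
          QuotientGroup.mk_inv, QuotientGroup.mk_mul, hθT, inv_mul_eq_one, QuotientGroup.mk_pow, QuotientGroup.mk_zpow] at h1
        rw [pow_succ' θ, MulAut.mul_apply, h1, pow_succ', mul_assoc]
    have hout : ∀ k : ℕ, (θ ^ k) x ∉ M := by
      intro k h
      induction k with
      | zero => exact hx (by simpa using h)
      | succ k ih =>
        rw [pow_succ' θ, MulAut.mul_apply] at h
        refine ih ?_
        have h2 := hθM _ h
        exact θ.injective h2 ▸ h
    have hxZ : ∀ y : G, y ∉ M → y ∉ Z := fun y hy hyZ => hy (hZM hyZ)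
    refine ⟨hxZ x hx, ?_⟩
    have hclass : ∀ y : G, y ∉ Z → ∀ t ∈ T, ∃ g, g * y * g⁻¹ = y * t := by
      intro y hy t ht
      have hR : (cmHom hidx hnorm y).range ≤ T := by rintro _ ⟨g, rfl⟩; exact hcm g y
      have hc : Nat.card (cmHom hidx hnorm y).range = p := by
        have hker : (cmHom hidx hnorm y).ker = Subgroup.centralizer ({y} : Set G) := by
          ext g
          rw [MonoidHom.mem_ker, Subgroup.mem_centralizer_singleton_iff]
          show g * y * g⁻¹ * y⁻¹ = 1 ↔ _
          rw [mul_inv_eq_one, mul_inv_eq_iff_eq_mul]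
        refine (Nat.card_congr (QuotientGroup.quotientKerEquivRange _).toEquiv.symm).trans ?_
        show (cmHom hidx hnorm y).ker.index = p
        exact (congrArg Subgroup.index hker).trans (hidx y hy)
      rw [← Subgroup.eq_of_le_of_card_ge hR (by rw [hc, hT])] at ht
      obtain ⟨g, rfl⟩ := ht
      refine ⟨g, ?_⟩
      show _ = y * cm g y
      rw [cm_central hidx hnorm g y y]
      unfold cm
      group
    have hord : orderOf ((b : G ⧸ T) ^ i) = p := by
      refine orderOf_eq_prime ?_ ?_
      · rw [← zpow_natCast, ← zpow_mul, mul_comm, zpow_mul, zpow_natCast, ← QuotientGroup.mk_pow,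
          (QuotientGroup.eq_one_iff _).mpr hbpT, one_zpow]
      · intro h
        rw [← orderOf_dvd_iff_zpow_eq_one] at h
        refine hip ?_
        have : orderOf (b : G ⧸ T) = p := orderOf_eq_prime
          (by rw [← QuotientGroup.mk_pow, QuotientGroup.eq_one_iff]; exact hbpT)
          (fun e => hbT ((QuotientGroup.eq_one_iff b).mp e))
        rwa [this] at h
    calc p * p = Nat.card (Fin p × T) := by rw [Nat.card_prod, Nat.card_fin, hT]
      _ ≤ _ := by
        refine Nat.card_le_card_of_injective (fun kt : Fin p × T => ⟨(θ ^ (kt.1 : ℕ)) x * (kt.2 : G), ?_⟩) ?_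
        · obtain ⟨g, hg⟩ := hclass _ (hxZ _ (hout kt.1)) kt.2 kt.2.2
          rw [← hg, orb_conj]
          exact Quotient.sound ⟨θ ^ (kt.1 : ℕ), rfl⟩
        · rintro ⟨k, t⟩ ⟨k', t'⟩ h
          have h1 : (θ ^ (k : ℕ)) x * (t : G) = (θ ^ (k' : ℕ)) x * (t' : G) := congrArg Subtype.val h
          have h2 := congrArg (fun z : G => (z : G ⧸ T)) h1
          simp only [QuotientGroup.mk_mul, (QuotientGroup.eq_one_iff _).mpr t.2,
            (QuotientGroup.eq_one_iff _).mpr t'.2, mul_one, hfix] at h2
          have h3 : k = k' := Fin.ext (pow_injOn_Iio_orderOf (hord.symm ▸ k.2 : (k : ℕ) < _)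
            (hord.symm ▸ k'.2 : (k' : ℕ) < _) (mul_left_cancel h2))
          subst h3
          exact Prod.ext rfl (Subtype.ext (mul_left_cancel h1))
  haveI := Fintype.ofFinite G
  have hcount := count (fun x : G => (Quotient.mk _ x : MulAction.orbitRel.Quotient (MulAut G) G))
    (fun c => Quotient.exists_rep c) orb_conj p (p * p) hp.out.two_le (Nat.le_mul_self p)
    (fun x hx => (hidx x hx).ge) {x : G | x ∉ M} (fun x hx => hS x hx)
  have hsM : Nat.card {x : G | x ∉ M} + Nat.card M = Nat.card G := by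
    classical
    simp only [Nat.card_eq_fintype_card, Set.coe_setOf]
    rw [Fintype.card_subtype_compl, Nat.sub_add_cancel]
    exact Fintype.card_subtype_le _
  have hMc : Nat.card M * p = Nat.card G := hMi ▸ M.card_mul_index
  have hz := center_index (p := p) hna hp2
  refine final_arith (p := p) (z := Nat.card Z) (s := Nat.card {x : G | x ∉ M}) hp.out.two_le hcount ?_
  have : p * Nat.card M ≤ Nat.card G := by rw [mul_comm, hMc]
  nlinarith [hp.out.two_le]

end small

lemma orb_powers {p : ℕ} [Fact p.Prime] (hna : ¬ IsMulCommutative G) (hnil : Group.IsNilpotent G)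
    (hp2 : ∀ d : ℕ, d ∣ Nat.card G → d ≠ 1 → p ≤ d)
    (hpow : ∀ x : G, ∃ j : ℕ, (Subgroup.centralizer ({x} : Set G)).index = p ^ j) :
    orb G * p ≤ Nat.card G := by
  haveI := hnil
  have hp : p.Prime := Fact.out
  have hcl : ∀ x, x ∉ Subgroup.center G → p ≤ (Subgroup.centralizer ({x} : Set G)).index := fun x hx =>
    hp2 _ (Subgroup.index_dvd_card _) (index_ne_one_of_notMem hx)
  by_cases hall : ∀ x : G, x ∉ Subgroup.center G → (Subgroup.centralizer ({x} : Set G)).index = p
  · refine orb_small hall (fun x hx => ?_) hna hp2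
    set C := Subgroup.centralizer ({x} : Set G)
    have hC : C ≠ ⊤ := fun h => index_ne_one_of_notMem hx (Subgroup.index_eq_one.mpr h)
    have hlt := Group.normalizerCondition_of_isNilpotent (G := G) C (lt_top_iff_ne_top.mpr hC)
    have h1 := Subgroup.relIndex_mul_index hlt.le
    rw [hall x hx] at h1
    rcases hp.eq_one_or_self_of_dvd _ (Dvd.intro _ h1) with h | h
    · exact absurd (Subgroup.relIndex_eq_one.mp h) hlt.not_ge
    · rw [h] at h1
      have h2 : (Subgroup.normalizer (C : Set G)).index = 1 :=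
        Nat.eq_of_mul_eq_mul_left hp.pos (by rw [h1, mul_one])
      exact Subgroup.normalizer_eq_top_iff.mp (Subgroup.index_eq_one.mp h2)
  -- some element has at least p^2 conjugates
  push Not at hall
  obtain ⟨x, hx, hxp⟩ := hall
  set S := {y : G | p * p ≤ (Subgroup.centralizer ({y} : Set G)).index}
  have hbig : ∀ y : G, y ∉ S → (Subgroup.centralizer ({y} : Set G)).index ≤ p := fun y hy => by
    obtain ⟨j, hj⟩ := hpow y
    rw [hj]
    match j, hj with
    | 0, _ => exact hp.one_le
    | 1, _ => rw [pow_one]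
    | (j + 2), hj =>
      refine absurd ?_ hy
      show p * p ≤ _
      rw [hj, ← pow_two]
      exact Nat.pow_le_pow_right hp.pos (by omega)
  have hxS : p * p ≤ (Subgroup.centralizer ({x} : Set G)).index := by
    by_contra h
    exact hxp (le_antisymm (hbig x h) (hcl x hx))
  set C := Subgroup.centralizer ({x} : Set G)
  have hcov : ∀ y : G, y ∉ C → y ∈ S ∨ x * y ∈ S := by
    intro y hy
    by_contra hcon
    push Not at hcon
    set D := Subgroup.centralizer ({y} : Set G) ⊓ Subgroup.centralizer ({x * y} : Set G)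
    have hDC : D ≤ C := by
      rintro g ⟨h1, h2⟩
      have h1' := Subgroup.mem_centralizer_singleton_iff.mp h1
      have h2' := Subgroup.mem_centralizer_singleton_iff.mp h2
      refine Subgroup.mem_centralizer_singleton_iff.mpr (mul_right_cancel (b := y) ?_)
      rw [mul_assoc g, h2', mul_assoc x, ← h1', ← mul_assoc]
    have hDi : D.index ≤ p * p :=
      Subgroup.index_inf_le.trans (Nat.mul_le_mul (hbig y hcon.1) (hbig _ hcon.2))
    have hCD : C = D := by
      refine (Subgroup.eq_of_le_of_card_ge hDC ?_).symm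
      have a1 := C.card_mul_index
      have a2 := D.card_mul_index
      by_contra hlt
      push Not at hlt
      have : Nat.card D * D.index < Nat.card C * C.index :=
        Nat.mul_lt_mul_of_lt_of_le hlt (hDi.trans hxS) (Nat.pos_of_ne_zero Subgroup.index_ne_zero_of_finite)
      omega
    have hxD : x ∈ Subgroup.centralizer ({y} : Set G) :=
      (hCD ▸ (Subgroup.mem_centralizer_singleton_iff.mpr rfl : x ∈ C) : x ∈ D).1
    exact hy (Subgroup.mem_centralizer_singleton_iff.mpr (Subgroup.mem_centralizer_singleton_iff.mp hxD).symm)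
  have hcardC : Nat.card G ≤ Nat.card C + 2 * Nat.card S := by
    classical
    haveI := Fintype.ofFinite G
    have hsub : (Finset.univ : Finset G) ⊆ (Finset.univ.filter (· ∈ C) ∪ Finset.univ.filter (· ∈ S)) ∪
        (Finset.univ.filter (· ∈ S)).image (fun z => x⁻¹ * z) := by
      intro y _
      by_cases hy : y ∈ C
      · simp [hy]
      rcases hcov y hy with h | h
      · simp [h]
      · refine Finset.mem_union_right _ (Finset.mem_image.mpr ⟨x * y, by simp [h], by group⟩)
    have := (Finset.card_le_card hsub).trans (Finset.card_union_le _ _)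
    have := Finset.card_union_le (Finset.univ.filter (· ∈ C)) (Finset.univ.filter (· ∈ S))
    have := Finset.card_image_le (s := Finset.univ.filter (· ∈ S)) (f := fun z : G => x⁻¹ * z)
    have eC : (Finset.univ.filter (· ∈ C)).card = Nat.card C := by
      rw [Nat.card_eq_fintype_card, Fintype.card_subtype]
    have eS : (Finset.univ.filter (· ∈ S)).card = Nat.card S := by
      rw [Nat.card_eq_fintype_card, Fintype.card_subtype]
    rw [Finset.card_univ, ← Nat.card_eq_fintype_card] at *
    omega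
  have hSZ : ∀ y ∈ S, y ∉ Subgroup.center G := fun y hy hyZ => by
    have h1 : (Subgroup.centralizer ({y} : Set G)).index = 1 := Subgroup.index_eq_one.mpr
      (eq_top_iff.mpr fun g _ => Subgroup.mem_centralizer_singleton_iff.mpr (Subgroup.mem_center_iff.mp hyZ g))
    have h2 : p * p ≤ (Subgroup.centralizer ({y} : Set G)).index := hy
    rw [h1] at h2
    have := hp.two_le
    nlinarith
  have hCc : Nat.card C * (p * p) ≤ Nat.card G := by
    rw [← C.card_mul_index]; exact Nat.mul_le_mul_left _ hxS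
  have hzC : p * Nat.card (Subgroup.center G) ≤ Nat.card C := by
    have hle : Subgroup.center G ≤ C := Subgroup.center_le_centralizer _
    have hne : (Subgroup.center G).relIndex C ≠ 1 := fun h => hx
      (Subgroup.relIndex_eq_one.mp h (Subgroup.mem_centralizer_singleton_iff.mpr rfl))
    have h2 := hp2 _ ((Subgroup.relIndex_dvd_index_of_le hle).trans (Subgroup.index_dvd_card _)) hne
    have h3 := Subgroup.relIndex_mul_relIndex ⊥ _ _ bot_le hle
    rw [Subgroup.relIndex_bot_left, Subgroup.relIndex_bot_left] at h3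
    rw [← h3, mul_comm]
    exact Nat.mul_le_mul_left _ h2
  haveI := Fintype.ofFinite G
  have hcount := count (fun x : G => (Quotient.mk _ x : MulAction.orbitRel.Quotient (MulAut G) G))
    (fun c => Quotient.exists_rep c) orb_conj p (p * p) hp.two_le (Nat.le_mul_self p)
    hcl S (fun y hy => ⟨hSZ y hy, le_trans hy (index_le_fiber _ orb_conj y)⟩)
  refine final_arith hp.two_le hcount ?_
  have hsq : 3 ≤ p * p - 1 := by have := Nat.mul_le_mul hp.two_le hp.two_le; omega
  have h5 : Nat.card C * (p * p - 1) ≤ 2 * Nat.card S := by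
    rw [Nat.mul_sub, mul_one]; omega
  have h6 : Nat.card C * 3 ≤ Nat.card C * (p * p - 1) := Nat.mul_le_mul_left _ hsq
  omega

theorem main (G : Type u) [Group G] [Finite G] (hna : ¬ IsMulCommutative G) :
    orb G * (Nat.card G).minFac ≤ Nat.card G := by
  by_cases hnil : Group.IsNilpotent G
  swap
  · exact (Nat.mul_le_mul_right _ orb_le_kk).trans (kk_not_nilpotent _ G rfl hnil)
  haveI := hnil
  have hne : Nat.card G ≠ 1 := fun h => by
    haveI : Subsingleton G := (Nat.card_eq_one_iff_unique.mp h).1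
    exact hna ⟨⟨fun a b => Subsingleton.elim _ _⟩⟩
  set p := (Nat.card G).minFac
  have hp : p.Prime := Nat.minFac_prime hne
  haveI : Fact p.Prime := ⟨hp⟩
  have hp2 : ∀ d : ℕ, d ∣ Nat.card G → d ≠ 1 → p ≤ d := fun d => minFac_le_of_dvd
  let P : Sylow p G := default
  haveI hPn : (P : Subgroup G).Normal := P.normal_of_normalizerCondition (Group.normalizerCondition_of_isNilpotent (G := G))
  by_cases hab : ∀ x y : G ⧸ (P : Subgroup G), x * y = y * x
  · refine orb_powers hna hnil hp2 fun x => ?_
    set C := Subgroup.centralizer ({x} : Set G)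
    refine ⟨C.index.primeFactorsList.length, Nat.eq_prime_pow_of_unique_prime_dvd Subgroup.index_ne_zero_of_finite fun {q} hq hqC => ?_⟩
    by_contra hqp
    haveI : Fact q.Prime := ⟨hq⟩
    let Q : Sylow q G := default
    haveI hQn : (Q : Subgroup G).Normal := Q.normal_of_normalizerCondition (Group.normalizerCondition_of_isNilpotent (G := G))
    have hQC : (Q : Subgroup G) ≤ C := by
      intro g hg
      refine Subgroup.mem_centralizer_singleton_iff.mpr (mul_inv_eq_iff_eq_mul.mp (mul_inv_eq_one.mp ?_))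
      show g * x * g⁻¹ * x⁻¹ = 1
      have h1 : g * x * g⁻¹ * x⁻¹ ∈ (P : Subgroup G) := by
        rw [← QuotientGroup.eq_one_iff, QuotientGroup.mk_mul, QuotientGroup.mk_mul, QuotientGroup.mk_mul,
          QuotientGroup.mk_inv, QuotientGroup.mk_inv, hab (g : G ⧸ (P : Subgroup G)) (x : G ⧸ (P : Subgroup G))]
        group
      have h2 : g * x * g⁻¹ * x⁻¹ ∈ (Q : Subgroup G) := by
        rw [mul_assoc, mul_assoc, ← mul_assoc x]
        exact mul_mem hg (hQn.conj_mem _ (inv_mem hg) x)
      have hd := IsPGroup.disjoint_of_ne p q (Ne.symm hqp) _ _ P.2 Q.2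
      exact Subgroup.mem_bot.mp (hd.le_bot ⟨h1, h2⟩)
    exact Q.not_dvd_index (hqC.trans (Subgroup.index_dvd_of_le hQC))
  · set H := G ⧸ (P : Subgroup G)
    have hnaH : ¬ IsMulCommutative H := fun h => hab h.is_comm.comm
    haveI := Fintype.ofFinite H
    have hdH : ∀ d : ℕ, d ∣ Nat.card H → d ≠ 1 → p + 1 ≤ d := by
      intro d hd hd1
      have h1 := hp2 d (hd.trans (Subgroup.card_quotient_dvd_card _)) hd1
      rcases Nat.lt_or_ge p d with h | h
      · exact h
      · exact absurd (le_antisymm h h1 ▸ hd) (P.not_dvd_index)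
    have hcount := count (fun x : H => ConjClasses.mk x) ConjClasses.mk_surjective
      (fun g x => (ConjClasses.mk_eq_mk_iff_isConj.mpr (isConj_iff.mpr ⟨g, rfl⟩)).symm) (p + 1) (p + 1)
      (by have := hp.two_le; omega) le_rfl
      (fun x hx => hdH _ (Subgroup.index_dvd_card _) (index_ne_one_of_notMem hx)) ∅ (by simp)
    have hz := center_index (G := H) (p := p) hnaH (fun d h1 h2 => (Nat.le_succ p).trans (hdH d h1 h2))
    have h' : kk H * p ≤ Nat.card H := by
      have h2 : (kk H : ℚ) ≤ (Nat.card H : ℚ) / (p + 1) + (Nat.card (Subgroup.center H) : ℚ) * (1 - 1 / (p + 1)) := by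
        simpa [kk] using hcount
      have hz' : (p : ℚ) * p * Nat.card (Subgroup.center H) ≤ Nat.card H := by exact_mod_cast hz
      suffices (kk H : ℚ) * p ≤ Nat.card H by exact_mod_cast this
      have hp0 : (0 : ℚ) < (p : ℚ) + 1 := by positivity
      rw [one_sub_div hp0.ne', ← mul_div_assoc, ← add_div, le_div_iff₀ hp0, add_sub_cancel_right] at h2
      nlinarith
    calc orb G * p ≤ Nat.card (P : Subgroup G) * kk H * p := Nat.mul_le_mul_right _ (orb_le_kk.trans (kk_le_mul _))
      _ ≤ Nat.card (P : Subgroup G) * Nat.card H := by rw [mul_assoc]; exact Nat.mul_le_mul_left _ h'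
      _ = Nat.card G := by rw [Subgroup.card_eq_card_quotient_mul_card_subgroup (P : Subgroup G), mul_comm]

theorem result {G : Type*} [Group G] [Finite G] (hna : ¬ IsMulCommutative G) :
    Nat.card (MulAction.orbitRel.Quotient (MulAut G) G) ≤ Nat.card G / (Nat.card G).minFac :=
  (Nat.le_div_iff_mul_le (Nat.minFac_pos _)).mpr (main G hna)

end Cfsg.Agent.S4067
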