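import Cfsg.Statements.S4068
import Cfsg.Agent.Lib.FourOrbit.Main

set_option autoImplicit false
open Cfsg

namespace Cfsg.Agent.S4068

/-- A finite non-solvable group on which its automorphism group has exactly four orbits is isomorphic to the alternating group of degree 5. -/
theorem result {G : Type*} [Group G] [Finite G] (hns : ¬ Group.IsSolvable G)
    (h4 : Nat.card (MulAction.orbitRel.Quotient (MulAut G) G) = 4) : Nonempty (G ≃* alternatingGroup (Fin 5)) := by
  classical
  haveI := Fintype.ofFinite G
  -- the order map on orbits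
  let f : MulAction.orbitRel.Quotient (MulAut G) G → ℕ := Quotient.lift (fun x => orderOf x)
    (fun a b hab => by
      obtain ⟨α, hα⟩ := MulAction.orbitRel_apply.mp hab
      rw [← hα]
      exact orderOf_injective α.toMonoidHom α.injective b)
  haveI := Fintype.ofFinite (MulAction.orbitRel.Quotient (MulAut G) G)
  have hrange : ∀ x : G, orderOf x ∈ Finset.univ.image f := fun x =>
    Finset.mem_image.mpr ⟨Quotient.mk _ x, Finset.mem_univ _, rfl⟩
  have hcard : (Finset.univ.image f).card ≤ 4 := by
    refine le_trans Finset.card_image_le ?_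
    rw [Finset.card_univ, ← Nat.card_eq_fintype_card, h4]
  have hpf : 2 < (Nat.card G).primeFactors.card := by
    by_contra hlt
    apply hns
    have hle : (Nat.card G).primeFactors.card ≤ 2 := by omega
    rcases Finset.eq_empty_or_nonempty (Nat.card G).primeFactors with h0 | ⟨q, hq⟩
    · refine CfsgLib.FourOrbit.isSolvable_of_two_primes Nat.prime_two Nat.prime_three
        (by norm_num) fun s hs hd => ?_
      have : s ∈ (Nat.card G).primeFactors :=
        Nat.mem_primeFactors.mpr ⟨hs, hd, Nat.card_pos.ne'⟩
      rw [h0] at this; exact absurd this (Finset.notMem_empty s)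
    · rcases Finset.eq_empty_or_nonempty ((Nat.card G).primeFactors.erase q) with h1 | ⟨r, hr⟩
      · obtain ⟨r, hr, hrq⟩ : ∃ r : ℕ, r.Prime ∧ q ≠ r := by
          obtain ⟨r, hr1, hr2⟩ := Nat.exists_infinite_primes (q + 1)
          exact ⟨r, hr2, by omega⟩
        refine CfsgLib.FourOrbit.isSolvable_of_two_primes (Nat.prime_of_mem_primeFactors hq) hr
          hrq fun s hs hd => Or.inl ?_
        by_contra hne
        have : s ∈ (Nat.card G).primeFactors.erase q :=
          Finset.mem_erase.mpr ⟨hne, Nat.mem_primeFactors.mpr ⟨hs, hd, Nat.card_pos.ne'⟩⟩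
        rw [h1] at this; exact absurd this (Finset.notMem_empty s)
      · obtain ⟨hrq, hr'⟩ := Finset.mem_erase.mp hr
        refine CfsgLib.FourOrbit.isSolvable_of_two_primes (Nat.prime_of_mem_primeFactors hq)
          (Nat.prime_of_mem_primeFactors hr') (Ne.symm hrq) fun s hs hd => ?_
        have hsm : s ∈ (Nat.card G).primeFactors :=
          Nat.mem_primeFactors.mpr ⟨hs, hd, Nat.card_pos.ne'⟩
        by_contra hne
        push Not at hne
        have : ({q, r, s} : Finset ℕ) ⊆ (Nat.card G).primeFactors := by
          intro u hu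
          simp only [Finset.mem_insert, Finset.mem_singleton] at hu
          rcases hu with rfl | rfl | rfl <;> assumption
        have h3 := Finset.card_le_card this
        rw [Finset.card_insert_of_notMem (by simp [Ne.symm hrq, hne.1.symm]),
          Finset.card_pair (Ne.symm hne.2)] at h3
        omega
  -- orders are exactly 1 and the prime divisors
  have hsub : insert 1 (Nat.card G).primeFactors ⊆ Finset.univ.image f := by
    intro s hs
    rcases Finset.mem_insert.mp hs with rfl | hs
    · simpa using hrange 1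
    · haveI := Fact.mk (Nat.prime_of_mem_primeFactors hs)
      obtain ⟨x, hx⟩ := exists_prime_orderOf_dvd_card' s (Nat.dvd_of_mem_primeFactors hs)
      exact hx ▸ hrange x
  have h1 : 1 ∉ (Nat.card G).primeFactors := fun h =>
    Nat.not_prime_one (Nat.prime_of_mem_primeFactors h)
  have hc1 := Finset.card_le_card hsub
  rw [Finset.card_insert_of_notMem h1] at hc1
  have heq : insert 1 (Nat.card G).primeFactors = Finset.univ.image f :=
    Finset.eq_of_subset_of_card_le hsub (by rw [Finset.card_insert_of_notMem h1]; omega)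
  have hinj : Function.Injective f := by
    intro a b hab
    have : Set.InjOn f ((Finset.univ : Finset (MulAction.orbitRel.Quotient (MulAut G) G)) : Set _) := by
      refine Finset.card_image_iff.mp ?_
      rw [Finset.card_univ, ← Nat.card_eq_fintype_card, h4]
      omega
    exact this (Finset.mem_coe.mpr (Finset.mem_univ a)) (Finset.mem_coe.mpr (Finset.mem_univ b)) hab
  obtain ⟨p, q, r, hpq, hpr, hqr, hpqr⟩ := Finset.card_eq_three.mp
    (show (Nat.card G).primeFactors.card = 3 by omega)
  have hmem : ∀ s ∈ ({p, q, r} : Finset ℕ), s.Prime ∧ s ∣ Nat.card G := fun s hs => by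
    rw [← hpqr] at hs
    exact ⟨Nat.prime_of_mem_primeFactors hs, Nat.dvd_of_mem_primeFactors hs⟩
  have hall : ∀ x : G, x ≠ 1 → orderOf x = p ∨ orderOf x = q ∨ orderOf x = r := by
    intro x hx
    have h := hrange x
    rw [← heq, hpqr] at h
    simp only [Finset.mem_insert, Finset.mem_singleton, orderOf_eq_one_iff] at h
    exact h.resolve_left hx
  have haut : ∀ x y : G, orderOf x = orderOf y → ∃ α : MulAut G, α x = y := by
    intro x y hxy
    have := hinj (a₁ := Quotient.mk _ x) (a₂ := Quotient.mk _ y) hxy
    obtain ⟨α, hα⟩ := MulAction.orbitRel_apply.mp (Quotient.exact this)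
    refine ⟨α⁻¹, ?_⟩
    rw [← hα]
    exact inv_smul_smul α y
  have hS : CfsgLib.FourOrbit.Setup G p q r :=
    ⟨(hmem p (by simp)).1, (hmem q (by simp)).1, (hmem r (by simp)).1, hpq, hpr, hqr,
      (hmem p (by simp)).2, (hmem q (by simp)).2, (hmem r (by simp)).2, hall, haut, hns⟩
  -- one of the primes is two
  obtain ⟨q', r', h⟩ : ∃ q' r', CfsgLib.FourOrbit.Setup G 2 q' r' := by
    rcases hS.primes 2 Nat.prime_two hS.two_dvd with e | e | e
    · exact ⟨q, r, e ▸ hS⟩
    · subst e
      exact ⟨p, r, hS.qp, hS.pp, hS.rp, hS.pq.symm, hS.qr, hS.pr, hS.hq, hS.hp, hS.hr,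
        fun x hx => by rcases hS.all x hx with e | e | e <;> simp [e], hS.aut, hS.nsol⟩
    · subst e
      exact ⟨p, q, hS.rp, hS.pp, hS.qp, hS.pr.symm, hS.qr.symm, hS.pq, hS.hr, hS.hp, hS.hq,
        fun x hx => by rcases hS.all x hx with e | e | e <;> simp [e], hS.aut, hS.nsol⟩
  -- some odd prime is real, since the Sylow 2-subgroup is not normal
  by_cases hq : CfsgLib.FourOrbit.IsRealPrime G q'
  · exact h.iso_alt hq
  by_cases hr : CfsgLib.FourOrbit.IsRealPrime G r'
  · exact h.swap.iso_alt hr
  exfalso
  haveI := Fact.mk Nat.prime_two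
  haveI := Fact.mk h.qp
  haveI := Fact.mk h.rp
  obtain ⟨S⟩ := (inferInstance : Nonempty (Sylow 2 G))
  obtain ⟨Q⟩ := (inferInstance : Nonempty (Sylow q' G))
  obtain ⟨R⟩ := (inferInstance : Nonempty (Sylow r' G))
  have hp := h.pairs S Q R
  rw [if_neg hq, if_neg hr, mul_zero, mul_zero, add_zero, add_zero] at hp
  have hS2 : 2 ≤ Nat.card (S : Subgroup G) := by
    rw [S.card_eq_multiplicity]
    exact Nat.le_self_pow (Nat.prime_two.factorization_pos_of_dvd Nat.card_pos.ne' h.hp).ne' 2
  have hI : Nat.card {x : G // orderOf x = 2} = Nat.card (S : Subgroup G) - 1 := by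
    have hpos : 0 < Nat.card {x : G // orderOf x = 2} := by
      obtain ⟨x, hx⟩ := exists_prime_orderOf_dvd_card' 2 h.hp
      haveI : Nonempty {x : G // orderOf x = 2} := ⟨⟨x, hx⟩⟩
      exact Nat.card_pos
    refine Nat.eq_of_mul_eq_mul_left hpos ?_
    rw [hp, show Nat.card (S : Subgroup G) - 1 = 1 + (Nat.card (S : Subgroup G) - 2) by omega,
      Nat.mul_add, mul_one]
  rw [CfsgLib.FourOrbit.card_orderOf_eq h.centSylow S] at hI
  have hZ : Subgroup.center (S : Subgroup G) = ⊤ := top_unique fun x _ =>
    Subgroup.mem_center_iff.mpr fun y =>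
      Subtype.ext (CfsgLib.FourOrbit.commute_of_sylow_two h.centSylow S y.2 x.2)
  rw [hZ, Subgroup.card_top] at hI
  have hn : Nat.card (Sylow 2 G) = 1 :=
    Nat.eq_of_mul_eq_mul_right (show 0 < Nat.card (S : Subgroup G) - 1 by omega)
      (hI.trans (one_mul _).symm)
  apply h.nsol
  haveI : Subsingleton (Sylow 2 G) := (Nat.card_eq_one_iff_unique.mp hn).1
  haveI := S.normal_of_subsingleton
  haveI : Group.IsSolvable (S : Subgroup G) := by
    haveI := S.2.isNilpotent
    infer_instance
  haveI : Group.IsSolvable (G ⧸ (S : Subgroup G)) := by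
    refine CfsgLib.FourOrbit.isSolvable_of_two_primes h.qp h.rp h.qr fun s hs hd => ?_
    rcases h.primes s hs (hd.trans (Subgroup.card_quotient_dvd_card _)) with e | e | e
    · exfalso
      subst e
      rw [← Subgroup.index_eq_card] at hd
      exact S.not_dvd_index hd
    · exact Or.inl e
    · exact Or.inr e
  exact solvable_of_ker_le_range (S : Subgroup G).subtype (QuotientGroup.mk' (S : Subgroup G)) (by simp)

end Cfsg.Agent.S4068
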