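import Cfsg.Statements.S4071
import Mathlib

set_option autoImplicit false
set_option linter.style.haveILetI false
open Cfsg

namespace Cfsg.Agent.S4071

open scoped Pointwise

open Subgroup in
/-- If `x ∈ H`, then `H` is self-normalizing (given a fixed-point-free structure). -/
theorem selfNormalizing_of_mem {G : Type*} [Group G] [Finite G] (x : G) (A : Subgroup G)
    [A.Normal] (hA : ∀ a ∈ A, ∀ b ∈ A, a * b = b * a)
    (hdec : ∀ g : G, ∃ a ∈ A, ∃ i : ℤ, g = a * x ^ i)
    (hfpf : ∀ a : G, a ∈ A → a ≠ 1 → x * a * x⁻¹ ≠ a)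
    (H : Subgroup G) (hx : x ∈ H) : Subgroup.normalizer (H : Set G) = H := by
  classical
  refine le_antisymm ?_ Subgroup.le_normalizer
  intro g hg
  obtain ⟨a, ha, i, rfl⟩ := hdec g
  have hxi : x ^ i ∈ H := H.zpow_mem hx i
  have haN : a ∈ Subgroup.normalizer (H : Set G) := by
    have := (Subgroup.normalizer (H : Set G)).mul_mem hg (Subgroup.le_normalizer (H.inv_mem hxi))
    simpa using this
  -- the map `b ↦ [b, x]` on `H ⊓ A`
  have hφmem : ∀ b ∈ A, b * x * b⁻¹ * x⁻¹ ∈ A := fun b hb => by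
    have : b * (x * b⁻¹ * x⁻¹) ∈ A :=
      A.mul_mem hb (Subgroup.Normal.conj_mem inferInstance _ (A.inv_mem hb) x)
    simpa [mul_assoc] using this
  have hφinj : ∀ b ∈ A, ∀ c ∈ A, b * x * b⁻¹ * x⁻¹ = c * x * c⁻¹ * x⁻¹ → b = c := by
    intro b hb c hc hbc
    by_contra hne
    have hd : c⁻¹ * b ∈ A := A.mul_mem (A.inv_mem hc) hb
    have hd1 : c⁻¹ * b ≠ 1 := by
      intro h; exact hne (inv_mul_eq_one.mp h).symm
    refine hfpf _ hd hd1 ?_
    have h1 : b * x * b⁻¹ = c * x * c⁻¹ := mul_right_cancel hbc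
    calc x * (c⁻¹ * b) * x⁻¹ = c⁻¹ * (c * x * c⁻¹) * b * x⁻¹ := by group
      _ = c⁻¹ * (b * x * b⁻¹) * b * x⁻¹ := by rw [h1]
      _ = c⁻¹ * b := by group
  have hc : a * x * a⁻¹ * x⁻¹ ∈ H ⊓ A :=
    ⟨H.mul_mem ((Subgroup.mem_normalizer_iff.mp haN x).mp hx) (H.inv_mem hx), hφmem a ha⟩
  let φ : ↥(H ⊓ A) → ↥(H ⊓ A) := fun b =>
    ⟨(b : G) * x * (b : G)⁻¹ * x⁻¹,
      H.mul_mem (H.mul_mem (H.mul_mem b.2.1 hx) (H.inv_mem b.2.1)) (H.inv_mem hx), hφmem _ b.2.2⟩
  have hsurj : Function.Surjective φ := by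
    refine Finite.injective_iff_surjective.mp ?_
    intro b c hbc
    exact Subtype.ext (hφinj _ b.2.2 _ c.2.2 (congrArg Subtype.val hbc))
  obtain ⟨b, hb⟩ := hsurj ⟨_, hc⟩
  have hba : (b : G) = a := hφinj _ b.2.2 _ ha (congrArg Subtype.val hb)
  exact H.mul_mem (hba ▸ b.2.1) hxi

open Subgroup in
theorem backward {G : Type*} [Group G] [Finite G] (x : G) (A : Subgroup G) (p : ℕ) [Fact p.Prime]
    [A.Normal] (hA : ∀ a ∈ A, ∀ b ∈ A, a * b = b * a) (k : ℕ) (hk : orderOf x = p ^ k)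
    (hcompl : (Subgroup.zpowers x).IsComplement' A) (hxp : x ^ p ∈ Subgroup.center G)
    (hfpf : ∀ a : G, a ∈ A → a ≠ 1 → x * a * x⁻¹ ≠ a) :
    ∀ H : Subgroup G, ¬ IsMulCommutative H → Subgroup.normalizer (H : Set G) = H := by
  classical
  have hdec : ∀ g : G, ∃ a ∈ A, ∃ i : ℤ, g = a * x ^ i := by
    intro g
    obtain ⟨⟨⟨y, hy⟩, ⟨a, ha⟩⟩, h⟩ := hcompl.surjective g
    obtain ⟨i, rfl⟩ := hy
    simp only at h
    refine ⟨x ^ i * a * (x ^ i)⁻¹, Subgroup.Normal.conj_mem inferInstance a ha _, i, ?_⟩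
    simp [← h]
  intro H hH
  -- find an element of `H` not in `A ⟨x^p⟩`
  obtain ⟨a, ha, i, hpi, hmem⟩ : ∃ a ∈ A, ∃ i : ℤ, ¬ (p : ℤ) ∣ i ∧ a * x ^ i ∈ H := by
    by_contra hne
    push Not at hne
    apply hH
    refine ⟨⟨fun u v => Subtype.ext ?_⟩⟩
    obtain ⟨a, ha, i, hu⟩ := hdec (u : G)
    obtain ⟨b, hb, j, hv⟩ := hdec (v : G)
    obtain ⟨i', hi'⟩ : (p : ℤ) ∣ i := by
      by_contra h; exact hne a ha i h (hu ▸ u.2)
    obtain ⟨j', hj'⟩ : (p : ℤ) ∣ j := by
      by_contra h; exact hne b hb j h (hv ▸ v.2)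
    have hci : x ^ i ∈ Subgroup.center G := by
      rw [hi', zpow_mul, zpow_natCast]; exact (Subgroup.center G).zpow_mem hxp _
    have hcj : x ^ j ∈ Subgroup.center G := by
      rw [hj', zpow_mul, zpow_natCast]; exact (Subgroup.center G).zpow_mem hxp _
    have e1 := Subgroup.mem_center_iff.mp hci
    have e2 := Subgroup.mem_center_iff.mp hcj
    show (u : G) * v = v * u
    rw [hu, hv]
    calc a * x ^ i * (b * x ^ j) = a * (x ^ i * b) * x ^ j := by group
      _ = a * (b * x ^ i) * x ^ j := by rw [e1 b]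
      _ = (a * b) * (x ^ i * x ^ j) := by group
      _ = (b * a) * (x ^ j * x ^ i) := by rw [hA a ha b hb, ← zpow_add, ← zpow_add, add_comm]
      _ = b * (a * x ^ j) * x ^ i := by group
      _ = b * (x ^ j * a) * x ^ i := by rw [e2 a]
      _ = b * x ^ j * (a * x ^ i) := by group
  -- `x` is a power of `x ^ i`
  obtain ⟨m, hm⟩ : ∃ m : ℤ, (x ^ i) ^ m = x := by
    have hcop : IsCoprime ((p : ℤ) ^ k) i :=
      IsCoprime.pow_left ((Nat.prime_iff_prime_int.mp Fact.out).coprime_iff_not_dvd.mpr hpi)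
    obtain ⟨u, v, huv⟩ := hcop
    refine ⟨v, ?_⟩
    rw [← zpow_mul]
    have h1 : (x ^ ((p : ℤ) ^ k)) = 1 := by
      rw [← Nat.cast_pow, zpow_natCast, ← hk, pow_orderOf_eq_one]
    have h2 : i * v = 1 + (p : ℤ) ^ k * (-u) := by linear_combination huv
    rw [h2, zpow_add, zpow_mul, h1, one_zpow, mul_one, zpow_one]
  -- conjugate `a * x ^ i` to `x ^ i`
  obtain ⟨b, hb, hbb⟩ : ∃ b ∈ A, b * x ^ i * b⁻¹ = a * x ^ i := by
    have hmemA : ∀ b ∈ A, b * x ^ i * b⁻¹ * (x ^ i)⁻¹ ∈ A := fun b hb => by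
      have : b * (x ^ i * b⁻¹ * (x ^ i)⁻¹) ∈ A :=
        A.mul_mem hb (Subgroup.Normal.conj_mem inferInstance _ (A.inv_mem hb) _)
      simpa [mul_assoc] using this
    let f : A → A := fun b => ⟨(b : G) * x ^ i * (b : G)⁻¹ * (x ^ i)⁻¹, hmemA _ b.2⟩
    have hsurj : Function.Surjective f := by
      refine Finite.injective_iff_surjective.mp ?_
      intro b c hbc
      have h1 : (b : G) * x ^ i * (b : G)⁻¹ = c * x ^ i * (c : G)⁻¹ :=
        mul_right_cancel (congrArg Subtype.val hbc)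
      set d : G := (c : G)⁻¹ * b with hd
      have hdA : d ∈ A := A.mul_mem (A.inv_mem c.2) b.2
      have hcomm : Commute d (x ^ i) := by
        show d * x ^ i = x ^ i * d
        calc d * x ^ i = (c : G)⁻¹ * ((b : G) * x ^ i * (b : G)⁻¹) * b := by rw [hd]; group
          _ = (c : G)⁻¹ * ((c : G) * x ^ i * (c : G)⁻¹) * b := by rw [h1]
          _ = x ^ i * d := by rw [hd]; group
      have hcx : Commute d x := by
        have := hcomm.zpow_right m
        rwa [hm] at this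
      by_contra hne
      refine hfpf d hdA ?_ ?_
      · intro h
        exact hne (Subtype.ext (inv_mul_eq_one.mp h).symm)
      · rw [← hcx.eq]; group
    obtain ⟨b, hb⟩ := hsurj ⟨a, ha⟩
    refine ⟨b, b.2, ?_⟩
    have := congrArg Subtype.val hb
    simp only [f] at this
    rw [← this]; group
  -- pass to the conjugate containing `x`
  let H' : Subgroup G := H.comap (MulAut.conj b).toMonoidHom
  have hH' : ∀ n, n ∈ H' ↔ b * n * b⁻¹ ∈ H := fun n => Iff.rfl
  have hxi : x ^ i ∈ H' := by rw [hH', hbb]; exact hmem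
  have hx : x ∈ H' := by rw [← hm]; exact H'.zpow_mem hxi m
  have hN := selfNormalizing_of_mem x A hA hdec hfpf H' hx
  refine le_antisymm ?_ Subgroup.le_normalizer
  intro g hg
  have hg' : b⁻¹ * g * b ∈ Subgroup.normalizer (H' : Set G) := by
    rw [Subgroup.mem_normalizer_iff]
    intro n
    rw [hH', hH', Subgroup.mem_normalizer_iff.mp hg (b * n * b⁻¹)]
    simp [mul_assoc]
  rw [hN, hH'] at hg'
  simpa [mul_assoc] using hg'

theorem forward {G : Type*} [Group G] [Finite G] [Group.IsSolvable G] (hnn : ¬ Group.IsNilpotent G)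
    (hP : ∀ H : Subgroup G, ¬ IsMulCommutative H → Subgroup.normalizer (H : Set G) = H) :
    ∃ (x : G) (A : Subgroup G) (p : ℕ), p.Prime ∧ A.Normal ∧ IsMulCommutative A ∧ (∃ k : ℕ, orderOf x = p ^ k) ∧
      ¬ p ∣ Nat.card A ∧ (Subgroup.zpowers x).IsComplement' A ∧ x ^ p ∈ Subgroup.center G ∧
      ∀ a : G, a ∈ A → a ≠ 1 → x * a * x⁻¹ ≠ a := by
  classical
  haveI : Nontrivial G := by
    by_contra h
    rw [not_nontrivial_iff_subsingleton] at h
    exact hnn inferInstance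
  have hab : ∀ N : Subgroup G, N.Normal → N ≠ ⊤ → IsMulCommutative N := by
    intro N hN hne
    by_contra h
    exact hne ((hP N h).symm.trans (Subgroup.normalizer_eq_top_iff.mpr hN))
  obtain ⟨M, hMco, hGM⟩ : ∃ M : Subgroup G, IsCoatom M ∧ commutator G ≤ M :=
    (eq_top_or_exists_le_coatom (commutator G)).resolve_left
      (Group.IsSolvable.commutator_lt_top_of_nontrivial G).ne
  have hMn : M.Normal := Subgroup.Normal.of_commutator_le G hGM
  haveI := hMn
  have hMab := hab M hMn hMco.1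
  have hMc : ∀ a ∈ M, ∀ b ∈ M, a * b = b * a := fun a ha b hb =>
    congrArg Subtype.val (hMab.is_comm.comm ⟨a, ha⟩ ⟨b, hb⟩)
  -- a prime `p` with `g ^ p ∈ M`
  obtain ⟨p, hp, hpow⟩ : ∃ p : ℕ, p.Prime ∧ ∀ g : G, g ^ p ∈ M := by
    obtain ⟨g₀, hg₀⟩ : ∃ g : G, g ∉ M := by
      by_contra h; push Not at h
      exact hMco.1 (eq_top_iff.mpr fun g _ => h g)
    haveI : Nontrivial (G ⧸ M) :=
      ⟨(g₀ : G ⧸ M), 1, fun h => hg₀ ((QuotientGroup.eq_one_iff _).mp h)⟩
    obtain ⟨q, hq, hqd⟩ := Nat.exists_prime_and_dvd (n := Nat.card (G ⧸ M))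
      (Finite.one_lt_card (α := G ⧸ M)).ne'
    haveI : Fact q.Prime := ⟨hq⟩
    obtain ⟨y, hy⟩ := exists_prime_orderOf_dvd_card' (G := G ⧸ M) q hqd
    have htop : (Subgroup.zpowers y).comap (QuotientGroup.mk' M) = ⊤ := by
      refine hMco.2 _ (lt_of_le_of_ne ?_ ?_)
      · intro g hg
        simp [(QuotientGroup.eq_one_iff g).mpr hg]
      · intro h
        obtain ⟨g, rfl⟩ := QuotientGroup.mk'_surjective M y
        have : g ∈ M := by rw [h]; exact Subgroup.mem_zpowers _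
        have h1 : QuotientGroup.mk' M g = 1 := (QuotientGroup.eq_one_iff g).mpr this
        rw [h1, orderOf_one] at hy
        exact hq.one_lt.ne hy
    refine ⟨q, hq, fun g => (QuotientGroup.eq_one_iff _).mp ?_⟩
    have hg : (g : G ⧸ M) ∈ Subgroup.zpowers y :=
      (eq_top_iff.mp htop) (Subgroup.mem_top g)
    obtain ⟨j, hj⟩ := hg
    simp only at hj
    rw [QuotientGroup.mk_pow, ← hj, ← hy, ← zpow_natCast, ← zpow_mul, mul_comm, zpow_mul,
      zpow_natCast, pow_orderOf_eq_one, one_zpow]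
  haveI : Fact p.Prime := ⟨hp⟩
  set k := ordCompl[p] (Nat.card M) with hk
  have hkM : Nat.card M = p ^ (Nat.card M).factorization p * k :=
    (Nat.ordProj_mul_ordCompl_eq_self (Nat.card M) p).symm
  have hpk : ¬ p ∣ k := Nat.not_dvd_ordCompl hp Nat.card_pos.ne'
  let A : Subgroup G :=
    { carrier := {g | g ∈ M ∧ g ^ k = 1}
      one_mem' := ⟨M.one_mem, one_pow _⟩
      mul_mem' := fun {a b} ha hb => ⟨M.mul_mem ha.1 hb.1, by
        rw [(show Commute a b from hMc a ha.1 b hb.1).mul_pow, ha.2, hb.2, mul_one]⟩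
      inv_mem' := fun {a} ha => ⟨M.inv_mem ha.1, by rw [inv_pow, ha.2, inv_one]⟩ }
  have hA : ∀ g, g ∈ A ↔ g ∈ M ∧ g ^ k = 1 := fun g => Iff.rfl
  have hAM : A ≤ M := fun g hg => hg.1
  have hAn : A.Normal := ⟨fun a ha g => ⟨hMn.conj_mem a ha.1 g, by
    rw [conj_pow, ha.2, mul_one, mul_inv_cancel]⟩⟩
  haveI := hAn
  have hpA : ¬ p ∣ Nat.card A := by
    intro h
    obtain ⟨a, ha⟩ := exists_prime_orderOf_dvd_card' (G := A) p h
    apply hpk
    rw [← ha]
    exact orderOf_dvd_of_pow_eq_one (Subtype.ext (by simpa using a.2.2))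
  have hQ : IsPGroup p (G ⧸ A) := by
    intro q
    obtain ⟨g, rfl⟩ := QuotientGroup.mk'_surjective A q
    refine ⟨(Nat.card M).factorization p + 1, ?_⟩
    rw [← map_pow]
    refine (QuotientGroup.eq_one_iff _).mpr ⟨?_, ?_⟩
    · rw [pow_succ', pow_mul]; exact M.pow_mem (hpow g) _
    · rw [pow_succ', pow_mul, ← pow_mul, ← hkM]
      exact congrArg Subtype.val (pow_card_eq_one' (x := (⟨g ^ p, hpow g⟩ : M)))
  -- the element `x`
  obtain ⟨g₀, hg₀⟩ : ∃ g : G, g ∉ M := by
    by_contra h; push Not at h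
    exact hMco.1 (eq_top_iff.mpr fun g _ => h g)
  set m := ordCompl[p] (Nat.card G) with hm
  set x := g₀ ^ m with hxdef
  obtain ⟨e, he⟩ : ∃ e, orderOf x = p ^ e := by
    have : x ^ (p ^ (Nat.card G).factorization p) = 1 := by
      rw [hxdef, ← pow_mul, mul_comm, hm, Nat.ordProj_mul_ordCompl_eq_self, pow_card_eq_one']
    obtain ⟨e, -, he⟩ := (Nat.dvd_prime_pow hp).mp (orderOf_dvd_of_pow_eq_one this)
    exact ⟨e, he⟩
  have hxM : x ∉ M := by
    intro h
    apply hg₀
    have hpm : Nat.Coprime m p :=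
      ((Nat.Prime.coprime_iff_not_dvd hp).mpr (Nat.not_dvd_ordCompl hp Nat.card_pos.ne')).symm
    obtain ⟨u, v, huv⟩ : IsCoprime (m : ℤ) (p : ℤ) :=
      Nat.isCoprime_iff_coprime.mpr hpm
    have : g₀ = (g₀ ^ m) ^ u * (g₀ ^ p) ^ v := by
      rw [← zpow_natCast, ← zpow_natCast, ← zpow_mul, ← zpow_mul, ← zpow_add,
        mul_comm (m : ℤ), mul_comm (p : ℤ), huv, zpow_one]
    rw [this]
    exact M.mul_mem (M.zpow_mem h u) (M.zpow_mem (hpow g₀) v)
  -- anything commuting with `x` and `M` is central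
  have hcen : ∀ c : G, (∀ a ∈ M, a * c = c * a) → x * c = c * x → c ∈ Subgroup.center G := by
    intro c h1 h2
    have htop : Subgroup.centralizer {c} = ⊤ := by
      refine hMco.2 _ (lt_of_le_of_ne ?_ ?_)
      · intro a ha; rw [Subgroup.mem_centralizer_singleton_iff]; exact h1 a ha
      · intro h; apply hxM; rw [h, Subgroup.mem_centralizer_singleton_iff]; exact h2
    rw [Subgroup.mem_center_iff]
    intro g
    have : g ∈ Subgroup.centralizer {c} := by rw [htop]; exact Subgroup.mem_top g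
    exact Subgroup.mem_centralizer_singleton_iff.mp this
  -- `x` does not centralize `A`
  obtain ⟨a₀, ha₀, hna₀⟩ : ∃ a ∈ A, x * a ≠ a * x := by
    by_contra h
    push Not at h
    apply hnn
    haveI : Group.IsNilpotent (G ⧸ A) := hQ.isNilpotent
    refine Subgroup.isNilpotent_of_ker_le_center (QuotientGroup.mk' A) ?_
    rw [QuotientGroup.ker_mk']
    exact fun a ha => hcen a (fun b hb => hMc b hb a (hAM ha)) (h a ha)
  -- `A ⊔ ⟨x⟩ = ⊤`
  have hsup : A ⊔ Subgroup.zpowers x = ⊤ := by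
    set H := A ⊔ Subgroup.zpowers x with hH
    have hxH : x ∈ H := Subgroup.mem_sup_right (Subgroup.mem_zpowers x)
    have hna : ¬ IsMulCommutative H := fun h =>
      hna₀ (congrArg Subtype.val (h.is_comm.comm ⟨x, hxH⟩ ⟨a₀, Subgroup.mem_sup_left ha₀⟩))
    have hself := hP H hna
    haveI : Group.IsNilpotent (G ⧸ A) := hQ.isNilpotent
    have hcm : (H.map (QuotientGroup.mk' A)).comap (QuotientGroup.mk' A) = H := by
      rw [Subgroup.comap_map_eq, QuotientGroup.ker_mk', sup_eq_left.mpr le_sup_left]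
    by_contra hne
    have hlt : H.map (QuotientGroup.mk' A) < ⊤ := by
      refine lt_top_iff_ne_top.mpr fun h => hne ?_
      rw [← hcm, h, Subgroup.comap_top]
    have hN := Group.normalizerCondition_of_isNilpotent _ hlt
    apply hN.ne
    apply Subgroup.comap_injective (QuotientGroup.mk'_surjective A)
    rw [hcm, Subgroup.comap_normalizer_eq_of_surjective _ (QuotientGroup.mk'_surjective A), hcm, hself]
  have hdisj : Disjoint (Subgroup.zpowers x) A := by
    refine Subgroup.disjoint_of_coprime_natCard ?_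
    rw [Nat.card_zpowers, he]
    exact Nat.Coprime.pow_left _ ((Nat.Prime.coprime_iff_not_dvd hp).mpr hpA)
  refine ⟨x, A, p, hp, hAn, ⟨⟨fun u v => Subtype.ext (hMc _ (hAM u.2) _ (hAM v.2))⟩⟩, ⟨e, he⟩, hpA,
    Subgroup.isComplement'_of_disjoint_and_mul_eq_univ hdisj ?_, ?_, ?_⟩
  · rw [← Subgroup.mul_normal, sup_comm, hsup, Subgroup.coe_top]
  · refine hcen _ (fun a ha => hMc a ha _ (hpow x)) ?_
    rw [← pow_succ', pow_succ]
  -- fixed-point-freeness
  intro c hc hc1 hfix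
  have hmemA : ∀ a ∈ A, x * a * x⁻¹ * a⁻¹ ∈ A := fun a ha =>
    A.mul_mem (hAn.conj_mem a ha x) (A.inv_mem ha)
  have hAc : ∀ a ∈ A, ∀ b ∈ A, a * b = b * a := fun a ha b hb => hMc a (hAM ha) b (hAM hb)
  let f : A →* G :=
    { toFun := fun a => x * (a : G) * x⁻¹ * (a : G)⁻¹
      map_one' := by simp
      map_mul' := fun a b => by
        simp only [Subgroup.coe_mul, mul_inv_rev]
        calc x * ((a : G) * b) * x⁻¹ * ((b : G)⁻¹ * (a : G)⁻¹)
            = (x * a * x⁻¹) * ((x * b * x⁻¹ * (b : G)⁻¹) * (a : G)⁻¹) := by group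
          _ = (x * a * x⁻¹) * ((a : G)⁻¹ * (x * b * x⁻¹ * (b : G)⁻¹)) := by
              rw [hAc _ (hmemA _ b.2) _ (A.inv_mem a.2)]
          _ = _ := by group }
  have hfA : f.range ≤ A := by
    rintro _ ⟨a, rfl⟩; exact hmemA _ a.2
  -- `ker ∩ range` is trivial
  have hkr : ∀ i ∈ f.range, x * i * x⁻¹ = i → i = 1 := by
    rintro _ ⟨a, rfl⟩ hi
    set i := f a with hidef
    have hiA : i ∈ A := hfA ⟨a, rfl⟩
    have hxa : x * (a : G) * x⁻¹ = i * (a : G) := by
      rw [hidef]; show _ = x * (a : G) * x⁻¹ * (a : G)⁻¹ * a; group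
    have hn : ∀ n : ℕ, x ^ n * (a : G) * (x ^ n)⁻¹ = i ^ n * a := by
      intro n
      induction n with
      | zero => simp
      | succ n ih =>
        have hc : SemiconjBy x i i := by
          show x * i = i * x
          calc x * i = x * i * x⁻¹ * x := by group
            _ = i * x := by rw [hi]
        calc x ^ (n + 1) * (a : G) * (x ^ (n + 1))⁻¹
            = x * (x ^ n * a * (x ^ n)⁻¹) * x⁻¹ := by rw [pow_succ']; group
          _ = (x * i ^ n) * a * x⁻¹ := by rw [ih]; group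
          _ = (i ^ n * x) * a * x⁻¹ := by rw [(hc.pow_right n).eq]
          _ = i ^ n * (x * a * x⁻¹) := by group
          _ = i ^ (n + 1) * a := by rw [hxa, pow_succ, mul_assoc]
    have h1 := hn (orderOf x)
    rw [pow_orderOf_eq_one, one_mul, inv_one, mul_one] at h1
    have h2 : i ^ (orderOf x) = 1 := mul_eq_right.mp h1.symm
    have h3 : i ^ Nat.card A = 1 := congrArg Subtype.val (pow_card_eq_one' (x := (⟨i, hiA⟩ : A)))
    have hcop : Nat.Coprime (orderOf x) (Nat.card A) := by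
      rw [he]; exact Nat.Coprime.pow_left _ ((Nat.Prime.coprime_iff_not_dvd hp).mpr hpA)
    have := pow_gcd_eq_one.mpr ⟨h2, h3⟩
    rwa [hcop.gcd_eq_one, pow_one] at this
  have hxnorm : Subgroup.zpowers x ≤ Subgroup.normalizer (f.range : Set G) := by
    rw [Subgroup.zpowers_le]
    have hle : f.range.map (MulAut.conj x).toMonoidHom ≤ f.range := by
      rintro _ ⟨_, ⟨a, rfl⟩, rfl⟩
      refine ⟨⟨x * (a : G) * x⁻¹, hAn.conj_mem _ a.2 x⟩, ?_⟩
      show x * (x * (a : G) * x⁻¹) * x⁻¹ * (x * (a : G) * x⁻¹)⁻¹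
        = x * (x * (a : G) * x⁻¹ * (a : G)⁻¹) * x⁻¹
      group
    have heq : f.range.map (MulAut.conj x).toMonoidHom = f.range := by
      refine Subgroup.eq_of_le_of_card_ge hle ?_
      rw [Subgroup.card_map_of_injective (MulAut.conj x).injective]
    rw [Subgroup.mem_normalizer_iff]
    intro n
    conv_rhs => rw [← heq]
    exact (Subgroup.mem_map_iff_mem (MulAut.conj x).injective (K := f.range) (x := n)).symm
  set H0 := f.range ⊔ Subgroup.zpowers x with hH0
  have hcarrier : (H0 : Set G) = (f.range : Set G) * (Subgroup.zpowers x : Set G) :=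
    Subgroup.coe_mul_of_right_le_normalizer_left _ _ hxnorm
  have hi0 : f ⟨a₀, ha₀⟩ ≠ 1 := by
    intro h
    apply hna₀
    have h' : x * a₀ * x⁻¹ * a₀⁻¹ = 1 := h
    rw [mul_inv_eq_one, mul_inv_eq_iff_eq_mul] at h'
    exact h'
  have hna : ¬ IsMulCommutative H0 := by
    intro h
    refine hi0 (hkr _ ⟨_, rfl⟩ ?_)
    have := congrArg Subtype.val (h.is_comm.comm ⟨x, Subgroup.mem_sup_right (Subgroup.mem_zpowers x)⟩
      ⟨f ⟨a₀, ha₀⟩, Subgroup.mem_sup_left ⟨_, rfl⟩⟩)
    simp only [Subgroup.coe_mul] at this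
    rw [this]; group
  have hcH : c ∈ Subgroup.normalizer (H0 : Set G) := by
    refine Subgroup.centralizer_le_normalizer (H0 : Set G) ?_
    have hle : H0 ≤ Subgroup.centralizer {c} := by
      refine sup_le ?_ (Subgroup.zpowers_le.mpr ?_)
      · intro i hi; rw [Subgroup.mem_centralizer_singleton_iff]; exact hAc i (hfA hi) c hc
      · rw [Subgroup.mem_centralizer_singleton_iff]
        calc x * c = x * c * x⁻¹ * x := by group
          _ = c * x := by rw [hfix]
    intro h hh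
    exact Subgroup.mem_centralizer_singleton_iff.mp (hle hh)
  rw [hP H0 hna, ← SetLike.mem_coe, hcarrier] at hcH
  obtain ⟨i, hi, y, hy, hiy⟩ := hcH
  simp only at hiy
  have hyA : y ∈ A := by
    have : y = i⁻¹ * c := by rw [← hiy]; group
    rw [this]; exact A.mul_mem (A.inv_mem (hfA hi)) hc
  have hy1 : y = 1 := Subgroup.disjoint_def.mp hdisj hy hyA
  rw [hy1, mul_one] at hiy
  subst hiy
  exact hc1 (hkr i hi hfix)


/-- Let G be a finite solvable non-nilpotent group. Every non-abelian subgroup of G is self-normalizing if and only if G is a semidirect product ⟨x⟩ ⋉ A in which ⟨x⟩ is a p-group for some prime p, A is a normal abelian subgroup of order prime to p, x^p is central in G, and x acts fixed-point-freely on A (no non-identity element of A commutes with x). -/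
theorem result {G : Type*} [Group G] [Finite G]
    [Group.IsSolvable G] (hnn : ¬ Group.IsNilpotent G) :
    (∀ H : Subgroup G, ¬ IsMulCommutative H → Subgroup.normalizer (H : Set G) = H) ↔
    ∃ (x : G) (A : Subgroup G) (p : ℕ), p.Prime ∧ A.Normal ∧ IsMulCommutative A ∧ (∃ k : ℕ, orderOf x = p ^ k) ∧
      ¬ p ∣ Nat.card A ∧ (Subgroup.zpowers x).IsComplement' A ∧ x ^ p ∈ Subgroup.center G ∧
      ∀ a : G, a ∈ A → a ≠ 1 → x * a * x⁻¹ ≠ a := by
  refine ⟨forward hnn, ?_⟩
  rintro ⟨x, A, p, hp, hAn, hAab, ⟨k, hk⟩, -, hcompl, hxp, hfpf⟩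
  haveI : Fact p.Prime := ⟨hp⟩
  exact backward x A p (fun a ha b hb => congrArg Subtype.val (hAab.is_comm.comm ⟨a, ha⟩ ⟨b, hb⟩))
    k hk hcompl hxp hfpf

end Cfsg.Agent.S4071
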