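import Cfsg.Statements.S4072
import Cfsg.Agent.Lib.PGroup.SymplecticType

set_option autoImplicit false
set_option linter.style.haveILetI false
open Cfsg

namespace Cfsg.Agent.S4072

open scoped commutatorElement

/-- A finite group in which every non-abelian subgroup is self-normalizing is solvable or simple. -/
theorem result {G : Type*} [Group G] [Finite G] (hS : ∀ H : Subgroup G, ¬ IsMulCommutative H → Subgroup.normalizer (H : Set G) = H) :
    Group.IsSolvable G ∨ IsSimpleGroup G := by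
  classical
  have habel : ∀ N : Subgroup G, N.Normal → N ≠ ⊤ → IsMulCommutative N := by
    intro N hN hne
    by_contra h
    exact hne ((hS N h).symm.trans (Subgroup.normalizer_eq_top_iff.mpr hN))
  rcases subsingleton_or_nontrivial G with hsub | hnt
  · exact Or.inl inferInstance
  by_cases hperf : commutator G = ⊤
  swap
  · left
    haveI := habel _ inferInstance hperf
    refine ⟨⟨2, ?_⟩⟩
    rw [derivedSeries_succ, derivedSeries_succ, derivedSeries_zero, ← commutator_def]
    exact (Subgroup.commutator_eq_bot_iff_le_centralizer).mpr fun u hu =>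
      Subgroup.mem_centralizer_iff.mpr fun v hv => congrArg Subtype.val (mul_comm' (⟨v, hv⟩ : commutator G) ⟨u, hu⟩)
  right
  by_contra hsimp
  obtain ⟨N, hN, hN1, hN2⟩ : ∃ N : Subgroup G, N.Normal ∧ N ≠ ⊥ ∧ N ≠ ⊤ := by
    by_contra h
    push Not at h
    exact hsimp ⟨fun H hH => (eq_or_ne H ⊥).imp id (h H hH)⟩
  haveI : Finite (Subgroup G) := Finite.of_injective (fun K => (K : Set G)) SetLike.coe_injective
  obtain ⟨R, hNR, ⟨⟨hRn, hRt⟩, hRmax⟩⟩ := Finite.exists_le_maximal
    (p := fun K : Subgroup G => K.Normal ∧ K ≠ ⊤) (a := N) ⟨hN, hN2⟩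
  haveI := hRn
  have hR1 : R ≠ ⊥ := fun h => hN1 (le_bot_iff.mp (hNR.trans h.le))
  set π := QuotientGroup.mk' R with hπ
  have hπs : Function.Surjective π := QuotientGroup.mk'_surjective R
  haveI : Nontrivial (G ⧸ R) := QuotientGroup.nontrivial_iff.mpr hRt
  haveI hsimpQ : IsSimpleGroup (G ⧸ R) := ⟨fun H hH => by
    haveI := hH
    by_cases h : H.comap π = ⊤
    · right
      rw [← Subgroup.map_comap_eq_self_of_surjective hπs H, h, Subgroup.map_top_of_surjective _ hπs]
    · left
      have hle : R ≤ H.comap π := fun r hr => by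
        rw [Subgroup.mem_comap, hπ, QuotientGroup.mk'_apply, (QuotientGroup.eq_one_iff r).mpr hr]
        exact H.one_mem
      have := hRmax ⟨inferInstance, h⟩ hle
      rw [← Subgroup.map_comap_eq_self_of_surjective hπs H, le_antisymm this hle, hπ, QuotientGroup.map_mk'_self]⟩
  have hQna : ¬ ∀ u v : G ⧸ R, u * v = v * u := fun h => hRt (top_le_iff.mp (hperf ▸ by
    rw [commutator_def, Subgroup.commutator_le]
    intro u _ v _
    rw [← QuotientGroup.eq_one_iff, ← QuotientGroup.mk'_apply, map_commutatorElement,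
      commutatorElement_eq_one_iff_mul_comm]
    exact h _ _))
  -- no Sylow subgroup of the quotient is central in its normalizer
  have hburn : ∀ (q : ℕ) [Fact q.Prime] (T : Sylow q (G ⧸ R)), (T : Subgroup (G ⧸ R)) ≠ ⊥ →
      ¬ Subgroup.normalizer ((T : Subgroup (G ⧸ R)) : Set (G ⧸ R))
        ≤ Subgroup.centralizer ((T : Subgroup (G ⧸ R)) : Set (G ⧸ R)) := by
    intro q _ T hT hle
    have hc := MonoidHom.ker_transferSylow_isComplement' T hle
    rcases (inferInstance : ((MonoidHom.transferSylow T hle).ker).Normal).eq_bot_or_eq_top with h | h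
    · have htop : (T : Subgroup (G ⧸ R)) = ⊤ := by
        rw [h] at hc
        exact Subgroup.isComplement'_bot_left.mp hc
      exact hQna fun u v => (Subgroup.mem_centralizer_iff.mp (hle (Subgroup.le_normalizer (htop.ge (Subgroup.mem_top v))))
        u (htop.ge (Subgroup.mem_top u)))
    · rw [h] at hc
      exact hT (Subgroup.isComplement'_top_left.mp hc)
  have hnormQ : ∀ H : Subgroup (G ⧸ R), ¬ IsMulCommutative (H.comap π) →
      Subgroup.normalizer (H : Set (G ⧸ R)) = H := by
    intro H hH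
    refine Subgroup.comap_injective hπs ?_
    rw [Subgroup.comap_normalizer_eq_of_surjective _ hπs]
    exact hS _ hH
  have hRH : ∀ H : Subgroup (G ⧸ R), R ≤ H.comap π := fun H r hr => by
    rw [Subgroup.mem_comap, hπ, QuotientGroup.mk'_apply, (QuotientGroup.eq_one_iff r).mpr hr]
    exact H.one_mem
  haveI hRab : IsMulCommutative R := habel R hRn hRt
  have hRC : R ≤ Subgroup.centralizer (R : Set G) := fun r hr => Subgroup.mem_centralizer_iff.mpr fun s hs =>
    congrArg Subtype.val (mul_comm' (⟨s, hs⟩ : R) ⟨r, hr⟩)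
  by_cases hcen : Subgroup.centralizer (R : Set G) = ⊤
  swap
  · -- `R` is self-centralizing
    have hCR : Subgroup.centralizer (R : Set G) ≤ R := hRmax ⟨inferInstance, hcen⟩ hRC
    obtain ⟨q, hq, hqd⟩ := Nat.exists_prime_and_dvd (Finite.one_lt_card (α := G ⧸ R)).ne'
    haveI := Fact.mk hq
    obtain ⟨u, hu⟩ := exists_prime_orderOf_dvd_card' q hqd
    have hX : ¬ IsMulCommutative ((Subgroup.zpowers u).comap π) := by
      intro h
      obtain ⟨w, hw⟩ := hπs u
      have hwX : w ∈ (Subgroup.zpowers u).comap π := by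
        rw [Subgroup.mem_comap, hw]; exact Subgroup.mem_zpowers u
      have hwR : w ∈ R := hCR (Subgroup.mem_centralizer_iff.mpr fun r hr =>
        congrArg Subtype.val (h.1.comm ⟨r, hRH _ hr⟩ ⟨w, hwX⟩))
      rw [← hw, hπ, QuotientGroup.mk'_apply, (QuotientGroup.eq_one_iff w).mpr hwR, orderOf_one] at hu
      exact hq.ne_one hu.symm
    have hNu := hnormQ _ hX
    obtain ⟨T, hT⟩ := (IsPGroup.of_card (n := 1) (p := q) (G := Subgroup.zpowers u)
      (by rw [Nat.card_zpowers, hu, pow_one])).exists_le_sylow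
    haveI := T.isPGroup'.isNilpotent
    have hTeq : (T : Subgroup (G ⧸ R)) = Subgroup.zpowers u := by
      by_contra hne
      have hlt : (Subgroup.zpowers u).subgroupOf T < ⊤ := lt_top_iff_ne_top.mpr fun h =>
        hne (le_antisymm (Subgroup.subgroupOf_eq_top.mp h) hT)
      obtain ⟨t, htN, htu⟩ := SetLike.exists_of_lt (Group.normalizerCondition_of_isNilpotent _ hlt)
      refine htu (?_ : (t : G ⧸ R) ∈ Subgroup.zpowers u)
      rw [← hNu, Subgroup.mem_normalizer_iff]
      intro w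
      rw [Subgroup.mem_normalizer_iff] at htN
      constructor
      · intro hw
        exact (htN ⟨w, hT hw⟩).mp hw
      · intro hw
        have hwT : w ∈ (T : Subgroup (G ⧸ R)) := by
          rw [show w = (t : G ⧸ R)⁻¹ * ((t : G ⧸ R) * w * (t : G ⧸ R)⁻¹) * t by group]
          exact mul_mem (mul_mem (inv_mem t.2) (hT hw)) t.2
        exact (htN ⟨w, hwT⟩).mpr hw
    refine hburn q T (fun h => ?_) ?_
    · rw [h] at hT
      rw [Subgroup.mem_bot.mp (hT (Subgroup.mem_zpowers u)), orderOf_one] at hu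
      exact hq.ne_one hu.symm
    · rw [hTeq, hNu]
      exact Subgroup.le_centralizer _
  -- `R` is central
  obtain ⟨p, hp, hpd⟩ := Nat.exists_prime_and_dvd (n := Nat.card R) (fun h => hR1 (R.eq_bot_of_card_eq h))
  haveI := Fact.mk hp
  obtain ⟨⟨r, hrR⟩, hro⟩ := exists_prime_orderOf_dvd_card' p hpd
  rw [Subgroup.orderOf_mk] at hro
  have hrc : ∀ g : G, g * r = r * g := fun g =>
    (Subgroup.mem_centralizer_iff.mp (hcen.ge (Subgroup.mem_top g)) r hrR).symm
  obtain ⟨P⟩ := (inferInstance : Nonempty (Sylow p G))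
  have hrP : r ∈ (P : Subgroup G) := by
    haveI : (Subgroup.zpowers r).Normal := ⟨fun w hw g => by
      obtain ⟨i, rfl⟩ := hw
      rw [(Commute.zpow_right (hrc g) i).eq, mul_inv_cancel_right]
      exact ⟨i, rfl⟩⟩
    have hP : IsPGroup p (Subgroup.zpowers r) :=
      IsPGroup.of_card (n := 1) (by rw [Nat.card_zpowers, hro, pow_one])
    obtain ⟨P', hP'⟩ := hP.exists_le_sylow
    obtain ⟨g, rfl⟩ := MulAction.exists_smul_eq G P P'
    obtain ⟨w, hw, hwr⟩ := hP' (Subgroup.mem_zpowers r)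
    have h : g * w * g⁻¹ = r := hwr
    have : w = r := by
      rw [show w = g⁻¹ * (g * w * g⁻¹) * g by group, h, mul_assoc, ← hrc g, inv_mul_cancel_left]
    exact this ▸ hw
  have hr1 : r ≠ 1 := fun h => hp.ne_one (by rw [← hro, h, orderOf_one])
  -- transfer puts `r` in the derived subgroup of `P`
  have hrP' : (⟨r, hrP⟩ : (P : Subgroup G)) ∈ commutator (P : Subgroup G) := by
    let φ : G →* Abelianization (P : Subgroup G) := MonoidHom.transfer Abelianization.of
    have hφ : φ.ker = ⊤ := top_le_iff.mp (hperf ▸ Abelianization.commutator_subset_ker φ)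
    have hkey : ∀ (k : ℕ) (g₀ : G), g₀⁻¹ * r ^ k * g₀ ∈ (P : Subgroup G) → g₀⁻¹ * r ^ k * g₀ = r ^ k :=
      fun k g₀ _ => by rw [mul_assoc, ← (Commute.pow_right (hrc g₀) k).eq, inv_mul_cancel_left]
    have h1 : φ r = Abelianization.of (⟨r, hrP⟩ : (P : Subgroup G)) ^ (P : Subgroup G).index := by
      rw [← map_pow]
      exact MonoidHom.transfer_eq_pow _ r hkey
    rw [show φ r = 1 from hφ.ge (Subgroup.mem_top r), eq_comm, ← orderOf_dvd_iff_pow_eq_one] at h1
    have h2 : orderOf (Abelianization.of (⟨r, hrP⟩ : (P : Subgroup G))) ∣ p := by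
      refine (orderOf_map_dvd _ _).trans ?_
      rw [Subgroup.orderOf_mk, hro]
    have h3 := Nat.eq_one_of_dvd_coprimes ((hp.coprime_iff_not_dvd.mpr P.not_dvd_index).symm) h1 h2
    rw [orderOf_eq_one_iff] at h3
    exact (QuotientGroup.eq_one_iff _).mp h3
  have hPna : ¬ IsMulCommutative (P : Subgroup G) := fun h => by
    have hb : commutator (P : Subgroup G) ≤ ⊥ := by
      rw [commutator_def, Subgroup.commutator_le]
      intro a _ b _
      rw [Subgroup.mem_bot, commutatorElement_eq_one_iff_mul_comm]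
      exact h.1.comm a b
    exact hr1 (congrArg Subtype.val (Subgroup.mem_bot.mp (hb hrP') :))
  haveI := P.isPGroup'.isNilpotent
  -- maximal subgroups of `P` are abelian
  have hmaxab : ∀ M : Subgroup (P : Subgroup G), IsCoatom M → IsMulCommutative M ∧ M.Normal ∧ M.index = p := by
    intro M hM
    have hMn : M.Normal := Subgroup.NormalizerCondition.normal_of_coatom M
      Group.normalizerCondition_of_isNilpotent hM
    refine ⟨?_, hMn, ?_⟩
    · by_contra hna
      have hna' : ¬ IsMulCommutative (M.map (P : Subgroup G).subtype) := fun h => hna ⟨⟨fun a b =>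
        (M.equivMapOfInjective _ (P : Subgroup G).subtype_injective).injective (by
          rw [map_mul, map_mul]; exact h.1.comm _ _)⟩⟩
      have hle : (P : Subgroup G) ≤ Subgroup.normalizer (M.map (P : Subgroup G).subtype : Set G) := by
        intro w hw
        rw [Subgroup.mem_normalizer_iff]
        intro v
        constructor
        · rintro ⟨m, hm, rfl⟩
          exact ⟨_, hMn.conj_mem m hm ⟨w, hw⟩, rfl⟩
        · rintro ⟨m, hm, hmv⟩
          refine ⟨_, hMn.conj_mem m hm ⟨w, hw⟩⁻¹, ?_⟩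
          show w⁻¹ * (m : G) * w⁻¹⁻¹ = v
          rw [show (m : G) = w * v * w⁻¹ from hmv]; group
      rw [hS _ hna'] at hle
      refine hM.1 ((Subgroup.eq_top_iff' M).mpr fun w => ?_)
      obtain ⟨m, hm, hmw⟩ := hle w.2
      exact (Subtype.ext hmw : m = w) ▸ hm
    · haveI := hMn
      obtain ⟨k, hk⟩ := IsPGroup.iff_card.mp (P.isPGroup'.to_quotient M)
      haveI : IsSimpleGroup ((P : Subgroup G) ⧸ M) := by
        haveI : Nontrivial ((P : Subgroup G) ⧸ M) := QuotientGroup.nontrivial_iff.mpr hM.1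
        refine ⟨fun H _ => ?_⟩
        rcases (hM.le_iff).mp (show M ≤ H.comap (QuotientGroup.mk' M) from fun m hm => by
          rw [Subgroup.mem_comap, QuotientGroup.mk'_apply, (QuotientGroup.eq_one_iff m).mpr hm]
          exact H.one_mem) with h | h
        · right
          rw [← Subgroup.map_comap_eq_self_of_surjective (QuotientGroup.mk'_surjective M) H, h,
            Subgroup.map_top_of_surjective _ (QuotientGroup.mk'_surjective M)]
        · left
          rw [← Subgroup.map_comap_eq_self_of_surjective (QuotientGroup.mk'_surjective M) H, h,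
            QuotientGroup.map_mk'_self]
      rw [Subgroup.index_eq_card, hk]
      haveI : Nontrivial ((P : Subgroup G) ⧸ M) := IsSimpleGroup.toNontrivial
      obtain ⟨w, hw⟩ := exists_prime_orderOf_dvd_card' (G := (P : Subgroup G) ⧸ M) p (hk ▸ dvd_pow_self p (by
        rintro rfl
        rw [pow_zero] at hk
        exact absurd hk (ne_of_gt Finite.one_lt_card)))
      haveI := (P.isPGroup'.to_quotient M).center_nontrivial
      have hc : Subgroup.center ((P : Subgroup G) ⧸ M) = ⊤ :=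
        ((inferInstance : (Subgroup.center ((P : Subgroup G) ⧸ M)).Normal).eq_bot_or_eq_top).resolve_left
          ((Subgroup.nontrivial_iff_ne_bot _).mp inferInstance)
      haveI : (Subgroup.zpowers w).Normal := ⟨fun v hv g => by
        rw [Subgroup.mem_center_iff.mp (hc.ge (Subgroup.mem_top v)) g, mul_inv_cancel_right]; exact hv⟩
      have hz : Subgroup.zpowers w = ⊤ :=
        ((inferInstance : (Subgroup.zpowers w).Normal).eq_bot_or_eq_top).resolve_left fun h => by
          rw [Subgroup.zpowers_eq_bot] at h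
          rw [h, orderOf_one] at hw
          exact hp.ne_one hw.symm
      rw [← hk, ← Subgroup.card_top, ← hz, Nat.card_zpowers, hw]
  obtain ⟨M₁, hM₁⟩ : ∃ M : Subgroup (P : Subgroup G), IsCoatom M := by
    haveI : Nontrivial (P : Subgroup G) := ⟨⟨⟨r, hrP⟩, 1, fun h => hr1 (congrArg Subtype.val h :)⟩⟩
    exact (IsCoatomic.eq_top_or_exists_le_coatom (⊥ : Subgroup (P : Subgroup G))).resolve_left bot_ne_top
      |>.imp fun M hM => hM.1
  obtain ⟨hM₁ab, hM₁n, hM₁i⟩ := hmaxab M₁ hM₁
  obtain ⟨x, hx⟩ : ∃ x, x ∉ M₁ := by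
    by_contra h
    push Not at h
    exact hM₁.1 ((Subgroup.eq_top_iff' M₁).mpr h)
  obtain ⟨M₂, hM₂, hxM₂⟩ : ∃ M : Subgroup (P : Subgroup G), IsCoatom M ∧ x ∈ M := by
    rcases IsCoatomic.eq_top_or_exists_le_coatom (Subgroup.zpowers x) with h | ⟨M, hM, hle⟩
    · exfalso
      exact hPna ⟨⟨fun a b => by
        obtain ⟨i, rfl⟩ := h.ge (Subgroup.mem_top a)
        obtain ⟨j, rfl⟩ := h.ge (Subgroup.mem_top b)
        exact ((Commute.refl x).zpow_zpow i j).eq⟩⟩
    · exact ⟨M, hM, hle (Subgroup.mem_zpowers x)⟩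
  obtain ⟨hM₂ab, hM₂n, hM₂i⟩ := hmaxab M₂ hM₂
  set Z₀ := M₁ ⊓ M₂ with hZ₀
  have hsup : M₁ ⊔ M₂ = ⊤ := hM₁.2 _ (lt_of_le_of_ne le_sup_left fun h => hx (h ▸ Subgroup.mem_sup_right hxM₂))
  have hZc : Z₀ ≤ Subgroup.center (P : Subgroup G) := by
    intro w hw
    refine Subgroup.mem_center_iff.mpr fun g => ?_
    have hle : M₁ ⊔ M₂ ≤ Subgroup.centralizer ({w} : Set (P : Subgroup G)) := sup_le
      (fun v hv => Subgroup.mem_centralizer_singleton_iff.mpr (congrArg Subtype.val (hM₁ab.1.comm ⟨v, hv⟩ ⟨w, hw.1⟩)))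
      (fun v hv => Subgroup.mem_centralizer_singleton_iff.mpr (congrArg Subtype.val (hM₂ab.1.comm ⟨v, hv⟩ ⟨w, hw.2⟩)))
    exact Subgroup.mem_centralizer_singleton_iff.mp (hle (hsup.ge (Subgroup.mem_top g)))
  have hZi : Z₀.index ≤ p ^ 2 := by
    rw [pow_two]
    calc Z₀.index ≤ M₁.index * M₂.index := Subgroup.index_inf_le
      _ = p * p := by rw [hM₁i, hM₂i]
  obtain ⟨a, ha, haZ⟩ : ∃ a ∈ M₁, a ∉ Z₀ := by
    by_contra h
    push Not at h
    have hle : M₁ ≤ M₂ := fun v hv => (h v hv).2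
    rw [sup_eq_right.mpr hle] at hsup
    exact hM₂.1 hsup
  set c := ⁅x, a⁆ with hc
  obtain ⟨hcl, hpw⟩ := CfsgLib.SympType.classTwo_of_central P.isPGroup' Z₀ hZc (by
    obtain ⟨i, hi⟩ := IsPGroup.iff_card.mp P.isPGroup'
    obtain ⟨j, hj⟩ := IsPGroup.iff_card.mp (P.isPGroup'.to_subgroup Z₀)
    rw [← Z₀.card_mul_index, mul_comm (p ^ 2), hj]
    obtain ⟨l, hl⟩ : ∃ l, Z₀.index = p ^ l := by
      obtain ⟨l, -, hl⟩ := (Nat.dvd_prime_pow hp).mp (hi ▸ Z₀.index_dvd_card)
      exact ⟨l, hl⟩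
    rw [hl] at hZi ⊢
    exact mul_dvd_mul_left _ (pow_dvd_pow p ((Nat.pow_le_pow_iff_right hp.one_lt).mp hZi)))
  -- the derived subgroup has order `p`
  have hcp : c ^ p = 1 := by
    have hlin : ∀ u v : (P : Subgroup G), ⁅u * v, a⁆ = ⁅u, a⁆ * ⁅v, a⁆ := fun u v => by
      calc ⁅u * v, a⁆ = u * ⁅v, a⁆ * u⁻¹ * ⁅u, a⁆ := by simp only [commutatorElement_def]; group
        _ = ⁅v, a⁆ * ⁅u, a⁆ := by rw [Subgroup.mem_center_iff.mp (hcl v a) u, mul_inv_cancel_right]
        _ = _ := (Subgroup.mem_center_iff.mp (hcl v a) _).symm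
    have h := map_pow (MonoidHom.mk' (fun w => ⁅w, a⁆) hlin) x p
    simp only [MonoidHom.mk'_apply] at h
    rw [hc, ← h, commutatorElement_eq_one_iff_mul_comm]
    exact (Subgroup.mem_center_iff.mp (hpw x) a).symm
  set D := Subgroup.zpowers c with hD
  haveI : D.Normal := ⟨fun v hv g => by
    rw [Subgroup.mem_center_iff.mp (Subgroup.zpowers_le.mpr (hcl x a) hv) g, mul_inv_cancel_right]; exact hv⟩
  have htop : Subgroup.closure (({x, a} : Set (P : Subgroup G)) ∪ Z₀) = ⊤ := by
    set H := Subgroup.closure (({x, a} : Set (P : Subgroup G)) ∪ Z₀) with hH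
    have hxH : x ∈ H := Subgroup.subset_closure (by simp)
    have haH : a ∈ H := Subgroup.subset_closure (by simp)
    have hM₁H : M₁ ≤ H := by
      have hZH : Z₀ ≤ H ⊓ M₁ := le_inf (fun v hv => Subgroup.subset_closure (Or.inr hv)) inf_le_left
      have h1 := Subgroup.relIndex_mul_index (inf_le_right : H ⊓ M₁ ≤ M₁)
      have h2 := Subgroup.relIndex_mul_index hZH
      have h3 : Z₀.relIndex (H ⊓ M₁) ≠ 1 := fun h => haZ (Subgroup.relIndex_eq_one.mp h ⟨haH, ha⟩)
      have h4 : (H ⊓ M₁).relIndex M₁ = 1 := by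
        by_contra hne
        obtain ⟨i, hi⟩ := IsPGroup.iff_card.mp P.isPGroup'
        obtain ⟨u, -, hu⟩ := (Nat.dvd_prime_pow hp).mp (hi ▸ (Dvd.intro _ h1).trans (H ⊓ M₁).index_dvd_card)
        obtain ⟨v, -, hv⟩ := (Nat.dvd_prime_pow hp).mp (hi ▸ (Dvd.intro _ h2).trans Z₀.index_dvd_card)
        rw [hM₁i, hu] at h1
        rw [hv, ← h1] at h2
        rw [hu] at hne
        rw [hv] at h3
        have hu0 : u ≠ 0 := fun h => hne (by rw [h, pow_zero])
        have hv0 : v ≠ 0 := fun h => h3 (by rw [h, pow_zero])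
        have h5 : p ^ (v + (u + 1)) ≤ p ^ 2 := by rw [pow_add, pow_add, pow_one, h2]; exact hZi
        have := (Nat.pow_le_pow_iff_right hp.one_lt).mp h5
        omega
      exact le_inf_iff.mp (Subgroup.relIndex_eq_one.mp h4) |>.1
    exact hM₁.2 _ (lt_of_le_of_ne hM₁H fun h => hx (h ▸ hxH))
  have hder : commutator (P : Subgroup G) ≤ D := by
    rw [commutator_def, Subgroup.commutator_le]
    intro u _ v _
    rw [← QuotientGroup.eq_one_iff, ← QuotientGroup.mk'_apply, map_commutatorElement,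
      commutatorElement_eq_one_iff_mul_comm]
    set ρ := QuotientGroup.mk' D with hρ
    have hcom : IsMulCommutative (Subgroup.closure (ρ '' (({x, a} : Set (P : Subgroup G)) ∪ Z₀))) := by
      refine Subgroup.isMulCommutative_closure ?_
      have hxa : ρ x * ρ a = ρ a * ρ x := by
        rw [← commutatorElement_eq_one_iff_mul_comm, ← map_commutatorElement, hρ, QuotientGroup.mk'_apply,
          QuotientGroup.eq_one_iff]
        exact Subgroup.mem_zpowers c
      have hz : ∀ w ∈ Z₀, ∀ g, ρ w * ρ g = ρ g * ρ w := fun w hw g => by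
        rw [← map_mul, ← map_mul, Subgroup.mem_center_iff.mp (hZc hw) g]
      rintro _ ⟨s, hs, rfl⟩ _ ⟨t, ht, rfl⟩
      rcases hs with hs | hs
      · rcases ht with ht | ht
        · rcases hs with rfl | rfl <;> rcases ht with rfl | rfl
          · rfl
          · exact hxa
          · exact hxa.symm
          · rfl
        · exact (hz t ht s).symm
      · exact hz s hs t
    have hgen : ∀ w, ρ w ∈ Subgroup.closure (ρ '' (({x, a} : Set (P : Subgroup G)) ∪ Z₀)) := fun w => by
      rw [← MonoidHom.map_closure, htop]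
      exact ⟨w, Subgroup.mem_top w, rfl⟩
    exact congrArg Subtype.val (hcom.1.comm ⟨_, hgen u⟩ ⟨_, hgen v⟩)
  have hDr : Subgroup.zpowers c = Subgroup.zpowers (⟨r, hrP⟩ : (P : Subgroup G)) := by
    refine (Subgroup.eq_of_le_of_card_ge (Subgroup.zpowers_le.mpr (hder hrP')) ?_).symm
    rw [Nat.card_zpowers, Nat.card_zpowers,
      show orderOf (⟨r, hrP⟩ : (P : Subgroup G)) = p from (Subgroup.orderOf_mk r hrP).trans hro]
    exact Nat.le_of_dvd hp.pos (orderOf_dvd_of_pow_eq_one hcp)
  have hderR : ∀ u v : G, u ∈ (P : Subgroup G) → v ∈ (P : Subgroup G) → ⁅u, v⁆ ∈ R := by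
    intro u v hu hv
    have h := hder (Subgroup.commutator_mem_commutator (Subgroup.mem_top (⟨u, hu⟩ : (P : Subgroup G)))
      (Subgroup.mem_top (⟨v, hv⟩ : (P : Subgroup G))))
    rw [hD, hDr] at h
    obtain ⟨i, hi⟩ := h
    have hi' : r ^ i = ⁅u, v⁆ := congrArg Subtype.val hi
    exact hi' ▸ R.zpow_mem hrR i
  set T : Sylow p (G ⧸ R) := P.mapSurjective hπs with hT
  have hTc : (T : Subgroup (G ⧸ R)) = (P : Subgroup G).map π := Sylow.coe_mapSurjective hπs P
  have hTna : ¬ IsMulCommutative ((T : Subgroup (G ⧸ R)).comap π) := fun h => hPna ⟨⟨fun u v => Subtype.ext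
    (congrArg Subtype.val (h.1.comm ⟨(u : G), hTc ▸ ⟨u, u.2, rfl⟩⟩ ⟨(v : G), hTc ▸ ⟨v, v.2, rfl⟩⟩) :)⟩⟩
  refine hburn p T (fun h => hPna ⟨⟨fun u v => Subtype.ext ?_⟩⟩) ?_
  · have hu : (u : G) ∈ R := by
      rw [← QuotientGroup.eq_one_iff, ← Subgroup.mem_bot, ← h, hTc]
      exact ⟨u, u.2, rfl⟩
    exact (Subgroup.mem_centralizer_iff.mp (hcen.ge (Subgroup.mem_top (v : G))) _ hu)
  · rw [hnormQ _ hTna]
    intro u hu
    rw [hTc] at hu ⊢
    obtain ⟨u, hu', rfl⟩ := hu
    refine Subgroup.mem_centralizer_iff.mpr ?_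
    rintro _ ⟨v, hv, rfl⟩
    rw [← commutatorElement_eq_one_iff_mul_comm, ← map_commutatorElement, hπ, QuotientGroup.mk'_apply,
      QuotientGroup.eq_one_iff]
    exact hderR v u hv hu'

end Cfsg.Agent.S4072
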