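import Cfsg.Statements.S4073
import Cfsg.Agent.Lib.Invol.SelfNormalizingPSL
import Cfsg.Agent.S5748
-- import your own Cfsg.Agent.* helpers here

set_option autoImplicit false
open Cfsg

namespace Cfsg.Agent.S4073

/-- Let G be a finite non-abelian simple group. Every non-abelian subgroup of G is self-normalizing if and only if G is isomorphic to PSL₂(2ⁿ) for some n ≥ 2 with 2ⁿ − 1 prime (this includes the alternating group of degree 5 as PSL₂(4)). -/
theorem result {G : Type*} [Group G] [Finite G] [IsSimpleGroup G]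
    (hna : ¬ IsMulCommutative G) :
    (∀ H : Subgroup G, ¬ IsMulCommutative H → Subgroup.normalizer (H : Set G) = H) ↔
    ∃ n : ℕ, 2 ≤ n ∧ (2 ^ n - 1).Prime ∧ Nonempty (G ≃* Matrix.ProjectiveSpecialLinearGroup (Fin 2) (GaloisField 2 n)) := by
  classical
  have : Fact (Nat.Prime 2) := ⟨Nat.prime_two⟩
  have hnc := CfsgLib.Invol.SelfNorm.not_isMulCommutative_iff.1 hna
  rw [CfsgLib.Invol.SelfNorm.sn_iff]
  constructor
  · intro hS
    obtain ⟨f, hf, hp, F, _, _, hF, ⟨e⟩⟩ := CfsgLib.Invol.SelfNorm.isPrime_of_sn hnc hS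
    obtain ⟨e'⟩ := CfsgLib.Invol.SelfNorm.psl_equiv_of_card (K := F) (F := GaloisField 2 f) (by
      rw [Nat.card_eq_fintype_card, hF, GaloisField.card 2 f (by omega)])
    exact ⟨f, hf, hp, ⟨e.trans e'⟩⟩
  · rintro ⟨n, hn, hp, ⟨e⟩⟩
    let _ := Fintype.ofFinite (GaloisField 2 n)
    have hF : Fintype.card (GaloisField 2 n) = 2 ^ n := by
      rw [← Nat.card_eq_fintype_card, GaloisField.card 2 n (by omega)]
    refine CfsgLib.Invol.SelfNorm.sn_of_psl hnc (fun x a b hx ha hb => ?_) hn hp hF e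
    by_cases ha1 : a = 1
    · exact ha1 ▸ Commute.one_left b
    by_cases hb1 : b = 1
    · exact hb1 ▸ Commute.one_right a
    exact (Cfsg.Agent.S5748.result hna).2 ⟨GaloisField 2 n, inferInstance, inferInstance, n, hn, hF, ⟨e⟩⟩
      a x b ha1 hx hb1 ha hb.symm


end Cfsg.Agent.S4073
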