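import Cfsg.Statements.S4074
import Mathlib

set_option autoImplicit false
set_option linter.style.haveILetI false
open Cfsg

namespace Cfsg.Agent.S4074

/-- For n > 2, every non-abelian subgroup of the dihedral group of order 2n is self-normalizing if and only if n = 4 or n is odd. -/
theorem result (n : ℕ) (hn : 2 < n) :
    (∀ H : Subgroup (DihedralGroup n), ¬ IsMulCommutative H → Subgroup.normalizer (H : Set (DihedralGroup n)) = H) ↔
    (n = 4 ∨ Odd n) := by
  classical
  haveI : NeZero n := ⟨by omega⟩
  constructor
  · intro h
    by_contra hc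
    push Not at hc
    obtain ⟨h4, hodd⟩ := hc
    rw [Nat.not_odd_iff_even] at hodd
    let φ : ZMod n →+* ZMod 2 := ZMod.castHom hodd.two_dvd (ZMod 2)
    let H : Subgroup (DihedralGroup n) :=
      { carrier := {g | match g with | .r i => φ i = 0 | .sr i => φ i = 0}
        one_mem' := map_zero φ
        mul_mem' := by
          rintro (a | a) (b | b) ha hb <;>
            simp only [Set.mem_setOf_eq, DihedralGroup.r_mul_r, DihedralGroup.r_mul_sr,
              DihedralGroup.sr_mul_r, DihedralGroup.sr_mul_sr] at * <;>
            simp [ha, hb]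
        inv_mem' := by
          rintro (a | a) ha <;> simp_all }
    have hr2 : DihedralGroup.r (2 : ZMod n) ∈ H := by
      show φ 2 = 0
      rw [map_ofNat]
      decide
    have hs : DihedralGroup.sr (0 : ZMod n) ∈ H := map_zero φ
    have hnc : ¬ IsMulCommutative H := fun hc => by
      have := congrArg Subtype.val (hc.is_comm.comm ⟨_, hr2⟩ ⟨_, hs⟩)
      simp only [Subgroup.coe_mul, DihedralGroup.r_mul_sr, DihedralGroup.sr_mul_r, zero_add, zero_sub,
        DihedralGroup.sr.injEq] at this
      have h4' : ((4 : ℕ) : ZMod n) = 0 := by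
        rw [Nat.cast_ofNat]
        linear_combination -this
      rw [ZMod.natCast_eq_zero_iff] at h4'
      have := Nat.le_of_dvd (by norm_num) h4'
      obtain ⟨u, hu⟩ := hodd
      omega
    have hmem : DihedralGroup.r (1 : ZMod n) ∈ Subgroup.normalizer (H : Set (DihedralGroup n)) := by
      rw [Subgroup.mem_normalizer_iff]
      have h2 : (2 : ZMod 2) = 0 := by decide
      rintro (a | a)
      · show φ a = 0 ↔ φ (1 + a + -1) = 0
        simp
      · show φ a = 0 ↔ φ (a - 1 + -1) = 0
        rw [map_add, map_sub, map_neg, map_one, sub_eq_add_neg, add_assoc,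
          show (-1 : ZMod 2) + -1 = 0 by decide, add_zero]
    rw [h H hnc] at hmem
    exact one_ne_zero (α := ZMod 2) (by rw [← map_one φ]; exact hmem)
  · intro hn' H hH
    rcases hn' with rfl | hodd
    · have : H = ⊤ := by
        rw [← Subgroup.card_eq_iff_eq_top]
        have hd := H.card_subgroup_dvd_card
        rw [DihedralGroup.nat_card] at hd ⊢
        by_contra hne
        apply hH
        obtain ⟨i, hi, hi2⟩ := (Nat.dvd_prime_pow Nat.prime_two).mp (show Nat.card H ∣ 2 ^ 3 from hd)
        haveI := Fact.mk Nat.prime_two
        have : i = 0 ∨ i = 1 ∨ i = 2 := by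
          rcases eq_or_ne i 3 with rfl | h3
          · exact absurd hi2 hne
          · omega
        rcases this with rfl | rfl | rfl
        · haveI : Subsingleton H := (Nat.card_eq_one_iff_unique.mp hi2).1
          exact ⟨⟨fun a b => Subsingleton.elim _ _⟩⟩
        · haveI : IsCyclic H := isCyclic_of_prime_card (p := 2) (by rw [hi2, pow_one])
          exact IsCyclic.isMulCommutative
        · exact ⟨⟨(IsPGroup.commGroupOfCardEqPrimeSq hi2).mul_comm⟩⟩
      rw [this, Subgroup.coe_top, ← Subgroup.coe_top, Subgroup.normalizer_eq_top_iff.mpr inferInstance]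
    · refine le_antisymm ?_ Subgroup.le_normalizer
      obtain ⟨i, hi⟩ : ∃ i, DihedralGroup.sr i ∈ H := by
        by_contra hc
        push Not at hc
        apply hH
        refine ⟨⟨?_⟩⟩
        rintro ⟨(a | a), ha⟩ ⟨(b | b), hb⟩
        · exact Subtype.ext (show DihedralGroup.r a * .r b = .r b * .r a by simp [add_comm])
        all_goals first | exact absurd hb (hc _) | exact absurd ha (hc _)
      have hu : IsUnit (2 : ZMod n) := by
        rw [show (2 : ZMod n) = ((2 : ℕ) : ZMod n) by norm_num, ZMod.isUnit_iff_coprime]
        exact Nat.coprime_two_left.mpr hodd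
      have hr : ∀ j, DihedralGroup.r j ∈ Subgroup.normalizer (H : Set (DihedralGroup n)) → DihedralGroup.r j ∈ H := by
        intro j hj
        have h1 := H.mul_mem hi ((Subgroup.mem_normalizer_iff.mp hj _).mp hi)
        have h2 : DihedralGroup.r (-(2 * j)) ∈ H := by
          convert h1 using 1
          rw [DihedralGroup.inv_r, DihedralGroup.r_mul_sr, DihedralGroup.sr_mul_r, DihedralGroup.sr_mul_sr]
          congr 1
          ring
        have h3 : DihedralGroup.r (2 * j) ∈ H := by
          have := H.inv_mem h2
          rwa [DihedralGroup.inv_r, neg_neg] at this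
        obtain ⟨u, hu⟩ := hu
        have h4 := H.pow_mem h3 ((↑u⁻¹ : ZMod n).val)
        rw [DihedralGroup.r_pow, ZMod.natCast_zmod_val, ← hu, mul_comm ((u : ZMod n) * j), ← mul_assoc,
          Units.inv_mul, one_mul] at h4
        exact h4
      rintro (j | j) hg
      · exact hr j hg
      · have h1 := hr _ (by
          rw [← DihedralGroup.sr_mul_sr j i]
          exact Subgroup.mul_mem _ hg (Subgroup.le_normalizer hi))
        have h2 := H.mul_mem hi (H.inv_mem h1)
        convert h2 using 1
        rw [DihedralGroup.inv_r, DihedralGroup.sr_mul_r]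
        congr 1
        ring

end Cfsg.Agent.S4074
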