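import Cfsg.Statements.S4075
import Mathlib
-- import your own Cfsg.Agent.* helpers here

set_option autoImplicit false
open Cfsg

namespace Cfsg.Agent.S4075

/-- Let G be a finite nilpotent group. Every non-abelian subgroup of G is self-normalizing if and only if G is abelian or G is a minimal non-abelian p-group for some prime p (non-abelian of prime-power order with every proper subgroup abelian). -/
theorem result {G : Type*} [Group G] [Finite G]
    [Group.IsNilpotent G] :
    (∀ H : Subgroup G, ¬ IsMulCommutative H → Subgroup.normalizer (H : Set G) = H) ↔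
    (IsMulCommutative G ∨ (IsPrimePow (Nat.card G) ∧ ¬ IsMulCommutative G ∧ ∀ H : Subgroup G, H ≠ ⊤ → IsMulCommutative H)) := by
  classical
  have htop : ∀ H : Subgroup G, Subgroup.normalizer (H : Set G) = H → H = ⊤ := fun H h => by
    by_contra hne
    exact (Group.normalizerCondition_of_isNilpotent H (lt_top_iff_ne_top.mpr hne)).ne h.symm
  constructor
  · intro h
    by_cases hab : IsMulCommutative G
    · exact Or.inl hab
    refine Or.inr ⟨?_, hab, fun H hne => by_contra fun hH => hne (htop H (h H hH))⟩
    obtain ⟨p, P, hp, hP⟩ : ∃ (p : ℕ) (P : Sylow p G), p.Prime ∧ ¬ IsMulCommutative (P : Subgroup G) := by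
      by_contra! hall
      refine hab ⟨⟨fun a b => ?_⟩⟩
      obtain ⟨e⟩ := (Group.isNilpotent_of_finite_tfae (G := G) |>.out 0 4).mp ‹_›
      obtain ⟨a, rfl⟩ := e.surjective a
      obtain ⟨b, rfl⟩ := e.surjective b
      rw [← map_mul, ← map_mul]
      congr 1
      funext p P
      exact (hall p P (Nat.prime_of_mem_primeFactors p.2)).is_comm.comm _ _
    have : Fact p.Prime := ⟨hp⟩
    have hPtop := htop _ (h _ hP)
    obtain ⟨k, hk⟩ := IsPGroup.iff_card.mp P.2
    rw [hPtop, Subgroup.card_top] at hk
    rcases k with _ | k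
    · exfalso
      have : Subsingleton G := (Nat.card_eq_one_iff_unique.mp (by simpa using hk)).1
      exact hab ⟨⟨fun a b => Subsingleton.elim _ _⟩⟩
    · exact hk ▸ hp.isPrimePow.pow k.succ_ne_zero
  · rintro (hab | ⟨-, -, hall⟩) H hH
    · exact absurd ⟨⟨fun a b => Subtype.ext (hab.is_comm.comm (a : G) (b : G))⟩⟩ hH
    · have : H = ⊤ := by_contra fun hne => hH (hall H hne)
      subst this
      exact eq_top_iff.mpr Subgroup.le_normalizer

end Cfsg.Agent.S4075
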