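import Cfsg.Statements.S4079
import Cfsg.Agent.Lib.PGroup.MetacyclicRegular
import Cfsg.Agent.Lib.PGroup.RankTwoThree

set_option autoImplicit false
open Cfsg

namespace Cfsg.Agent.S4079

open scoped commutatorElement

variable {M : Type*} [Group M]

/-- The iterates of an automorphism acting unipotently on `v`. -/
theorem iterate_apply (a : MulAut M) {v d f g : M} (hv : a v = v * d) (hd : a d = d * f)
    (hf : a f = f * g) (hg : a g = g) (cdf : Commute d f) (cdg : Commute d g) (cfg : Commute f g) :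
    ∀ i : ℕ, (a ^ i) v = v * d ^ i * f ^ i.choose 2 * g ^ i.choose 3 := by
  intro i
  induction i with
  | zero => simp
  | succ i ih =>
    rw [pow_succ', MulAut.mul_apply, ih]
    simp only [map_mul, map_pow, hv, hd, hf, hg, cdf.mul_pow, cfg.mul_pow]
    have h2 : (i + 1).choose 2 = i + i.choose 2 := by
      rw [Nat.choose_succ_succ' i 1, Nat.choose_one_right]
    have h3 : (i + 1).choose 3 = i.choose 2 + i.choose 3 := Nat.choose_succ_succ' i 2
    rw [h2, h3, pow_add f, pow_add g, pow_succ' d]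
    simp only [mul_assoc]

theorem dvd_choose {p : ℕ} (hp : p.Prime) {k : ℕ} (h0 : k ≠ 0) (hk : k < p) {x : M} (hx : x ^ p = 1) :
    x ^ p.choose k = 1 := by
  obtain ⟨r, hr⟩ := hp.dvd_choose_self h0 hk
  rw [hr, pow_mul, hx, one_pow]

open CfsgLib.Metacyclic in
/-- The two facts used in the proof. -/
theorem key {L : Type*} [Group L] [Finite L] {p : ℕ} [hp : Fact p.Prime] (hp2 : p ≠ 2)
    (h : CyclicDerived p L) (hEc : Nat.card (h.om 1) = p ^ 2)
    (hroot : ∀ e ∈ h.om 1, ∃ v ∈ h.om 2, v ^ p = e)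
    (hcomm : ∀ e ∈ h.om 1, ∀ v ∈ h.om 2, Commute e v) (a : MulAut L) (hap : a ^ p = 1)
    (hfix : ∀ e ∈ h.om 1, a (e⁻¹ * a e) = e⁻¹ * a e) :
    ((∃ x : L, orderOf x = p ∧ a x ≠ x) → p = 3 ∧ ∃ C : Subgroup L, (∀ x, a x = x → x ∈ C) ∧
        Nat.card C ≤ p) ∧
      ((∀ x : L, x ^ p = 1 → a x = x) → ∀ x : L, (x⁻¹ * a x) ^ p = 1) := by
  have hpp := hp.out
  have h3 : 2 < p := lt_of_le_of_ne hpp.two_le hp2.symm
  have hmE : ∀ {x : L}, x ∈ h.om 1 ↔ x ^ p = 1 := fun {x} => by rw [h.mem_om, pow_one]
  have hEM : ∀ {x : L}, x ∈ h.om 1 → x ∈ h.om 2 := fun {x} hx => h.mem_om.2 (by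
    rw [sq, pow_mul, hmE.1 hx, one_pow])
  have hMp : ∀ {x : L}, x ∈ h.om 2 → x ^ p ∈ h.om 1 := fun {x} hx => hmE.2 (by
    rw [← pow_mul, ← sq]; exact h.mem_om.1 hx)
  have haM : ∀ {k : ℕ} {x : L}, x ∈ h.om k → a x ∈ h.om k := fun {k x} hx => h.mem_om.2 (by
    rw [← map_pow, h.mem_om.1 hx, map_one])
  -- the `p`-th power map respects left division on elements killed by `p ^ 2`
  have hdiv : ∀ x ∈ h.om 2, ∀ y ∈ h.om 2, (x⁻¹ * y) ^ p = (x ^ p)⁻¹ * y ^ p := by
    intro x hx y hy
    obtain ⟨c, hc, e⟩ := h.regular 1 x⁻¹ y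
    have hab : ⁅x⁻¹, y⁆ ^ p ^ 1 = 1 := by
      rw [← h.comm_pow_eq_one, pow_one, inv_pow, commutatorElement_eq_one_iff_mul_comm]
      exact (hcomm _ (hMp hx) _ hy).inv_left.eq
    rw [CfsgLib.Regular.derived_powers_eq_bot h.pgroup (h.regular 1) hab, Subgroup.mem_bot] at hc
    rw [hc, mul_one, pow_one, inv_pow] at e
    exact e
  refine ⟨?_, ?_⟩
  · rintro ⟨e0, he0o, he0⟩
    have he0E : e0 ∈ h.om 1 := hmE.2 (he0o ▸ pow_orderOf_eq_one e0)
    obtain ⟨v, hv, hve⟩ := hroot e0 he0E
    set d := v⁻¹ * a v with hd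
    have hdM : d ∈ h.om 2 := mul_mem (inv_mem hv) (haM hv)
    have hdp : d ^ p = e0⁻¹ * a e0 := by rw [hd, hdiv v hv _ (haM hv), ← map_pow, hve]
    have hdne : d ^ p ≠ 1 := fun e => he0 (by rw [hdp, inv_mul_eq_one] at e; exact e.symm)
    have had : a (d ^ p) = d ^ p := by rw [hdp]; exact hfix e0 he0E
    -- if `d` commutes with the powers of `a` up to `E` well enough, `a ^ p` moves `v`
    have hmove : ∀ g : L, d⁻¹ * a d ∈ h.om 1 → g = (d⁻¹ * a d)⁻¹ * a (d⁻¹ * a d) →
        g ^ p.choose 3 = 1 → False := by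
      intro g hfE hg hg3
      have hgE : g ∈ h.om 1 := hg ▸ mul_mem (inv_mem hfE) (haM hfE)
      have hit := iterate_apply a (v := v) (d := d) (f := d⁻¹ * a d) (g := g)
        (by rw [hd, mul_inv_cancel_left]) (by rw [mul_inv_cancel_left]) (by rw [hg, mul_inv_cancel_left])
        (hg ▸ hfix _ hfE) (hcomm _ hfE _ hdM).symm (hcomm _ hgE _ hdM).symm
        (hcomm _ hfE _ (hEM hgE)) p
      rw [hap, dvd_choose hpp two_ne_zero h3 (hmE.1 hfE), hg3, mul_one, mul_one] at hit
      exact hdne (by simpa using hit)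
    have hfE : d⁻¹ * a d ∈ h.om 1 := hmE.2 (by
      rw [hdiv d hdM _ (haM hdM), ← map_pow, had, inv_mul_cancel])
    refine ⟨?_, ?_⟩
    · by_contra hp3
      exact hmove _ hfE rfl (dvd_choose hpp three_ne_zero (by omega)
        (hmE.1 (mul_mem (inv_mem hfE) (haM hfE))))
    let C : Subgroup L := MonoidHom.eqLocus a.toMonoidHom (MonoidHom.id L)
    have hmC : ∀ x : L, x ∈ C ↔ a x = x := fun x => Iff.rfl
    refine ⟨C ⊓ h.om 1, fun x hx => ⟨(hmC x).2 hx, ?_⟩, ?_⟩
    swap
    · obtain ⟨k, hk⟩ := IsPGroup.iff_card.1 (h.pgroup.to_subgroup (C ⊓ h.om 1))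
      rw [hk]
      refine (Nat.pow_le_pow_right hpp.pos (show k ≤ 1 from ?_)).trans (pow_one p).le
      by_contra hk1
      have heq : C ⊓ h.om 1 = h.om 1 := Subgroup.eq_of_le_of_card_ge inf_le_right (by
        rw [hk, hEc]; exact Nat.pow_le_pow_right hpp.pos (by omega))
      exact he0 ((hmC e0).1 (heq.ge he0E).1)
    by_contra hxE
    obtain ⟨j, hj⟩ := IsPGroup.iff_orderOf.1 h.pgroup x
    have hj2 : 2 ≤ j := by
      by_contra hj2
      exact hxE (hmE.2 (orderOf_dvd_iff_pow_eq_one.1
        (hj ▸ (pow_dvd_pow p (show j ≤ 1 by omega)).trans (pow_one p).dvd)))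
    set w := x ^ p ^ (j - 2) with hw
    have hwo : orderOf w = p ^ 2 := by
      rw [hw, orderOf_pow' _ (pow_ne_zero _ hpp.ne_zero), hj,
        Nat.gcd_eq_right (pow_dvd_pow p (by omega)), Nat.pow_div (by omega) hpp.pos]
      congr 1; omega
    have haw : a w = w := by rw [hw, map_pow, hx]
    have hwM : w ∈ h.om 2 := h.mem_om.2 (hwo ▸ pow_orderOf_eq_one w)
    have hwpo : orderOf (w ^ p) = p := by
      rw [orderOf_pow' _ hpp.ne_zero, hwo, Nat.gcd_eq_right (dvd_pow_self p two_ne_zero), sq,
        Nat.mul_div_cancel _ hpp.pos]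
    have hCE : C ⊓ h.om 1 = Subgroup.zpowers (w ^ p) := by
      refine (Subgroup.eq_of_le_of_card_ge (Subgroup.zpowers_le.2
        (Subgroup.mem_inf.2 ⟨(hmC _).2 (by rw [map_pow, haw]), hMp hwM⟩)) ?_).symm
      rw [Nat.card_zpowers, hwpo]
      obtain ⟨k, hk⟩ := IsPGroup.iff_card.1 (h.pgroup.to_subgroup (C ⊓ h.om 1))
      rw [hk]
      refine (Nat.pow_le_pow_right hpp.pos (show k ≤ 1 from ?_)).trans (pow_one p).le
      by_contra hk1
      have heq : C ⊓ h.om 1 = h.om 1 := Subgroup.eq_of_le_of_card_ge inf_le_right (by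
        rw [hk, hEc]; exact Nat.pow_le_pow_right hpp.pos (by omega))
      exact he0 ((hmC e0).1 (heq.ge he0E).1)
    obtain ⟨k, hk⟩ := (mem_powers_iff_mem_zpowers (x := w ^ p)).2
      (hCE.le (show d ^ p ∈ C ⊓ h.om 1 from ⟨(hmC _).2 had, hMp hdM⟩))
    dsimp only at hk
    set e1 := (w ^ k)⁻¹ * d with he1
    have he1E : e1 ∈ h.om 1 := hmE.2 (by
      rw [he1, hdiv _ (pow_mem hwM k) _ hdM, ← pow_mul, mul_comm k p, pow_mul, hk, inv_mul_cancel])
    have hf1 : d⁻¹ * a d = e1⁻¹ * a e1 := by
      have hde : d = w ^ k * e1 := by rw [he1, mul_inv_cancel_left]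
      rw [hde, map_mul, map_pow, haw]; group
    exact hmove 1 hfE (by rw [hf1, hfix e1 he1E, inv_mul_cancel]) (one_pow _)
  · intro hE x
    obtain ⟨j, hj⟩ := h.pgroup x
    induction j generalizing x with
    | zero =>
      rw [pow_zero, pow_one] at hj
      simp [hj]
    | succ j ih =>
      set v := x⁻¹ * a x with hv
      have h1 := ih (x ^ p) (by rw [← pow_mul, ← pow_succ', hj])
      have hvM : v ∈ h.om 2 := by
        rw [h.mem_om, hv, ← h.pow_eq_pow 2, sq, pow_mul, pow_mul, ← map_pow]
        have := (h.pow_eq_pow 1).2 ((pow_one p).symm ▸ h1)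
        rwa [pow_one] at this
      set w := v⁻¹ * a v with hw
      have hwp : w ^ p = 1 := by
        rw [hw, hdiv v hvM _ (haM hvM), ← map_pow, hE _ (hmE.1 (hMp hvM)), inv_mul_cancel]
      have hit := iterate_apply a (v := x) (d := v) (f := w) (g := 1)
        (by rw [hv, mul_inv_cancel_left]) (by rw [hw, mul_inv_cancel_left])
        (by rw [hE w hwp, mul_one]) (map_one a) (hcomm _ (hmE.2 hwp) _ hvM).symm (Commute.one_right v)
        (Commute.one_right w) p
      rw [hap, dvd_choose hpp two_ne_zero h3 hwp, one_pow, mul_one, mul_one] at hit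
      simpa using hit

/-- Let p be an odd prime and L a finite metacyclic p-group with no cyclic subgroup of index p, and let a be an automorphism of L of order p. Then a moves some element of order p of L if and only if p = 3 and the semidirect product L ⋊ ⟨a⟩ (of order 3·#L) has maximal class, i.e. nilpotency class m where #L = 3^m. -/
theorem result {L : Type*} [Group L] [Finite L] {p : ℕ} [Fact p.Prime]
    (hp : p ≠ 2) (hL : IsPGroup p L) (hmc : Cfsg.IsMetacyclic L) (hnc : ∀ C : Subgroup L, IsCyclic C → C.index ≠ p)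
    (a : MulAut L) (ha : orderOf a = p) (m : ℕ) (hm : Nat.card L = p ^ m) :
    (∃ x : L, orderOf x = p ∧ a x ≠ x) ↔
    (p = 3 ∧ Group.nilpotencyClass (SemidirectProduct L ↥(Subgroup.zpowers a) (Subgroup.zpowers a).subtype) = m) := by
  have hpp := (Fact.out : p.Prime)
  haveI : Nontrivial L := by
    by_contra hn
    rw [not_nontrivial_iff_subsingleton] at hn
    have : a = 1 := MulEquiv.ext fun x => Subsingleton.elim _ _
    rw [this, orderOf_one] at ha
    exact hpp.one_lt.ne ha
  obtain ⟨h, hEc, hroot, hcomm⟩ := CfsgLib.Metacyclic.omega_data hp hL hmc hnc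
  have hmE : ∀ {x : L}, x ∈ h.om 1 ↔ x ^ p = 1 := fun {x} => by rw [h.mem_om, pow_one]
  have hap : a ^ p = 1 := ha ▸ pow_orderOf_eq_one a
  set A := Subgroup.zpowers a with hA
  set α : A := ⟨a, Subgroup.mem_zpowers a⟩ with hα
  have hAp : Nat.card A = p := by rw [hA, Nat.card_zpowers, ha]
  let X := SemidirectProduct L A A.subtype
  haveI : Finite X := Finite.of_equiv _ SemidirectProduct.equivProd.symm
  have hX : Nat.card X = p ^ (m + 1) := by
    rw [Nat.card_congr SemidirectProduct.equivProd, Nat.card_prod, hm, hAp, pow_succ]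
  have hXp : IsPGroup p X := IsPGroup.of_card hX
  haveI := hXp.isNilpotent
  have hm2 : 2 ≤ m := by
    rw [← Nat.pow_le_pow_iff_right hpp.one_lt, ← hm, ← hEc]
    exact Subgroup.card_le_card_group _
  set E := (h.om 1).map (SemidirectProduct.inl : L →* X) with hE
  haveI hEn : E.Normal := ⟨fun n hn g => by
    obtain ⟨e, he, rfl⟩ := hn
    refine ⟨g.left * (g.right : MulAut L) e * g.left⁻¹, hmE.2 ?_, ?_⟩
    · rw [conj_pow, ← map_pow, hmE.1 he, map_one, mul_one, mul_inv_cancel]
    · ext <;> simp⟩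
  have hinlE : Nat.card E = p ^ 2 := by
    rw [hE, Subgroup.card_map_of_injective SemidirectProduct.inl_injective, hEc]
  set D := ⁅E, (⊤ : Subgroup X)⁆ with hD
  haveI : D.Normal := Subgroup.commutator_normal _ _
  have hDE : D ≤ E := Subgroup.commutator_le_left E ⊤
  have hDlt : D ≠ E := fun hDe => by
    obtain ⟨n, hn⟩ := Subgroup.nilpotent_iff_lowerCentralSeries.mp (inferInstance : Group.IsNilpotent X)
    have hle : ∀ k, E ≤ (⊤ : Subgroup X).lowerCentralSeries k := by
      intro k
      induction k with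
      | zero => simp
      | succ k ih => exact hDe.ge.trans (Subgroup.commutator_mono ih le_rfl)
    have h1 := Subgroup.card_le_of_le ((hle n).trans hn.le)
    rw [hinlE, Subgroup.card_bot] at h1
    exact absurd h1 (not_le.2 (Nat.one_lt_pow two_ne_zero hpp.one_lt))
  have hDc : D ≤ Subgroup.center X := by
    rcases eq_or_ne D ⊥ with h0 | h0
    · rw [h0]; exact bot_le
    have hne := CfsgLib.Critical.inf_center_ne_bot D h0
    obtain ⟨k, hk⟩ := IsPGroup.iff_card.1 (hXp.to_subgroup D)
    have hk1 : k ≤ 1 := by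
      by_contra hk1
      exact hDlt (Subgroup.eq_of_le_of_card_ge hDE (by
        rw [hinlE, hk]; exact Nat.pow_le_pow_right hpp.pos (by omega)))
    obtain ⟨i, hi⟩ := IsPGroup.iff_card.1 (hXp.to_subgroup (D ⊓ Subgroup.center X))
    have hi0 : i ≠ 0 := fun hi0 => hne (Subgroup.eq_bot_of_card_eq _ (by rw [hi, hi0, pow_zero]))
    refine le_trans (Subgroup.eq_of_le_of_card_ge inf_le_left ?_).ge inf_le_right
    rw [hk, hi]
    exact Nat.pow_le_pow_right hpp.pos (by omega)
  have hfix : ∀ e ∈ h.om 1, a (e⁻¹ * a e) = e⁻¹ * a e := by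
    intro e he
    have h1 : (SemidirectProduct.inl (e⁻¹ * a e) : X) ∈ D := by
      have h2 : ⁅(SemidirectProduct.inl e⁻¹ : X), SemidirectProduct.inr α⁆ ∈ D :=
        Subgroup.commutator_mem_commutator (Subgroup.mem_map_of_mem _ (inv_mem he)) (Subgroup.mem_top _)
      refine (?_ : _ = (SemidirectProduct.inl (e⁻¹ * a e) : X)) ▸ h2
      rw [commutatorElement_def, map_mul, map_inv, inv_inv, mul_assoc, mul_assoc,
        ← mul_assoc (SemidirectProduct.inr α)]
      refine congrArg _ ?_
      rw [show a e = (A.subtype α) e from rfl, SemidirectProduct.inl_aut, map_inv]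
    have h3 := Subgroup.mem_center_iff.1 (hDc h1) (SemidirectProduct.inr α)
    have h4 := congrArg SemidirectProduct.left h3
    rw [SemidirectProduct.mul_left, SemidirectProduct.mul_left, SemidirectProduct.left_inl,
      SemidirectProduct.left_inr, SemidirectProduct.right_inr, SemidirectProduct.right_inl] at h4
    simpa [hα, -map_mul] using h4
  obtain ⟨kmove, kfix⟩ := key hp h hEc hroot hcomm a hap hfix
  constructor
  · intro hx
    obtain ⟨h3, C, hC, hCc⟩ := kmove hx
    refine ⟨h3, ?_⟩
    have hsmall : Nat.card (Subgroup.centralizer ({SemidirectProduct.inr α} : Set X)) ≤ p ^ 2 := by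
      have hmem : ∀ g ∈ Subgroup.centralizer ({SemidirectProduct.inr α} : Set X), g.left ∈ C := by
        intro g hg
        refine hC _ ?_
        have h4 := congrArg SemidirectProduct.left (Subgroup.mem_centralizer_singleton_iff.1 hg)
        simpa [hα] using h4.symm
      refine (Nat.card_le_card_of_injective (fun g : Subgroup.centralizer ({SemidirectProduct.inr α} : Set X) =>
        ((⟨(g : X).left, hmem g g.2⟩ : C), (g : X).right)) fun g g' e => ?_).trans ?_
      · exact Subtype.ext (SemidirectProduct.ext (congrArg (fun t : C × A => (t.1 : L)) e)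
          (congrArg (fun t : C × A => t.2) e))
      · rw [Nat.card_prod, hAp, sq]
        exact Nat.mul_le_mul_right p hCc
    have hne := CfsgLib.RankTwoThree.maximal_of_small_centralizer (p := p) (m + 1) X hX (by omega) _ hsmall
    have hge : ¬ Group.nilpotencyClass X ≤ m + 1 - 2 := fun hle =>
      hne (Subgroup.lowerCentralSeries_eq_bot_iff_nilpotencyClass_le.mpr hle)
    have hle : Group.nilpotencyClass X ≤ m := by
      refine Subgroup.lowerCentralSeries_eq_bot_iff_nilpotencyClass_le.mp (Subgroup.eq_bot_of_card_le _ ?_)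
      have := CfsgLib.MaxClass.card_lcs_succ_le hX (m - 1)
      rw [show m - 1 + 1 = m by omega, show m + 1 - 2 - (m - 1) = 0 by omega, pow_zero] at this
      exact this
    show Group.nilpotencyClass X = m
    omega
  · rintro ⟨-, hcl⟩
    by_contra hno
    push Not at hno
    have hE1 : ∀ x : L, x ^ p = 1 → a x = x := fun x hx => by
      rcases eq_or_ne x 1 with rfl | hx1
      · exact map_one a
      · exact hno x (orderOf_eq_prime hx hx1)
    have hinE : ∀ x : L, x⁻¹ * a x ∈ h.om 1 := fun x => hmE.2 (kfix hE1 x)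
    set K := commutator L ⊔ h.om 1 with hK
    haveI hKn : K.Normal := Subgroup.Normal.of_commutator_le L le_sup_left
    set π := QuotientGroup.mk' K with hπ
    have hinv : ∀ (b : A) (x : L), π ((b : MulAut L) x) = π x := by
      rintro ⟨b, hb⟩ x
      obtain ⟨i, hi : a ^ i = b⟩ := (mem_powers_iff_mem_zpowers (x := a)).2 hb
      subst hi
      show π ((a ^ i) x) = π x
      clear hb
      induction i with
      | zero => rfl
      | succ i ih =>
        rw [pow_succ', MulAut.mul_apply, ← ih]
        exact (QuotientGroup.eq.2 (Subgroup.mem_sup_right (hinE _))).symm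
    let φ : X →* (L ⧸ K) × A := MonoidHom.mk' (fun g => (π g.left, g.right)) fun g g' => by
      show (π (g.left * (g.right : MulAut L) g'.left), g.right * g'.right) = _
      rw [map_mul, hinv]
      rfl
    have hcomG : commutator X ≤ K.map (SemidirectProduct.inl : L →* X) := by
      rw [commutator_eq_closure, Subgroup.closure_le]
      rintro _ ⟨g, g', rfl⟩
      have h1 : φ ⁅g, g'⁆ = 1 := by
        have hq : ∀ u w : L ⧸ K, u * w = w * u := fun u w => by
          induction u using QuotientGroup.induction_on with | H u =>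
          induction w using QuotientGroup.induction_on with | H w =>
          show π u * π w = π w * π u
          rw [← commutatorElement_eq_one_iff_mul_comm, ← map_commutatorElement]
          exact (QuotientGroup.eq_one_iff _).2 (Subgroup.mem_sup_left
            (Subgroup.commutator_mem_commutator (Subgroup.mem_top u) (Subgroup.mem_top w)))
        have hq' : ∀ u w : A, u * w = w * u := fun u w => by
          haveI : IsCyclic A := inferInstance
          letI := IsCyclic.commGroup (α := A)
          exact mul_comm u w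
        rw [map_commutatorElement, commutatorElement_eq_one_iff_mul_comm]
        exact Prod.ext (hq _ _) (hq' _ _)
      have h2 : ⁅g, g'⁆.left ∈ K := (QuotientGroup.eq_one_iff _).1 (congrArg Prod.fst h1)
      have h3 : ⁅g, g'⁆.right = 1 := congrArg Prod.snd h1
      exact ⟨_, h2, SemidirectProduct.ext (by simp) (by simp [h3])⟩
    have hcard := Subgroup.card_le_of_le hcomG
    rw [Subgroup.card_map_of_injective SemidirectProduct.inl_injective, ← Subgroup.top_lowerCentralSeries_one,
      CfsgLib.MaxClass.card_lcs_eq hX (show Group.nilpotencyClass X = m + 1 - 1 from hcl) (by omega) 0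
        (by omega), show m + 1 - 2 - 0 = m - 1 by omega] at hcard
    have hidx : K.index ≤ p := by
      have h1 := K.card_mul_index
      rw [hm] at h1
      refine Nat.le_of_mul_le_mul_left ?_ (pow_pos hpp.pos (m - 1))
      rw [← pow_succ, show m - 1 + 1 = m by omega, ← h1]
      exact Nat.mul_le_mul_right _ hcard
    have hKΦ : K ≤ frattini L := by
      refine sup_le (CfsgLib.PSolvable.commutator_le_frattini hL).1 fun e he => ?_
      obtain ⟨v, -, rfl⟩ := hroot e he
      exact (CfsgLib.PSolvable.commutator_le_frattini hL).2 v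
    -- the Frattini quotient is then cyclic
    have hgen : ∃ x : L, Subgroup.zpowers x ⊔ frattini L = ⊤ := by
      by_cases htop : K = ⊤
      · exact ⟨1, eq_top_iff.2 (le_sup_of_le_right (htop ▸ hKΦ))⟩
      obtain ⟨x, hx⟩ : ∃ x, x ∉ K := by
        by_contra hc
        push Not at hc
        exact htop ((Subgroup.eq_top_iff' K).2 hc)
      refine ⟨x, eq_top_iff.2 (le_trans ?_ (sup_le_sup_left hKΦ _))⟩
      rw [top_le_iff, ← Subgroup.index_eq_one]
      set J := Subgroup.zpowers x ⊔ K with hJ
      have hKJ : K < J := lt_of_le_of_ne le_sup_right fun e =>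
        hx (e ▸ Subgroup.mem_sup_left (Subgroup.mem_zpowers x))
      have h1 := Subgroup.relIndex_mul_index hKJ.le
      have h2 : 2 ≤ K.relIndex J := by
        have h0 : K.relIndex J ≠ 0 := Subgroup.index_ne_zero_of_finite
        have h1' : K.relIndex J ≠ 1 := fun e => hKJ.not_ge (Subgroup.relIndex_eq_one.1 e)
        omega
      obtain ⟨i, hi⟩ := hL.index J
      rw [hi]
      by_contra hi1
      have hi0 : i ≠ 0 := fun hi0 => hi1 (by rw [hi0, pow_zero])
      have h4 : p ≤ p ^ i := Nat.le_self_pow hi0 p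
      rw [hi] at h1
      nlinarith [hpp.two_le, Nat.mul_le_mul h2 h4]
    obtain ⟨x, hx⟩ := hgen
    have htop : Subgroup.zpowers x = ⊤ := frattini_nongenerating hx
    refine hnc (Subgroup.zpowers (x ^ p)) inferInstance ?_
    have h1 := (Subgroup.zpowers (x ^ p)).card_mul_index
    have hxo : orderOf x = p ^ m := by rw [← Nat.card_zpowers, htop, Subgroup.card_top, hm]
    rw [Nat.card_zpowers, orderOf_pow' _ hpp.ne_zero, hxo, hm,
      Nat.gcd_eq_right (dvd_pow_self p (by omega)), show p ^ m / p = p ^ (m - 1) by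
        rw [← Nat.pow_div (show 1 ≤ m by omega) hpp.pos, pow_one]] at h1
    refine Nat.eq_of_mul_eq_mul_left (pow_pos hpp.pos (m - 1)) (h1.trans ?_)
    rw [← pow_succ]; congr 1; omega

end Cfsg.Agent.S4079
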