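import Cfsg.Statements.S4080
import Mathlib
-- import your own Cfsg.Agent.* helpers here

set_option autoImplicit false
open Cfsg

namespace Cfsg.Agent.S4080

open Matrix

/-- A 2x2 matrix over Z/p^2 with (1 + D)^p = 1 satisfies p D = 0. -/
theorem p_smul_eq_zero {p : ℕ} [hp : Fact p.Prime] (h3 : 3 < p)
    (D : Matrix (Fin 2) (Fin 2) (ZMod (p ^ 2))) (hD : (1 + D) ^ p = 1) :
    (p : ZMod (p ^ 2)) • D = 0 := by
  classical
  let r : ZMod (p ^ 2) →+* ZMod p := ZMod.castHom (dvd_pow_self p two_ne_zero) (ZMod p)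
  have hnil : r.mapMatrix D ^ 2 = 0 := by
    have h := congrArg r.mapMatrix hD
    rw [map_pow, map_add, map_one, add_pow_char_of_commute p (Commute.one_left _), one_pow,
      add_eq_left] at h
    have := Matrix.isNilpotent_toLin'_iff _ |>.mpr ⟨p, h⟩
    have h2 := LinearMap.aeval_self_charpoly (Matrix.toLin' (r.mapMatrix D))
    rw [IsNilpotent.charpoly_eq_X_pow_finrank this, map_pow, Polynomial.aeval_X,
      Module.finrank_fin_fun, ← Matrix.toLin'_pow] at h2
    exact Matrix.toLin'.map_eq_zero_iff.mp h2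
  have hpd : ∀ x : ZMod (p ^ 2), r x = 0 → (p : ZMod (p ^ 2)) * x = 0 := by
    intro x hx
    obtain ⟨n, rfl⟩ := ZMod.natCast_zmod_surjective x
    rw [map_natCast, ZMod.natCast_eq_zero_iff] at hx
    obtain ⟨k, rfl⟩ := hx
    rw [Nat.cast_mul, ← mul_assoc, ← pow_two, ← Nat.cast_pow, ZMod.natCast_self, zero_mul]
  have hpD2 : (p : ZMod (p ^ 2)) • D ^ 2 = 0 := by
    ext i j
    refine hpd _ ?_
    have := congrFun (congrFun hnil i) j
    rwa [← map_pow] at this
  have hD4 : D ^ 4 = 0 := by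
    have hdiv : ∀ i j, ∃ e, (D ^ 2) i j = (p : ZMod (p ^ 2)) * e := fun i j => by
      have h : r ((D ^ 2) i j) = 0 := by
        have := congrFun (congrFun hnil i) j
        rwa [← map_pow] at this
      obtain ⟨n, hn⟩ := ZMod.natCast_zmod_surjective ((D ^ 2) i j)
      rw [← hn, map_natCast, ZMod.natCast_eq_zero_iff] at h
      obtain ⟨k, rfl⟩ := h
      exact ⟨k, by rw [← hn, Nat.cast_mul]⟩
    rw [show (4 : ℕ) = 2 + 2 from rfl, pow_add]
    ext i j
    rw [Matrix.mul_apply, Matrix.zero_apply]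
    refine Finset.sum_eq_zero fun k _ => ?_
    obtain ⟨a, ha⟩ := hdiv i k
    obtain ⟨b, hb⟩ := hdiv k j
    rw [ha, hb, mul_mul_mul_comm, ← pow_two, ← Nat.cast_pow, ZMod.natCast_self, zero_mul]
  have hp := hp.out
  have key : (1 + D) ^ p = 1 + (p : ZMod (p ^ 2)) • D := by
    rw [add_comm 1 D, (Commute.one_right D).add_pow, Finset.sum_eq_add 0 1 (by norm_num) ?_ ?_ ?_]
    · simp [Nat.cast_smul_eq_nsmul, nsmul_eq_mul, Nat.cast_comm]
    · intro m hm hne
      rw [Finset.mem_range] at hm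
      by_cases h4 : 4 ≤ m
      · rw [← Nat.sub_add_cancel h4, pow_add, hD4, mul_zero, zero_mul, zero_mul]
      · obtain ⟨k, hk⟩ := hp.dvd_choose_self (show m ≠ 0 from hne.1) (by omega : m < p)
        obtain ⟨l, rfl⟩ : ∃ l, m = l + 2 := ⟨m - 2, by have := hne.1; have := hne.2; omega⟩
        have hc : ((p.choose (l + 2) : ℕ) : Matrix (Fin 2) (Fin 2) (ZMod (p ^ 2))) =
            (k : Matrix _ _ _) * (p : Matrix _ _ _) := by rw [hk, mul_comm, Nat.cast_mul]
        have hp2 : D ^ 2 * (p : Matrix (Fin 2) (Fin 2) (ZMod (p ^ 2))) = 0 := by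
          rw [← Nat.cast_comm, ← nsmul_eq_mul, ← Nat.cast_smul_eq_nsmul (ZMod (p ^ 2))]; exact hpD2
        rw [one_pow, mul_one, hc, Nat.cast_comm k, ← mul_assoc, pow_add, mul_assoc (D ^ l), hp2,
          mul_zero, zero_mul]
    · intro h; simp at h
    · intro h; simp at h; omega
  rw [key] at hD
  simpa using hD

/-- Let p > 3 be a prime and L the direct product of two cyclic groups of order p². Every automorphism of L of order p fixes every element of order p of L. -/
theorem result {p : ℕ} [Fact p.Prime] (hp : 3 < p)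
    (a : MulAut (Multiplicative (ZMod (p ^ 2) × ZMod (p ^ 2)))) (ha : orderOf a = p)
    (x : Multiplicative (ZMod (p ^ 2) × ZMod (p ^ 2))) (hx : orderOf x = p) : a x = x := by
  classical
  have hp' := hp
  have hp := (Fact.out : p.Prime)
  let L := ZMod (p ^ 2) × ZMod (p ^ 2)
  let F : MulAut (Multiplicative L) →* Module.End (ZMod (p ^ 2)) L :=
    { toFun := fun b => AddMonoidHom.toZModLinearMap (p ^ 2) (MonoidHom.toAdditive b.toMonoidHom : L →+ L)
      map_one' := LinearMap.ext fun v => rfl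
      map_mul' := fun b c => LinearMap.ext fun v => rfl }
  let B := Module.Basis.finTwoProd (ZMod (p ^ 2))
  let Mt := LinearMap.toMatrixAlgEquiv B
  have hM : (1 + (Mt (F a) - 1)) ^ p = 1 := by
    rw [add_sub_cancel, ← map_pow, ← map_pow, orderOf_dvd_iff_pow_eq_one.mp (dvd_of_eq ha), map_one, map_one]
  have hT : (p : ZMod (p ^ 2)) • (F a - 1) = 0 := by
    apply Mt.injective
    rw [map_smul, map_sub, map_one, map_zero]
    exact p_smul_eq_zero hp' _ hM
  obtain ⟨v, hv⟩ : ∃ v : L, Multiplicative.toAdd x = (p : ZMod (p ^ 2)) • v := by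
    have hx' : (p : ZMod (p ^ 2)) • Multiplicative.toAdd x = 0 := by
      rw [Nat.cast_smul_eq_nsmul, ← toAdd_pow, orderOf_dvd_iff_pow_eq_one.mp (dvd_of_eq hx), toAdd_one]
    have hd : ∀ z : ZMod (p ^ 2), (p : ZMod (p ^ 2)) * z = 0 → ∃ e, z = (p : ZMod (p ^ 2)) * e := by
      intro z hz
      obtain ⟨m, rfl⟩ := ZMod.natCast_zmod_surjective z
      rw [← Nat.cast_mul, ZMod.natCast_eq_zero_iff, pow_two] at hz
      obtain ⟨k, rfl⟩ := (Nat.mul_dvd_mul_iff_left hp.pos).mp hz
      exact ⟨k, by rw [Nat.cast_mul]⟩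
    obtain ⟨e1, he1⟩ := hd _ (congrArg Prod.fst hx')
    obtain ⟨e2, he2⟩ := hd _ (congrArg Prod.snd hx')
    exact ⟨(e1, e2), Prod.ext he1 he2⟩
  have h := congrArg (fun T : Module.End (ZMod (p ^ 2)) L => T v) hT
  simp only [LinearMap.smul_apply, LinearMap.sub_apply, smul_sub, LinearMap.zero_apply,
    Module.End.one_apply, sub_eq_zero, ← map_smul, ← hv] at h
  exact Multiplicative.toAdd.injective h

end Cfsg.Agent.S4080
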