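import Cfsg.Statements.S4081
import Cfsg.Agent.Lib.ThreeOrbit.Group

set_option autoImplicit false
open Cfsg

namespace Cfsg.Agent.S4081

/-- Let G be a finite group whose order is not a prime power. Then the automorphism group of G has exactly three orbits on G if and only if there are distinct primes p, q with #G = pⁿ·q (n ≥ 1) such that G has a normal elementary abelian Sylow p-subgroup P, p is a primitive root modulo q (the multiplicative order of p mod q is q − 1), and every element of order q of G acts on P without non-identity fixed points. -/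
theorem result {G : Type*} [Group G] [Finite G] (hnpp : ¬ IsPrimePow (Nat.card G)) (hnt : Nat.card G ≠ 1) :
    Nat.card (MulAction.orbitRel.Quotient (MulAut G) G) = 3 ↔
    ∃ (p q n : ℕ) (_ : Fact p.Prime) (_ : Fact q.Prime), p ≠ q ∧ 1 ≤ n ∧ Nat.card G = p ^ n * q ∧
      (∀ P : Sylow p G, (P : Subgroup G).Normal ∧ Cfsg.IsElementaryAbelian p (P : Subgroup G)) ∧
      orderOf (p : ZMod q) = q - 1 ∧
      ∀ x y : G, orderOf x = q → orderOf y = p → x * y * x⁻¹ ≠ y := by
  classical
  constructor
  · intro h3
    obtain ⟨p, q, hp, hq, N, hN, hpq, hNp, hNbot, hcomm, hexp, hidx, hord, hfpf⟩ :=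
      CfsgLib.ThreeOrbit.structure_of_three_orbits hnpp hnt h3
    obtain ⟨n, hn⟩ := IsPGroup.iff_card.mp hNp
    have hn1 : 1 ≤ n := by
      rcases Nat.eq_zero_or_pos n with h | h
      · exact absurd ((Subgroup.card_eq_one (H := N)).mp (by rw [hn, h, pow_zero])) hNbot
      · exact h
    have hcard : Nat.card G = p ^ n * q := by rw [← hn, ← hidx, N.card_mul_index]
    refine ⟨p, q, n, hp, hq, hpq, hn1, hcard, fun P => ?_, hord, hfpf⟩
    have hPc : Nat.card (P : Subgroup G) = Nat.card N := by
      rw [P.card_eq_multiplicity, hn, hcard, Nat.factorization_mul (pow_ne_zero _ hp.out.ne_zero)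
        hq.out.ne_zero, Finsupp.add_apply, hp.out.factorization_pow, hq.out.factorization,
        Finsupp.single_eq_same, Finsupp.single_eq_of_ne hpq, add_zero]
    obtain ⟨Q, hQ⟩ := hNp.exists_le_sylow
    have hQN : N = Q := Subgroup.eq_of_le_of_card_ge hQ (by
      rw [← hPc, P.card_eq_multiplicity, Q.card_eq_multiplicity])
    obtain ⟨g, hg⟩ := MulAction.exists_smul_eq G Q P
    have hPN : (P : Subgroup G) = N := by
      rw [← hg, Sylow.coe_subgroup_smul, ← hQN]
      exact Subgroup.Normal.conjAct hN g
    rw [hPN]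
    exact ⟨hN, hcomm, hexp⟩
  · rintro ⟨p, q, n, hp, hq, hpq, hn, hcard, hP, hord, hfpf⟩
    let P : Sylow p G := default
    obtain ⟨hN, hcomm, hexp⟩ := hP P
    have := hN
    have := hcomm
    have hPc : Nat.card (P : Subgroup G) = p ^ n := by
      rw [P.card_eq_multiplicity, hcard, Nat.factorization_mul (pow_ne_zero _ hp.out.ne_zero)
        hq.out.ne_zero, Finsupp.add_apply, hp.out.factorization_pow, hq.out.factorization,
        Finsupp.single_eq_same, Finsupp.single_eq_of_ne hpq, add_zero]
    obtain ⟨x, hx⟩ := exists_prime_orderOf_dvd_card' (G := G) q (by rw [hcard]; exact dvd_mul_left q _)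
    refine CfsgLib.ThreeOrbit.card_orbits_eq_three hpq (P : Subgroup G) hexp ?_ hx ?_ hord ?_
    · intro h
      rw [h, Subgroup.card_bot] at hPc
      exact (Nat.one_lt_pow (by omega) hp.out.one_lt).ne hPc
    · refine Subgroup.isComplement'_of_coprime ?_ ?_
      · rw [hPc, Nat.card_zpowers, hx, hcard]
      · rw [hPc, Nat.card_zpowers, hx]
        exact ((Nat.coprime_primes hp.out hq.out).mpr hpq).pow_left n
    · intro y hy h
      by_contra h1
      exact hfpf x y hx (orderOf_eq_prime (hexp y hy) h1) h

end Cfsg.Agent.S4081
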