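import Cfsg.Statements.S4082
import Cfsg.Agent.Lib.PByCyclic.Basic
import Cfsg.Agent.Lib.CentMaxNormal.Basic
import Cfsg.Agent.Lib.Transfer.Frobenius
import Cfsg.Agent.Lib.SL2.Census
-- import your own Cfsg.Agent.* helpers here

set_option autoImplicit false
open Cfsg

namespace Cfsg.Agent.S4082

open CfsgLib.PByCyclic
open scoped Pointwise

section
variable {G : Type*} [Group G] [Finite G] {p : ℕ} [Fact p.Prime]

/-- The hypothesis on `p`-by-cyclic subgroups, applied to `S⟨y⟩`. -/
theorem restricted_apply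
    (h : ∀ H : Subgroup G, (∀ S : Sylow p ↥H, (S : Subgroup ↥H).Normal) →
        (∀ (S : Sylow p ↥H) [(S : Subgroup ↥H).Normal], IsCyclic (↥H ⧸ (S : Subgroup ↥H))) →
        IsCyclic H ∨ (∃ n : ℕ, Nonempty (H ≃* DihedralGroup (p ^ n))))
    (S : Subgroup G) (hS : IsPGroup p S) {y : G} (hy : (orderOf y).Coprime p)
    (hn : y ∈ Subgroup.normalizer (S : Set G)) :
    IsCyclic ↥(S ⊔ Subgroup.zpowers y) ∨
      ∃ n : ℕ, Nonempty (↥(S ⊔ Subgroup.zpowers y) ≃* DihedralGroup (p ^ n)) := by
  set H := S ⊔ Subgroup.zpowers y with hH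
  have hSn : (S.subgroupOf H).Normal := Subgroup.normal_subgroupOf_of_le_normalizer
    (sup_le Subgroup.le_normalizer (Subgroup.zpowers_le.mpr hn))
  haveI := hSn
  have hsurj : Function.Surjective ((QuotientGroup.mk' (S.subgroupOf H)).comp
      (Subgroup.inclusion (le_sup_right : Subgroup.zpowers y ≤ H))) := by
    intro z
    obtain ⟨⟨u, hu⟩, rfl⟩ := QuotientGroup.mk'_surjective _ z
    have hu' : u ∈ (S : Set G) * (Subgroup.zpowers y : Set G) := by
      rw [← Subgroup.coe_mul_of_right_le_normalizer_left _ _ (Subgroup.zpowers_le.mpr hn)]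
      exact hu
    obtain ⟨s, hs, t, ht, rfl⟩ := hu'
    refine ⟨⟨t, ht⟩, ?_⟩
    rw [MonoidHom.comp_apply, QuotientGroup.mk'_eq_mk']
    refine ⟨⟨t⁻¹ * s * t, ?_⟩, ?_, Subtype.ext ?_⟩
    · exact H.mul_mem (H.mul_mem (H.inv_mem (Subgroup.mem_sup_right ht)) (Subgroup.mem_sup_left hs))
        (Subgroup.mem_sup_right ht)
    · change t⁻¹ * s * t ∈ S
      have := (Subgroup.mem_normalizer_iff.mp
        (Subgroup.inv_mem _ (Subgroup.zpowers_le.mpr hn ht)) s).mp hs
      simpa using this
    · change t * (t⁻¹ * s * t) = s * t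
      group
  have hidx : (S.subgroupOf H).index ∣ orderOf y := by
    rw [← Nat.card_zpowers, Subgroup.index_eq_card]
    exact Subgroup.card_dvd_of_surjective _ hsurj
  have hnd : ¬ p ∣ (S.subgroupOf H).index := fun hd =>
    ((Fact.out : p.Prime).coprime_iff_not_dvd.mp hy.symm) (hd.trans hidx)
  set P0 : Sylow p H := (hS.comap_of_injective _ H.subtype_injective).toSylow hnd with hP0
  haveI : Subsingleton (Sylow p H) := by
    haveI := Sylow.unique_of_normal P0 hSn
    infer_instance
  refine h H (fun T => ?_) ?_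
  · rw [Subsingleton.elim T P0]; exact hSn
  · intro T hT
    haveI hcy : IsCyclic (↥H ⧸ S.subgroupOf H) := isCyclic_of_surjective _ hsurj
    refine isCyclic_of_surjective
      (QuotientGroup.quotientMulEquivOfEq (show S.subgroupOf H = (T : Subgroup H) by
        rw [Subsingleton.elim T P0]; rfl)).toMonoidHom (MulEquiv.surjective _)

/-- In a dihedral conclusion with a noncentralizing element, that element has order two. -/
theorem order_two_of_dihedral
    (h : ∀ H : Subgroup G, (∀ S : Sylow p ↥H, (S : Subgroup ↥H).Normal) →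
        (∀ (S : Sylow p ↥H) [(S : Subgroup ↥H).Normal], IsCyclic (↥H ⧸ (S : Subgroup ↥H))) →
        IsCyclic H ∨ (∃ n : ℕ, Nonempty (H ≃* DihedralGroup (p ^ n))))
    (hp : p ≠ 2) (S : Subgroup G) (hS : IsPGroup p S) {y : G} (hy : (orderOf y).Coprime p)
    (hn : y ∈ Subgroup.normalizer (S : Set G)) (hc : ¬ ∀ s ∈ S, Commute y s) :
    orderOf y = 2 ∧ ∀ s ∈ S, Commute y s → s = 1 := by
  rcases restricted_apply h S hS hy hn with hcyc | ⟨n, ⟨e⟩⟩
  · exfalso
    refine hc fun s hs => ?_
    haveI := hcyc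
    letI : CommGroup ↥(S ⊔ Subgroup.zpowers y) := IsCyclic.commGroup
    exact congrArg Subtype.val (mul_comm (⟨y, Subgroup.mem_sup_right (Subgroup.mem_zpowers y)⟩ :
      ↥(S ⊔ Subgroup.zpowers y)) ⟨s, Subgroup.mem_sup_left hs⟩)
  haveI : NeZero (p ^ n) := ⟨pow_ne_zero _ (Fact.out : p.Prime).ne_zero⟩
  have hpo : ∀ (x : G) (hx : x ∈ S ⊔ Subgroup.zpowers y), orderOf (e ⟨x, hx⟩) = orderOf x :=
    fun x hx => by
      rw [← Subgroup.orderOf_mk x hx]
      exact orderOf_injective e.toMonoidHom e.injective ⟨x, hx⟩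
  have hcop2 : (2 : ℕ).Coprime p := (Nat.coprime_primes Nat.prime_two Fact.out).mpr (Ne.symm hp)
  have hy1 : y ≠ 1 := fun hy1 => hc fun s _ => hy1 ▸ Commute.one_left s
  cases hcase : e ⟨y, Subgroup.mem_sup_right (Subgroup.mem_zpowers y)⟩ with
  | r i =>
    exfalso
    have h1 : orderOf y ∣ p ^ n := by
      rw [← hpo y (Subgroup.mem_sup_right (Subgroup.mem_zpowers y)), hcase, DihedralGroup.orderOf_r]
      exact Nat.div_dvd_of_dvd (Nat.gcd_dvd_left _ _)
    exact hy1 (orderOf_eq_one_iff.mp (Nat.eq_one_of_dvd_coprimes (hy.pow_right n) dvd_rfl h1))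
  | sr i =>
    refine ⟨by rw [← hpo y (Subgroup.mem_sup_right (Subgroup.mem_zpowers y)), hcase,
      DihedralGroup.orderOf_sr], fun s hs hcs => ?_⟩
    have hsm : s ∈ S ⊔ Subgroup.zpowers y := Subgroup.mem_sup_left hs
    obtain ⟨k, hk⟩ := IsPGroup.iff_orderOf.mp hS ⟨s, hs⟩
    rw [← Subgroup.orderOf_coe] at hk
    simp only [] at hk
    have hcd : ∀ z : DihedralGroup (p ^ n), orderOf z ∣ p ^ k → Commute (DihedralGroup.sr i) z →
        z = 1 := by
      rintro (j | j) hz hzc
      · have hj : i + j = i - j := by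
          have := hzc.eq
          rw [DihedralGroup.sr_mul_r, DihedralGroup.r_mul_sr] at this
          exact DihedralGroup.sr.inj this
        have h2j : (DihedralGroup.r j) ^ 2 = 1 := by
          rw [pow_two, DihedralGroup.r_mul_r, DihedralGroup.one_def]
          congr 1
          linear_combination hj
        exact orderOf_eq_one_iff.mp (Nat.eq_one_of_dvd_coprimes (hcop2.pow_right k)
          (orderOf_dvd_of_pow_eq_one h2j) hz)
      · rw [DihedralGroup.orderOf_sr] at hz
        exact absurd (Nat.eq_one_of_dvd_coprimes (hcop2.pow_right k) dvd_rfl hz) (by norm_num)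
    have h1 : e ⟨s, hsm⟩ = 1 := hcd _ (by rw [hpo s hsm, hk]) (hcase ▸ by
      show e _ * e _ = e _ * e _
      rw [← map_mul, ← map_mul]
      exact congrArg e (Subtype.ext hcs.eq))
    exact congrArg Subtype.val (e.injective (h1.trans e.map_one.symm))

/-- The elements of `N(Q) ∖ C(Q)` for `Q` of order `p`. -/
theorem inverting_involution
    (h : ∀ H : Subgroup G, (∀ S : Sylow p ↥H, (S : Subgroup ↥H).Normal) →
        (∀ (S : Sylow p ↥H) [(S : Subgroup ↥H).Normal], IsCyclic (↥H ⧸ (S : Subgroup ↥H))) →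
        IsCyclic H ∨ (∃ n : ℕ, Nonempty (H ≃* DihedralGroup (p ^ n))))
    (hp : p ≠ 2) (Q : Subgroup G) (hQ : Nat.card Q = p) {x : G}
    (hx : x ∈ Subgroup.normalizer (Q : Set G)) (hxc : x ∉ Subgroup.centralizer (Q : Set G)) :
    orderOf x = 2 := by
  haveI : IsCyclic Q := isCyclic_of_prime_card hQ
  obtain ⟨q, hq⟩ := IsCyclic.exists_generator (α := Q)
  have hqo : orderOf (q : G) = p := by
    rw [Subgroup.orderOf_coe, orderOf_eq_card_of_forall_mem_zpowers hq, hQ]
  set v := (orderOf x).factorization p with hv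
  set o' := orderOf x / p ^ v with ho'
  have hoo : p ^ v * o' = orderOf x := Nat.ordProj_mul_ordCompl_eq_self _ _
  have hcop : o'.Coprime p :=
    ((Fact.out : p.Prime).coprime_iff_not_dvd.mpr
      (Nat.not_dvd_ordCompl Fact.out (orderOf_pos x).ne')).symm
  -- `z` is the `p'`-part and `w` the `p`-part
  obtain ⟨a, ha⟩ : ∃ a : ℤ, x * (q : G) * x⁻¹ = (q : G) ^ a := by
    obtain ⟨a, ha⟩ := Subgroup.mem_zpowers_iff.mp
      (hq ⟨x * q * x⁻¹, (Subgroup.mem_normalizer_iff.mp hx q).mp q.2⟩)
    exact ⟨a, (congrArg Subtype.val ha).symm.trans (by simp)⟩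
  set w := x ^ o' with hw
  have hwo : w ^ p ^ v = 1 := by rw [hw, ← pow_mul, mul_comm, hoo, pow_orderOf_eq_one]
  have hwq : Commute w (q : G) := by
    have h1 : ((p : ℕ) : ℤ) ∣ (a ^ o') ^ p ^ v - 1 := by
      have h0 : (q : G) ^ ((a ^ o') ^ p ^ v - 1) = 1 := by
        rw [zpow_sub, zpow_one, ← pow_mul, ← conj_zpow_mul ha, mul_comm o', hoo,
          pow_orderOf_eq_one]
        group
      have h0' := orderOf_dvd_iff_zpow_eq_one.mpr h0
      rwa [hqo] at h0' 
    rw [← ZMod.intCast_zmod_eq_zero_iff_dvd, Int.cast_sub, Int.cast_one, Int.cast_pow, sub_eq_zero,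
      ZMod.pow_card_pow, ← sub_eq_zero, ← Int.cast_one, ← Int.cast_sub,
      ZMod.intCast_zmod_eq_zero_iff_dvd, ← hqo, orderOf_dvd_iff_zpow_eq_one, zpow_sub, zpow_one,
      mul_inv_eq_one, ← conj_zpow_mul ha] at h1
    exact mul_inv_eq_iff_eq_mul.mp h1
  obtain ⟨i, j, hij⟩ : ∃ i j : ℤ, (1 : ℤ) = i * (p ^ v : ℕ) + j * o' :=
    ⟨Nat.gcdA (p ^ v) o', Nat.gcdB (p ^ v) o', by
      have h2 := Nat.gcd_eq_gcd_ab (p ^ v) o'
      rw [(hcop.pow_right v).symm.gcd_eq_one, Nat.cast_one] at h2
      linarith⟩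
  set z := x ^ (i * (p ^ v : ℕ)) with hz
  have hzo : z ^ o' = 1 := by
    rw [hz, ← zpow_natCast, ← zpow_mul, mul_assoc, ← Nat.cast_mul, hoo, mul_comm, zpow_mul,
      zpow_natCast, pow_orderOf_eq_one, one_zpow]
  have hxzw : x = z * w ^ j := by
    rw [hz, hw, ← zpow_natCast, ← zpow_mul, ← zpow_add, mul_comm (o' : ℤ), ← hij, zpow_one]
  have hzcop : (orderOf z).Coprime p := hcop.coprime_dvd_left (orderOf_dvd_of_pow_eq_one hzo)
  set S := Q ⊔ Subgroup.zpowers w with hS
  have hwN : Subgroup.zpowers w ≤ Subgroup.normalizer (Q : Set G) :=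
    Subgroup.zpowers_le.mpr (Subgroup.pow_mem _ hx _)
  have hSp : IsPGroup p S := by
    have hw' : IsPGroup p (Subgroup.zpowers w) := by
      obtain ⟨k, -, hk⟩ := (Nat.dvd_prime_pow Fact.out).mp (orderOf_dvd_of_pow_eq_one hwo)
      exact IsPGroup.of_card (n := k) (by rw [Nat.card_zpowers, hk])
    exact (IsPGroup.of_card (n := 1) (by rw [hQ, pow_one]) : IsPGroup p Q).to_sup_of_normal_left'
      hw' hwN
  have hzw : Commute z w := ((Commute.refl x).zpow_left _).pow_right _
  have hzN : z ∈ Subgroup.normalizer (S : Set G) := by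
    have hzQ : z ∈ Subgroup.normalizer (Q : Set G) := Subgroup.zpow_mem _ hx _
    have hzW : z ∈ Subgroup.normalizer (Subgroup.zpowers w : Set G) :=
      Subgroup.centralizer_le_normalizer _ (Subgroup.mem_centralizer_iff.mpr fun u hu => by
        obtain ⟨k, rfl⟩ := Subgroup.mem_zpowers_iff.mp hu
        exact ((hzw.zpow_right k).eq).symm)
    exact Subgroup.normalizer_inf_normalizer_le_normalizer_sup _ _ ⟨hzQ, hzW⟩
  have hnc : ¬ ∀ s ∈ S, Commute z s := by
    intro hall
    refine hxc (Subgroup.mem_centralizer_iff.mpr fun u hu => ?_)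
    obtain ⟨k, hk⟩ := Subgroup.mem_zpowers_iff.mp (hq ⟨u, hu⟩)
    have hk' : (q : G) ^ k = u := by simpa using congrArg Subtype.val hk
    have hzq : Commute z (q : G) := hall _ (Subgroup.mem_sup_left q.2)
    rw [← hk', hxzw]
    exact ((hzq.mul_left (hwq.zpow_left j)).zpow_right k).eq.symm
  obtain ⟨hz2, hfix⟩ := order_two_of_dihedral h hp S hSp hzcop hzN hnc
  have hw1 : w = 1 := hfix w (Subgroup.mem_sup_right (Subgroup.mem_zpowers w)) hzw
  rw [hxzw, hw1, one_zpow, mul_one, hz2]

end


/-- Let p be an odd prime and G a finite group with Sylow p-subgroup P. Say that G has restricted p-by-cyclic subgroups when every subgroup H of G whose Sylow p-subgroup is normal in H with cyclic quotient is itself cyclic or dihedral of order 2pⁿ for some n. Then G has restricted p-by-cyclic subgroups if and only if P is cyclic and one of the following holds: (1) N_G(P) = C_G(P); or (2) N_G(P)/C_G(P) has order 2 and, for the subgroup Q of order p of P, the centralizer C_G(Q) is abelian and every element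 of N_G(Q) outside C_G(Q) is an involution inverting every element of C_G(Q). -/
theorem result {G : Type*} [Group G] [Finite G] {p : ℕ}
    [Fact p.Prime] (hp : p ≠ 2) (P : Sylow p G) :
    (∀ H : Subgroup G, (∀ S : Sylow p ↥H, (S : Subgroup ↥H).Normal) →
        (∀ (S : Sylow p ↥H) [(S : Subgroup ↥H).Normal], IsCyclic (↥H ⧸ (S : Subgroup ↥H))) →
        IsCyclic H ∨ (∃ n : ℕ, Nonempty (H ≃* DihedralGroup (p ^ n)))) ↔
    (IsCyclic P ∧
      (Subgroup.normalizer ((P : Subgroup G) : Set G) = Subgroup.centralizer ((P : Subgroup G) : Set G) ∨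
       ((Subgroup.centralizer ((P : Subgroup G) : Set G)).relIndex (Subgroup.normalizer ((P : Subgroup G) : Set G)) = 2 ∧
        ∀ Q : Subgroup G, Q ≤ P → Nat.card Q = p →
          IsMulCommutative ↥(Subgroup.centralizer (Q : Set G)) ∧
          ∀ x : G, x ∈ Subgroup.normalizer (Q : Set G) → x ∉ Subgroup.centralizer (Q : Set G) →
            orderOf x = 2 ∧ ∀ c : G, c ∈ Subgroup.centralizer (Q : Set G) → x * c * x⁻¹ = c⁻¹))) := by
  classical
  haveI : Fact p.Prime := inferInstance
  have hcop2 : (2 : ℕ).Coprime p := (Nat.coprime_primes Nat.prime_two Fact.out).mpr (Ne.symm hp)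
  set N := Subgroup.normalizer ((P : Subgroup G) : Set G) with hN
  set C := Subgroup.centralizer ((P : Subgroup G) : Set G) with hC
  constructor
  · intro h
    have hPcyc : IsCyclic P := by
      rcases restricted_apply h P P.2 (y := 1) (by simp) (Subgroup.one_mem _) with hc | ⟨n, ⟨e⟩⟩
      · rwa [Subgroup.zpowers_one_eq_bot, sup_bot_eq] at hc
      · exfalso
        have hcard := Nat.card_congr e.toEquiv
        rw [Subgroup.zpowers_one_eq_bot, sup_bot_eq, DihedralGroup.nat_card] at hcard
        obtain ⟨k, hk⟩ := P.2.exists_card_eq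
        have h2 : 2 ∣ p ^ k := ⟨p ^ n, by rw [← hk]; exact hcard⟩
        exact hp ((Nat.prime_dvd_prime_iff_eq Nat.prime_two Fact.out).mp
          (Nat.prime_two.dvd_of_dvd_pow h2)).symm
    refine ⟨hPcyc, ?_⟩
    by_cases hNC : N ≤ C
    · exact Or.inl (le_antisymm hNC (Subgroup.centralizer_le_normalizer _))
    right
    obtain ⟨g, hgN, hgC⟩ := SetLike.not_le_iff_exists.mp hNC
    obtain ⟨d, hd⟩ := hPcyc.exists_generator
    have hdgen : ∀ y ∈ N, Commute y (d : G) → y ∈ C := by
      intro y _ hy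
      refine Subgroup.mem_centralizer_iff.mpr fun u hu => ?_
      obtain ⟨k, hk⟩ := Subgroup.mem_zpowers_iff.mp (hd ⟨u, hu⟩)
      have hk' : (d : G) ^ k = u := by simpa using congrArg Subtype.val hk
      rw [← hk']
      exact (hy.zpow_right k).eq.symm
    have hQex : ∃ Q : Subgroup G, Q ≤ P ∧ Nat.card Q = p := by
      have hne : (P : Subgroup G) ≠ ⊥ := by
        intro hb
        refine hgC (Subgroup.mem_centralizer_iff.mpr fun u hu => ?_)
        rw [hb, SetLike.mem_coe, Subgroup.mem_bot] at hu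
        rw [hu, one_mul, mul_one]
      obtain ⟨k, hk⟩ := P.2.exists_card_eq
      have hpd : p ∣ Nat.card P := by
        rcases Nat.eq_zero_or_pos k with rfl | hk0
        · exact absurd (Subgroup.card_eq_one.mp (by rw [hk, pow_zero])) hne
        · rw [hk]; exact dvd_pow_self p hk0.ne'
      obtain ⟨u, hu⟩ := exists_prime_orderOf_dvd_card' p hpd
      exact ⟨Subgroup.zpowers (u : G), Subgroup.zpowers_le.mpr u.2,
        by rw [Nat.card_zpowers, Subgroup.orderOf_coe, hu]⟩
    obtain ⟨Q0, hQ0P, hQ0⟩ := hQex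
    -- `N(P) ≤ N(Q₀)` and `C(P) ≤ C(Q₀)`
    haveI := hPcyc
    have hQfix : N ≤ Subgroup.normalizer (Q0 : Set G) := by
      intro y hy
      rw [Subgroup.mem_normalizer_iff]
      have hmap : (Q0.map (MulAut.conj y).toMonoidHom) = Q0 := by
        have hle : Q0.map (MulAut.conj y).toMonoidHom ≤ P := by
          rintro _ ⟨u, hu, rfl⟩
          exact (Subgroup.mem_normalizer_iff.mp hy u).mp (hQ0P hu)
        exact eq_of_card_eq_in_cyclic hle hQ0P
          (Subgroup.card_map_of_injective (MulAut.conj y).injective)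
      intro u
      conv_rhs => rw [← hmap]
      exact (Subgroup.mem_map_iff_mem (f := (MulAut.conj y).toMonoidHom) (MulAut.conj y).injective).symm
    have hfixC : ∀ y ∈ N, (orderOf y).Coprime p → y ∈ Subgroup.centralizer (Q0 : Set G) → y ∈ C := by
      intro y hy hyc hyQ
      obtain ⟨m, hm⟩ := P.2.exists_card_eq
      obtain ⟨u0, hu0⟩ := (isCyclic_of_prime_card hQ0).exists_generator
      have hu : orderOf (u0 : G) = p := by
        rw [Subgroup.orderOf_coe, orderOf_eq_card_of_forall_mem_zpowers hu0, hQ0]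
      have hmem : ∀ v ∈ (P : Subgroup G), v ∈ Subgroup.zpowers (d : G) := by
        intro v hv
        obtain ⟨k, hk⟩ := Subgroup.mem_zpowers_iff.mp (hd ⟨v, hv⟩)
        exact ⟨k, by simpa using congrArg Subtype.val hk⟩
      exact hdgen y hy (commute_of_fix (q := (u0 : G))
        (by rw [Subgroup.orderOf_coe, orderOf_eq_card_of_forall_mem_zpowers hd]; exact hm) hyc
        (hmem _ ((Subgroup.mem_normalizer_iff.mp hy d).mp d.2)) (hmem _ (hQ0P u0.2)) hu
        (Subgroup.mem_centralizer_iff.mp hyQ u0 u0.2).symm)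
    -- elements of `N` outside `C` are involutions
    have hinv : ∀ y ∈ N, y ∉ C → y ^ 2 ∈ C := by
      intro y hy hyC
      by_cases hyQ : y ∈ Subgroup.centralizer (Q0 : Set G)
      · exfalso
        refine hyC ?_
        -- split into the `p`- and `p'`-part
        refine CfsgLib.CentMaxNormal.mem_of_prime_power_parts fun z hz r j hr hzj => ?_
        have hzN : z ∈ N := Subgroup.zpowers_le.mpr hy hz
        by_cases hrp : r = p
        · subst hrp
          refine hdgen z hzN ?_
          have hzP : z ∈ (P : Subgroup G) := by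
            have hp' : IsPGroup r (Subgroup.zpowers z) :=
              IsPGroup.of_card (n := j) (by rw [Nat.card_zpowers, hzj])
            have hle : (P : Subgroup G) ⊔ Subgroup.zpowers z = P :=
              P.3 (P.2.to_sup_of_normal_left' hp' (Subgroup.zpowers_le.mpr hzN)) le_sup_left
            exact hle ▸ Subgroup.mem_sup_right (Subgroup.mem_zpowers z)
          letI : CommGroup ↥(P : Subgroup G) := IsCyclic.commGroup
          exact congrArg Subtype.val (mul_comm (⟨z, hzP⟩ : (P : Subgroup G)) d)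
        · exact hfixC z hzN
            (by rw [hzj]; exact ((Nat.coprime_primes hr Fact.out).mpr hrp).pow_left j)
            (Subgroup.zpowers_le.mpr hyQ hz)
      · have := inverting_involution h hp Q0 hQ0 (hQfix hy) hyQ
        rw [← this, pow_orderOf_eq_one]
        exact one_mem _
    have hgQ : g ∉ Subgroup.centralizer (Q0 : Set G) := by
      intro hgQ
      refine hgC (CfsgLib.CentMaxNormal.mem_of_prime_power_parts fun z hz r j hr hzj => ?_)
      have hzN : z ∈ N := Subgroup.zpowers_le.mpr hgN hz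
      by_contra hzC
      have h2 := hinv z hzN hzC
      by_cases hr2 : r = 2
      · exact hzC (hfixC z hzN (by rw [hzj, hr2]; exact hcop2.pow_left j)
          (Subgroup.zpowers_le.mpr hgQ hz))
      · obtain ⟨m, hm⟩ : ∃ m : ℕ, (z ^ 2) ^ m = z := exists_pow_eq_self_of_coprime
          (by rw [hzj]; exact ((Nat.coprime_primes Nat.prime_two hr).mpr (Ne.symm hr2)).pow_right j)
        exact hzC (hm ▸ C.pow_mem h2 m)
    -- the involution `g` inverts `P`
    have hg2 : orderOf g = 2 := inverting_involution h hp Q0 hQ0 (hQfix hgN) hgQ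
    have hprod : ∀ y ∈ N, y ∉ C → g⁻¹ * y ∈ C := by
      intro y hy hyC
      have hdinv : ∀ t ∈ N, t ∉ C → orderOf t = 2 → t * (d : G) * t⁻¹ = (d : G)⁻¹ := by
        intro t ht htC ht2
        have hnc : ¬ ∀ s ∈ (P : Subgroup G), Commute t s := fun hall => htC (hdgen t ht (hall d d.2))
        obtain ⟨-, hfix⟩ := order_two_of_dihedral h hp P P.2 (by rw [ht2]; exact hcop2) ht hnc
        have htt : t * t = 1 := by rw [← pow_two, ← ht2, pow_orderOf_eq_one]
        have htinv : t⁻¹ = t := inv_eq_of_mul_eq_one_right htt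
        refine eq_inv_of_mul_eq_one_left (hfix _ (Subgroup.mul_mem _
          ((Subgroup.mem_normalizer_iff.mp ht d).mp d.2) d.2) ?_)
        have hcomm : t * (d : G) * t⁻¹ * d = (d : G) * (t * d * t⁻¹) := by
          letI : CommGroup ↥(P : Subgroup G) := IsCyclic.commGroup
          exact congrArg Subtype.val (mul_comm (⟨t * (d : G) * t⁻¹,
            (Subgroup.mem_normalizer_iff.mp ht d).mp d.2⟩ : (P : Subgroup G)) d)
        show t * (t * (d : G) * t⁻¹ * d) = t * (d : G) * t⁻¹ * d * t
        conv_rhs => rw [hcomm]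
        rw [htinv]
        calc t * (t * d * t * d) = (t * t) * (d * t * d) := by group
          _ = d * t * d := by rw [htt, one_mul]
          _ = d * (t * d) * (t * t) := by rw [htt, mul_one, mul_assoc]
          _ = d * (t * d * t) * t := by group
      have hyQ : y ∉ Subgroup.centralizer (Q0 : Set G) := by
        intro hyQ
        refine hyC (CfsgLib.CentMaxNormal.mem_of_prime_power_parts fun z hz r j hr hzj => ?_)
        have hzN : z ∈ N := Subgroup.zpowers_le.mpr hy hz
        by_contra hzC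
        by_cases hrp : r = p
        · subst hrp
          have h2 := hinv z hzN hzC
          obtain ⟨m, hm⟩ : ∃ m : ℕ, (z ^ 2) ^ m = z := exists_pow_eq_self_of_coprime
            (by rw [hzj]; exact hcop2.pow_right j)
          exact hzC (hm ▸ C.pow_mem h2 m)
        · exact hzC (hfixC z hzN
            (by rw [hzj]; exact ((Nat.coprime_primes hr Fact.out).mpr hrp).pow_left j)
            (Subgroup.zpowers_le.mpr hyQ hz))
      have hy2 := inverting_involution h hp Q0 hQ0 (hQfix hy) hyQ
      have hg' := hdinv g hgN hgC hg2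
      have hy' := hdinv y hy hyC hy2
      refine hdgen _ (N.mul_mem (N.inv_mem hgN) hy) ?_
      show g⁻¹ * y * (d : G) = (d : G) * (g⁻¹ * y)
      calc g⁻¹ * y * (d : G) = g⁻¹ * (y * d * y⁻¹) * y := by group
        _ = g⁻¹ * (g * d * g⁻¹) * y := by rw [hy', hg']
        _ = (d : G) * (g⁻¹ * y) := by group
    refine ⟨?_, fun Q hQP hQ => ?_⟩
    · change (C.subgroupOf N).index = 2
      rw [Subgroup.index_eq_two_iff]
      refine ⟨⟨g, hgN⟩, fun b => ?_⟩
      simp only [Subgroup.mem_subgroupOf, Subgroup.coe_mul]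
      by_cases hb : (b : G) ∈ C
      · refine Or.inr ⟨hb, fun hbg => hgC ?_⟩
        have := C.mul_mem (C.inv_mem hb) hbg
        rwa [inv_mul_cancel_left] at this
      · refine Or.inl ⟨?_, hb⟩
        have hginv : g⁻¹ = g :=
          inv_eq_of_mul_eq_one_right (by rw [← pow_two, ← hg2, pow_orderOf_eq_one])
        have hconj : ∀ c ∈ C, g * c * g⁻¹ ∈ C := fun c hc => Subgroup.mem_centralizer_iff.mpr
          fun u hu => by
            have h1 := Subgroup.mem_centralizer_iff.mp hc _
              ((Subgroup.mem_normalizer_iff.mp (N.inv_mem hgN) u).mp hu)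
            calc u * (g * c * g⁻¹) = g * (g⁻¹ * u * g⁻¹⁻¹ * c) * g⁻¹ := by group
              _ = g * (c * (g⁻¹ * u * g⁻¹⁻¹)) * g⁻¹ := by rw [h1]
              _ = g * c * g⁻¹ * u := by group
        have h1 := hconj _ (hprod b b.2 hb)
        rwa [mul_inv_cancel_left, hginv] at h1
    · obtain rfl : Q = Q0 := by
        exact eq_of_card_eq_in_cyclic hQP hQ0P (hQ.trans hQ0.symm)
      set CQ := Subgroup.centralizer (Q : Set G) with hCQ
      have hinvert : ∀ x ∈ Subgroup.normalizer (Q : Set G), x ∉ CQ →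
          ∀ c ∈ CQ, x * c * x⁻¹ = c⁻¹ := by
        intro x hx hxc c hc
        have hxcN : x * c ∈ Subgroup.normalizer (Q : Set G) :=
          Subgroup.mul_mem _ hx (Subgroup.centralizer_le_normalizer _ hc)
        have hxcC : x * c ∉ CQ := fun hm => hxc (by simpa using CQ.mul_mem hm (CQ.inv_mem hc))
        have e1 := inverting_involution h hp Q hQ hx hxc
        have e2 := inverting_involution h hp Q hQ hxcN hxcC
        have hxx : x⁻¹ = x := inv_eq_of_mul_eq_one_right (by rw [← pow_two, ← e1, pow_orderOf_eq_one])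
        refine eq_inv_of_mul_eq_one_left ?_
        rw [hxx]
        calc x * c * x * c = (x * c) * (x * c) := by group
          _ = 1 := by rw [← pow_two, ← e2, pow_orderOf_eq_one]
      refine ⟨⟨⟨fun a b => Subtype.ext ?_⟩⟩, fun x hx hxc => ⟨inverting_involution h hp Q hQ hx hxc,
        fun c hc => hinvert x hx hxc c hc⟩⟩
      have ha := hinvert g (hQfix hgN) hgQ a a.2
      have hb := hinvert g (hQfix hgN) hgQ b b.2
      have hab := hinvert g (hQfix hgN) hgQ _ (CQ.mul_mem a.2 b.2)
      have h3 : g * ((a : G) * b) * g⁻¹ = (g * a * g⁻¹) * (g * b * g⁻¹) := by group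
      rw [hab, ha, hb, mul_inv_rev] at h3
      have h4 := congrArg (·⁻¹) h3
      simpa using h4
  · rintro ⟨hPcyc, hcase⟩ H h1 h2
    haveI := hPcyc
    obtain ⟨S, l, hSH, hlH, hS, hlp, hlN, hgen, hcard⟩ := decompose H h1 h2
    obtain ⟨k, hk⟩ := CfsgLib.Transfer.exists_map_conj_le_sylow hS P
    haveI hScyc : IsCyclic S := by
      haveI : IsCyclic ↥(S.map (MulAut.conj k).toMonoidHom) :=
        Subgroup.isCyclic_of_le hk
      exact isCyclic_of_injective (S.equivMapOfInjective (MulAut.conj k).toMonoidHom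
        (MulAut.conj k).injective).toMonoidHom (MulEquiv.injective _)
    by_cases hc : ∀ s ∈ S, Commute l s
    · exact Or.inl (isCyclic_of_commute hS hlp hSH hlH hc hcard)
    right
    -- conjugate into `P`
    set l' := k * l * k⁻¹ with hl'
    set S' := S.map (MulAut.conj k).toMonoidHom with hS'
    have hl'p : (orderOf l').Coprime p := by rwa [hl', CfsgLib.Transfer.orderOf_conj]
    have hl'N : l' ∈ Subgroup.normalizer (S' : Set G) :=
      Subgroup.le_normalizer_map (MulAut.conj k).toMonoidHom (Subgroup.mem_map_of_mem _ hlN)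
    haveI : IsCyclic S' := Subgroup.isCyclic_of_le hk
    obtain ⟨s, hs⟩ := IsCyclic.exists_generator (α := S')
    have hS'p : IsPGroup p S' := hS.map _
    obtain ⟨m, hm⟩ := hS'p.exists_card_eq
    have hsm : orderOf (s : G) = p ^ m := by
      rw [Subgroup.orderOf_coe, orderOf_eq_card_of_forall_mem_zpowers hs, hm]
    have hmem : ∀ v ∈ S', v ∈ Subgroup.zpowers (s : G) := by
      intro v hv
      obtain ⟨i, hi⟩ := Subgroup.mem_zpowers_iff.mp (hs ⟨v, hv⟩)
      exact ⟨i, by simpa using congrArg Subtype.val hi⟩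
    have hls : ¬ Commute l' (s : G) := by
      intro hcs
      refine hc fun u hu => ?_
      obtain ⟨i, hi⟩ := Subgroup.mem_zpowers_iff.mp
        (hmem _ (Subgroup.mem_map_of_mem (MulAut.conj k).toMonoidHom hu))
      have hcu : Commute l' (k * u * k⁻¹) := by
        have := hcs.zpow_right i
        rwa [hi] at this
      have h5 := congrArg (fun z => k⁻¹ * z * k) hcu.eq
      show l * u = u * l
      calc l * u = k⁻¹ * (l' * (k * u * k⁻¹)) * k := by rw [hl']; group
        _ = k⁻¹ * (k * u * k⁻¹ * l') * k := h5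
        _ = u * l := by rw [hl']; group
    have hm0 : 0 < m := by
      by_contra h0
      refine hls ?_
      rw [Nat.le_zero.mp (not_lt.mp h0), pow_zero, orderOf_eq_one_iff] at hsm
      rw [hsm]; exact Commute.one_right _
    set q := (s : G) ^ p ^ (m - 1) with hq
    have hqo : orderOf q = p := by
      rw [hq, orderOf_pow_of_dvd (pow_ne_zero _ (Fact.out : p.Prime).ne_zero)
        (hsm ▸ pow_dvd_pow p (Nat.sub_le m 1)), hsm, Nat.pow_div (Nat.sub_le m 1)
        (Fact.out : p.Prime).pos, show m - (m - 1) = 1 by omega, pow_one]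
    have hqs : q ∈ Subgroup.zpowers (s : G) := Subgroup.pow_mem _ (Subgroup.mem_zpowers _) _
    have hlq : ¬ Commute l' q := fun hcq => hls (commute_of_fix hsm hl'p
      (hmem _ ((Subgroup.mem_normalizer_iff.mp hl'N s).mp s.2)) hqs hqo hcq)
    have hqP : q ∈ (P : Subgroup G) := Subgroup.pow_mem _ (hk s.2) _
    set Q := Subgroup.zpowers q with hQ
    have hlQ : l' ∈ Subgroup.normalizer (Q : Set G) := by
      obtain ⟨i, hi⟩ := Subgroup.mem_zpowers_iff.mp
        (hmem _ ((Subgroup.mem_normalizer_iff.mp hl'N s).mp s.2))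
      have hle : Q.map (MulAut.conj l').toMonoidHom ≤ Q := by
        rw [hQ, MonoidHom.map_zpowers, Subgroup.zpowers_le]
        refine ⟨i, ?_⟩
        show q ^ i = l' * q * l'⁻¹
        rw [hq, ← conj_pow, ← hi, ← zpow_natCast, ← zpow_natCast, ← zpow_mul, ← zpow_mul, mul_comm]
      have heq : Q.map (MulAut.conj l').toMonoidHom = Q := Subgroup.eq_of_le_of_card_ge hle
        (Subgroup.card_map_of_injective (MulAut.conj l').injective (K := Q)).ge
      rw [Subgroup.mem_normalizer_iff]
      intro u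
      conv_rhs => rw [← heq]
      exact (Subgroup.mem_map_iff_mem (f := (MulAut.conj l').toMonoidHom) (MulAut.conj l').injective).symm
    have hlQc : l' ∉ Subgroup.centralizer (Q : Set G) := fun hm =>
      hlq (Subgroup.mem_centralizer_iff.mp hm q (Subgroup.mem_zpowers q)).symm
    rcases hcase with hNC | ⟨-, hinv⟩
    · exfalso
      have hA := CfsgLib.Transfer.pAutomizers_of_hasNormalPComplement
        (CfsgLib.Transfer.hasNormalPComplement_of_normalizer_le_centralizer P hNC.le)
      exact hlQc (hA Q (P.2.to_le (Subgroup.zpowers_le.mpr hqP)) l' hlQ hl'p)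
    obtain ⟨-, hout⟩ := hinv Q (Subgroup.zpowers_le.mpr hqP) (by rw [hQ, Nat.card_zpowers, hqo])
    obtain ⟨hl2, hlinv⟩ := hout l' hlQ hlQc
    have hl2' : orderOf l = 2 := by rwa [hl', CfsgLib.Transfer.orderOf_conj] at hl2
    have hlinvS : ∀ u ∈ S, l * u * l⁻¹ = u⁻¹ := by
      intro u hu
      have hu' : k * u * k⁻¹ ∈ S' := Subgroup.mem_map_of_mem (MulAut.conj k).toMonoidHom hu
      have hcu : k * u * k⁻¹ ∈ Subgroup.centralizer (Q : Set G) := by
        refine Subgroup.mem_centralizer_iff.mpr fun v hv => ?_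
        obtain ⟨i, rfl⟩ := Subgroup.mem_zpowers_iff.mp hv
        obtain ⟨j, hj⟩ := Subgroup.mem_zpowers_iff.mp (hmem _ hu')
        rw [← hj, hq]
        exact ((((Commute.refl (s : G)).pow_left _).zpow_zpow i j)).eq
      calc l * u * l⁻¹ = k⁻¹ * (l' * (k * u * k⁻¹) * l'⁻¹) * k := by rw [hl']; group
        _ = k⁻¹ * (k * u * k⁻¹)⁻¹ * k := by rw [hlinv _ hcu]
        _ = u⁻¹ := by group
    obtain ⟨n, hn⟩ := hS.exists_card_eq
    refine ⟨n, ?_⟩
    haveI : IsCyclic ↥(S.subgroupOf H) := isCyclic_of_injective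
      (Subgroup.subgroupOfEquivOfLe hSH).toMonoidHom (MulEquiv.injective _)
    have hcS : Nat.card ↥(S.subgroupOf H) = p ^ n := by
      rw [Nat.card_congr (Subgroup.subgroupOfEquivOfLe hSH).toEquiv, hn]
    have hidx : (S.subgroupOf H).index = 2 := by
      refine Nat.eq_of_mul_eq_mul_left (pow_pos (Fact.out : p.Prime).pos n) ?_
      conv_lhs => rw [← hcS]
      rw [Subgroup.card_mul_index, hcard, hn, hl2']
    rw [← hcS]
    refine CfsgLib.SL2.Census.nonempty_dihedral (C := S.subgroupOf H) inferInstance hidx ?_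
    rintro ⟨x, hx⟩ hxS
    have hx' : x ∈ (S : Set G) * (Subgroup.zpowers l : Set G) := by
      rw [← Subgroup.coe_mul_of_right_le_normalizer_left _ _ (Subgroup.zpowers_le.mpr hlN), hgen]
      exact hx
    obtain ⟨u, hu, v, hv, rfl⟩ := hx'
    have hv1 : v = 1 ∨ v = l := by
      obtain ⟨i, rfl⟩ := Subgroup.mem_zpowers_iff.mp hv
      rw [← zpow_mod_orderOf, hl2']
      rcases Int.emod_two_eq_zero_or_one i with e | e <;>
        simp only [Nat.cast_ofNat, e, zpow_zero, zpow_one, true_or, or_true]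
    obtain rfl | hvl := hv1
    · exact absurd (by simpa [Subgroup.mem_subgroupOf] using hu) hxS
    · refine Subtype.ext ?_
      have hll : l⁻¹ = l := inv_eq_of_mul_eq_one_right (by rw [← pow_two, ← hl2', pow_orderOf_eq_one])
      have hh := hlinvS u hu
      rw [hll] at hh
      show u * v * (u * v) = 1
      rw [hvl]
      calc u * l * (u * l) = u * (l * u * l) := by group
        _ = 1 := by rw [hh, mul_inv_cancel]

end Cfsg.Agent.S4082
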