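import Cfsg.Statements.S4083
import Cfsg.Agent.Lib.PByCyclic.Basic
import Cfsg.Agent.Lib.CentMaxNormal.Basic
import Cfsg.Agent.Lib.Transfer.Sylow
import Cfsg.Agent.Lib.Transfer.Basic
import Cfsg.Agent.Lib.SL2.Census
-- import your own Cfsg.Agent.* helpers here

set_option autoImplicit false
open Cfsg

namespace Cfsg.Agent.S4083

open CfsgLib.PByCyclic
open scoped Pointwise

section
variable {G : Type*} [Group G] [Finite G]

theorem four_not_cyclic {K : Subgroup G} (h4 : Nat.card K = 4) (h2 : ∀ k ∈ K, k ^ 2 = 1)
    {W : Subgroup G} [IsCyclic W] : ¬ K ≤ W := by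
  intro hle
  haveI : IsCyclic K := Subgroup.isCyclic_of_le hle
  obtain ⟨g, hg⟩ := IsCyclic.exists_generator (α := K)
  have h := orderOf_eq_card_of_forall_mem_zpowers hg
  rw [h4] at h
  have h' : orderOf g ∣ 2 := orderOf_dvd_of_pow_eq_one (Subtype.ext (h2 g g.2))
  rw [h] at h'
  exact absurd (Nat.le_of_dvd two_pos h') (by norm_num)

/-- A commutative subgroup of a dihedral group containing a four-group equals it. -/
theorem eq_four_of_comm {P D T K : Subgroup G} [IsCyclic D] (hidx : D.relIndex P = 2)
    (hout : ∀ x ∈ P, x ∉ D → x * x = 1) (hT : T ≤ P) (hKT : K ≤ T)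
    (hcomm : ∀ a ∈ T, ∀ b ∈ T, a * b = b * a) (h4 : Nat.card K = 4)
    (h2 : ∀ k ∈ K, k ^ 2 = 1) : T = K := by
  obtain ⟨s, hsK, hsD⟩ := SetLike.not_le_iff_exists.mp (four_not_cyclic h4 h2 (W := D))
  have hexp : ∀ t ∈ T, t ^ 2 = 1 := by
    intro t ht
    by_cases htD : t ∈ D
    · have hst : s * t ∉ D := fun h => hsD (by simpa using D.mul_mem h (D.inv_mem htD))
      have h1 := hout _ (hT (T.mul_mem (hKT hsK) ht)) hst
      have hc : Commute s t := hcomm s (hKT hsK) t ht
      have h5 : (s * t) ^ 2 = 1 := by rw [pow_two]; exact h1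
      rwa [hc.mul_pow, h2 s hsK, one_mul] at h5
    · rw [pow_two]; exact hout t (hT ht) htD
  have hinf : Nat.card ↥(D ⊓ T) ≤ 2 := by
    haveI : IsCyclic ↥(D ⊓ T) := Subgroup.isCyclic_of_le inf_le_left
    obtain ⟨g, hg⟩ := IsCyclic.exists_generator (α := ↥(D ⊓ T))
    rw [← orderOf_eq_card_of_forall_mem_zpowers hg]
    exact Nat.le_of_dvd two_pos (orderOf_dvd_of_pow_eq_one (Subtype.ext (hexp g g.2.2)))
  have hT4 : Nat.card T ≤ 4 := by
    have h6 : (D ⊓ T).relIndex T ≤ 2 := by
      rw [Subgroup.inf_relIndex_right, ← hidx]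
      exact Subgroup.relIndex_le_of_le_right hT (by rw [hidx]; norm_num)
    rw [← Subgroup.card_mul_index ((D ⊓ T).subgroupOf T),
      Nat.card_congr (Subgroup.subgroupOfEquivOfLe (inf_le_right : D ⊓ T ≤ T)).toEquiv]
    exact (Nat.mul_le_mul hinf h6).trans le_rfl
  exact (Subgroup.eq_of_le_of_card_ge hKT (h4 ▸ hT4)).symm

theorem four_centralizer (P : Sylow 2 G)
    (hK : ∀ K : Subgroup G, K ≤ P → Nat.card K = 4 → (∀ k ∈ K, k ^ 2 = 1) →
      Subgroup.centralizer (K : Set G) = K)
    (K : Subgroup G) (h4 : Nat.card K = 4) (h2 : ∀ k ∈ K, k ^ 2 = 1) :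
    Subgroup.centralizer (K : Set G) ≤ K := by
  obtain ⟨k, hk⟩ := CfsgLib.Transfer.exists_map_conj_le_sylow
    (IsPGroup.of_card (n := 2) h4 : IsPGroup 2 K) P
  have h := hK _ hk (by rw [Subgroup.card_map_of_injective (MulAut.conj k).injective, h4]) (by
    rintro _ ⟨u, hu, rfl⟩
    rw [← map_pow, h2 u hu, map_one])
  intro c hc
  have h1 : k * c * k⁻¹ ∈ K.map (MulAut.conj k).toMonoidHom := by
    rw [← h]
    refine Subgroup.mem_centralizer_iff.mpr ?_
    rintro _ ⟨u, hu, rfl⟩
    show k * u * k⁻¹ * (k * c * k⁻¹) = k * c * k⁻¹ * (k * u * k⁻¹)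
    calc k * u * k⁻¹ * (k * c * k⁻¹) = k * (u * c) * k⁻¹ := by group
      _ = k * (c * u) * k⁻¹ := by rw [Subgroup.mem_centralizer_iff.mp hc u hu]
      _ = k * c * k⁻¹ * (k * u * k⁻¹) := by group
  obtain ⟨u, hu, hue⟩ := h1
  have : u = c := by simpa using hue
  exact this ▸ hu

/-- A Sylow subgroup isomorphic to a dihedral group has a cyclic subgroup of index two outside of
which all elements are involutions. -/
theorem dihedral_data {P : Subgroup G} {n : ℕ} (e : P ≃* DihedralGroup (2 ^ n)) :
    ∃ D : Subgroup G, D ≤ P ∧ IsCyclic D ∧ D.relIndex P = 2 ∧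
      ∀ x ∈ P, x ∉ D → x * x = 1 := by
  haveI : NeZero (2 ^ n) := ⟨by positivity⟩
  set D0 := Subgroup.zpowers (e.symm (DihedralGroup.r 1)) with hD0
  refine ⟨D0.map P.subtype, Subgroup.map_subtype_le _, ?_, ?_, fun x hx hxD => ?_⟩
  · exact isCyclic_of_surjective (P.subtype.subgroupMap D0) (P.subtype.subgroupMap_surjective D0)
  · rw [Subgroup.relIndex, Subgroup.subgroupOf, Subgroup.comap_map_eq_self_of_injective P.subtype_injective]
    have h1 := D0.card_mul_index
    rw [Nat.card_congr e.toEquiv, DihedralGroup.nat_card, hD0, Nat.card_zpowers,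
      MulEquiv.orderOf_eq, DihedralGroup.orderOf_r_one, mul_comm 2] at h1
    exact Nat.eq_of_mul_eq_mul_left (by positivity) h1
  · cases hc : e ⟨x, hx⟩ with
    | r i =>
      exfalso
      refine hxD ⟨⟨x, hx⟩, ⟨(i.val : ℤ), ?_⟩, rfl⟩
      apply e.injective
      rw [hc, map_zpow, MulEquiv.apply_symm_apply, zpow_natCast, DihedralGroup.r_one_pow,
        ZMod.natCast_zmod_val]
    | sr i =>
      have h1 : e (⟨x, hx⟩ * ⟨x, hx⟩) = e 1 := by rw [map_mul, map_one, hc, DihedralGroup.sr_mul_self]
      exact congrArg Subtype.val (e.injective h1)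

theorem perm_three_fix {G : Type*} [Group G] {S : Subgroup G} (h4 : Nat.card S = 4)
    (h2 : ∀ k ∈ S, k ^ 2 = 1) {l u : G} (hl : l ∈ Subgroup.normalizer (S : Set G))
    (hl3 : l ^ 3 = 1) (hu : u ∈ S) (hu1 : u ≠ 1) (hlu : Commute l u) :
    l ∈ Subgroup.centralizer (S : Set G) := by
  classical
  haveI : Finite S := Nat.finite_of_card_ne_zero (by omega)
  have hconj : ∀ t ∈ S, l * t * l⁻¹ ∈ S := fun t ht => (Subgroup.mem_normalizer_iff.mp hl t).mp ht
  refine Subgroup.mem_centralizer_iff.mpr fun t ht => ?_
  by_cases ht' : t = 1 ∨ t = u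
  · rcases ht' with rfl | rfl
    · simp
    · exact hlu.eq.symm
  push Not at ht'
  have huu : u * u = 1 := by rw [← pow_two]; exact h2 u hu
  have hcases : l * t * l⁻¹ = t ∨ l * t * l⁻¹ = u * t := by
    haveI := Fintype.ofFinite S
    by_contra hcon
    push Not at hcon
    have hc : ({1, ⟨u, hu⟩, ⟨t, ht⟩, ⟨u * t, S.mul_mem hu ht⟩, ⟨l * t * l⁻¹, hconj t ht⟩} :
        Finset S).card ≤ 4 := by
      rw [← h4, Nat.card_eq_fintype_card]
      exact Finset.card_le_univ _
    rw [Finset.card_insert_of_notMem, Finset.card_insert_of_notMem, Finset.card_insert_of_notMem,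
      Finset.card_insert_of_notMem, Finset.card_singleton] at hc
    · omega
    · simp only [Finset.mem_singleton, Subtype.mk.injEq]
      exact Ne.symm hcon.2
    · simp only [Finset.mem_insert, Finset.mem_singleton, Subtype.mk.injEq, not_or]
      exact ⟨fun h => hu1 (by simpa using h.symm), Ne.symm hcon.1⟩
    · simp only [Finset.mem_insert, Finset.mem_singleton, Subtype.mk.injEq, not_or]
      refine ⟨Ne.symm ht'.2, fun h => ht'.1 (by simpa using h.symm), fun h => ?_⟩
      exact ht'.2 (mul_left_cancel ((mul_inv_eq_iff_eq_mul.mp h.symm).trans hlu.eq.symm))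
    · simp only [Finset.mem_insert, Finset.mem_singleton, Subtype.ext_iff, Subgroup.coe_one, not_or]
      refine ⟨Ne.symm hu1, Ne.symm ht'.1, fun h => ht'.2 ?_, fun h => ht'.1 ?_⟩
      · rw [eq_inv_of_mul_eq_one_right h.symm, inv_eq_of_mul_eq_one_right huu]
      · exact mul_left_cancel ((mul_inv_eq_one.mp h.symm).trans (mul_one l).symm)
  rcases hcases with h | h
  · exact (mul_inv_eq_iff_eq_mul.mp h).symm
  · exfalso
    have e2 : l * (l * t * l⁻¹) * l⁻¹ = t := by
      rw [h]
      calc l * (u * t) * l⁻¹ = (l * u * l⁻¹) * (l * t * l⁻¹) := by group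
        _ = u * (u * t) := by rw [hlu.eq, mul_inv_cancel_right, h]
        _ = t := by rw [← mul_assoc, huu, one_mul]
    have e3 : l * (l * (l * t * l⁻¹) * l⁻¹) * l⁻¹ = t := by
      calc _ = l ^ 3 * t * (l ^ 3)⁻¹ := by simp [pow_succ, mul_assoc, mul_inv_rev]
        _ = t := by rw [hl3]; group
    rw [e2, h] at e3
    exact hu1 (by simpa using e3)

end


/-- Let G be a finite group with Sylow 2-subgroup P. Every subgroup H of G whose Sylow 2-subgroup is normal in H with cyclic quotient is cyclic, dihedral of 2-power order, or isomorphic to the alternating group of degree 4, if and only if either P is cyclic, or P is dihedral (of order at least 4) and every elementary abelian subgroup K of order 4 of P satisfies C_G(K) = K. -/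
theorem result {G : Type*} [Group G] [Finite G] (P : Sylow 2 G) :
    (∀ H : Subgroup G, (∀ S : Sylow 2 ↥H, (S : Subgroup ↥H).Normal) →
        (∀ (S : Sylow 2 ↥H) [(S : Subgroup ↥H).Normal], IsCyclic (↥H ⧸ (S : Subgroup ↥H))) →
        IsCyclic H ∨ (∃ n : ℕ, Nonempty (H ≃* DihedralGroup (2 ^ n))) ∨ Nonempty (H ≃* alternatingGroup (Fin 4))) ↔
    (IsCyclic P ∨
      ((∃ n : ℕ, 1 ≤ n ∧ Nonempty ((P : Subgroup G) ≃* DihedralGroup (2 ^ n))) ∧
        ∀ K : Subgroup G, K ≤ P → Nat.card K = 4 → (∀ k ∈ K, k ^ 2 = 1) → Subgroup.centralizer (K : Set G) = K)) := by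
  classical
  constructor
  · intro h
    have hfour : ∀ K : Subgroup G, Nat.card K = 4 → (∀ k ∈ K, k ^ 2 = 1) →
        ∀ z ∈ Subgroup.centralizer (K : Set G), (orderOf z).Coprime 2 → z = 1 := by
      intro K h4 h2 z hz hz2
      obtain ⟨a, b⟩ := hyps_sup K (IsPGroup.of_card (n := 2) h4 : IsPGroup 2 K) hz2
        (Subgroup.centralizer_le_normalizer _ hz)
      set H := K ⊔ Subgroup.zpowers z with hH
      rcases h H a b with hc | ⟨n, ⟨e⟩⟩ | ⟨⟨e⟩⟩
      · haveI := hc
        exact absurd (le_sup_left : K ≤ H) (four_not_cyclic h4 h2)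
      · have h1 : orderOf z ∣ 2 * 2 ^ n := by
          rw [← DihedralGroup.nat_card, ← Nat.card_congr e.toEquiv]
          exact H.orderOf_dvd_natCard (Subgroup.mem_sup_right (Subgroup.mem_zpowers z))
        exact orderOf_eq_one_iff.mp (Nat.eq_one_of_dvd_coprimes (hz2.mul_right (hz2.pow_right n))
          dvd_rfl h1)
      · exfalso
        have hKcomm : ∀ x ∈ K, ∀ y ∈ K, x * y = y * x := by
          intro x hx y hy
          have hi : ∀ w ∈ K, w⁻¹ = w := fun w hw =>
            inv_eq_of_mul_eq_one_right (by rw [← pow_two]; exact h2 w hw)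
          rw [← hi _ (K.mul_mem hx hy), mul_inv_rev, hi x hx, hi y hy]
        have hle : H ≤ Subgroup.centralizer (H : Set G) := by
          have h3 : H ≤ Subgroup.centralizer (K : Set G) := sup_le
            (fun x hx => Subgroup.mem_centralizer_iff.mpr fun y hy => hKcomm y hy x hx)
            (Subgroup.zpowers_le.mpr hz)
          refine sup_le (Subgroup.le_centralizer_iff.mp h3) ?_
          rw [Subgroup.le_centralizer_iff]
          refine sup_le (fun x hx => Subgroup.mem_centralizer_iff.mpr fun y hy => ?_)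
            (fun x hx => Subgroup.mem_centralizer_iff.mpr fun y hy => ?_)
          · exact (Subgroup.mem_centralizer_iff.mp (Subgroup.zpowers_le.mpr hz hy) x hx).symm
          · obtain ⟨i, rfl⟩ := Subgroup.mem_zpowers_iff.mp hy
            obtain ⟨j, rfl⟩ := Subgroup.mem_zpowers_iff.mp hx
            exact ((Commute.refl z).zpow_zpow i j).eq
        have key : ∀ u v : alternatingGroup (Fin 4), u * v = v * u := by
          intro u v
          have h4' : e.symm u * e.symm v = e.symm v * e.symm u :=
            Subtype.ext (Subgroup.mem_centralizer_iff.mp (hle (e.symm v).2) _ (e.symm u).2)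
          simpa using congrArg e h4'
        exact absurd key (by decide +kernel)
    obtain ⟨a0, b0⟩ := hyps_sup (P : Subgroup G) P.2 (y := 1) (by simp) (Subgroup.one_mem _)
    have hP' : (P : Subgroup G) ⊔ Subgroup.zpowers 1 = P := by
      rw [Subgroup.zpowers_one_eq_bot, sup_bot_eq]
    have hPc := h _ a0 b0
    rw [hP'] at hPc
    rcases hPc with hc | ⟨n, ⟨e⟩⟩ | ⟨⟨e⟩⟩
    · exact Or.inl hc
    · rcases Nat.eq_zero_or_pos n with rfl | hn
      · left
        haveI : Fact (Nat.Prime 2) := ⟨Nat.prime_two⟩
        exact isCyclic_of_prime_card (p := 2) (by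
          rw [Nat.card_congr e.toEquiv, DihedralGroup.nat_card, pow_zero, mul_one])
      right
      refine ⟨⟨n, hn, ⟨e⟩⟩, fun K hKP h4 h2 => le_antisymm (fun c hc => ?_) (fun c hc => ?_)⟩
      · obtain ⟨D, -, hDc, hidx, hout⟩ := dihedral_data e
        haveI := hDc
        refine CfsgLib.CentMaxNormal.mem_of_prime_power_parts fun z hz r j hr hzj => ?_
        have hzC : z ∈ Subgroup.centralizer (K : Set G) := Subgroup.zpowers_le.mpr hc hz
        by_cases hr2 : r = 2
        · subst hr2
          set T := K ⊔ Subgroup.zpowers z with hT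
          have hTp : IsPGroup 2 T := (IsPGroup.of_card (n := 2) h4 : IsPGroup 2 K).to_sup_of_normal_left'
            (IsPGroup.of_card (n := j) (by rw [Nat.card_zpowers, hzj]))
            (Subgroup.zpowers_le.mpr (Subgroup.centralizer_le_normalizer _ hzC))
          have hTc : ∀ a ∈ T, ∀ b ∈ T, a * b = b * a := by
            have hKcomm : ∀ x ∈ K, ∀ y ∈ K, x * y = y * x := by
              intro x hx y hy
              have hi : ∀ w ∈ K, w⁻¹ = w := fun w hw =>
                inv_eq_of_mul_eq_one_right (by rw [← pow_two]; exact h2 w hw)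
              rw [← hi _ (K.mul_mem hx hy), mul_inv_rev, hi x hx, hi y hy]
            have h3 : T ≤ Subgroup.centralizer (K : Set G) := sup_le
              (fun x hx => Subgroup.mem_centralizer_iff.mpr fun y hy => hKcomm y hy x hx)
              (Subgroup.zpowers_le.mpr hzC)
            have h4' : T ≤ Subgroup.centralizer (T : Set G) := by
              refine sup_le (Subgroup.le_centralizer_iff.mp h3) ?_
              rw [Subgroup.le_centralizer_iff]
              refine sup_le (fun x hx => Subgroup.mem_centralizer_iff.mpr fun y hy => ?_)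
                (fun x hx => Subgroup.mem_centralizer_iff.mpr fun y hy => ?_)
              · exact (Subgroup.mem_centralizer_iff.mp (Subgroup.zpowers_le.mpr hzC hy) x hx).symm
              · obtain ⟨i, rfl⟩ := Subgroup.mem_zpowers_iff.mp hy
                obtain ⟨i', rfl⟩ := Subgroup.mem_zpowers_iff.mp hx
                exact ((Commute.refl z).zpow_zpow i i').eq
            intro a ha b hb
            exact Subgroup.mem_centralizer_iff.mp (h4' hb) a ha
          obtain ⟨k, hk⟩ := CfsgLib.Transfer.exists_map_conj_le_sylow hTp P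
          have heq := eq_four_of_comm (D := D) hidx hout hk
            (Subgroup.map_mono (le_sup_left : K ≤ T))
            (by
              rintro _ ⟨a, ha, rfl⟩ _ ⟨b, hb, rfl⟩
              rw [← map_mul, ← map_mul, hTc a ha b hb])
            (by rw [Subgroup.card_map_of_injective (MulAut.conj k).injective, h4])
            (by
              rintro _ ⟨u, hu, rfl⟩
              rw [← map_pow, h2 u hu, map_one])
          have heq' : T = K := Subgroup.map_injective (MulAut.conj k).injective heq
          exact heq' ▸ Subgroup.mem_sup_right (Subgroup.mem_zpowers z)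
        · have hz1 : z = 1 := hfour K h4 h2 z hzC
            (by rw [hzj]; exact ((Nat.coprime_primes hr Nat.prime_two).mpr hr2).pow_left j)
          exact hz1 ▸ one_mem K
      · refine Subgroup.mem_centralizer_iff.mpr fun y hy => ?_
        have hi : ∀ w ∈ K, w⁻¹ = w := fun w hw =>
          inv_eq_of_mul_eq_one_right (by rw [← pow_two]; exact h2 w hw)
        rw [← hi _ (K.mul_mem hy hc), mul_inv_rev, hi y hy, hi c hc]
    · exfalso
      have hcard := Nat.card_congr e.toEquiv
      obtain ⟨k, hk⟩ := P.2.exists_card_eq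
      have h3 : 3 ∣ 2 ^ k := by
        rw [← hk, hcard, Nat.card_eq_fintype_card]
        decide
      exact absurd (Nat.prime_three.dvd_of_dvd_pow h3) (by norm_num)
  · intro hP H h1 h2
    haveI : Fact (Nat.Prime 2) := ⟨Nat.prime_two⟩
    obtain ⟨S, l, hSH, hlH, hS, hlp, hlN, hgen, hcard⟩ := decompose H h1 h2
    by_cases hScyc : IsCyclic S
    · haveI := hScyc
      refine Or.inl (isCyclic_of_commute hS hlp hSH hlH (fun s hs => ?_) hcard)
      obtain ⟨d, hd⟩ := IsCyclic.exists_generator (α := S)
      obtain ⟨m, hm⟩ := hS.exists_card_eq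
      have hdm : orderOf (d : G) = 2 ^ m := by
        rw [Subgroup.orderOf_coe, orderOf_eq_card_of_forall_mem_zpowers hd, hm]
      have hmem : ∀ v ∈ S, v ∈ Subgroup.zpowers (d : G) := by
        intro v hv
        obtain ⟨i, hi⟩ := Subgroup.mem_zpowers_iff.mp (hd ⟨v, hv⟩)
        exact ⟨i, by simpa using congrArg Subtype.val hi⟩
      obtain ⟨i, rfl⟩ := Subgroup.mem_zpowers_iff.mp (hmem s hs)
      rcases Nat.eq_zero_or_pos m with rfl | hm0
      · rw [pow_zero, orderOf_eq_one_iff] at hdm
        rw [hdm, one_zpow]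
        exact Commute.one_right l
      set q := (d : G) ^ 2 ^ (m - 1) with hq
      have hqo : orderOf q = 2 := by
        rw [hq, orderOf_pow_of_dvd (pow_ne_zero _ (by norm_num))
          (hdm ▸ pow_dvd_pow 2 (Nat.sub_le m 1)), hdm, Nat.pow_div (Nat.sub_le m 1) two_pos,
          show m - (m - 1) = 1 by omega, pow_one]
      have hqS : q ∈ S := S.pow_mem d.2 _
      have hfix : Commute l q := by
        have hl' : l * q * l⁻¹ ∈ S := (Subgroup.mem_normalizer_iff.mp hlN q).mp hqS
        have heq := eq_of_card_eq_in_cyclic (W := S) (Subgroup.zpowers_le.mpr hl')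
          (Subgroup.zpowers_le.mpr hqS)
          (by rw [Nat.card_zpowers, Nat.card_zpowers, CfsgLib.Transfer.orderOf_conj])
        obtain ⟨k, hk⟩ := Subgroup.mem_zpowers_iff.mp (heq ▸ Subgroup.mem_zpowers (l * q * l⁻¹))
        rw [← zpow_mod_orderOf, hqo] at hk
        rcases Int.emod_two_eq_zero_or_one k with e | e <;>
          simp only [Nat.cast_ofNat, e, zpow_zero, zpow_one] at hk
        · exfalso
          rw [eq_comm, conj_eq_one_iff] at hk
          rw [hk, orderOf_one] at hqo
          exact absurd hqo (by norm_num)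
        · exact mul_inv_eq_iff_eq_mul.mp hk.symm
      exact (commute_of_fix hdm hlp (hmem _ ((Subgroup.mem_normalizer_iff.mp hlN d).mp d.2))
        (Subgroup.pow_mem _ (Subgroup.mem_zpowers _) _) hqo hfix).zpow_right i
    -- `S` is not cyclic
    rcases hP with hPc | ⟨⟨n, hn, ⟨e⟩⟩, hK⟩
    · exfalso
      haveI := hPc
      obtain ⟨k, hk⟩ := CfsgLib.Transfer.exists_map_conj_le_sylow hS P
      haveI : IsCyclic ↥(S.map (MulAut.conj k).toMonoidHom) := Subgroup.isCyclic_of_le hk
      exact hScyc (isCyclic_of_injective (S.equivMapOfInjective (MulAut.conj k).toMonoidHom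
        (MulAut.conj k).injective).toMonoidHom (MulEquiv.injective _))
    have hC := four_centralizer P hK
    obtain ⟨D, -, hDc, hidx, hout⟩ := dihedral_data e
    obtain ⟨k, hk⟩ := CfsgLib.Transfer.exists_map_conj_le_sylow hS P
    -- pull the cyclic subgroup back into `S`
    set E := D.comap (MulAut.conj k).toMonoidHom ⊓ S with hE
    haveI hEc : IsCyclic E := by
      haveI := hDc
      refine isCyclic_of_injective (((MulAut.conj k).toMonoidHom.comp E.subtype).codRestrict D
        fun x => x.2.1) fun a b hab => ?_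
      exact Subtype.ext ((MulAut.conj k).injective (congrArg Subtype.val hab :))
    have hEout : ∀ x ∈ S, x ∉ E → x * x = 1 := by
      intro x hx hxE
      have h1 := hout _ (hk (Subgroup.mem_map_of_mem (MulAut.conj k).toMonoidHom hx))
        (fun hD => hxE ⟨hD, hx⟩)
      rw [← map_mul] at h1
      exact (MulAut.conj k).injective (h1.trans (map_one _).symm)
    have hEidx : (E.subgroupOf S).index = 2 := by
      have hle : D.relIndex (S.map (MulAut.conj k).toMonoidHom) ≤ 2 := by
        rw [← hidx]
        exact Subgroup.relIndex_le_of_le_right hk (by rw [hidx]; norm_num)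
      have hne : D.relIndex (S.map (MulAut.conj k).toMonoidHom) ≠ 1 := by
        intro h
        rw [Subgroup.relIndex_eq_one, Subgroup.map_le_iff_le_comap] at h
        refine hScyc ?_
        have hES : S = E := le_antisymm (le_inf h le_rfl) inf_le_right
        exact hES ▸ hEc
      have hne0 : D.relIndex (S.map (MulAut.conj k).toMonoidHom) ≠ 0 := Subgroup.index_ne_zero_of_finite
      have he : D.relIndex (S.map (MulAut.conj k).toMonoidHom) = (E.subgroupOf S).index := by
        rw [hE, Subgroup.inf_subgroupOf_right, ← Subgroup.relIndex_comap]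
        rfl
      omega
    obtain ⟨d, hd⟩ := IsCyclic.exists_generator (α := E)
    obtain ⟨j, hj⟩ := (hS.to_le (inf_le_right : E ≤ S)).exists_card_eq
    have hdm : orderOf (d : G) = 2 ^ j := by
      rw [Subgroup.orderOf_coe, orderOf_eq_card_of_forall_mem_zpowers hd, hj]
    have hmemE : ∀ v ∈ E, v ∈ Subgroup.zpowers (d : G) := by
      intro v hv
      obtain ⟨i, hi⟩ := Subgroup.mem_zpowers_iff.mp (hd ⟨v, hv⟩)
      exact ⟨i, by simpa using congrArg Subtype.val hi⟩
    have hcardS : Nat.card S = 2 * 2 ^ j := by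
      rw [← (E.subgroupOf S).card_mul_index, hEidx,
        Nat.card_congr (Subgroup.subgroupOfEquivOfLe (inf_le_right : E ≤ S)).toEquiv, hj, mul_comm]
    have hj0 : 0 < j := by
      by_contra h0
      refine hScyc (isCyclic_of_prime_card (p := 2) ?_)
      rw [hcardS, Nat.le_zero.mp (not_lt.mp h0), pow_zero, mul_one]
    set q := (d : G) ^ 2 ^ (j - 1) with hq
    have hqo : orderOf q = 2 := by
      rw [hq, orderOf_pow_of_dvd (pow_ne_zero _ (by norm_num))
        (hdm ▸ pow_dvd_pow 2 (Nat.sub_le j 1)), hdm, Nat.pow_div (Nat.sub_le j 1) two_pos,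
        show j - (j - 1) = 1 by omega, pow_one]
    have hqE : q ∈ E := E.pow_mem d.2 _
    have hodd : Odd (orderOf l) := Nat.coprime_two_right.mp hlp
    -- the dihedral conclusion when `l = 1`
    have hdih : l = 1 → ∃ n : ℕ, Nonempty (H ≃* DihedralGroup (2 ^ n)) := by
      intro hl
      have hHS := eq_of_zpowers_sup hgen hl
      refine ⟨j, ?_⟩
      haveI : IsCyclic ↥(E.subgroupOf S) := isCyclic_of_injective
        (Subgroup.subgroupOfEquivOfLe (inf_le_right : E ≤ S)).toMonoidHom (MulEquiv.injective _)
      obtain ⟨f⟩ := CfsgLib.SL2.Census.nonempty_dihedral (C := E.subgroupOf S) inferInstance hEidx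
        (fun x hx => Subtype.ext (hEout x x.2 hx))
      rw [Nat.card_congr (Subgroup.subgroupOfEquivOfLe (inf_le_right : E ≤ S)).toEquiv, hj] at f
      exact ⟨(MulEquiv.subgroupCongr hHS).trans f⟩
    have hconj : ∀ t ∈ S, l * t * l⁻¹ ∈ S := fun t ht => (Subgroup.mem_normalizer_iff.mp hlN t).mp ht
    rcases Nat.lt_or_ge j 2 with hj2 | hj2
    · -- the four-group
      obtain rfl : j = 1 := by omega
      have hS4 : Nat.card S = 4 := by rw [hcardS]; norm_num
      have hS2 : ∀ s ∈ S, s ^ 2 = 1 := by
        intro s hs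
        by_cases hsE : s ∈ E
        · exact orderOf_dvd_iff_pow_eq_one.mp ((orderOf_dvd_of_mem_zpowers (hmemE s hsE)).trans
            (by rw [hdm, pow_one]))
        · rw [pow_two]; exact hEout s hs hsE
      by_cases hl1 : l = 1
      · exact Or.inr (Or.inl (hdih hl1))
      right; right
      have hlS : l ∉ Subgroup.centralizer (S : Set G) := by
        intro hmem
        have h5 := hC S hS4 hS2 hmem
        exact hl1 (orderOf_eq_one_iff.mp (Nat.eq_one_of_dvd_coprimes hlp dvd_rfl
          (orderOf_dvd_of_pow_eq_one (hS2 l h5))))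
      have hl6 : l ^ 6 ∈ Subgroup.centralizer (S : Set G) := by
        have hp6 : ∀ σ : Equiv.Perm {x : S // x ≠ 1}, σ ^ 6 = 1 := by
          intro σ
          haveI := Fintype.ofFinite S
          have hc : Nat.card (Equiv.Perm {x : S // x ≠ 1}) = 6 := by
            rw [Nat.card_perm]
            have : Nat.card {x : S // x ≠ 1} = 3 := by
              rw [Nat.card_eq_fintype_card, Fintype.card_subtype_compl, Fintype.card_subtype_eq,
                ← Nat.card_eq_fintype_card, hS4]
            rw [this]; rfl
          rw [← hc]; exact pow_card_eq_one'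
        set N := Subgroup.normalizer (S : Set G)
        let φ : N →* Equiv.Perm {x : S // x ≠ 1} :=
          { toFun := fun g =>
              { toFun := fun x => ⟨⟨(g : G) * x.1.1 * (g : G)⁻¹,
                  (Subgroup.mem_normalizer_iff.mp g.2 _).mp x.1.2⟩,
                  fun h => x.2 (Subtype.ext (conj_eq_one_iff.mp (congrArg Subtype.val h :)))⟩
                invFun := fun x => ⟨⟨(g : G)⁻¹ * x.1.1 * (g : G),
                  by simpa using (Subgroup.mem_normalizer_iff.mp (N.inv_mem g.2) _).mp x.1.2⟩,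
                  fun h => x.2 (Subtype.ext (by
                    have h' : (g : G)⁻¹ * x.1.1 * g = 1 := congrArg Subtype.val h
                    calc (x.1.1 : G) = g * ((g : G)⁻¹ * x.1.1 * g) * (g : G)⁻¹ := by group
                      _ = 1 := by rw [h']; group))⟩
                left_inv := fun x => Subtype.ext (Subtype.ext (by group))
                right_inv := fun x => Subtype.ext (Subtype.ext (by group)) }
            map_one' := Equiv.ext fun x => Subtype.ext (Subtype.ext (by simp))
            map_mul' := fun a b => Equiv.ext fun x => Subtype.ext (Subtype.ext (by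
              simp [mul_assoc])) }
        refine Subgroup.mem_centralizer_iff.mpr fun t ht => ?_
        by_cases ht1 : t = 1
        · subst ht1; simp
        · have h7 := DFunLike.congr_fun (hp6 (φ ⟨l, hlN⟩))
            ⟨⟨t, ht⟩, fun h => ht1 (congrArg Subtype.val h :)⟩
          rw [← map_pow, Equiv.Perm.one_apply] at h7
          have h8 : l ^ 6 * t * (l ^ 6)⁻¹ = t := congrArg (fun x => (x.1.1 : G)) h7
          exact (mul_inv_eq_iff_eq_mul.mp h8).symm
      have hl3 : orderOf l = 3 := by
        have h12 : l ^ 12 = 1 := by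
          rw [show 12 = 6 * 2 from rfl, pow_mul]
          exact hS2 _ (hC S hS4 hS2 hl6)
        have h5 : orderOf l ∣ 3 :=
          ((hlp : (orderOf l).Coprime 2).pow_right 2).dvd_of_dvd_mul_left
            (by simpa using orderOf_dvd_of_pow_eq_one h12 : orderOf l ∣ 2 ^ 2 * 3)
        rcases (Nat.dvd_prime Nat.prime_three).mp h5 with h | h
        · exact absurd (orderOf_eq_one_iff.mp h) hl1
        · exact h
      refine CfsgLib.SL2.Census.nonempty_alternating_four (by rw [hcard, hS4, hl3])
        (T := Subgroup.zpowers (⟨l, hlH⟩ : H)) (by rw [Nat.card_zpowers, Subgroup.orderOf_mk, hl3]) ?_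
      refine le_antisymm ?_ Subgroup.le_normalizer
      rintro ⟨x, hx⟩ hxn
      have hx' : x ∈ (S : Set G) * (Subgroup.zpowers l : Set G) := by
        rw [← Subgroup.coe_mul_of_right_le_normalizer_left _ _ (Subgroup.zpowers_le.mpr hlN), hgen]
        exact hx
      obtain ⟨u, hu, v, hv, rfl⟩ := hx'
      obtain ⟨i, rfl⟩ := Subgroup.mem_zpowers_iff.mp hv
      have hz : (⟨l, hlH⟩ : H) ^ i ∈ Subgroup.zpowers (⟨l, hlH⟩ : H) := Subgroup.zpow_mem _ (Subgroup.mem_zpowers _) i
      have hun : (⟨u, hSH hu⟩ : H) ∈ Subgroup.normalizer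
          (Subgroup.zpowers (⟨l, hlH⟩ : H) : Set H) := by
        have h9 := Subgroup.mul_mem _ hxn (Subgroup.inv_mem _ (Subgroup.le_normalizer hz))
        have he : (⟨u * l ^ i, hx⟩ : H) * ((⟨l, hlH⟩ : H) ^ i)⁻¹ = ⟨u, hSH hu⟩ :=
          Subtype.ext (by simp)
        rwa [he] at h9
      obtain ⟨m, hm⟩ := Subgroup.mem_zpowers_iff.mp
        ((Subgroup.mem_normalizer_iff.mp hun _).mp (Subgroup.mem_zpowers _))
      have hm' : l ^ m = u * l * u⁻¹ := by simpa using congrArg Subtype.val hm
      have hcomm : Commute l u := by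
        have hmem : u * l * u⁻¹ * l⁻¹ ∈ S ⊓ Subgroup.zpowers l := ⟨by
          have := S.mul_mem hu (hconj u⁻¹ (S.inv_mem hu))
          simpa [mul_assoc] using this, by
          rw [← hm']
          exact Subgroup.mul_mem _ (Subgroup.zpow_mem _ (Subgroup.mem_zpowers l) m)
            (Subgroup.inv_mem _ (Subgroup.mem_zpowers l))⟩
        rw [Subgroup.inf_eq_bot_of_coprime (by rw [hS4, Nat.card_zpowers, hl3]; norm_num),
          Subgroup.mem_bot] at hmem
        exact (commutatorElement_eq_one_iff_commute.mp hmem).symm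
      by_cases hu1 : u = 1
      · subst hu1
        have he : (⟨1 * l ^ i, hx⟩ : H) = (⟨l, hlH⟩ : H) ^ i := Subtype.ext (by simp)
        rw [he]; exact hz
      · exact absurd (perm_three_fix hS4 hS2 hlN (hl3 ▸ pow_orderOf_eq_one l) hu hu1 hcomm) hlS
    · -- dihedral of order at least eight
      have hld : l * (d : G) * l⁻¹ ∈ E := by
        by_contra hnE
        have h5 := hEout _ (hconj d d.2.2) hnE
        have h6 : (d : G) * d = 1 := by
          have h7 : l * ((d : G) * d) * l⁻¹ = 1 := by rw [← h5]; group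
          exact conj_eq_one_iff.mp h7
        have h8 : orderOf (d : G) ∣ 2 := orderOf_dvd_of_pow_eq_one (by rw [pow_two, h6])
        rw [hdm] at h8
        have := Nat.le_of_dvd two_pos h8
        have h9 : (2 : ℕ) ^ 2 ≤ 2 ^ j := Nat.pow_le_pow_right two_pos hj2
        omega
      have hlq : Commute l q := by
        have hl' : l * q * l⁻¹ ∈ E := by
          rw [hq, ← conj_pow]
          exact E.pow_mem hld _
        have heq := eq_of_card_eq_in_cyclic (W := E) (Subgroup.zpowers_le.mpr hl')
          (Subgroup.zpowers_le.mpr hqE)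
          (by rw [Nat.card_zpowers, Nat.card_zpowers, CfsgLib.Transfer.orderOf_conj])
        obtain ⟨i, hi⟩ := Subgroup.mem_zpowers_iff.mp (heq ▸ Subgroup.mem_zpowers (l * q * l⁻¹))
        rw [← zpow_mod_orderOf, hqo] at hi
        rcases Int.emod_two_eq_zero_or_one i with e | e <;>
          simp only [Nat.cast_ofNat, e, zpow_zero, zpow_one] at hi
        · exfalso
          rw [eq_comm, conj_eq_one_iff] at hi
          rw [hi, orderOf_one] at hqo
          exact absurd hqo (by norm_num)
        · exact mul_inv_eq_iff_eq_mul.mp hi.symm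
      have hlE : ∀ v ∈ E, Commute l v := by
        intro v hv
        obtain ⟨i, rfl⟩ := Subgroup.mem_zpowers_iff.mp (hmemE v hv)
        exact (commute_of_fix hdm hlp (hmemE _ hld)
          (Subgroup.pow_mem _ (Subgroup.mem_zpowers _) _) hqo hlq).zpow_right i
      obtain ⟨s, hsS, hsE⟩ : ∃ s ∈ S, s ∉ E := by
        by_contra hcon
        push Not at hcon
        exact hScyc ((le_antisymm hcon inf_le_right : S = E) ▸ hEc)
      -- `l` centralizes `s`
      have hsl : Commute l s := by
        have hls : l * s * l⁻¹ ∉ E := by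
          intro hmem
          refine hsE ?_
          have h9 := (hlE _ hmem).inv_left.eq
          have : s = l⁻¹ * (l * s * l⁻¹) * l := by group
          rw [this, h9, inv_mul_cancel_right]
          exact hmem
        have hdE : s⁻¹ * (l * s * l⁻¹) ∈ E := by
          have h10 := (Subgroup.mul_mem_iff_of_index_two hEidx
            (a := (⟨s⁻¹, S.inv_mem hsS⟩ : S)) (b := ⟨l * s * l⁻¹, hconj s hsS⟩)).mpr
            (iff_of_false (fun h => hsE (by simpa using E.inv_mem (show s⁻¹ ∈ E from h)))
              (fun h => hls h))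
          exact h10
        set w := s⁻¹ * (l * s * l⁻¹) with hw
        have hlw := hlE w hdE
        have hiter : ∀ k : ℕ, l ^ k * s * (l ^ k)⁻¹ = s * w ^ k := by
          intro k
          induction k with
          | zero => simp
          | succ k ih =>
            calc l ^ (k + 1) * s * (l ^ (k + 1))⁻¹ = l * (l ^ k * s * (l ^ k)⁻¹) * l⁻¹ := by
                  rw [pow_succ']; group
              _ = l * (s * w ^ k) * l⁻¹ := by rw [ih]
              _ = (l * s * l⁻¹) * (l * w ^ k * l⁻¹) := by group
              _ = (s * w) * w ^ k := by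
                  rw [(hlw.pow_right k).eq, mul_inv_cancel_right, hw]; group
              _ = s * w ^ (k + 1) := by rw [mul_assoc, ← pow_succ']
        have h11 := hiter (orderOf l)
        rw [pow_orderOf_eq_one, inv_one, mul_one, one_mul, eq_comm] at h11
        have h12 : w ^ orderOf l = 1 := mul_eq_left.mp h11
        obtain ⟨i, hi⟩ := IsPGroup.iff_orderOf.mp hS ⟨w, (hdE : w ∈ E).2⟩
        rw [← Subgroup.orderOf_coe] at hi
        simp only [] at hi
        have h13 : w = 1 := orderOf_eq_one_iff.mp (Nat.eq_one_of_dvd_coprimes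
          ((hlp : (orderOf l).Coprime 2).pow_right i) (orderOf_dvd_of_pow_eq_one h12) hi.dvd)
        have h14 : l * s * l⁻¹ = s := (inv_mul_eq_one.mp h13).symm
        exact mul_inv_eq_iff_eq_mul.mp h14
      -- a four-group in `S` centralized by `l`
      have hqq : q * q = 1 := by rw [← pow_two, ← hqo, pow_orderOf_eq_one]
      have hsq : Commute s q := by
        have hsqE : s * q ∉ E := fun h => hsE (by simpa using E.mul_mem h (E.inv_mem hqE))
        have h15 := hEout _ (S.mul_mem hsS hqE.2) hsqE
        have hss : s⁻¹ = s := inv_eq_of_mul_eq_one_right (hEout s hsS hsE)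
        have hqi : q⁻¹ = q := inv_eq_of_mul_eq_one_right hqq
        show s * q = q * s
        calc s * q = (s * q)⁻¹ := (inv_eq_of_mul_eq_one_right h15).symm
          _ = q * s := by rw [mul_inv_rev, hqi, hss]
      set K := Subgroup.zpowers q ⊔ Subgroup.zpowers s with hK4
      have hs2 : orderOf s = 2 := orderOf_eq_prime (by rw [pow_two]; exact hEout s hsS hsE)
        (fun h => hsE (h ▸ one_mem E))
      have hqn : Subgroup.zpowers s ≤ Subgroup.normalizer (Subgroup.zpowers q : Set G) :=
        le_trans (Subgroup.zpowers_le.mpr (Subgroup.mem_centralizer_iff.mpr fun v hv => by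
          obtain ⟨i, rfl⟩ := Subgroup.mem_zpowers_iff.mp hv
          exact ((hsq.symm.zpow_left i).eq))) (Subgroup.centralizer_le_normalizer _)
      have hmemK : ∀ v ∈ K, v = 1 ∨ v = q ∨ v = s ∨ v = q * s := by
        intro v hv
        have hv' : v ∈ (Subgroup.zpowers q : Set G) * (Subgroup.zpowers s : Set G) := by
          rw [← Subgroup.coe_mul_of_right_le_normalizer_left _ _ hqn]; exact hv
        obtain ⟨_, ⟨a, rfl⟩, _, ⟨b, rfl⟩, rfl⟩ := hv'
        simp only []
        rw [← zpow_mod_orderOf q, ← zpow_mod_orderOf s, hqo, hs2]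
        rcases Int.emod_two_eq_zero_or_one a with e1 | e1 <;>
          rcases Int.emod_two_eq_zero_or_one b with e2 | e2 <;>
          simp only [Nat.cast_ofNat, e1, e2, zpow_zero, zpow_one, mul_one, one_mul, true_or, or_true]
      have hK2 : ∀ v ∈ K, v ^ 2 = 1 := by
        intro v hv
        rcases hmemK v hv with rfl | rfl | rfl | rfl
        · simp
        · rw [pow_two]; exact hqq
        · rw [pow_two]; exact hEout _ hsS hsE
        · rw [hsq.symm.mul_pow, pow_two, hqq, pow_two, hEout _ hsS hsE, one_mul]
      have hKcard : Nat.card K = 4 := by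
        haveI : ((Subgroup.zpowers q).subgroupOf K).Normal :=
          Subgroup.normal_subgroupOf_of_le_normalizer (sup_le Subgroup.le_normalizer hqn)
        have hd : Disjoint (Subgroup.zpowers q) (Subgroup.zpowers s) := by
          rw [disjoint_iff, Subgroup.eq_bot_iff_forall]
          rintro v ⟨⟨a, rfl⟩, hv⟩
          obtain ⟨b, hb⟩ := Subgroup.mem_zpowers_iff.mp hv
          simp only [] at hb ⊢
          rw [← zpow_mod_orderOf s, hs2, ← zpow_mod_orderOf q, hqo] at hb
          rw [← zpow_mod_orderOf, hqo]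
          rcases Int.emod_two_eq_zero_or_one a with e1 | e1 <;>
            rcases Int.emod_two_eq_zero_or_one b with e2 | e2 <;>
            simp only [Nat.cast_ofNat, e1, e2, zpow_zero, zpow_one] at hb ⊢
          · exact hb.symm
          · exact absurd (hb ▸ hqE) hsE
        have hc := Subgroup.isComplement'_of_disjoint_and_mul_eq_univ
          (H := (Subgroup.zpowers q).subgroupOf K) (K := (Subgroup.zpowers s).subgroupOf K)
          (by
            rw [disjoint_iff, Subgroup.eq_bot_iff_forall]
            intro v hv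
            exact Subtype.ext (Subgroup.mem_bot.mp (hd.eq_bot ▸ (⟨hv.1, hv.2⟩ :
              (v : G) ∈ Subgroup.zpowers q ⊓ Subgroup.zpowers s))))
          (by
            rw [← Subgroup.normal_mul, ← Subgroup.subgroupOf_sup le_sup_left le_sup_right,
              Subgroup.subgroupOf_self]
            rfl)
        have := hc.card_mul
        rw [Nat.card_congr (Subgroup.subgroupOfEquivOfLe le_sup_left).toEquiv,
          Nat.card_congr (Subgroup.subgroupOfEquivOfLe le_sup_right).toEquiv,
          Nat.card_zpowers, Nat.card_zpowers, hqo, hs2] at this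
        omega
      have hlK : l ∈ Subgroup.centralizer (K : Set G) := by
        refine Subgroup.mem_centralizer_iff.mpr fun v hv => ?_
        rcases hmemK v hv with rfl | rfl | rfl | rfl
        · simp
        · exact hlq.eq.symm
        · exact hsl.eq.symm
        · exact (hlq.mul_right hsl).eq.symm
      have hl1 : l = 1 := orderOf_eq_one_iff.mp (Nat.eq_one_of_dvd_coprimes hlp dvd_rfl
        (orderOf_dvd_of_pow_eq_one (hK2 l (hC K hKcard hK2 hlK))))
      exact Or.inr (Or.inl (hdih hl1))

end Cfsg.Agent.S4083
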