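import Cfsg.Statements.S4084
import Mathlib

set_option autoImplicit false
set_option linter.style.haveILetI false
open Cfsg

namespace Cfsg.Agent.S4084

theorem transfer_prime_pair {G H : Type*} [Group G] [Finite G] [Group H] [Finite H] (e : G ≃ H)
    (he : ∀ x y : G, Commute x y ↔ Commute (e x) (e y)) {p q : ℕ} (hp : p.Prime) (hq : q.Prime)
    (hpq : p ≠ q) (g : G) (hg : orderOf g = p * q) : ∃ h : H, orderOf h = p * q := by
  classical
  obtain ⟨A, hA⟩ := (Set.toFinite {A : Subgroup G | g ∈ A ∧ IsMulCommutative A}).exists_maximal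
    ⟨Subgroup.zpowers g, Subgroup.mem_zpowers g, inferInstance⟩
  haveI := hA.1.2
  have hself : ∀ x : G, (∀ a ∈ A, Commute a x) → x ∈ A := by
    intro x hx
    have hc : ∀ u ∈ (A : Set G) ∪ {x}, ∀ v ∈ (A : Set G) ∪ {x}, u * v = v * u := by
      rintro u (hu | hu) v (hv | hv)
      · exact congrArg Subtype.val (mul_comm' (⟨u, hu⟩ : A) ⟨v, hv⟩)
      · rw [hv]; exact hx u hu
      · rw [hu]; exact (hx v hv).symm
      · rw [hu, hv]
    have hle : A ≤ Subgroup.closure ((A : Set G) ∪ {x}) := fun a ha =>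
      Subgroup.subset_closure (Or.inl ha)
    exact hA.2 ⟨hle hA.1.1, Subgroup.isMulCommutative_closure hc⟩ hle
      (Subgroup.subset_closure (Or.inr rfl))
  set C := Subgroup.centralizer (e '' (A : Set G)) with hC
  have hmem : ∀ y : H, y ∈ C ↔ e.symm y ∈ A := by
    intro y
    rw [hC, Subgroup.mem_centralizer_iff]
    constructor
    · intro h
      refine hself _ fun a ha => (he a (e.symm y)).mpr ?_
      rw [e.apply_symm_apply]
      exact h (e a) ⟨a, ha, rfl⟩
    · rintro h _ ⟨a, ha, rfl⟩
      have h2 := (he a (e.symm y)).mp (congrArg Subtype.val (mul_comm' (⟨a, ha⟩ : A) ⟨_, h⟩))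
      rwa [e.apply_symm_apply] at h2
  have hcomm : ∀ y ∈ C, ∀ z ∈ C, Commute y z := fun y hy z hz => by
    have h2 := (he _ _).mp (congrArg Subtype.val
      (mul_comm' (⟨_, (hmem y).mp hy⟩ : A) ⟨_, (hmem z).mp hz⟩))
    rwa [e.apply_symm_apply, e.apply_symm_apply] at h2
  have hcard : Nat.card C = Nat.card A := Nat.card_congr (e.symm.subtypeEquiv hmem)
  have hd : p * q ∣ Nat.card C := by
    rw [hcard, ← hg]
    exact Subgroup.orderOf_dvd_natCard (s := A) hA.1.1
  haveI : Fact p.Prime := ⟨hp⟩
  haveI : Fact q.Prime := ⟨hq⟩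
  obtain ⟨a, ha⟩ := exists_prime_orderOf_dvd_card' (G := C) p ((dvd_mul_right p q).trans hd)
  obtain ⟨b, hb⟩ := exists_prime_orderOf_dvd_card' (G := C) q ((dvd_mul_left q p).trans hd)
  refine ⟨(a : H) * b, ?_⟩
  rw [(hcomm a a.2 b b.2).orderOf_mul_eq_mul_orderOf_of_coprime, Subgroup.orderOf_coe,
    Subgroup.orderOf_coe, ha, hb]
  rw [Subgroup.orderOf_coe, Subgroup.orderOf_coe, ha, hb]
  exact (Nat.coprime_primes hp hq).mpr hpq

/-- Let G and H be finite groups whose commuting graphs are isomorphic: there is a bijection e : G → H with x, y commuting exactly when e(x), e(y) commute. Then G and H have the same prime graph: for distinct primes p, q, G has an element of order pq if and only if H does (and #G = #H, so the prime divisors agree). -/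
theorem result {G H : Type*} [Group G] [Finite G] [Group H] [Finite H] (e : G ≃ H)
    (he : ∀ x y : G, Commute x y ↔ Commute (e x) (e y))
    {p q : ℕ} (hp : p.Prime) (hq : q.Prime) (hpq : p ≠ q) :
    (∃ g : G, orderOf g = p * q) ↔ (∃ h : H, orderOf h = p * q) := by
  constructor
  · rintro ⟨g, hg⟩
    exact transfer_prime_pair e he hp hq hpq g hg
  · rintro ⟨h, hh⟩
    refine transfer_prime_pair e.symm (fun x y => ?_) hp hq hpq h hh
    rw [he (e.symm x) (e.symm y), e.apply_symm_apply, e.apply_symm_apply]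

end Cfsg.Agent.S4084
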