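import Cfsg.Statements.S4086
import Mathlib

set_option autoImplicit false
open Cfsg

namespace Cfsg.Agent.S4086

/-- For a finite group G the following are equivalent: every non-identity element has prime-power order; whenever two elements generate a cyclic subgroup, one of them is a power of the other (the enhanced power graph of G coincides with its power graph). -/
theorem result {G : Type*} [Group G] [Finite G] :
    (∀ g : G, g ≠ 1 → IsPrimePow (orderOf g)) ↔
    (∀ x y : G, IsCyclic ↥(Subgroup.closure ({x, y} : Set G)) → (x ∈ Subgroup.zpowers y ∨ y ∈ Subgroup.zpowers x)) := by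
  constructor
  · intro h x y hc
    haveI := hc
    obtain ⟨c, hcg⟩ := hc.exists_zpow_surjective
    have hgen : Subgroup.zpowers (c : G) = Subgroup.closure ({x, y} : Set G) := by
      refine le_antisymm (Subgroup.zpowers_le.mpr c.2) fun w hw => ?_
      obtain ⟨i, hi⟩ := hcg ⟨w, hw⟩
      exact Subgroup.mem_zpowers_iff.mpr ⟨i, by rw [← Subgroup.coe_zpow]; exact congrArg Subtype.val hi⟩
    have hx : x ∈ Subgroup.zpowers (c : G) := by rw [hgen]; exact Subgroup.subset_closure (by simp)
    have hy : y ∈ Subgroup.zpowers (c : G) := by rw [hgen]; exact Subgroup.subset_closure (by simp)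
    have key : ∀ u v : G, u ∈ Subgroup.zpowers (c : G) → v ∈ Subgroup.zpowers (c : G) →
        orderOf u ∣ orderOf v → u ∈ Subgroup.zpowers v := by
      intro u v hu hv hd
      obtain ⟨i, rfl⟩ := Subgroup.mem_zpowers_iff.mp hu
      have e1 : Subgroup.zpowers v ≤ Subgroup.zpowers (c : G) := Subgroup.zpowers_le.mpr hv
      classical
      have := Fintype.ofFinite (Subgroup.zpowers (c : G))
      let T := Finset.univ.filter (fun w : Subgroup.zpowers (c : G) => w ^ orderOf v = 1)
      have hT : T.card ≤ orderOf v := IsCyclic.card_pow_eq_one_le (orderOf_pos v)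
      let S := Finset.univ.filter (fun w : Subgroup.zpowers (c : G) => (w : G) ∈ Subgroup.zpowers v)
      have hS : S.card = orderOf v := by
        rw [← Fintype.card_subtype, ← Nat.card_eq_fintype_card, ← Nat.card_zpowers]
        exact Nat.card_congr ⟨fun w => ⟨(w.1 : G), w.2⟩, fun w => ⟨⟨w.1, e1 w.2⟩, w.2⟩, fun _ => rfl, fun _ => rfl⟩
      have hST : S ⊆ T := by
        intro w hw
        simp only [S, T, Finset.mem_filter, Finset.mem_univ, true_and] at hw ⊢
        refine Subtype.ext ?_
        rw [Subgroup.coe_pow, Subgroup.coe_one, ← orderOf_dvd_iff_pow_eq_one]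
        exact orderOf_dvd_of_mem_zpowers hw
      have heq := Finset.eq_of_subset_of_card_le hST (hS ▸ hT)
      have : (⟨(c : G) ^ i, hu⟩ : Subgroup.zpowers (c : G)) ∈ S := by
        rw [heq]
        simp only [T, Finset.mem_filter, Finset.mem_univ, true_and]
        exact Subtype.ext (orderOf_dvd_iff_pow_eq_one.mp hd)
      simpa [S] using this
    rcases eq_or_ne (c : G) 1 with e | e
    · left
      rw [e, Subgroup.zpowers_one_eq_bot, Subgroup.mem_bot] at hx
      rw [hx]; exact one_mem _
    · obtain ⟨q, n, hq, -, hn⟩ := (h c e)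
      have hdx : orderOf x ∣ q ^ n := hn.symm ▸ orderOf_dvd_of_mem_zpowers hx
      have hdy : orderOf y ∣ q ^ n := hn.symm ▸ orderOf_dvd_of_mem_zpowers hy
      obtain ⟨a, -, ha⟩ := (Nat.dvd_prime_pow (Nat.prime_iff.mpr hq)).mp hdx
      obtain ⟨b, -, hb⟩ := (Nat.dvd_prime_pow (Nat.prime_iff.mpr hq)).mp hdy
      rcases le_total a b with hab | hab
      · exact Or.inl (key x y hx hy (ha ▸ hb ▸ pow_dvd_pow q hab))
      · exact Or.inr (key y x hy hx (ha ▸ hb ▸ pow_dvd_pow q hab))
  · intro h g hg
    by_contra hnp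
    obtain ⟨q, hq, hqd⟩ := Nat.exists_prime_and_dvd (mt orderOf_eq_one_iff.mp hg)
    obtain ⟨r, hr, hrd, hrq⟩ : ∃ r, r.Prime ∧ r ∣ orderOf g ∧ r ≠ q := by
      by_contra hcon
      refine hnp (isPrimePow_iff_unique_prime_dvd.mpr ⟨q, ⟨hq, hqd⟩, fun r hr => ?_⟩)
      by_contra hne
      exact hcon ⟨r, hr.1, hr.2, hne⟩
    have hn := (orderOf_pos g).ne'
    have hx := orderOf_pow_orderOf_div hn hqd
    have hy := orderOf_pow_orderOf_div hn hrd
    have hle : Subgroup.closure ({g ^ (orderOf g / q), g ^ (orderOf g / r)} : Set G) ≤ Subgroup.zpowers g :=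
      (Subgroup.closure_le _).mpr (by
        rintro w (rfl | rfl) <;> exact Subgroup.pow_mem _ (Subgroup.mem_zpowers g) _)
    have hcyc : IsCyclic ↥(Subgroup.closure ({g ^ (orderOf g / q), g ^ (orderOf g / r)} : Set G)) :=
      isCyclic_of_injective _ (Subgroup.inclusion_injective hle)
    rcases h _ _ hcyc with h' | h'
    · have := orderOf_dvd_of_mem_zpowers h'
      rw [hx, hy, Nat.prime_dvd_prime_iff_eq hq hr] at this
      exact hrq this.symm
    · have := orderOf_dvd_of_mem_zpowers h'
      rw [hx, hy, Nat.prime_dvd_prime_iff_eq hr hq] at this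
      exact hrq this

end Cfsg.Agent.S4086
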