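import Cfsg.Statements.S4088
import Cfsg.Agent.Lib.Subnormalizer.Casolo
import Cfsg.Agent.Lib.Subnormal.Basic
import Cfsg.Agent.Lib.PReduced.Largest

set_option autoImplicit false
open Cfsg
open scoped Pointwise

namespace Cfsg.Agent.S4088

open CfsgLib.PReduced in
/-- A subnormal `p`-subgroup lies in a normal `p`-subgroup. -/
theorem exists_normal_of_subnormal {D : Type*} [Group D] [Finite D] (p : ℕ) {K : Subgroup D} (hK : K.IsSubnormal) :
    ∀ X : Subgroup D, IsPGroup p X → X ≤ K → K ≤ Subgroup.normalizer (X : Set D) →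
      X ≤ Cfsg.pCore p D := by
  induction hK with
  | top =>
    intro X hX _ hn
    exact CfsgLib.Fitting.le_pCore (Subgroup.normalizer_eq_top_iff.mp (top_le_iff.mp hn)) hX
  | step H K hle hsub hN ih =>
    intro X hX hXH hn
    refine le_trans ?_ (ih (Cfsg.pCoreOf p H) (isPGroup_pCoreOf p H) ((Subgroup.map_subtype_le _).trans hle) ?_)
    · exact le_pCoreOf hXH hn hX
    intro k hk
    have hkH : ∀ x ∈ H, k * x * k⁻¹ ∈ H := fun x hx => by
      simpa [Subgroup.mem_subgroupOf] using hN.conj_mem ⟨x, hle hx⟩ hx ⟨k, hk⟩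
    set c := (MulAut.conj k).toMonoidHom
    have hle' : (Cfsg.pCoreOf p H).map c ≤ Cfsg.pCoreOf p H := by
      refine le_pCoreOf ?_ ?_ ((isPGroup_pCoreOf p H).map _)
      · rintro _ ⟨x, hx, rfl⟩
        exact hkH x (Subgroup.map_subtype_le _ hx)
      · intro h hh
        have hh' : k⁻¹ * h * k ∈ H := by
          simpa [Subgroup.mem_subgroupOf] using hN.conj_mem ⟨h, hle hh⟩ hh ⟨k⁻¹, inv_mem hk⟩
        have hn' := le_normalizer_pCoreOf p H hh'
        rw [Subgroup.mem_normalizer_iff] at hn' ⊢
        intro x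
        constructor
        · rintro ⟨y, hy, rfl⟩
          exact ⟨_, (hn' y).mp hy, by simp [c, mul_assoc]⟩
        · rintro ⟨y, hy, e⟩
          refine ⟨(k⁻¹ * h * k)⁻¹ * y * (k⁻¹ * h * k), (hn' _).mpr (by
            have : k⁻¹ * h * k * ((k⁻¹ * h * k)⁻¹ * y * (k⁻¹ * h * k)) * (k⁻¹ * h * k)⁻¹ = y := by group
            rw [this]; exact hy), ?_⟩
          simp [c] at e ⊢
          have : x = h⁻¹ * (k * y * k⁻¹) * h := by rw [e]; group
          rw [this]; group
    have heq : (Cfsg.pCoreOf p H).map c = Cfsg.pCoreOf p H :=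
      Subgroup.eq_of_le_of_card_ge hle' (le_of_eq (Nat.card_congr
        ((Cfsg.pCoreOf p H).equivMapOfInjective c (MulAut.conj k).injective).toEquiv))
    refine Subgroup.mem_normalizer_iff.mpr fun x => ?_
    conv_rhs => rw [← heq]
    exact ⟨fun hx => ⟨x, hx, rfl⟩, fun ⟨y, hy, e⟩ => by simp [c] at e; exact e ▸ hy⟩

open CfsgLib.PReduced in
/-- The subnormalizer of a `p`-subgroup. -/
theorem subnormalizer_iff {G : Type*} [Group G] [Finite G] (p : ℕ) [Fact p.Prime] {H : Subgroup G} (hH : IsPGroup p H) (g : G) :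
    (H.subgroupOf (H ⊔ Subgroup.zpowers g)).IsSubnormal ↔
      ∃ Y : Subgroup G, IsPGroup p Y ∧ H ≤ Y ∧ g ∈ Subgroup.normalizer (Y : Set G) := by
  set D := H ⊔ Subgroup.zpowers g
  constructor
  · intro hsn
    refine ⟨Cfsg.pCoreOf p D, isPGroup_pCoreOf p D, ?_, le_normalizer_pCoreOf p D
      (Subgroup.mem_sup_right (Subgroup.mem_zpowers g))⟩
    have h := exists_normal_of_subnormal p hsn (H.subgroupOf D)
      (hH.comap_of_injective D.subtype D.subtype_injective) le_rfl Subgroup.le_normalizer
    have h' := Subgroup.map_mono (f := D.subtype) h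
    rwa [Subgroup.map_subgroupOf_eq_of_le le_sup_left] at h'
  · rintro ⟨Y, hY, hHY, hg⟩
    have hDN : D ≤ Subgroup.normalizer (Y : Set G) :=
      sup_le (hHY.trans Subgroup.le_normalizer) (Subgroup.zpowers_le.mpr hg)
    haveI : (Y.subgroupOf D).Normal := Subgroup.normal_subgroupOf_of_le_normalizer hDN
    haveI : Group.IsNilpotent (Y.subgroupOf D) := (hY.comap_of_injective D.subtype D.subtype_injective).isNilpotent
    have h2 := CfsgLib.Subnormal.isSubnormal_of_isNilpotent (G := Y.subgroupOf D) ((H.subgroupOf D).subgroupOf (Y.subgroupOf D))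
    have h3 := CfsgLib.Subnormal.isSubnormal_map_subtype h2 (Subgroup.Normal.isSubnormal inferInstance)
    rwa [Subgroup.map_subgroupOf_eq_of_le (fun x hx => hHY hx : H.subgroupOf D ≤ Y.subgroupOf D)] at h3


/-- Let G be a finite group, p a prime dividing the order of G, H a p-subgroup of G and P a Sylow p-subgroup of G. Call the subnormalizer of H the set of elements g of G such that H is subnormal in the subgroup generated by H and g. Then the number of elements of the subnormalizer of H equals the number of Sylow p-subgroups of G containing H times the order of N_G(P), and also equals the number of conjugates of H contained in P times the order of N_G(H). -/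
theorem result {G : Type*} [Group G] [Finite G] (p : ℕ) [Fact p.Prime]
    (hp : p ∣ Nat.card G) (H : Subgroup G) (hH : IsPGroup p H) (P : Sylow p G) :
    Nat.card {g : G // ((H).subgroupOf (H ⊔ Subgroup.zpowers g)).IsSubnormal} =
        Nat.card {Q : Sylow p G // H ≤ (Q : Subgroup G)} * Nat.card (Subgroup.normalizer ((P : Subgroup G) : Set G)) ∧
    Nat.card {g : G // ((H).subgroupOf (H ⊔ Subgroup.zpowers g)).IsSubnormal} =
        Nat.card {K : Subgroup G // K ≤ (P : Subgroup G) ∧ ∃ g : G, K = H.map (MulAut.conj g).toMonoidHom} *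
          Nat.card (Subgroup.normalizer (H : Set G)) := by
  classical
  haveI := Fintype.ofFinite G
  have h1 : Nat.card {g : G // ((H).subgroupOf (H ⊔ Subgroup.zpowers g)).IsSubnormal} =
      Nat.card {Q : Sylow p G // H ≤ (Q : Subgroup G)} * Nat.card (Subgroup.normalizer ((P : Subgroup G) : Set G)) := by
    rw [← CfsgLib.Subnormalizer.card_eq_mul hH P]
    exact Nat.card_congr (Equiv.subtypeEquivRight fun g => subnormalizer_iff p hH g)
  refine ⟨h1, h1.trans ?_⟩
  -- both sides count the elements conjugating `H` into `P`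
  let T := {x : G // H.map (MulAut.conj x).toMonoidHom ≤ (P : Subgroup G)}
  have key : ∀ {X : Type _} [Finite X] (f : T → X) (m : ℕ), (∀ y, Nat.card {t : T // f t = y} = m) →
      Nat.card T = Nat.card X * m := by
    intro X _ f m hm
    haveI := Fintype.ofFinite X
    rw [← Nat.card_congr (Equiv.sigmaFiberEquiv f), Nat.card_sigma, Finset.sum_congr rfl fun y _ => hm y,
      Finset.sum_const, Finset.card_univ, smul_eq_mul, Nat.card_eq_fintype_card]
  have hmem : ∀ x : G, H.map (MulAut.conj x).toMonoidHom ≤ (P : Subgroup G) ↔ H ≤ ((x⁻¹ • P : Sylow p G) : Subgroup G) := by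
    intro x
    rw [Sylow.coe_subgroup_smul, map_inv, ← Subgroup.pointwise_smul_subset_iff]
    rfl
  have hA : Nat.card T = Nat.card {Q : Sylow p G // H ≤ (Q : Subgroup G)} *
      Nat.card (Subgroup.normalizer ((P : Subgroup G) : Set G)) := by
    refine key (fun t => ⟨t.1⁻¹ • P, (hmem t.1).mp t.2⟩) _ fun Q => ?_
    obtain ⟨z, hz⟩ := MulAction.exists_smul_eq G P Q.1
    refine Nat.card_congr
      { toFun := fun t => ⟨t.1.1 * z, ?_⟩
        invFun := fun n => ⟨⟨n.1 * z⁻¹, (hmem _).mpr ?_⟩, Subtype.ext ?_⟩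
        left_inv := fun t => Subtype.ext (Subtype.ext (by simp))
        right_inv := fun n => by simp }
    · refine Sylow.smul_eq_iff_mem_normalizer.mp ?_
      rw [mul_smul, hz, ← congrArg Subtype.val t.2, smul_inv_smul]
    · have hn : n.1⁻¹ • P = P := Sylow.smul_eq_iff_mem_normalizer.mpr (inv_mem n.2)
      rw [mul_inv_rev, inv_inv, mul_smul, hn, hz]
      exact Q.2
    · have hn : n.1⁻¹ • P = P := Sylow.smul_eq_iff_mem_normalizer.mpr (inv_mem n.2)
      show (n.1 * z⁻¹)⁻¹ • P = Q.1
      rw [mul_inv_rev, inv_inv, mul_smul, hn, hz]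
  have hB : Nat.card T = Nat.card {K : Subgroup G // K ≤ (P : Subgroup G) ∧ ∃ g : G, K = H.map (MulAut.conj g).toMonoidHom} *
      Nat.card (Subgroup.normalizer (H : Set G)) := by
    refine key (fun t => ⟨H.map (MulAut.conj t.1).toMonoidHom, t.2, t.1, rfl⟩) _ fun K => ?_
    obtain ⟨z, hz⟩ := K.2.2
    have hN : ∀ n : G, n ∈ Subgroup.normalizer (H : Set G) ↔ H.map (MulAut.conj n).toMonoidHom = H := by
      intro n
      exact Subgroup.mem_normalizer_iff_map_conj_eq
    have hcomp : ∀ a b : G, H.map (MulAut.conj (a * b)).toMonoidHom = (H.map (MulAut.conj b).toMonoidHom).map (MulAut.conj a).toMonoidHom := by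
      intro a b
      rw [Subgroup.map_map, map_mul]
      rfl
    refine Nat.card_congr
      { toFun := fun t => ⟨z⁻¹ * t.1.1, ?_⟩
        invFun := fun n => ⟨⟨z * n.1, ?_⟩, Subtype.ext ?_⟩
        left_inv := fun t => Subtype.ext (Subtype.ext (by simp))
        right_inv := fun n => by simp }
    · rw [hN, hcomp, show H.map (MulAut.conj t.1.1).toMonoidHom = K.1 from congrArg Subtype.val t.2, hz, ← hcomp,
        inv_mul_cancel, map_one]
      exact Subgroup.map_id H
    · rw [hcomp, (hN _).mp n.2, ← hz]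
      exact K.2.1
    · show H.map (MulAut.conj (z * n.1)).toMonoidHom = K.1
      rw [hcomp, (hN _).mp n.2, ← hz]
  rw [← hA, hB]
end Cfsg.Agent.S4088
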