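import Cfsg.Statements.S4089
import Cfsg.Agent.S4088

set_option autoImplicit false
open Cfsg

namespace Cfsg.Agent.S4089

theorem exists_radical {G : Type*} [Group G] [Finite G] (p : ℕ) [Fact p.Prime] {H Y : Subgroup G} {g : G}
    (hY : IsPGroup p Y) (hHY : H ≤ Y) (hg : g ∈ Subgroup.normalizer (Y : Set G)) :
    ∃ R : Subgroup G, IsPGroup p R ∧ H ≤ R ∧ Cfsg.pCoreOf p (Subgroup.normalizer (R : Set G)) = R ∧ g ∈ Subgroup.normalizer (R : Set G) := by
  obtain ⟨R, hR, hmax⟩ := Set.Finite.exists_maximal (Set.toFinite {T : Subgroup G | IsPGroup p T ∧ H ≤ T ∧ g ∈ Subgroup.normalizer (T : Set G)})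
    ⟨Y, hY, hHY, hg⟩
  have hle : R ≤ Cfsg.pCoreOf p (Subgroup.normalizer (R : Set G)) :=
    CfsgLib.PReduced.le_pCoreOf Subgroup.le_normalizer le_rfl hR.1
  exact ⟨R, hR.1, hR.2.1, le_antisymm (hmax ⟨CfsgLib.PReduced.isPGroup_pCoreOf p _, hR.2.1.trans hle,
    CfsgLib.PReduced.le_normalizer_pCoreOf p _ hR.2.2⟩ hle) hle, hR.2.2⟩

theorem radical_eq_inter {G : Type*} [Group G] [Finite G] (p : ℕ) [Fact p.Prime] {R : Subgroup G}
    (hR : IsPGroup p R) (hrad : Cfsg.pCoreOf p (Subgroup.normalizer (R : Set G)) = R) {x : G}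
    (hx : ∀ Q : Sylow p G, R ≤ (Q : Subgroup G) → x ∈ (Q : Subgroup G)) : x ∈ R := by
  set J : Subgroup G := ⨅ Q : {Q : Sylow p G // R ≤ (Q : Subgroup G)}, ((Q : Sylow p G) : Subgroup G) with hJ
  have hxJ : x ∈ J := Subgroup.mem_iInf.mpr fun Q => hx Q.1 Q.2
  obtain ⟨Q₀, hQ₀⟩ := hR.exists_le_sylow
  have hJp : IsPGroup p J := Q₀.2.to_le (iInf_le (fun Q : {Q : Sylow p G // R ≤ (Q : Subgroup G)} => ((Q : Sylow p G) : Subgroup G)) ⟨Q₀, hQ₀⟩)
  suffices hJR : J ≤ R from hJR hxJ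
  by_contra hne
  have hlt : R < J := lt_of_le_of_ne (le_iInf fun Q => Q.2) fun h => hne h.ge
  refine (CfsgLib.Transfer.lt_inf_normalizer hJp hlt).not_ge ?_
  set N := Subgroup.normalizer (R : Set G) with hN
  intro y hy
  obtain ⟨hyJ, hyN⟩ := Subgroup.mem_inf.mp hy
  rw [← hrad]
  refine ⟨⟨y, hyN⟩, ?_, rfl⟩
  rw [SetLike.mem_coe, CfsgLib.Fitting.pCore_eq_iInf_sylow p, Subgroup.mem_iInf]
  intro T
  obtain ⟨Q, hQ⟩ := (T.2.map N.subtype).exists_le_sylow
  have hRT : R ≤ (T : Subgroup N).map N.subtype := by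
    intro r hr
    have h1 : r ∈ Cfsg.pCoreOf p N := by rw [hrad]; exact hr
    obtain ⟨r', hr', rfl⟩ := h1
    refine ⟨r', ?_, rfl⟩
    rw [SetLike.mem_coe, CfsgLib.Fitting.pCore_eq_iInf_sylow p, Subgroup.mem_iInf] at hr'
    exact hr' T
  have hyQ : y ∈ (Q : Subgroup G) := Subgroup.mem_iInf.mp hyJ ⟨Q, hRT.trans hQ⟩
  have hp2 : IsPGroup p ((Q : Subgroup G).subgroupOf N) := Q.2.comap_of_injective N.subtype N.subtype_injective
  have heq : (Q : Subgroup G).subgroupOf N = (T : Subgroup N) :=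
    T.3 hp2 fun t ht => Subgroup.mem_subgroupOf.mpr (hQ ⟨t, ht, rfl⟩)
  exact (SetLike.ext_iff.mp heq _).mp (Subgroup.mem_subgroupOf.mpr hyQ)

/-- Let G be a finite group, p a prime and H a p-subgroup of G. Then the set of elements g of G such that H is subnormal in the subgroup generated by H and g is the union of the normalizers N_G(R) over the subgroups R of G containing H with R = O_p(N_G(R)); and this set does not change when H is replaced by the intersection of all Sylow p-subgroups of G containing H. -/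
theorem result {G : Type*} [Group G] [Finite G] (p : ℕ) [Fact p.Prime]
    (H : Subgroup G) (hH : IsPGroup p H) :
    {g : G | ((H).subgroupOf (H ⊔ Subgroup.zpowers g)).IsSubnormal} =
      {g : G | ∃ R : Subgroup G, H ≤ R ∧ (Cfsg.pCore p (Subgroup.normalizer (R : Set G))).map (Subgroup.normalizer (R : Set G)).subtype = R ∧ g ∈ Subgroup.normalizer (R : Set G)} ∧
    ∀ g : G, (((H).subgroupOf (H ⊔ Subgroup.zpowers g)).IsSubnormal ↔
      (((sInf {K : Subgroup G | ∃ Q : Sylow p G, H ≤ (Q : Subgroup G) ∧ K = (Q : Subgroup G)})).subgroupOf ((sInf {K : Subgroup G | ∃ Q : Sylow p G, H ≤ (Q : Subgroup G) ∧ K = (Q : Subgroup G)}) ⊔ Subgroup.zpowers g)).IsSubnormal) := by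
  have char : ∀ K : Subgroup G, IsPGroup p K → ∀ g, ((K.subgroupOf (K ⊔ Subgroup.zpowers g)).IsSubnormal ↔
      ∃ R : Subgroup G, K ≤ R ∧ (Cfsg.pCore p (Subgroup.normalizer (R : Set G))).map (Subgroup.normalizer (R : Set G)).subtype = R ∧ g ∈ Subgroup.normalizer (R : Set G)) := by
    intro K hK g
    rw [Cfsg.Agent.S4088.subnormalizer_iff p hK g]
    constructor
    · rintro ⟨Y, hY, hKY, hg⟩
      obtain ⟨R, -, h1, h2, h3⟩ := exists_radical p hY hKY hg
      exact ⟨R, h1, h2, h3⟩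
    · rintro ⟨R, h1, h2, h3⟩
      exact ⟨R, h2 ▸ CfsgLib.PReduced.isPGroup_pCoreOf p (Subgroup.normalizer (R : Set G)), h1, h3⟩
  refine ⟨Set.ext fun g => char H hH g, fun g => ?_⟩
  set J := sInf {K : Subgroup G | ∃ Q : Sylow p G, H ≤ (Q : Subgroup G) ∧ K = (Q : Subgroup G)} with hJ
  obtain ⟨Q₀, hQ₀⟩ := hH.exists_le_sylow
  have hJp : IsPGroup p J := Q₀.2.to_le (sInf_le ⟨Q₀, hQ₀, rfl⟩)
  have hHJ : H ≤ J := le_sInf (by rintro _ ⟨Q, hQ, rfl⟩; exact hQ)
  rw [char H hH g, char J hJp g]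
  constructor
  · rintro ⟨R, h1, h2, h3⟩
    refine ⟨R, fun x hx => radical_eq_inter p (h2 ▸ CfsgLib.PReduced.isPGroup_pCoreOf p (Subgroup.normalizer (R : Set G))) h2 fun Q hQ => ?_, h2, h3⟩
    exact (Subgroup.mem_sInf.mp hx) _ ⟨Q, h1.trans hQ, rfl⟩
  · rintro ⟨R, h1, h2, h3⟩
    exact ⟨R, hHJ.trans h1, h2, h3⟩
end Cfsg.Agent.S4089
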