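import Cfsg.Statements.S4091
import Cfsg.Agent.Lib.Subnormalizer.SylowAbove
import Cfsg.Agent.Lib.Subnormalizer.CoprimeProduct

set_option autoImplicit false
open Cfsg

namespace Cfsg.Agent.S4091

open CfsgLib.Subnormalizer
open scoped Pointwise

/-- The product over a Sylow subgroup of the numbers of Sylow subgroups above its elements. -/
theorem prod_numAbove_le {G : Type*} [Group G] [Finite G] {p : ℕ} [Fact p.Prime] {n : ℕ}
    {M : Fin (n + 1) → Subgroup G} (h0 : M 0 = ⊥) (hn : M (Fin.last n) = ⊤) (hmono : Monotone M)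
    (hnormal : ∀ i, (M i).Normal)
    (hfac : ∀ i : Fin n, (∃ m : ℕ, (M i.castSucc).relIndex (M i.succ) = p ^ m) ∨
      ((M i.castSucc).relIndex (M i.succ)).Coprime p) (P : Sylow p G) [Fintype (P : Subgroup G)] :
    (∏ x : (P : Subgroup G), numAbove p (Subgroup.zpowers (x : G))) ^ p ≤
      Nat.card (Sylow p G) ^ Fintype.card (P : Subgroup G) := by
  set N := Fintype.card (P : Subgroup G) with hN
  set w := weight p M with hw
  have hz : ∀ x : (P : Subgroup G), IsPGroup p (Subgroup.zpowers (x : G)) := fun x =>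
    P.2.to_le (Subgroup.zpowers_le.2 x.2)
  have hfactor : ∀ i, (∏ x : (P : Subgroup G), w (Subgroup.zpowers (x : G)) i) ^ p ≤
      w ⊥ i ^ N * w (P : Subgroup G) i ^ ((p - 1) * N) := by
    intro i
    simp only [hw, weight]
    split_ifs with hco
    swap; · simp
    haveI := hnormal i.castSucc
    have hle : M i.castSucc ≤ M i.succ := hmono (le_of_lt Fin.castSucc_lt_succ)
    set π := QuotientGroup.mk' (M i.castSucc) with hπ
    set K := (M i.succ).map π with hK
    haveI : K.Normal := Subgroup.Normal.map (hnormal _) π (QuotientGroup.mk'_surjective _)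
    let φ := π.comp (P : Subgroup G).subtype
    have hr : φ.range = (P : Subgroup G).map π := by
      rw [MonoidHom.range_eq_map, ← Subgroup.map_map, ← MonoidHom.range_eq_map, Subgroup.range_subtype]
    have hcard : Nat.card K = (M i.castSucc).relIndex (M i.succ) := by
      rw [hK, ← Subgroup.relIndex_bot_left, ← Subgroup.relIndex_comap, MonoidHom.comap_bot, hπ,
        QuotientGroup.ker_mk']
    have key := prod_fixIn_pow_le φ (hr ▸ P.2.map π) K Subgroup.le_normalizer_of_normal
      (hcard ▸ hco.symm)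
    rw [hcard, hr] at key
    rw [fixQuot_bot hle, fixQuot_eq hle]
    refine le_trans (le_of_eq (congrArg (· ^ p) (Finset.prod_congr rfl fun x _ => ?_))) key
    rw [fixQuot_eq hle, MonoidHom.map_zpowers, Subgroup.zpowers_eq_closure, Subgroup.centralizer_closure]
    rfl
  have e0 : Nat.card (Sylow p G) * ∏ i, w (P : Subgroup G) i = ∏ i, w ⊥ i := by
    rw [← numAbove_bot]
    exact numAbove_mul_prod hmono hnormal h0 hn hfac IsPGroup.of_bot P
  set W := ∏ i, w (P : Subgroup G) i with hW
  have hWpos : 0 < W := Finset.prod_pos fun i _ => weight_pos hmono hnormal _ i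
  have h : ((∏ x : (P : Subgroup G), numAbove p (Subgroup.zpowers (x : G))) * W ^ N) ^ p ≤
      Nat.card (Sylow p G) ^ N * (W ^ N) ^ p := by
    calc ((∏ x : (P : Subgroup G), numAbove p (Subgroup.zpowers (x : G))) * W ^ N) ^ p
        = ∏ i, (∏ x : (P : Subgroup G), w (Subgroup.zpowers (x : G)) i) ^ p := by
          rw [Finset.prod_pow, Finset.prod_comm, hN, ← Finset.card_univ, ← Finset.prod_const,
            ← Finset.prod_mul_distrib,
            Finset.prod_congr rfl fun x _ => numAbove_mul_prod hmono hnormal h0 hn hfac (hz x) P]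
      _ ≤ ∏ i, w ⊥ i ^ N * w (P : Subgroup G) i ^ ((p - 1) * N) := Finset.prod_le_prod' fun i _ => hfactor i
      _ = (Nat.card (Sylow p G) * W) ^ N * W ^ ((p - 1) * N) := by
          rw [Finset.prod_mul_distrib, Finset.prod_pow, Finset.prod_pow, e0]
      _ = _ := by
          obtain ⟨q, hq⟩ : ∃ q, p = q + 1 := ⟨p - 1, by have := (Fact.out : p.Prime).pos; omega⟩
          rw [hq, Nat.add_sub_cancel]
          ring
  rw [mul_pow] at h
  exact Nat.le_of_mul_le_mul_right h (Nat.pow_pos (Nat.pow_pos hWpos))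

/-- Let G be a finite p-solvable group, P a Sylow p-subgroup of G, u the number of p-elements of G (elements of p-power order, the identity included) and n the number of Sylow p-subgroups of G. Then u/#P ≥ n^((p−1)/p), stated as u^p ≥ #P^p · n^(p−1). -/
theorem result {G : Type*} [Group G] [Finite G] (p : ℕ) [Fact p.Prime]
    (hG : Cfsg.IsPSolvable p G) (P : Sylow p G) :
    Nat.card (P : Subgroup G) ^ p * Nat.card (Sylow p G) ^ (p - 1) ≤ Nat.card {g : G // ∃ k : ℕ, orderOf g = p ^ k} ^ p := by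
  classical
  obtain ⟨l, M, h0, hn, hmono, hnormal, hfac⟩ := hG
  haveI := Fintype.ofFinite G
  haveI := Fintype.ofFinite (Sylow p G)
  haveI : Fintype (P : Subgroup G) := Fintype.ofFinite _
  set nP := Nat.card (Sylow p G) with hnP
  set N := Nat.card (P : Subgroup G) with hNdef
  -- the weight of an element
  let c : G → ℕ := fun g => numAbove p (Subgroup.zpowers g)
  have hc : ∀ Q : Sylow p G, ∀ x ∈ (Q : Subgroup G), (0 : ℝ) < c x := fun Q x hx =>
    Nat.cast_pos.2 (numAbove_pos (Q.2.to_le (Subgroup.zpowers_le.2 hx)))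
  have hconj : ∀ g x : G, c (g * x * g⁻¹) = c x := fun g x => by
    refine (Nat.card_congr (Equiv.subtypeEquiv (MulAction.toPerm g : Equiv.Perm (Sylow p G)) fun Q => ?_)).symm
    rw [Subgroup.zpowers_le, Subgroup.zpowers_le, MulAction.toPerm_apply, Sylow.coe_subgroup_smul,
      Subgroup.mem_pointwise_smul_iff_inv_smul_mem, MulAut.smul_def, MulAut.conj_inv_apply]
    rw [show g⁻¹ * (g * x * g⁻¹) * g = x by group]
  let z : ↥(P : Subgroup G) → ℝ := fun x => ((c (x : G) : ℕ) : ℝ)⁻¹
  have hzpos : ∀ x, 0 < z x := fun x => inv_pos.2 (hc P x x.2)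
  set A := ∑ x, z x with hA
  -- double counting
  have hS : (Nat.card {g : G // ∃ k : ℕ, orderOf g = p ^ k} : ℝ) = nP * A := by
    have e1 : ∀ Q : Sylow p G, ∑ g ∈ Finset.univ.filter (fun g : G => g ∈ (Q : Subgroup G)), (c g : ℝ)⁻¹ = A := by
      intro Q
      obtain ⟨a, ha⟩ := MulAction.exists_smul_eq G P Q
      refine (Finset.sum_bij (fun (x : (P : Subgroup G)) _ => a * (x : G) * a⁻¹) ?_ ?_ ?_ ?_).symm
      · intro x _
        rw [Finset.mem_filter, ← ha, Sylow.coe_subgroup_smul]
        exact ⟨Finset.mem_univ _, Subgroup.smul_mem_pointwise_smul _ (MulAut.conj a) _ x.2⟩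
      · intro x _ y _ e
        exact Subtype.ext (mul_left_cancel (mul_right_cancel e))
      · intro g hg
        rw [Finset.mem_filter, ← ha, Sylow.coe_subgroup_smul, Subgroup.mem_pointwise_smul_iff_inv_smul_mem,
          MulAut.smul_def, MulAut.conj_inv_apply] at hg
        exact ⟨⟨_, hg.2⟩, Finset.mem_univ _, by show a * (a⁻¹ * g * a) * a⁻¹ = g; group⟩
      · intro x _
        show _ = (c (a * (x : G) * a⁻¹) : ℝ)⁻¹
        rw [hconj]
    have e2 : ∀ g : G, ∑ Q : Sylow p G, (if g ∈ (Q : Subgroup G) then (c g : ℝ)⁻¹ else 0) =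
        if ∃ k : ℕ, orderOf g = p ^ k then 1 else 0 := by
      intro g
      rw [Finset.sum_ite, Finset.sum_const, Finset.sum_const_zero, add_zero, nsmul_eq_mul]
      have hcard : (Finset.univ.filter (fun Q : Sylow p G => g ∈ (Q : Subgroup G))).card = c g := by
        rw [← Fintype.card_subtype, ← Nat.card_eq_fintype_card]
        exact Nat.card_congr (Equiv.subtypeEquivRight fun Q => Subgroup.zpowers_le.symm)
      rw [hcard]
      split_ifs with h
      · obtain ⟨k, hk⟩ := h
        obtain ⟨Q, hQ⟩ := (IsPGroup.of_card (n := k) (by rw [Nat.card_zpowers, hk]) :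
          IsPGroup p (Subgroup.zpowers g)).exists_le_sylow
        exact mul_inv_cancel₀ (hc Q g (hQ (Subgroup.mem_zpowers g))).ne'
      · have : c g = 0 := by
          refine Nat.card_eq_zero.2 (Or.inl ⟨fun Q => h ?_⟩)
          exact IsPGroup.iff_orderOf.1 Q.1.2 ⟨g, Q.2 (Subgroup.mem_zpowers g)⟩ |>.imp fun k hk => by
            rw [← hk, Subgroup.orderOf_mk]
        rw [this]
        simp
    have h1 : ∑ Q : Sylow p G, ∑ g : G, (if g ∈ (Q : Subgroup G) then (c g : ℝ)⁻¹ else 0) = nP * A := by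
      simp_rw [← Finset.sum_filter, e1, Finset.sum_const, Finset.card_univ, nsmul_eq_mul, hnP,
        Nat.card_eq_fintype_card]
    rw [← h1, Finset.sum_comm, Finset.sum_congr rfl fun g _ => e2 g, Finset.sum_boole,
      Nat.card_eq_fintype_card, Fintype.card_subtype]
  have hN : Fintype.card (P : Subgroup G) = N := Fintype.card_eq_nat_card
  have hNpos : 0 < N := Nat.card_pos
  -- the arithmetic-geometric mean inequality
  have hAM : (N : ℝ) ^ N * ∏ x, z x ≤ A ^ N := by
    have h := Real.geom_mean_le_arith_mean Finset.univ (fun _ : (P : Subgroup G) => (1 : ℝ)) z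
      (fun _ _ => zero_le_one) (by simp [hN, hNpos]) (fun x _ => (hzpos x).le)
    simp only [Real.rpow_one, one_mul, Finset.sum_const, Finset.card_univ, nsmul_eq_mul, mul_one, hN] at h
    have h2 := pow_le_pow_left₀ (Real.rpow_nonneg (Finset.prod_nonneg fun x _ => (hzpos x).le) _) h N
    rw [Real.rpow_inv_natCast_pow (Finset.prod_nonneg fun x _ => (hzpos x).le) hNpos.ne', div_pow] at h2
    rw [mul_comm]
    exact (le_div_iff₀ (by positivity)).1 h2
  have hprod : (∏ x : (P : Subgroup G), (c (x : G) : ℝ)) ^ p ≤ (nP : ℝ) ^ N := by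
    have h := prod_numAbove_le h0 hn hmono hnormal hfac P
    rw [hN] at h
    exact_mod_cast h
  have hnp : (0 : ℝ) < nP := Nat.cast_pos.2 Nat.card_pos
  have hinv : ((nP : ℝ) ^ N)⁻¹ ≤ (∏ x, z x) ^ p := by
    rw [Finset.prod_inv_distrib, inv_pow]
    exact inv_anti₀ (pow_pos (Finset.prod_pos fun (x : (P : Subgroup G)) _ => hc P x x.2) p) hprod
  have key : ((N : ℝ) ^ p * (nP : ℝ) ^ (p - 1)) ^ N ≤ ((nP * A) ^ p) ^ N := by
    obtain ⟨q, hq⟩ : ∃ q, p = q + 1 := ⟨p - 1, by have := (Fact.out : p.Prime).pos; omega⟩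
    calc ((N : ℝ) ^ p * (nP : ℝ) ^ (p - 1)) ^ N
        = ((N : ℝ) ^ N) ^ p * (((nP : ℝ) ^ N) ^ p * ((nP : ℝ) ^ N)⁻¹) := by
          rw [hq, Nat.add_sub_cancel, pow_succ' ((nP : ℝ) ^ N) q, mul_comm ((nP : ℝ) ^ N) (((nP : ℝ) ^ N) ^ q),
            mul_assoc (((nP : ℝ) ^ N) ^ q), mul_inv_cancel₀ (pow_ne_zero _ hnp.ne'), mul_one]
          ring
      _ ≤ ((N : ℝ) ^ N) ^ p * (((nP : ℝ) ^ N) ^ p * (∏ x, z x) ^ p) := by gcongr
      _ = ((nP : ℝ) ^ N) ^ p * ((N : ℝ) ^ N * ∏ x, z x) ^ p := by ring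
      _ ≤ ((nP : ℝ) ^ N) ^ p * (A ^ N) ^ p := by
          gcongr
      _ = ((nP * A) ^ p) ^ N := by ring
  rw [← hS] at key
  exact_mod_cast (pow_le_pow_iff_left₀ (by positivity) (by positivity) hNpos.ne').1 key

end Cfsg.Agent.S4091
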