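import Cfsg.Statements.S4092
import Mathlib
-- import your own Cfsg.Agent.* helpers here

set_option autoImplicit false
open Cfsg

namespace Cfsg.Agent.S4092

/-- Let G be a finite group, p a prime and P a Sylow p-subgroup of G that is not normal in G. Then G has at least p·#P elements of p-power order (the identity included). -/
theorem result {G : Type*} [Group G] [Finite G] (p : ℕ) [Fact p.Prime]
    (P : Sylow p G) (hP : ¬ (P : Subgroup G).Normal) :
    p * Nat.card (P : Subgroup G) ≤ Nat.card {g : G // ∃ k : ℕ, orderOf g = p ^ k} := by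
  classical
  have hp : p.Prime := Fact.out
  have : Fintype (Sylow p G) := Fintype.ofFinite _
  obtain ⟨P₀, hP₀⟩ : ∃ R : Sylow p G, R ≠ P := by
    by_contra! h
    have : Subsingleton (Sylow p G) := ⟨fun a b => (h a).trans (h b).symm⟩
    exact hP P.normal_of_subsingleton
  have : Nonempty {x : Sylow p G × Sylow p G // x.1 ≠ x.2} := ⟨⟨(P₀, P), hP₀⟩⟩
  obtain ⟨⟨⟨A, B⟩, hne⟩, hmax⟩ := Finite.exists_max
    fun x : {x : Sylow p G × Sylow p G // x.1 ≠ x.2} => Nat.card ((x.1.1 : Subgroup G) ⊓ x.1.2 : Subgroup G)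
  dsimp only at hne hmax
  let D : Subgroup G := (A : Subgroup G) ⊓ B
  have hbig : ∀ R S : Sylow p G, D < (R : Subgroup G) ⊓ S → R = S := fun R S h => by
    by_contra hne'
    have h1 := hmax ⟨(R, S), hne'⟩
    exact absurd (Subgroup.eq_of_le_of_card_ge h.le h1) h.ne
  let N : Subgroup G := Subgroup.normalizer (D : Set G)
  have hDN : D ≤ N := Subgroup.le_normalizer
  have grow : ∀ R : Sylow p G, D < (R : Subgroup G) → D < (R : Subgroup G) ⊓ N := fun R h => by
    have : Group.IsNilpotent (R : Subgroup G) := R.2.isNilpotent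
    have h1 := Group.normalizerCondition_of_isNilpotent (G := (R : Subgroup G)) (D.subgroupOf R)
      (by
        refine lt_top_iff_ne_top.mpr fun he => h.not_ge ?_
        exact Subgroup.subgroupOf_eq_top.mp he)
    refine lt_of_le_of_ne (le_inf h.le hDN) fun he => h1.ne ?_
    refine le_antisymm Subgroup.le_normalizer fun x hx => ?_
    rw [Subgroup.mem_subgroupOf, he]
    refine ⟨x.2, Subgroup.mem_normalizer_iff.mpr fun y => ?_⟩
    constructor
    · intro hy
      have := (Subgroup.mem_normalizer_iff.mp hx ⟨y, h.le hy⟩).mp hy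
      exact this
    · intro hy
      have hyR : y ∈ (R : Subgroup G) := by
        have := mul_mem (mul_mem (inv_mem x.2) (h.le hy)) x.2
        simpa [mul_assoc] using this
      exact (Subgroup.mem_normalizer_iff.mp hx ⟨y, hyR⟩).mpr hy
  have hDA : D < (A : Subgroup G) := lt_of_le_of_ne inf_le_left fun he => hne (Sylow.ext
    (Subgroup.eq_of_le_of_card_ge (inf_eq_left.mp he) (by rw [A.card_eq_multiplicity, B.card_eq_multiplicity])))
  have hDB : D < (B : Subgroup G) := lt_of_le_of_ne inf_le_right fun he => hne (Sylow.ext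
    (Subgroup.eq_of_le_of_card_ge (inf_eq_right.mp he) (by rw [A.card_eq_multiplicity, B.card_eq_multiplicity])).symm)
  have hDp : IsPGroup p D := A.2.to_le inf_le_left
  have hDn : (D.subgroupOf N).Normal := Subgroup.normal_subgroupOf_iff_le_normalizer hDN |>.mpr le_rfl
  have sylowN : ∀ T : Sylow p N, D < (T : Subgroup N).map N.subtype := fun T => by
    have hle : D ≤ (T : Subgroup N).map N.subtype := by
      have h := IsPGroup.le_sylow_of_normal (hDp.of_equiv (Subgroup.subgroupOfEquivOfLe hDN).symm) T
      have h2 := Subgroup.map_mono (f := N.subtype) h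
      rwa [Subgroup.map_subgroupOf_eq_of_le hDN] at h2
    refine lt_of_le_of_ne hle fun he => ?_
    have h1 := grow A hDA
    obtain ⟨S, hS⟩ := (A.2.to_le (inf_le_left (b := N)) |>.of_equiv
      (Subgroup.subgroupOfEquivOfLe (inf_le_right (a := (A : Subgroup G)) (b := N))).symm).exists_le_sylow
    have h2 := Subgroup.card_le_of_le (Subgroup.map_mono (f := N.subtype) hS)
    rw [Subgroup.map_subgroupOf_eq_of_le inf_le_right,
      Subgroup.card_map_of_injective N.subtype_injective, S.card_eq_multiplicity, ← T.card_eq_multiplicity,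
      ← Subgroup.card_map_of_injective (K := (T : Subgroup N)) N.subtype_injective, ← he] at h2
    exact h1.ne (Subgroup.eq_of_le_of_card_ge h1.le h2)
  have hnN : p + 1 ≤ Nat.card (Sylow p N) := by
    have h1 : Nat.card (Sylow p N) ≠ 1 := fun h => by
      have := (Nat.card_eq_one_iff_unique.mp h).1
      have lift : ∀ R : Sylow p G, ∃ T : Sylow p N, (R : Subgroup G) ⊓ N ≤ (T : Subgroup N).map N.subtype := fun R => by
        obtain ⟨S, hS⟩ := (R.2.to_le (inf_le_left (b := N)) |>.of_equiv
          (Subgroup.subgroupOfEquivOfLe (inf_le_right (a := (R : Subgroup G)) (b := N))).symm).exists_le_sylow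
        exact ⟨S, by rw [← Subgroup.map_subgroupOf_eq_of_le (inf_le_right (a := (R : Subgroup G)) (b := N))]; exact Subgroup.map_mono hS⟩
      obtain ⟨TA, hTA⟩ := lift A
      obtain ⟨TB, hTB⟩ := lift B
      obtain ⟨R, hR⟩ := (TA.2.map N.subtype).exists_le_sylow
      have eA := hbig R A (lt_of_lt_of_le (grow A hDA) (le_inf (hTA.trans hR) inf_le_left))
      have eB := hbig R B (lt_of_lt_of_le (grow B hDB)
        (le_inf ((Subsingleton.elim TA TB ▸ hTB).trans hR) inf_le_left))
      exact hne (eA.symm.trans eB)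
    have h2 := card_sylow_modEq_one p N
    have h3 : 1 ≤ Nat.card (Sylow p N) := Nat.card_pos
    have h4 : p ∣ Nat.card (Sylow p N) - 1 := (Nat.modEq_iff_dvd' h3).mp h2.symm
    have := Nat.le_of_dvd (by omega) h4
    omega
  have hext : ∀ T : Sylow p N, ∃ R : Sylow p G, (T : Subgroup N).map N.subtype ≤ R :=
    fun T => (T.2.map N.subtype).exists_le_sylow
  choose R hR using hext
  have hRD : ∀ T, D < (R T : Subgroup G) := fun T => (sylowN T).trans_le (hR T)
  have hRinj : Function.Injective R := fun T T' he => by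
    refine Sylow.ext ?_
    have hsub : ∀ T : Sylow p N, (T : Subgroup N) = (R T : Subgroup G).subgroupOf N := fun T => by
      refine (T.3 ?_ ?_).symm
      · exact (R T).2.comap_subtype
      · exact Subgroup.map_le_iff_le_comap.mp (hR T)
    rw [hsub T, hsub T', he]
  have hmeet : ∀ T T', R T ≠ R T' → (R T : Subgroup G) ⊓ R T' = D := fun T T' h => by
    by_contra h'
    exact h (hbig _ _ (lt_of_le_of_ne (le_inf (hRD T).le (hRD T').le) (Ne.symm h')))
  have : Fintype G := Fintype.ofFinite G
  let U : Finset G := Finset.univ.filter fun g => ∃ k : ℕ, orderOf g = p ^ k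
  have eU : Nat.card {g : G // ∃ k : ℕ, orderOf g = p ^ k} = U.card := by
    rw [Nat.card_eq_fintype_card, Fintype.card_subtype]
  have hmem : ∀ (S : Sylow p G) g, g ∈ (S : Subgroup G) → g ∈ U := fun S g hg => by
    obtain ⟨k, hk⟩ := IsPGroup.iff_orderOf.mp S.2 ⟨g, hg⟩
    exact Finset.mem_filter.mpr ⟨Finset.mem_univ _, k, by rwa [Subgroup.orderOf_mk] at hk⟩
  have : Fintype (Sylow p N) := Fintype.ofFinite _
  let Dset : Finset G := Finset.univ.filter (· ∈ D)
  let piece := fun T : Sylow p N => Finset.univ.filter fun g => g ∈ (R T : Subgroup G) ∧ g ∉ D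
  have hpc : ∀ T, (piece T).card = Nat.card (P : Subgroup G) - Nat.card D := fun T => by
    have e : piece T = (Finset.univ.filter (· ∈ (R T : Subgroup G))) \ Dset := by ext g; simp [piece, Dset]
    rw [e, Finset.card_sdiff_of_subset (fun g hg => by simp [Dset] at hg ⊢; exact (hRD T).le hg),
      P.card_eq_multiplicity, ← (R T).card_eq_multiplicity, Nat.card_eq_fintype_card, Nat.card_eq_fintype_card,
      Fintype.card_subtype, Fintype.card_subtype]
  have hdisj : (↑(Finset.univ : Finset (Sylow p N)) : Set (Sylow p N)).PairwiseDisjoint piece := by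
    intro T _ T' _ hne'
    rw [Function.onFun, Finset.disjoint_left]
    intro g hg hg'
    simp [piece] at hg hg'
    exact hg.2 (hmeet T T' (fun h => hne' (hRinj h)) ▸ ⟨hg.1, hg'.1⟩)
  have hU : Dset ∪ Finset.univ.biUnion piece ⊆ U := by
    intro g hg
    simp only [Finset.mem_union, Finset.mem_biUnion, Finset.mem_univ, true_and] at hg
    rcases hg with hg | ⟨T, hg⟩
    · have hgD : g ∈ D := (Finset.mem_filter.mp hg).2
      exact hmem A g (inf_le_left (a := (A : Subgroup G)) (b := B) hgD)
    · exact hmem (R T) g (by simp [piece] at hg; exact hg.1)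
  have h := Finset.card_le_card hU
  rw [Finset.card_union_of_disjoint (by
      rw [Finset.disjoint_left]; intro g hg; simp [Dset, piece] at hg ⊢; exact fun _ _ => hg),
    Finset.card_biUnion hdisj, Finset.sum_congr rfl fun T _ => hpc T, Finset.sum_const, smul_eq_mul,
    Finset.card_univ, ← Nat.card_eq_fintype_card] at h
  have hD : Dset.card = Nat.card D := by rw [Nat.card_eq_fintype_card, Fintype.card_subtype]
  rw [hD] at h
  rw [eU]
  refine le_trans ?_ h
  have hlt : Nat.card D * p ≤ Nat.card (P : Subgroup G) := by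
    obtain ⟨a, ha⟩ := IsPGroup.iff_card.mp hDp
    rw [P.card_eq_multiplicity, ← A.card_eq_multiplicity]
    obtain ⟨b, hb⟩ := IsPGroup.iff_card.mp A.2
    have hl : Nat.card D < Nat.card (A : Subgroup G) := lt_of_le_of_ne (Subgroup.card_le_of_le hDA.le)
      fun he => hDA.ne (Subgroup.eq_of_le_of_card_ge hDA.le he.ge)
    rw [ha, hb] at hl ⊢
    rw [← pow_succ]
    exact Nat.pow_le_pow_right hp.pos ((Nat.pow_lt_pow_iff_right hp.one_lt).mp hl)
  refine le_trans ?_ (Nat.add_le_add_left (Nat.mul_le_mul_right _ hnN) _)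
  have hDP : Nat.card D ≤ Nat.card (P : Subgroup G) := by
    have := Nat.le_mul_of_pos_right (Nat.card D) hp.pos; omega
  obtain ⟨d, hd⟩ := Nat.exists_eq_add_of_le hDP
  rw [hd, Nat.add_sub_cancel_left]
  rw [hd] at hlt
  nlinarith

end Cfsg.Agent.S4092
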