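import Cfsg.Statements.S4093
import Mathlib

set_option autoImplicit false
set_option linter.style.haveILetI false
open scoped BigOperators
open Cfsg

namespace Cfsg.Agent.S4093

/-- Let G be a finite group with a normal subgroup N complementing a Sylow p-subgroup P (a normal p-complement). Then the number of elements of G of p-power order equals the sum over x ∈ P of the index of C_N(x) in N. -/
theorem result {G : Type*} [Group G] [Finite G] (p : ℕ) [Fact p.Prime]
    (P : Sylow p G) (N : Subgroup G) [N.Normal] (hNP : N.IsComplement' (P : Subgroup G)) :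
    Nat.card {g : G // ∃ k : ℕ, orderOf g = p ^ k} =
      ∑ᶠ x : (P : Subgroup G), Nat.card N / Nat.card ↥(N ⊓ Subgroup.centralizer ({(x : G)} : Set G)) := by
  classical
  have hfun : ∀ g : G, ∃ x : (P : Subgroup G), ∃ n ∈ N, g = n * x := by
    intro g
    obtain ⟨⟨n, x⟩, h⟩ := hNP.existsUnique g |>.exists
    exact ⟨x, n, n.2, h.symm⟩
  have huniq : ∀ (x x' : (P : Subgroup G)) (n n' : G), n ∈ N → n' ∈ N →
      n * x = n' * x' → x = x' := by
    intro x x' n n' hn hn' h
    have := (hNP.existsUnique (n * x)).unique (y₁ := (⟨n, hn⟩, x)) (y₂ := (⟨n', hn'⟩, x')) rfl h.symm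
    exact congrArg Prod.snd this
  choose π nn hnn hπ using hfun
  set S := {g : G // ∃ k : ℕ, orderOf g = p ^ k}
  -- every p-element is conjugate to its component by an element of `N`
  have hconj : ∀ g : S, ∃ n ∈ N, (g : G) = n * (π g : G) * n⁻¹ := by
    rintro ⟨g, k, hk⟩
    obtain ⟨Q, hQ⟩ := (IsPGroup.of_card (p := p) (n := k) (G := Subgroup.zpowers g)
      (by rw [Nat.card_zpowers, hk])).exists_le_sylow
    obtain ⟨h, rfl⟩ := MulAction.exists_smul_eq G P Q
    obtain ⟨y, hy, hyg⟩ : g ∈ (P : Subgroup G).map (MulAut.conj h).toMonoidHom := by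
      have := hQ (Subgroup.mem_zpowers g)
      rw [Sylow.coe_subgroup_smul] at this
      exact this
    set y' : (P : Subgroup G) := π h * ⟨y, hy⟩ * (π h)⁻¹ with hy'
    have h1 : g = nn h * (y' : G) * (nn h)⁻¹ := by
      rw [← hyg, show (MulAut.conj h).toMonoidHom y = h * y * h⁻¹ from rfl]
      nth_rewrite 1 2 [hπ h]
      simp [hy', mul_assoc]
    have h2 : π g = y' := by
      refine huniq _ _ (nn g) (nn h * ((y' : G) * (nn h)⁻¹ * (y' : G)⁻¹)) (hnn g)
        (N.mul_mem (hnn h) (Subgroup.Normal.conj_mem inferInstance _ (N.inv_mem (hnn h)) _)) ?_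
      rw [← hπ g]
      nth_rewrite 1 [h1]
      group
    exact ⟨nn h, hnn h, h2 ▸ h1⟩
  have hfib : ∀ x : (P : Subgroup G), Nat.card {g : S // π g = x} =
      Nat.card N / Nat.card ↥(N ⊓ Subgroup.centralizer ({(x : G)} : Set G)) := by
    intro x
    set C := (N ⊓ Subgroup.centralizer ({(x : G)} : Set G)).subgroupOf N
    have hC : ∀ a : N, a ∈ C ↔ (a : G) * x * (a : G)⁻¹ = x := fun a => by
      rw [Subgroup.mem_subgroupOf, mul_inv_eq_iff_eq_mul, ← Subgroup.mem_centralizer_singleton_iff]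
      exact ⟨fun h => h.2, fun h => ⟨a.2, h⟩⟩
    have hmem : ∀ a : N, ∃ k : ℕ, orderOf ((a : G) * x * (a : G)⁻¹) = p ^ k := fun a => by
      obtain ⟨c, hc⟩ := IsPGroup.iff_card.mp P.2
      obtain ⟨i, -, hi⟩ := (Nat.dvd_prime_pow (Fact.out : p.Prime)).mp
        (hc ▸ Subgroup.orderOf_dvd_natCard (s := (P : Subgroup G)) x.2)
      exact ⟨i, hi ▸ orderOf_injective (MulAut.conj (a : G)).toMonoidHom
        (MulAut.conj (a : G)).injective x⟩
    have hπa : ∀ a : N, π ((a : G) * x * (a : G)⁻¹) = x := fun a => by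
      refine huniq _ _ (nn ((a : G) * x * (a : G)⁻¹)) ((a : G) * ((x : G) * (a : G)⁻¹ * (x : G)⁻¹)) (hnn _)
        (N.mul_mem a.2 (Subgroup.Normal.conj_mem inferInstance _ (N.inv_mem a.2) _)) ?_
      rw [← hπ]; group
    let φ : N ⧸ C → {g : S // π g = x} := Quotient.lift
      (fun a : N => ⟨⟨(a : G) * x * (a : G)⁻¹, hmem a⟩, hπa a⟩)
      (fun a b hab => by
        have h2 := (hC _).mp (QuotientGroup.leftRel_apply.mp hab)
        apply Subtype.ext; apply Subtype.ext
        show (a : G) * x * (a : G)⁻¹ = (b : G) * x * (b : G)⁻¹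
        rw [show (b : G) * x * (b : G)⁻¹
          = a * (((a⁻¹ * b : N) : G) * x * (((a⁻¹ * b : N) : G))⁻¹) * (a : G)⁻¹ by
            rw [Subgroup.coe_mul, Subgroup.coe_inv]; group, h2])
    have hbij : Function.Bijective φ := by
      constructor
      · rintro ⟨a⟩ ⟨b⟩ hab
        refine Quotient.sound (QuotientGroup.leftRel_apply.mpr ?_)
        rw [hC, Subgroup.coe_mul, Subgroup.coe_inv]
        have h1 : (a : G) * x * (a : G)⁻¹ = b * x * (b : G)⁻¹ :=
          congrArg (fun z : {g : S // π g = x} => ((z : S) : G)) hab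
        calc (a : G)⁻¹ * b * x * ((a : G)⁻¹ * b)⁻¹ = (a : G)⁻¹ * (b * x * (b : G)⁻¹) * a := by group
          _ = x := by rw [← h1]; group
      · rintro ⟨g, hg⟩
        obtain ⟨n, hn, he⟩ := hconj g
        refine ⟨Quotient.mk _ ⟨n, hn⟩, ?_⟩
        apply Subtype.ext; apply Subtype.ext
        show n * (x : G) * n⁻¹ = (g : G)
        rw [← hg]; exact he.symm
    rw [← Nat.card_congr (Equiv.ofBijective φ hbij),
      ← Nat.card_congr (Subgroup.subgroupOfEquivOfLe
        (inf_le_left : N ⊓ Subgroup.centralizer ({(x : G)} : Set G) ≤ N)).toEquiv,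
      Subgroup.card_eq_card_quotient_mul_card_subgroup C,
      Nat.mul_div_cancel _ Nat.card_pos]
  haveI := Fintype.ofFinite ↥(P : Subgroup G)
  rw [finsum_eq_sum_of_fintype,
    ← Nat.card_congr (Equiv.sigmaFiberEquiv (fun g : S => π g)), Nat.card_sigma]
  exact Finset.sum_congr rfl fun x _ => hfib x

end Cfsg.Agent.S4093
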