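import Cfsg.Statements.S4097
import Cfsg.Agent.Lib.FrobCompl.Conjugate

set_option autoImplicit false
open Cfsg

namespace Cfsg.Agent.S4097

open scoped Pointwise

universe u

/-- Abbreviation for the hypothesis on `A`. -/
def Hyp {G : Type*} [Group G] (A : Subgroup G) : Prop :=
  ∀ S : Subgroup G, A ≤ S → Group.IsSolvable S → ∀ a ∈ A, ∀ s ∈ S, a * s = s * a

theorem solvable_comap {G Q : Type*} [Group G] [Group Q] (f : G →* Q) (hf : Group.IsSolvable f.ker)
    (B : Subgroup Q) (hB : Group.IsSolvable B) : Group.IsSolvable (B.comap f) := by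
  haveI := hf; haveI := hB
  have hle : f.ker ≤ B.comap f := fun x hx => by
    rw [MonoidHom.mem_ker] at hx
    simp [hx]
  refine Group.isSolvable_of_ker_le_range (Subgroup.inclusion hle) (f.subgroupComap B) ?_
  intro x hx
  rw [MonoidHom.mem_ker] at hx
  have : f (x : G) = 1 := congrArg Subtype.val hx
  exact ⟨⟨x, this⟩, rfl⟩

theorem normal_solvable_commute {G : Type*} [Group G] {A : Subgroup G} (h : Hyp A)
    (N : Subgroup G) [N.Normal] (hAN : A ≤ N) (hN : Group.IsSolvable N) :
    A ≤ Subgroup.center G := by
  intro a ha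
  rw [Subgroup.mem_center_iff]
  intro g
  haveI : Group.IsSolvable (QuotientGroup.mk' N).ker := by
    rw [QuotientGroup.ker_mk']; exact hN
  have hsol : Group.IsSolvable
      ((Subgroup.zpowers (QuotientGroup.mk' N g)).comap (QuotientGroup.mk' N)) :=
    solvable_comap _ (by rw [QuotientGroup.ker_mk']; exact hN) _
      (Group.isSolvable_of_comm fun x y => Std.Commutative.comm x y)
  refine (h _ (fun x hx => ?_) hsol a ha g ?_).symm
  · rw [Subgroup.mem_comap]
    have : QuotientGroup.mk' N x = 1 := (QuotientGroup.eq_one_iff x).mpr (hAN hx)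
    rw [this]; exact one_mem _
  · rw [Subgroup.mem_comap]; exact Subgroup.mem_zpowers _

theorem aux : ∀ (n : ℕ) (G : Type u) [Group G] [Finite G], Nat.card G = n →
    ∀ A : Subgroup G, Group.IsSolvable A → Hyp A → A ≤ Subgroup.center G := by
  intro n
  induction n using Nat.strong_induction_on with
  | _ n ih =>
  intro G _ _ hn A hA h
  subst hn
  by_contra hA'
  -- `A` is abelian
  have hab : ∀ a ∈ A, ∀ b ∈ A, a * b = b * a := h A le_rfl hA
  have hA0 : A ≠ ⊥ := fun e => hA' (e ▸ bot_le)
  -- the centre is trivial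
  have hZ : Subgroup.center G = ⊥ := by
    by_contra hZ
    let π := QuotientGroup.mk' (Subgroup.center G)
    have hker : Group.IsSolvable π.ker := by
      rw [QuotientGroup.ker_mk']
      exact Group.isSolvable_of_comm fun x y =>
        Subtype.ext (Subgroup.mem_center_iff.mp y.2 x)
    have hlt : Nat.card (G ⧸ Subgroup.center G) < Nat.card G := by
      rw [Subgroup.card_eq_card_quotient_mul_card_subgroup (Subgroup.center G)]
      exact lt_mul_of_one_lt_right Nat.card_pos ((Subgroup.one_lt_card_iff_ne_bot _).mpr hZ)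
    haveI := hA
    have hAsol : Group.IsSolvable (A.map π) :=
      Group.isSolvable_of_surjective (π.subgroupMap_surjective A)
    have hHyp : Hyp (A.map π) := by
      rintro S hS hSsol _ ⟨a, ha, rfl⟩ s hs
      obtain ⟨g, rfl⟩ := QuotientGroup.mk'_surjective _ s
      have hsol := solvable_comap π hker S hSsol
      have := h (S.comap π) (fun x hx => hS ⟨x, hx, rfl⟩) hsol a ha g hs
      rw [← map_mul, this, map_mul]
    have hc := ih _ hlt (G ⧸ Subgroup.center G) rfl (A.map π) hAsol hHyp
    have hAZ : A ⊔ Subgroup.center G = (A.map π).comap π := by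
      rw [Subgroup.comap_map_eq, QuotientGroup.ker_mk']
    haveI : (A.map π).Normal := ⟨fun x hx g => by
      rw [Subgroup.mem_center_iff.mp (hc hx) g]; simpa using hx⟩
    refine hA' (normal_solvable_commute h ((A.map π).comap π) ?_ (solvable_comap π hker _ hAsol))
    rw [← hAZ]; exact le_sup_left
  set C := Subgroup.centralizer (A : Set G) with hCdef
  have hAC : A ≤ C := fun a ha => Subgroup.mem_centralizer_iff.mpr fun b hb => hab b hb a ha
  have hCtop : C ≠ ⊤ := fun e => hA' (Subgroup.centralizer_eq_top_iff_subset.mp e)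
  -- `C` is the only maximal subgroup above `A`
  have hmax : ∀ H : Subgroup G, A ≤ H → H ≠ ⊤ → H ≤ C := by
    intro H hAH hH
    have hlt : Nat.card H < Nat.card G := by
      rcases (Subgroup.card_le_card_group H).lt_or_eq with hl | hl
      · exact hl
      · exact absurd (Subgroup.eq_top_of_card_eq H hl) hH
    haveI := hA
    have hsol : Group.IsSolvable (A.subgroupOf H) :=
      Group.isSolvable_of_isSolvable_injective (f := (Subgroup.subgroupOfEquivOfLe hAH).toMonoidHom) (Subgroup.subgroupOfEquivOfLe hAH).injective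
    have hHyp : Hyp (A.subgroupOf H) := by
      intro S hS hSsol a ha s hs
      haveI := hSsol
      have : Group.IsSolvable (S.map H.subtype) :=
        Group.isSolvable_of_surjective (H.subtype.subgroupMap_surjective S)
      exact Subtype.ext (h (S.map H.subtype) (fun x hx => ⟨⟨x, hAH hx⟩, hS hx, rfl⟩) this a ha s
        ⟨s, hs, rfl⟩)
    have hc := ih _ hlt H rfl (A.subgroupOf H) hsol hHyp
    intro x hx
    refine Subgroup.mem_centralizer_iff.mpr fun a ha => ?_
    exact (congrArg Subtype.val (Subgroup.mem_center_iff.mp (hc (show (⟨a, hAH ha⟩ : H) ∈ _ from ha)) ⟨x, hx⟩)).symm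
  -- `C` is self-normalizing
  have hNC : Subgroup.normalizer (C : Set G) = C := by
    refine le_antisymm ?_ Subgroup.le_normalizer
    refine hmax _ (hAC.trans Subgroup.le_normalizer) fun e => hA' ?_
    haveI hCn : C.Normal := Subgroup.normalizer_eq_top_iff.mp e
    haveI : ((Subgroup.center C).map C.subtype).Normal := inferInstance
    refine normal_solvable_commute h ((Subgroup.center C).map C.subtype) ?_ ?_
    · intro a ha
      refine ⟨⟨a, hAC ha⟩, Subgroup.mem_center_iff.mpr fun y => Subtype.ext ?_, rfl⟩
      exact (Subgroup.mem_centralizer_iff.mp y.2 a ha).symm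
    · haveI : Group.IsSolvable (Subgroup.center C) :=
        Group.isSolvable_of_comm fun x y => Subtype.ext (Subgroup.mem_center_iff.mp y.2 x)
      exact Group.isSolvable_of_surjective (C.subtype.subgroupMap_surjective (Subgroup.center C))
  have hF : IsFrobeniusComplement C := by
    refine ⟨fun e => hA0 (le_bot_iff.mp (e ▸ hAC)), hCtop, fun g hg => ?_⟩
    rw [Subgroup.eq_bot_iff_forall]
    intro x hx
    rw [Subgroup.mem_inf] at hx
    obtain ⟨hxC, hxg⟩ := hx
    by_contra hx1
    rw [Subgroup.mem_pointwise_smul_iff_inv_smul_mem, ← map_inv, MulAut.smul_def,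
      MulAut.conj_apply, inv_inv] at hxg
    have hAx : A ≤ Subgroup.centralizer ({x} : Set G) := fun a ha =>
      Subgroup.mem_centralizer_singleton_iff.mpr (Subgroup.mem_centralizer_iff.mp hxC a ha)
    have hxne : Subgroup.centralizer ({x} : Set G) ≠ ⊤ := by
      intro e
      have : x ∈ Subgroup.center G := Subgroup.centralizer_eq_top_iff_subset.mp e rfl
      rw [hZ, Subgroup.mem_bot] at this
      exact hx1 this
    have hgA : A.map (MulAut.conj g).toMonoidHom ≤ C := by
      rintro _ ⟨a, ha, rfl⟩
      refine hmax _ hAx hxne (Subgroup.mem_centralizer_singleton_iff.mpr ?_)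
      have := Subgroup.mem_centralizer_iff.mp hxg a ha
      simp only [MulEquiv.coe_toMonoidHom, MulAut.conj_apply]
      calc g * a * g⁻¹ * x = g * (a * (g⁻¹ * x * g)) * g⁻¹ := by group
        _ = g * ((g⁻¹ * x * g) * a) * g⁻¹ := by rw [this]
        _ = x * (g * a * g⁻¹) := by group
    have hAgC : A ≤ C.map (MulAut.conj g).toMonoidHom := by
      intro a ha
      refine ⟨g⁻¹ * a * g, Subgroup.mem_centralizer_iff.mpr fun b hb => ?_, ?_⟩
      · have := Subgroup.mem_centralizer_iff.mp (hgA ⟨b, hb, rfl⟩) a ha
        simp only [MulEquiv.coe_toMonoidHom, MulAut.conj_apply] at this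
        calc b * (g⁻¹ * a * g) = g⁻¹ * ((g * b * g⁻¹) * a) * g := by group
          _ = g⁻¹ * (a * (g * b * g⁻¹)) * g := by rw [this]
          _ = g⁻¹ * a * g * b := by group
      · simp only [MulEquiv.coe_toMonoidHom, MulAut.conj_apply]; group
    have hcard : Nat.card (C.map (MulAut.conj g).toMonoidHom : Subgroup G) = Nat.card C :=
      Subgroup.card_map_of_injective (MulEquiv.injective _)
    have hne : C.map (MulAut.conj g).toMonoidHom ≠ ⊤ := by
      intro e
      rw [e, Subgroup.card_top] at hcard
      exact hCtop (Subgroup.eq_top_of_card_eq C hcard.symm)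
    have heq : C.map (MulAut.conj g).toMonoidHom = C :=
      Subgroup.eq_of_le_of_card_ge (hmax _ hAgC hne) hcard.ge
    apply hg
    rw [← hNC, Subgroup.mem_normalizer_iff]
    intro y
    constructor
    · intro hy
      rw [← heq]
      exact ⟨y, hy, by simp⟩
    · intro hy
      rw [← heq] at hy
      obtain ⟨z, hz, hzy⟩ := hy
      have : z = y := by simpa using hzy
      exact this ▸ hz
  obtain ⟨N, -, hN, hcomp⟩ := CfsgLib.FrobCompl.exists_kernel_complement hF
  haveI := hN
  haveI := CfsgLib.FrobCompl.kernel_isNilpotent hF hN hcomp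
  haveI := hA
  have hNs : Group.IsSolvable N := inferInstance
  have hsol : Group.IsSolvable ((A.map (QuotientGroup.mk' N)).comap (QuotientGroup.mk' N) : Subgroup G) :=
    solvable_comap _ (by rw [QuotientGroup.ker_mk']; exact hNs) _
      (Group.isSolvable_of_surjective ((QuotientGroup.mk' N).subgroupMap_surjective A))
  have hNC' : N ≤ C := fun x hx => Subgroup.mem_centralizer_iff.mpr fun a ha =>
    h _ (Subgroup.map_le_iff_le_comap.mp le_rfl) hsol a ha x
      ⟨1, one_mem _, by rw [map_one]; exact ((QuotientGroup.eq_one_iff x).mpr hx).symm⟩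
  exact hCtop (top_le_iff.mp (hcomp.sup_eq_top ▸ sup_le hNC' le_rfl))

/-- Let A be a solvable subgroup of a finite group G such that A lies in the centre of every solvable subgroup of G containing A. Then A lies in the centre of G. -/
theorem result {G : Type*} [Group G] [Finite G]
    (A : Subgroup G) (hA : Group.IsSolvable A)
    (hc : ∀ S : Subgroup G, A ≤ S → Group.IsSolvable S → ∀ a ∈ A, ∀ s ∈ S, a * s = s * a) : A ≤ Subgroup.center G := by
  exact aux (Nat.card G) G rfl A hA hc

end Cfsg.Agent.S4097
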