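import Cfsg.Statements.S4104
import Cfsg.Agent.Lib.ManyPiClasses.Derived

set_option autoImplicit false
open Cfsg

namespace Cfsg.Agent.S4104

/-- Let G be a finite group, π a set of primes with least member p, m the π-part of the order of G and k the number of conjugacy classes of G consisting of π-elements (elements whose order is divisible only by primes in π). If k > m/p, then G has a nilpotent Hall π-subgroup (a nilpotent subgroup of order m) whose derived subgroup has order at most p. -/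
theorem result {G : Type*} [Group G] [Finite G]
    (π : Set ℕ) (hπ : ∀ q ∈ π, q.Prime) (p : ℕ) (hp : p ∈ π) (hmin : ∀ q ∈ π, p ≤ q)
    (m : ℕ) (hm : m ∣ Nat.card G) (hmπ : ∀ q : ℕ, q.Prime → q ∣ m → q ∈ π)
    (hm' : ∀ q ∈ π, ¬ q ∣ Nat.card G / m)
    (k : ℕ) (hk : k = Nat.card {C : ConjClasses G // ∀ q : ℕ, q.Prime → (∃ g : G, ConjClasses.mk g = C ∧ q ∣ orderOf g) → q ∈ π})
    (hmany : m < p * k) :
    ∃ H : Subgroup G, Nat.card H = m ∧ Group.IsNilpotent H ∧ Nat.card (commutator H) ≤ p := by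
  obtain ⟨σ, hσ, hsub, hmS, hkS⟩ :=
    CfsgLib.ManyPiClasses.exists_finset_data π hπ m hm hmπ hm'
  rw [hk, hkS, ← hmS] at hmany
  obtain ⟨K, hKc, hKn⟩ := CfsgLib.ManyPiClasses.exists_nilpotent_hall σ hσ p
    (fun r hr => hmin r (hsub (Finset.mem_coe.mpr hr))) hmany
  refine ⟨K, hKc.trans hmS, hKn, CfsgLib.ManyPiClasses.card_commutator_le (fun q hq hd => ?_) ?_⟩
  · exact hmin q (hsub (CfsgLib.ManyPiClasses.prime_of_dvd_mS hσ hq (hKc ▸ hd)))
  · rw [hKc]
    exact hmany.trans_le
      (Nat.mul_le_mul_left _ (CfsgLib.ManyPiClasses.kS_le_conjClasses hσ hKn hKc))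

end Cfsg.Agent.S4104
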