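import Cfsg.Statements.S4105
import Cfsg.Agent.Lib.ManyPiClasses.Derived

set_option autoImplicit false
open Cfsg

namespace Cfsg.Agent.S4105

/-- Let G be a finite group, π a set of primes with least member p, m the π-part of the order of G and k the number of conjugacy classes of G consisting of π-elements. If k > m·(p² + p − 1)/p³, then G has an abelian Hall π-subgroup (an abelian subgroup of order m). -/
theorem result {G : Type*} [Group G] [Finite G]
    (π : Set ℕ) (hπ : ∀ q ∈ π, q.Prime) (p : ℕ) (hp : p ∈ π) (hmin : ∀ q ∈ π, p ≤ q)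
    (m : ℕ) (hm : m ∣ Nat.card G) (hmπ : ∀ q : ℕ, q.Prime → q ∣ m → q ∈ π)
    (hm' : ∀ q ∈ π, ¬ q ∣ Nat.card G / m)
    (k : ℕ) (hk : k = Nat.card {C : ConjClasses G // ∀ q : ℕ, q.Prime → (∃ g : G, ConjClasses.mk g = C ∧ q ∣ orderOf g) → q ∈ π})
    (hmany : m * (p ^ 2 + p - 1) < p ^ 3 * k) :
    ∃ H : Subgroup G, Nat.card H = m ∧ IsMulCommutative H := by
  obtain ⟨σ, hσ, hsub, hmS, hkS⟩ :=
    CfsgLib.ManyPiClasses.exists_finset_data π hπ m hm hmπ hm'
  rw [hk, hkS, ← hmS] at hmany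
  have hp2 := (hπ p hp).two_le
  have hmany' : CfsgLib.ManyPiClasses.mS σ G < p * CfsgLib.ManyPiClasses.kS σ G := by
    have h1 : p ^ 2 ≤ p ^ 2 + p - 1 := by omega
    have h2 := (Nat.mul_le_mul_left (CfsgLib.ManyPiClasses.mS σ G) h1).trans_lt hmany
    exact Nat.lt_of_mul_lt_mul_left (a := p ^ 2) (by rw [mul_comm]; exact h2.trans_le (le_of_eq (by ring)))
  obtain ⟨K, hKc, hKn⟩ := CfsgLib.ManyPiClasses.exists_nilpotent_hall σ hσ p
    (fun r hr => hmin r (hsub (Finset.mem_coe.mpr hr))) hmany'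
  refine ⟨K, hKc.trans hmS, ⟨⟨CfsgLib.ManyPiClasses.commute_of_many_classes (p := p)
    (fun q hq hd => ?_) ?_⟩⟩⟩
  · exact hmin q (hsub (CfsgLib.ManyPiClasses.prime_of_dvd_mS hσ hq (hKc ▸ hd)))
  · rw [hKc]
    exact hmany.trans_le
      (Nat.mul_le_mul_left _ (CfsgLib.ManyPiClasses.kS_le_conjClasses hσ hKn hKc))

end Cfsg.Agent.S4105
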