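import Cfsg.Statements.S4106

set_option autoImplicit false
open Cfsg

namespace Cfsg.Agent.S4106

universe u

theorem conj_orderOf {G : Type*} [Group G] {g h : G} (e : ConjClasses.mk g = ConjClasses.mk h) :
    orderOf g = orderOf h := by
  obtain ⟨c, hc⟩ := isConj_iff.1 (ConjClasses.mk_eq_mk_iff_isConj.1 e)
  rw [← hc]
  exact ((MulAut.conj c).orderOf_eq g).symm

theorem classes_le (S : Finset ℕ) (hS : ∀ q ∈ S, q.Prime) :
    ∀ (G : Type u) [Group G] [Finite G],
      Nat.card {C : ConjClasses G // ∀ q : ℕ, q.Prime →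
        (∃ g : G, ConjClasses.mk g = C ∧ q ∣ orderOf g) → q ∈ S} ≤
      ∏ q ∈ S, q ^ (Nat.card G).factorization q := by
  induction S using Finset.induction_on with
  | empty =>
    intro G _ _
    rw [Finset.prod_empty, Finite.card_le_one_iff_subsingleton]
    refine ⟨fun ⟨C, hC⟩ ⟨D, hD⟩ => Subtype.ext ?_⟩
    obtain ⟨g, rfl⟩ := ConjClasses.mk_surjective C
    obtain ⟨h, rfl⟩ := ConjClasses.mk_surjective D
    have h1 : ∀ x : G, (∀ q : ℕ, q.Prime → q ∣ orderOf x → False) → x = 1 := fun x hx => by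
      by_contra hne
      obtain ⟨q, hq, hd⟩ := Nat.exists_prime_and_dvd (fun h => hne (orderOf_eq_one_iff.1 h))
      exact hx q hq hd
    exact congrArg ConjClasses.mk ((h1 g fun q hq hd => Finset.notMem_empty q
      (hC q hq ⟨g, rfl, hd⟩)).trans
      (h1 h fun q hq hd => Finset.notMem_empty q (hD q hq ⟨h, rfl, hd⟩)).symm)
  | insert p S hpS ih =>
    intro G _ _
    classical
    haveI hpf : Fact p.Prime := ⟨hS p (Finset.mem_insert_self p S)⟩
    specialize ih fun q hq => hS q (Finset.mem_insert_of_mem hq)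
    obtain ⟨P⟩ : Nonempty (Sylow p G) := inferInstance
    haveI : Fintype (P : Subgroup G) := Fintype.ofFinite _
    rw [Finset.prod_insert hpS]
    have hrep : ∀ C : {C : ConjClasses G // ∀ q : ℕ, q.Prime →
        (∃ g : G, ConjClasses.mk g = C ∧ q ∣ orderOf g) → q ∈ insert p S},
        ∃ x : (P : Subgroup G), ∃ u : Subgroup.centralizer ({(x : G)} : Set G),
          (∀ q : ℕ, q.Prime → q ∣ orderOf (u : G) → q ∈ S) ∧
            ConjClasses.mk ((x : G) * u) = C.1 := by
      rintro ⟨C, hC⟩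
      obtain ⟨g, rfl⟩ := ConjClasses.mk_surjective C
      obtain ⟨a, b, hb, hab⟩ := Nat.exists_eq_pow_mul_and_not_dvd (orderOf_pos g).ne' p hpf.out.ne_one
      have hcop : Nat.Coprime (p ^ a) b := ((hpf.out.coprime_iff_not_dvd).2 hb).pow_left a
      have hbz : ((p ^ a : ℕ) : ℤ) * Nat.gcdA (p ^ a) b + (b : ℤ) * Nat.gcdB (p ^ a) b = 1 := by
        rw [← Nat.gcd_eq_gcd_ab, hcop.gcd_eq_one]; rfl
      set s : G := g ^ ((b : ℤ) * Nat.gcdB (p ^ a) b) with hs
      set t : G := g ^ (((p ^ a : ℕ) : ℤ) * Nat.gcdA (p ^ a) b) with ht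
      have hst : s * t = g := by rw [hs, ht, ← zpow_add, add_comm, hbz, zpow_one]
      have hg1 : g ^ ((p ^ a : ℕ) * b : ℤ) = 1 := by
        rw [← Nat.cast_mul, ← hab, zpow_natCast, pow_orderOf_eq_one]
      have hsp : s ^ p ^ a = 1 := by
        rw [hs, ← zpow_natCast, ← zpow_mul, show (b : ℤ) * Nat.gcdB (p ^ a) b * ((p ^ a : ℕ) : ℤ) =
          ((p ^ a : ℕ) * b : ℤ) * Nat.gcdB (p ^ a) b by ring, zpow_mul, hg1, one_zpow]
      have htb : t ^ b = 1 := by
        rw [ht, ← zpow_natCast, ← zpow_mul, show ((p ^ a : ℕ) : ℤ) * Nat.gcdA (p ^ a) b * (b : ℤ) =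
          ((p ^ a : ℕ) * b : ℤ) * Nat.gcdA (p ^ a) b by ring, zpow_mul, hg1, one_zpow]
      have hzp : IsPGroup p (Subgroup.zpowers s) := by
        obtain ⟨j, -, hj⟩ := (Nat.dvd_prime_pow hpf.out).1 (orderOf_dvd_of_pow_eq_one hsp)
        exact IsPGroup.of_card (n := j) (by rw [Nat.card_zpowers, hj])
      obtain ⟨Q, hQ⟩ := hzp.exists_le_sylow
      obtain ⟨c, hc⟩ := MulAction.exists_smul_eq G Q P
      have hcomm : Commute s t := (Commute.refl g).zpow_zpow _ _
      have hcx : c * s * c⁻¹ ∈ (P : Subgroup G) := by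
        rw [← hc]
        exact ⟨s, hQ (Subgroup.mem_zpowers s), rfl⟩
      have hu : c * t * c⁻¹ ∈ Subgroup.centralizer ({c * s * c⁻¹} : Set G) :=
        Subgroup.mem_centralizer_singleton_iff.2 (by
          have h := (hcomm.map (MulAut.conj c).toMonoidHom).symm.eq
          exact h)
      refine ⟨⟨_, hcx⟩, ⟨_, hu⟩, fun q hq hd => ?_, ?_⟩
      · have hd' : q ∣ orderOf t := by
          rwa [show orderOf (c * t * c⁻¹) = orderOf t from (MulAut.conj c).orderOf_eq t] at hd
        have hqb : q ∣ b := hd'.trans (orderOf_dvd_of_pow_eq_one htb)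
        rcases Finset.mem_insert.1 (hC q hq ⟨g, rfl, hab ▸ hqb.mul_left _⟩) with rfl | h
        · exact absurd hqb hb
        · exact h
      · rw [ConjClasses.mk_eq_mk_iff_isConj, isConj_iff]
        exact ⟨c⁻¹, by rw [← hst]; group⟩
    choose fx fu hfu hmk using hrep
    let Φ : {C : ConjClasses G // ∀ q : ℕ, q.Prime →
        (∃ g : G, ConjClasses.mk g = C ∧ q ∣ orderOf g) → q ∈ insert p S} →
        Σ x : (P : Subgroup G), {D : ConjClasses (Subgroup.centralizer ({(x : G)} : Set G)) //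
          ∀ q : ℕ, q.Prime → (∃ g, ConjClasses.mk g = D ∧ q ∣ orderOf g) → q ∈ S} :=
      fun C => ⟨fx C, ConjClasses.mk (fu C), fun q hq ⟨g, hg, hd⟩ => hfu C q hq (by
        rw [conj_orderOf hg] at hd
        rwa [Subgroup.orderOf_coe])⟩
    have hinj : Function.Injective Φ := by
      have key : ∀ (x x' : (P : Subgroup G)) (u : Subgroup.centralizer ({(x : G)} : Set G))
          (u' : Subgroup.centralizer ({(x' : G)} : Set G)),
          x = x' → HEq (ConjClasses.mk u) (ConjClasses.mk u') →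
          ConjClasses.mk ((x : G) * u) = ConjClasses.mk ((x' : G) * u') := by
        rintro x _ u u' rfl he
        obtain ⟨c, hc⟩ := isConj_iff.1 (ConjClasses.mk_eq_mk_iff_isConj.1 (eq_of_heq he))
        rw [ConjClasses.mk_eq_mk_iff_isConj, isConj_iff]
        refine ⟨(c : G), ?_⟩
        have hcx : (c : G) * (x : G) = (x : G) * (c : G) :=
          Subgroup.mem_centralizer_singleton_iff.1 c.2
        rw [← hc, Subgroup.coe_mul, Subgroup.coe_mul, Subgroup.coe_inv]
        calc (c : G) * ((x : G) * u) * (c : G)⁻¹ = ((c : G) * x) * u * (c : G)⁻¹ := by group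
          _ = x * ((c : G) * u * (c : G)⁻¹) := by rw [hcx]; group
      intro C C' h
      obtain ⟨h1, h2⟩ := Sigma.mk.inj h
      refine Subtype.ext ((hmk C).symm.trans ((key _ _ _ _ h1 ?_).trans (hmk C')))
      exact (Subtype.heq_iff_coe_heq (by rw [h1]) (by rw [h1])).1 h2
    refine (Nat.card_le_card_of_injective Φ hinj).trans ?_
    rw [Nat.card_sigma]
    refine (Finset.sum_le_card_nsmul _ _ (∏ q ∈ S, q ^ (Nat.card G).factorization q) fun x _ => ?_).trans
      (le_of_eq ?_)
    · refine (ih _).trans (Finset.prod_le_prod' fun q hq => ?_)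
      refine Nat.pow_le_pow_right (hS q (Finset.mem_insert_of_mem hq)).pos ?_
      exact (Nat.factorization_le_iff_dvd Nat.card_pos.ne' Nat.card_pos.ne').2
        (Subgroup.card_subgroup_dvd_card _) q
    · rw [smul_eq_mul, Finset.card_univ, ← Nat.card_eq_fintype_card, P.card_eq_multiplicity]

/-- Let G be a finite group, π a set of primes and m the π-part of the order of G. Then the number of conjugacy classes of G consisting of π-elements (elements whose order is divisible only by primes in π) is at most m. -/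
theorem result {G : Type*} [Group G] [Finite G]
    (π : Set ℕ) (hπ : ∀ q ∈ π, q.Prime)
    (m : ℕ) (hm : m ∣ Nat.card G) (hmπ : ∀ q : ℕ, q.Prime → q ∣ m → q ∈ π)
    (hm' : ∀ q ∈ π, ¬ q ∣ Nat.card G / m) :
    Nat.card {C : ConjClasses G // ∀ q : ℕ, q.Prime → (∃ g : G, ConjClasses.mk g = C ∧ q ∣ orderOf g) → q ∈ π} ≤ m := by
  classical
  have hm0 : m ≠ 0 := fun h => by simp [h, Nat.card_pos.ne'] at hm
  have h := classes_le m.primeFactors (fun q hq => Nat.prime_of_mem_primeFactors hq) G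
  refine le_trans ?_ (h.trans (le_of_eq ?_))
  · refine Nat.card_le_card_of_injective (fun C => ⟨C.1, fun q hq hC => ?_⟩) fun C D h =>
      Subtype.ext (congrArg Subtype.val h :)
    obtain ⟨g, hg, hd⟩ := hC
    have hqπ := C.2 q hq ⟨g, hg, hd⟩
    refine Nat.mem_primeFactors.2 ⟨hq, ?_, hm0⟩
    have h1 : q ∣ m * (Nat.card G / m) := by
      rw [Nat.mul_div_cancel' hm]; exact hd.trans (orderOf_dvd_natCard g)
    exact (hq.dvd_mul.1 h1).resolve_right (hm' q hqπ)
  · have h1 : ∀ q ∈ m.primeFactors, q ^ (Nat.card G).factorization q = q ^ m.factorization q := by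
      intro q hq
      obtain ⟨hqp, hqm, -⟩ := Nat.mem_primeFactors.1 hq
      have h2 := hm' q (hmπ q hqp hqm)
      rw [← Nat.mul_div_cancel' hm, Nat.factorization_mul hm0
        (Nat.div_pos (Nat.le_of_dvd Nat.card_pos hm) (Nat.pos_of_ne_zero hm0)).ne',
        Finsupp.add_apply, Nat.factorization_eq_zero_of_not_dvd h2, add_zero]
    rw [Finset.prod_congr rfl h1]
    exact Nat.prod_factorization_pow_eq_self hm0
end Cfsg.Agent.S4106
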