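import Cfsg.Statements.S4107
import Cfsg.Agent.Lib.Fitting.Basic
import Cfsg.Agent.Lib.Hall.Carter

set_option autoImplicit false
open Cfsg

namespace Cfsg.Agent.S4107

open scoped commutatorElement

variable {G : Type*} [Group G] [Finite G]

theorem exists_primePow_not_mem {H N : Subgroup G} (h : ¬ H ≤ N) :
    ∃ x ∈ H, x ∉ N ∧ ∃ p, p.Prime ∧ ∃ k, orderOf x = p ^ k := by
  classical
  by_contra hno
  push Not at hno
  apply h
  suffices Nat.card H ∣ Nat.card ↥(H ⊓ N) from inf_eq_left.mp
    (Subgroup.eq_of_le_of_card_ge inf_le_left (Nat.le_of_dvd Nat.card_pos this))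
  rw [← Nat.factorization_le_iff_dvd Nat.card_pos.ne' Nat.card_pos.ne']
  intro r
  by_cases hr : r.Prime
  swap
  · simp [Nat.factorization_eq_zero_of_not_prime _ hr]
  haveI := Fact.mk hr
  let R : Sylow r H := default
  have h2 : r ^ (Nat.card H).factorization r ∣ Nat.card ↥(H ⊓ N) := by
    rw [← R.card_eq_multiplicity, ← Subgroup.card_map_of_injective H.subtype_injective]
    refine Subgroup.card_dvd_of_le ?_
    rintro _ ⟨z, hz, rfl⟩
    refine Subgroup.mem_inf.mpr ⟨z.2, ?_⟩
    by_contra hzN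
    obtain ⟨k, hk⟩ := IsPGroup.iff_orderOf.mp R.2 ⟨z, hz⟩
    rw [Subgroup.orderOf_mk, ← Subgroup.orderOf_coe] at hk
    exact hno z z.2 hzN r hr k hk
  exact (hr.pow_dvd_iff_le_factorization Nat.card_pos.ne').mp h2

/-- Let G be a finite group and N a proper non-trivial normal subgroup such that for every x outside N all elements of the coset xN have the same order as x. Then N ≤ F(G) or F(G) ≤ N, where F(G) is the Fitting subgroup; and if N is properly contained in F(G) then F(G) has prime-power order. -/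
theorem result {G : Type*} [Group G] [Finite G] (N : Subgroup G) [N.Normal] (hN1 : N ≠ ⊥) (hN2 : N ≠ ⊤)
    (heq : ∀ x : G, x ∉ N → ∀ n ∈ N, orderOf (x * n) = orderOf x) :
    (N ≤ Cfsg.fittingSubgroup G ∨ Cfsg.fittingSubgroup G ≤ N) ∧
    (N < Cfsg.fittingSubgroup G → IsPrimePow (Nat.card (Cfsg.fittingSubgroup G))) := by
  haveI := CfsgLib.Fitting.fittingSubgroup_normal (G := G)
  haveI := CfsgLib.Fitting.fittingSubgroup_isNilpotent (G := G)
  set F := Cfsg.fittingSubgroup G with hF
  -- an element of `F` outside `N` of `p`-power order forces `N` to be a `p`-group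
  have key : ∀ x ∈ F, x ∉ N → ∀ p, p.Prime → ∀ k, orderOf x = p ^ k → IsPGroup p N := by
    intro x hxF hxN p hp k hk
    haveI := Fact.mk hp
    set R := N ⊓ F
    have hR : IsPGroup p R := by
      rw [IsPGroup.iff_orderOf]
      intro r
      obtain ⟨a, ha, hb⟩ : ∃ a, ∃ m : ℕ, orderOf (r : G) = p ^ a * m ∧ ¬ p ∣ m := by
        obtain ⟨a, m, hm, he⟩ := Nat.exists_eq_pow_mul_and_not_dvd (orderOf_pos (r : G)).ne' p hp.ne_one
        exact ⟨a, m, he, hm⟩
      obtain ⟨hae, hnd⟩ := hb
      set s := (r : G) ^ p ^ a with hs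
      obtain ⟨hrN, hrF⟩ := Subgroup.mem_inf.mp r.2
      have hso : orderOf s = ha := by
        rw [hs, orderOf_pow_of_dvd (pow_ne_zero _ hp.ne_zero) (hae ▸ dvd_mul_right _ _), hae,
          Nat.mul_div_cancel_left _ (pow_pos hp.pos a)]
      have hco : Nat.Coprime (orderOf x) (orderOf s) := by
        rw [hk, hso]; exact Nat.Coprime.pow_left k (hp.coprime_iff_not_dvd.mpr hnd)
      have hcomm : Commute x s := by
        have h1 : Commute (⟨x, hxF⟩ : F) ⟨s, pow_mem hrF _⟩ := by
          exact CfsgLib.Hall.commute_of_coprime_orderOf (G := F) (p := p) (j := k)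
            (by rw [Subgroup.orderOf_mk, hk]) (by
              rw [Subgroup.orderOf_mk, hso]
              exact (hp.coprime_iff_not_dvd.mpr hnd).symm)
        exact congrArg Subtype.val (h1 :)
      have h2 := heq x hxN s (pow_mem hrN _)
      rw [hcomm.orderOf_mul_eq_mul_orderOf_of_coprime hco, hso] at h2
      have h3 : ha = 1 := (Nat.mul_eq_left (orderOf_pos x).ne').mp h2
      exact ⟨a, by rw [← Subgroup.orderOf_coe, hae, h3, mul_one]⟩
    intro n
    let π := QuotientGroup.mk' R
    have hcomm : Commute (π x) (π n) := by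
      rw [← commutatorElement_eq_one_iff_commute, ← map_commutatorElement]
      refine (QuotientGroup.eq_one_iff _).mpr (Subgroup.mem_inf.mpr ⟨?_, ?_⟩)
      · rw [commutatorElement_def]
        exact mul_mem (Subgroup.Normal.conj_mem inferInstance _ n.2 x) (inv_mem n.2)
      · rw [commutatorElement_def, mul_assoc, mul_assoc, ← mul_assoc (n : G)]
        exact mul_mem hxF (Subgroup.Normal.conj_mem inferInstance _ (inv_mem hxF) (n : G))
    have h1 : π (n : G) ^ p ^ k = 1 := by
      have h2 : (π x * π n) ^ p ^ k = 1 := by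
        rw [← map_mul, ← map_pow, ← hk, ← heq x hxN n n.2, pow_orderOf_eq_one, map_one]
      rwa [hcomm.mul_pow, ← map_pow, ← hk, pow_orderOf_eq_one, map_one, one_mul, hk] at h2
    rw [← map_pow] at h1
    obtain ⟨j, hj⟩ := hR ⟨_, (QuotientGroup.eq_one_iff _).mp h1⟩
    refine ⟨k + j, Subtype.ext ?_⟩
    rw [pow_add, pow_mul, SubgroupClass.coe_pow, SubgroupClass.coe_pow]
    exact congrArg Subtype.val hj
  by_cases hFN : F ≤ N
  · exact ⟨Or.inr hFN, fun hlt => absurd hFN hlt.not_ge⟩
  obtain ⟨x, hxF, hxN, p, hp, k, hk⟩ := exists_primePow_not_mem hFN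
  haveI := Fact.mk hp
  have hNp := key x hxF hxN p hp k hk
  have hNF : N ≤ F := CfsgLib.Fitting.le_fittingSubgroup inferInstance hNp.isNilpotent
  refine ⟨Or.inl hNF, fun _ => ?_⟩
  have hFp : IsPGroup p F := by
    by_contra hnp
    obtain ⟨q, hq, hdq, hqp⟩ : ∃ q, q.Prime ∧ q ∣ Nat.card F ∧ q ≠ p := by
      by_contra hne
      push Not at hne
      exact hnp (IsPGroup.of_card (n := (Nat.card F).primeFactorsList.length)
        (Nat.eq_prime_pow_of_unique_prime_dvd Nat.card_pos.ne' fun {d} hd hdd => hne d hd hdd))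
    haveI := Fact.mk hq
    obtain ⟨z, hz⟩ := exists_prime_orderOf_dvd_card' (G := F) q hdq
    rw [← Subgroup.orderOf_coe] at hz
    have hzN : (z : G) ∉ N := fun hzN => by
      obtain ⟨j, hj⟩ := IsPGroup.iff_orderOf.mp hNp ⟨_, hzN⟩
      rw [Subgroup.orderOf_mk, hz] at hj
      exact hqp ((Nat.prime_dvd_prime_iff_eq hq hp).mp (hq.dvd_of_dvd_pow (dvd_of_eq hj)))
    have hNq := key _ z.2 hzN q hq 1 (by rw [hz, pow_one])
    haveI : Nontrivial N := (Subgroup.nontrivial_iff_ne_bot N).mpr hN1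
    obtain ⟨j, hj⟩ := IsPGroup.iff_card.mp hNp
    obtain ⟨i, hi⟩ := IsPGroup.iff_card.mp hNq
    have h1 := Finite.one_lt_card (α := N)
    have : Nat.card N = 1 := Nat.eq_one_of_dvd_coprimes
      (((Nat.coprime_primes hp hq).mpr (Ne.symm hqp)).pow j i) (dvd_of_eq hj) (dvd_of_eq hi)
    omega
  obtain ⟨j, hj⟩ := IsPGroup.iff_card.mp hFp
  refine ⟨p, j, hp.prime, Nat.pos_of_ne_zero fun h0 => ?_, hj.symm⟩
  rw [h0, pow_zero] at hj
  exact hFN ((Subgroup.eq_bot_of_card_eq F hj) ▸ bot_le)
end Cfsg.Agent.S4107
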