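import Cfsg.Statements.S4108
import Mathlib
import Cfsg.Agent.Lib.FrobCompl.Fpf

set_option autoImplicit false
set_option linter.style.haveILetI false
open Cfsg

namespace Cfsg.Agent.S4108

/-- Let G be a finite group, p a prime and N a proper non-trivial normal p-subgroup such that for every x outside N all elements of the coset xN have the same order as x. Then every non-trivial subgroup H of G of order prime to p acts fixed-point-freely on N: NH is a Frobenius group with complement H and kernel N. -/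
theorem result {G : Type*} [Group G] [Finite G] (N : Subgroup G) [N.Normal] (hN1 : N ≠ ⊥) (hN2 : N ≠ ⊤)
    (heq : ∀ x : G, x ∉ N → ∀ n ∈ N, orderOf (x * n) = orderOf x)
    (p : ℕ) [Fact p.Prime] (hNp : IsPGroup p N) :
    ∀ H : Subgroup G, H ≠ ⊥ → (Nat.card H).Coprime p →
      Cfsg.IsFrobeniusComplement (H.subgroupOf (N ⊔ H)) ∧ Cfsg.frobeniusKernel (H.subgroupOf (N ⊔ H)) = (N.subgroupOf (N ⊔ H) : Set ↥(N ⊔ H)) := by
  intro H hH hcop
  set M := N ⊔ H
  have hcopN : (Nat.card N).Coprime (Nat.card H) := by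
    obtain ⟨a, ha⟩ := IsPGroup.iff_card.mp hNp
    rw [ha]; exact Nat.Coprime.pow_left a hcop.symm
  haveI : (N.subgroupOf M).Normal := inferInstance
  have hc : Subgroup.IsComplement' (N.subgroupOf M) (H.subgroupOf M) := by
    refine Subgroup.isComplement'_of_disjoint_and_mul_eq_univ ?_ ?_
    · rw [disjoint_iff, eq_bot_iff]
      intro x hx
      have hx' : (x : G) ∈ N ⊓ H := ⟨hx.1, hx.2⟩
      rw [(Subgroup.inf_eq_bot_of_coprime hcopN), Subgroup.mem_bot] at hx'
      exact Subtype.ext hx'
    · refine Set.eq_univ_of_forall fun x => ?_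
      have hx : (x : G) ∈ (↑(N ⊔ H) : Set G) := x.2
      rw [Subgroup.normal_mul] at hx
      obtain ⟨n, hn, h, hh, e⟩ := Set.mem_mul.mp hx
      exact ⟨⟨n, Subgroup.mem_sup_left hn⟩, hn, ⟨h, Subgroup.mem_sup_right hh⟩, hh, Subtype.ext e⟩
  have hF : Cfsg.IsFrobeniusComplement (H.subgroupOf M) := by
    refine CfsgLib.FrobCompl.isFrobeniusComplement_of_fpf hc ?_ ?_ ?_
    · rw [Ne, Subgroup.subgroupOf_eq_bot, disjoint_iff, inf_eq_left.mpr le_sup_left]
      exact hN1
    · rw [Ne, Subgroup.subgroupOf_eq_bot, disjoint_iff, inf_eq_left.mpr le_sup_right]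
      exact hH
    · intro h hh h1 k hk hcomm
      have h1' : (h : G) ≠ 1 := fun e => h1 (Subtype.ext e)
      have hcp : (orderOf (h : G)).Coprime (orderOf (k : G)) :=
        (hcopN.coprime_dvd_left (Subgroup.orderOf_dvd_natCard N hk)).coprime_dvd_right
          (Subgroup.orderOf_dvd_natCard H hh) |>.symm
      have hhN : (h : G) ∉ N := fun e => h1' (by
        have : (h : G) ∈ N ⊓ H := ⟨e, hh⟩
        rwa [(Subgroup.inf_eq_bot_of_coprime hcopN), Subgroup.mem_bot] at this)
      have hcm : Commute (h : G) (k : G) := (congrArg Subtype.val hcomm).symm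
      have : orderOf ((h : G) * (k : G)) = orderOf (h : G) := heq _ hhN (k : G) hk
      rw [hcm.orderOf_mul_eq_mul_orderOf_of_coprime hcp] at this
      have hk1 : orderOf (k : G) = 1 :=
        Nat.eq_one_of_mul_eq_one_left (m := 1) (by
          have := Nat.eq_of_mul_eq_mul_left (orderOf_pos (h : G)) (this.trans (mul_one _).symm)
          omega)
      exact Subtype.ext (orderOf_eq_one_iff.mp hk1)
  exact ⟨hF, CfsgLib.FrobCompl.frobeniusKernel_eq_of_complement hF hc⟩

end Cfsg.Agent.S4108
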