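import Cfsg.Statements.S4112
import Mathlib
-- import your own Cfsg.Agent.* helpers here

set_option autoImplicit false
open Cfsg

namespace Cfsg.Agent.S4112

/-- Let G be a finite group and M ≤ N non-trivial proper normal subgroups such that for every g outside N the conjugacy class of g is a union of cosets of M (equivalently gm is conjugate to g for every m ∈ M). Then (1) and (2) below are equivalent, and they imply (3): (1) every g outside N acts fixed-point-freely on M, that is C_G(x) ≤ N for every x ∈ M, x ≠ 1; (2) the index of N in G is coprime to the order of M; (3) there is a subgroup H of G with HN = G and H ∩ M = 1. -/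
theorem result {G : Type*} [Group G] [Finite G] (N M : Subgroup G) [N.Normal] [M.Normal] (hMN : M ≤ N) (hM1 : M ≠ ⊥) (hN2 : N ≠ ⊤)
    (hcam : ∀ g : G, g ∉ N → ∀ m ∈ M, ∃ x : G, x * g * x⁻¹ = g * m) :
    ((∀ x ∈ M, x ≠ 1 → Subgroup.centralizer ({x} : Set G) ≤ N) ↔ N.index.Coprime (Nat.card M)) ∧
    ((∀ x ∈ M, x ≠ 1 → Subgroup.centralizer ({x} : Set G) ≤ N) → ∃ H : Subgroup G, H ⊔ N = ⊤ ∧ H ⊓ M = ⊥) := by
  classical
  have h12 : (∀ x ∈ M, x ≠ 1 → Subgroup.centralizer ({x} : Set G) ≤ N) → N.index.Coprime (Nat.card M) := by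
    intro h
    refine Nat.coprime_of_dvd fun p hp hpi hpM => ?_
    have : Fact p.Prime := ⟨hp⟩
    obtain ⟨P⟩ : Nonempty (Sylow p G) := inferInstance
    have hPN : ¬ (P : Subgroup G) ≤ N := fun hle => P.not_dvd_index (hpi.trans (Subgroup.index_dvd_of_le hle))
    have hPM : (M.subgroupOf (P : Subgroup G)) ≠ ⊥ := by
      intro hbot
      obtain ⟨x, hx⟩ := exists_prime_orderOf_dvd_card' (G := M) p hpM
      obtain ⟨Q, hQ⟩ := (IsPGroup.of_card (p := p) (n := 1) (by rw [Nat.card_zpowers, Subgroup.orderOf_coe, hx, pow_one]) :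
        IsPGroup p (Subgroup.zpowers (x : G))).exists_le_sylow
      obtain ⟨c, hc⟩ := MulAction.exists_smul_eq G Q P
      have hxP : c * x * c⁻¹ ∈ (P : Subgroup G) := by
        rw [← hc]; exact ⟨x, hQ (Subgroup.mem_zpowers _), by simp [MulAut.conj]⟩
      have h1 : (⟨_, hxP⟩ : (P : Subgroup G)) ∈ M.subgroupOf P := ‹M.Normal›.conj_mem _ x.2 c
      rw [hbot, Subgroup.mem_bot] at h1
      have h2 : (x : G) = 1 := by simpa using congrArg Subtype.val h1
      rw [show x = 1 from Subtype.ext h2, orderOf_one] at hx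
      exact hp.ne_one hx.symm
    have hn : (M.subgroupOf (P : Subgroup G)).Normal := Subgroup.Normal.subgroupOf inferInstance _
    have := Subgroup.nontrivial_iff_ne_bot _ |>.mpr hPM
    obtain ⟨z, hzM, hzc, hz1⟩ : ∃ z : (P : Subgroup G), (z : G) ∈ M ∧ z ∈ Subgroup.center (P : Subgroup G) ∧ z ≠ 1 := by
      let : MulAction (ConjAct (P : Subgroup G)) (M.subgroupOf (P : Subgroup G)) := inferInstance
      have hPc : IsPGroup p (ConjAct (P : Subgroup G)) := P.2.of_equiv ConjAct.toConjAct
      have hdvd : p ∣ Nat.card (M.subgroupOf (P : Subgroup G)) := by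
        obtain ⟨k, hk⟩ := IsPGroup.iff_card.mp (P.2.to_subgroup (M.subgroupOf (P : Subgroup G)))
        rcases k with _ | k
        · exact absurd (Subgroup.eq_bot_of_card_eq _ hk) hPM
        · exact (dvd_pow_self p k.succ_ne_zero).trans hk.symm.dvd
      obtain ⟨z, hz, hz1⟩ := hPc.exists_fixed_point_of_prime_dvd_card_of_fixed_point _ hdvd
        (a := (1 : M.subgroupOf (P : Subgroup G))) (fun g => smul_one g)
      refine ⟨z.1, z.2, Subgroup.mem_center_iff.mpr fun g => ?_, fun e => hz1 (Subtype.ext e.symm)⟩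
      have h := congrArg Subtype.val (hz (ConjAct.toConjAct g))
      change g * z.1 * g⁻¹ = z.1 at h
      calc g * z.1 = (g * z.1 * g⁻¹) * g := by group
        _ = z.1 * g := by rw [h]
    refine hPN (le_trans (b := Subgroup.centralizer {(z : G)}) (fun g hg => ?_)
      (h z hzM (fun e => hz1 (Subtype.ext e))))
    exact Subgroup.mem_centralizer_singleton_iff.mpr (congrArg Subtype.val (Subgroup.mem_center_iff.mp hzc ⟨g, hg⟩))
  refine ⟨⟨h12, fun hcop x hx hx1 g hg => ?_⟩, fun h => ?_⟩
  · by_contra hgN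
    have hgx : Commute g x := Subgroup.mem_centralizer_singleton_iff.mp hg
    have ho : orderOf (QuotientGroup.mk g : G ⧸ N) ≠ 1 := fun e =>
      hgN ((QuotientGroup.eq_one_iff g).mp (orderOf_eq_one_iff.mp e))
    obtain ⟨q, hq, hqo⟩ := Nat.exists_prime_and_dvd ho
    obtain ⟨a, b, hb, hab⟩ := Nat.exists_eq_pow_mul_and_not_dvd (orderOf_pos g).ne' q hq.ne_one
    let k := g ^ b
    have hk : k ^ (q ^ a) = 1 := by rw [← pow_mul, mul_comm, ← hab, pow_orderOf_eq_one]
    have hkN : k ∉ N := fun hkN => hb (hqo.trans (orderOf_dvd_of_pow_eq_one (by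
      rw [← QuotientGroup.mk_pow]; exact (QuotientGroup.eq_one_iff _).mpr hkN)))
    have hqM : ¬ q ∣ orderOf x := fun h => hq.not_dvd_one (hcop.gcd_eq_one ▸ Nat.dvd_gcd
      (hqo.trans (Subgroup.index_eq_card N ▸ orderOf_dvd_natCard _)) (h.trans (Subgroup.orderOf_dvd_natCard M hx)))
    obtain ⟨c, hc⟩ := hcam k hkN x hx
    have hord : orderOf (k * x) = orderOf k := by
      rw [← hc, show c * k * c⁻¹ = MulAut.conj c k from (MulAut.conj_apply c k).symm]
      exact MulEquiv.orderOf_eq _ _
    have hco : (orderOf k).Coprime (orderOf x) :=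
      Nat.Coprime.coprime_dvd_left (orderOf_dvd_of_pow_eq_one hk) (Nat.Coprime.pow_left _ (hq.coprime_iff_not_dvd.mpr hqM))
    rw [(hgx.pow_left b).orderOf_mul_eq_mul_orderOf_of_coprime hco] at hord
    have := Nat.eq_of_mul_eq_mul_left (orderOf_pos k) (hord.trans (mul_one _).symm)
    exact hx1 (orderOf_eq_one_iff.mp this)
  · have hcop := h12 h
    obtain ⟨H, hH, hmin⟩ := Set.Finite.exists_minimal (s := {H : Subgroup G | H ⊔ N = ⊤}) (Set.toFinite _) ⟨⊤, by simp⟩
    refine ⟨H, hH, ?_⟩
    by_contra hne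
    let Φ := frattini H
    have hNΦ : N.subgroupOf H ≤ Φ := by
      refine le_iInf₂ fun K hK => ?_
      by_contra hnot
      have hsup : K ⊔ N.subgroupOf H = ⊤ := hK.2 _ (lt_of_le_of_ne le_sup_left fun e => hnot (e ▸ le_sup_right))
      have h2 : H ≤ K.map H.subtype ⊔ N := by
        have := congrArg (Subgroup.map H.subtype) hsup
        rw [Subgroup.map_sup, ← MonoidHom.range_eq_map, Subgroup.range_subtype] at this
        exact this.ge.trans (sup_le_sup le_rfl (Subgroup.map_comap_le _ _))
      have h3 : K.map H.subtype ⊔ N = ⊤ := eq_top_iff.mpr (hH.ge.trans (sup_le h2 le_sup_right))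
      have h4 := hmin h3 (Subgroup.map_subtype_le K)
      exact hK.1 (eq_top_iff.mpr fun z _ => by
        obtain ⟨w, hw, e⟩ := h4 z.2
        exact Subtype.ext e ▸ hw)
    have hH1 : (M.subgroupOf H) ≠ ⊥ := fun e => hne (by
      rwa [Subgroup.subgroupOf_eq_bot, disjoint_comm, disjoint_iff] at e)
    have hMΦ : M.subgroupOf H ≤ Φ := (Subgroup.subgroupOf_mono H hMN).trans hNΦ
    obtain ⟨p, hp, hpd⟩ := Nat.exists_prime_and_dvd (n := Nat.card (M.subgroupOf H))
      (fun e => hH1 (Subgroup.eq_bot_of_card_eq _ e))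
    have : Fact p.Prime := ⟨hp⟩
    have hpM : p ∣ Nat.card M := hpd.trans (by
      rw [← Subgroup.inf_subgroupOf_right, Nat.card_congr (Subgroup.subgroupOfEquivOfLe inf_le_right).toEquiv]
      exact Subgroup.card_dvd_of_le inf_le_left)
    have hpi : ¬ p ∣ Φ.index := fun hd => hp.not_dvd_one (hcop.gcd_eq_one ▸ Nat.dvd_gcd
      (hd.trans ((Subgroup.index_dvd_of_le hNΦ).trans (Subgroup.relIndex_dvd_index_of_normal N H))) hpM)
    obtain ⟨P⟩ : Nonempty (Sylow p Φ) := inferInstance
    have hnil : Group.IsNilpotent Φ := frattini_nilpotent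
    have hPn : (P : Subgroup Φ).Normal := Sylow.normal_of_normalizerCondition Group.normalizerCondition_of_isNilpotent P
    have hPchar : (P : Subgroup Φ).Characteristic := P.characteristic_of_normal hPn
    let P' : Subgroup H := (P : Subgroup Φ).map Φ.subtype
    have hP'n : P'.Normal := ConjAct.normal_of_characteristic_of_normal
    have hcard : Nat.card P' = p ^ (Nat.card Φ).factorization p := by
      rw [Subgroup.card_map_of_injective Φ.subtype_injective, P.card_eq_multiplicity]
    have hP'cop : (Nat.card P').Coprime P'.index := by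
      refine hcard ▸ Nat.Coprime.pow_left _ (hp.coprime_iff_not_dvd.mpr ?_)
      rw [Subgroup.index_map_subtype]
      exact hp.not_dvd_mul P.not_dvd_index hpi
    obtain ⟨C, hC⟩ := Subgroup.exists_right_complement'_of_coprime hP'cop
    have hCtop : C = ⊤ := frattini_nongenerating (eq_top_iff.mpr
      (hC.sup_eq_top.ge.trans (sup_le ((Subgroup.map_subtype_le _).trans le_sup_right) le_sup_left)))
    rw [hCtop] at hC
    have hP'bot : P' = ⊥ := Subgroup.isComplement'_top_right.mp hC
    rw [hP'bot, Subgroup.card_bot] at hcard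
    have hpΦ : p ∣ Nat.card Φ := hpd.trans (Subgroup.card_dvd_of_le hMΦ)
    have := hp.factorization_pos_of_dvd Nat.card_pos.ne' hpΦ
    exact absurd hcard.symm (Nat.one_lt_pow this.ne' hp.one_lt).ne'

end Cfsg.Agent.S4112
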