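import Cfsg.Statements.S4113
import Cfsg.Agent.Lib.SL2.CACount

set_option autoImplicit false
open Cfsg
open scoped Pointwise

namespace Cfsg.Agent.S4113

/-- Let G be a finite group, M ≤ N non-trivial proper normal subgroups, and H a subgroup with HM = G and H ∩ M = 1. Then every element of G outside N acts fixed-point-freely on M (C_G(x) ≤ N for every x ∈ M, x ≠ 1) if and only if H ∩ gHg⁻¹ ≤ H ∩ N for every g outside H, with H proper and non-trivial and H ∩ N proper in H. -/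
theorem result {G : Type*} [Group G] [Finite G] (N M : Subgroup G) [N.Normal] [M.Normal] (hMN : M ≤ N) (hM1 : M ≠ ⊥) (hN2 : N ≠ ⊤)
    (H : Subgroup G) (hHM : H ⊔ M = ⊤) (hHM' : H ⊓ M = ⊥) :
    (∀ x ∈ M, x ≠ 1 → Subgroup.centralizer ({x} : Set G) ≤ N) ↔
      (H ≠ ⊥ ∧ H ≠ ⊤ ∧ H ⊓ N < H ∧ ∀ g : G, g ∉ H → H ⊓ H.map (MulAut.conj g).toMonoidHom ≤ N) := by
  classical
  have hdec : ∀ g : G, ∃ m ∈ M, ∃ h ∈ H, g = m * h := fun g => by
    have h : g ∈ ((M : Set G) * (H : Set G)) := by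
      rw [← Subgroup.normal_mul M H, sup_comm, hHM]; exact Set.mem_univ _
    obtain ⟨m, hm, k, hk, e⟩ := h
    exact ⟨m, hm, k, hk, e.symm⟩
  have huniq : ∀ x ∈ H, ∀ y ∈ H, y⁻¹ * x ∈ M → x = y := fun x hx y hy h => by
    have h1 : y⁻¹ * x ∈ H ⊓ M := Subgroup.mem_inf.mpr ⟨mul_mem (inv_mem hy) hx, h⟩
    rw [hHM', Subgroup.mem_bot, inv_mul_eq_one] at h1
    exact h1.symm
  constructor
  · intro hC
    refine ⟨fun h => hN2 (top_le_iff.mp (by rw [← hHM, h, bot_sup_eq]; exact hMN)),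
      fun h => hM1 (by rw [← hHM', h, top_inf_eq]), lt_of_le_not_ge inf_le_left fun h =>
        hN2 (top_le_iff.mp (hHM ▸ sup_le (h.trans inf_le_right) hMN)), fun g hg x hx => ?_⟩
    obtain ⟨hxH, y, hy, hyx⟩ := hx
    obtain ⟨m, hm, k, hk, rfl⟩ := hdec g
    have hyx' : m * (k * y * k⁻¹) * m⁻¹ = x := by rw [← hyx]; simp [mul_assoc]
    have hky : k * y * k⁻¹ ∈ H := mul_mem (mul_mem hk hy) (inv_mem hk)
    have heq : x = k * y * k⁻¹ := huniq x hxH _ hky (by
      rw [← hyx']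
      have := mul_mem (‹M.Normal›.conj_mem m hm (k * y * k⁻¹)⁻¹) (inv_mem hm)
      simpa [mul_assoc] using this)
    rw [← heq, mul_inv_eq_iff_eq_mul] at hyx'
    exact hC m hm (fun h => hg (by rw [h, one_mul]; exact hk)) (Subgroup.mem_centralizer_singleton_iff.mpr hyx'.symm)
  · rintro ⟨-, -, -, hTI⟩ x hx hx1 c hc
    by_contra hcN
    set S : Set G := {s | s ∈ H ∧ s ∉ N} with hS
    have hcount := CfsgLib.SL2.CA.card_cover_mul S H (fun n hn s hs => ⟨mul_mem (mul_mem hn hs.1) (inv_mem hn), fun h => hs.2 (by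
        simpa [mul_assoc] using ‹N.Normal›.conj_mem _ h n⁻¹)⟩)
      (fun g s hs hgs => by_contra fun hg => hgs.2 (hTI g hg ⟨hgs.1, s, hs.1, rfl⟩))
    have hsub : CfsgLib.SL2.CA.cover S ⊆ {y | y ∉ N} := by
      rintro y ⟨g, hg⟩ hyN
      exact hg.2 (by simpa using ‹N.Normal›.conj_mem y hyN g⁻¹)
    -- the cover fills the complement of `N`
    have hGN : Nat.card {y : G | y ∉ N} * Nat.card H = Nat.card G * Nat.card S := by
      let e : M × S → {y : G | y ∉ N} := fun p => ⟨(p.1 : G) * p.2, fun h => p.2.2.2 ((Subgroup.mul_mem_cancel_left _ (hMN p.1.2)).mp h)⟩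
      have he : Function.Bijective e := by
        constructor
        · rintro ⟨m, s⟩ ⟨m', s'⟩ h
          have h' : (m : G) * s = (m' : G) * s' := congrArg Subtype.val h
          have hs : (s : G) = s' := huniq s s.2.1 s' s'.2.1 (by
            have e2 : (s' : G)⁻¹ * s = (s' : G)⁻¹ * ((m : G)⁻¹ * m') * s' := by
              rw [show (s : G) = (m : G)⁻¹ * ((m' : G) * s') by rw [← h']; group]; group
            rw [e2]
            simpa [mul_assoc] using ‹M.Normal›.conj_mem _ (mul_mem (inv_mem m.2) m'.2) (s' : G)⁻¹)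
          rw [hs] at h'
          exact Prod.ext (Subtype.ext (mul_right_cancel h')) (Subtype.ext hs)
        · rintro ⟨y, hy⟩
          obtain ⟨m, hm, k, hk, rfl⟩ := hdec y
          exact ⟨(⟨m, hm⟩, ⟨k, hk, fun h => hy (mul_mem (hMN hm) h)⟩), rfl⟩
      have hG : Nat.card G = Nat.card M * Nat.card H := by
        rw [← Nat.card_prod]
        refine (Nat.card_eq_of_bijective (fun p : M × H => (p.1 : G) * p.2) ⟨?_, fun g => ?_⟩).symm
        · rintro ⟨m, s⟩ ⟨m', s'⟩ h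
          have h' : (m : G) * s = (m' : G) * s' := h
          have h2 := Subgroup.disjoint_iff_mul_eq_one.mp (disjoint_iff.mpr (inf_comm M H ▸ hHM')) (mul_mem (inv_mem m'.2) m.2)
            (mul_mem s.2 (inv_mem s'.2)) (by rw [mul_assoc, ← mul_assoc (m : G), h']; group)
          exact Prod.ext (Subtype.ext (inv_mul_eq_one.mp h2.1).symm) (Subtype.ext (mul_inv_eq_one.mp h2.2))
        · obtain ⟨m, hm, k, hk, rfl⟩ := hdec g
          exact ⟨(⟨m, hm⟩, ⟨k, hk⟩), rfl⟩
      rw [← Nat.card_eq_of_bijective e he, Nat.card_prod, hG]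
      ring
    have heq : CfsgLib.SL2.CA.cover S = {y | y ∉ N} := Set.eq_of_subset_of_ncard_le hsub (by
      rw [← Nat.card_coe_set_eq, ← Nat.card_coe_set_eq]
      exact Nat.le_of_mul_le_mul_right (le_of_eq (hGN.trans hcount.symm)) Nat.card_pos) (Set.toFinite _)
    obtain ⟨g, hgS⟩ : c ∈ CfsgLib.SL2.CA.cover S := by rw [heq]; exact hcN
    set h' := g⁻¹ * c * g with hh'
    set x' := g⁻¹ * x * g with hx'
    have hx'M : x' ∈ M := by simpa using ‹M.Normal›.conj_mem x hx g⁻¹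
    have hx'1 : x' ≠ 1 := fun h => hx1 (by
      rw [show x = g * x' * g⁻¹ by rw [hx']; group, h]; group)
    have hx'H : x' ∉ H := fun h => hx'1 (Subgroup.mem_bot.mp (hHM' ▸ ⟨h, hx'M⟩))
    refine hgS.2 (hTI x' hx'H ⟨hgS.1, h', hgS.1, ?_⟩)
    show x' * h' * x'⁻¹ = h'
    rw [mul_inv_eq_iff_eq_mul, hh', hx', show g⁻¹ * x * g * (g⁻¹ * c * g) = g⁻¹ * (x * c) * g by group,
      ← Subgroup.mem_centralizer_singleton_iff.mp hc]
    group
end Cfsg.Agent.S4113
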