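import Cfsg.Statements.S4115
import Cfsg.Agent.S0877
import Cfsg.Agent.Lib.FrobCompl.Basic
import Cfsg.Agent.Lib.Coprime.Action
import Cfsg.Agent.Lib.Coprime.Generation
import Cfsg.Agent.Lib.Coprime.NoncyclicAbelian
import Cfsg.Agent.Lib.Invol.Dihedral
import Cfsg.Agent.Lib.Transfer.Sylow
import Cfsg.Agent.Lib.Transfer.Thompson

set_option autoImplicit false
universe u
open Cfsg
open scoped Pointwise

namespace Cfsg.Agent.S4115

theorem normalizes_iff {G : Type*} [Group G] (S : Subgroup G) (g : G)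
    (h1 : ∀ x ∈ S, g * x * g⁻¹ ∈ S) (h2 : ∀ x ∈ S, g⁻¹ * x * g ∈ S) :
    g ∈ Subgroup.normalizer (S : Set G) := by
  refine Subgroup.mem_normalizer_iff.mpr fun x => ⟨h1 x, fun hx => ?_⟩
  simpa [mul_assoc] using h2 _ hx

section Fixed

variable {G : Type*} [Group G] [Finite G] {H L : Subgroup G}
  (hHL : H ≤ Subgroup.normalizer (L : Set G)) (hcop : (Nat.card H).Coprime (Nat.card L))
  (hfix : ∀ h ∈ H, h ≠ 1 → L ⊓ Subgroup.centralizer ({h} : Set G) ≤ L ⊓ Subgroup.centralizer (H : Set G))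
  (hne : ¬ L ≤ Subgroup.centralizer (H : Set G))

omit [Finite G] in
theorem le_normalizer_fixed (S : Subgroup G) (hS : S ≤ H) (R : Subgroup G)
    (hR : S ≤ Subgroup.normalizer (R : Set G)) :
    S ≤ Subgroup.normalizer ((R ⊓ Subgroup.centralizer (H : Set G) : Subgroup G) : Set G) := by
  intro s hs
  have key : ∀ g ∈ S, ∀ x ∈ R ⊓ Subgroup.centralizer (H : Set G), g * x * g⁻¹ ∈ R ⊓ Subgroup.centralizer (H : Set G) := by
    intro g hg x hx
    obtain ⟨hxR, hxC⟩ := Subgroup.mem_inf.mp hx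
    refine Subgroup.mem_inf.mpr ⟨(Subgroup.mem_normalizer_iff.mp (hR hg) x).mp hxR, ?_⟩
    rw [Subgroup.mem_centralizer_iff.mp hxC g (hS hg), mul_inv_cancel_right]
    exact hxC
  exact normalizes_iff _ s (key s hs) fun x hx => by simpa using key s⁻¹ (inv_mem hs) x hx

include hHL hcop hfix hne in
/-- An invariant section with only trivial fixed points. -/
theorem exists_section (S : Subgroup G) (hS : S ≤ H)
    (hinv : ∀ (r : ℕ) [Fact r.Prime], ∃ R : Sylow r L, S ≤ Subgroup.normalizer ((R : Subgroup L).map L.subtype : Set G)) :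
    ∃ R₁ S₀ : Subgroup G, S₀ < R₁ ∧ R₁ ≤ Subgroup.normalizer (S₀ : Set G) ∧
      S ≤ Subgroup.normalizer (R₁ : Set G) ∧ S ≤ Subgroup.normalizer (S₀ : Set G) ∧
      ∀ h ∈ S, h ≠ 1 → ∀ x ∈ R₁, x⁻¹ * (h * x * h⁻¹) ∈ S₀ → x ∈ S₀ := by
  classical
  set C := Subgroup.centralizer (H : Set G) with hC
  obtain ⟨r, hr, R, hR, hRC⟩ : ∃ (r : ℕ) (_ : Fact r.Prime) (R : Sylow r L),
      S ≤ Subgroup.normalizer ((R : Subgroup L).map L.subtype : Set G) ∧ ¬ (R : Subgroup L).map L.subtype ≤ C := by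
    by_contra hcon
    push Not at hcon
    apply hne
    have hdvd : Nat.card L ∣ Nat.card (L ⊓ C : Subgroup G) := by
      rw [← Nat.factorization_le_iff_dvd Nat.card_pos.ne' Nat.card_pos.ne']
      intro q
      by_cases hq : q.Prime
      · haveI := Fact.mk hq
        obtain ⟨R, hR⟩ := hinv q
        refine (hq.pow_dvd_iff_le_factorization Nat.card_pos.ne').mp ?_
        rw [← R.card_eq_multiplicity, ← Subgroup.card_map_of_injective L.subtype_injective]
        exact Subgroup.card_dvd_of_le (le_inf (Subgroup.map_subtype_le _) (hcon q ⟨hq⟩ R hR))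
      · simp [Nat.factorization_eq_zero_of_not_prime _ hq]
    exact inf_eq_left.mp (Subgroup.eq_of_le_of_card_ge inf_le_left (Nat.le_of_dvd Nat.card_pos hdvd))
  haveI := hr
  set R' := (R : Subgroup L).map L.subtype with hR'
  have hR'p : IsPGroup r R' := R.2.map _
  have hR'L : R' ≤ L := Subgroup.map_subtype_le _
  set S₀ := R' ⊓ C with hS₀
  have hlt : S₀ < R' := lt_of_le_of_ne inf_le_left fun h => hRC (inf_eq_left.mp h)
  set R₁ := R' ⊓ Subgroup.normalizer (S₀ : Set G) with hR₁
  have hS0n : S ≤ Subgroup.normalizer (S₀ : Set G) := le_normalizer_fixed S hS R' hR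
  refine ⟨R₁, S₀, CfsgLib.Transfer.lt_inf_normalizer hR'p hlt, inf_le_right,
    CfsgLib.Coprime.le_normalizer_inf_of_le hR (hS0n.trans Subgroup.le_normalizer), hS0n, ?_⟩
  intro h hh h1 x hx hxh
  have hA : Subgroup.zpowers h ≤ S := Subgroup.zpowers_le.mpr hh
  have hR₁L : R₁ ≤ L := inf_le_left.trans hR'L
  have hcopA : (Nat.card (Subgroup.zpowers h)).Coprime (Nat.card R₁) :=
    (hcop.coprime_dvd_left (Subgroup.card_dvd_of_le (hA.trans hS))).coprime_dvd_right (Subgroup.card_dvd_of_le hR₁L)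
  have hS₀R₁ : S₀ ≤ R₁ := le_inf inf_le_left Subgroup.le_normalizer
  have hR₁n : Subgroup.zpowers h ≤ Subgroup.normalizer (R₁ : Set G) :=
    hA.trans (CfsgLib.Coprime.le_normalizer_inf_of_le hR (hS0n.trans Subgroup.le_normalizer))
  have hfixA : ∀ a ∈ Subgroup.zpowers h, x⁻¹ * (a * x * a⁻¹) ∈ S₀ := by
    intro a ha
    obtain ⟨i, rfl⟩ := ha
    show x⁻¹ * (h ^ i * x * (h ^ i)⁻¹) ∈ S₀
    induction i with
    | zero => simp
    | succ i ih =>
      have := (Subgroup.mem_normalizer_iff.mp (hS0n hh) _).mp ih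
      have h2 := mul_mem hxh this
      have e : x⁻¹ * (h * x * h⁻¹) * (h * (x⁻¹ * (h ^ (i : ℤ) * x * (h ^ (i : ℤ))⁻¹)) * h⁻¹)
          = x⁻¹ * (h ^ ((i : ℤ) + 1) * x * (h ^ ((i : ℤ) + 1))⁻¹) := by
        rw [show (i : ℤ) + 1 = 1 + i by ring, zpow_add, zpow_one]
        group
      rwa [e] at h2
    | pred i ih =>
      have := (Subgroup.mem_normalizer_iff.mp (hS0n (inv_mem hh)) _).mp (mul_mem (inv_mem hxh) ih)
      have h2 := this
      have e : h⁻¹ * ((x⁻¹ * (h * x * h⁻¹))⁻¹ * (x⁻¹ * (h ^ (-(i : ℤ)) * x * (h ^ (-(i : ℤ)))⁻¹))) * h⁻¹⁻¹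
          = x⁻¹ * (h ^ (-(i : ℤ) - 1) * x * (h ^ (-(i : ℤ) - 1))⁻¹) := by
        rw [show -(i : ℤ) - 1 = -1 + -(i : ℤ) by ring, zpow_add, zpow_neg_one]
        group
      rwa [e] at h2
  obtain ⟨c, hc, hxc⟩ := CfsgLib.Coprime.exists_centralizer_mem_coset hR₁n hcopA
    (Or.inl (CfsgLib.Coprime.isSolvable_of_le le_rfl inferInstance)) hS₀R₁ (hA.trans hS0n) hx hfixA
  obtain ⟨hcR, hcC⟩ := Subgroup.mem_inf.mp hc
  have hcS : c ∈ S₀ := Subgroup.mem_inf.mpr ⟨(Subgroup.mem_inf.mp hcR).1, (Subgroup.mem_inf.mp (hfix h (hS hh) h1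
    (Subgroup.mem_inf.mpr ⟨hR₁L hcR, Subgroup.mem_centralizer_singleton_iff.mpr
      (Subgroup.mem_centralizer_iff.mp hcC h (Subgroup.mem_zpowers h)).symm⟩))).2⟩
  simpa using mul_mem hcS (inv_mem hxc)

include hHL hcop hfix hne in
theorem no_noncyclic_abelian (A : Subgroup G) (hA : A ≤ H) [IsMulCommutative A] : IsCyclic A := by
  by_contra hnc
  apply hne
  refine (CfsgLib.Coprime.le_of_centralizer_le (Y := L ⊓ Subgroup.centralizer (H : Set G)) hnc (hA.trans hHL)
    (hcop.coprime_dvd_left (Subgroup.card_dvd_of_le hA)) fun g hg hg1 => hfix g (hA hg) hg1).trans inf_le_right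

include hHL hcop hfix hne in
theorem invol_unique {t u : G} (htH : t ∈ H) (huH : u ∈ H) (ht : orderOf t = 2) (hu : orderOf u = 2) : t = u := by
  classical
  by_contra htu
  have key : ∀ a b : G, a ∈ H → b ∈ H → orderOf a = 2 → orderOf b = 2 → Commute a b → a = b := by
    intro a b ha hb ha2 hb2 hab
    by_contra hne'
    have haa := CfsgLib.Invol.mul_self_of_orderOf_two ha2
    have hbb := CfsgLib.Invol.mul_self_of_orderOf_two hb2
    set A := Subgroup.closure ({a, b} : Set G) with hA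
    haveI : IsMulCommutative A := Subgroup.isMulCommutative_closure (by
      rintro x (rfl | rfl) y (rfl | rfl)
      exacts [rfl, hab.eq, hab.eq.symm, rfl])
    have hAH : A ≤ H := (Subgroup.closure_le _).mpr (Set.insert_subset_iff.mpr ⟨ha, Set.singleton_subset_iff.mpr hb⟩)
    haveI := no_noncyclic_abelian hHL hcop hfix hne A hAH
    refine hne' (congrArg Subtype.val (CfsgLib.Transfer.eq_of_sq_eq_one_of_isCyclic
      (⟨a, Subgroup.subset_closure (Set.mem_insert _ _)⟩ : A) ⟨b, Subgroup.subset_closure (Set.mem_insert_of_mem _ rfl)⟩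
      (Subtype.ext haa) (Subtype.ext hbb) (fun h => ?_) (fun h => ?_)))
    · exact CfsgLib.Invol.ne_one_of_orderOf_two ha2 (congrArg Subtype.val h)
    · exact CfsgLib.Invol.ne_one_of_orderOf_two hb2 (congrArg Subtype.val h)
  rcases Nat.even_or_odd (orderOf (t * u)) with hev | hodd
  · obtain ⟨w, hw, hwt, hwu⟩ := CfsgLib.Invol.exists_common_commuting_invol ht hu hev
    have hwH : w ∈ H := by
      by_contra hcon
      exact htu (by
        have hc := CfsgLib.Invol.centralInvol_mem_closure t u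
        have hcH : CfsgLib.Invol.centralInvol t u ∈ H := (Subgroup.closure_le _).mpr
          (Set.insert_subset_iff.mpr ⟨htH, Set.singleton_subset_iff.mpr huH⟩) hc
        have h1 := key t _ htH hcH ht (CfsgLib.Invol.orderOf_centralInvol t u hev) (CfsgLib.Invol.centralInvol_comm_left ht hu hev).symm
        have h2 := key u _ huH hcH hu (CfsgLib.Invol.orderOf_centralInvol t u hev) (CfsgLib.Invol.centralInvol_comm_right ht hu hev).symm
        rw [h1, ← h2])
    exact htu ((key w t hwH htH hw ht hwt).symm.trans (key w u hwH huH hw hu hwu))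
  set d := t * u with hd
  set S := Subgroup.zpowers d ⊔ Subgroup.zpowers t with hS
  have hdH : d ∈ H := mul_mem htH huH
  have hSH : S ≤ H := sup_le (Subgroup.zpowers_le.mpr hdH) (Subgroup.zpowers_le.mpr htH)
  have htn : Subgroup.zpowers t ≤ Subgroup.normalizer (Subgroup.zpowers d : Set G) := by
    rw [Subgroup.zpowers_le]
    refine CfsgLib.Coprime.mem_normalizer_iff_conj_smul.mpr ?_
    rw [CfsgLib.Coprime.conj_smul_eq_map, MonoidHom.map_zpowers]
    show Subgroup.zpowers (t * d * t⁻¹) = _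
    rw [hd, CfsgLib.Invol.conj_prod ht hu, Subgroup.zpowers_inv]
  have hsol : Group.IsSolvable S := CfsgLib.Coprime.isSolvable_sup_of_le_normalizer
    (CfsgLib.Coprime.isSolvable_of_le le_rfl inferInstance) (CfsgLib.Coprime.isSolvable_of_le le_rfl inferInstance) htn
  obtain ⟨R₁, S₀, hlt, hR₁n, hSR, hSS, hsec⟩ := exists_section hHL hcop hfix hne S hSH fun r _ =>
    CfsgLib.Coprime.exists_invariant_sylow (hSH.trans hHL) (hcop.coprime_dvd_left (Subgroup.card_dvd_of_le hSH)) (Or.inl hsol) r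
  haveI : (S₀.subgroupOf R₁).Normal := Subgroup.normal_subgroupOf_of_le_normalizer hR₁n
  have act : ∀ s : G, s ∈ S → ∃ φ : R₁ ⧸ S₀.subgroupOf R₁ →* R₁ ⧸ S₀.subgroupOf R₁,
      ∀ x : R₁, ∀ hx : s * x * s⁻¹ ∈ R₁, φ (QuotientGroup.mk x) = QuotientGroup.mk ⟨s * x * s⁻¹, hx⟩ := by
    intro s hs
    let f : R₁ →* R₁ :=
      { toFun := fun x => ⟨s * x * s⁻¹, (Subgroup.mem_normalizer_iff.mp (hSR hs) x).mp x.2⟩
        map_one' := Subtype.ext (by simp)
        map_mul' := fun x y => Subtype.ext (by simp [mul_assoc]) }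
    refine ⟨QuotientGroup.map _ _ f (fun x hx => ?_), fun x hx => rfl⟩
    exact (Subgroup.mem_normalizer_iff.mp (hSS hs) (x : G)).mp hx
  have hinvs : ∀ s : G, s ∈ S → orderOf s = 2 → ∀ x ∈ R₁, x * (s * x * s⁻¹) ∈ S₀ := by
    intro s hs hs2 x hx
    obtain ⟨φ, hφ⟩ := act s hs
    have hmem : ∀ y : R₁, s * y * s⁻¹ ∈ R₁ := fun y => (Subgroup.mem_normalizer_iff.mp (hSR hs) y).mp y.2
    have hss := CfsgLib.Invol.mul_self_of_orderOf_two hs2
    have hfp : MonoidHom.FixedPointFree φ := by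
      intro q hq
      induction q using QuotientGroup.induction_on with
      | H y =>
        rw [hφ y (hmem y), eq_comm, QuotientGroup.eq, Subgroup.mem_subgroupOf] at hq
        exact (QuotientGroup.eq_one_iff y).mpr (Subgroup.mem_subgroupOf.mpr (hsec s hs (CfsgLib.Invol.ne_one_of_orderOf_two hs2) y y.2 hq))
    have hinv : Function.Involutive φ := by
      intro q
      induction q using QuotientGroup.induction_on with
      | H y =>
        rw [hφ y (hmem y), hφ _ (hmem _)]
        congr 1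
        refine Subtype.ext ?_
        show s * (s * (y : G) * s⁻¹) * s⁻¹ = (y : G)
        calc s * (s * (y : G) * s⁻¹) * s⁻¹ = (s * s) * y * (s * s)⁻¹ := by group
          _ = y := by rw [hss]; group
    have h1 := congrFun (MonoidHom.FixedPointFree.coe_eq_inv_of_involutive hfp hinv) (QuotientGroup.mk ⟨x, hx⟩)
    rw [hφ _ (hmem ⟨x, hx⟩)] at h1
    have h2 : (QuotientGroup.mk (⟨x, hx⟩ * ⟨_, hmem ⟨x, hx⟩⟩ : R₁) : R₁ ⧸ S₀.subgroupOf R₁) = 1 := by
      rw [QuotientGroup.mk_mul, h1, mul_inv_cancel]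
    rw [QuotientGroup.eq_one_iff, Subgroup.mem_subgroupOf] at h2
    exact h2
  obtain ⟨x, hx, hxS⟩ := SetLike.exists_of_lt hlt
  have htS : t ∈ S := Subgroup.mem_sup_right (Subgroup.mem_zpowers t)
  have hdS : d ∈ S := Subgroup.mem_sup_left (Subgroup.mem_zpowers d)
  have huS : u ∈ S := by
    rw [CfsgLib.Invol.right_eq ht (y := u)]
    exact mul_mem htS hdS
  refine hxS (hsec d hdS (fun h0 => htu ?_) x hx ?_)
  · rw [hd, mul_eq_one_iff_eq_inv, CfsgLib.Invol.inv_of_orderOf_two hu] at h0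
    exact h0
  have a1 := hinvs u huS hu x hx
  have hy : u * x * u⁻¹ ∈ R₁ := (Subgroup.mem_normalizer_iff.mp (hSR huS) x).mp hx
  have a2 := hinvs t htS ht _ hy
  have e : d * x * d⁻¹ = t * (u * x * u⁻¹) * t⁻¹ := by rw [hd]; group
  rw [e]
  have a1' := (Subgroup.mem_normalizer_iff.mp (hR₁n (inv_mem hx)) _).mp (inv_mem a1)
  have : x⁻¹ * (t * (u * x * u⁻¹) * t⁻¹) =
      x⁻¹ * (x * (u * x * u⁻¹))⁻¹ * x⁻¹⁻¹ * ((u * x * u⁻¹) * (t * (u * x * u⁻¹) * t⁻¹)) := by group
  rw [this]
  exact mul_mem a1' a2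

end Fixed

theorem eq_of_mem_of_inf_eq_bot {G : Type*} [Group G] {K H : Subgroup G} (h : K ⊓ H = ⊥) {y w : G}
    (hy : y ∈ H) (hw : w ∈ H) (hK : y * w⁻¹ ∈ K) : y = w := by
  have : y * w⁻¹ ∈ K ⊓ H := Subgroup.mem_inf.mpr ⟨hK, mul_mem hy (inv_mem hw)⟩
  rwa [h, Subgroup.mem_bot, mul_inv_eq_one] at this

/-- Let G be a finite group and H a subgroup that meets each of its conjugates by elements outside N_G(H) trivially and whose order is coprime to its index in N_G(H). Then H has a normal complement in N_G(H) if and only if H has a normal complement in G. Moreover, if H is not normal in G and has a normal complement in N_G(H), then H is isomorphic to a Frobenius complement of some finite Frobenius group. -/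
theorem result {G : Type u} [Group G] [Finite G] (H : Subgroup G)
    (hTI : Cfsg.IsTISubset (H : Set G)) (hHall : (Nat.card H).Coprime (H.subgroupOf (Subgroup.normalizer (H : Set G))).index) :
    ((∃ K : Subgroup (Subgroup.normalizer (H : Set G)), K.Normal ∧ K.IsComplement' (H.subgroupOf (Subgroup.normalizer (H : Set G)))) ↔
      (∃ N : Subgroup G, N.Normal ∧ N.IsComplement' H)) ∧
    (¬ H.Normal → (∃ K : Subgroup (Subgroup.normalizer (H : Set G)), K.Normal ∧ K.IsComplement' (H.subgroupOf (Subgroup.normalizer (H : Set G)))) →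
      ∃ (F : Type u) (_ : Group F) (_ : Finite F) (C : Subgroup F), Cfsg.IsFrobeniusComplement C ∧ Nonempty (H ≃* C)) := by
  classical
  set N := Subgroup.normalizer (H : Set G) with hN
  have hHN : H ≤ N := Subgroup.le_normalizer
  have hti : ∀ g : G, ∀ x ∈ H, x ≠ 1 → g * x * g⁻¹ ∈ H → g ∈ N := fun g x hx hx1 hgx => by
    by_contra hg
    exact hx1 (hTI g hg x hx hgx)
  have hHall' : (Nat.card H).Coprime H.index := by
    refine Nat.coprime_of_dvd fun p hp hpH hpi => ?_
    haveI := Fact.mk hp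
    obtain ⟨P₀⟩ := (inferInstance : Nonempty (Sylow p H))
    set P := (P₀ : Subgroup H).map H.subtype with hP
    have hPH : P ≤ H := Subgroup.map_subtype_le _
    have hPc : Nat.card P = p ^ (Nat.card H).factorization p := by
      rw [hP, Subgroup.card_map_of_injective H.subtype_injective]; exact P₀.card_eq_multiplicity
    obtain ⟨Q, hQ⟩ := (P₀.2.map H.subtype).exists_le_sylow
    have hPQ : P = (Q : Subgroup G) := by
      by_contra hne
      have hlt := CfsgLib.Transfer.lt_inf_normalizer Q.2 (lt_of_le_of_ne hQ hne)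
      obtain ⟨g, hg, hgP⟩ := SetLike.exists_of_lt hlt
      obtain ⟨hgQ, hgn⟩ := Subgroup.mem_inf.mp hg
      have hP1 : P ≠ ⊥ := fun h0 => by
        rw [h0, Subgroup.card_bot] at hPc
        have := (hp.dvd_iff_one_le_factorization Nat.card_pos.ne').mp hpH
        have := Nat.one_lt_pow (show (Nat.card H).factorization p ≠ 0 by omega) hp.one_lt
        omega
      obtain ⟨x, hx, hx1⟩ := (Subgroup.bot_or_exists_ne_one P).resolve_left hP1
      have hgN : g ∈ N := hti g x (hPH hx) hx1 (hPH ((Subgroup.mem_normalizer_iff.mp hgn x).mp hx))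
      -- a `p`-element of `N` lies in `H`
      have hgH : g ∈ H := by
        haveI : (H.subgroupOf N).Normal := Subgroup.normal_subgroupOf_of_le_normalizer le_rfl
        have h1 : ((⟨g, hgN⟩ : N) : N ⧸ H.subgroupOf N) = 1 := by
          rw [← orderOf_eq_one_iff]
          obtain ⟨k, hk⟩ := IsPGroup.iff_card.mp Q.2
          have hd : orderOf ((⟨g, hgN⟩ : N) : N ⧸ H.subgroupOf N) ∣ orderOf g := by
            refine (orderOf_map_dvd (QuotientGroup.mk' (H.subgroupOf N)) _).trans ?_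
            rw [Subgroup.orderOf_mk]
          refine Nat.eq_one_of_dvd_coprimes (((hHall.coprime_dvd_left hpH)).pow_left k)
            (hd.trans (hk ▸ Subgroup.orderOf_dvd_natCard _ hgQ)) (orderOf_dvd_natCard _)
        exact Subgroup.mem_subgroupOf.mp ((QuotientGroup.eq_one_iff (⟨g, hgN⟩ : N)).mp h1)
      -- so it lies in `P`
      have hgP' : IsPGroup p ↥(P ⊔ Subgroup.zpowers g) := Q.2.to_le (sup_le hQ (Subgroup.zpowers_le.mpr hgQ))
      have hle : P ⊔ Subgroup.zpowers g ≤ H := sup_le hPH (Subgroup.zpowers_le.mpr hgH)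
      have heq := P₀.3 (hgP'.comap_of_injective H.subtype H.subtype_injective)
        (fun z hz => Subgroup.mem_subgroupOf.mpr (Subgroup.mem_sup_left ⟨z, hz, rfl⟩))
      have : (⟨g, hgH⟩ : H) ∈ (P₀ : Subgroup H) := heq ▸ Subgroup.mem_sup_right (Subgroup.mem_zpowers g)
      exact hgP ⟨_, this, rfl⟩
    have : ¬ p ∣ H.index := fun hd => Q.not_dvd_index (hd.trans (Subgroup.index_dvd_of_le (hPQ ▸ hPH)))
    exact this hpi
  have fwd : ∀ K : Subgroup N, K.Normal → K.IsComplement' (H.subgroupOf N) →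
      ∃ L : Subgroup G, L.Normal ∧ L.IsComplement' H := by
    intro K hKn hKc
    refine Exists.elim (Cfsg.Agent.S0877.result H hHall' ?_ ?_) fun L hL => ⟨L, hL.1,
      Subgroup.isComplement'_of_disjoint_and_mul_eq_univ (disjoint_iff.mpr hL.2.2)
        (by haveI := hL.1; rw [← Subgroup.normal_mul, hL.2.1, Subgroup.coe_top])⟩
    · intro x hx y hy hconj
      by_cases hx1 : x = 1
      · subst hx1
        rw [isConj_one_right] at hconj
        exact ⟨1, one_mem H, by rw [hconj]; group⟩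
      obtain ⟨g, hg⟩ := isConj_iff.mp hconj
      have hgN : g ∈ N := hti g x hx hx1 (hg ▸ hy)
      have hgm : (⟨g, hgN⟩ : N) ∈ K ⊔ H.subgroupOf N := by rw [hKc.sup_eq_top]; trivial
      haveI := hKn
      obtain ⟨k, hk, h, hh, hkh⟩ := Subgroup.mem_sup_of_normal_left.mp hgm
      refine ⟨h, hh, ?_⟩
      have hg' : g = (k : G) * h := (congrArg Subtype.val hkh).symm
      have hw : (h : G) * x * (h : G)⁻¹ ∈ H := mul_mem (mul_mem hh hx) (inv_mem hh)
      set yN : N := ⟨y, hHN hy⟩
      set wN : N := ⟨(h : G) * x * (h : G)⁻¹, hHN hw⟩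
      have : yN * wN⁻¹ ∈ K := by
        have e : yN = k * wN * k⁻¹ := Subtype.ext (by
          show y = (k : G) * ((h : G) * x * (h : G)⁻¹) * (k : G)⁻¹
          rw [← hg, hg']; group)
        rw [e, show k * wN * k⁻¹ * wN⁻¹ = k * (wN * k⁻¹ * wN⁻¹) by group]
        exact mul_mem hk (hKn.conj_mem _ (inv_mem hk) wN)
      exact congrArg Subtype.val (eq_of_mem_of_inf_eq_bot hKc.disjoint.eq_bot
        (Subgroup.mem_subgroupOf.mpr hy) (Subgroup.mem_subgroupOf.mpr hw) this).symm
    · intro E p hp hE hdiv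
      haveI := Fact.mk hp
      by_cases hE1 : E = ⊥
      · exact ⟨1, by rw [hE1, Subgroup.map_bot]; exact bot_le⟩
      obtain ⟨x, hxc, -, j, hj⟩ := hE
      -- a central element of prime order
      obtain ⟨z, hzE, q, hq, hzq, hzc⟩ : ∃ z ∈ E, ∃ q : ℕ, q.Prime ∧ orderOf z = q ∧ ∀ e ∈ E, e * z = z * e := by
        have hcne : Subgroup.center E ≠ ⊥ := by
          intro h0
          rw [h0, Subgroup.mem_bot] at hxc
          subst hxc
          rw [Subgroup.zpowers_one_eq_bot, Subgroup.index_bot] at hj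
          haveI : Nontrivial E := (Subgroup.nontrivial_iff_ne_bot E).mpr hE1
          exact (Subgroup.nontrivial_iff_ne_bot _).mp (IsPGroup.center_nontrivial (IsPGroup.of_card (n := j) hj)) h0
        have hcc : Nat.card (Subgroup.center E) ≠ 1 := fun h => hcne (Subgroup.card_eq_one.mp h)
        obtain ⟨q, hq, hqd⟩ := Nat.exists_prime_and_dvd hcc
        haveI := Fact.mk hq
        obtain ⟨⟨w, hw⟩, hwo⟩ := exists_prime_orderOf_dvd_card' (G := Subgroup.center E) q hqd
        refine ⟨w, w.2, q, hq, by rw [← hwo, Subgroup.orderOf_mk, Subgroup.orderOf_coe], fun e he => ?_⟩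
        exact congrArg Subtype.val (Subgroup.mem_center_iff.mp hw ⟨e, he⟩)
      haveI := Fact.mk hq
      have hqH : q ∣ Nat.card H := (hzq ▸ E.orderOf_dvd_natCard hzE).trans hdiv
      have hzp : IsPGroup q (Subgroup.zpowers z) := IsPGroup.of_card (n := 1) (by rw [Nat.card_zpowers, hzq, pow_one])
      obtain ⟨T, hT⟩ := hzp.exists_le_sylow
      obtain ⟨P₀⟩ := (inferInstance : Nonempty (Sylow q H))
      obtain ⟨Q, hQ⟩ := (P₀.2.map H.subtype).exists_le_sylow
      have hQH : (Q : Subgroup G) ≤ H := by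
        have hcard : Nat.card (Q : Subgroup G) ≤ Nat.card ((P₀ : Subgroup H).map H.subtype) := by
          rw [Subgroup.card_map_of_injective H.subtype_injective, Q.card_eq_multiplicity, P₀.card_eq_multiplicity,
            ← Subgroup.card_mul_index H, Nat.factorization_mul Nat.card_pos.ne' Subgroup.index_ne_zero_of_finite,
            Finsupp.add_apply, Nat.factorization_eq_zero_of_not_dvd (n := H.index) (p := q) fun h =>
              hq.one_lt.ne' (Nat.eq_one_of_dvd_coprimes hHall' hqH h), add_zero]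
        exact (Subgroup.eq_of_le_of_card_ge hQ hcard) ▸ Subgroup.map_subtype_le _
      obtain ⟨g, hg⟩ := MulAction.exists_smul_eq G T Q
      have hzH : g * z * g⁻¹ ∈ H := hQH (by
        rw [← hg]; exact Subgroup.smul_mem_pointwise_smul _ (MulAut.conj g) _ (hT (Subgroup.mem_zpowers z)))
      refine ⟨g, ?_⟩
      rintro _ ⟨e, he, rfl⟩
      show g * e * g⁻¹ ∈ H
      have heN : g * e * g⁻¹ ∈ N := by
        refine hti _ _ hzH (fun h0 => ?_) ?_
        · rw [mul_inv_eq_one, mul_eq_left] at h0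
          rw [h0, orderOf_one] at hzq
          exact hq.one_lt.ne hzq
        · have e2 : g * e * g⁻¹ * (g * z * g⁻¹) * (g * e * g⁻¹)⁻¹ = g * (e * z) * e⁻¹ * g⁻¹ := by group
          rw [e2, hzc e he]
          simpa [mul_assoc] using hzH
      haveI : (H.subgroupOf N).Normal := Subgroup.normal_subgroupOf_of_le_normalizer le_rfl
      have h1 : ((⟨_, heN⟩ : N) : N ⧸ H.subgroupOf N) = 1 := by
        rw [← orderOf_eq_one_iff]
        refine Nat.eq_one_of_dvd_coprimes hHall ?_ (orderOf_dvd_natCard _)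
        refine (orderOf_map_dvd (QuotientGroup.mk' (H.subgroupOf N)) _).trans ?_
        rw [Subgroup.orderOf_mk, show g * e * g⁻¹ = MulAut.conj g e from rfl, MulEquiv.orderOf_eq]
        exact (E.orderOf_dvd_natCard he).trans hdiv
      exact Subgroup.mem_subgroupOf.mp ((QuotientGroup.eq_one_iff (⟨_, heN⟩ : N)).mp h1)
  refine ⟨⟨fun ⟨K, h1, h2⟩ => fwd K h1 h2, fun ⟨L, hLn, hLc⟩ => ?_⟩, fun hHn ⟨K, hK1, hK2⟩ => ?_⟩
  · haveI := hLn
    refine ⟨L.subgroupOf N, inferInstance, Subgroup.isComplement'_of_disjoint_and_mul_eq_univ ?_ ?_⟩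
    · rw [disjoint_iff, Subgroup.eq_bot_iff_forall]
      intro x hx
      obtain ⟨h1, h2⟩ := Subgroup.mem_inf.mp hx
      have : (x : G) ∈ L ⊓ H := Subgroup.mem_inf.mpr ⟨h1, h2⟩
      rw [hLc.disjoint.eq_bot, Subgroup.mem_bot] at this
      exact Subtype.ext this
    · rw [Set.eq_univ_iff_forall]
      intro n
      have hn : (n : G) ∈ L ⊔ H := by rw [hLc.sup_eq_top]; trivial
      obtain ⟨l, hl, h, hh, hlh⟩ := Subgroup.mem_sup_of_normal_left.mp hn
      have hlN : l ∈ N := by
        have := mul_mem n.2 (inv_mem (hHN hh))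
        rwa [← hlh, mul_inv_cancel_right] at this
      exact ⟨⟨l, hlN⟩, hl, ⟨h, hHN hh⟩, hh, Subtype.ext hlh⟩
  obtain ⟨L, hLn, hLc⟩ := fwd K hK1 hK2
  haveI := hLn
  have hH1 : H ≠ ⊥ := fun h0 => hHn (h0 ▸ Subgroup.normal_bot)
  have hHL : H ≤ Subgroup.normalizer (L : Set G) := Subgroup.le_normalizer_of_normal
  have hcop : (Nat.card H).Coprime (Nat.card L) := by
    have hc : H.index = Nat.card L := hLc.index_eq_card
    rw [← hc]; exact hHall'
  have hNL : L ⊓ N ≤ Subgroup.centralizer (H : Set G) := by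
    intro l hl
    obtain ⟨hlL, hlN⟩ := Subgroup.mem_inf.mp hl
    rw [Subgroup.mem_centralizer_iff]
    intro h hh
    have h1 : h * l * h⁻¹ * l⁻¹ ∈ L ⊓ H := by
      refine Subgroup.mem_inf.mpr ⟨mul_mem (hLn.conj_mem l hlL h) (inv_mem hlL), ?_⟩
      rw [show h * l * h⁻¹ * l⁻¹ = h * (l * h⁻¹ * l⁻¹) by group]
      exact mul_mem hh ((Subgroup.mem_normalizer_iff.mp hlN _).mp (inv_mem hh))
    rw [hLc.disjoint.eq_bot, Subgroup.mem_bot, mul_inv_eq_one, mul_inv_eq_iff_eq_mul] at h1
    exact h1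
  have hfix : ∀ h ∈ H, h ≠ 1 → L ⊓ Subgroup.centralizer ({h} : Set G) ≤ L ⊓ Subgroup.centralizer (H : Set G) := by
    intro h hh h1 l hl
    obtain ⟨hlL, hlC⟩ := Subgroup.mem_inf.mp hl
    have hlN : l ∈ N := hti l h hh h1 (by
      rw [Subgroup.mem_centralizer_singleton_iff.mp hlC, mul_inv_cancel_right]; exact hh)
    exact Subgroup.mem_inf.mpr ⟨hlL, hNL (Subgroup.mem_inf.mpr ⟨hlL, hlN⟩)⟩
  have hne : ¬ L ≤ Subgroup.centralizer (H : Set G) := fun hle => hHn ⟨fun x hx g => by
    have hg : g ∈ L ⊔ H := by rw [hLc.sup_eq_top]; trivial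
    obtain ⟨l, hl, a, ha, rfl⟩ := Subgroup.mem_sup_of_normal_left.mp hg
    have hax : a * x * a⁻¹ ∈ H := mul_mem (mul_mem ha hx) (inv_mem ha)
    have e : l * a * x * (l * a)⁻¹ = l * (a * x * a⁻¹) * l⁻¹ := by group
    rw [e, ← Subgroup.mem_centralizer_iff.mp (hle hl) _ hax, mul_inv_cancel_right]
    exact hax⟩
  have hinv : ∀ (r : ℕ) [Fact r.Prime], ∃ R : Sylow r L, H ≤ Subgroup.normalizer ((R : Subgroup L).map L.subtype : Set G) := by
    intro r _
    by_cases hev : ∃ t ∈ H, orderOf t = 2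
    · obtain ⟨t, htH, ht⟩ := hev
      have hT : Subgroup.zpowers t ≤ H := Subgroup.zpowers_le.mpr htH
      have hcT : (Nat.card (Subgroup.zpowers t)).Coprime (Nat.card L) := hcop.coprime_dvd_left (Subgroup.card_dvd_of_le hT)
      have hsT : Group.IsSolvable (Subgroup.zpowers t) := CfsgLib.Coprime.isSolvable_of_le le_rfl inferInstance
      obtain ⟨R, hR⟩ := CfsgLib.Coprime.exists_invariant_sylow (hT.trans hHL) hcT (Or.inl hsT) r
      refine ⟨R, fun h hh => ?_⟩
      have hht : h * t = t * h := by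
        have h2 : orderOf (h * t * h⁻¹) = 2 := CfsgLib.Invol.conj_orderOf_two ht h
        have := invol_unique hHL hcop hfix hne (mul_mem (mul_mem hh htH) (inv_mem hh)) htH h2 ht
        exact mul_inv_eq_iff_eq_mul.mp this
      set S := Subgroup.zpowers t ⊔ Subgroup.zpowers h with hS
      have hSH : S ≤ H := sup_le hT (Subgroup.zpowers_le.mpr hh)
      have hsol : Group.IsSolvable S := CfsgLib.Coprime.isSolvable_sup_of_le_normalizer hsT
        (CfsgLib.Coprime.isSolvable_of_le le_rfl inferInstance) (by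
          rw [Subgroup.zpowers_le]
          refine CfsgLib.Coprime.mem_normalizer_iff_conj_smul.mpr ?_
          rw [CfsgLib.Coprime.conj_smul_eq_map, MonoidHom.map_zpowers]
          show Subgroup.zpowers (h * t * h⁻¹) = _
          rw [hht, mul_inv_cancel_right])
      obtain ⟨R', hR'⟩ := CfsgLib.Coprime.exists_invariant_sylow (hSH.trans hHL)
        (hcop.coprime_dvd_left (Subgroup.card_dvd_of_le hSH)) (Or.inl hsol) r
      obtain ⟨c, hc, hcR⟩ := CfsgLib.Coprime.invariant_sylow_conj (hT.trans hHL) hcT (Or.inl hsT) R' R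
        ((le_sup_left : Subgroup.zpowers t ≤ S).trans hR') hR
      have hcC : Commute h (c : G) := Subgroup.mem_centralizer_iff.mp (Subgroup.mem_inf.mp (hfix t htH (CfsgLib.Invol.ne_one_of_orderOf_two ht)
        (Subgroup.mem_inf.mpr ⟨c.2, Subgroup.mem_centralizer_singleton_iff.mpr
          (Subgroup.mem_centralizer_iff.mp hc t (Subgroup.mem_zpowers t)).symm⟩))).2 h hh
      have hhR' := CfsgLib.Coprime.conj_smul_eq_self_of_mem_normalizer (hR' (Subgroup.mem_sup_right (Subgroup.mem_zpowers h) : h ∈ S))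
      refine CfsgLib.Coprime.mem_normalizer_iff_conj_smul.mpr ?_
      rw [← hcR, CfsgLib.Coprime.map_subtype_conj_smul_sylow, ← mul_smul, ← map_mul, hcC.eq, map_mul, mul_smul, hhR']
    · push Not at hev
      haveI : IsZGroup H := by
        refine ⟨fun p hp P => ?_⟩
        haveI := Fact.mk hp
        by_cases hp2 : p = 2
        · subst hp2
          have : (P : Subgroup H) = ⊥ := by
            by_contra h0
            haveI : Nontrivial (P : Subgroup H) := (Subgroup.nontrivial_iff_ne_bot _).mpr h0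
            obtain ⟨k, hk0, hk⟩ := (IsPGroup.nontrivial_iff_card P.2).mp inferInstance
            obtain ⟨x, hx⟩ := exists_prime_orderOf_dvd_card' (G := (P : Subgroup H)) 2 (hk ▸ dvd_pow_self 2 hk0.ne')
            exact hev ((x : H) : G) (x : H).2 (by rw [Subgroup.orderOf_coe, Subgroup.orderOf_coe, hx])
          rw [this]; infer_instance
        · by_contra hnc
          obtain ⟨A, hAc, hAn⟩ := Cfsg.Agent.NoncyclicAbelian.exists_noncyclic_abelian hp2 P.2 hnc
          let ι : (P : Subgroup H) →* G := H.subtype.comp (P : Subgroup H).subtype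
          have hι : Function.Injective ι := H.subtype_injective.comp (P : Subgroup H).subtype_injective
          haveI : IsMulCommutative (A.map ι) := by
            haveI := hAc
            refine ⟨⟨?_⟩⟩
            rintro ⟨_, a, ha, rfl⟩ ⟨_, b, hb, rfl⟩
            exact Subtype.ext (by
              show ι a * ι b = ι b * ι a
              rw [← map_mul, ← map_mul]
              exact congrArg ι (congrArg Subtype.val (mul_comm' (⟨a, ha⟩ : A) ⟨b, hb⟩)))
          have := no_noncyclic_abelian hHL hcop hfix hne (A.map ι) (by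
            rintro _ ⟨a, -, rfl⟩
            exact (a : H).2)
          exact hAn ((MulEquiv.isCyclic (A.equivMapOfInjective ι hι)).mpr this)
      exact CfsgLib.Coprime.exists_invariant_sylow hHL hcop (Or.inl inferInstance) r
  obtain ⟨R₁, S₀, hlt, hR₁n, hHR, hHS, hsec⟩ := exists_section hHL hcop hfix hne H le_rfl hinv
  haveI : (S₀.subgroupOf R₁).Normal := Subgroup.normal_subgroupOf_of_le_normalizer hR₁n
  let f : H → R₁ →* R₁ := fun s =>
    { toFun := fun x => ⟨(s : G) * x * (s : G)⁻¹, (Subgroup.mem_normalizer_iff.mp (hHR s.2) x).mp x.2⟩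
      map_one' := Subtype.ext (by simp)
      map_mul' := fun x y => Subtype.ext (by simp [mul_assoc]) }
  let F : H → R₁ ⧸ S₀.subgroupOf R₁ →* R₁ ⧸ S₀.subgroupOf R₁ := fun s =>
    QuotientGroup.map _ _ (f s) fun x hx => (Subgroup.mem_normalizer_iff.mp (hHS s.2) (x : G)).mp hx
  have hFmul : ∀ s s' q, F (s * s') q = F s (F s' q) := by
    intro s s' q
    induction q using QuotientGroup.induction_on with
    | H x => exact congrArg QuotientGroup.mk (Subtype.ext (by
        show ((s * s' : H) : G) * x * ((s * s' : H) : G)⁻¹ = (s : G) * ((s' : G) * x * (s' : G)⁻¹) * (s : G)⁻¹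
        rw [Subgroup.coe_mul]; group))
  have hF1 : ∀ q, F 1 q = q := by
    intro q
    induction q using QuotientGroup.induction_on with
    | H x => exact congrArg QuotientGroup.mk (Subtype.ext (by
        show ((1 : H) : G) * x * ((1 : H) : G)⁻¹ = x
        simp))
  let φ : H →* MulAut (R₁ ⧸ S₀.subgroupOf R₁) :=
    { toFun := fun s =>
        { toFun := F s
          invFun := F s⁻¹
          left_inv := fun q => by rw [← hFmul, inv_mul_cancel, hF1]
          right_inv := fun q => by rw [← hFmul, mul_inv_cancel, hF1]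
          map_mul' := map_mul (F s) }
      map_one' := MulEquiv.ext hF1
      map_mul' := fun s s' => MulEquiv.ext (hFmul s s') }
  haveI : Nontrivial (R₁ ⧸ S₀.subgroupOf R₁) := by
    obtain ⟨x, hx, hxS⟩ := SetLike.exists_of_lt hlt
    exact ⟨⟨QuotientGroup.mk ⟨x, hx⟩, 1, fun h => hxS ((QuotientGroup.eq_one_iff (⟨x, hx⟩ : R₁)).mp h)⟩⟩
  haveI : Nontrivial H := (Subgroup.nontrivial_iff_ne_bot H).mpr hH1
  haveI : Finite ((R₁ ⧸ S₀.subgroupOf R₁) ⋊[φ] H) := Finite.of_equiv _ SemidirectProduct.equivProd.symm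
  refine ⟨(R₁ ⧸ S₀.subgroupOf R₁) ⋊[φ] H, inferInstance, inferInstance, _,
    CfsgLib.FrobCompl.isFrobeniusComplement_range_inr φ ?_, ⟨MonoidHom.ofInjective SemidirectProduct.inr_injective⟩⟩
  intro h h1 q hq
  induction q using QuotientGroup.induction_on with
  | H x =>
    have hq' : (QuotientGroup.mk (f h x) : R₁ ⧸ S₀.subgroupOf R₁) = QuotientGroup.mk x := hq
    rw [eq_comm, QuotientGroup.eq, Subgroup.mem_subgroupOf] at hq'
    exact (QuotientGroup.eq_one_iff x).mpr (Subgroup.mem_subgroupOf.mpr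
      (hsec h h.2 (fun e => h1 (Subtype.ext e)) x x.2 hq'))
end Cfsg.Agent.S4115
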