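import Cfsg.Statements.S4116
import Cfsg.Agent.Lib.Transfer.Sylow

set_option autoImplicit false
open Cfsg
open scoped Pointwise

namespace Cfsg.Agent.S4116

/-- A prime dividing the order of a malnormal subgroup does not divide its index. -/
theorem not_dvd_index {K : Type*} [Group K] [Finite K] {A : Subgroup K}
    (hA : ∀ k : K, k ∉ A → ∀ x ∈ A, k * x * k⁻¹ ∈ A → x = 1) {q : ℕ} [Fact q.Prime]
    (hq : q ∣ Nat.card A) : ¬ q ∣ A.index := by
  obtain ⟨x, hx⟩ := exists_prime_orderOf_dvd_card' q hq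
  rw [← Subgroup.orderOf_coe] at hx
  have hx1 : (x : K) ≠ 1 := fun h => by rw [h, orderOf_one] at hx; exact (Fact.out : q.Prime).ne_one hx.symm
  have hz : IsPGroup q (Subgroup.zpowers (x : K)) := IsPGroup.of_card (n := 1) (by rw [Nat.card_zpowers, hx, pow_one])
  obtain ⟨Q, hQ⟩ := hz.exists_le_sylow
  have hxQ : (x : K) ∈ (Q : Subgroup K) := hQ (Subgroup.mem_zpowers _)
  have hQA : (Q : Subgroup K) ≤ A := by
    by_contra hne
    have hlt := CfsgLib.Transfer.lt_inf_normalizer Q.2
      (lt_of_le_not_ge (inf_le_left : (Q : Subgroup K) ⊓ A ≤ Q) fun h => hne (h.trans inf_le_right))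
    obtain ⟨k, hk, hkA⟩ := SetLike.exists_of_lt hlt
    refine hx1 (hA k (fun h => hkA ⟨hk.1, h⟩) x x.2 ?_)
    exact ((Subgroup.mem_normalizer_iff.mp hk.2 x).mp ⟨hxQ, x.2⟩).2
  exact fun h => Q.not_dvd_index (h.trans (Subgroup.index_dvd_of_le hQA))

/-- Conjugates of a malnormal subgroup cover many elements. -/
theorem card_union {K : Type*} [Group K] [Finite K] {A : Subgroup K}
    (hA : ∀ k : K, k ∉ A → ∀ x ∈ A, k * x * k⁻¹ ∈ A → x = 1) :
    A.index * (Nat.card A - 1) ≤ Nat.card {z : K // z ≠ 1 ∧ ∃ k : K, k⁻¹ * z * k ∈ A} := by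
  classical
  haveI := Fintype.ofFinite A
  have hc : Nat.card {a : A // a ≠ 1} = Nat.card A - 1 := by
    rw [Nat.card_eq_fintype_card, Nat.card_eq_fintype_card, Fintype.card_subtype_compl, Fintype.card_subtype_eq]
  rw [Subgroup.index, ← hc, ← Nat.card_prod]
  refine Nat.card_le_card_of_injective (fun c => ⟨c.1.out * (c.2.1 : K) * c.1.out⁻¹, ?_, c.1.out, ?_⟩) ?_
  · intro h
    refine c.2.2 (Subtype.ext ?_)
    have := congrArg (fun t => c.1.out⁻¹ * t * c.1.out) h
    simpa [mul_assoc] using this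
  · have e : c.1.out⁻¹ * (c.1.out * (c.2.1 : K) * c.1.out⁻¹) * c.1.out = c.2.1 := by group
    rw [e]; exact c.2.1.2
  · rintro ⟨u, a, ha⟩ ⟨v, b, hb⟩ h
    have h' := congrArg Subtype.val h
    simp only at h'
    have e : v.out⁻¹ * u.out * (a : K) * (v.out⁻¹ * u.out)⁻¹ = b := by
      have := congrArg (fun t => v.out⁻¹ * t * v.out) h'
      rw [mul_inv_rev, inv_inv]
      simpa [mul_assoc] using this
    have hmem : v.out⁻¹ * u.out ∈ A := by
      by_contra hn
      exact ha (Subtype.ext (hA _ hn a a.2 (e ▸ b.2)))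
    have huv : v = u := by
      rw [← QuotientGroup.out_eq' v, ← QuotientGroup.out_eq' u, QuotientGroup.eq]
      exact hmem
    subst huv
    simp only [inv_mul_cancel, one_mul, inv_one, mul_one] at e
    simp [Subtype.ext e]


/-- Let G be a finite group with a subgroup H whose order is coprime to its index (a Hall subgroup) and which meets each of its conjugates by elements outside N_G(H) trivially. Then every subgroup of G whose order is divisible only by primes dividing the order of H lies in a conjugate of H. -/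
theorem result {G : Type*} [Group G] [Finite G] (H : Subgroup G)
    (hHall : (Nat.card H).Coprime H.index) (hTI : Cfsg.IsTISubset (H : Set G))
    (K : Subgroup G) (hK : ∀ q : ℕ, q.Prime → q ∣ Nat.card K → q ∣ Nat.card H) :
    ∃ g : G, K ≤ H.map (MulAut.conj g).toMonoidHom := by
  classical
  by_cases hK1 : Nat.card K = 1
  · exact ⟨1, (Subgroup.eq_bot_of_card_eq K hK1).le.trans bot_le⟩
  by_contra hno
  push Not at hno
  set C : G → Subgroup G := fun a => H.map (MulAut.conj a).toMonoidHom with hC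
  have hmemC : ∀ a x : G, x ∈ C a ↔ a⁻¹ * x * a ∈ H := fun a x => by
    simp only [hC]
    constructor
    · rintro ⟨y, hy, rfl⟩
      simpa [mul_assoc] using hy
    · exact fun h => ⟨_, h, by simp [mul_assoc]⟩
  have heq : ∀ a b x : G, x ∈ C a → x ∈ C b → x ≠ 1 → C a = C b := by
    intro a b x ha hb hx
    rw [hmemC] at ha hb
    have hn : b⁻¹ * a ∈ Subgroup.normalizer (H : Set G) := by
      by_contra hn
      have := hTI (b⁻¹ * a) hn _ ha (by
        have e : b⁻¹ * a * (a⁻¹ * x * a) * (b⁻¹ * a)⁻¹ = b⁻¹ * x * b := by group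
        rw [SetLike.mem_coe, e]; exact hb)
      exact hx (by simpa [mul_assoc] using congrArg (fun t => a * t * a⁻¹) this)
    ext y
    rw [hmemC, hmemC, Subgroup.mem_normalizer_iff.mp hn (a⁻¹ * y * a)]
    have e : b⁻¹ * a * (a⁻¹ * y * a) * (b⁻¹ * a)⁻¹ = b⁻¹ * y * b := by group
    rw [e]
  have hπ : ∀ k ∈ K, (orderOf k).Coprime H.index := by
    intro k hk
    refine Nat.coprime_of_dvd fun q hq hqk hqi => ?_
    refine hq.ne_one (Nat.dvd_one.mp ?_)
    rw [← hHall]
    exact Nat.dvd_gcd (hK q hq (hqk.trans (Subgroup.orderOf_dvd_natCard K hk))) hqi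
  have hmal : ∀ a : G, ∀ k ∈ K, ∀ x ∈ C a, x ≠ 1 → k * x * k⁻¹ ∈ C a → k ∈ C a := by
    intro a k hk x hx hx1 hkx
    set t := a⁻¹ * k * a with ht
    have htN : t ∈ Subgroup.normalizer (H : Set G) := by
      by_contra hn
      rw [hmemC] at hx hkx
      have := hTI t hn _ hx (by
        have e : t * (a⁻¹ * x * a) * t⁻¹ = a⁻¹ * (k * x * k⁻¹) * a := by rw [ht]; group
        rw [SetLike.mem_coe, e]; exact hkx)
      exact hx1 (by simpa [mul_assoc] using congrArg (fun s => a * s * a⁻¹) this)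
    rw [hmemC, ← ht]
    set N := Subgroup.normalizer (H : Set G)
    haveI : (H.subgroupOf N).Normal := Subgroup.normal_in_normalizer
    have hpow := Subgroup.pow_index_mem (H.subgroupOf N) ⟨t, htN⟩
    have hord : orderOf t = orderOf k := by
      rw [ht]
      have := orderOf_injective (MulAut.conj a⁻¹).toMonoidHom (MulAut.conj a⁻¹).injective k
      simpa using this
    have hcop : ((H.subgroupOf N).index).Coprime (orderOf t) := by
      rw [hord]
      refine Nat.Coprime.coprime_dvd_left ?_ (hπ k hk).symm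
      exact Subgroup.relIndex_dvd_index_of_le Subgroup.le_normalizer
    obtain ⟨m, hm⟩ := exists_pow_eq_self_of_coprime hcop
    rw [← hm]
    exact pow_mem (by simpa [Subgroup.mem_subgroupOf] using hpow) m
  have hexists : ∀ k ∈ K, (orderOf k).Prime → ∃ a : G, k ∈ C a := by
    intro k hk hq
    set q := orderOf k with hqdef
    haveI := Fact.mk hq
    have hqH : q ∣ Nat.card H := hK q hq (Subgroup.orderOf_dvd_natCard K hk)
    obtain ⟨S⟩ : Nonempty (Sylow q H) := inferInstance
    have hcard : Nat.card ((S : Subgroup H).map H.subtype) = q ^ (Nat.card G).factorization q := by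
      rw [Subgroup.card_subtype, S.card_eq_multiplicity]
      congr 1
      rw [← H.card_mul_index, Nat.factorization_mul Nat.card_pos.ne' Subgroup.index_ne_zero_of_finite, Finsupp.add_apply,
        Nat.factorization_eq_zero_of_not_dvd fun h => hq.ne_one (Nat.dvd_one.mp (hHall ▸ Nat.dvd_gcd hqH h)), add_zero]
    obtain ⟨P, hP⟩ := (IsPGroup.of_card (n := 1) (by rw [Nat.card_zpowers, pow_one]) : IsPGroup q (Subgroup.zpowers k)).exists_le_sylow
    obtain ⟨a, ha⟩ := MulAction.exists_smul_eq G (Sylow.ofCard _ hcard) P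
    refine ⟨a, ?_⟩
    have hkP := hP (Subgroup.mem_zpowers k)
    rw [← ha, Sylow.coe_subgroup_smul] at hkP
    obtain ⟨y, hy, hye⟩ := hkP
    exact ⟨y, Subgroup.map_subtype_le (S : Subgroup H) hy, hye⟩
  set D : G → Subgroup K := fun a => (C a).subgroupOf K with hD
  have hDmal : ∀ a, ∀ k : K, k ∉ D a → ∀ x ∈ D a, k * x * k⁻¹ ∈ D a → x = 1 := by
    intro a k hk x hx hkx
    by_contra hx1
    exact hk (hmal a k k.2 x hx (fun h => hx1 (Subtype.ext h)) hkx)
  have hDtop : ∀ a, (D a).index ≠ 1 := fun a h =>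
    hno a (Subgroup.subgroupOf_eq_top.mp (Subgroup.index_eq_one.mp h))
  obtain ⟨q₁, hq₁, hd₁⟩ := Nat.exists_prime_and_dvd hK1
  haveI := Fact.mk hq₁
  obtain ⟨x₁, hx₁⟩ := exists_prime_orderOf_dvd_card' q₁ hd₁
  obtain ⟨a, ha⟩ := hexists x₁ x₁.2 (by rw [Subgroup.orderOf_coe, hx₁]; exact hq₁)
  obtain ⟨q₂, hq₂, hd₂⟩ := Nat.exists_prime_and_dvd (hDtop a)
  haveI := Fact.mk hq₂
  obtain ⟨x₂, hx₂⟩ := exists_prime_orderOf_dvd_card' q₂ (hd₂.trans (Subgroup.index_dvd_card _) : q₂ ∣ Nat.card K)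
  obtain ⟨b, hb⟩ := hexists x₂ x₂.2 (by rw [Subgroup.orderOf_coe, hx₂]; exact hq₂)
  have hx1 : ∀ {q : ℕ}, q.Prime → ∀ {x : K}, orderOf x = q → x ≠ 1 := fun hq x hx h => by
    rw [h, orderOf_one] at hx; exact hq.ne_one hx.symm
  -- the conjugates of the two subgroups are disjoint
  have hdisj : ∀ z : K, z ≠ 1 → (∃ k : K, k⁻¹ * z * k ∈ D a) → (∃ l : K, l⁻¹ * z * l ∈ D b) → False := by
    intro z hz ⟨k, hk⟩ ⟨l, hl⟩
    have hk' : (z : G) ∈ C ((k : G) * a) := by
      rw [hmemC]
      have h := (hmemC a _).mp hk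
      simpa [mul_assoc] using h
    have hl' : (z : G) ∈ C ((l : G) * b) := by
      rw [hmemC]
      have h := (hmemC b _).mp hl
      simpa [mul_assoc] using h
    have hab := heq _ _ _ hk' hl' fun h => hz (Subtype.ext h)
    have hmem : (l * x₂ * l⁻¹ : K) ∈ D ((k : G) * a) := by
      show ((l * x₂ * l⁻¹ : K) : G) ∈ C ((k : G) * a)
      rw [hab, hmemC]
      simpa [mul_assoc] using (hmemC b _).mp hb
    set w := k⁻¹ * (l * x₂ * l⁻¹) * k with hw
    have hwD : w ∈ D a := by
      show (w : G) ∈ C a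
      rw [hmemC]
      simpa [hw, mul_assoc] using (hmemC _ _).mp hmem
    have hwo : orderOf w = q₂ := by
      rw [hw, ← hx₂]
      have := orderOf_injective (MulAut.conj (k⁻¹ * l)).toMonoidHom (MulAut.conj (k⁻¹ * l)).injective x₂
      simpa [mul_assoc] using this
    exact not_dvd_index (hDmal a) (hwo ▸ Subgroup.orderOf_dvd_natCard (D a) hwD) hd₂
  have hA := card_union (hDmal a)
  have hB := card_union (hDmal b)
  have hAB : Nat.card {z : K // z ≠ 1 ∧ ∃ k : K, k⁻¹ * z * k ∈ D a} + Nat.card {z : K // z ≠ 1 ∧ ∃ k : K, k⁻¹ * z * k ∈ D b} <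
      Nat.card K := by
    haveI := Fintype.ofFinite K
    rw [Nat.card_eq_fintype_card, Nat.card_eq_fintype_card, Nat.card_eq_fintype_card, Fintype.card_subtype,
      Fintype.card_subtype, ← Finset.card_union_of_disjoint, ← Finset.card_univ]
    · refine Finset.card_lt_card ((Finset.ssubset_iff_of_subset (Finset.subset_univ _)).mpr ⟨1, Finset.mem_univ _, ?_⟩)
      simp
    · rw [Finset.disjoint_left]
      intro z h1 h2
      simp only [Finset.mem_filter, Finset.mem_univ, true_and] at h1 h2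
      exact hdisj z h1.1 h1.2 h2.2
  have hhalf : ∀ c (x : K), x ∈ D c → x ≠ 1 → Nat.card K ≤ 2 * ((D c).index * (Nat.card (D c) - 1)) := by
    intro c x hx hx1
    have h2 : 2 ≤ Nat.card (D c) := by
      haveI : Nontrivial (D c) := ⟨⟨x, hx⟩, 1, fun h => hx1 (congrArg Subtype.val h)⟩
      exact Finite.one_lt_card
    rw [← (D c).index_mul_card, Nat.mul_left_comm]
    exact Nat.mul_le_mul_left _ (by omega)
  have h3 := hhalf a x₁ ha (hx1 hq₁ hx₁)
  have h4 := hhalf b x₂ hb (hx1 hq₂ hx₂)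
  omega
end Cfsg.Agent.S4116
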