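import Cfsg.Statements.S4117
import Cfsg.Agent.Lib.Coprime.Generation

set_option autoImplicit false
set_option linter.style.haveILetI false
open Cfsg

namespace Cfsg.Agent.S4117

open scoped commutatorElement
open CfsgLib.Coprime

theorem mulAut_comm {H : Type*} [Group H] [Finite H] [IsCyclic H] (u v : MulAut H) : u * v = v * u := by
  ext z
  obtain ⟨g, hg⟩ := IsCyclic.exists_generator (α := H)
  obtain ⟨i, hi⟩ := Subgroup.mem_zpowers_iff.mp (hg (u g))
  obtain ⟨j, hj⟩ := Subgroup.mem_zpowers_iff.mp (hg (v g))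
  obtain ⟨k, rfl⟩ := Subgroup.mem_zpowers_iff.mp (hg z)
  simp only [map_zpow, MulAut.mul_apply]
  rw [← hj, map_zpow, ← hi, map_zpow, ← hj]
  simp only [← zpow_mul]
  congr 1
  ring

theorem isCyclic_of_commutator_self {X : Type*} [Group X] [Finite X] {A W : Subgroup X}
    (hAW : A ≤ Subgroup.normalizer (W : Set X)) (hWA : ⁅W, A⁆ = W) (hZ : IsZGroup W) :
    IsCyclic W := by
  haveI := hZ
  set D := ⁅W, W⁆ with hD
  have hDW : D ≤ W := commutator_le_left_of_le_normalizer Subgroup.le_normalizer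
  set T := W ⊔ A with hT
  have hTD : T ≤ Subgroup.normalizer (D : Set X) :=
    sup_le (le_normalizer_commutator Subgroup.le_normalizer Subgroup.le_normalizer)
      (le_normalizer_commutator hAW hAW)
  haveI : IsCyclic D := by
    have h1 := IsZGroup.isCyclic_commutator (G := W)
    exact ((commutator W).equivMapOfInjective W.subtype W.subtype_injective |>.trans
      (MulEquiv.subgroupCongr (Subgroup.map_subtype_commutator W))).isCyclic.mp h1
  let φ : T →* MulAut D := (Subgroup.normalizerMonoidHom D).comp (Subgroup.inclusion hTD)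
  have hker : ⁅W, A⁆ ≤ Subgroup.centralizer (D : Set X) := by
    refine Subgroup.commutator_le.mpr fun w hw a ha => ?_
    have hwT : w ∈ T := Subgroup.mem_sup_left hw
    have haT : a ∈ T := Subgroup.mem_sup_right ha
    have h2 : φ ⁅(⟨w, hwT⟩ : T), ⟨a, haT⟩⁆ = 1 := by
      rw [map_commutatorElement, commutatorElement_eq_one_iff_commute]
      exact mulAut_comm _ _
    intro d hd
    have h3 := congrArg Subtype.val (DFunLike.congr_fun h2 ⟨d, hd⟩)
    change ⁅w, a⁆ * d * ⁅w, a⁆⁻¹ = d at h3
    exact (mul_inv_eq_iff_eq_mul.mp h3).symm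
  rw [hWA] at hker
  have hle : commutator W ≤ Subgroup.center W := by
    intro d hd
    refine Subgroup.mem_center_iff.mpr fun w => Subtype.ext ?_
    have hdD : (d : X) ∈ D := by
      rw [hD, ← Subgroup.map_subtype_commutator W]
      exact Subgroup.mem_map_of_mem _ hd
    exact (hker w.2 _ hdD).symm
  haveI : Group.IsNilpotent W := ⟨⟨2, eq_top_iff.mpr fun u _ => by
    rw [Subgroup.mem_upperCentralSeries_succ_iff]
    intro v
    rw [Subgroup.upperCentralSeries_one]
    exact hle (Subgroup.commutator_mem_commutator (Subgroup.mem_top u) (Subgroup.mem_top v))⟩⟩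
  infer_instance

open scoped Pointwise in
theorem semidirect_facts {G A : Type*} [Group G] [Finite G] [Group A] [Finite A]
    [MulDistribMulAction A G] (hcop : (Nat.card A).Coprime (Nat.card G)) (hZ : IsZGroup G) :
    ∀ (W C : Subgroup G), (W = Subgroup.closure {y : G | ∃ (a : A) (g : G), y = g⁻¹ * a • g}) →
      (∀ g, g ∈ C ↔ ∀ a : A, a • g = g) →
      IsCyclic W ∧ W.Normal ∧ W ⊓ C = ⊥ ∧ W ⊔ C = ⊤ ∧ (Nat.card C).Coprime C.index := by
  intro W C hW hC
  haveI := hZ
  set φ : A →* MulAut G := MulDistribMulAction.toMulAut A G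
  haveI : Finite (G ⋊[φ] A) := Finite.of_equiv _ SemidirectProduct.equivProd.symm
  let inl : G →* (G ⋊[φ] A) := SemidirectProduct.inl
  let inr : A →* (G ⋊[φ] A) := SemidirectProduct.inr
  set Gi := inl.range
  set Ai := inr.range
  haveI hGn : Gi.Normal := by
    rw [show Gi = (SemidirectProduct.rightHom : (G ⋊[φ] A) →* A).ker from SemidirectProduct.range_inl_eq_ker_rightHom]
    exact MonoidHom.normal_ker _
  have hAG : Ai ≤ Subgroup.normalizer (Gi : Set (G ⋊[φ] A)) := Subgroup.le_normalizer_of_normal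
  have hcG : Nat.card Gi = Nat.card G :=
    (Nat.card_congr (MonoidHom.ofInjective SemidirectProduct.inl_injective).toEquiv).symm
  have hcA : Nat.card Ai = Nat.card A :=
    (Nat.card_congr (MonoidHom.ofInjective SemidirectProduct.inr_injective).toEquiv).symm
  have hcop' : (Nat.card Ai).Coprime (Nat.card Gi) := by rw [hcG, hcA]; exact hcop
  have hsolvG : Group.IsSolvable Gi :=
    Group.isSolvable_of_surjective (f := inl.rangeRestrict) inl.rangeRestrict_surjective
  have hsolv : Group.IsSolvable Ai ∨ Group.IsSolvable Gi := Or.inr hsolvG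
  have hact : ∀ (a : A) (g : G), inr a * inl g * (inr a)⁻¹ = inl (a • g) := fun a g => by
    rw [← map_inv, ← SemidirectProduct.inl_aut]; rfl
  have hmapW : W.map inl = ⁅Gi, Ai⁆ := by
    refine le_antisymm ?_ (Subgroup.commutator_le.mpr ?_)
    · rw [hW, MonoidHom.map_closure, Subgroup.closure_le]
      rintro _ ⟨_, ⟨a, g, rfl⟩, rfl⟩
      rw [map_mul, map_inv, ← hact, show (inl g)⁻¹ * (inr a * inl g * (inr a)⁻¹) = ⁅(inl g)⁻¹, inr a⁆ by
        rw [commutatorElement_def]; group]
      exact Subgroup.commutator_mem_commutator (inv_mem ⟨g, rfl⟩) ⟨a, rfl⟩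
    · rintro _ ⟨g, rfl⟩ _ ⟨a, rfl⟩
      refine ⟨g⁻¹⁻¹ * a • g⁻¹, ?_, ?_⟩
      · rw [hW]; exact Subgroup.subset_closure ⟨a, g⁻¹, rfl⟩
      · rw [inv_inv, map_mul, ← hact, map_inv, commutatorElement_def]; group
  have hmapC : C.map inl = Gi ⊓ Subgroup.centralizer (Ai : Set (G ⋊[φ] A)) := by
    apply le_antisymm
    · rintro _ ⟨g, hg, rfl⟩
      refine Subgroup.mem_inf.mpr ⟨⟨g, rfl⟩, ?_⟩
      rintro _ ⟨a, rfl⟩
      have := hact a g
      rw [(hC g).mp hg a] at this
      exact mul_inv_eq_iff_eq_mul.mp this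
    · intro x hx
      obtain ⟨⟨g, rfl⟩, hxc⟩ := Subgroup.mem_inf.mp hx
      refine ⟨g, (hC g).mpr fun a => SemidirectProduct.inl_injective (φ := φ) ?_, rfl⟩
      show inl (a • g) = inl g
      rw [← hact, hxc _ ⟨a, rfl⟩, mul_inv_cancel_right]
  have hWn : W.Normal := by
    have h1 : Gi ≤ Subgroup.normalizer ((⁅Gi, Ai⁆ : Subgroup (G ⋊[φ] A)) : Set (G ⋊[φ] A)) := by
      intro x hx
      have hsub : ⁅Gi, Ai⁆ ≤ Gi := commutator_le_left_of_le_normalizer hAG
      refine Subgroup.mem_normalizer_iff.mpr fun y => ?_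
      have key : ∀ x ∈ Gi, ∀ y ∈ ⁅Gi, Ai⁆, x * y * x⁻¹ ∈ ⁅Gi, Ai⁆ := by
        intro x hx y hy
        induction hy using Subgroup.closure_induction with
        | mem z hz =>
          obtain ⟨g, hg, a, ha, rfl⟩ := hz
          rw [show x * ⁅g, a⁆ * x⁻¹ = ⁅x * g, a⁆ * ⁅x, a⁆⁻¹ by simp only [commutatorElement_def]; group]
          exact mul_mem (Subgroup.commutator_mem_commutator (mul_mem hx hg) ha)
            (inv_mem (Subgroup.commutator_mem_commutator hx ha))
        | one => simp
        | mul u v _ _ hu hv => (have e := mul_mem hu hv; rw [show x * (u * v) * x⁻¹ = x * u * x⁻¹ * (x * v * x⁻¹) by group]; exact e)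
        | inv u _ hu => (have e := inv_mem hu; rw [show x * u⁻¹ * x⁻¹ = (x * u * x⁻¹)⁻¹ by group]; exact e)
      refine ⟨key x hx y, fun h => ?_⟩
      have h2 := key x⁻¹ (inv_mem hx) _ h
      rwa [show x⁻¹ * (x * y * x⁻¹) * x⁻¹⁻¹ = y by group] at h2
    refine ⟨fun w hw g => ?_⟩
    have h2 := (Subgroup.mem_normalizer_iff.mp (h1 ⟨g, rfl⟩) (inl w)).mp (hmapW ▸ ⟨w, hw, rfl⟩)
    rw [← map_inv, ← map_mul, ← map_mul, ← hmapW] at h2
    obtain ⟨w', hw', he⟩ := h2
    exact (SemidirectProduct.inl_injective he) ▸ hw'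
  have hZW : IsZGroup ↥(⁅Gi, Ai⁆) := by
    rw [← hmapW]
    exact IsZGroup.of_surjective (f := (W.equivMapOfInjective inl SemidirectProduct.inl_injective).toMonoidHom)
      (W.equivMapOfInjective inl SemidirectProduct.inl_injective).surjective
  have hAWn : Ai ≤ Subgroup.normalizer ((⁅Gi, Ai⁆ : Subgroup (G ⋊[φ] A)) : Set (G ⋊[φ] A)) :=
    le_normalizer_commutator hAG Subgroup.le_normalizer
  have hWW := commutator_commutator_eq hAG hcop' hsolv
  have hWcyc := isCyclic_of_commutator_self hAWn hWW hZW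
  have hcycW : IsCyclic W :=
    ((W.equivMapOfInjective inl SemidirectProduct.inl_injective).trans
      (MulEquiv.subgroupCongr hmapW)).isCyclic.mpr hWcyc
  haveI := IsCyclic.commGroup (α := ↥(⁅Gi, Ai⁆))
  haveI hWab : IsMulCommutative ↥(⁅Gi, Ai⁆) := ⟨⟨fun u v => mul_comm' u v⟩⟩
  have hbot := centralizer_inf_commutator_eq_bot hAWn
    (hcop'.coprime_dvd_right (Subgroup.card_dvd_of_le (commutator_le_left_of_le_normalizer hAG)))
  rw [hWW] at hbot
  have hWC : W ⊓ C = ⊥ := by
    rw [eq_bot_iff]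
    intro w hw
    have h1 : inl w ∈ W.map inl := ⟨w, hw.1, rfl⟩
    have h2 : inl w ∈ C.map inl := ⟨w, hw.2, rfl⟩
    rw [hmapW] at h1
    rw [hmapC] at h2
    have h3 : inl w ∈ (⊥ : Subgroup (G ⋊[φ] A)) := hbot ▸
      (⟨⟨h1, (Subgroup.mem_inf.mp h2).2⟩, h1⟩)
    rw [Subgroup.mem_bot, ← map_one inl] at h3
    exact Subgroup.mem_bot.mpr (SemidirectProduct.inl_injective h3)
  have htop : W ⊔ C = ⊤ := by
    refine Subgroup.map_injective SemidirectProduct.inl_injective (f := inl) ?_
    rw [Subgroup.map_sup, hmapW, hmapC, ← MonoidHom.range_eq_map]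
    exact commutator_sup_centralizer hAG hcop' hsolv
  refine ⟨hcycW, hWn, hWC, htop, ?_⟩
  have hidx : C.index = Nat.card W := by
    refine Nat.eq_of_mul_eq_mul_left (Nat.card_pos (α := C)) ?_
    have h1 := card_sup_mul_card_inf (K := W) (S := C) Subgroup.le_normalizer_of_normal
    rw [htop, hWC, Subgroup.card_top, Subgroup.card_bot, mul_one] at h1
    rw [C.card_mul_index, h1, mul_comm]
  rw [hidx, Nat.coprime_iff_gcd_eq_one]
  by_contra hg
  obtain ⟨q, hq, hqd⟩ := Nat.exists_prime_and_dvd hg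
  haveI := Fact.mk hq
  obtain ⟨c, hc⟩ := exists_prime_orderOf_dvd_card' (G := C) q (hqd.trans (Nat.gcd_dvd_left _ _))
  obtain ⟨w, hw⟩ := exists_prime_orderOf_dvd_card' (G := W) q (hqd.trans (Nat.gcd_dvd_right _ _))
  rw [← Subgroup.orderOf_coe] at hc hw
  set Q := Subgroup.zpowers (w : G)
  haveI : Q.Normal := ⟨fun z hz g => by
    have h4 : g * (w : G) * g⁻¹ ∈ W := hWn.conj_mem _ w.2 g
    haveI := hcycW
    have h5 : (⟨_, h4⟩ : W) ∈ Subgroup.zpowers w :=
      (IsCyclic.commGroup (α := W)) |> fun _ => by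
        classical
        haveI : Fintype W := Fintype.ofFinite _
        have hmem : ∀ u : W, u ^ q = 1 → u ∈ Subgroup.zpowers w := by
          intro u hu
          have hsub : (Finset.univ.filter fun v : W => v ∈ Subgroup.zpowers w) ⊆
              (Finset.univ.filter fun v : W => v ^ q = 1) := by
            intro v hv
            simp only [Finset.mem_filter, Finset.mem_univ, true_and] at hv ⊢
            obtain ⟨i, rfl⟩ := Subgroup.mem_zpowers_iff.mp hv
            rw [← zpow_natCast, ← zpow_mul, mul_comm, zpow_mul, zpow_natCast]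
            rw [show w ^ q = 1 from Subtype.ext (by rw [SubgroupClass.coe_pow, ← hw, pow_orderOf_eq_one]; rfl), one_zpow]
          have hle := IsCyclic.card_pow_eq_one_le (α := W) hq.pos
          have heq := Finset.eq_of_subset_of_card_le hsub (le_trans hle (le_of_eq ?_))
          · have : u ∈ (Finset.univ.filter fun v : W => v ^ q = 1) := by simp [hu]
            rw [← heq] at this
            simpa using this
          · rw [← Fintype.card_subtype, ← Nat.card_eq_fintype_card]
            show q = Nat.card (Subgroup.zpowers w)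
            rw [Nat.card_zpowers, ← hw, Subgroup.orderOf_coe]
        refine hmem _ (Subtype.ext ?_)
        show (g * (w : G) * g⁻¹) ^ q = 1
        rw [conj_pow, ← hw, pow_orderOf_eq_one]; group
    obtain ⟨i, hi⟩ := Subgroup.mem_zpowers_iff.mp hz
    rw [← hi, ← conj_zpow]
    obtain ⟨j, hj⟩ := Subgroup.mem_zpowers_iff.mp h5
    have hj' : (w : G) ^ j = g * w * g⁻¹ := congrArg Subtype.val hj
    rw [← hj']
    exact zpow_mem (zpow_mem (Subgroup.mem_zpowers _) j) i⟩
  set R := Q ⊔ Subgroup.zpowers (c : G)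
  have hQp : IsPGroup q Q := IsPGroup.of_card (n := 1) (by rw [Nat.card_zpowers, hw, pow_one])
  have hcp : IsPGroup q (Subgroup.zpowers (c : G)) := IsPGroup.of_card (n := 1) (by rw [Nat.card_zpowers, hc, pow_one])
  haveI : IsCyclic R := (hQp.to_sup_of_normal_left' hcp Subgroup.le_normalizer_of_normal).isCyclic_of_isZGroup
  classical
  haveI : Fintype R := Fintype.ofFinite _
  have hwR : (w : G) ∈ R := Subgroup.mem_sup_left (Subgroup.mem_zpowers _)
  have hcR : (c : G) ∈ R := Subgroup.mem_sup_right (Subgroup.mem_zpowers _)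
  have hsub : (Finset.univ.filter fun v : R => v ∈ Subgroup.zpowers ⟨(w : G), hwR⟩) ⊆
      (Finset.univ.filter fun v : R => v ^ q = 1) := by
    intro v hv
    simp only [Finset.mem_filter, Finset.mem_univ, true_and] at hv ⊢
    obtain ⟨i, rfl⟩ := Subgroup.mem_zpowers_iff.mp hv
    rw [← zpow_natCast, ← zpow_mul, mul_comm, zpow_mul, zpow_natCast]
    rw [show (⟨(w : G), hwR⟩ : R) ^ q = 1 from Subtype.ext (by rw [SubgroupClass.coe_pow]; show (w : G) ^ q = 1; rw [← hw, pow_orderOf_eq_one]), one_zpow]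
  have heq := Finset.eq_of_subset_of_card_le hsub (le_trans (IsCyclic.card_pow_eq_one_le (α := R) hq.pos) (le_of_eq ?_))
  swap
  · rw [← Fintype.card_subtype, ← Nat.card_eq_fintype_card]
    show q = Nat.card (Subgroup.zpowers (⟨(w : G), hwR⟩ : R))
    rw [Nat.card_zpowers, Subgroup.orderOf_mk, hw]
  have hcmem : (⟨(c : G), hcR⟩ : R) ∈ (Finset.univ.filter fun v : R => v ^ q = 1) := by
    simp only [Finset.mem_filter, Finset.mem_univ, true_and]
    exact Subtype.ext (by rw [SubgroupClass.coe_pow]; show (c : G) ^ q = 1; rw [← hc, pow_orderOf_eq_one])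
  rw [← heq] at hcmem
  simp only [Finset.mem_filter, Finset.mem_univ, true_and] at hcmem
  obtain ⟨i, hi⟩ := Subgroup.mem_zpowers_iff.mp hcmem
  have hcW : (c : G) ∈ W := by
    have hi' : (w : G) ^ i = c := congrArg Subtype.val hi
    rw [← hi']; exact zpow_mem w.2 i
  have hc1 : (c : G) ∈ W ⊓ C := ⟨hcW, c.2⟩
  rw [hWC, Subgroup.mem_bot] at hc1
  rw [hc1, orderOf_one] at hc
  exact hq.ne_one hc.symm

/-- Let A be a finite group acting on the finite group G by automorphisms with the orders of A and G coprime, and suppose every Sylow subgroup of G is cyclic. Then the fixed-point subgroup C_G(A) is a Hall subgroup of G (its order is coprime to its index), the subgroup [G, A] generated by the elements g⁻¹·a(g) is cyclic and normal with [G, A] ∩ C_G(A) = 1 and [G, A]·C_G(A) = G. -/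
theorem result {G A : Type*} [Group G] [Finite G] [Group A] [Finite A]
    [MulDistribMulAction A G] (hcop : (Nat.card A).Coprime (Nat.card G))
    (hcyc : ∀ (p : ℕ) [Fact p.Prime] (P : Sylow p G), IsCyclic (P : Subgroup G)) :
    (Nat.card (MulAction.fixedPoints A G : Set G)).Coprime (Nat.card G / Nat.card (MulAction.fixedPoints A G : Set G)) ∧
    IsCyclic (Subgroup.closure {y : G | ∃ (a : A) (g : G), y = g⁻¹ * a • g}) ∧
    (Subgroup.closure {y : G | ∃ (a : A) (g : G), y = g⁻¹ * a • g}).Normal ∧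
    (Subgroup.closure {y : G | ∃ (a : A) (g : G), y = g⁻¹ * a • g} : Set G) ∩ MulAction.fixedPoints A G = {1} ∧
    Subgroup.closure {y : G | ∃ (a : A) (g : G), y = g⁻¹ * a • g} ⊔ Subgroup.closure (MulAction.fixedPoints A G) = ⊤ := by
  let C : Subgroup G :=
    { carrier := MulAction.fixedPoints A G
      one_mem' := fun a => smul_one a
      mul_mem' := fun {u v} hu hv a => by rw [smul_mul', hu a, hv a]
      inv_mem' := fun {u} hu a => by rw [smul_inv', hu a] }
  obtain ⟨h1, h2, h3, h4, h5⟩ := semidirect_facts (G := G) (A := A) hcop ⟨fun q hq P => @hcyc q ⟨hq⟩ P⟩ _ C rfl fun g => Iff.rfl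
  have hC : Subgroup.closure (MulAction.fixedPoints A G : Set G) = C := Subgroup.closure_eq C
  have hdiv : Nat.card G / Nat.card C = C.index := by
    rw [← C.card_mul_index, Nat.mul_div_cancel_left _ Nat.card_pos]
  refine ⟨?_, h1, h2, ?_, ?_⟩
  · show (Nat.card C).Coprime (Nat.card G / Nat.card C)
    rw [hdiv]; exact h5
  · have := congrArg SetLike.coe h3
    rw [Subgroup.coe_inf, Subgroup.coe_bot] at this
    exact this
  · rw [hC]; exact h4
end Cfsg.Agent.S4117
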