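import Cfsg.Statements.S4126
import Cfsg.Agent.Lib.Transfer.SmallElements

set_option autoImplicit false
open Cfsg

namespace Cfsg.Agent.S4126

theorem exists_mem_sylow_conj {G : Type*} [Group G] [Finite G] {p : ℕ} [Fact p.Prime] (C : Subgroup G)
    (hC : ∃ a, C.index = p ^ a) (P : Sylow p G) (g : G) : ∃ u ∈ (P : Subgroup G), ∃ c ∈ C, g = u * c := by
  obtain ⟨a, ha⟩ := hC
  set D := C.subgroupOf (P : Subgroup G)
  have hle : Nat.card (G ⧸ C) ≤ Nat.card ((P : Subgroup G) ⧸ D) := by
    show C.index ≤ D.index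
    have h1 : D.index * Nat.card D = Nat.card (P : Subgroup G) := Subgroup.index_mul_card D
    have h2 : Nat.card D ∣ Nat.card C := by
      rw [← Subgroup.card_map_of_injective (P : Subgroup G).subtype_injective, Subgroup.subgroupOf_map_subtype]
      exact Subgroup.card_dvd_of_le inf_le_left
    obtain ⟨b, hb⟩ := IsPGroup.iff_card.mp (P.2.to_subgroup D)
    obtain ⟨e, he⟩ := h2
    have h3 : C.index * Nat.card C = Nat.card G := Subgroup.index_mul_card C
    have h4 : p ^ (a + b) ∣ Nat.card G := by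
      rw [← h3, ha, he, hb, pow_add]
      exact mul_dvd_mul_left _ (dvd_mul_right _ _)
    have h5 : p ^ (a + b) ∣ Nat.card (P : Subgroup G) := by
      rw [P.card_eq_multiplicity]
      exact pow_dvd_pow p ((Fact.out : p.Prime).pow_dvd_iff_le_factorization Nat.card_pos.ne' |>.mp h4)
    have h6 : p ^ (a + b) ≤ D.index * p ^ b := by
      rw [← hb, h1]; exact Nat.le_of_dvd Nat.card_pos h5
    rw [pow_add] at h6
    rw [ha]
    exact Nat.le_of_mul_le_mul_right h6 (Nat.pow_pos (Fact.out : p.Prime).pos)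
  let φ : ((P : Subgroup G) ⧸ D) → G ⧸ C := fun q =>
    Quotient.liftOn' q (fun u => ((u : G) : G ⧸ C)) fun u v huv => by
      rw [QuotientGroup.leftRel_apply] at huv
      exact QuotientGroup.eq.mpr huv
  have hinj : Function.Injective φ := by
    rintro ⟨u⟩ ⟨v⟩ h
    exact QuotientGroup.eq.mpr (QuotientGroup.eq.mp h : (u : G)⁻¹ * v ∈ C)
  obtain ⟨q, hq⟩ := (hinj.bijective_of_nat_card_le hle).2 (g : G ⧸ C)
  induction q using QuotientGroup.induction_on with
  | H u => exact ⟨u, u.2, (u : G)⁻¹ * g, QuotientGroup.eq.mp hq, by group⟩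

/-- Let G be a finite group and p a prime. Suppose every element of order p, and when p = 2 also every element of order 4, has a conjugacy class of p-power size. Then G has a normal p-complement. -/
theorem result {G : Type*} [Group G] [Finite G] (p : ℕ) [Fact p.Prime]
    (h : ∀ x : G, (orderOf x = p ∨ (p = 2 ∧ orderOf x = 4)) → ∃ a : ℕ, (Subgroup.centralizer ({x} : Set G)).index = p ^ a) :
    Cfsg.HasNormalPComplement p G := by
  classical
  refine CfsgLib.Transfer.hasNormalPComplement_of_pAutomizers fun Q hQ g hg hgc => ?_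
  obtain ⟨P, hQP⟩ := hQ.exists_le_sylow
  haveI : Group.IsNilpotent (P : Subgroup G) := P.2.isNilpotent
  let F : ℕ → Subgroup G := fun i => (Subgroup.upperCentralSeries (P : Subgroup G) i).map (P : Subgroup G).subtype
  have hF0 : F 0 = ⊥ := by
    show (Subgroup.upperCentralSeries (P : Subgroup G) 0).map _ = ⊥
    rw [Subgroup.upperCentralSeries_zero, Subgroup.map_bot]
  refine CfsgLib.Transfer.mem_centralizer_of_series F hF0 ?_ (Group.nilpotencyClass (P : Subgroup G)) Q hQ ?_ g hg hgc
  · rintro i R _ hR u _ x hx hsmall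
    obtain ⟨⟨x', hx'P⟩, hxi, rfl⟩ := hR hx
    show u * x' * u⁻¹ * x'⁻¹ ∈ F i
    by_cases h1 : x' = 1
    · rw [h1, mul_one, mul_inv_cancel, inv_one, mul_one]; exact one_mem _
    have hord : orderOf x' = p ∨ (p = 2 ∧ orderOf x' = 4) := by
      rcases hsmall with hs | ⟨hp2, hs⟩
      · exact Or.inl (orderOf_eq_prime hs h1)
      · by_cases h2 : x' ^ 2 = 1
        · exact Or.inl (hp2 ▸ orderOf_eq_prime h2 h1)
        · exact Or.inr ⟨hp2, orderOf_eq_prime_pow (p := 2) (n := 1) (by simpa using h2) (by simpa using hs)⟩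
    obtain ⟨v, hv, c, hc, rfl⟩ := exists_mem_sylow_conj _ (h x' hord) P u
    have hcomm := Subgroup.mem_centralizer_singleton_iff.mp hc
    have he : v * c * x' * (v * c)⁻¹ * x'⁻¹ = v * x' * v⁻¹ * x'⁻¹ := by
      calc v * c * x' * (v * c)⁻¹ * x'⁻¹ = v * (c * x') * c⁻¹ * v⁻¹ * x'⁻¹ := by group
        _ = v * x' * v⁻¹ * x'⁻¹ := by rw [hcomm]; group
    rw [he]
    have hmem := inv_mem (Subgroup.mem_upperCentralSeries_succ_iff.mp hxi ⟨v, hv⟩)
    exact ⟨_, hmem, by simp [commutatorElement_def, mul_assoc]⟩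
  · intro y hy
    refine ⟨⟨y, hQP hy⟩, ?_, rfl⟩
    rw [SetLike.mem_coe, Subgroup.upperCentralSeries_nilpotencyClass]
    trivial
end Cfsg.Agent.S4126
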