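import Cfsg.Statements.S4127
import Cfsg.Agent.S4035
import Cfsg.Agent.S4126
import Cfsg.Agent.Lib.Coprime.Action
import Cfsg.Agent.Lib.Fitting.Basic

set_option autoImplicit false
open Cfsg
open scoped Pointwise

namespace Cfsg.Agent.S4127

open Cfsg.Agent.S4035 (index_centralizer_eq)


/-- Let G be a finite group, p a prime and p^a the largest power of p dividing the size of any conjugacy class of G. If some element of p-power order has a conjugacy class of size exactly p^a, then G has a normal p-complement. -/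
theorem result {G : Type*} [Group G] [Finite G] (p : ℕ) [Fact p.Prime]
    (a : ℕ) (hmax : ∀ y : G, ¬ p ^ (a + 1) ∣ (Subgroup.centralizer ({y} : Set G)).index)
    (hx : ∃ x : G, (∃ k : ℕ, orderOf x = p ^ k) ∧ (Subgroup.centralizer ({x} : Set G)).index = p ^ a) :
    Cfsg.HasNormalPComplement p G := by
  classical
  obtain ⟨x, ⟨k, hk⟩, hxi⟩ := hx
  set C := Subgroup.centralizer ({x} : Set G) with hC
  have hxC : x ∈ C := Subgroup.mem_centralizer_singleton_iff.mpr rfl
  have hreg : ∀ y : C, (orderOf y).Coprime p → ¬ p ∣ (ConjClasses.mk y).carrier.ncard := by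
    intro y hy
    rw [← Subgroup.orderOf_coe] at hy
    rw [index_centralizer_eq]
    have hcom : Commute x (y : G) := (Subgroup.mem_centralizer_singleton_iff.mp y.2).symm
    have hcop : (orderOf x).Coprime (orderOf (y : G)) := by rw [hk]; exact (hy.pow_right k).symm
    have hCC : Subgroup.centralizer ({x * (y : G)} : Set G) = C ⊓ Subgroup.centralizer ({(y : G)} : Set G) := by
      ext z
      show z ∈ Subgroup.centralizer ({x * (y : G)} : Set G) ↔
        z ∈ Subgroup.centralizer ({x} : Set G) ∧ z ∈ Subgroup.centralizer ({(y : G)} : Set G)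
      simp only [Subgroup.mem_centralizer_singleton_iff]
      refine ⟨fun hz => ?_, fun ⟨h1, h2⟩ => ?_⟩
      · have hzc : Commute z (x * (y : G)) := hz
        have hmul := hcom.mul_pow
        obtain ⟨m, hm⟩ := exists_pow_eq_self_of_coprime (x := x) hcop.symm
        obtain ⟨m', hm'⟩ := exists_pow_eq_self_of_coprime (x := (y : G)) hcop
        have e1 : (x * (y : G)) ^ (orderOf (y : G) * m) = x := by
          rw [pow_mul, hmul, pow_orderOf_eq_one, mul_one, hm]
        have e2 : (x * (y : G)) ^ (orderOf x * m') = (y : G) := by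
          rw [pow_mul, hmul, pow_orderOf_eq_one, one_mul, hm']
        exact ⟨e1 ▸ (hzc.pow_right _).eq, e2 ▸ (hzc.pow_right _).eq⟩
      · exact (Commute.mul_right (h1 : Commute z x) h2).eq
    have hsub : Subgroup.centralizer ({y} : Set C) = (Subgroup.centralizer ({(y : G)} : Set G)).subgroupOf C := by
      ext z
      simp [Subgroup.mem_subgroupOf, Subgroup.mem_centralizer_singleton_iff, Subtype.ext_iff]
    intro hd
    refine hmax (x * y) ?_
    rw [hCC, hsub] at *
    have e : (C ⊓ Subgroup.centralizer ({(y : G)} : Set G)).index =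
        ((Subgroup.centralizer ({(y : G)} : Set G)).subgroupOf C).index * C.index := by
      rw [← Subgroup.relIndex_mul_index (inf_le_left : C ⊓ Subgroup.centralizer ({(y : G)} : Set G) ≤ C),
        Subgroup.inf_relIndex_left]
      rfl
    rw [e, hxi, pow_succ, mul_comm]
    exact mul_dvd_mul_right hd _
  obtain ⟨P₀⟩ := (inferInstance : Nonempty (Sylow p C))
  obtain ⟨hP₀n, H₀, hH₀n, hH₀c, hdisj, hsup⟩ := Cfsg.Agent.S4035.result hreg P₀
  haveI := hP₀n
  haveI := hH₀n
  set H := H₀.map C.subtype with hH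
  have hHc : (Nat.card H).Coprime p := by
    rw [hH, Subgroup.card_map_of_injective C.subtype_injective]
    exact ((Fact.out : p.Prime).coprime_iff_not_dvd.mpr hH₀c).symm
  haveI := CfsgLib.Fitting.pCore_normal (G := G) p
  set D := Cfsg.pCore p G with hD
  have hxD : x ∈ D := by
    have hxp : IsPGroup p (Subgroup.zpowers x) := IsPGroup.of_card (n := k) (by rw [Nat.card_zpowers, hk])
    obtain ⟨P, hP⟩ := hxp.exists_le_sylow
    have hle : Subgroup.normalClosure ({x} : Set G) ≤ (P : Subgroup G) := by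
      refine (Subgroup.closure_le _).mpr fun z hz => ?_
      obtain ⟨w, hw, hwz⟩ := Group.mem_conjugatesOfSet_iff.mp hz
      rw [Set.mem_singleton_iff] at hw
      subst hw
      obtain ⟨g, rfl⟩ := isConj_iff.mp hwz
      obtain ⟨u, hu, c, hc, rfl⟩ := Cfsg.Agent.S4126.exists_mem_sylow_conj C ⟨a, hxi⟩ P g
      have hcw := Subgroup.mem_centralizer_singleton_iff.mp hc
      rw [show u * c * w * (u * c)⁻¹ = u * (c * w) * c⁻¹ * u⁻¹ by group, hcw,
        show u * (w * c) * c⁻¹ * u⁻¹ = u * w * u⁻¹ by group]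
      exact mul_mem (mul_mem hu (hP (Subgroup.mem_zpowers _))) (inv_mem hu)
    exact CfsgLib.Fitting.le_pCore Subgroup.normalClosure_normal (P.2.to_le hle)
      (Subgroup.subset_normalClosure rfl)
  have hHC : H ≤ C := Subgroup.map_subtype_le _
  have hHD : H ≤ Subgroup.centralizer (D : Set G) := by
    refine CfsgLib.Coprime.pxq (P := Subgroup.zpowers x) (IsPGroup.of_card (n := k) (by rw [Nat.card_zpowers, hk]))
      hHc ?_ (CfsgLib.Fitting.pCore_isPGroup p) (by rw [Subgroup.normalizer_eq_top]; exact le_top)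
      (by rw [Subgroup.normalizer_eq_top]; exact le_top) ?_
    · rw [Subgroup.zpowers_le, Subgroup.mem_centralizer_iff]
      exact fun z hz => Subgroup.mem_centralizer_singleton_iff.mp (hHC hz)
    · intro d hd
      obtain ⟨hdD, hdC⟩ := Subgroup.mem_inf.mp hd
      have hdC' : d ∈ C := Subgroup.mem_centralizer_singleton_iff.mpr
        (Subgroup.mem_centralizer_iff.mp hdC x (Subgroup.mem_zpowers x)).symm
      have hdp : IsPGroup p ((D ⊓ C).subgroupOf C) :=
        ((CfsgLib.Fitting.pCore_isPGroup p).to_le inf_le_left).comap_of_injective C.subtype C.subtype_injective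
      obtain ⟨T, hT⟩ := hdp.exists_le_sylow
      letI := Sylow.unique_of_normal P₀ hP₀n
      rw [Subsingleton.elim T P₀] at hT
      have hdP : (⟨d, hdC'⟩ : C) ∈ (P₀ : Subgroup C) := hT (Subgroup.mem_inf.mpr ⟨hdD, hdC'⟩)
      rw [Subgroup.mem_centralizer_iff]
      rintro _ ⟨h, hh, rfl⟩
      exact (congrArg Subtype.val (Subgroup.commute_of_normal_of_disjoint _ _ hH₀n hP₀n
        (disjoint_iff.mpr hdisj).symm h ⟨d, hdC'⟩ hh hdP).eq)
  have hCDC : Subgroup.centralizer (D : Set G) ≤ C := fun z hz =>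
    Subgroup.mem_centralizer_singleton_iff.mpr (Subgroup.mem_centralizer_iff.mp hz x hxD).symm
  have hHn : H.Normal := by
    refine ⟨fun y hy g => ?_⟩
    have hzC : g * y * g⁻¹ ∈ C := hCDC ((Subgroup.normal_centralizer : (Subgroup.centralizer (D : Set G)).Normal).conj_mem y (hHD hy) g)
    obtain ⟨y', hy', rfl⟩ := hy
    have hzC' : g * (y' : G) * g⁻¹ ∈ C := hzC
    refine ⟨⟨g * y' * g⁻¹, hzC'⟩, ?_, rfl⟩
    rw [SetLike.mem_coe]
    have hidx : H₀.index = Nat.card (P₀ : Subgroup C) :=
      (Subgroup.isComplement'_of_disjoint_and_mul_eq_univ (disjoint_iff.mpr hdisj)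
        (by rw [← Subgroup.normal_mul, hsup, Subgroup.coe_top])).index_eq_card
    obtain ⟨j, hj⟩ := IsPGroup.iff_card.mp P₀.2
    rw [← QuotientGroup.eq_one_iff, ← orderOf_eq_one_iff]
    refine Nat.eq_one_of_dvd_coprimes ((Nat.Coprime.coprime_dvd_left ?_ (((Fact.out : p.Prime).coprime_iff_not_dvd.mpr hH₀c).symm)).pow_right j)
      (orderOf_map_dvd (QuotientGroup.mk' H₀) _) ?_
    · rw [Subgroup.orderOf_mk, show g * (y' : G) * g⁻¹ = MulAut.conj g (y' : G) from rfl, MulEquiv.orderOf_eq, Subgroup.orderOf_coe]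
      exact H₀.orderOf_dvd_natCard hy'
    · rw [← hj, ← hidx]
      exact orderOf_dvd_natCard _
  haveI := hHn
  refine CfsgLib.Transfer.hasNormalPComplement_of_le_of_isPGroup_quotient H hHc ?_
  obtain ⟨j, hj⟩ := IsPGroup.iff_card.mp P₀.2
  refine IsPGroup.of_card (n := j + a) ?_
  show H.index = _
  have hcomp := Subgroup.isComplement'_of_disjoint_and_mul_eq_univ (disjoint_iff.mpr hdisj)
    (show ((P₀ : Subgroup C) : Set C) * (H₀ : Set C) = Set.univ by rw [← Subgroup.normal_mul, hsup, Subgroup.coe_top])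
  rw [← Subgroup.relIndex_mul_index hHC, hxi, pow_add]
  congr 1
  show (H.subgroupOf C).index = _
  rw [hH, Subgroup.subgroupOf, Subgroup.comap_map_eq_self_of_injective C.subtype_injective, hcomp.index_eq_card, hj]
end Cfsg.Agent.S4127
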