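import Cfsg.Statements.S4130
import Cfsg.Agent.Lib.ClassSize.SmallPPart
import Cfsg.Agent.Lib.Transfer.AbelianSylow
import Cfsg.Agent.Lib.Coprime.Action

set_option autoImplicit false
open Cfsg

namespace Cfsg.Agent.S4130

open scoped commutatorElement
open CfsgLib

universe u

/-- All class sizes are squarefree. -/
def SF (G : Type u) [Group G] : Prop :=
  ∀ x : G, Squarefree (Subgroup.centralizer ({x} : Set G)).index

theorem isNilpotent_of_comm (A : Type u) [Group A] [h : IsMulCommutative A] :
    Group.IsNilpotent A := by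
  letI : CommGroup A := { ‹Group A› with mul_comm := h.is_comm.comm }
  infer_instance

theorem SF.hyp {G : Type u} [Group G] (h : SF G) {p : ℕ} (hp : p.Prime) : SmallPPart.Hyp p G :=
  fun g hd => hp.not_isUnit (h g p ((pow_two p).symm.dvd.trans hd))

theorem SF.normal {G : Type u} [Group G] [Finite G] (h : SF G) (N : Subgroup G) [N.Normal] :
    SF N := fun x => (h x).squarefree_of_dvd (SmallPPart.index_centralizer_dvd_normal N x)

theorem SF.quotient {G : Type u} [Group G] (h : SF G) (N : Subgroup G) [N.Normal] :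
    SF (G ⧸ N) := by
  intro y
  induction y using QuotientGroup.induction_on with
  | H g => exact (h g).squarefree_of_dvd (SmallPPart.index_centralizer_dvd_quotient N g)

/-- A nontrivial group with squarefree class sizes has a nontrivial normal Sylow subgroup. -/
theorem exists_normal_sylow (n : ℕ) : ∀ (G : Type u) [Group G] [Finite G], Nat.card G = n →
    SF G → 1 < n → ∃ (r : ℕ) (_ : Fact r.Prime) (R : Sylow r G),
      (R : Subgroup G).Normal ∧ r ∣ n := by
  induction n using Nat.strong_induction_on with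
  | _ n ih =>
    intro G _ _ hcard h hn
    haveI : Fact n.minFac.Prime := ⟨Nat.minFac_prime hn.ne'⟩
    have hpn : n.minFac ∣ n := Nat.minFac_dvd n
    obtain ⟨P, N, hN, hc⟩ := SmallPPart.hasNormalPComplement n G hcard
      (fun q hq hqn => Nat.minFac_le_of_dvd hq.two_le (hcard ▸ hqn))
      (h.hyp (p := n.minFac) Fact.out)
    haveI := hN
    by_cases hN1 : Nat.card N = 1
    · refine ⟨n.minFac, inferInstance, P, ?_, hpn⟩
      have : (P : Subgroup G) = ⊤ := by
        refine Subgroup.eq_top_of_card_eq _ ?_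
        rw [← hc.card_mul, hN1, one_mul]
      rw [this]; infer_instance
    have hN2 : 1 < Nat.card N := by
      have : 0 < Nat.card N := Nat.card_pos
      omega
    have hlt : Nat.card N < n := by
      refine lt_of_le_of_ne (hcard ▸ Nat.le_of_dvd Nat.card_pos N.card_subgroup_dvd_card) fun he => ?_
      have hp : n.minFac ∣ Nat.card N := he ▸ hpn
      exact (Fact.out : n.minFac.Prime).coprime_iff_not_dvd.mp
        (Transfer.coprime_card_of_isComplement' hc).symm hp
    obtain ⟨r, hr, R, hRn, hrN⟩ := ih _ hlt N rfl (h.normal N) hN2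
    haveI := hr
    haveI := Sylow.characteristic_of_normal R hRn
    have hrp : ¬ r ∣ N.index := by
      intro hd
      have hdP : r ∣ Nat.card (P : Subgroup G) := hc.symm.index_eq_card ▸ hd
      obtain ⟨k, hk⟩ := P.2.exists_card_eq
      rw [hk] at hdP
      have := (Nat.prime_dvd_prime_iff_eq hr.out Fact.out).mp (hr.out.dvd_of_dvd_pow hdP)
      subst this
      exact hr.out.coprime_iff_not_dvd.mp (Transfer.coprime_card_of_isComplement' hc).symm hrN
    have hidx : ¬ r ∣ ((R : Subgroup N).map N.subtype).index := by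
      rw [Subgroup.index_map_subtype]
      exact hr.out.not_dvd_mul R.not_dvd_index hrp
    exact ⟨r, hr, (R.2.map N.subtype).toSylow hidx, by rw [IsPGroup.toSylow_coe]; infer_instance,
      hrN.trans (hcard ▸ N.card_subgroup_dvd_card)⟩

/-- In a family of homomorphisms with ranges of order at most `r` that is closed under a twisted
product, either all nontrivial kernels agree or all nontrivial ranges agree. -/
theorem rank_one {R T ι : Type*} [Group R] [Group T] [Finite T] (r : ℕ) [Fact r.Prime]
    (δ : ι → R →* T) (hcard : ∀ i, Nat.card (δ i).range ∣ r)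
    (hker : ∀ i j, (δ i).ker ≤ (δ j).ker → (δ i).ker = (δ j).ker ∨ δ j = 1)
    (hmul : ∀ i j, ∃ k, ∀ v, ∃ a ∈ (δ i).range,
      δ k v = a * δ j v * δ i v ∧ (δ j v = 1 → a = 1)) :
    (∀ i j, δ i ≠ 1 → δ j ≠ 1 → (δ i).ker = (δ j).ker) ∨
    (∀ i j, δ i ≠ 1 → δ j ≠ 1 → (δ i).range = (δ j).range) := by
  have hsame : ∀ (i : ι) (t : T), t ∈ (δ i).range → t ≠ 1 → Subgroup.zpowers t = (δ i).range := by
    intro i t ht h1
    refine Subgroup.eq_of_le_of_card_ge (Subgroup.zpowers_le.mpr ht) ?_
    rw [Nat.card_zpowers]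
    have h2 : orderOf t ∣ Nat.card (δ i).range := Subgroup.orderOf_dvd_natCard _ ht
    rcases (Nat.dvd_prime (Fact.out : r.Prime)).mp (h2.trans (hcard i)) with h3 | h3
    · exact absurd (orderOf_eq_one_iff.mp h3) h1
    · rw [h3]
      exact Nat.le_of_dvd (Fact.out : r.Prime).pos (hcard i)
  have key : ∀ i j, δ i ≠ 1 → δ j ≠ 1 → (δ i).ker ≠ (δ j).ker → (δ i).range = (δ j).range := by
    intro i j hi hj hne
    obtain ⟨v₁, hv₁i, hv₁j⟩ : ∃ v, δ i v = 1 ∧ δ j v ≠ 1 := by
      by_contra hno
      push Not at hno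
      exact (hker i j fun v hv => hno v hv).elim hne hj
    obtain ⟨v₂, hv₂j, hv₂i⟩ : ∃ v, δ j v = 1 ∧ δ i v ≠ 1 := by
      by_contra hno
      push Not at hno
      exact (hker j i fun v hv => hno v hv).elim (Ne.symm hne) hi
    obtain ⟨k, hk⟩ := hmul i j
    obtain ⟨b, hb, hkb, hb1⟩ := hk v₂
    rw [hb1 hv₂j, hv₂j, one_mul, one_mul] at hkb
    have hIk : (δ k).range = (δ i).range :=
      ((hsame k _ ⟨v₂, rfl⟩ (by rw [hkb]; exact hv₂i)).symm.trans (by rw [hkb])).trans
        (hsame i _ ⟨v₂, rfl⟩ hv₂i)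
    obtain ⟨a, ha, hka, -⟩ := hk v₁
    rw [hv₁i, mul_one] at hka
    have hmem : δ j v₁ ∈ (δ i).range := by
      have h1 : a * δ j v₁ ∈ (δ i).range := by
        rw [← hka, ← hIk]; exact ⟨v₁, rfl⟩
      have := mul_mem (inv_mem ha) h1
      rwa [inv_mul_cancel_left] at this
    exact (hsame i _ hmem hv₁j).symm.trans (hsame j _ ⟨v₁, rfl⟩ hv₁j)
  refine Classical.or_iff_not_imp_left.mpr fun hno => ?_
  push Not at hno
  obtain ⟨a, b, ha, hb, hab⟩ := hno
  have hw : ∀ w, δ w ≠ 1 → (δ w).range = (δ a).range := by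
    intro w hw
    by_cases h1 : (δ w).ker = (δ a).ker
    · exact (key w b hw hb (h1 ▸ hab)).trans (key a b ha hb hab).symm
    · exact key w a hw ha h1
  exact fun i j hi hj => (hw i hi).trans (hw j hj).symm

section PGroup

variable {R : Type u} [Group R] [Finite R] {r : ℕ} [Fact r.Prime]

/-- A `p`-group all whose classes have size at most `p` has derived group of order at most `p`. -/
theorem card_commutator_dvd (hR : IsPGroup r R)
    (h : ∀ x : R, (Subgroup.centralizer ({x} : Set R)).index ∣ r) :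
    Nat.card (commutator R) ∣ r := by
  have hp : r.Prime := Fact.out
  have hcen : ∀ d ∈ commutator R, ∀ x : R, d * x = x * d := by
    intro d hd x
    suffices commutator R ≤ Subgroup.centralizer ({x} : Set R) from
      Subgroup.mem_centralizer_singleton_iff.mp (this hd)
    set M := Subgroup.centralizer ({x} : Set R) with hM
    rcases (Nat.dvd_prime hp).mp (h x) with h1 | h1
    · rw [hM, Subgroup.index_eq_one.mp h1]; exact le_top
    haveI : M.Normal := by
      refine Subgroup.normal_of_index_eq_minFac_card ?_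
      obtain ⟨k, hk⟩ := hR.exists_card_eq
      rw [hM, h1, hk, Nat.pow_minFac ?_, hp.minFac_eq]
      rintro rfl
      have h2 := (Subgroup.centralizer ({x} : Set R)).index_dvd_card
      rw [h1, hk, pow_zero] at h2
      exact hp.not_dvd_one h2
    haveI : IsCyclic (R ⧸ M) := isCyclic_of_prime_card (p := r) h1
    rw [commutator_def, Subgroup.commutator_le]
    intro a _ b _
    rw [← QuotientGroup.eq_one_iff]
    change ⁅(a : R ⧸ M), (b : R ⧸ M)⁆ = 1
    exact commutatorElement_eq_one_iff_mul_comm.mpr ((IsCyclic.commutative).is_comm.comm _ _)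
  have hm : ∀ a b : R, ⁅a, b⁆ ∈ commutator R := fun a b =>
    Subgroup.commutator_mem_commutator (Subgroup.mem_top a) (Subgroup.mem_top b)
  have hright : ∀ x a b : R, ⁅x, a * b⁆ = ⁅x, a⁆ * ⁅x, b⁆ := fun x a b => by
    have : ⁅x, a * b⁆ = ⁅x, a⁆ * (a * ⁅x, b⁆ * a⁻¹) := by
      simp only [commutatorElement_def]; group
    rw [this, ← hcen _ (hm x b) a, mul_inv_cancel_right]
  let δ : R → R →* R := fun x => MonoidHom.mk' (fun y => ⁅x, y⁆) (hright x)
  have hδk : ∀ x, (δ x).ker = Subgroup.centralizer ({x} : Set R) := fun x => by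
    ext y
    rw [MonoidHom.mem_ker, Subgroup.mem_centralizer_singleton_iff]
    exact commutatorElement_eq_one_iff_mul_comm.trans eq_comm
  have hcard : ∀ x, Nat.card (δ x).range ∣ r := fun x => by
    rw [← Subgroup.index_ker, hδk]; exact h x
  have hmul : ∀ i j, ∃ k, ∀ v, ∃ a ∈ (δ i).range,
      δ k v = a * δ j v * δ i v ∧ (δ j v = 1 → a = 1) := fun i j => ⟨i * j, fun v =>
    ⟨1, one_mem _, by
      change ⁅i * j, v⁆ = 1 * ⁅j, v⁆ * ⁅i, v⁆
      have : ⁅i * j, v⁆ = i * ⁅j, v⁆ * i⁻¹ * ⁅i, v⁆ := by
        simp only [commutatorElement_def]; group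
      rw [this, ← hcen _ (hm j v) i, mul_inv_cancel_right, one_mul], fun _ => rfl⟩⟩
  have hker : ∀ i j, (δ i).ker ≤ (δ j).ker → (δ i).ker = (δ j).ker ∨ δ j = 1 := by
    intro i j hle
    rcases (Nat.dvd_prime hp).mp (h j) with h1 | h1
    · refine Or.inr (MonoidHom.ker_eq_top_iff.mp ?_)
      rw [hδk, Subgroup.index_eq_one.mp h1]
    · refine Or.inl (Subgroup.eq_of_le_of_card_ge hle ?_)
      have e1 := (δ i).ker.card_mul_index
      have e2 := (δ j).ker.card_mul_index
      rw [hδk] at e1 e2
      rw [hδk, hδk]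
      rw [h1] at e2
      have h3 : (Subgroup.centralizer ({i} : Set R)).index ≤ r :=
        Nat.le_of_dvd hp.pos (h i)
      nlinarith [hp.pos]
  by_cases hnc : ∃ x, δ x ≠ 1
  swap
  · push Not at hnc
    have hbot : commutator R = ⊥ := by
      rw [commutator_def, eq_bot_iff, Subgroup.commutator_le]
      intro a _ b _
      exact DFunLike.congr_fun (hnc a) b
    rw [hbot]; simp
  obtain ⟨x₀, hx₀⟩ := hnc
  rcases rank_one r δ hcard hker hmul with hk | hI
  · exfalso
    apply hx₀
    have hall : ∀ y, y ∈ (δ x₀).ker := fun y => by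
      by_cases hy : δ y = 1
      · rw [MonoidHom.mem_ker]
        change ⁅x₀, y⁆ = 1
        have : ⁅y, x₀⁆ = 1 := DFunLike.congr_fun hy x₀
        exact commutatorElement_eq_one_iff_mul_comm.mpr
          (commutatorElement_eq_one_iff_mul_comm.mp this).symm
      · rw [hk x₀ y hx₀ hy, hδk]
        exact Subgroup.mem_centralizer_singleton_iff.mpr rfl
    exact MonoidHom.ext hall
  · refine (Subgroup.card_dvd_of_le ?_).trans (hcard x₀)
    rw [commutator_def, Subgroup.commutator_le]
    intro a _ b _
    by_cases ha : δ a = 1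
    · rw [show ⁅a, b⁆ = 1 from DFunLike.congr_fun ha b]; exact one_mem _
    · rw [← hI a x₀ ha hx₀]; exact ⟨b, rfl⟩

end PGroup

section NormalSylow

variable {G : Type u} [Group G] [Finite G] {r : ℕ} [Fact r.Prime]

/-- Transfer modulo a normal subgroup over which the Sylow subgroup is central. -/
theorem inf_commutator_le (R : Sylow r G) (N : Subgroup G) [N.Normal]
    (hcen : ∀ g : G, ∀ v ∈ (R : Subgroup G), ⁅g, v⁆ ∈ N) :
    (R : Subgroup G) ⊓ commutator G ≤ N := by
  rintro x ⟨hxR, hxc⟩
  rw [← QuotientGroup.eq_one_iff]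
  have hsurj := QuotientGroup.mk'_surjective N
  have hcom : ∀ g : G, ∀ v ∈ (R : Subgroup G), (g : G ⧸ N) * v = v * g := fun g v hv =>
    commutatorElement_eq_one_iff_mul_comm.mp ((QuotientGroup.eq_one_iff _).mpr (hcen g v hv))
  refine Transfer.eq_one_of_abelian_sylow (R.mapSurjective hsurj) ⟨⟨fun a b => ?_⟩⟩ ?_
    (fun m _ => ?_) ?_
  · obtain ⟨a, ha⟩ := a
    obtain ⟨b, hb⟩ := b
    rw [Sylow.coe_mapSurjective] at ha hb
    obtain ⟨a, ha', rfl⟩ := ha
    obtain ⟨b, hb', rfl⟩ := hb
    exact Subtype.ext (hcom a b hb')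
  · rw [Sylow.coe_mapSurjective]; exact ⟨x, hxR, rfl⟩
  · obtain ⟨m, rfl⟩ := hsurj m
    exact hcom m x hxR
  · have : (commutator G).map (QuotientGroup.mk' N) ≤ commutator (G ⧸ N) := by
      rw [commutator_def, Subgroup.map_commutator]
      exact Subgroup.commutator_mono le_top le_top
    exact this ⟨x, hxc, rfl⟩

theorem relIndex_dvd (h : SF G) (R : Sylow r G) [(R : Subgroup G).Normal] (g : G) :
    (Subgroup.centralizer ({g} : Set G)).relIndex (R : Subgroup G) ∣ r := by
  have hp : r.Prime := Fact.out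
  obtain ⟨k, hk⟩ := R.2.exists_card_eq
  have h1 : (Subgroup.centralizer ({g} : Set G)).relIndex (R : Subgroup G) ∣ r ^ k :=
    hk ▸ Subgroup.relIndex_dvd_card _ _
  obtain ⟨j, -, hj⟩ := (Nat.dvd_prime_pow hp).mp h1
  rw [hj]
  have h2 := (h g).squarefree_of_dvd (Fitting.relIndex_dvd_index_of_normal_right _ (R : Subgroup G))
  rw [hj] at h2
  by_cases hj1 : j ≤ 1
  · exact (pow_dvd_pow r hj1).trans (pow_one r).dvd
  · exact absurd (h2 r ((pow_two r).symm.dvd.trans (pow_dvd_pow r (Nat.lt_of_not_le hj1))))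
      hp.not_isUnit

/-- Decomposition of an element along a normal Sylow subgroup. -/
theorem exists_decomp (R : Sylow r G) [(R : Subgroup G).Normal] (g : G) :
    ∃ s ∈ (R : Subgroup G), ∃ t : G, (orderOf t).Coprime r ∧ g = s * t := by
  obtain ⟨a, m, hm, -, hcop, hpow⟩ := Transfer.exists_pow_coprime_part (p := r) g
  obtain ⟨u, v, huv⟩ : ∃ u v : ℤ, (r ^ a : ℕ) * u + (m : ℤ) * v = 1 := by
    have hc : Nat.gcd (r ^ a) m = 1 :=
      Nat.Coprime.pow_left a (((Fact.out : r.Prime).coprime_iff_not_dvd).mpr hm)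
    refine ⟨Nat.gcdA (r ^ a) m, Nat.gcdB (r ^ a) m, ?_⟩
    rw [← Nat.gcd_eq_gcd_ab, hc, Nat.cast_one]
  refine ⟨(g ^ m) ^ v, zpow_mem (SmallPPart.mem_sylow_of_mem_normalizer R ⟨a, hpow⟩ ?_) v,
    (g ^ r ^ a) ^ u, Nat.Coprime.coprime_dvd_left
      (orderOf_dvd_of_mem_zpowers (Subgroup.zpow_mem_zpowers _ u)) hcop, ?_⟩
  · rw [Subgroup.normalizer_eq_top (R : Subgroup G)]; trivial
  · rw [← zpow_natCast g m, ← zpow_natCast g (r ^ a), ← zpow_mul, ← zpow_mul, ← zpow_add,
      add_comm, huv, zpow_one]

/-- If the normal Sylow subgroup is nonabelian, all `r'`-elements centralize it. -/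
theorem commute_of_nonabelian (h : SF G) (R : Sylow r G) [(R : Subgroup G).Normal]
    (hab : ¬ IsMulCommutative ↥(R : Subgroup G))
    (hd : Nat.card ↥⁅(R : Subgroup G), (R : Subgroup G)⁆ ∣ r)
    (hdc : ∀ d ∈ ⁅(R : Subgroup G), (R : Subgroup G)⁆, ∀ v ∈ (R : Subgroup G), d * v = v * d)
    {t : G} (ht : (orderOf t).Coprime r) {v : G} (hv : v ∈ (R : Subgroup G)) : t * v = v * t := by
  have hp : r.Prime := Fact.out
  by_contra hne
  set C := Subgroup.centralizer ({t} : Set G) ⊓ (R : Subgroup G) with hC
  set D := ⁅(R : Subgroup G), (R : Subgroup G)⁆ with hD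
  have hDR : D ≤ (R : Subgroup G) := Subgroup.commutator_le_self _
  have hvC : v ∉ C := fun hh => hne (Subgroup.mem_centralizer_singleton_iff.mp hh.1).symm
  have hCi : C.relIndex (R : Subgroup G) = r := by
    rw [hC, Subgroup.inf_relIndex_right]
    exact ((Nat.dvd_prime hp).mp (relIndex_dvd h R t)).resolve_left
      fun h1 => hvC ⟨Subgroup.relIndex_eq_one.mp h1 hv, hv⟩
  have hmax : ∀ K : Subgroup G, C ≤ K → K ≤ (R : Subgroup G) → ¬ K ≤ C → K = R := by
    intro K hCK hKR hKC
    refine le_antisymm hKR (Subgroup.relIndex_eq_one.mp ?_)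
    have h1 := Subgroup.relIndex_mul_relIndex C K (R : Subgroup G) hCK hKR
    rw [hCi] at h1
    rcases (Nat.dvd_prime hp).mp (Dvd.intro _ h1) with h2 | h2
    · exact absurd (Subgroup.relIndex_eq_one.mp h2) hKC
    · rw [h2] at h1
      exact Nat.eq_of_mul_eq_mul_left hp.pos (h1.trans (mul_one r).symm)
  -- the derived subgroup is centralized by `t`
  have hDC : D ≤ C := by
    by_contra hDC
    apply hab
    have hgen := hmax (C ⊔ D) le_sup_left (sup_le inf_le_right hDR)
      fun hle => hDC (le_sup_right.trans hle)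
    have hCDbot : C ⊓ D = ⊥ := by
      rcases (Nat.dvd_prime hp).mp ((Subgroup.card_dvd_of_le inf_le_right).trans hd) with h2 | h2
      · exact Subgroup.card_eq_one.mp h2
      · exfalso
        apply hDC
        have : C ⊓ D = D := Subgroup.eq_of_le_of_card_ge inf_le_right
          (h2.symm ▸ Nat.le_of_dvd hp.pos hd)
        exact this ▸ inf_le_left
    have hCcomm : ∀ a ∈ C, ∀ b ∈ C, a * b = b * a := fun a ha b hb => by
      have h2 : ⁅a, b⁆ ∈ C ⊓ D := ⟨by
        rw [commutatorElement_def]
        exact C.mul_mem (C.mul_mem (C.mul_mem ha hb) (C.inv_mem ha)) (C.inv_mem hb),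
        Subgroup.commutator_mem_commutator ha.2 hb.2⟩
      rw [hCDbot, Subgroup.mem_bot] at h2
      exact commutatorElement_eq_one_iff_mul_comm.mp h2
    have hle : C ⊔ D ≤ Subgroup.centralizer ((C ⊔ D : Subgroup G) : Set G) := by
      refine sup_le (fun c hc => ?_) (fun d hd' => ?_)
      · have : C ⊔ D ≤ Subgroup.centralizer ({c} : Set G) :=
          sup_le (fun z hz => Subgroup.mem_centralizer_singleton_iff.mpr (hCcomm z hz c hc))
            (fun z hz => Subgroup.mem_centralizer_singleton_iff.mpr (hdc z hz c hc.2))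
        exact Subgroup.mem_centralizer_iff.mpr fun z hz =>
          Subgroup.mem_centralizer_singleton_iff.mp (this hz)
      · refine Subgroup.mem_centralizer_iff.mpr fun z hz => (hdc d hd' z ?_).symm
        exact (sup_le inf_le_right hDR : C ⊔ D ≤ (R : Subgroup G)) hz
    rw [hgen] at hle
    exact ⟨⟨fun a b => Subtype.ext (Subgroup.mem_centralizer_iff.mp (hle b.2) a a.2)⟩⟩
  have hCnorm : ∀ c ∈ C, ∀ w ∈ (R : Subgroup G), w * c * w⁻¹ ∈ C := by
    intro c hc w hw
    have : w * c * w⁻¹ = ⁅w, c⁆ * c := by rw [commutatorElement_def]; group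
    rw [this]
    exact mul_mem (hDC (Subgroup.commutator_mem_commutator hw hc.2)) hc
  -- `u = [t, v]` centralizes `C`
  set u := t * v * t⁻¹ * v⁻¹ with hu
  have huR : u ∈ (R : Subgroup G) :=
    mul_mem (Subgroup.Normal.conj_mem inferInstance v hv t) (inv_mem hv)
  have hu1 : u ≠ 1 := fun h1 => hne (mul_inv_eq_iff_eq_mul.mp (mul_inv_eq_one.mp h1))
  have htv : t * v * t⁻¹ = u * v := by rw [hu]; group
  clear_value u
  have hcu : ∀ c ∈ C, c * u = u * c := by
    intro c hc
    have htc : t * c * t⁻¹ = c :=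
      mul_inv_eq_iff_eq_mul.mpr (Subgroup.mem_centralizer_singleton_iff.mp hc.1).symm
    have hz : ⁅c, v⁆ ∈ C := hDC (Subgroup.commutator_mem_commutator hc.2 hv)
    have htz : t * ⁅c, v⁆ * t⁻¹ = ⁅c, v⁆ :=
      mul_inv_eq_iff_eq_mul.mpr (Subgroup.mem_centralizer_singleton_iff.mp hz.1).symm
    have h1 : t * ⁅c, v⁆ * t⁻¹ = ⁅c, u * v⁆ := by
      rw [← htv]
      calc t * ⁅c, v⁆ * t⁻¹ = ⁅t * c * t⁻¹, t * v * t⁻¹⁆ := by
            simp only [commutatorElement_def]; group
        _ = _ := by rw [htc]
    have h2 : ⁅c, u * v⁆ = ⁅c, u⁆ * (u * ⁅c, v⁆ * u⁻¹) := by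
      simp only [commutatorElement_def]; group
    have hdu : u * ⁅c, v⁆ * u⁻¹ = ⁅c, v⁆ := by
      rw [← hdc _ (Subgroup.commutator_mem_commutator hc.2 hv) u huR, mul_inv_cancel_right]
    rw [htz, h2, hdu] at h1
    exact commutatorElement_eq_one_iff_mul_comm.mp (mul_eq_right.mp h1.symm)
  have huC : u ∉ C := by
    intro huC
    have htu : t * u * t⁻¹ = u :=
      mul_inv_eq_iff_eq_mul.mpr (Subgroup.mem_centralizer_singleton_iff.mp huC.1).symm
    have hpw : ∀ j : ℕ, t ^ j * v * (t ^ j)⁻¹ = u ^ j * v := by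
      intro j
      induction j with
      | zero => simp
      | succ j ihj =>
        have htuj : t * u ^ j * t⁻¹ = u ^ j := by rw [← conj_pow, htu]
        calc t ^ (j + 1) * v * (t ^ (j + 1))⁻¹ = t * (t ^ j * v * (t ^ j)⁻¹) * t⁻¹ := by
              rw [pow_succ']; group
          _ = (t * u ^ j * t⁻¹) * (t * v * t⁻¹) := by rw [ihj]; group
          _ = u ^ (j + 1) * v := by rw [htuj, htv, pow_succ, mul_assoc]
    have h1 := hpw (orderOf t)
    rw [pow_orderOf_eq_one, inv_one, mul_one, one_mul] at h1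
    have h2 : u ^ orderOf t = 1 := mul_eq_right.mp h1.symm
    obtain ⟨j, hj⟩ := IsPGroup.iff_orderOf.mp R.2 ⟨u, huR⟩
    rw [← Subgroup.orderOf_coe] at hj
    change orderOf u = r ^ j at hj
    have h3 : orderOf u ∣ Nat.gcd (orderOf t) (r ^ j) :=
      Nat.dvd_gcd (orderOf_dvd_of_pow_eq_one h2) hj.dvd
    rw [(ht.pow_right j).gcd_eq_one, Nat.dvd_one, orderOf_eq_one_iff] at h3
    exact hu1 h3
  have hR : C ⊔ Subgroup.zpowers u = (R : Subgroup G) :=
    hmax _ le_sup_left (sup_le inf_le_right (Subgroup.zpowers_le.mpr huR))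
      fun hle => huC (hle (Subgroup.mem_sup_right (Subgroup.mem_zpowers u)))
  obtain ⟨c, hc, c', hc', hcc⟩ : ∃ c ∈ C, ∃ c' ∈ C, c * c' ≠ c' * c := by
    by_contra hno
    push Not at hno
    apply hab
    have hle : C ⊔ Subgroup.zpowers u ≤
        Subgroup.centralizer ((C ⊔ Subgroup.zpowers u : Subgroup G) : Set G) := by
      refine sup_le (fun z hz => ?_) (Subgroup.zpowers_le.mpr ?_)
      · have : C ⊔ Subgroup.zpowers u ≤ Subgroup.centralizer ({z} : Set G) :=
          sup_le (fun w hw => Subgroup.mem_centralizer_singleton_iff.mpr (hno w hw z hz))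
            (Subgroup.zpowers_le.mpr (Subgroup.mem_centralizer_singleton_iff.mpr (hcu z hz).symm))
        exact Subgroup.mem_centralizer_iff.mpr fun w hw =>
          Subgroup.mem_centralizer_singleton_iff.mp (this hw)
      · have : C ⊔ Subgroup.zpowers u ≤ Subgroup.centralizer ({u} : Set G) :=
          sup_le (fun w hw => Subgroup.mem_centralizer_singleton_iff.mpr (hcu w hw))
            (Subgroup.zpowers_le.mpr (Subgroup.mem_centralizer_singleton_iff.mpr rfl))
        exact Subgroup.mem_centralizer_iff.mpr fun w hw =>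
          Subgroup.mem_centralizer_singleton_iff.mp (this hw)
    rw [hR] at hle
    exact ⟨⟨fun a b => Subtype.ext (Subgroup.mem_centralizer_iff.mp (hle b.2) a a.2)⟩⟩
  have hsub : Subgroup.centralizer ({c * t} : Set G) ⊓ (R : Subgroup G) ≤
      Subgroup.centralizer ({c} : Set G) ⊓ C := by
    rintro z ⟨hz, hzR⟩
    have hzc : Commute z (c * t) := Subgroup.mem_centralizer_singleton_iff.mp hz
    have hct : Commute c t := Subgroup.mem_centralizer_singleton_iff.mp hc.1
    obtain ⟨j, hj⟩ := IsPGroup.iff_orderOf.mp R.2 ⟨c, hc.2⟩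
    rw [← Subgroup.orderOf_coe] at hj
    change orderOf c = r ^ j at hj
    have hcop : (r ^ j).Coprime (orderOf t) := (ht.pow_right j).symm
    obtain ⟨m, hm⟩ := exists_pow_eq_self_of_coprime (x := t) hcop
    have h1 : (c * t) ^ (r ^ j * m) = t := by
      rw [pow_mul, hct.mul_pow, show c ^ r ^ j = 1 by rw [← hj, pow_orderOf_eq_one], one_mul, hm]
    have hzt : Commute z t := h1 ▸ hzc.pow_right _
    have hzc' : Commute z c := by
      have := hzc.mul_right hzt.inv_right
      rwa [mul_inv_cancel_right] at this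
    exact ⟨Subgroup.mem_centralizer_singleton_iff.mpr hzc'.eq,
      Subgroup.mem_centralizer_singleton_iff.mpr hzt.eq, hzR⟩
  have hA : ¬ r ^ 2 ∣ r := fun hh => by
    have := Nat.le_of_dvd hp.pos hh
    nlinarith [hp.two_le]
  apply hA
  have h5 := Subgroup.relIndex_mul_relIndex (Subgroup.centralizer ({c} : Set G) ⊓ C) C
    (R : Subgroup G) inf_le_right inf_le_right
  rw [Subgroup.inf_relIndex_right, hCi] at h5
  have h6 : r ∣ (Subgroup.centralizer ({c} : Set G)).relIndex C := by
    obtain ⟨k, hk⟩ := (R.2.to_le (inf_le_right : C ≤ (R : Subgroup G))).exists_card_eq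
    obtain ⟨j, -, hj⟩ :=
      (Nat.dvd_prime_pow hp).mp (hk ▸ Subgroup.relIndex_dvd_card (Subgroup.centralizer ({c} : Set G)) C)
    rw [hj]
    refine dvd_pow_self r fun hj0 => hcc ?_
    rw [hj0, pow_zero, Subgroup.relIndex_eq_one] at hj
    exact (Subgroup.mem_centralizer_singleton_iff.mp (hj hc')).symm
  have h7 := Subgroup.relIndex_dvd_of_le_left (R : Subgroup G) hsub
  rw [← h5, Subgroup.inf_relIndex_right] at h7
  exact (pow_two r).dvd.trans
    (((Nat.mul_dvd_mul h6 dvd_rfl).trans h7).trans (relIndex_dvd h R (c * t)))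

/-- The derived group meets a normal Sylow `r`-subgroup in at most `r` elements. -/
theorem card_inf_commutator_dvd (h : SF G) (R : Sylow r G) [(R : Subgroup G).Normal] :
    Nat.card ↥((R : Subgroup G) ⊓ commutator G) ∣ r := by
  have hp : r.Prime := Fact.out
  set D := ⁅(R : Subgroup G), (R : Subgroup G)⁆ with hD
  have hmapD : D = (commutator ↥(R : Subgroup G)).map (R : Subgroup G).subtype :=
    (Subgroup.map_subtype_commutator (R : Subgroup G)).symm
  have hDcard : Nat.card D ∣ r := by
    rw [hmapD, Subgroup.card_map_of_injective (R : Subgroup G).subtype_injective]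
    refine card_commutator_dvd R.2 fun x => ?_
    rw [SmallPPart.centralizer_subgroupOf]
    exact relIndex_dvd h R x
  by_cases hab : IsMulCommutative ↥(R : Subgroup G)
  swap
  · -- nonabelian: everything is central modulo `D`
    haveI : D.Normal := Subgroup.commutator_normal _ _
    have hdc : ∀ d ∈ D, ∀ v ∈ (R : Subgroup G), d * v = v * d := by
      intro d hd v hv
      have hdR : d ∈ (R : Subgroup G) := (Subgroup.commutator_le_self _ : D ≤ _) hd
      by_contra hne
      obtain ⟨k, hk⟩ := R.2.exists_card_eq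
      haveI : Group.IsNilpotent ↥(R : Subgroup G) := R.2.isNilpotent
      have hDne : D ≠ ⊥ := fun hb => hne (by
        rw [hb, Subgroup.mem_bot] at hd; rw [hd, one_mul, mul_one])
      have hlt := Coprime.commutator_lt_of_isNilpotent (X := (R : Subgroup G)) (U := D)
        (P := (R : Subgroup G)) (Subgroup.commutator_le_self _) le_rfl
        (by rw [Subgroup.normalizer_eq_top D]; exact le_top) hDne
      have : ⁅D, (R : Subgroup G)⁆ = ⊥ := by
        rcases (Nat.dvd_prime hp).mp ((Subgroup.card_dvd_of_le hlt.le).trans hDcard) with h1 | h1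
        · exact Subgroup.card_eq_one.mp h1
        · exact absurd (Subgroup.eq_of_le_of_card_ge hlt.le (h1.symm ▸ Nat.le_of_dvd hp.pos hDcard))
            hlt.ne
      have h1 := Subgroup.commutator_mem_commutator hd hv
      rw [this, Subgroup.mem_bot] at h1
      exact hne (commutatorElement_eq_one_iff_mul_comm.mp h1)
    refine (Subgroup.card_dvd_of_le (inf_commutator_le R D fun g v hv => ?_)).trans hDcard
    obtain ⟨s, hs, t, ht, rfl⟩ := exists_decomp R g
    have htv : t * v * t⁻¹ = v :=
      mul_inv_eq_iff_eq_mul.mpr (commute_of_nonabelian h R hab hDcard hdc ht hv)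
    have : ⁅s * t, v⁆ = ⁅s, v⁆ := by
      rw [show ⁅s * t, v⁆ = s * (t * v * t⁻¹) * s⁻¹ * v⁻¹ by rw [commutatorElement_def]; group,
        htv, commutatorElement_def]
    rw [this]
    exact Subgroup.commutator_mem_commutator hs hv
  -- abelian
  have hRc : ∀ a ∈ (R : Subgroup G), ∀ b ∈ (R : Subgroup G), a * b = b * a := fun a ha b hb =>
    congrArg Subtype.val (hab.is_comm.comm (⟨a, ha⟩ : (R : Subgroup G)) ⟨b, hb⟩)
  have hgR : ∀ (g : G) (v : ↥(R : Subgroup G)), ⁅g, (v : G)⁆ ∈ (R : Subgroup G) := fun g v => by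
    rw [commutatorElement_def]
    exact mul_mem (Subgroup.Normal.conj_mem inferInstance _ v.2 g) (inv_mem v.2)
  let δ : G → ↥(R : Subgroup G) →* G := fun g => MonoidHom.mk' (fun v => ⁅g, (v : G)⁆) fun a b => by
    have h1 : ⁅g, (a : G) * b⁆ = ⁅g, (a : G)⁆ * ((a : G) * ⁅g, (b : G)⁆ * (a : G)⁻¹) := by
      simp only [commutatorElement_def]; group
    rw [Subgroup.coe_mul, h1, hRc _ a.2 _ (hgR g b), mul_inv_cancel_right]
  have hδk : ∀ g, (δ g).ker = (Subgroup.centralizer ({g} : Set G)).subgroupOf (R : Subgroup G) :=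
    fun g => by
      ext v
      rw [MonoidHom.mem_ker, Subgroup.mem_subgroupOf, Subgroup.mem_centralizer_singleton_iff]
      exact commutatorElement_eq_one_iff_mul_comm.trans eq_comm
  have hcard : ∀ g, Nat.card (δ g).range ∣ r := fun g => by
    rw [← Subgroup.index_ker, hδk]; exact relIndex_dvd h R g
  have hker : ∀ i j, (δ i).ker ≤ (δ j).ker → (δ i).ker = (δ j).ker ∨ δ j = 1 := by
    intro i j hle
    rcases (Nat.dvd_prime hp).mp (hcard j) with h1 | h1
    · exact Or.inr (MonoidHom.range_eq_bot_iff.mp (Subgroup.card_eq_one.mp h1))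
    · refine Or.inl (Subgroup.eq_of_le_of_card_ge hle ?_)
      rw [← Subgroup.index_ker] at h1
      have e1 := (δ i).ker.card_mul_index
      have e2 := (δ j).ker.card_mul_index
      rw [h1] at e2
      have h3 : (δ i).ker.index ≤ r := by
        rw [Subgroup.index_ker]; exact Nat.le_of_dvd hp.pos (hcard i)
      nlinarith [hp.pos]
  have hmul : ∀ i j, ∃ k, ∀ v, ∃ a ∈ (δ i).range,
      δ k v = a * δ j v * δ i v ∧ (δ j v = 1 → a = 1) := fun i j => ⟨i * j, fun v =>
    ⟨δ i ⟨δ j v, hgR j v⟩, ⟨_, rfl⟩, by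
      change ⁅i * j, (v : G)⁆ = ⁅i, ⁅j, (v : G)⁆⁆ * ⁅j, (v : G)⁆ * ⁅i, (v : G)⁆
      simp only [commutatorElement_def]; group, fun h1 => by
      rw [show (⟨δ j v, hgR j v⟩ : ↥(R : Subgroup G)) = 1 from Subtype.ext h1, map_one]⟩⟩
  rcases rank_one r δ hcard hker hmul with hk | hI
  · -- one common kernel
    set X := ((R : Subgroup G) ⊓ commutator G).subgroupOf (R : Subgroup G) with hX
    have hXcard : Nat.card X = Nat.card ↥((R : Subgroup G) ⊓ commutator G) :=
      Nat.card_congr (Subgroup.subgroupOfEquivOfLe inf_le_left).toEquiv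
    rw [← hXcard]
    haveI := hab
    by_cases hnt : ∃ g, δ g ≠ 1
    swap
    · push Not at hnt
      have : (R : Subgroup G) ⊓ commutator G ≤ ⊥ := by
        refine inf_commutator_le R ⊥ fun g v hv => Subgroup.mem_bot.mpr ?_
        exact DFunLike.congr_fun (hnt g) ⟨v, hv⟩
      rw [hXcard, le_bot_iff.mp this]; simp
    obtain ⟨g₀, hg₀⟩ := hnt
    have hbot : X ⊓ (δ g₀).ker = ⊥ := by
      rw [eq_bot_iff]
      rintro x ⟨hx, hxk⟩
      rw [Subgroup.mem_bot]
      refine Subtype.ext (Transfer.eq_one_of_abelian_sylow R hab x.2 (fun m _ => ?_)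
        (Subgroup.mem_subgroupOf.mp hx).2)
      have hm : δ m x = 1 := by
        by_cases hm : δ m = 1
        · exact DFunLike.congr_fun hm x
        · exact MonoidHom.mem_ker.mp (hk g₀ m hg₀ hm ▸ hxk)
      exact commutatorElement_eq_one_iff_mul_comm.mp hm
    have hkey : (δ g₀).ker.relIndex X = Nat.card X := by
      rw [← Subgroup.inf_relIndex_right, inf_comm, hbot, Subgroup.relIndex_bot_left]
    rw [← hkey]
    haveI : IsMulCommutative ↥(R : Subgroup G) := hab
    haveI : X.Normal := ⟨fun x hx y => by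
      rw [hab.is_comm.comm y x, mul_inv_cancel_right]; exact hx⟩
    refine (Fitting.relIndex_dvd_index_of_normal_right _ X).trans ?_
    rw [Subgroup.index_ker]; exact hcard g₀
  · -- one common range
    by_cases hnt : ∃ g, δ g ≠ 1
    swap
    · push Not at hnt
      have : (R : Subgroup G) ⊓ commutator G ≤ ⊥ := by
        refine inf_commutator_le R ⊥ fun g v hv => Subgroup.mem_bot.mpr ?_
        exact DFunLike.congr_fun (hnt g) ⟨v, hv⟩
      rw [le_bot_iff.mp this]; simp
    obtain ⟨g₀, hg₀⟩ := hnt
    set I := (δ g₀).range with hIdef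
    have hall : ∀ g (v : ↥(R : Subgroup G)), ⁅g, (v : G)⁆ ∈ I := fun g v => by
      by_cases hg : δ g = 1
      · rw [show ⁅g, (v : G)⁆ = 1 from DFunLike.congr_fun hg v]; exact one_mem _
      · rw [hIdef, ← hI g g₀ hg hg₀]; exact ⟨v, rfl⟩
    haveI : I.Normal := ⟨by
      rintro _ ⟨v, rfl⟩ g
      change g * ⁅g₀, (v : G)⁆ * g⁻¹ ∈ I
      have := hall (g * g₀ * g⁻¹) ⟨g * v * g⁻¹, Subgroup.Normal.conj_mem inferInstance _ v.2 g⟩
      simpa [commutatorElement_def, mul_assoc] using this⟩
    exact (Subgroup.card_dvd_of_le (inf_commutator_le R I fun g v hv => hall g ⟨v, hv⟩)).trans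
      (hcard g₀)

end NormalSylow

/-- The derived group is cyclic of squarefree order. -/
theorem commutator_cyclic_squarefree (n : ℕ) : ∀ (G : Type u) [Group G] [Finite G],
    Nat.card G = n → SF G → IsCyclic (commutator G) ∧ Squarefree (Nat.card (commutator G)) := by
  induction n using Nat.strong_induction_on with
  | _ n ih =>
    intro G _ _ hcard h
    by_cases hn : n ≤ 1
    · haveI : Subsingleton G := (Nat.card_eq_one_iff_unique.mp (by
        have : 0 < Nat.card G := Nat.card_pos
        omega)).1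
      refine ⟨inferInstance, ?_⟩
      rw [Nat.card_of_subsingleton (1 : commutator G)]
      exact squarefree_one
    obtain ⟨r, hr, R, hRn, hrn⟩ := exists_normal_sylow n G hcard h (by omega)
    haveI := hr
    haveI := hRn
    have hRdvd : r ∣ Nat.card (R : Subgroup G) := by
      rw [R.card_eq_multiplicity]
      exact dvd_pow_self r ((hr.out.factorization_pos_of_dvd (Nat.card_pos).ne'
        (hcard ▸ hrn)).ne')
    have hlt : Nat.card (G ⧸ (R : Subgroup G)) < n := by
      rw [← hcard, (R : Subgroup G).card_eq_card_quotient_mul_card_subgroup]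
      exact (Nat.lt_mul_iff_one_lt_right Nat.card_pos).mpr
        (hr.out.one_lt.trans_le (Nat.le_of_dvd Nat.card_pos hRdvd))
    obtain ⟨hcyc, hsq⟩ := ih _ hlt _ rfl (h.quotient (R : Subgroup G))
    set π := QuotientGroup.mk' (R : Subgroup G) with hπ
    have himg : (commutator G).map π = commutator (G ⧸ (R : Subgroup G)) := by
      rw [commutator_def, Subgroup.map_commutator,
        Subgroup.map_top_of_surjective π (QuotientGroup.mk'_surjective _), ← commutator_def]
    set f := π.comp (commutator G).subtype with hf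
    have hrange : f.range = commutator (G ⧸ (R : Subgroup G)) := by
      rw [hf, MonoidHom.range_comp, Subgroup.range_subtype, himg]
    have hkercard : Nat.card f.ker = Nat.card ↥((R : Subgroup G) ⊓ commutator G) := by
      have : f.ker = ((R : Subgroup G) ⊓ commutator G).subgroupOf (commutator G) := by
        ext x
        simp [hf, hπ, MonoidHom.mem_ker, Subgroup.mem_subgroupOf]
      rw [this]
      exact Nat.card_congr (Subgroup.subgroupOfEquivOfLe inf_le_right).toEquiv
    have hd : Nat.card f.ker ∣ r := hkercard ▸ card_inf_commutator_dvd h R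
    have hcop : (Nat.card f.ker).Coprime (Nat.card (commutator (G ⧸ (R : Subgroup G)))) := by
      refine Nat.Coprime.coprime_dvd_left hd (hr.out.coprime_iff_not_dvd.mpr fun hh => ?_)
      exact R.not_dvd_index (hh.trans (commutator _).card_subgroup_dvd_card)
    have hsqG : Squarefree (Nat.card (commutator G)) := by
      rw [← f.ker.card_mul_index, Subgroup.index_ker, hrange]
      exact (Nat.squarefree_mul_iff).mpr ⟨hcop, hr.out.prime.squarefree.squarefree_of_dvd hd, hsq⟩
    refine ⟨?_, hsqG⟩
    haveI : IsCyclic f.range := hrange ▸ hcyc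
    -- the kernel is centralized by the derived group
    set K := (R : Subgroup G) ⊓ commutator G with hKdef
    haveI : K.Normal := Subgroup.normal_inf_normal _ _
    haveI : IsCyclic K := by
      rcases (Nat.dvd_prime hr.out).mp (card_inf_commutator_dvd h R) with h1 | h1
      · haveI : Subsingleton K := (Nat.card_eq_one_iff_unique.mp h1).1
        infer_instance
      · exact isCyclic_of_prime_card h1
    have hcen : f.ker ≤ Subgroup.center (commutator G) := by
      intro x hx
      have hxK : (x : G) ∈ K := ⟨(QuotientGroup.eq_one_iff _).mp hx, x.2⟩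
      refine Subgroup.mem_center_iff.mpr fun y => Subtype.ext ?_
      set ψ := (IsCyclic.mulAutMulEquiv K).toMonoidHom.comp (MulAut.conjNormal : G →* MulAut K)
        with hψ
      have hy : (MulAut.conjNormal (y : G) : MulAut K) = 1 := by
        apply (IsCyclic.mulAutMulEquiv K).injective
        rw [map_one]
        exact MonoidHom.mem_ker.mp (Abelianization.commutator_subset_ker ψ y.2)
      have h2 := congrArg Subtype.val (DFunLike.congr_fun hy ⟨x, hxK⟩)
      simp only [MulAut.conjNormal_apply, MulAut.one_apply] at h2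
      exact mul_inv_eq_iff_eq_mul.mp h2
    haveI : IsMulCommutative (commutator G) := ⟨⟨fun a b =>
      commutative_of_cyclic_center_quotient f.rangeRestrict
        (by rw [MonoidHom.ker_rangeRestrict]; exact hcen) a b⟩⟩
    haveI := IsZGroup.of_squarefree hsqG
    haveI : Group.IsNilpotent (commutator G) := isNilpotent_of_comm (commutator G)
    infer_instance

/-- A group with a cyclic derived subgroup is supersolvable. -/
theorem supersolvable_of_cyclic_commutator {G : Type u} [Group G] [Finite G]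
    (hc : IsCyclic (commutator G)) : Cfsg.IsSupersolvable G := by
  classical
  obtain ⟨c, hc⟩ := IsCyclic.exists_generator (α := commutator G)
  obtain ⟨m, ⟨e⟩⟩ := Finite.exists_equiv_fin G
  let H : ℕ → Subgroup G := fun i => match i with
    | 0 => ⊥
    | j + 1 => commutator G ⊔ Subgroup.closure {g | (e g : ℕ) < j}
  refine ⟨m + 1, fun i => H i, rfl, ?_, ?_, ?_⟩
  · change commutator G ⊔ Subgroup.closure {g | (e g : ℕ) < m} = ⊤
    rw [eq_top_iff]
    exact fun g _ => Subgroup.mem_sup_right (Subgroup.subset_closure (e g).2)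
  · rintro ⟨i, hi⟩
    match i with
    | 0 => change (⊥ : Subgroup G).Normal; infer_instance
    | j + 1 =>
      refine ⟨fun x hx g => ?_⟩
      change g * x * g⁻¹ ∈ H (j + 1)
      have : g * x * g⁻¹ = ⁅g, x⁆ * x := by rw [commutatorElement_def]; group
      rw [this]
      exact mul_mem (Subgroup.mem_sup_left
        (Subgroup.commutator_mem_commutator (Subgroup.mem_top g) (Subgroup.mem_top x))) hx
  · rintro ⟨i, hi⟩
    match i with
    | 0 =>
      refine ⟨c, ?_⟩
      change commutator G ⊔ Subgroup.closure {g | (e g : ℕ) < 0} = ⊥ ⊔ Subgroup.zpowers (c : G)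
      simp only [Nat.not_lt_zero, Set.setOf_false, Subgroup.closure_empty, sup_bot_eq, bot_sup_eq]
      refine le_antisymm (fun x hx => ?_) (Subgroup.zpowers_le.mpr c.2)
      obtain ⟨k, hk⟩ := Subgroup.mem_zpowers_iff.mp (hc ⟨x, hx⟩)
      exact Subgroup.mem_zpowers_iff.mpr ⟨k, congrArg Subtype.val hk⟩
    | j + 1 =>
      refine ⟨e.symm ⟨j, by omega⟩, ?_⟩
      change commutator G ⊔ Subgroup.closure {g | (e g : ℕ) < j + 1} =
        commutator G ⊔ Subgroup.closure {g | (e g : ℕ) < j} ⊔ Subgroup.zpowers (e.symm ⟨j, _⟩)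
      rw [Subgroup.zpowers_eq_closure, sup_assoc, ← Subgroup.closure_union]
      congr 2
      ext g
      simp only [Set.mem_setOf_eq, Set.mem_union, Set.mem_singleton_iff]
      rw [Nat.lt_succ_iff_lt_or_eq]
      refine or_congr Iff.rfl ⟨fun hg => ?_, fun hg => by rw [hg, Equiv.apply_symm_apply]⟩
      rw [Equiv.eq_symm_apply]
      exact Fin.ext hg

/-- A normal subgroup of squarefree order in a nilpotent group is central. -/
theorem le_center_of_squarefree {F : Type u} [Group F] [Finite F] [Group.IsNilpotent F]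
    (A : Subgroup F) [A.Normal] [IsCyclic A] (hA : Squarefree (Nat.card A)) :
    A ≤ Subgroup.center F := by
  have h1 : ∀ p : ℕ, p.Prime → p ∣ Nat.card A →
      p ∣ Nat.card ↥(A ⊓ Subgroup.center F) := by
    intro p hp hpA
    haveI := Fact.mk hp
    obtain ⟨a, ha⟩ := exists_prime_orderOf_dvd_card' p hpA
    rw [← Subgroup.orderOf_coe] at ha
    set U := Subgroup.zpowers (a : F) with hU
    have hUcard : Nat.card U = p := by rw [hU, Nat.card_zpowers, ha]
    haveI : (Subgroup.zpowers a).Characteristic := by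
      rw [Subgroup.characteristic_iff_map_le]
      intro e z hz
      obtain ⟨w, hw, rfl⟩ := hz
      obtain ⟨j, hj⟩ := MonoidHom.map_cyclic e.toMonoidHom
      rw [hj w]
      exact (Subgroup.zpowers a).zpow_mem hw j
    haveI : U.Normal := by
      have : U = (Subgroup.zpowers a).map A.subtype := by rw [hU, MonoidHom.map_zpowers]; rfl
      rw [this]; infer_instance
    haveI : Group.IsNilpotent ↥(⊤ : Subgroup F) :=
      Group.nilpotent_of_mulEquiv Subgroup.topEquiv.symm
    have hne : U ≠ ⊥ := fun hb => hp.ne_one (by rw [← hUcard, hb]; simp)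
    have hlt := Coprime.commutator_lt_of_isNilpotent (X := (⊤ : Subgroup F)) (U := U) (P := ⊤)
      le_top le_rfl (by rw [Subgroup.normalizer_eq_top U]) hne
    have hbot : ⁅U, (⊤ : Subgroup F)⁆ = ⊥ := by
      rcases (Nat.dvd_prime hp).mp (hUcard ▸ Subgroup.card_dvd_of_le hlt.le) with h2 | h2
      · exact Subgroup.card_eq_one.mp h2
      · exact absurd (Subgroup.eq_of_le_of_card_ge hlt.le (by rw [h2, hUcard])) hlt.ne
    have hUc : U ≤ A ⊓ Subgroup.center F := le_inf (Subgroup.zpowers_le.mpr a.2) fun u hu =>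
      Subgroup.mem_center_iff.mpr fun g => by
        have h3 := Subgroup.commutator_mem_commutator hu (Subgroup.mem_top g)
        rw [hbot, Subgroup.mem_bot] at h3
        exact (commutatorElement_eq_one_iff_mul_comm.mp h3).symm
    exact hUcard ▸ Subgroup.card_dvd_of_le hUc
  have hle : Nat.card A ∣ Nat.card ↥(A ⊓ Subgroup.center F) := by
    rw [← Nat.prod_primeFactors_of_squarefree hA]
    refine dvd_trans (Finset.prod_dvd_prod_of_subset _ (Nat.primeFactors _) _ fun p hp => ?_)
      (Nat.prod_primeFactors_dvd (Nat.card ↥(A ⊓ Subgroup.center F)))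
    rw [Nat.mem_primeFactors] at hp ⊢
    exact ⟨hp.1, h1 p hp.1 hp.2.1, Nat.card_pos.ne'⟩
  have h2 : A ⊓ Subgroup.center F = A :=
    Subgroup.eq_of_le_of_card_ge inf_le_left (Nat.le_of_dvd Nat.card_pos hle)
  exact h2 ▸ inf_le_right

/-- Let G be a finite group all of whose conjugacy class sizes are square-free. Then G is supersolvable, G/F(G) and the derived subgroup G′ are cyclic of square-free order (F(G) the Fitting subgroup, which is normal), F(G) has nilpotency class at most 2, and G is metabelian. -/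
theorem result {G : Type*} [Group G] [Finite G]
    (h : ∀ x : G, Squarefree (Subgroup.centralizer ({x} : Set G)).index) :
    Cfsg.IsSupersolvable G ∧ (Cfsg.fittingSubgroup G).Normal ∧
    (∀ _h : (Cfsg.fittingSubgroup G).Normal, IsCyclic (G ⧸ Cfsg.fittingSubgroup G) ∧ Squarefree (Cfsg.fittingSubgroup G).index) ∧
    IsCyclic (commutator G) ∧ Squarefree (Nat.card (commutator G)) ∧
    Subgroup.upperCentralSeries ↥(Cfsg.fittingSubgroup G) 2 = ⊤ ∧ commutator ↥(commutator G) = ⊥ := by
  obtain ⟨hcyc, hsq⟩ := commutator_cyclic_squarefree _ G rfl h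
  haveI := hcyc
  haveI : IsMulCommutative (commutator G) := IsCyclic.commutative
  have hGab : commutator ↥(commutator G) = ⊥ := by
    rw [eq_bot_iff, commutator_def (G := ↥(commutator G)), Subgroup.commutator_le]
    intro a _ b _
    exact Subgroup.mem_bot.mpr (commutatorElement_eq_one_iff_mul_comm.mpr (mul_comm' a b))
  have hFn : (Cfsg.fittingSubgroup G).Normal := CfsgLib.Fitting.fittingSubgroup_normal
  haveI := hFn
  refine ⟨supersolvable_of_cyclic_commutator hcyc, hFn, fun _ => ?_, hcyc, hsq, ?_, hGab⟩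
  · -- the centralizer of a generator of the derived subgroup
    obtain ⟨c, hc⟩ := IsCyclic.exists_generator (α := commutator G)
    set C := Subgroup.centralizer ({(c : G)} : Set G) with hC
    have hGC : commutator G ≤ C := fun x hx => Subgroup.mem_centralizer_singleton_iff.mpr
      (congrArg Subtype.val (mul_comm' (⟨x, hx⟩ : commutator G) c))
    haveI hCn : C.Normal := ⟨fun x hx g => by
      have : g * x * g⁻¹ = ⁅g, x⁆ * x := by rw [commutatorElement_def]; group
      rw [this]
      exact mul_mem (hGC (Subgroup.commutator_mem_commutator (Subgroup.mem_top g)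
        (Subgroup.mem_top x))) hx⟩
    have hcent : ∀ d ∈ commutator G, ∀ x ∈ C, x * d = d * x := fun d hd x hx => by
      obtain ⟨k, hk⟩ := Subgroup.mem_zpowers_iff.mp (hc ⟨d, hd⟩)
      have hkd : (c : G) ^ k = d := congrArg Subtype.val hk
      rw [← hkd]
      have hxc : Commute x (c : G) := Subgroup.mem_centralizer_singleton_iff.mp hx
      exact (hxc.zpow_right k).eq
    haveI : Group.IsNilpotent C := by
      refine (Subgroup.nilpotent_iff_finite_ascending_central_series _).mpr ⟨2,
        fun i => match i with | 0 => ⊥ | 1 => Subgroup.center C | _ + 2 => ⊤, ⟨rfl, ?_⟩, rfl⟩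
      intro x n hx g
      match n with
      | 0 =>
        change x ∈ Subgroup.center C at hx
        exact Subgroup.mem_bot.mpr
          (commutatorElement_eq_one_iff_mul_comm.mpr (Subgroup.mem_center_iff.mp hx g).symm)
      | 1 =>
        exact Subgroup.mem_center_iff.mpr fun y => Subtype.ext (hcent _
          (Subgroup.commutator_mem_commutator (Subgroup.mem_top (x : G)) (Subgroup.mem_top (g : G)))
          _ y.2)
      | _ + 2 => exact Subgroup.mem_top _
    have hCF : C ≤ Cfsg.fittingSubgroup G := CfsgLib.Fitting.le_fittingSubgroup hCn inferInstance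
    have hFsq : Squarefree (Cfsg.fittingSubgroup G).index :=
      (h (c : G)).squarefree_of_dvd (Subgroup.index_dvd_of_le hCF)
    refine ⟨?_, hFsq⟩
    haveI : IsMulCommutative (G ⧸ Cfsg.fittingSubgroup G) := by
      refine ⟨⟨fun a b => ?_⟩⟩
      induction a using QuotientGroup.induction_on with
      | H a =>
        induction b using QuotientGroup.induction_on with
        | H b =>
          exact commutatorElement_eq_one_iff_mul_comm.mp ((QuotientGroup.eq_one_iff ⁅a, b⁆).mpr
            (hCF (hGC (Subgroup.commutator_mem_commutator (Subgroup.mem_top a) (Subgroup.mem_top b)))))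
    haveI := IsZGroup.of_squarefree (G := G ⧸ Cfsg.fittingSubgroup G)
      (by rw [← Subgroup.index_eq_card]; exact hFsq)
    haveI : Group.IsNilpotent (G ⧸ Cfsg.fittingSubgroup G) :=
      isNilpotent_of_comm (G ⧸ Cfsg.fittingSubgroup G)
    infer_instance
  · -- the Fitting subgroup has class at most two
    set F := Cfsg.fittingSubgroup G with hF
    haveI : Group.IsNilpotent F := CfsgLib.Fitting.fittingSubgroup_isNilpotent
    set A := commutator F with hA
    have hle : A.map F.subtype ≤ commutator G := by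
      rw [hA, Subgroup.map_subtype_commutator]
      exact Subgroup.commutator_mono le_top le_top
    haveI : IsCyclic (A.map F.subtype) :=
      isCyclic_of_injective (Subgroup.inclusion hle) (Subgroup.inclusion_injective hle)
    haveI : IsCyclic A := isCyclic_of_surjective
      (Subgroup.equivMapOfInjective A F.subtype F.subtype_injective).symm.toMonoidHom
      (Subgroup.equivMapOfInjective A F.subtype F.subtype_injective).symm.surjective
    have hAsq : Squarefree (Nat.card A) := hsq.squarefree_of_dvd (by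
      rw [← Subgroup.card_map_of_injective F.subtype_injective]
      exact Subgroup.card_dvd_of_le hle)
    have hAc := le_center_of_squarefree A hAsq
    rw [eq_top_iff]
    intro x _
    rw [Subgroup.mem_upperCentralSeries_succ_iff]
    intro y
    rw [Subgroup.upperCentralSeries_one]
    exact hAc (Subgroup.commutator_mem_commutator (Subgroup.mem_top x) (Subgroup.mem_top y))

end Cfsg.Agent.S4130
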