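import Cfsg.Statements.S4133
import Cfsg.Agent.Lib.AGroupIndex.Main
import Cfsg.Agent.Lib.TwoClassSizes.Basic

set_option autoImplicit false
open Cfsg
open scoped Pointwise
set_option linter.style.haveILetI false

namespace Cfsg.Agent.S4133

/-- Let G be a finite group all of whose Sylow subgroups are abelian, and let 2^a be the largest power of 2 dividing the size of any conjugacy class of G. If some element has a conjugacy class of size exactly 2^a, then G is solvable. -/
theorem result {G : Type*} [Group G] [Finite G]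
    (hA : ∀ (p : ℕ) [Fact p.Prime] (P : Sylow p G), IsMulCommutative (P : Subgroup G))
    (a : ℕ) (hmax : ∀ y : G, ¬ 2 ^ (a + 1) ∣ (Subgroup.centralizer ({y} : Set G)).index) (hx : ∃ x : G, (Subgroup.centralizer ({x} : Set G)).index = 2 ^ a) :
    Group.IsSolvable G := by
  classical
  haveI : Fact (Nat.Prime 2) := ⟨Nat.prime_two⟩
  by_contra hns
  have hab : CfsgLib.Char.AGroupMonomial.AbSylow G := fun p _ P x hx y hy =>
    congrArg Subtype.val ((hA p P).is_comm.comm ⟨x, hx⟩ ⟨y, hy⟩)
  obtain ⟨D, hDn, hD, hD1⟩ := Cfsg.Agent.FrobSys.exists_perfect G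
  haveI := hDn
  have hperf : commutator D = ⊤ := by
    apply Subgroup.map_injective D.subtype_injective
    rw [commutator_def, Subgroup.map_commutator, ← MonoidHom.range_eq_map,
      Subgroup.range_subtype, hD]
  have habD := hab.of_injective D.subtype D.subtype_injective
  obtain ⟨x, hx⟩ := hx
  set C := Subgroup.centralizer ({x} : Set G) with hC
  obtain ⟨b, -, hb⟩ := (Nat.dvd_prime_pow Nat.prime_two).mp
    (hx ▸ CfsgLib.AGroupIndex.relIndex_normal_dvd_index C D)
  have hDC : D ≤ C := Subgroup.subgroupOf_eq_top.mp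
    (CfsgLib.AGroupIndex.eq_top_of_two_power_index habD hperf (C.subgroupOf D) (a := b) hb)
  have hxD : ∀ d ∈ D, d * x = x * d := fun d hd =>
    Subgroup.mem_centralizer_singleton_iff.mp (hDC hd)
  have hodd : ∀ u : D, ¬ 2 ∣ (Subgroup.centralizer ({u} : Set D)).index := by
    intro u h2
    have hcent : Subgroup.centralizer ({x * (u : G)} : Set G) =
        C ⊓ Subgroup.centralizer ({(u : G)} : Set G) := by
      ext g
      simp only [hC, Subgroup.mem_inf, Subgroup.mem_centralizer_singleton_iff]
      constructor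
      · intro hg
        obtain ⟨w, hw⟩ : ∃ w, w = x⁻¹ * (g * x * g⁻¹) := ⟨_, rfl⟩
        have hgx : g * (x * u) * g⁻¹ = x * u := by rw [hg]; group
        have hw' : w = (u : G) * (g * u * g⁻¹)⁻¹ := by
          rw [hw, eq_mul_inv_iff_mul_eq]
          calc x⁻¹ * (g * x * g⁻¹) * (g * u * g⁻¹) = x⁻¹ * (g * (x * u) * g⁻¹) := by group
            _ = u := by rw [hgx]; group
        have hwD : w ∈ D := hw' ▸ D.mul_mem u.2 (D.inv_mem (hDn.conj_mem _ u.2 g))
        have hwc : ∀ d ∈ D, d * w = w * d := by
          intro d hd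
          have h1 := hxD d hd
          have h2 : d * (g * x * g⁻¹) = g * x * g⁻¹ * d := by
            calc d * (g * x * g⁻¹) = g * ((g⁻¹ * d * g) * x) * g⁻¹ := by group
              _ = g * (x * (g⁻¹ * d * g)) * g⁻¹ := by
                rw [hxD _ (by simpa using hDn.conj_mem d hd g⁻¹)]
              _ = g * x * g⁻¹ * d := by group
          have h3 : d * x⁻¹ = x⁻¹ * d := (show Commute d x from h1).inv_right.eq
          rw [hw, ← mul_assoc, h3, mul_assoc, h2]; group
        have hw1 : (⟨w, hwD⟩ : D) = 1 := habD.eq_one_of_central (hperf ▸ Subgroup.mem_top _)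
          (Subgroup.mem_center_iff.mpr fun d => Subtype.ext (hwc d d.2))
        have hw2 : w = 1 := congrArg Subtype.val hw1
        rw [hw, inv_mul_eq_one, eq_mul_inv_iff_mul_eq] at hw2
        refine ⟨hw2.symm, ?_⟩
        refine mul_left_cancel (a := x) ?_
        rw [← mul_assoc, hw2, mul_assoc, hg, mul_assoc]
      · rintro ⟨h1, h2⟩
        rw [← mul_assoc, h1, mul_assoc, h2, mul_assoc]
    have h3 := Subgroup.relIndex_mul_index (inf_le_left :
      C ⊓ Subgroup.centralizer ({(u : G)} : Set G) ≤ C)
    rw [Subgroup.inf_relIndex_left, hx] at h3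
    refine hmax (x * u) ?_
    rw [hcent, ← h3, pow_succ']
    refine Nat.mul_dvd_mul (h2.trans ?_) dvd_rfl
    have e : Subgroup.centralizer ({u} : Set D) =
        (Subgroup.centralizer ({(u : G)} : Set G)).subgroupOf D := by
      ext d
      simp [Subgroup.mem_subgroupOf, Subgroup.mem_centralizer_singleton_iff, Subtype.ext_iff]
    rw [e]
    have h4 := CfsgLib.AGroupIndex.relIndex_normal_dvd_index
      ((Subgroup.centralizer ({(u : G)} : Set G)).subgroupOf C) (D.subgroupOf C)
    rw [Subgroup.relIndex_subgroupOf hDC] at h4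
    exact h4
  obtain ⟨P⟩ : Nonempty (Sylow 2 D) := inferInstance
  have hPZ : Subgroup.centralizer ((P : Subgroup D) : Set D) = ⊤ := by
    refine CfsgLib.TwoClassSizes.eq_top_of_conj_cover fun u => ?_
    obtain ⟨Q⟩ : Nonempty (Sylow 2 (Subgroup.centralizer ({u} : Set D))) := inferInstance
    have hidx : ¬ 2 ∣ ((Q : Subgroup _).map (Subgroup.centralizer ({u} : Set D)).subtype).index := by
      rw [Subgroup.index_map_subtype]
      exact Nat.prime_two.not_dvd_mul Q.not_dvd_index (hodd u)
    obtain ⟨g, hg⟩ := MulAction.exists_smul_eq D P ((Q.2.map _).toSylow hidx)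
    refine ⟨g, Subgroup.mem_centralizer_iff.mpr fun s hs => ?_⟩
    have hs' : g * s * g⁻¹ ∈ Subgroup.centralizer ({u} : Set D) := by
      have : MulAut.conj g • s ∈ MulAut.conj g • (P : Subgroup D) :=
        Subgroup.smul_mem_pointwise_smul _ _ _ hs
      have h5 : g * s * g⁻¹ ∈ ((g • P : Sylow 2 D) : Subgroup D) := this
      rw [hg] at h5
      exact Subgroup.map_subtype_le _ h5
    have h6 := Subgroup.mem_centralizer_singleton_iff.mp hs'
    calc s * (g⁻¹ * u * g) = g⁻¹ * (g * s * g⁻¹ * u) * g := by group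
      _ = g⁻¹ * (u * (g * s * g⁻¹)) * g := by rw [h6]
      _ = g⁻¹ * u * g * s := by group
  have hP1 : (P : Subgroup D) = ⊥ := (Subgroup.eq_bot_iff_forall _).mpr fun s hs =>
    habD.eq_one_of_central (hperf ▸ Subgroup.mem_top s) (Subgroup.mem_center_iff.mpr fun d =>
      ((Subgroup.mem_centralizer_iff.mp (hPZ ▸ Subgroup.mem_top d)) s hs).symm)
  have hDodd : Odd (Nat.card D) := Nat.not_even_iff_odd.mp fun he => by
    have h7 := P.dvd_card_of_dvd_card (even_iff_two_dvd.mp he)
    rw [hP1, Subgroup.card_bot] at h7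
    exact absurd (Nat.le_of_dvd one_pos h7) (by norm_num)
  obtain ⟨n, hn⟩ := (Cfsg.Agent.S0205.result hDodd : Group.IsSolvable D)
  have hall : ∀ k, derivedSeries D k = ⊤ := fun k => by
    induction k with
    | zero => rfl
    | succ k ih => rw [derivedSeries_succ, ih, ← commutator_def, hperf]
  rw [hall] at hn
  haveI : Nontrivial D := (Subgroup.nontrivial_iff_ne_bot D).mpr (hD1 hns)
  exact top_ne_bot hn

end Cfsg.Agent.S4133
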