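import Cfsg.Statements.S4134
import Cfsg.Agent.Lib.TwoClassSizes.Structure
import Cfsg.Agent.Lib.Transfer.Basic
-- import your own Cfsg.Agent.* helpers here

set_option autoImplicit false
open Cfsg

namespace Cfsg.Agent.S4134

open CfsgLib.CentMaxNormal CfsgLib.TwoClassSizes in
theorem main {G : Type*} [Group G] [Finite G] (n : ℕ) (hn : 1 < n)
    (h : ∀ x : G, (Subgroup.centralizer ({x} : Set G)).index = 1 ∨
      (Subgroup.centralizer ({x} : Set G)).index = n)
    (hex : ∃ x : G, (Subgroup.centralizer ({x} : Set G)).index = n) :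
    ∃ (p : ℕ) (_ : Fact p.Prime) (a : ℕ), n = p ^ a ∧ ∀ P : Sylow p G, (P : Subgroup G).Normal ∧
      (∃ N : Subgroup G, N.Normal ∧ N.IsComplement' (P : Subgroup G) ∧ IsMulCommutative N ∧
        ∀ x ∈ N, ∀ y ∈ (P : Subgroup G), x * y = y * x) ∧
      ∃ A : Subgroup (P : Subgroup G), A.Normal ∧ IsMulCommutative A ∧
        ∀ y : (P : Subgroup G), y ^ p ∈ A := by
  set Z := Subgroup.center G with hZ
  have hE : Equi (⊤ : Subgroup G) n := fun a _ ha =>
    (h a).resolve_left fun h1 => ha (cen_eq_top_iff.mp (Subgroup.index_eq_one.mp h1))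
  obtain ⟨x₀, hx₀⟩ := hex
  have hx₀Z : x₀ ∉ Z := fun h' => by
    rw [show Subgroup.centralizer ({x₀} : Set G) = ⊤ from cen_eq_top_iff.mpr h',
      Subgroup.index_top] at hx₀
    omega
  obtain ⟨p, hp, hcentral⟩ := exists_prime_central hn hE ⟨x₀, hx₀Z⟩
  haveI := Fact.mk hp
  set π := QuotientGroup.mk' Z with hπ
  have hQ : IsPGroup p ((⊤ : Subgroup G).map π) :=
    Setup.map_mk_pgroup fun z _ r j hr hrp hzj => hcentral z r j hr hrp hzj
  have hQ' : IsPGroup p (G ⧸ Z) := by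
    rintro ⟨g⟩
    obtain ⟨k, hk⟩ := hQ ⟨π g, Subgroup.mem_map_of_mem π (Subgroup.mem_top g)⟩
    exact ⟨k, congrArg Subtype.val hk⟩
  obtain ⟨t, ht⟩ := hQ'.exists_card_eq
  have hdvd : n ∣ p ^ t := by
    rw [← ht, ← Subgroup.index_eq_card, ← hx₀]
    exact Subgroup.index_dvd_of_le (center_le_cen x₀)
  obtain ⟨a, -, hna⟩ := (Nat.dvd_prime_pow hp).mp hdvd
  refine ⟨p, inferInstance, a, hna, fun P => ?_⟩
  -- the complement: the elements of the centre of order prime to `p`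
  let N : Subgroup G :=
    { carrier := {z | z ∈ Z ∧ (orderOf z).Coprime p}
      one_mem' := ⟨Z.one_mem, by simp⟩
      mul_mem' := fun {u v} hu hv => ⟨Z.mul_mem hu.1 hv.1,
        Nat.Coprime.coprime_dvd_left
          ((Commute.orderOf_mul_dvd_mul_orderOf
            (Subgroup.mem_center_iff.mp hv.1 u)))
          (Nat.Coprime.mul_left hu.2 hv.2)⟩
      inv_mem' := fun {u} hu => ⟨Z.inv_mem hu.1, by rw [orderOf_inv]; exact hu.2⟩ }
  haveI hNn : N.Normal := ⟨fun z hz g => by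
    rw [Subgroup.mem_center_iff.mp hz.1 g, mul_inv_cancel_right]; exact hz⟩
  have hNcomm : ∀ z ∈ N, ∀ g : G, z * g = g * z := fun z hz g =>
    (Subgroup.mem_center_iff.mp hz.1 g).symm
  have hNcard : (Nat.card N).Coprime p := by
    refine Nat.Coprime.symm (hp.coprime_iff_not_dvd.mpr fun hd => ?_)
    obtain ⟨z, hz⟩ := exists_prime_orderOf_dvd_card' p hd
    have := z.2.2
    rw [Subgroup.orderOf_coe, hz, Nat.coprime_self] at this
    exact hp.one_lt.ne' this
  have hNq : IsPGroup p (G ⧸ N) := by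
    rintro ⟨g⟩
    obtain ⟨k, hk⟩ := hQ' (g : G ⧸ Z)
    have hz : g ^ p ^ k ∈ Z := (QuotientGroup.eq_one_iff _).mp (by rw [QuotientGroup.mk_pow]; exact hk)
    set z := g ^ p ^ k with hzdef
    refine ⟨k + (orderOf z).factorization p, ?_⟩
    show ((g : G ⧸ N)) ^ _ = 1
    rw [← QuotientGroup.mk_pow, QuotientGroup.eq_one_iff, pow_add, pow_mul]
    refine ⟨Z.pow_mem hz _, ?_⟩
    rw [← hzdef, orderOf_pow_of_dvd (pow_ne_zero _ hp.ne_zero) (Nat.ordProj_dvd _ _)]
    exact (Nat.coprime_ordCompl hp (orderOf_pos z).ne').symm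
  have hcompl : N.IsComplement' (P : Subgroup G) :=
    CfsgLib.Transfer.isComplement'_sylow hNcard hNq P
  have hprod : ∀ g : G, ∃ z ∈ N, ∃ y ∈ (P : Subgroup G), g = z * y := by
    intro g
    obtain ⟨⟨⟨z, hz⟩, ⟨y, hy⟩⟩, he⟩ := hcompl.surjective g
    exact ⟨z, hz, y, hy, he.symm⟩
  have hconj : ∀ g : G, ∀ y : G, ∃ z' ∈ (P : Subgroup G), g * y * g⁻¹ = z' * y * z'⁻¹ := by
    intro g y
    obtain ⟨z, hz, y', hy', rfl⟩ := hprod g
    refine ⟨y', hy', ?_⟩
    calc z * y' * y * (z * y')⁻¹ = z * (y' * y * y'⁻¹) * z⁻¹ := by group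
      _ = y' * y * y'⁻¹ := by rw [hNcomm z hz, mul_inv_cancel_right]
  have hPn : (P : Subgroup G).Normal := ⟨fun y hy g => by
    obtain ⟨z', hz', he⟩ := hconj g y
    rw [he]
    exact P.1.mul_mem (P.1.mul_mem hz' hy) (P.1.inv_mem hz')⟩
  refine ⟨hPn, ⟨N, hNn, hcompl, ⟨⟨fun u v => Subtype.ext (hNcomm u u.2 v)⟩⟩,
    fun x hx y _ => hNcomm x hx y⟩, ?_⟩
  haveI := hPn
  by_cases hall : ∀ y ∈ (P : Subgroup G), y ^ p ∈ Z
  · refine ⟨Z.subgroupOf P, inferInstance, ⟨⟨fun u v => ?_⟩⟩, fun y => ?_⟩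
    · exact Subtype.ext (Subtype.ext (Subgroup.mem_center_iff.mp v.2 _))
    · exact hall y y.2
  push Not at hall
  obtain ⟨y₀, hy₀, hy₀Z⟩ := hall
  have hPZ : ¬ (P : Subgroup G) ≤ Z := fun hle => hy₀Z (Z.pow_mem (hle hy₀) p)
  obtain ⟨z, hzP, hzZ, hzp, hzc⟩ := exists_central_mod P.2 hPZ
  have hkey : ∀ y ∈ (P : Subgroup G), y ^ p ∉ Z →
      y ∈ cen z ∧ ∀ v ∈ cen z, y * v = v * y := by
    intro y hy hyp
    obtain ⟨c, hc, hcy⟩ := hzc y hy
    have h1 : z ∈ cen (y ^ p) := mem_cen_comm.mp (pow_mem_cen_of_central_mod hc hcy hzp)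
    have hyZ : y ∉ Z := fun h' => hyp (Z.pow_mem h' p)
    have h2 : cen y = cen (y ^ p) := hE.cen_eq_of_le (Subgroup.mem_top _) hyZ (Subgroup.mem_top _)
      hyp (cen_le_cen_of_mem (Subgroup.pow_mem _ (Subgroup.mem_zpowers y) p))
    rw [← h2] at h1
    have hyz : Commute y z := (mem_cen.mp h1).symm
    have h3 : (y * z) ^ p = z ^ p * y ^ p := by
      rw [hyz.mul_pow, ← (Commute.pow_pow hyz p p).eq]
    have hyzp : (y * z) ^ p ∉ Z := fun h' => hyp (by
      rw [h3] at h'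
      have := Z.mul_mem (Z.inv_mem hzp) h'
      rwa [inv_mul_cancel_left] at this)
    have h4 : cen (y * z) = cen ((y * z) ^ p) := hE.cen_eq_of_le (Subgroup.mem_top _)
      (fun h' => hyzp (Z.pow_mem h' p)) (Subgroup.mem_top _) hyzp
      (cen_le_cen_of_mem (Subgroup.pow_mem _ (Subgroup.mem_zpowers _) p))
    rw [h3, cen_mul_center hzp, ← h2] at h4
    have h5 : cen y ≤ cen z := by
      intro g hg
      have hg' : g ∈ cen (y * z) := h4.symm ▸ hg
      rw [mem_cen] at hg hg' ⊢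
      rw [← mul_assoc, hg, mul_assoc, mul_assoc] at hg'
      exact mul_left_cancel hg'
    have h6 : cen y = cen z :=
      hE.cen_eq_of_le (Subgroup.mem_top _) hyZ (Subgroup.mem_top _) hzZ h5
    exact ⟨h5 (self_mem_cen y), fun v hv => (mem_cen.mp (h6 ▸ hv : v ∈ cen y)).symm⟩
  have hnorm : ∀ g : G, g ∈ Subgroup.normalizer ((cen z : Subgroup G) : Set G) := by
    intro g
    obtain ⟨z', hz', he⟩ := hconj g z
    obtain ⟨c, hc, hcz⟩ := hzc z' hz'
    exact mem_normalizer_of_central_mod hc (he.trans hcz)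
  haveI : (cen z).Normal := Subgroup.normalizer_eq_top_iff.mp (eq_top_iff.mpr fun g _ => hnorm g)
  refine ⟨(cen z ⊓ Subgroup.centralizer ((cen z : Subgroup G) : Set G)).subgroupOf P,
    inferInstance, ⟨⟨fun u v => ?_⟩⟩, fun y => ?_⟩
  · exact Subtype.ext (Subtype.ext (Subgroup.mem_centralizer_iff.mp v.2.2 _ u.2.1))
  · rw [Subgroup.mem_subgroupOf, SubmonoidClass.coe_pow]
    by_cases hyp : ((y : G)) ^ p ∈ Z
    · exact ⟨center_le_cen z hyp, Subgroup.center_le_centralizer _ hyp⟩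
    · obtain ⟨h1, h2⟩ := hkey y y.2 hyp
      exact ⟨(cen z).pow_mem h1 p, Subgroup.pow_mem _
        (Subgroup.mem_centralizer_iff.mpr fun v hv => (h2 v hv).symm) p⟩

/-- Let G be a finite group whose conjugacy classes have exactly two sizes, 1 and n > 1. Then n is a power of a prime p and G is the direct product of a p-group and an abelian group of order prime to p: its Sylow p-subgroup P is normal with an abelian normal complement centralizing it; moreover P has an abelian normal subgroup A with P/A of exponent dividing p. -/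
theorem result {G : Type*} [Group G] [Finite G] (n : ℕ) (hn : 1 < n)
    (h : ∀ x : G, (Subgroup.centralizer ({x} : Set G)).index = 1 ∨ (Subgroup.centralizer ({x} : Set G)).index = n) (hex : ∃ x : G, (Subgroup.centralizer ({x} : Set G)).index = n) :
    ∃ (p : ℕ) (_ : Fact p.Prime) (a : ℕ), n = p ^ a ∧ ∀ P : Sylow p G, (P : Subgroup G).Normal ∧
      (∃ N : Subgroup G, N.Normal ∧ N.IsComplement' (P : Subgroup G) ∧ IsMulCommutative N ∧
        ∀ x ∈ N, ∀ y ∈ (P : Subgroup G), x * y = y * x) ∧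
      ∃ A : Subgroup (P : Subgroup G), A.Normal ∧ IsMulCommutative A ∧ ∀ y : (P : Subgroup G), y ^ p ∈ A := by
  exact main n hn h hex

end Cfsg.Agent.S4134
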