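import Cfsg.Statements.S4146
import Cfsg.Agent.Lib.ConjType.Good
import Cfsg.Agent.Lib.ConjType.Bad

set_option autoImplicit false
open Cfsg

namespace Cfsg.Agent.S4146

/-- Let G be a finite group whose conjugacy class sizes are exactly 1, n, m and nm for coprime integers n, m > 1. Then G is nilpotent and n and m are prime powers. -/
theorem result {G : Type*} [Group G] [Finite G] (n m : ℕ) (hn : 1 < n) (hm : 1 < m) (hcop : n.Coprime m)
    (h : Set.range (fun x : G => (Subgroup.centralizer ({x} : Set G)).index) = ({1, n, m, n * m} : Set ℕ)) :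
    Group.IsNilpotent G ∧ IsPrimePow n ∧ IsPrimePow m := by
  have hv : ∀ g : G, (Subgroup.centralizer ({g} : Set G)).index ∈ ({1, n, m, n * m} : Set ℕ) :=
    fun g => h ▸ Set.mem_range_self g
  have hex : ∀ k ∈ ({1, n, m, n * m} : Set ℕ),
      ∃ g : G, (Subgroup.centralizer ({g} : Set G)).index = k := fun k hk => by
    rw [← h] at hk
    exact hk
  have H : CfsgLib.ConjType.Cfg G n m :=
    ⟨hn, hm, hcop, fun g => by simpa using hv g, hex n (by simp), hex m (by simp),
      hex (n * m) (by simp)⟩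
  by_cases hbn : CfsgLib.ConjType.Cfg.Bad G n
  · by_cases hbm : CfsgLib.ConjType.Cfg.Bad G m
    · exact (H.false_of_bad hbn hbm).elim
    · unfold CfsgLib.ConjType.Cfg.Bad at hbm
      push Not at hbm
      obtain ⟨q, y, hq, hyq, hy, hqm⟩ := hbm
      obtain ⟨h1, h2, h3⟩ := H.symm.nilpotent_of_good hq hyq hy hqm
      exact ⟨h1, h3, h2⟩
  · unfold CfsgLib.ConjType.Cfg.Bad at hbn
    push Not at hbn
    obtain ⟨p, x, hp, hxp, hx, hpn⟩ := hbn
    exact H.nilpotent_of_good hp hxp hx hpn

end Cfsg.Agent.S4146
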