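import Cfsg.Statements.S4137
import Cfsg.Agent.Lib.ClassSizesFour.Main
import Cfsg.Agent.Lib.ClassSizesFour.NoChain
import Cfsg.Agent.S4146

set_option autoImplicit false
open Cfsg

namespace Cfsg.Agent.S4137

/-- Let G be a finite group with trivial centre and at most three distinct sizes of conjugacy classes other than 1. Then G is solvable or G is isomorphic to PSL₂(2^a) for some a ≥ 1. -/
theorem result {G : Type*} [Group G] [Finite G]
    (hZ : Subgroup.center G = ⊥) (h : Nat.card {n : ℕ | 1 < n ∧ ∃ x : G, (Subgroup.centralizer ({x} : Set G)).index = n} ≤ 3) :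
    Group.IsSolvable G ∨ ∃ a : ℕ, 0 < a ∧ Nonempty (G ≃* Matrix.ProjectiveSpecialLinearGroup (Fin 2) (GaloisField 2 a)) := by
  classical
  refine or_iff_not_imp_left.mpr fun hns => ?_
  set S : Set ℕ :=
    {n : ℕ | 1 < n ∧ ∃ x : G, (Subgroup.centralizer ({x} : Set G)).index = n} with hS
  have hone : ∀ g : G, (Subgroup.centralizer ({g} : Set G)).index = 1 → g = 1 := fun g hg => by
    have := CfsgLib.ClassSizesFour.index_C_eq_one_iff.mp hg
    rwa [hZ, Subgroup.mem_bot] at this
  have hmem : ∀ g : G, g ≠ 1 → (Subgroup.centralizer ({g} : Set G)).index ∈ S := fun g hg =>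
    ⟨Nat.one_lt_iff_ne_zero_and_ne_one.mpr
      ⟨Subgroup.index_ne_zero_of_finite, fun e => hg (hone g e)⟩, g, rfl⟩
  by_cases hflat : CfsgLib.ClassSizesFour.Flat G
  · exact hflat.classify hns
  exfalso
  unfold CfsgLib.ClassSizesFour.Flat at hflat
  push Not at hflat
  obtain ⟨g, w, hg, hw, hle, hne⟩ := hflat
  set a := (Subgroup.centralizer ({w} : Set G)).index with ha
  set b := (Subgroup.centralizer ({g} : Set G)).index with hb
  have hab : a ∣ b := Subgroup.index_dvd_of_le hle
  have hb1 : 1 < b := (hmem g hg).1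
  have ha1 : 1 < a := (hmem w hw).1
  have hlt : a < b := lt_of_le_of_ne (Nat.le_of_dvd (by omega) hab) fun e =>
    hne (CfsgLib.ClassSizesFour.eq_of_le_of_index hle e.symm)
  have hSfin : S.Finite := (Set.finite_range fun x : G =>
    (Subgroup.centralizer ({x} : Set G)).index).subset fun n hn => hn.2
  have hprime : ∀ p : ℕ, p.Prime → p ∣ Nat.card G →
      ∃ u : G, u ≠ 1 ∧ ¬ p ∣ (Subgroup.centralizer ({u} : Set G)).index := by
    intro p hp hd
    haveI := Fact.mk hp
    obtain ⟨P⟩ : Nonempty (Sylow p G) := inferInstance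
    obtain ⟨u, hu, -, -, -, hun⟩ := CfsgLib.ClassSizesFour.exists_center_sylow hd P
    exact ⟨u, hu, hun⟩
  obtain ⟨p, hp, hpa⟩ := Nat.exists_prime_and_dvd (show a ≠ 1 by omega)
  obtain ⟨u, hu, hun⟩ := hprime p hp (hpa.trans (Subgroup.index_dvd_card _))
  set c := (Subgroup.centralizer ({u} : Set G)).index with hc
  have hc1 : 1 < c := (hmem u hu).1
  have hac : ¬ a ∣ c := fun h' => hun (hpa.trans h')
  have hsub : ({a, b, c} : Finset ℕ) ⊆ hSfin.toFinset := by
    intro n hn
    simp only [Finset.mem_insert, Finset.mem_singleton] at hn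
    rw [Set.Finite.mem_toFinset]
    rcases hn with rfl | rfl | rfl
    exacts [hmem w hw, hmem g hg, hmem u hu]
  have hcard : ({a, b, c} : Finset ℕ).card = 3 := Finset.card_eq_three.mpr
    ⟨a, b, c, hlt.ne, fun e => hac (e ▸ dvd_rfl), fun e => hac (e ▸ hab), rfl⟩
  have heq : ({a, b, c} : Finset ℕ) = hSfin.toFinset := Finset.eq_of_subset_of_card_le hsub (by
    rw [hcard, ← Set.ncard_eq_toFinset_card S hSfin, ← Nat.card_coe_set_eq]
    exact h)
  have hsize : ∀ x : G, x ≠ 1 → (Subgroup.centralizer ({x} : Set G)).index = a ∨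
      (Subgroup.centralizer ({x} : Set G)).index = b ∨
      (Subgroup.centralizer ({x} : Set G)).index = c := fun x hx => by
    have h1 := hSfin.mem_toFinset.mpr (hmem x hx)
    rw [← heq] at h1
    simpa using h1
  have hgcd : ∀ q : ℕ, q.Prime → q ∣ c → q ∣ a → False := by
    intro q hq hqc hqa
    obtain ⟨v, hv, hvn⟩ := hprime q hq (hqc.trans (Subgroup.index_dvd_card _))
    rcases hsize v hv with e | e | e <;> rw [e] at hvn
    exacts [hvn hqa, hvn (hqa.trans hab), hvn hqc]
  have hca : ¬ c ∣ a := fun h' => by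
    obtain ⟨q, hq, hqc⟩ := Nat.exists_prime_and_dvd (show c ≠ 1 by omega)
    exact hgcd q hq hqc (hqc.trans h')
  have hcop : a.Coprime c := Nat.coprime_of_dvd fun q hq hqa hqc => hgcd q hq hqc hqa
  by_cases hbac : b = a * c
  · suffices hr : Group.IsNilpotent G from hns inferInstance
    refine (Cfsg.Agent.S4146.result a c ha1 hc1 hcop ?_).1
    ext n
    simp only [Set.mem_range, Set.mem_insert_iff, Set.mem_singleton_iff]
    constructor
    · rintro ⟨x, rfl⟩
      by_cases hx : x = 1
      · left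
        rw [hx]
        exact CfsgLib.ClassSizesFour.index_C_eq_one_iff.mpr (one_mem _)
      · rcases hsize x hx with e | e | e
        exacts [Or.inr (Or.inl e), Or.inr (Or.inr (Or.inr (e.trans hbac))),
          Or.inr (Or.inr (Or.inl e))]
    · rintro (rfl | rfl | rfl | rfl)
      exacts [⟨1, CfsgLib.ClassSizesFour.index_C_eq_one_iff.mpr (one_mem _)⟩, ⟨w, rfl⟩, ⟨u, rfl⟩,
        ⟨g, hbac⟩]
  exact hns (CfsgLib.ClassSizesFour.Triple.isSolvable (a := a) (b := b) (c := c)
    ⟨hone, hsize, ⟨w, rfl⟩, ⟨g, rfl⟩, ⟨u, rfl⟩, hab, hlt, fun h' => hac (hab.trans h'), hac, hca,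
      hcop, ha1, hc1, hbac⟩)

end Cfsg.Agent.S4137
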