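import Cfsg.Statements.S4139
import Cfsg.Agent.Lib.ClassSize.NilpotentMultiset

set_option autoImplicit false
open Cfsg

namespace Cfsg.Agent.S4139

/-- Let G and H be finite groups such that for every natural number k, G and H have the same number of conjugacy classes of size k. If H is nilpotent then G is nilpotent. -/
theorem result {G H : Type*} [Group G] [Finite G] [Group H] [Finite H]
    (hH : Group.IsNilpotent H)
    (h : ∀ k : ℕ, Nat.card {C : ConjClasses G // Nat.card C.carrier = k} = Nat.card {C : ConjClasses H // Nat.card C.carrier = k}) :
    Group.IsNilpotent G := by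
  refine ((Group.isNilpotent_of_finite_tfae (G := G)).out 0 3).2 fun p hp P => ?_
  haveI := hp
  have hZ : Nat.card (Subgroup.center G) = Nat.card (Subgroup.center H) := by
    calc Nat.card (Subgroup.center G) = Nat.card {x : G // Nat.card (ConjClasses.mk x).carrier = 1} :=
          Nat.card_congr (Equiv.subtypeEquivRight CfsgLib.ClassSize.mem_center_iff_size)
      _ = Nat.card {x : H // Nat.card (ConjClasses.mk x).carrier = 1} :=
          CfsgLib.ClassSize.card_by_size_eq h (· = 1)
      _ = Nat.card (Subgroup.center H) :=
          Nat.card_congr (Equiv.subtypeEquivRight fun x => (CfsgLib.ClassSize.mem_center_iff_size x).symm)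
  have hG : Nat.card G = Nat.card H := by
    rw [← Nat.card_congr (Equiv.subtypeUnivEquiv (p := fun _ : G => True) fun _ => trivial),
      ← Nat.card_congr (Equiv.subtypeUnivEquiv (p := fun _ : H => True) fun _ => trivial)]
    exact CfsgLib.ClassSize.card_by_size_eq h (fun _ => True)
  refine CfsgLib.ClassSize.sylow_normal_of_count P ?_
  rw [CfsgLib.ClassSize.card_by_size_eq h (fun k => ¬ p ∣ k), hG, hZ]
  exact CfsgLib.ClassSize.count_nilpotent hH

end Cfsg.Agent.S4139
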