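import Cfsg.Statements.S4142
import Mathlib
import Cfsg.Agent.Lib.Supersolvable.Basic

set_option autoImplicit false
set_option linter.style.haveILetI false
open Cfsg

namespace Cfsg.Agent.S4142

/-- Let G be a finite group and N a normal subgroup. Then the conjugacy class of every element g outside N is a union of cosets of N (gn is conjugate to g for all n ∈ N) if and only if for every g outside N the centralizer of g in G has the same order as the centralizer of gN in G/N. -/
theorem result {G : Type*} [Group G] [Finite G] (N : Subgroup G) [N.Normal] :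
    (∀ g : G, g ∉ N → ∀ n ∈ N, ∃ x : G, x * g * x⁻¹ = g * n) ↔
      ∀ g : G, g ∉ N → Nat.card (Subgroup.centralizer ({g} : Set G)) =
        Nat.card (Subgroup.centralizer ({(QuotientGroup.mk g : G ⧸ N)} : Set (G ⧸ N))) := by
  refine forall_congr' fun g => forall_congr' fun hg => ?_
  set f := QuotientGroup.mk' N
  set C := Subgroup.centralizer ({g} : Set G)
  set Cb := Subgroup.centralizer ({(QuotientGroup.mk g : G ⧸ N)} : Set (G ⧸ N))
  set K := Cb.comap f with hK
  have hC : ∀ a : G, a ∈ C ↔ a * g * a⁻¹ = g := fun a => by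
    rw [Subgroup.mem_centralizer_singleton_iff, mul_inv_eq_iff_eq_mul]
  have hKmem : ∀ a : G, a ∈ K ↔ g⁻¹ * (a * g * a⁻¹) ∈ N := fun a => by
    rw [hK, Subgroup.mem_comap, Subgroup.mem_centralizer_singleton_iff, ← QuotientGroup.eq_one_iff]
    simp only [f, QuotientGroup.mk'_apply, QuotientGroup.mk_mul, QuotientGroup.mk_inv]
    rw [inv_mul_eq_one, eq_mul_inv_iff_mul_eq, eq_comm]
  have hCK : C ≤ K := fun a ha => by
    rw [hKmem, (hC a).mp ha, inv_mul_cancel]; exact N.one_mem
  have hKcard : Nat.card K = Nat.card N * Nat.card Cb :=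
    CfsgLib.Supersolvable.card_comap_mk' N Cb
  -- the conjugation map from cosets of `C` in `K` to `N`
  let φ : K ⧸ C.subgroupOf K → N := Quotient.lift
    (fun a : K => (⟨g⁻¹ * ((a : G) * g * (a : G)⁻¹), (hKmem _).mp a.2⟩ : N))
    (fun a b hab => by
      have h1 : a⁻¹ * b ∈ C.subgroupOf K := QuotientGroup.leftRel_apply.mp hab
      have h2 : ((a : G)⁻¹ * b) * g * ((a : G)⁻¹ * b)⁻¹ = g := (hC _).mp h1
      apply Subtype.ext
      show g⁻¹ * ((a : G) * g * (a : G)⁻¹) = g⁻¹ * ((b : G) * g * (b : G)⁻¹)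
      rw [show (b : G) * g * (b : G)⁻¹
          = a * (((a : G)⁻¹ * b) * g * ((a : G)⁻¹ * b)⁻¹) * (a : G)⁻¹ by group, h2])
  have hφ : Function.Injective φ := by
    rintro ⟨a⟩ ⟨b⟩ hab
    refine Quotient.sound (QuotientGroup.leftRel_apply.mpr ?_)
    show (a : G)⁻¹ * b ∈ C
    rw [hC]
    have h1 : (a : G) * g * (a : G)⁻¹ = b * g * (b : G)⁻¹ :=
      mul_left_cancel (congrArg Subtype.val hab)
    calc (a : G)⁻¹ * b * g * ((a : G)⁻¹ * b)⁻¹ = (a : G)⁻¹ * (b * g * (b : G)⁻¹) * a := by group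
      _ = g := by rw [← h1]; group
  have hKC : Nat.card K = Nat.card (K ⧸ C.subgroupOf K) * Nat.card C := by
    rw [Subgroup.card_eq_card_quotient_mul_card_subgroup (C.subgroupOf K),
      Nat.card_congr (Subgroup.subgroupOfEquivOfLe hCK).toEquiv]
  constructor
  · intro h
    have hsurj : Function.Surjective φ := by
      rintro ⟨n, hn⟩
      obtain ⟨a, ha⟩ := h n hn
      have haK : a ∈ K := by
        rw [hKmem, ha, inv_mul_cancel_left]; exact hn
      refine ⟨Quotient.mk _ ⟨a, haK⟩, Subtype.ext ?_⟩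
      show g⁻¹ * (a * g * a⁻¹) = n
      rw [ha, inv_mul_cancel_left]
    rw [Nat.card_congr (Equiv.ofBijective φ ⟨hφ, hsurj⟩), hKcard] at hKC
    exact (Nat.eq_of_mul_eq_mul_left Nat.card_pos hKC).symm
  · intro h n hn
    rw [hKcard, ← h] at hKC
    have hcard : Nat.card (K ⧸ C.subgroupOf K) = Nat.card N :=
      (Nat.eq_of_mul_eq_mul_right Nat.card_pos hKC).symm
    obtain ⟨⟨a⟩, ha⟩ := ((Nat.bijective_iff_injective_and_card φ).mpr ⟨hφ, hcard⟩).2 ⟨n, hn⟩
    refine ⟨a, ?_⟩
    have h1 : g⁻¹ * ((a : G) * g * (a : G)⁻¹) = n := congrArg Subtype.val ha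
    rw [← h1, mul_inv_cancel_left]

end Cfsg.Agent.S4142
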