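import Cfsg.Statements.S4143
import Cfsg.Agent.Lib.PGroup.SelfCentralizing

set_option autoImplicit false
open Cfsg

namespace Cfsg.Agent.S4143

/-- Let X be a finite p-group of order p^n containing a non-abelian subgroup B of order p³ with C_X(B) ≤ B. Then X has nilpotency class n − 1 (maximal class). -/
theorem result {X : Type*} [Group X] [Finite X] {p : ℕ} [Fact p.Prime] (n : ℕ) (hX : Nat.card X = p ^ n)
    (B : Subgroup X) (hB : Nat.card B = p ^ 3) (hBna : ¬ IsMulCommutative B) (hC : Subgroup.centralizer (B : Set X) ≤ B) :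
    Group.nilpotencyClass X = n - 1 := by
  have hp : p.Prime := Fact.out
  have hXp : IsPGroup p X := IsPGroup.of_card hX
  haveI : Group.IsNilpotent X := hXp.isNilpotent
  set Z := Subgroup.center X with hZ
  have hZB : Z ≤ B := fun z hz => hC fun b _ => Subgroup.mem_center_iff.mp hz b
  have hBn3 : 3 ≤ n := by
    have := Subgroup.card_le_card_group B
    rw [hB, hX] at this
    exact (Nat.pow_le_pow_iff_right hp.one_lt).mp this
  haveI : Nontrivial X := Finite.one_lt_card_iff_nontrivial.mp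
    (hX ▸ Nat.one_lt_pow (by omega) hp.one_lt)
  -- the centre of `B` has order `p`
  set ZB := (Subgroup.center B).map B.subtype with hZBdef
  have hquot_cyc : ¬ IsCyclic (B ⧸ Subgroup.center B) := fun h => hBna ⟨⟨fun a b =>
    commutative_of_cyclic_center_quotient (QuotientGroup.mk' (Subgroup.center B))
      (by rw [QuotientGroup.ker_mk']) a b⟩⟩
  obtain ⟨i, -, hi⟩ := (Nat.dvd_prime_pow hp).mp (hB ▸ Subgroup.card_subgroup_dvd_card (Subgroup.center B))
  have hBp : IsPGroup p B := hXp.to_subgroup B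
  haveI : Nontrivial B := Finite.one_lt_card_iff_nontrivial.mp
    (hB ▸ Nat.one_lt_pow (by omega) hp.one_lt)
  have hi0 : i ≠ 0 := by
    rintro rfl
    haveI := hBp.center_nontrivial
    rw [pow_zero] at hi
    exact (Finite.one_lt_card_iff_nontrivial.mpr this).ne' hi
  have hprod := Subgroup.card_eq_card_quotient_mul_card_subgroup (Subgroup.center B)
  rw [hB, hi] at hprod
  have hi1 : i = 1 := by
    by_contra hne
    obtain ⟨j, hj⟩ := IsPGroup.iff_card.mp (hBp.to_quotient (Subgroup.center B))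
    rw [hj, ← pow_add] at hprod
    have := Nat.pow_right_injective hp.two_le hprod
    rcases Nat.lt_or_ge j 1 with h | h
    · haveI : Subsingleton (B ⧸ Subgroup.center B) :=
        (Nat.card_eq_one_iff_unique.mp (by rw [hj, show j = 0 by omega, pow_zero])).1
      exact hquot_cyc isCyclic_of_subsingleton
    · exact hquot_cyc (isCyclic_of_prime_card (p := p) (by rw [hj, show j = 1 by omega, pow_one]))
  rw [hi1, pow_one] at hi
  have hZBcard : Nat.card ZB = p := by
    rw [hZBdef, Subgroup.card_map_of_injective B.subtype_injective, hi]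
  have hZeq : Z = ZB := by
    have hle : Z ≤ ZB := fun z hz => ⟨⟨z, hZB hz⟩, Subgroup.mem_center_iff.mpr
      fun b => Subtype.ext (Subgroup.mem_center_iff.mp hz b), rfl⟩
    refine Subgroup.eq_of_le_of_card_ge hle ?_
    rw [hZBcard]
    obtain ⟨k, hk⟩ := IsPGroup.iff_card.mp (hXp.to_subgroup Z)
    rw [hk]
    refine Nat.le_self_pow ?_ p
    rintro rfl
    haveI := hXp.center_nontrivial
    exact (Finite.one_lt_card_iff_nontrivial.mpr this).ne' (hk.trans (pow_zero p))
  have hj : Nat.card Z = p := hZeq ▸ hZBcard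
  set f := QuotientGroup.mk' Z with hf
  have hsurj : Function.Surjective f := QuotientGroup.mk'_surjective _
  have hXQ : Nat.card (X ⧸ Z) = p ^ (n - 1) := by
    have := Subgroup.card_eq_card_quotient_mul_card_subgroup Z
    rw [hX, hj] at this
    refine Nat.eq_of_mul_eq_mul_right hp.pos (this.symm.trans ?_)
    rw [← pow_succ, Nat.sub_add_cancel (by omega)]
  set Bb := B.map f with hBb
  have hBc : Nat.card Bb = p ^ 2 := by
    have h1 : (f.ker).relIndex B = Nat.card Bb := Subgroup.relIndex_ker B f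
    rw [hf, QuotientGroup.ker_mk'] at h1
    have h2 := Subgroup.relIndex_mul_relIndex ⊥ Z B bot_le hZB
    rw [Subgroup.relIndex_bot_left, Subgroup.relIndex_bot_left, h1, hj, hB] at h2
    exact Nat.eq_of_mul_eq_mul_left hp.pos (h2.trans (by ring))
  -- two generators of `B`
  haveI : Group.IsNilpotent B := hBp.isNilpotent
  obtain ⟨u, hu⟩ : ∃ u : B, u ∉ Subgroup.center B := by
    by_contra hall
    push Not at hall
    exact hBna ⟨⟨fun a b => Subgroup.mem_center_iff.mp (hall b) a⟩⟩
  obtain ⟨v, hv⟩ : ∃ v : B, u * v ≠ v * u := by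
    by_contra hall
    push Not at hall
    exact hu (Subgroup.mem_center_iff.mpr fun g => (hall g).symm)
  have hbot : Subgroup.centralizer (Bb : Set (X ⧸ Z)) = Bb := by
    refine le_antisymm (fun q hq => ?_) ?_
    swap
    · intro a ha b hb
      letI := IsPGroup.commGroupOfCardEqPrimeSq hBc
      exact congrArg Subtype.val (mul_comm (⟨b, hb⟩ : Bb) ⟨a, ha⟩)
    obtain ⟨g, rfl⟩ := hsurj q
    -- `b ↦ ⁅g, b⁆` is a homomorphism into `Z`
    have hcz : ∀ b ∈ B, g * b * g⁻¹ * b⁻¹ ∈ Z := fun b hb => by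
      have h1 : f b * f g = f g * f b := hq (f b) ⟨b, hb, rfl⟩
      rw [← QuotientGroup.ker_mk' Z, ← hf, MonoidHom.mem_ker, map_mul, map_mul, map_mul, ← h1,
        map_inv, map_inv, mul_inv_cancel_right, mul_inv_cancel]
    have hmul : ∀ a ∈ B, ∀ b ∈ B, g * (a * b) * g⁻¹ * (a * b)⁻¹ =
        (g * a * g⁻¹ * a⁻¹) * (g * b * g⁻¹ * b⁻¹) := by
      intro a ha b hb
      have hc := Subgroup.mem_center_iff.mp (hcz b hb) a
      calc g * (a * b) * g⁻¹ * (a * b)⁻¹
          = (g * a * g⁻¹) * (g * b * g⁻¹ * b⁻¹) * a⁻¹ := by group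
        _ = (g * a * g⁻¹ * a⁻¹) * (a * (g * b * g⁻¹ * b⁻¹)) * a⁻¹ := by group
        _ = _ := by rw [hc]; group
    obtain ⟨j, hj'⟩ := Subgroup.mem_zpowers_iff.mp (show
        g * (u : X) * g⁻¹ * (u : X)⁻¹ ∈ Subgroup.zpowers ((v : X) * u * (v : X)⁻¹ * (u : X)⁻¹) by
      have hv1 : (v : X) * u * (v : X)⁻¹ * (u : X)⁻¹ ≠ 1 := fun e => hv (Subtype.ext (by
        rw [mul_inv_eq_one, mul_inv_eq_iff_eq_mul] at e
        exact e.symm))
      have hmem : (v : X) * u * (v : X)⁻¹ * (u : X)⁻¹ ∈ Z := by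
        letI := IsPGroup.commGroupOfCardEqPrimeSq hBc
        rw [← QuotientGroup.ker_mk' Z, ← hf, MonoidHom.mem_ker, map_mul, map_mul, map_mul, map_inv,
          map_inv, show f v * f u = f u * f v from congrArg Subtype.val
            (mul_comm (⟨f v, v, v.2, rfl⟩ : Bb) ⟨f u, u, u.2, rfl⟩),
          mul_inv_cancel_right, mul_inv_cancel]
      rw [Subgroup.eq_of_le_of_card_ge (Subgroup.zpowers_le.mpr hmem) (by
        rw [hj, Nat.card_zpowers]
        refine (orderOf_eq_prime ?_ hv1).ge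
        rw [← orderOf_dvd_iff_pow_eq_one, ← hj]
        exact Subgroup.orderOf_dvd_natCard Z hmem)]
      exact hcz u u.2)
    obtain ⟨k, hk'⟩ := Subgroup.mem_zpowers_iff.mp (show
        g * (v : X) * g⁻¹ * (v : X)⁻¹ ∈ Subgroup.zpowers ((u : X) * v * (u : X)⁻¹ * (v : X)⁻¹) by
      have hv1 : (u : X) * v * (u : X)⁻¹ * (v : X)⁻¹ ≠ 1 := fun e => hv (Subtype.ext (by
        rw [mul_inv_eq_one, mul_inv_eq_iff_eq_mul] at e
        exact e))
      have hmem : (u : X) * v * (u : X)⁻¹ * (v : X)⁻¹ ∈ Z := by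
        letI := IsPGroup.commGroupOfCardEqPrimeSq hBc
        rw [← QuotientGroup.ker_mk' Z, ← hf, MonoidHom.mem_ker, map_mul, map_mul, map_mul, map_inv,
          map_inv, show f u * f v = f v * f u from congrArg Subtype.val
            (mul_comm (⟨f u, u, u.2, rfl⟩ : Bb) ⟨f v, v, v.2, rfl⟩),
          mul_inv_cancel_right, mul_inv_cancel]
      rw [Subgroup.eq_of_le_of_card_ge (Subgroup.zpowers_le.mpr hmem) (by
        rw [hj, Nat.card_zpowers]
        refine (orderOf_eq_prime ?_ hv1).ge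
        rw [← orderOf_dvd_iff_pow_eq_one, ← hj]
        exact Subgroup.orderOf_dvd_natCard Z hmem)]
      exact hcz v v.2)
    -- an element of `B` with the same action
    set b₀ := (v : X) ^ j * (u : X) ^ k with hb₀
    have hb₀B : b₀ ∈ B := mul_mem (zpow_mem v.2 j) (zpow_mem u.2 k)
    have hact : ∀ x ∈ B, ∀ y ∈ B, ∀ w ∈ B, (x * y) * w * (x * y)⁻¹ * w⁻¹ =
        (x * w * x⁻¹ * w⁻¹) * (y * w * y⁻¹ * w⁻¹) := by
      intro x hx y hy w hw
      have hm : y * w * y⁻¹ * w⁻¹ ∈ Z := by
        letI := IsPGroup.commGroupOfCardEqPrimeSq hBc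
        rw [← QuotientGroup.ker_mk' Z, ← hf, MonoidHom.mem_ker, map_mul, map_mul, map_mul, map_inv,
          map_inv, show f y * f w = f w * f y from congrArg Subtype.val
            (mul_comm (⟨f y, y, hy, rfl⟩ : Bb) ⟨f w, w, hw, rfl⟩),
          mul_inv_cancel_right, mul_inv_cancel]
      have hc := Subgroup.mem_center_iff.mp hm x
      have hc2 := Subgroup.mem_center_iff.mp hm (x * w * x⁻¹ * w⁻¹)
      calc (x * y) * w * (x * y)⁻¹ * w⁻¹
          = x * (y * w * y⁻¹ * w⁻¹) * (w * x⁻¹ * w⁻¹) := by group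
        _ = (y * w * y⁻¹ * w⁻¹) * (x * w * x⁻¹ * w⁻¹) := by rw [hc]; group
        _ = _ := hc2.symm
    have hzp : ∀ x ∈ B, ∀ w ∈ B, ∀ m : ℤ,
        x ^ m * w * (x ^ m)⁻¹ * w⁻¹ = (x * w * x⁻¹ * w⁻¹) ^ m := by
      intro x hx w hw
      let χ : B →* X := MonoidHom.mk' (fun t => (t : X) * w * (t : X)⁻¹ * w⁻¹)
        (fun s t => hact s s.2 t t.2 w hw)
      exact fun m => map_zpow χ ⟨x, hx⟩ m
    have hb₀u : b₀ * u * b₀⁻¹ * (u : X)⁻¹ = g * u * g⁻¹ * (u : X)⁻¹ := by
      rw [hb₀, hact _ (zpow_mem v.2 j) _ (zpow_mem u.2 k) _ u.2, hzp _ v.2 _ u.2,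
        hzp _ u.2 _ u.2, hj']
      simp
    have hb₀v : b₀ * v * b₀⁻¹ * (v : X)⁻¹ = g * v * g⁻¹ * (v : X)⁻¹ := by
      rw [hb₀, hact _ (zpow_mem v.2 j) _ (zpow_mem u.2 k) _ v.2, hzp _ v.2 _ v.2,
        hzp _ u.2 _ v.2, hk']
      simp
    have hcent : b₀⁻¹ * g ∈ Subgroup.centralizer (B : Set X) := by
      have huv : ∀ w : X, b₀ * w * b₀⁻¹ * w⁻¹ = g * w * g⁻¹ * w⁻¹ →
          w * (b₀⁻¹ * g) = (b₀⁻¹ * g) * w := fun w e => by
        have e' : b₀ * w * b₀⁻¹ = g * w * g⁻¹ := mul_right_cancel e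
        calc w * (b₀⁻¹ * g) = b₀⁻¹ * (b₀ * w * b₀⁻¹) * g := by group
          _ = _ := by rw [e']; group
      have hgenB : B ≤ Subgroup.closure ({(u : X), (v : X)} : Set X) := by
        set D := Subgroup.closure ({(u : X), (v : X)} : Set X) with hD
        have hDB : D ≤ B := (Subgroup.closure_le _).mpr (by rintro w (rfl | rfl); exacts [u.2, v.2])
        have huD : (u : X) ∈ D := Subgroup.subset_closure (Set.mem_insert _ _)
        have hvD : (v : X) ∈ D := Subgroup.subset_closure (Set.mem_insert_of_mem _ rfl)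
        obtain ⟨d, hd⟩ := IsPGroup.iff_card.mp (hXp.to_subgroup D)
        have hd3 : 3 ≤ d := by
          by_contra hd2
          refine hv (Subtype.ext ?_)
          show (u : X) * v = v * u
          rcases Nat.lt_or_ge d 2 with hd1 | hd1
          · haveI : IsCyclic D := by
              rcases Nat.lt_or_ge d 1 with h | h
              · haveI : Subsingleton D :=
                  (Nat.card_eq_one_iff_unique.mp (by rw [hd, show d = 0 by omega, pow_zero])).1
                exact isCyclic_of_subsingleton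
              · exact isCyclic_of_prime_card (p := p) (by rw [hd, show d = 1 by omega, pow_one])
            exact congrArg Subtype.val ((IsCyclic.commGroup (α := D)).mul_comm ⟨u, huD⟩ ⟨v, hvD⟩)
          · letI := IsPGroup.commGroupOfCardEqPrimeSq (show Nat.card D = p ^ 2 by
              rw [hd, show d = 2 by omega])
            exact congrArg Subtype.val (mul_comm (⟨u, huD⟩ : D) ⟨v, hvD⟩)
        exact (Subgroup.eq_of_le_of_card_ge hDB (by
          rw [hB, hd]; exact Nat.pow_le_pow_right hp.pos hd3)).ge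
      intro b hb
      have hb' := hgenB hb
      induction hb' using Subgroup.closure_induction with
      | mem w hw =>
        rcases hw with rfl | rfl
        · exact huv _ hb₀u
        · exact huv _ hb₀v
      | one => simp
      | mul a c ha hc h1 h2 =>
        have hsub : Subgroup.closure ({(u : X), (v : X)} : Set X) ≤ B :=
          (Subgroup.closure_le _).mpr (by rintro w (rfl | rfl); exacts [u.2, v.2])
        exact (Commute.mul_left (show Commute a (b₀⁻¹ * g) from h1 (hsub ha)) (h2 (hsub hc))).eq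
      | inv a ha h1 =>
        have hsub : Subgroup.closure ({(u : X), (v : X)} : Set X) ≤ B :=
          (Subgroup.closure_le _).mpr (by rintro w (rfl | rfl); exacts [u.2, v.2])
        exact (Commute.inv_left (show Commute a (b₀⁻¹ * g) from h1 (hsub ha))).eq
    refine ⟨g, ?_, rfl⟩
    have := mul_mem hb₀B (hC hcent)
    rwa [mul_inv_cancel_left] at this
  rw [Group.nilpotencyClass_eq_quotient_center_plus_one,
    CfsgLib.PGroup.nilpotencyClass_of_self_centralizing (n - 1) _ hXQ Bb hBc hbot]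
  omega

end Cfsg.Agent.S4143
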