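import Cfsg.Statements.S4145
import Cfsg.Agent.Lib.Transfer.Cyclic
import Cfsg.Agent.Lib.PSolvable.Core
import Cfsg.Agent.Lib.Fitting.Basic

set_option autoImplicit false
open Cfsg

namespace Cfsg.Agent.S4145

open CfsgLib.Transfer

theorem comm_mem_of_top {X : Type*} [Group X] (H : Subgroup X) [H.Normal] (P : Subgroup X) {t : X}
    (hP : P = Subgroup.zpowers t) (htop : H ⊔ P = ⊤) (g : X) : g * t * g⁻¹ * t⁻¹ ∈ H := by
  have hg : g ∈ H ⊔ P := by rw [htop]; trivial
  obtain ⟨h, hh, y, hy, rfl⟩ := Subgroup.mem_sup_of_normal_left.mp hg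
  rw [hP] at hy
  obtain ⟨j, rfl⟩ := hy
  have : h * t ^ j * t * (h * t ^ j)⁻¹ * t⁻¹ = h * (t * h⁻¹ * t⁻¹) := by group
  show h * t ^ j * t * (h * t ^ j)⁻¹ * t⁻¹ ∈ H
  rw [this]
  exact mul_mem hh ((inferInstance : H.Normal).conj_mem _ (inv_mem hh) t)

/-- A cyclic Sylow subgroup covering the quotient by a normal subgroup of index divisible by `p`. -/
theorem complement_of_cover {X : Type*} [Group X] [Finite X] {p : ℕ} [Fact p.Prime] (P : Sylow p X)
    (hP : IsCyclic (P : Subgroup X)) (H : Subgroup X) [H.Normal] (hne : ¬ (P : Subgroup X) ≤ H)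
    (htop : H ⊔ (P : Subgroup X) = ⊤) : Cfsg.HasNormalPComplement p X := by
  obtain ⟨t, ht⟩ := exists_zpowers_eq_of_isCyclic _ hP
  refine hasNormalPComplement_of_normalizer_le_centralizer P
    (normalizer_le_centralizer_of_zpow P ht fun g _ _ r hr => ?_)
  by_contra hd
  apply hne
  have h1 : t ^ (r - 1) ∈ H := by
    have := comm_mem_of_top H (P : Subgroup X) ht htop g
    rwa [hr, ← zpow_sub_one] at this
  have htP : t ∈ (P : Subgroup X) := ht ▸ Subgroup.mem_zpowers t
  obtain ⟨k, hk⟩ := P.2 ⟨t, htP⟩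
  have hk' : t ^ ((p ^ k : ℕ) : ℤ) = 1 := by
    rw [zpow_natCast]; simpa using congrArg Subtype.val hk
  have hcop : IsCoprime (r - 1) ((p ^ k : ℕ) : ℤ) := by
    push_cast
    exact ((Nat.prime_iff_prime_int.mp (Fact.out : p.Prime)).coprime_iff_not_dvd.mpr hd).symm.pow_right
  obtain ⟨u, v, huv⟩ := hcop
  rw [ht, Subgroup.zpowers_le]
  have : t = (t ^ (r - 1)) ^ u := by
    conv_lhs => rw [← zpow_one t, ← huv]
    rw [zpow_add, mul_comm u, zpow_mul, mul_comm v, zpow_mul t ((p ^ k : ℕ) : ℤ) v, hk', one_zpow, mul_one]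
  rw [this]
  exact zpow_mem h1 u

/-- A cyclic Sylow subgroup with a central element of order `p`. -/
theorem complement_of_central {X : Type*} [Group X] [Finite X] {p : ℕ} [Fact p.Prime] (P : Sylow p X)
    (hP : IsCyclic (P : Subgroup X)) {s : X} (hs : s ∈ (P : Subgroup X)) (hs1 : s ≠ 1)
    (hsc : s ∈ Subgroup.center X) : Cfsg.HasNormalPComplement p X := by
  obtain ⟨t, ht⟩ := exists_zpowers_eq_of_isCyclic _ hP
  refine hasNormalPComplement_of_normalizer_le_centralizer P
    (normalizer_le_centralizer_of_zpow P ht fun g _ _ r hr => ?_)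
  rw [ht] at hs
  obtain ⟨j, rfl⟩ := hs
  by_contra hd
  apply hs1
  have htP : t ∈ (P : Subgroup X) := ht ▸ Subgroup.mem_zpowers t
  obtain ⟨k, hk⟩ := P.2 ⟨t, htP⟩
  have hk' : t ^ ((p ^ k : ℕ) : ℤ) = 1 := by
    rw [zpow_natCast]; simpa using congrArg Subtype.val hk
  have hcop : IsCoprime (r - 1) ((p ^ k : ℕ) : ℤ) := by
    push_cast
    exact ((Nat.prime_iff_prime_int.mp (Fact.out : p.Prime)).coprime_iff_not_dvd.mpr hd).symm.pow_right
  obtain ⟨u, v, huv⟩ := hcop
  have h1 : (t ^ j) ^ (r - 1) = 1 := by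
    have h2 : g * t ^ j * g⁻¹ = t ^ j := by
      rw [Subgroup.mem_center_iff.mp hsc g, mul_inv_cancel_right]
    rw [← conj_zpow, hr, ← zpow_mul, mul_comm] at h2
    rw [zpow_sub_one, ← zpow_mul, h2, mul_inv_cancel]
  show t ^ j = 1
  conv_lhs => rw [← zpow_one (t ^ j), ← huv]
  rw [zpow_add, mul_comm u, zpow_mul (t ^ j), h1, one_zpow, one_mul, ← zpow_mul t,
    mul_comm j, mul_assoc, mul_comm v, mul_assoc, zpow_mul t ((p ^ k : ℕ) : ℤ), hk', one_zpow]

/-- Let G be a finite group with a cyclic Sylow p-subgroup and H a normal subgroup such that p divides both the order of H and the index of H. Then H has a normal p-complement and G is p-solvable. -/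
theorem result {G : Type*} [Group G] [Finite G] (p : ℕ) [Fact p.Prime]
    (P : Sylow p G) (hP : IsCyclic (P : Subgroup G)) (H : Subgroup G) [H.Normal] (h1 : p ∣ Nat.card H) (h2 : p ∣ H.index) :
    Cfsg.HasNormalPComplement p H ∧ Cfsg.IsPSolvable p G := by
  classical
  haveI := CfsgLib.Transfer.pPrimeCore_normal p H
  have hPH : ¬ (P : Subgroup G) ≤ H := fun h => P.not_dvd_index (h2.trans (Subgroup.index_dvd_of_le h))
  set X := H ⊔ (P : Subgroup G) with hX
  have hHc : Cfsg.HasNormalPComplement p H := by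
    let PX : Sylow p X := P.subtype le_sup_right
    have hXc : Cfsg.HasNormalPComplement p X := by
      refine complement_of_cover PX ?_ (H.subgroupOf X) ?_ ?_
      · exact (MulEquiv.isCyclic (Subgroup.subgroupOfEquivOfLe (le_sup_right : (P : Subgroup G) ≤ X))).mpr hP
      · intro h
        exact hPH fun x hx => h (show (⟨x, Subgroup.mem_sup_right hx⟩ : X) ∈ (P : Subgroup G).subgroupOf X from hx)
      · show H.subgroupOf X ⊔ (P : Subgroup G).subgroupOf X = ⊤
        rw [← Subgroup.subgroupOf_sup le_sup_left le_sup_right]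
        exact Subgroup.subgroupOf_self X
    exact CfsgLib.Transfer.hasNormalPComplement_of_injective (Subgroup.inclusion (le_sup_left : H ≤ X))
      (Subgroup.inclusion_injective _) hXc
  refine ⟨hHc, ?_⟩
  obtain ⟨PH, N, hNn, hNc⟩ := id hHc
  set K := (Cfsg.pPrimeCore p H).map H.subtype with hK
  haveI hKn : K.Normal := by
    haveI hc : (Cfsg.pResidual p H).Characteristic := Subgroup.characteristic_iff_map_eq.mpr
      fun φ => CfsgLib.Transfer.map_pResidual φ.toMonoidHom φ.surjective
    rw [hK, CfsgLib.Transfer.pPrimeCore_eq_pResidual hHc]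
    exact inferInstance
  have hKH : K ≤ H := Subgroup.map_subtype_le _
  have hKc : (Nat.card K).Coprime p := by
    rw [hK, Subgroup.card_map_of_injective H.subtype_injective]; exact CfsgLib.Transfer.pPrimeCore_coprime p
  set f := QuotientGroup.mk' K with hf
  set Q := H.map f with hQ
  haveI : Q.Normal := Subgroup.Normal.map inferInstance f (QuotientGroup.mk'_surjective K)
  have hQp : IsPGroup p Q := by
    obtain ⟨j, hj⟩ := IsPGroup.iff_card.mp PH.2
    have hrel : Nat.card Q = K.relIndex H := by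
      rw [hQ, ← Subgroup.relIndex_bot_left, ← Subgroup.relIndex_comap, MonoidHom.comap_bot, hf, QuotientGroup.ker_mk']
    have hd : K.relIndex H ∣ p ^ j := by
      rw [← hj, ← hNc.symm.index_eq_card, hK]
      show (((Cfsg.pPrimeCore p H).map H.subtype).subgroupOf H).index ∣ N.index
      rw [Subgroup.subgroupOf, Subgroup.comap_map_eq_self_of_injective H.subtype_injective]
      exact Subgroup.index_dvd_of_le (CfsgLib.Transfer.le_pPrimeCore hNn
        (CfsgLib.Transfer.coprime_card_of_isComplement' hNc))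
    obtain ⟨i, -, hi⟩ := (Nat.dvd_prime_pow Fact.out).mp hd
    exact IsPGroup.of_card (n := i) (hrel.trans hi)
  set P' := P.mapSurjective (f := f) (QuotientGroup.mk'_surjective K) with hP'
  have hQP : Q ≤ (P' : Subgroup (G ⧸ K)) := hQp.le_sylow_of_normal P'
  have hP'c : IsCyclic (P' : Subgroup (G ⧸ K)) := by
    rw [hP', Sylow.coe_mapSurjective]
    exact isCyclic_of_surjective (f.subgroupMap (P : Subgroup G)) (f.subgroupMap_surjective _)
  set C := Subgroup.centralizer (Q : Set (G ⧸ K)) with hC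
  haveI : C.Normal := by rw [hC]; exact Subgroup.normal_centralizer
  have hP'C : (P' : Subgroup (G ⧸ K)) ≤ C := by
    haveI := hP'c
    letI := IsCyclic.commGroup (α := (P' : Subgroup (G ⧸ K)))
    intro y hy
    rw [hC, Subgroup.mem_centralizer_iff]
    intro q hq
    exact congrArg Subtype.val (mul_comm (⟨q, hQP hq⟩ : (P' : Subgroup (G ⧸ K))) ⟨y, hy⟩)
  have hQ1 : Q ≠ ⊥ := by
    intro h0
    rw [hQ, Subgroup.map_eq_bot_iff, hf, QuotientGroup.ker_mk'] at h0
    exact (Fact.out : p.Prime).coprime_iff_not_dvd.mp hKc.symm (h1.trans (Subgroup.card_dvd_of_le h0))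
  obtain ⟨s, hsQ, hs1⟩ := (Subgroup.bot_or_exists_ne_one Q).resolve_left hQ1
  have hsC : s ∈ C := hP'C (hQP hsQ)
  have hCc : Cfsg.HasNormalPComplement p C := by
    refine complement_of_central (P'.subtype hP'C) ?_ (s := ⟨s, hsC⟩) (hQP hsQ) (fun h => hs1 (congrArg Subtype.val h)) ?_
    · exact (MulEquiv.isCyclic (Subgroup.subgroupOfEquivOfLe hP'C)).mpr hP'c
    · rw [Subgroup.mem_center_iff]
      intro c
      exact Subtype.ext (Subgroup.mem_centralizer_iff.mp c.2 s hsQ).symm
  obtain ⟨PC, NC, hNCn, hNCc⟩ := id hCc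
  set K2 := (Cfsg.pPrimeCore p C).map C.subtype with hK2
  haveI hK2n : K2.Normal := by
    haveI hc : (Cfsg.pResidual p C).Characteristic := Subgroup.characteristic_iff_map_eq.mpr
      fun φ => CfsgLib.Transfer.map_pResidual φ.toMonoidHom φ.surjective
    rw [hK2, CfsgLib.Transfer.pPrimeCore_eq_pResidual hCc]
    exact inferInstance
  have hK2C : K2 ≤ C := Subgroup.map_subtype_le _
  have hsurj := QuotientGroup.mk'_surjective K
  have hKA : K ≤ K2.comap f := fun x hx => by
    rw [Subgroup.mem_comap, hf, QuotientGroup.mk'_apply, (QuotientGroup.eq_one_iff x).mpr hx]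
    exact one_mem _
  refine ⟨4, ![⊥, K, K2.comap f, C.comap f, ⊤], rfl, rfl, ?_, ?_, ?_⟩
  · refine Fin.monotone_iff_le_succ.mpr fun i => ?_
    fin_cases i
    · exact bot_le
    · exact hKA
    · exact Subgroup.comap_mono hK2C
    · exact le_top
  · intro i
    fin_cases i
    · exact Subgroup.normal_bot
    · exact hKn
    · exact hK2n.comap f
    · exact (inferInstance : C.Normal).comap f
    · exact Subgroup.normal_top
  · intro i
    fin_cases i
    · right
      show ((⊥ : Subgroup G).relIndex K).Coprime p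
      rw [Subgroup.relIndex_bot_left]; exact hKc
    · right
      show (K.relIndex (K2.comap f)).Coprime p
      conv_lhs => arg 1; rw [← QuotientGroup.ker_mk' K, ← MonoidHom.comap_bot]
      rw [Subgroup.relIndex_comap, Subgroup.map_comap_eq_self_of_surjective hsurj, Subgroup.relIndex_bot_left,
        hK2, Subgroup.card_map_of_injective C.subtype_injective]
      exact CfsgLib.Transfer.pPrimeCore_coprime p
    · left
      show ∃ m, (K2.comap f).relIndex (C.comap f) = p ^ m
      rw [Subgroup.relIndex_comap, Subgroup.map_comap_eq_self_of_surjective hsurj, hK2]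
      obtain ⟨j, hj⟩ := IsPGroup.iff_card.mp PC.2
      have hd : ((Cfsg.pPrimeCore p C).map C.subtype).relIndex C ∣ p ^ j := by
        rw [← hj, ← hNCc.symm.index_eq_card]
        show (((Cfsg.pPrimeCore p C).map C.subtype).subgroupOf C).index ∣ NC.index
        rw [Subgroup.subgroupOf, Subgroup.comap_map_eq_self_of_injective C.subtype_injective]
        exact Subgroup.index_dvd_of_le (CfsgLib.Transfer.le_pPrimeCore hNCn
          (CfsgLib.Transfer.coprime_card_of_isComplement' hNCc))
      obtain ⟨i, -, hi⟩ := (Nat.dvd_prime_pow Fact.out).mp hd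
      exact ⟨i, hi⟩
    · right
      show ((C.comap f).relIndex ⊤).Coprime p
      rw [Subgroup.relIndex_top_right, Subgroup.index_comap_of_surjective _ hsurj]
      exact (((Fact.out : p.Prime).coprime_iff_not_dvd.mpr P'.not_dvd_index).symm).coprime_dvd_left
        (Subgroup.index_dvd_of_le hP'C)
end Cfsg.Agent.S4145
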