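import Cfsg.Statements.S4149
import Cfsg.Agent.Lib.ClassAverage.Basic

set_option autoImplicit false
open Cfsg

namespace Cfsg.Agent.S4149

/-- Let G be a finite group that has a normal p-complement for at most one prime p dividing its order, and let σ be a natural number such that every conjugacy class size of G has at most σ distinct prime divisors. Then the number of primes dividing at least one conjugacy class size of G is at most 2σ. -/
theorem result {G : Type*} [Group G] [Finite G] (σ : ℕ)
    (hσ : ∀ x : G, ((Subgroup.centralizer ({x} : Set G)).index).primeFactors.card ≤ σ)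
    (hnil : ∀ p q : ℕ, p.Prime → q.Prime → p ∣ Nat.card G → q ∣ Nat.card G →
      Cfsg.HasNormalPComplement p G → Cfsg.HasNormalPComplement q G → p = q) :
    Nat.card {p : ℕ | p.Prime ∧ ∃ x : G, p ∣ (Subgroup.centralizer ({x} : Set G)).index} ≤ 2 * σ := by
  classical
  have := Fintype.ofFinite G
  set i : G → ℕ := fun x => (Subgroup.centralizer ({x} : Set G)).index with hi
  set R : Finset ℕ := (Nat.card G).primeFactors.filter (fun p => ∃ x : G, p ∣ i x) with hR
  have hset : {p : ℕ | p.Prime ∧ ∃ x : G, p ∣ (Subgroup.centralizer ({x} : Set G)).index} = ↑R := by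
    ext p
    simp only [Set.mem_setOf_eq, hR, Finset.coe_filter, Nat.mem_primeFactors]
    constructor
    · rintro ⟨hp, x, hx⟩
      exact ⟨⟨hp, hx.trans (Subgroup.index_dvd_card _), Nat.card_pos.ne'⟩, x, hx⟩
    · rintro ⟨⟨hp, -, -⟩, hx⟩
      exact ⟨hp, hx⟩
  rw [hset, Nat.card_coe_set_eq, Set.ncard_coe_finset]
  -- exceptional primes
  set Z := R.filter (fun p => Cfsg.HasNormalPComplement p G) with hZ
  have hZ1 : Z.card ≤ 1 := Finset.card_le_one.mpr fun p hp q hq => by
    simp only [hZ, hR, Finset.mem_filter, Nat.mem_primeFactors] at hp hq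
    exact hnil p q hp.1.1.1 hq.1.1.1 hp.1.1.2.1 hq.1.1.2.1 hp.2 hq.2
  set good : ℕ → ℕ := fun p => (Finset.univ.filter (fun y : G => p ∣ i y)).card with hgood
  have hsum : ∑ p ∈ R, good p ≤ Nat.card G * σ := by
    calc ∑ p ∈ R, good p = ∑ p ∈ R, ∑ y : G, if p ∣ i y then 1 else 0 := by
          simp only [hgood, Finset.card_filter]
      _ = ∑ y : G, (R.filter (fun p => p ∣ i y)).card := by
          rw [Finset.sum_comm]
          simp only [Finset.card_filter]
      _ ≤ ∑ _y : G, σ := by
          refine Finset.sum_le_sum fun y _ => le_trans (Finset.card_le_card fun p hp => ?_) (hσ y)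
          simp only [hR, Finset.mem_filter, Nat.mem_primeFactors] at hp ⊢
          exact ⟨hp.1.1.1, hp.2, Subgroup.index_ne_zero_of_finite⟩
      _ = Nat.card G * σ := by simp [Nat.card_eq_fintype_card]
  have hbig : ∀ p ∈ R \ Z, Nat.card G ≤ 2 * good p := fun p hp => by
    simp only [hZ, Finset.mem_sdiff, Finset.mem_filter, not_and] at hp
    have hpp : p.Prime := (Nat.mem_primeFactors.mp (Finset.mem_filter.mp hp.1).1).1
    haveI := Fact.mk hpp
    have h1 := CfsgLib.ClassAverage.two_mul_ncard_bad_le (hp.2 hp.1)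
    have h2 : (CfsgLib.ClassAverage.bad p G).ncard =
        (Finset.univ.filter (fun y : G => ¬ p ∣ i y)).card := by
      rw [← Set.ncard_coe_finset]
      congr 1
      ext y
      simp [CfsgLib.ClassAverage.bad, hi]
    have h3 := Finset.card_filter_add_card_filter_not (s := (Finset.univ : Finset G)) (fun y => p ∣ i y)
    rw [Finset.card_univ, ← Nat.card_eq_fintype_card] at h3
    simp only [hgood]
    omega
  have hpos : ∀ p ∈ Z, 1 ≤ good p := fun p hp => by
    obtain ⟨x, hx⟩ := (Finset.mem_filter.mp (Finset.mem_filter.mp hp).1).2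
    exact Finset.card_pos.mpr ⟨x, by simpa using hx⟩
  have hsplit : ∑ p ∈ R, good p = ∑ p ∈ R \ Z, good p + ∑ p ∈ Z, good p :=
    (Finset.sum_sdiff (Finset.filter_subset _ _)).symm
  have h5 : (R \ Z).card * Nat.card G ≤ 2 * ∑ p ∈ R \ Z, good p := by
    rw [Finset.mul_sum, ← smul_eq_mul, ← Finset.sum_const]
    exact Finset.sum_le_sum hbig
  have h6 : Z.card ≤ ∑ p ∈ Z, good p := by
    rw [Finset.card_eq_sum_ones]
    exact Finset.sum_le_sum hpos
  have h7 : (R \ Z).card + Z.card = R.card :=
    Finset.card_sdiff_add_card_eq_card (Finset.filter_subset _ _)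
  by_contra hlt
  have hlt' : 2 * σ + 1 ≤ R.card := by omega
  rcases Nat.eq_zero_or_pos Z.card with h0 | h0
  · have h8 : (2 * σ + 1) * Nat.card G ≤ (R \ Z).card * Nat.card G := Nat.mul_le_mul_right _ (by omega)
    nlinarith [Nat.card_pos (α := G)]
  · have h8 : (2 * σ) * Nat.card G ≤ (R \ Z).card * Nat.card G := Nat.mul_le_mul_right _ (by omega)
    nlinarith [Nat.card_pos (α := G)]

end Cfsg.Agent.S4149
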