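import Cfsg.Statements.S4150
import Cfsg.Agent.Lib.Perm.JordanPrime
import Cfsg.Agent.Lib.NumberTheory.TwoPrimes
import Cfsg.Agent.Lib.SmallOrder.PrimeDegree
import Cfsg.Agent.S0494

set_option autoImplicit false
set_option linter.style.haveILetI false
set_option linter.unusedSectionVars false
set_option linter.unusedSimpArgs false
set_option linter.deprecated false
open Cfsg Equiv MulAction
open scoped Pointwise

namespace Cfsg.Agent.S4150

variable {β : Type} [Fintype β] [DecidableEq β]

theorem pow_apply_eq_self_iff {p : ℕ} (hp : p.Prime) {x : Perm β} (hx : orderOf x = p) {c : β}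
    (hc : x c ≠ c) (i : ℕ) : (x ^ i) c = c ↔ p ∣ i := by
  refine ⟨fun h => ?_, fun ⟨k, hk⟩ => by rw [hk, pow_mul, ← hx, pow_orderOf_eq_one, one_pow]; rfl⟩
  have h1 : Function.IsPeriodicPt (⇑x) i c := by
    rw [Function.IsPeriodicPt, Function.IsFixedPt, ← Equiv.Perm.coe_pow]; exact h
  have h2 : Function.IsPeriodicPt (⇑x) p c := by
    rw [Function.IsPeriodicPt, Function.IsFixedPt, ← Equiv.Perm.coe_pow, ← hx, pow_orderOf_eq_one]; rfl
  rcases hp.eq_one_or_self_of_dvd _ h2.minimalPeriod_dvd with h3 | h3
  · exact absurd (Function.minimalPeriod_eq_one_iff_isFixedPt.mp h3) hc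
  · exact h3 ▸ h1.minimalPeriod_dvd

theorem pow_apply_injective {p : ℕ} (hp : p.Prime) {x : Perm β} (hx : orderOf x = p) {c : β}
    (hc : x c ≠ c) : Function.Injective fun i : Fin p => (x ^ (i : ℕ)) c := by
  have key : ∀ i j : ℕ, i ≤ j → j < p → (x ^ i) c = (x ^ j) c → i = j := by
    intro i j hij hj h
    rw [show j = i + (j - i) by omega, pow_add, Perm.mul_apply] at h
    rcases Nat.eq_zero_or_pos (j - i) with h0 | h0
    · omega
    · have := Nat.le_of_dvd h0 ((pow_apply_eq_self_iff hp hx hc _).mp ((x ^ i).injective h).symm)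
      omega
  intro i j h
  rcases le_total (i : ℕ) j with h1 | h1
  · exact Fin.ext (key _ _ h1 j.2 h)
  · exact Fin.ext (key _ _ h1 i.2 h.symm).symm

variable {p q : ℕ} {x y : Perm β}

theorem closure_preprimitive (hp : p.Prime) (hq : q.Prime) (hx : orderOf x = p) (hy : y.IsCycle)
    (hy' : y.support.card = q) (hfull : ∀ c, x c ≠ c ∨ y c ≠ c)
    (hd : Fintype.card β < q + p) (hd2 : Fintype.card β < 2 * q) :
    IsPreprimitive (Subgroup.closure ({x, y} : Set (Perm β))) β := by
  classical
  set G := Subgroup.closure ({x, y} : Set (Perm β)) with hG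
  have hxG : x ∈ G := Subgroup.subset_closure (by simp)
  have hyG : y ∈ G := Subgroup.subset_closure (by simp)
  have hoy : orderOf y = q := hy.orderOf.trans hy'
  obtain ⟨c0, hc0⟩ : ∃ c, c ∈ y.support := Finset.card_pos.mp (hy' ▸ hq.pos)
  rw [Perm.mem_support] at hc0
  have horb : ∀ c, ∃ g : G, (g : Perm β) c0 = c := by
    have hys : ∀ c, y c ≠ c → ∃ g : G, (g : Perm β) c0 = c := fun c hc => by
      obtain ⟨i, hi⟩ := hy.sameCycle hc0 hc
      exact ⟨⟨y ^ i, zpow_mem hyG i⟩, hi⟩
    intro c
    by_cases hc : y c = c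
    · have hxc : x c ≠ c := (hfull c).resolve_right (not_not.mpr hc)
      obtain ⟨i, hi⟩ : ∃ i : Fin p, y ((x ^ (i : ℕ)) c) ≠ (x ^ (i : ℕ)) c := by
        by_contra! hall
        have h1 : Finset.univ.map ⟨_, pow_apply_injective hp hx hxc⟩ ⊆ y.supportᶜ := by
          intro z hz
          obtain ⟨i, -, rfl⟩ := Finset.mem_map.mp hz
          rw [Finset.mem_compl, Perm.notMem_support]
          exact hall i
        have h2 := Finset.card_le_card h1
        rw [Finset.card_map, Finset.card_univ, Fintype.card_fin, Finset.card_compl, hy'] at h2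
        have := hp.pos
        omega
      obtain ⟨g, hg⟩ := hys _ hi
      refine ⟨⟨(x ^ (i : ℕ))⁻¹, inv_mem (pow_mem hxG _)⟩ * g, ?_⟩
      show (x ^ (i : ℕ))⁻¹ ((g : Perm β) c0) = c
      rw [hg, ← Perm.mul_apply, inv_mul_cancel]; rfl
    · exact hys c hc
  haveI : IsPretransitive G β := ⟨fun a b => by
    obtain ⟨g, hg⟩ := horb a
    obtain ⟨h, hh⟩ := horb b
    refine ⟨h * g⁻¹, ?_⟩
    rw [mul_smul, show (g⁻¹ : G) • a = c0 by rw [inv_smul_eq_iff]; exact hg.symm]
    exact hh⟩
  refine IsPreprimitive.of_isTrivialBlock_base c0 fun {B} hc0B hB => ?_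
  let y' : G := ⟨y, hyG⟩
  by_cases h1 : y' • B = B
  · right
    have hpow : ∀ i : ℕ, y' ^ i • B = B := by
      intro i
      induction i with
      | zero => simp
      | succ i ih => rw [pow_succ, mul_smul, h1, ih]
    have hsub : (y.support : Set β) ⊆ B := by
      intro c hc
      obtain ⟨i, hi⟩ := hy.exists_pow_eq hc0 (Perm.mem_support.mp hc)
      rw [← hpow i, ← hi]
      exact ⟨c0, hc0B, by simp [y', Subgroup.smul_def]⟩
    refine hB.eq_univ_of_card_lt ?_
    have h3 := Set.ncard_le_ncard hsub
    rw [Set.ncard_coe_finset, hy'] at h3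
    rw [Nat.card_eq_fintype_card]
    omega
  · left
    by_contra hns
    rw [Set.not_subsingleton_iff, ← Set.one_lt_ncard_iff_nontrivial] at hns
    have hdis : ∀ i j : Fin q, i ≠ j → Disjoint (y' ^ (i : ℕ) • B) (y' ^ (j : ℕ) • B) := by
      intro i j hij
      refine hB fun heq => h1 ?_
      set S := MulAction.stabilizer G B with hS
      have hmem : (y' ^ (j : ℕ))⁻¹ * y' ^ (i : ℕ) ∈ S := by
        rw [hS, mem_stabilizer_iff, mul_smul, heq, inv_smul_smul]
      have hne : (y' ^ (j : ℕ))⁻¹ * y' ^ (i : ℕ) ≠ 1 := by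
        intro h
        rw [inv_mul_eq_one] at h
        have h2 := congrArg (fun g : G => (g : Perm β) c0) h
        simp only [y', SubmonoidClass.coe_pow] at h2
        exact hij ((pow_apply_injective hq hoy hc0) h2).symm
      have hz : (y' ^ (j : ℕ))⁻¹ * y' ^ (i : ℕ) ∈ Subgroup.zpowers y' :=
        mul_mem (inv_mem (Subgroup.npow_mem_zpowers _ _)) (Subgroup.npow_mem_zpowers _ _)
      haveI := Fact.mk hq
      haveI : Fact (Nat.card (Subgroup.zpowers y')).Prime := ⟨by
        rw [Nat.card_zpowers, Subgroup.orderOf_mk, hoy]; exact hq⟩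
      have htop : (S.subgroupOf (Subgroup.zpowers y')) = ⊤ := by
        refine (Subgroup.eq_bot_or_eq_top_of_prime_card _).resolve_left fun h => ?_
        have h4 : (⟨_, hz⟩ : Subgroup.zpowers y') ∈ S.subgroupOf (Subgroup.zpowers y') := hmem
        rw [h, Subgroup.mem_bot] at h4
        exact hne (congrArg Subtype.val h4)
      have h5 : (⟨y', Subgroup.mem_zpowers y'⟩ : Subgroup.zpowers y') ∈
          S.subgroupOf (Subgroup.zpowers y') := htop ▸ Subgroup.mem_top _
      exact mem_stabilizer_iff.mp h5
    have hsum : q * B.ncard ≤ Fintype.card β := by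
      have hinj : Function.Injective fun ib : Fin q × B => (y' ^ (ib.1 : ℕ)) • (ib.2 : β) := by
        rintro ⟨i, b⟩ ⟨j, c⟩ h
        have hij : i = j := by
          by_contra hne
          exact Set.disjoint_left.mp (hdis i j hne) ⟨b, b.2, rfl⟩ ⟨c, c.2, h.symm⟩
        subst hij
        exact Prod.ext rfl (Subtype.ext (smul_left_cancel _ h))
      have := Nat.card_le_card_of_injective _ hinj
      rwa [Nat.card_prod, Nat.card_fin, Nat.card_coe_set_eq, Nat.card_eq_fintype_card] at this
    have := Nat.mul_le_mul_left q hns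
    omega

theorem eq_top_of_index_lt {n : ℕ} (hn : 5 ≤ n) (H : Subgroup (alternatingGroup (Fin n)))
    (h : H.index < n) : H = ⊤ := by
  by_contra hne
  haveI : IsSimpleGroup ↥(alternatingGroup (Fin n)) :=
    alternatingGroup.isSimpleGroup (by simpa using hn)
  have hna : ¬ IsMulCommutative ↥(alternatingGroup (Fin n)) := by
    intro hc
    have h3 := CfsgLib.SmallOrder.card_alternating_fin (n := n) (by omega)
    have h4 : (Nat.card (alternatingGroup (Fin n))).Prime := by
      letI : CommGroup (alternatingGroup (Fin n)) :=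
        { (inferInstance : Group (alternatingGroup (Fin n))) with mul_comm := fun a b => mul_comm' a b }
      exact IsSimpleGroup.prime_card
    have h5 : 4 ∣ n.factorial := Nat.dvd_factorial (by norm_num) (by omega)
    have h6 : 3 ∣ n.factorial := Nat.dvd_factorial (by norm_num) (by omega)
    rw [← h3] at h5 h6
    have h7 : 2 ∣ Nat.card (alternatingGroup (Fin n)) := by omega
    have h8 := (Nat.prime_dvd_prime_iff_eq Nat.prime_two h4).mp h7
    omega
  have h2 := CfsgLib.SmallOrder.two_mul_card_dvd_factorial hna hne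
  rw [CfsgLib.SmallOrder.card_alternating_fin (by omega)] at h2
  have h3 := Nat.le_of_dvd (Nat.factorial_pos _) h2
  have h4 := (Nat.factorial_lt (Nat.pos_of_ne_zero Subgroup.index_ne_zero_of_finite)).mpr h
  omega

open CfsgLib.Perm in
theorem card_fixedPart {d k : ℕ} (G : Subgroup (Perm (Fin d))) (hG : IsMultiplyPretransitive G (Fin d) k)
    (s : Set (Fin d)) (hs : s.ncard = k) :
    Nat.card G * (d - k).factorial = Nat.card (fixedPart G s) * d.factorial := by
  have h := hG.index_of_fixingSubgroup_mul hs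
  rw [Nat.card_fin] at h
  have e : Nat.card (fixedPart G s) = Nat.card (fixingSubgroup G s) := by
    rw [← Subgroup.card_map_of_injective (K := fixingSubgroup G s) G.subtype_injective]
    refine congrArg (fun H : Subgroup (Perm (Fin d)) => Nat.card H) (Subgroup.ext fun u => ?_)
    rw [mem_fixedPart_iff, Subgroup.mem_map]
    constructor
    · exact fun hu => ⟨⟨u, hu.1⟩, (mem_fixingSubgroup_iff _).mpr hu.2, rfl⟩
    · rintro ⟨v, hv, rfl⟩
      exact ⟨v.2, (mem_fixingSubgroup_iff _).mp hv⟩
  rw [e, ← h, ← mul_assoc, Subgroup.card_mul_index]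

/-- A `p`-cycle fixing two points makes a primitive group of degree `p + 2` 3-transitive. -/
theorem three_transitive {d p : ℕ} (hp : p.Prime) (hd : d = p + 2) {G : Subgroup (Perm (Fin d))}
    (hG : IsPreprimitive G (Fin d)) {g : Perm (Fin d)} (hgc : g.IsCycle) (hgp : g.support.card = p)
    (hg : g ∈ G) : IsMultiplyPretransitive G (Fin d) 3 := by
  set s : Set (Fin d) := (g.support : Set (Fin d))ᶜ with hs
  have hcard : s.ncard = 1 + 1 := by
    have := Set.ncard_add_ncard_compl (g.support : Set (Fin d))
    rw [Set.ncard_coe_finset, hgp, Nat.card_fin] at this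
    rw [hs]; omega
  haveI := Equiv.Perm.isPretransitive_of_isCycle_mem hgc hg
  classical
  have hsub : Nat.card (SubMulAction.ofFixingSubgroup G s) = p := by
    rw [Nat.card_eq_fintype_card, Fintype.card_subtype, ← hgp]
    congr 1
    ext x
    simp [SubMulAction.mem_ofFixingSubgroup_iff, hs]
  exact (hG.isMultiplyPreprimitive hcard (by rw [Nat.card_fin]; have := hp.two_le; omega)
    (IsPreprimitive.of_prime_card (hsub.symm ▸ hp))).isMultiplyPretransitive

theorem seven {G : Subgroup (Perm (Fin 7))} (hev : G ≤ alternatingGroup (Fin 7))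
    (hG : IsPreprimitive G (Fin 7)) {g : Perm (Fin 7)} (hgc : g.IsCycle)
    (hgp : g.support.card = 5) (hg : g ∈ G) :
    alternatingGroup (Fin 7) ≤ G := by
  have htr := three_transitive (by norm_num) rfl hG hgc hgp hg
  obtain ⟨t, -, ht⟩ := Set.exists_subset_card_eq (s := (Set.univ : Set (Fin 7))) (n := 3)
    (by simp [Set.ncard_univ])
  have hc := card_fixedPart G htr t ht
  rw [show Nat.factorial (7 - 3) = 24 from rfl, show Nat.factorial 7 = 5040 from rfl] at hc
  set H := G.subgroupOf (alternatingGroup (Fin 7)) with hHdef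
  have hH : Nat.card H = Nat.card G :=
    Nat.card_congr (Subgroup.subgroupOfEquivOfLe hev).toEquiv
  have hA := CfsgLib.SmallOrder.card_alternating_fin (n := 7) (by norm_num)
  rw [show Nat.factorial 7 = 5040 from rfl] at hA
  have hidx := H.card_mul_index
  rw [hH] at hidx
  have htop : H = ⊤ := by
    refine eq_top_of_index_lt (by norm_num) H ?_
    by_contra hlt
    haveI : Fact (Nat.Prime 7) := ⟨by norm_num⟩
    have hG210 : Nat.card G = 210 := by
      have h1 : 7 * Nat.card G ≤ H.index * Nat.card G := Nat.mul_le_mul_right _ (not_lt.mp hlt)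
      have h2 : 0 < Nat.card G := Nat.card_pos
      rw [mul_comm H.index] at h1
      omega
    obtain ⟨Q⟩ := (inferInstance : Nonempty (Sylow 7 G))
    have hQ : Nat.card (Q : Subgroup G) = 7 := by
      rw [Q.card_eq_multiplicity, hG210]
      have : Nat.factorization 210 7 = 1 := by
        rw [Nat.factorization_def _ Fact.out, show (210 : ℕ) = 7 * 30 from rfl,
          padicValNat.mul (by norm_num) (by norm_num), padicValNat.self (by norm_num),
          padicValNat.eq_zero_of_not_dvd (by norm_num)]
      rw [this, pow_one]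
    have h1 := CfsgLib.SmallOrder.two_mul_card_normalizer_dvd (q := 7) (c := 7) le_rfl (by norm_num)
      (by norm_num) (Subgroup.inclusion hev) (Subgroup.inclusion_injective hev) (Q : Subgroup G) hQ
    rw [show 7 * (7 - 1) * Nat.factorial (7 - 7) = 2 * 21 from rfl] at h1
    have h2 := Nat.dvd_of_mul_dvd_mul_left two_pos h1
    have h3 : Nat.card (Q : Subgroup G) ∣ Nat.card (Subgroup.normalizer ((Q : Subgroup G) : Set G)) :=
      Subgroup.card_dvd_of_le Subgroup.le_normalizer
    rw [hQ] at h3
    have h4 := (Subgroup.normalizer ((Q : Subgroup G) : Set G)).index_mul_card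
    have h7 : Nat.card (Sylow 7 G) = (Subgroup.normalizer ((Q : Subgroup G) : Set G)).index := Sylow.card_eq_index_normalizer Q
    rw [← h7, hG210] at h4
    have h5 := card_sylow_modEq_one 7 G
    rw [Nat.ModEq] at h5
    set N := Nat.card (Subgroup.normalizer ((Q : Subgroup G) : Set G))
    obtain ⟨l, hl⟩ := h3
    have h6 : l ∣ 3 := Nat.dvd_of_mul_dvd_mul_left (k := 7) (by norm_num) (hl ▸ h2)
    rcases (Nat.dvd_prime Nat.prime_three).mp h6 with rfl | rfl <;> rw [hl] at h4 <;> omega
  rw [hHdef, Subgroup.subgroupOf_eq_top] at htop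
  exact htop

section Thirteen

variable {G : Subgroup (Perm (Fin 13))} {g : Perm (Fin 13)}

theorem mem_zpowers_of_commute (hgc : g.IsCycle) {n : Perm (Fin 13)}
    (hfix : ∀ x, g x = x → n x = x) (hc : Commute n g) : n ∈ Subgroup.zpowers g := by
  obtain ⟨c, hc0⟩ := hgc.nonempty_support
  rw [Perm.mem_support] at hc0
  have hnc : g (n c) ≠ n c := by
    rw [← Perm.mul_apply, ← hc.eq, Perm.mul_apply]
    exact n.injective.ne hc0
  obtain ⟨l, hl⟩ := hgc.sameCycle hc0 hnc
  refine ⟨l, Equiv.ext fun x => ?_⟩
  by_cases hx : g x = x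
  · rw [hfix x hx]
    exact Perm.zpow_apply_eq_self_of_apply_eq_self hx l
  · obtain ⟨i, rfl⟩ := hgc.sameCycle hc0 hx
    show (g ^ l) ((g ^ i) c) = n ((g ^ i) c)
    rw [← Perm.mul_apply, ← Perm.mul_apply, (hc.zpow_right i).eq, Perm.mul_apply, Perm.mul_apply,
      ← hl, ← Perm.mul_apply, ← Perm.mul_apply, (Commute.refl g).zpow_zpow l i |>.eq]

/-- The part of the argument where the normalizer of `⟨g⟩` fixing two points is bigger than `⟨g⟩`. -/
theorem thirteen_of_normalizer (hev : G ≤ alternatingGroup (Fin 13))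
    (hG : IsPreprimitive G (Fin 13)) (hgc : g.IsCycle) (hgp : g.support.card = 11) (hg : g ∈ G)
    {n : Perm (Fin 13)} (hn : n ∈ G) (hfix : ∀ x, g x = x → n x = x)
    (hnorm : n * g * n⁻¹ ∈ Subgroup.zpowers g) (hout : n ∉ Subgroup.zpowers g) :
    alternatingGroup (Fin 13) ≤ G := by
  classical
  have hor : orderOf g = 11 := hgc.orderOf.trans hgp
  have h11 : Nat.Prime 11 := by norm_num
  have hgK : ∀ i : ℕ, ∀ x, g x = x → (g ^ i) x = x := fun i x hx =>
    Perm.pow_apply_eq_self_of_apply_eq_self hx i
  obtain ⟨l, hl⟩ : ∃ l : ℕ, n * g * n⁻¹ = g ^ l := by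
    obtain ⟨l, hl⟩ := (mem_powers_iff_mem_zpowers.mpr hnorm)
    exact ⟨l, hl.symm⟩
  have hiter : ∀ i : ℕ, n ^ i * g * (n ^ i)⁻¹ = g ^ (l ^ i) := by
    intro i
    induction i with
    | zero => simp
    | succ i ih =>
      rw [pow_succ', show n * n ^ i * g * (n * n ^ i)⁻¹ = n * (n ^ i * g * (n ^ i)⁻¹) * n⁻¹ by group,
        ih, ← conj_pow, hl, ← pow_mul, ← pow_succ']
  have hl11 : ¬ 11 ∣ l := by
    rintro ⟨t, rfl⟩
    rw [pow_mul, ← hor, pow_orderOf_eq_one, one_pow] at hl
    have : g = 1 := by
      have := congrArg (fun z => n⁻¹ * z * n) hl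
      simpa [mul_assoc] using this
    rw [this, orderOf_one] at hor
    omega
  have h10 : g ^ (l ^ 10) = g := by
    conv_rhs => rw [← pow_one g]
    rw [pow_eq_pow_iff_modEq, hor]
    exact Nat.ModEq.pow_card_sub_one_eq_one h11 (h11.coprime_iff_not_dvd.mpr hl11).symm
  have hc10 : Commute (n ^ 10) g := by
    have := hiter 10
    rw [h10] at this
    exact mul_inv_eq_iff_eq_mul.mp this
  have hfixp : ∀ i : ℕ, ∀ x, g x = x → (n ^ i) x = x := fun i x hx =>
    Perm.pow_apply_eq_self_of_apply_eq_self (hfix x hx) i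
  have h10mem : n ^ 10 ∈ Subgroup.zpowers g := mem_zpowers_of_commute hgc (hfixp 10) hc10
  have h110 : n ^ 110 = 1 := by
    obtain ⟨t, ht⟩ := Subgroup.mem_zpowers_iff.mp h10mem
    rw [show (110 : ℕ) = 10 * 11 from rfl, pow_mul, ← ht, ← zpow_natCast, ← zpow_mul, mul_comm,
      zpow_mul, zpow_natCast, ← hor, pow_orderOf_eq_one, one_zpow]
  set m := orderOf n with hm
  have hmdvd : m ∣ 110 := orderOf_dvd_of_pow_eq_one h110
  have hmpos : 0 < m := orderOf_pos n
  -- elements of `n`'s cyclic group of order prime to 11 outside `⟨g⟩`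
  have hnot : ∀ i : ℕ, ∀ r : ℕ, r ≠ 11 → r.Prime → orderOf (n ^ i) = r → n ^ i ∉ Subgroup.zpowers g := by
    intro i r hr hrp hri hmem
    have h1 := orderOf_dvd_of_mem_zpowers hmem
    rw [hri, hor] at h1
    exact hr ((Nat.prime_dvd_prime_iff_eq hrp h11).mp h1)
  by_cases h5 : 5 ∣ m
  · obtain ⟨t, ht⟩ := h5
    set r := n ^ t with hr
    have hor5 : orderOf r = 5 := by
      rw [hr, orderOf_pow_of_dvd (by rintro rfl; omega) ⟨5, by omega⟩, ← hm, ht,
        Nat.mul_div_cancel _ (by omega)]
    haveI := Fact.mk (show Nat.Prime 5 by norm_num)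
    have hrG : r ∈ G := pow_mem hn t
    obtain ⟨j, hj⟩ := Equiv.Perm.cycleType_prime_order (σ := r) (by rw [hor5]; norm_num)
    rw [hor5] at hj
    have hsum := r.sum_cycleType
    rw [hj, Multiset.sum_replicate, smul_eq_mul] at hsum
    have hle : r.support.card ≤ 13 := le_trans (Finset.card_le_univ _) (le_of_eq (Fintype.card_fin 13))
    rcases Nat.eq_zero_or_pos j with rfl | hjpos
    · exact CfsgLib.Perm.alternatingGroup_le_of_isCycle_prime hG (p := 5) (by norm_num)
        (by rw [Nat.card_fin]; norm_num)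
        (Perm.card_cycleType_eq_one.mp (by rw [hj]; simp)) (by omega) hrG
    have hr10 : r.support.card = 10 := by omega
    have hk : {x | r x = x}.ncard = 3 := by
      have h1 : {x | r x = x} = ((r.support : Set (Fin 13)))ᶜ := by ext x; simp
      have := Set.ncard_add_ncard_compl (r.support : Set (Fin 13))
      rw [Set.ncard_coe_finset, hr10, Nat.card_fin] at this
      rw [h1]; omega
    by_contra hcon
    apply hcon
    obtain ⟨u, hu, hu3⟩ := CfsgLib.Perm.exists_isThreeCycle_of_normalizer (N := 10) hrG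
      (by norm_num : Nat.Prime 5) hor5 hk le_rfl
      (three_transitive h11 rfl hG hgc hgp hg) (by
        intro h25
        obtain ⟨E, hE⟩ := Sylow.exists_subgroup_card_pow_prime 5 h25
        obtain ⟨c, hc⟩ : ∃ c, r c ≠ c := by
          by_contra! hall
          rw [show r = 1 from Equiv.ext hall, orderOf_one] at hor5
          omega
        have hninj : ¬ Function.Injective fun z : E =>
            ((z : CfsgLib.Perm.fixedPart G {x | r x = x}) : Perm (Fin 13)) c := fun hinj => by
          have h := Nat.card_le_card_of_injective _ hinj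
          rw [hE, Nat.card_fin] at h
          omega
        rw [Function.not_injective_iff] at hninj
        obtain ⟨z, w, hzw, hne⟩ := hninj
        set u : E := w⁻¹ * z with hu
        have hu1 : u ≠ 1 := by rw [hu, ne_eq, inv_mul_eq_one]; exact fun h => hne h.symm
        set v : Perm (Fin 13) := ((u : CfsgLib.Perm.fixedPart G {x | r x = x}) : Perm (Fin 13)) with hv
        have hvc : v c = c := by
          rw [hv, hu]
          simp only [Subgroup.coe_mul, InvMemClass.coe_inv, Perm.mul_apply]
          rw [Perm.inv_eq_iff_eq]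
          exact hzw
        -- an element of order 5 moving at most nine points is a cycle
        have hv5 : orderOf v = 5 ∨ orderOf v = 25 := by
          have h1 : orderOf v ∣ 5 ^ 2 := by
            rw [hv, Subgroup.orderOf_coe, Subgroup.orderOf_coe, ← hE]
            exact orderOf_dvd_natCard u
          obtain ⟨i, hi, hi'⟩ := (Nat.dvd_prime_pow (by norm_num : Nat.Prime 5)).mp h1
          interval_cases i
          · exfalso
            rw [pow_zero, orderOf_eq_one_iff] at hi'
            apply hu1
            exact Subtype.ext (Subtype.ext hi')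
          · exact Or.inl hi'
          · exact Or.inr hi'
        set v' : Perm (Fin 13) := v ^ (orderOf v / 5) with hv'
        have hv'5 : orderOf v' = 5 := by
          rw [hv', orderOf_pow_of_dvd (by rcases hv5 with h | h <;> rw [h] <;> norm_num)
            (by rcases hv5 with h | h <;> rw [h] <;> norm_num)]
          rcases hv5 with h | h <;> rw [h]
        have hv'c : v' c = c := Perm.pow_apply_eq_self_of_apply_eq_self hvc _
        have hmemv : v ∈ G ∧ ∀ x, r x = x → v x = x :=
          CfsgLib.Perm.mem_fixedPart_iff.mp (u : CfsgLib.Perm.fixedPart G {x | r x = x}).2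
        have hsub : v'.support ⊆ r.support.erase c := by
          intro x hx
          rw [Perm.mem_support] at hx
          refine Finset.mem_erase.mpr ⟨fun h => hx (h ▸ hv'c), Perm.mem_support.mpr fun h => hx ?_⟩
          exact Perm.pow_apply_eq_self_of_apply_eq_self (hmemv.2 x h) _
        have hcard := Finset.card_le_card hsub
        rw [Finset.card_erase_of_mem (Perm.mem_support.mpr hc), hr10] at hcard
        obtain ⟨i, hi⟩ := Equiv.Perm.cycleType_prime_order (σ := v') (by rw [hv'5]; norm_num)
        rw [hv'5] at hi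
        have hs := v'.sum_cycleType
        rw [hi, Multiset.sum_replicate, smul_eq_mul] at hs
        obtain rfl : i = 0 := by omega
        exact absurd (CfsgLib.Perm.alternatingGroup_le_of_isCycle_prime hG (p := 5) (g := v') (by norm_num)
          (by rw [Nat.card_fin]; norm_num)
          (Perm.card_cycleType_eq_one.mp (by rw [hi]; simp)) (by omega)
          (pow_mem hmemv.1 _)) hcon)
      (by norm_num) (by
        intro c hcG hc x hx
        -- at most two orbits of `⟨r⟩` on moved points
        have hmoved : ∀ y, r y ≠ y → r (c y) ≠ c y := fun y hy => by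
          rw [← Perm.mul_apply, ← hc.eq, Perm.mul_apply]; exact c.injective.ne hy
        have horbit : ∀ y, r y ≠ y → Function.Injective fun i : Fin 5 => (r ^ (i : ℕ)) y := fun y hy =>
          pow_apply_injective (by norm_num) hor5 hy
        have hmap : ∀ y (i : ℕ), c ((r ^ i) y) = (r ^ i) (c y) := fun y i => by
          rw [← Perm.mul_apply, (hc.pow_right i).eq, Perm.mul_apply]
        have key : ∀ j : ℕ, (∃ i : ℕ, c x = (r ^ i) x) → ∃ i : ℕ, (c ^ j) x = (r ^ (i * j)) x := by
          rintro j ⟨i, hi⟩
          refine ⟨i, ?_⟩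
          induction j with
          | zero => simp
          | succ j ih =>
            rw [pow_succ', Perm.mul_apply, ih, hmap, hi, ← Perm.mul_apply, ← pow_add]
            ring_nf
        by_cases h1 : ∃ i : ℕ, c x = (r ^ i) x
        · obtain ⟨i, hi⟩ := key 10 h1
          rw [hi, show i * 10 = 5 * (2 * i) by ring, pow_mul, ← hor5, pow_orderOf_eq_one, one_pow]
          rfl
        · -- then `c ^ 2` stabilizes the orbit of `x`
          obtain ⟨i, hi⟩ : ∃ i : ℕ, (c ^ 2) x = (r ^ i) x := by
            by_contra hno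
            push Not at h1 hno
            have hinj : Function.Injective fun t : Fin 3 × Fin 5 =>
                (r ^ (t.2 : ℕ)) ((c ^ (t.1 : ℕ)) x) := by
              have hback : ∀ (y : Fin 13) (a b : ℕ) (z : Fin 13), (r ^ a) y = (r ^ b) z → b < 5 →
                  y = (r ^ (b + (5 - a % 5))) z := by
                intro y a b z h hb
                have e : (r ^ (5 - a % 5)) ((r ^ a) y) = y := by
                  rw [← Perm.mul_apply, ← pow_add, ← pow_mod_orderOf, hor5,
                    show (5 - a % 5 + a) % 5 = 0 by omega, pow_zero]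
                  rfl
                rw [← e, h, ← Perm.mul_apply, ← pow_add, add_comm]
              rintro ⟨a, i⟩ ⟨b, j⟩ h
              simp only at h
              fin_cases a <;> fin_cases b <;> simp only [pow_zero, pow_one] at h ⊢
              all_goals first
                | (exfalso; exact h1 _ (hback _ _ _ _ h j.2))
                | (exfalso; exact h1 _ (hback _ _ _ _ h.symm i.2))
                | (exfalso; exact hno _ (hback _ _ _ _ h j.2))
                | (exfalso; exact hno _ (hback _ _ _ _ h.symm i.2))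
                | (exfalso; rw [pow_two, Perm.mul_apply, ← hmap x, ← hmap (c x)] at h;
                   exact h1 _ (hback _ _ _ _ (c.injective h) j.2))
                | (exfalso; rw [pow_two, Perm.mul_apply, ← hmap x, ← hmap (c x)] at h;
                   exact h1 _ (hback _ _ _ _ (c.injective h).symm i.2))
                | (have h' := horbit _ hx (a₁ := i) (a₂ := j) h; rw [h'])
                | (have h' := horbit _ (hmoved _ hx) (a₁ := i) (a₂ := j) h; rw [h'])
                | (rw [pow_two, Perm.mul_apply] at h; have h' := horbit _ (hmoved _ (hmoved _ hx)) (a₁ := i) (a₂ := j) h; rw [h'])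
            have hrange : ∀ t : Fin 3 × Fin 5, (r ^ (t.2 : ℕ)) ((c ^ (t.1 : ℕ)) x) ∈ r.support := by
              intro t
              rw [Perm.pow_apply_mem_support, Perm.mem_support]
              have : ∀ k : ℕ, r ((c ^ k) x) ≠ (c ^ k) x := by
                intro k
                induction k with
                | zero => simpa using hx
                | succ k ih => rw [pow_succ', Perm.mul_apply]; exact hmoved _ ih
              exact this _
            have h2 := Finset.card_le_card (s := Finset.univ.map ⟨_, hinj⟩) (t := r.support) fun z hz => by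
              obtain ⟨t, -, rfl⟩ := Finset.mem_map.mp hz
              exact hrange t
            simp [hr10] at h2
          have key2 : ∀ j : ℕ, (c ^ (2 * j)) x = (r ^ (i * j)) x := by
            intro j
            induction j with
            | zero => simp
            | succ j ih =>
              rw [show 2 * (j + 1) = 2 + 2 * j by ring, pow_add, Perm.mul_apply, ih, ← Perm.mul_apply,
                ((hc.pow_left 2).pow_right (i * j)).eq, Perm.mul_apply, hi, ← Perm.mul_apply, ← pow_add]
              ring_nf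
          rw [show (10 : ℕ) = 2 * 5 from rfl, key2, mul_comm, pow_mul, ← hor5, pow_orderOf_eq_one,
            one_pow]
          rfl)
    exact Equiv.Perm.alternatingGroup_le_of_isPreprimitive_of_isThreeCycle_mem hG hu3 hu
  · -- otherwise `n` gives an odd involution
    exfalso
    have h2 : 2 ∣ m := by
      by_contra h2
      have h11m : n ^ 11 = 1 := by
        apply orderOf_dvd_iff_pow_eq_one.mp
        have h1 : m.Coprime 2 := ((Nat.Prime.coprime_iff_not_dvd Nat.prime_two).mpr h2).symm
        have h1' : m.Coprime 5 := ((Nat.Prime.coprime_iff_not_dvd (by norm_num : Nat.Prime 5)).mpr h5).symm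
        exact (h1.mul_right h1').dvd_of_dvd_mul_left hmdvd
      have : n = n ^ 11 * (n ^ 10)⁻¹ := by group
      rw [h11m, one_mul] at this
      exact hout (this ▸ inv_mem h10mem)
    obtain ⟨t, ht⟩ := h2
    set z := n ^ t with hz
    have horz : orderOf z = 2 := by
      rw [hz, orderOf_pow_of_dvd (by rintro rfl; omega) ⟨2, by omega⟩, ← hm, ht,
        Nat.mul_div_cancel _ (by omega)]
    have hzout := hnot t 2 (by norm_num) Nat.prime_two horz
    have hzz : z * z = 1 := by rw [← sq, ← horz, pow_orderOf_eq_one]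
    set e := l ^ t with he
    have hze : z * g * z⁻¹ = g ^ e := hiter t
    have he1 : e % 11 = 10 := by
      have h1 : g ^ (e * e) = g ^ 1 := by
        have h2 : z * (z * g * z⁻¹) * z⁻¹ = g := by
          rw [show z * (z * g * z⁻¹) * z⁻¹ = (z * z) * g * (z * z)⁻¹ by group, hzz]; group
        rw [hze, ← conj_pow, hze, ← pow_mul] at h2
        rw [h2, pow_one]
      rw [pow_eq_pow_iff_modEq, hor, Nat.ModEq, Nat.mul_mod] at h1
      have h2 : e % 11 = 1 ∨ e % 11 = 10 := by
        have h3 : e % 11 < 11 := Nat.mod_lt _ (by norm_num)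
        interval_cases h4 : e % 11 <;> omega
      refine h2.resolve_left fun h3 => hzout (mem_zpowers_of_commute hgc (hfixp t) ?_)
      rw [← pow_mod_orderOf, hor, h3, pow_one] at hze
      exact mul_inv_eq_iff_eq_mul.mp hze
    obtain ⟨c, hc0⟩ := hgc.nonempty_support
    rw [Perm.mem_support] at hc0
    have hzc : g (z c) ≠ z c := by
      intro h
      have h1 : z c = c := z.injective (hfixp t (z c) h)
      rw [h1] at h
      exact hc0 h
    obtain ⟨j, hj⟩ := hgc.exists_pow_eq hc0 hzc
    have hzg : ∀ i : ℕ, z ((g ^ i) c) = (g ^ ((10 * i + j) % 11)) c := by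
      intro i
      have h1 : z * g ^ i = g ^ (e * i) * z := by
        rw [pow_mul, ← hze, conj_pow]; group
      rw [← Perm.mul_apply, h1, Perm.mul_apply, ← hj, ← Perm.mul_apply, ← pow_add, ← pow_mod_orderOf, hor,
        show (e * i + j) % 11 = (10 * i + j) % 11 by rw [Nat.add_mod, Nat.mul_mod, he1]; omega]
    -- exactly one moved point of `g` is fixed by `z`
    have hsupp : z.support = g.support.erase ((g ^ (6 * j % 11)) c) := by
      ext x
      rw [Perm.mem_support, Finset.mem_erase, Perm.mem_support]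
      by_cases hx : g x = x
      · simp [hx, hfixp t x hx, hz]
      obtain ⟨i, hi⟩ := hgc.exists_pow_eq hc0 hx
      subst hi
      have hred : (g ^ i) c = (g ^ (i % 11)) c := by rw [← hor, pow_mod_orderOf]
      rw [hzg, hred]
      have hinj := pow_apply_injective h11 hor hc0
      have e1 : ((g ^ ((10 * i + j) % 11)) c = (g ^ (i % 11)) c ↔ (10 * i + j) % 11 = i % 11) :=
        ⟨fun h => congrArg Fin.val (@hinj ⟨_, Nat.mod_lt _ (by norm_num)⟩ ⟨_, Nat.mod_lt _ (by norm_num)⟩ h),
          fun h => by rw [h]⟩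
      have e2 : ((g ^ (i % 11)) c = (g ^ (6 * j % 11)) c ↔ i % 11 = 6 * j % 11) :=
        ⟨fun h => congrArg Fin.val (@hinj ⟨_, Nat.mod_lt _ (by norm_num)⟩ ⟨_, Nat.mod_lt _ (by norm_num)⟩ h),
          fun h => by rw [h]⟩
      rw [hred] at hx
      simp only [ne_eq, e1, e2, hx, not_false_eq_true, and_true]
      omega
    have hz10 : z.support.card = 10 := by
      rw [hsupp, Finset.card_erase_of_mem (Perm.pow_apply_mem_support.mpr (Perm.mem_support.mpr hc0)), hgp]
    obtain ⟨i, hi⟩ := Equiv.Perm.cycleType_prime_order (σ := z) (by rw [horz]; norm_num)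
    rw [horz] at hi
    have hsum := z.sum_cycleType
    rw [hi, Multiset.sum_replicate, smul_eq_mul, hz10] at hsum
    have hsign := Equiv.Perm.sign_of_cycleType z
    rw [hi, Multiset.sum_replicate, Multiset.card_replicate, smul_eq_mul,
      Equiv.Perm.mem_alternatingGroup.mp (hev (pow_mem hn t)), show i = 4 by omega] at hsign
    norm_num at hsign

theorem thirteen (hev : G ≤ alternatingGroup (Fin 13))
    (hG : IsPreprimitive G (Fin 13)) (hgc : g.IsCycle) (hgp : g.support.card = 11) (hg : g ∈ G) :
    alternatingGroup (Fin 13) ≤ G := by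
  classical
  by_contra hcon
  have hno : ∀ n ∈ G, (∀ x, g x = x → n x = x) → n * g * n⁻¹ ∈ Subgroup.zpowers g →
      n ∈ Subgroup.zpowers g := fun n hn hfix hnorm => by
    by_contra hout
    exact hcon (thirteen_of_normalizer hev hG hgc hgp hg hn hfix hnorm hout)
  have hor : orderOf g = 11 := hgc.orderOf.trans hgp
  haveI : Fact (Nat.Prime 11) := ⟨by norm_num⟩
  set s : Set (Fin 13) := (g.support : Set (Fin 13))ᶜ with hs
  have hs' : ∀ x, x ∈ s ↔ g x = x := fun x => by simp [hs]
  set K := fixingSubgroup G s with hK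
  set X := SubMulAction.ofFixingSubgroup G s with hX
  haveI : IsPretransitive K X := Equiv.Perm.isPretransitive_of_isCycle_mem hgc hg
  have hX11 : Nat.card X = 11 := by
    rw [hX, Nat.card_eq_fintype_card, Fintype.card_subtype, ← hgp]
    congr 1
    ext x
    simp [SubMulAction.mem_ofFixingSubgroup_iff, hs]
  haveI : IsPreprimitive K X := IsPreprimitive.of_prime_card (hX11.symm ▸ Fact.out)
  let gK : K := ⟨⟨g, hg⟩, (mem_fixingSubgroup_iff _).mpr fun x hx => (hs' x).mp hx⟩
  have horK : orderOf gK = 11 := by rw [← hor, ← Subgroup.orderOf_coe, ← Subgroup.orderOf_coe]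
  obtain ⟨P, hP⟩ := (IsPGroup.of_card (p := 11) (n := 1) (G := Subgroup.zpowers gK)
    (by rw [Nat.card_zpowers, horK, pow_one])).exists_le_sylow
  -- the Sylow subgroup of `K` has order 11
  have hK11 : ¬ 11 ^ 2 ∣ Nat.card K := by
    intro h
    have h1 : Nat.card K ∣ Nat.card (Perm X) := by
      refine Subgroup.card_dvd_of_injective (MulAction.toPermHom K X) fun u v huv => ?_
      apply Subtype.ext
      apply Subtype.ext
      ext x
      by_cases hx : x ∈ s
      · exact congrArg Fin.val (((mem_fixingSubgroup_iff _).mp u.2 x hx).trans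
          ((mem_fixingSubgroup_iff _).mp v.2 x hx).symm)
      · have := congrArg Subtype.val (Equiv.Perm.congr_fun huv
          (⟨x, by rw [hX, SubMulAction.mem_ofFixingSubgroup_iff]; exact hx⟩ : X))
        exact congrArg Fin.val this
    have h2 := h.trans h1
    rw [Nat.card_perm, hX11] at h2
    norm_num [Nat.factorial] at h2
  have hPc : Nat.card (P : Subgroup K) = 11 := by
    obtain ⟨i, hi⟩ := (IsPGroup.iff_card (p := 11)).mp P.isPGroup'
    have h1 : 11 ∣ Nat.card (P : Subgroup K) := by
      have h := Subgroup.card_dvd_of_le hP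
      rw [Nat.card_zpowers, horK] at h
      exact h
    rw [hi] at h1 ⊢
    rcases i with _ | _ | i
    · norm_num at h1
    · norm_num
    · exact absurd ((dvd_pow_self 11 (Nat.succ_ne_zero i) |> fun _ =>
        pow_dvd_pow 11 (show 2 ≤ i + 1 + 1 by omega)).trans (hi ▸ (P : Subgroup K).card_subgroup_dvd_card)) hK11
  have hPz : (P : Subgroup K) = Subgroup.zpowers gK :=
    (Subgroup.eq_of_le_of_card_ge hP (by rw [hPc, Nat.card_zpowers, horK])).symm
  -- Burnside: a normal complement, which must be trivial
  have hN : Subgroup.normalizer ((P : Subgroup K) : Set K) ≤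
      Subgroup.centralizer ((P : Subgroup K) : Set K) := by
    intro u hu
    have h1 : gK ∈ (P : Subgroup K) := hP (Subgroup.mem_zpowers gK)
    have h2 := (Subgroup.mem_normalizer_iff.mp hu gK).mp h1
    rw [hPz] at h2
    obtain ⟨i, hi⟩ := Subgroup.mem_zpowers_iff.mp h2
    have h3 := congrArg (fun z : K => ((z : G) : Perm (Fin 13))) hi
    simp only [SubgroupClass.coe_zpow, Subgroup.coe_mul, InvMemClass.coe_inv] at h3
    have hmem := hno ((u : G) : Perm (Fin 13)) (u : G).2
      (fun x hx => (mem_fixingSubgroup_iff _).mp u.2 x ((hs' x).mpr hx)) ⟨i, h3⟩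
    obtain ⟨j, hj⟩ := hmem
    have hu' : u = gK ^ j := Subtype.ext (Subtype.ext (by simpa [gK] using hj.symm))
    rw [hPz, hu']
    intro z hz
    obtain ⟨k, rfl⟩ := Subgroup.mem_zpowers_iff.mp hz
    exact ((Commute.refl gK).zpow_zpow k j).eq
  have hcompl := MonoidHom.ker_transferSylow_isComplement' P hN
  set M := (MonoidHom.transferSylow P hN).ker with hM
  have hMbot : M = ⊥ := by
    by_contra hne
    have hMfix : fixedPoints M X ≠ Set.univ := by
      intro hall
      apply hne
      rw [eq_bot_iff]
      intro u hu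
      rw [Subgroup.mem_bot]
      apply Subtype.ext
      apply Subtype.ext
      ext x
      by_cases hx : x ∈ s
      · exact congrArg Fin.val ((mem_fixingSubgroup_iff _).mp u.2 x hx)
      · have h1 : (⟨x, by rw [hX, SubMulAction.mem_ofFixingSubgroup_iff]; exact hx⟩ : X) ∈ fixedPoints M X :=
          hall ▸ Set.mem_univ _
        have h2 := congrArg Subtype.val (h1 ⟨u, hu⟩)
        exact congrArg Fin.val h2
    haveI : IsPretransitive M X := IsQuasiPreprimitive.isPretransitive_of_normal hMfix
    obtain ⟨x⟩ : Nonempty X := (Nat.card_pos_iff.mp (by rw [hX11]; norm_num)).1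
    have h1 : 11 ∣ Nat.card M := by
      rw [← hX11, ← MulAction.index_stabilizer_of_transitive M x]
      exact Subgroup.index_dvd_card _
    have h2 := hcompl.card_mul
    rw [hPc] at h2
    exact hK11 (by rw [← h2, sq]; exact Nat.mul_dvd_mul h1 (dvd_refl 11))
  have hK' : Nat.card K = 11 := by
    have h2 := hcompl.card_mul
    rw [hPc, hMbot, Subgroup.card_bot] at h2
    omega
  -- so `G` is sharply 3-transitive of order 1716
  have htr3 := three_transitive Fact.out rfl hG hgc hgp hg
  haveI := htr3
  have hG1716 : Nat.card G = 1716 := by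
    have hscard : s.ncard = 2 := by
      have := Set.ncard_add_ncard_compl (g.support : Set (Fin 13))
      rw [Set.ncard_coe_finset, hgp, Nat.card_fin] at this
      rw [hs]; omega
    have := (MulAction.isMultiplyPretransitive_of_le (G := G) (α := Fin 13) (m := 2) (n := 3)
      (by norm_num) (by rw [Nat.card_fin]; norm_num)).index_of_fixingSubgroup_mul hscard
    rw [Nat.card_fin] at this
    have h2 := Subgroup.card_mul_index K
    rw [hK'] at h2
    norm_num [Nat.factorial] at this
    rw [hK] at h2
    omega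
  -- the stabilizer of a point fixed by `g`
  obtain ⟨a, b, hab, hsab⟩ : ∃ a b, a ≠ b ∧ s = {a, b} := by
    refine Set.ncard_eq_two.mp ?_
    have := Set.ncard_add_ncard_compl (g.support : Set (Fin 13))
    rw [Set.ncard_coe_finset, hgp, Nat.card_fin] at this
    rw [hs]; omega
  have hga : g a = a := (hs' a).mp (by rw [hsab]; simp)
  have hgb : g b = b := (hs' b).mp (by rw [hsab]; simp)
  set A := MulAction.stabilizer G a with hA
  have hA132 : Nat.card A = 132 := by
    haveI := hG.toIsPretransitive
    have h1 := MulAction.index_stabilizer_of_transitive G a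
    have h2 := A.card_mul_index
    rw [Nat.card_fin] at h1
    rw [h1, hG1716] at h2
    omega
  let gA : A := ⟨⟨g, hg⟩, hga⟩
  have horA : orderOf gA = 11 := by rw [← hor, ← Subgroup.orderOf_coe, ← Subgroup.orderOf_coe]
  have hA11 : ∀ Q : Sylow 11 A, Nat.card (Q : Subgroup A) = 11 := fun Q => by
    rw [Q.card_eq_multiplicity, hA132, Nat.factorization_def _ Fact.out,
      show (132 : ℕ) = 11 * 12 from rfl, padicValNat.mul (by norm_num) (by norm_num),
      padicValNat.self (by norm_num), padicValNat.eq_zero_of_not_dvd (by norm_num)]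
    norm_num
  obtain ⟨Q, hQ⟩ := (IsPGroup.of_card (p := 11) (n := 1) (G := Subgroup.zpowers gA)
    (by rw [Nat.card_zpowers, horA, pow_one])).exists_le_sylow
  have hQz : (Q : Subgroup A) = Subgroup.zpowers gA :=
    (Subgroup.eq_of_le_of_card_ge hQ (by rw [hA11, Nat.card_zpowers, horA])).symm
  -- every point other than `a` is carried to `b` by some element of `A`
  have hmove : ∀ c, c ≠ a → ∃ h : A, ((h : G) : Perm (Fin 13)) c = b := by
    intro c hca
    haveI : IsMultiplyPretransitive G (Fin 13) 2 :=
      MulAction.isMultiplyPretransitive_of_le (G := G) (α := Fin 13) (m := 2) (n := 3)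
        (by norm_num) (by rw [Nat.card_fin]; norm_num)
    obtain ⟨h, h1, h2⟩ := is_two_pretransitive_iff.mp this (Ne.symm hca) hab
    exact ⟨⟨h, h1⟩, h2⟩
  have hn12 : Nat.card (Sylow 11 A) = 12 := by
    have h1 := Q.card_dvd_index
    have h2 : (Q : Subgroup A).index = 12 := by
      have := (Q : Subgroup A).card_mul_index
      rw [hA11, hA132] at this
      omega
    rw [h2] at h1
    have h3 := card_sylow_modEq_one 11 A
    rw [Nat.ModEq] at h3
    have h4 := Nat.le_of_dvd (by norm_num) h1
    rcases (show Nat.card (Sylow 11 A) = 1 ∨ Nat.card (Sylow 11 A) = 12 by omega) with h5 | h5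
    · exfalso
      -- a normal `⟨g⟩` would fix every point
      obtain ⟨c, hc0⟩ := hgc.nonempty_support
      rw [Perm.mem_support] at hc0
      obtain ⟨h, hh⟩ := hmove c (fun e => hc0 (e ▸ hga))
      haveI : Subsingleton (Sylow 11 A) := (Nat.card_eq_one_iff_unique.mp h5).1
      haveI := Q.normal_of_subsingleton
      have h6 : h⁻¹ * gA * h⁻¹⁻¹ ∈ (Q : Subgroup A) :=
        (inferInstance : (Q : Subgroup A).Normal).conj_mem _ (hQ (Subgroup.mem_zpowers gA)) _
      rw [hQz] at h6
      obtain ⟨i, hi⟩ := mem_powers_iff_mem_zpowers.mpr h6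
      replace hi : gA ^ i = h⁻¹ * gA * h⁻¹⁻¹ := hi
      have h7 := congrArg (fun z : A => ((z : G) : Perm (Fin 13))) hi
      simp only [SubmonoidClass.coe_pow, Subgroup.coe_mul, InvMemClass.coe_inv, inv_inv] at h7
      have h8 : (g ^ i) c = c := by
        show ((gA : G) : Perm (Fin 13)) ^ i • c = c
        rw [h7, Perm.smul_def, Perm.mul_apply, Perm.mul_apply, hh]
        show ((h : G) : Perm (Fin 13))⁻¹ (g b) = c
        rw [hgb, Perm.inv_eq_iff_eq, hh]
      have h9 : g ^ i = 1 := (hgc.pow_eq_one_iff' hc0).mpr h8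
      have h10 : gA = 1 := by
        have h11 : (h⁻¹ * gA * h⁻¹⁻¹) = 1 := by
          rw [← hi]
          exact Subtype.ext (Subtype.ext (by simpa [gA] using h9))
        calc gA = h * (h⁻¹ * gA * h⁻¹⁻¹) * h⁻¹ := by group
          _ = 1 := by rw [h11]; group
      rw [h10, orderOf_one] at horA
      omega
    · exact h5
  have hcount := CfsgLib.SmallOrder.card_orderOf_eq_prime hA11
  rw [hn12] at hcount
  -- elements of order 2 and 3 fix no other point, so have 11 distinct conjugates under `⟨g⟩`
  have key : ∀ r, r.Prime → r ≠ 11 → r ∣ 132 → ∃ x : A, orderOf x = r ∧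
      Function.Injective fun i : Fin 11 => gA ^ (i : ℕ) * x * (gA ^ (i : ℕ))⁻¹ := by
    intro r hr hr11 hrd
    haveI := Fact.mk hr
    obtain ⟨x, hx⟩ := exists_prime_orderOf_dvd_card' r (hA132.symm ▸ hrd)
    refine ⟨x, hx, ?_⟩
    have hne : Subgroup.zpowers gA ⊓ Subgroup.centralizer ({x} : Set A) = ⊥ := by
      by_contra hne
      haveI : Fact (Nat.card (Subgroup.zpowers gA)).Prime := ⟨by
        rw [Nat.card_zpowers, horA]; norm_num⟩
      have htop := (Subgroup.eq_bot_or_eq_top_of_prime_card
        ((Subgroup.centralizer ({x} : Set A)).subgroupOf (Subgroup.zpowers gA))).resolve_left (fun h => hne (by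
          rw [inf_comm, ← Subgroup.subgroupOf_map_subtype, h, Subgroup.map_bot]))
      rw [Subgroup.subgroupOf_eq_top] at htop
      have hcg := congrArg (fun z : A => ((z : G) : Perm (Fin 13)))
        (Subgroup.mem_centralizer_singleton_iff.mp (htop (Subgroup.mem_zpowers gA)))
      simp only [Subgroup.coe_mul, gA] at hcg
      set x' : Perm (Fin 13) := ((x : G) : Perm (Fin 13)) with hx'
      have hxa : x' a = a := x.2
      have hxb : x' b = b := by
        have h1 : g (x' b) = x' b := by
          rw [← Perm.mul_apply, hcg, Perm.mul_apply, hgb]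
        have h2 : x' b ∈ s := (hs' _).mpr h1
        rw [hsab] at h2
        rcases h2 with h2 | h2
        · exact absurd (x'.injective (h2.trans hxa.symm)) hab.symm
        · exact h2
      have hxK : (x : G) ∈ K := (mem_fixingSubgroup_iff _).mpr fun y hy => by
        rw [hsab] at hy
        rcases hy with rfl | rfl
        · exact hxa
        · exact hxb
      have h3 := (Subgroup.orderOf_mk (x : G) hxK) ▸ (orderOf_dvd_natCard (⟨(x : G), hxK⟩ : K))
      rw [hK', Subgroup.orderOf_coe, hx] at h3
      exact hr11 ((Nat.prime_dvd_prime_iff_eq hr Fact.out).mp h3)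
    intro i j hij
    simp only at hij
    have hm : (gA ^ (j : ℕ))⁻¹ * gA ^ (i : ℕ) ∈
        Subgroup.zpowers gA ⊓ Subgroup.centralizer ({x} : Set A) := by
      refine Subgroup.mem_inf.mpr ⟨mul_mem (inv_mem (Subgroup.npow_mem_zpowers _ _))
        (Subgroup.npow_mem_zpowers _ _), Subgroup.mem_centralizer_singleton_iff.mpr ?_⟩
      calc (gA ^ (j : ℕ))⁻¹ * gA ^ (i : ℕ) * x
          = (gA ^ (j : ℕ))⁻¹ * (gA ^ (i : ℕ) * x * (gA ^ (i : ℕ))⁻¹) * gA ^ (i : ℕ) := by group
        _ = x * ((gA ^ (j : ℕ))⁻¹ * gA ^ (i : ℕ)) := by rw [hij]; group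
    rw [hne, Subgroup.mem_bot, inv_mul_eq_one] at hm
    exact Fin.ext (pow_injOn_Iio_orderOf (by simp [horA]) (by simp [horA]) hm.symm)
  obtain ⟨x, hx, hxi⟩ := key 2 Nat.prime_two (by norm_num) (by norm_num)
  obtain ⟨y, hy, hyi⟩ := key 3 Nat.prime_three (by norm_num) (by norm_num)
  let F : (Fin 11 ⊕ Fin 11) ⊕ {z : A // orderOf z = 11} → A := Sum.elim (Sum.elim
    (fun i => gA ^ (i : ℕ) * x * (gA ^ (i : ℕ))⁻¹) (fun i => gA ^ (i : ℕ) * y * (gA ^ (i : ℕ))⁻¹))
    Subtype.val
  have hoc : ∀ (w z : A), orderOf (w * z * w⁻¹) = orderOf z := fun w z =>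
    orderOf_injective (MulAut.conj w).toMonoidHom (MulAut.conj w).injective z
  have hF : Function.Injective F := by
    rintro ((i | i) | ⟨z, hz⟩) ((j | j) | ⟨w, hw⟩) h <;> simp only [F, Sum.elim_inl, Sum.elim_inr] at h
    · rw [hxi h]
    · exact absurd (congrArg orderOf h) (by rw [hoc, hoc, hx, hy]; norm_num)
    · exact absurd (congrArg orderOf h) (by rw [hoc, hx, hw]; norm_num)
    · exact absurd (congrArg orderOf h) (by rw [hoc, hoc, hx, hy]; norm_num)
    · rw [hyi h]
    · exact absurd (congrArg orderOf h) (by rw [hoc, hy, hw]; norm_num)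
    · exact absurd (congrArg orderOf h) (by rw [hoc, hx, hz]; norm_num)
    · exact absurd (congrArg orderOf h) (by rw [hoc, hy, hz]; norm_num)
    · exact congrArg Sum.inr (Subtype.ext h)
  have := Nat.card_le_card_of_injective F hF
  rw [Nat.card_sum, Nat.card_sum, Nat.card_fin, hcount, hA132] at this
  omega

end Thirteen

/-- A transitive group of degree six, generated in `A_6` by elements of order 3 and 5, is `A_6` or
isomorphic to `A_5`. -/
theorem six {G : Subgroup (Perm (Fin 6))} (hev : G ≤ alternatingGroup (Fin 6))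
    (hG : IsPreprimitive G (Fin 6)) (h3 : 3 ∣ Nat.card G) (h5 : 5 ∣ Nat.card G) :
    alternatingGroup (Fin 6) ≤ G ∨ Nonempty (G ≃* alternatingGroup (Fin 5)) := by
  haveI := hG
  haveI := hG.toIsPretransitive
  have h6 : 6 ∣ Nat.card G := by
    have := MulAction.index_stabilizer_of_transitive G (0 : Fin 6)
    rw [Nat.card_fin] at this
    exact (dvd_of_eq this.symm).trans (Subgroup.index_dvd_card _)
  set H := G.subgroupOf (alternatingGroup (Fin 6)) with hHdef
  have hH : Nat.card H = Nat.card G :=
    Nat.card_congr (Subgroup.subgroupOfEquivOfLe hev).toEquiv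
  have hA := CfsgLib.SmallOrder.card_alternating_fin (n := 6) (by norm_num)
  rw [show Nat.factorial 6 = 720 from rfl] at hA
  have hidx := H.card_mul_index
  rw [hH] at hidx
  by_cases htop : H = ⊤
  · left
    rw [hHdef, Subgroup.subgroupOf_eq_top] at htop
    exact htop
  right
  have hlt : 6 ≤ H.index := by
    by_contra hlt
    exact htop (eq_top_of_index_lt (by norm_num) H (not_le.mp hlt))
  -- a normal subgroup other than `⊥` is transitive
  have htrans : ∀ N : Subgroup G, N.Normal → N ≠ ⊥ → 6 ∣ Nat.card N := by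
    intro N hN hne
    haveI := hN
    haveI : IsPretransitive N (Fin 6) := IsQuasiPreprimitive.isPretransitive_of_normal fun hall => hne (by
      rw [eq_bot_iff]
      intro u hu
      rw [Subgroup.mem_bot]
      apply Subtype.ext
      ext x
      have h : x ∈ fixedPoints N (Fin 6) := hall ▸ Set.mem_univ x
      exact congrArg Fin.val (h ⟨u, hu⟩))
    have := MulAction.index_stabilizer_of_transitive N (0 : Fin 6)
    rw [Nat.card_fin] at this
    exact (dvd_of_eq this.symm).trans (Subgroup.index_dvd_card _)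
  -- so no normal subgroup has a unique Sylow subgroup of order prime to six
  have huniq : ∀ (p : ℕ) [Fact p.Prime] (N : Subgroup G), N.Normal → p ∣ Nat.card N →
      Nat.card (Sylow p N) = 1 → False := by
    intro p hp N hN hpN h1
    haveI := hN
    obtain ⟨P⟩ := (inferInstance : Nonempty (Sylow p N))
    haveI : Subsingleton (Sylow p N) := (Nat.card_eq_one_iff_unique.mp h1).1
    haveI := P.normal_of_subsingleton
    haveI : (P : Subgroup N).Characteristic := P.characteristic_of_normal inferInstance
    have h2 := htrans ((P : Subgroup N).map N.subtype) inferInstance (fun h =>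
      P.ne_bot_of_dvd_card hpN ((Subgroup.map_eq_bot_iff_of_injective _ N.subtype_injective).mp h))
    rw [Subgroup.card_map_of_injective N.subtype_injective, P.card_eq_multiplicity] at h2
    have h2' : 2 ∣ p := Nat.prime_two.dvd_of_dvd_pow ((by norm_num : 2 ∣ 6).trans h2)
    have h3' : 3 ∣ p := Nat.prime_three.dvd_of_dvd_pow ((by norm_num : 3 ∣ 6).trans h2)
    rw [Nat.prime_dvd_prime_iff_eq Nat.prime_two hp.out] at h2'
    omega
  haveI : Fact (Nat.Prime 5) := ⟨by norm_num⟩
  haveI : Fact (Nat.Prime 3) := ⟨by norm_num⟩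
  -- there is no normal subgroup of order 30
  have h30 : ∀ N : Subgroup G, N.Normal → Nat.card N ≠ 30 := by
    intro N hN hc
    have hP : ∀ (p : ℕ) [Fact p.Prime], (Nat.card N).factorization p = 1 →
        ∀ P : Sylow p N, Nat.card (P : Subgroup N) = p := fun p _ h P => by
      rw [P.card_eq_multiplicity, h, pow_one]
    have hfac : ∀ (p k : ℕ) [Fact p.Prime], 30 = p * k → ¬ p ∣ k → (Nat.card N).factorization p = 1 := by
      intro p k hp h hk
      have hk0 : k ≠ 0 := by rintro rfl; simp at hk
      rw [hc, h, Nat.factorization_def _ hp.out, padicValNat.mul hp.out.ne_zero hk0,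
        padicValNat.self hp.out.one_lt, padicValNat.eq_zero_of_not_dvd hk]
    have e5 := CfsgLib.SmallOrder.card_orderOf_eq_prime (hP 5 (hfac 5 6 rfl (by norm_num)))
    have e3 := CfsgLib.SmallOrder.card_orderOf_eq_prime (hP 3 (hfac 3 10 rfl (by norm_num)))
    have n5 := card_sylow_modEq_one 5 N
    have n3 := card_sylow_modEq_one 3 N
    rw [Nat.ModEq] at n5 n3
    have hne5 : Nat.card (Sylow 5 N) ≠ 1 := fun h => huniq 5 N hN (hc ▸ by norm_num) h
    have hne3 : Nat.card (Sylow 3 N) ≠ 1 := fun h => huniq 3 N hN (hc ▸ by norm_num) h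
    let F : {z : N // orderOf z = 5} ⊕ {z : N // orderOf z = 3} → N :=
      Sum.elim Subtype.val Subtype.val
    have hF : Function.Injective F := by
      rintro (⟨a, ha⟩ | ⟨a, ha⟩) (⟨b, hb⟩ | ⟨b, hb⟩) h <;>
        simp only [F, Sum.elim_inl, Sum.elim_inr] at h
      · exact congrArg Sum.inl (Subtype.ext h)
      · subst h; omega
      · subst h; omega
      · exact congrArg Sum.inr (Subtype.ext h)
    have := Nat.card_le_card_of_injective F hF
    rw [Nat.card_sum, e5, e3, hc] at this
    have := Nat.card_pos (α := Sylow 5 N)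
    have := Nat.card_pos (α := Sylow 3 N)
    omega
  have hG60 : Nat.card G = 60 := by
    have h30' := h30 ⊤ inferInstance
    rw [Subgroup.card_top] at h30'
    obtain ⟨k, hk⟩ : 30 ∣ Nat.card G := by omega
    have h1 : Nat.card G * 6 ≤ Nat.card G * H.index := Nat.mul_le_mul_left _ hlt
    have : 0 < Nat.card G := Nat.card_pos
    omega
  haveI : Nontrivial G := Finite.one_lt_card_iff_nontrivial.mp (by omega)
  haveI : IsSimpleGroup G := ⟨fun N hN => by
    by_contra hcon
    rw [not_or] at hcon
    obtain ⟨hne, hnt⟩ := hcon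
    have h1 := htrans N hN hne
    have h2 := N.card_subgroup_dvd_card
    rw [hG60] at h2
    have h3 : Nat.card N < 60 := hG60 ▸ Nat.lt_of_le_of_ne (Subgroup.card_le_card_group N)
      fun e => hnt ((Subgroup.card_eq_iff_eq_top N).mp e)
    have key : ∀ c < 60, c ∣ 60 → 6 ∣ c → c ≠ 30 → c = 6 ∨ c = 12 := by decide +kernel
    have h4 : Nat.card N = 6 ∨ Nat.card N = 12 := key _ h3 h2 h1 (h30 N hN)
    have hne3 : Nat.card (Sylow 3 N) ≠ 1 := fun h => huniq 3 N hN (by omega) h
    obtain ⟨Q⟩ := (inferInstance : Nonempty (Sylow 3 N))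
    have hfac : (Nat.card N).factorization 3 = 1 := by
      rcases h4 with h4 | h4 <;> rw [h4, Nat.factorization_def _ (by norm_num : Nat.Prime 3)]
      · rw [show (6 : ℕ) = 3 * 2 from rfl, padicValNat.mul (by norm_num) (by norm_num),
          padicValNat.self (by norm_num), padicValNat.eq_zero_of_not_dvd (by norm_num)]
      · rw [show (12 : ℕ) = 3 * 4 from rfl, padicValNat.mul (by norm_num) (by norm_num),
          padicValNat.self (by norm_num), padicValNat.eq_zero_of_not_dvd (by norm_num)]
    have hQ : ∀ Q : Sylow 3 N, Nat.card (Q : Subgroup N) = 3 := fun Q => by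
      rw [Q.card_eq_multiplicity, hfac, pow_one]
    have hd := Q.card_dvd_index
    have hi := (Q : Subgroup N).card_mul_index
    rw [hQ] at hi
    have hm := card_sylow_modEq_one 3 N
    rw [Nat.ModEq] at hm
    have hpos := Nat.card_pos (α := Sylow 3 N)
    have hle := Nat.le_of_dvd (by omega) hd
    rcases h4 with h4 | h4
    · omega
    have h44 : Nat.card (Sylow 3 N) = 4 := by omega
    -- eight elements of order three leave room for one subgroup of order four
    have e3 := CfsgLib.SmallOrder.card_orderOf_eq_prime hQ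
    rw [h44] at e3
    haveI : Fact (Nat.Prime 2) := ⟨Nat.prime_two⟩
    refine huniq 2 N hN (by omega) ?_
    have hS : ∀ R : Sylow 2 N, ((R : Subgroup N) : Set N) = {z : N | orderOf z ≠ 3} := by
      intro R
      have hR : Nat.card (R : Subgroup N) = 4 := by
        rw [R.card_eq_multiplicity, h4, Nat.factorization_def _ Nat.prime_two,
          show (12 : ℕ) = 2 ^ 2 * 3 from rfl, padicValNat.mul (by norm_num) (by norm_num),
          padicValNat.prime_pow, padicValNat.eq_zero_of_not_dvd (by norm_num)]
        norm_num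
      refine Set.eq_of_subset_of_ncard_le (fun z hz h => ?_) ?_
      · have := (R : Subgroup N).orderOf_dvd_natCard hz
        rw [h, hR] at this
        norm_num at this
      · have e : {z : N | orderOf z ≠ 3} = ({z : N | orderOf z = 3})ᶜ := rfl
        have h5 := Set.ncard_add_ncard_compl {z : N | orderOf z = 3}
        rw [← Nat.card_coe_set_eq, show Nat.card ({z : N | orderOf z = 3}) = 8 from e3, h4] at h5
        rw [e, ← Nat.card_coe_set_eq ((R : Subgroup N) : Set N), show Nat.card ((R : Subgroup N) : Set N) = 4 from hR]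
        omega
    rw [Nat.card_eq_one_iff_unique]
    exact ⟨⟨fun R S => Sylow.ext (SetLike.coe_injective ((hS R).trans (hS S).symm))⟩, inferInstance⟩⟩
  exact Cfsg.Agent.S0494.result hG60

theorem alternating_of_twin {d p q : ℕ} {G : Subgroup (Perm (Fin d))}
    (hev : G ≤ alternatingGroup (Fin d)) (hG : IsPreprimitive G (Fin d)) {g : Perm (Fin d)}
    (hgc : g.IsCycle) (hgp : g.support.card = p) (hg : g ∈ G) (hd : d = p + 2) (hdq : d = q)
    (hpq : (p = 5 ∧ q = 7) ∨ (p = 11 ∧ q = 13)) : alternatingGroup (Fin d) ≤ G := by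
  rcases hpq with ⟨rfl, rfl⟩ | ⟨rfl, rfl⟩ <;> subst hd
  · exact seven hev hG hgc hgp hg
  · exact thirteen hev hG hgc hgp hg

/-- The group generated by elements of orders `p` and `q` moving all points. -/
theorem closure_iso {d p q : ℕ} (hp : p.Prime) (hq : q.Prime) {x y : Perm (Fin d)}
    (hx : orderOf x = p) (hy : orderOf y = q) (hxs : Perm.sign x = 1) (hys : Perm.sign y = 1)
    (hfull : ∀ c, x c ≠ c ∨ y c ≠ c) (hp3 : 3 ≤ p) (hpq : p < q)
    (hd : d < 2 * q) (hd2 : d ≤ 2 * p) (hdbl : q + 3 ≤ 2 * p ∨ d < 2 * p ∨ (p = 3 ∧ q = 5))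
    (hgap : p = 3 ∨ p + 4 ≤ q ∨ (p = 5 ∧ q = 7) ∨ (p = 11 ∧ q = 13)) :
    ∃ n, 5 ≤ n ∧ Nonempty (Subgroup.closure ({x, y} : Set (Perm (Fin d))) ≃* alternatingGroup (Fin n)) := by
  set G := Subgroup.closure ({x, y} : Set (Perm (Fin d))) with hGdef
  have hxG : x ∈ G := Subgroup.subset_closure (by simp)
  have hyG : y ∈ G := Subgroup.subset_closure (by simp)
  have hev : G ≤ alternatingGroup (Fin d) := by
    rw [hGdef, Subgroup.closure_le]
    rintro z (rfl | rfl) <;> assumption
  have hyle : y.support.card ≤ d := le_trans (Finset.card_le_univ _) (le_of_eq (Fintype.card_fin d))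
  have hxle : x.support.card ≤ d := le_trans (Finset.card_le_univ _) (le_of_eq (Fintype.card_fin d))
  obtain ⟨i, hi⟩ := Equiv.Perm.cycleType_prime_order (σ := y) (hy ▸ hq)
  rw [hy] at hi
  have hysum := y.sum_cycleType
  rw [hi, Multiset.sum_replicate, smul_eq_mul] at hysum
  obtain rfl : i = 0 := by
    rcases i with _ | i
    · rfl
    · have : 2 * q ≤ (i + 1 + 1) * q := Nat.mul_le_mul_right q (by omega)
      omega
  have hyc : y.IsCycle := Perm.card_cycleType_eq_one.mp (by rw [hi]; simp)
  have hys' : y.support.card = q := by omega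
  have hprim : IsPreprimitive G (Fin d) := closure_preprimitive hp hq hx hyc hys' hfull
    (by rw [Fintype.card_fin]; omega) (by rw [Fintype.card_fin]; exact hd)
  have done : alternatingGroup (Fin d) ≤ G →
      ∃ n, 5 ≤ n ∧ Nonempty (G ≃* alternatingGroup (Fin n)) := fun h =>
    ⟨d, by
      have : q ≠ 4 := fun e => by rw [e] at hq; norm_num at hq
      omega, ⟨MulEquiv.subgroupCongr (le_antisymm hev h)⟩⟩
  by_cases hq3 : q + 3 ≤ d
  · exact done (CfsgLib.Perm.alternatingGroup_le_of_isCycle_prime hprim hq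
      (by rw [Nat.card_fin]; exact hq3) hyc hys' hyG)
  obtain ⟨j, hj⟩ := Equiv.Perm.cycleType_prime_order (σ := x) (hx ▸ hp)
  rw [hx] at hj
  have hxsum := x.sum_cycleType
  rw [hj, Multiset.sum_replicate, smul_eq_mul] at hxsum
  rcases j with _ | j
  · -- `x` is a `p`-cycle
    have hxc : x.IsCycle := Perm.card_cycleType_eq_one.mp (by rw [hj]; simp)
    have hxs' : x.support.card = p := by omega
    by_cases h3 : p = 3
    · exact done (Equiv.Perm.alternatingGroup_le_of_isPreprimitive_of_isThreeCycle_mem hprim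
        (card_support_eq_three_iff.mp (hxs'.trans h3)) hxG)
    by_cases hp' : p + 3 ≤ d
    · exact done (CfsgLib.Perm.alternatingGroup_le_of_isCycle_prime hprim hp
        (by rw [Nat.card_fin]; exact hp') hxc hxs' hxG)
    refine done (alternating_of_twin hev hprim hxc hxs' hxG ?_ ?_ (hgap.resolve_left h3 |>.resolve_left
      (by omega)))
    all_goals (rcases hgap with h | h | ⟨h, h'⟩ | ⟨h, h'⟩ <;> omega)
  · -- `x` has two cycles, so `d = 2 p`
    have h2p : 2 * p ≤ (j + 1 + 1) * p := Nat.mul_le_mul_right p (by omega)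
    have hd2p : d = 2 * p := by omega
    obtain ⟨hp3', hq5⟩ : p = 3 ∧ q = 5 := by omega
    obtain rfl : d = 6 := by omega
    have hdx : 3 ∣ Nat.card G := by
      rw [← hp3', ← hx]; exact Subgroup.orderOf_dvd_natCard G hxG
    have hdy : 5 ∣ Nat.card G := by
      rw [← hq5, ← hy]; exact Subgroup.orderOf_dvd_natCard G hyG
    rcases six hev hprim hdx hdy with h | h
    · exact done h
    · exact ⟨5, le_rfl, h⟩

/-- Restrict to the points moved by `x` or `y`. -/
theorem closure_iso_restrict {m p q : ℕ} (hp : p.Prime) (hq : q.Prime)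
    {x y : Perm (Fin m)} (hx : orderOf x = p) (hy : orderOf y = q) (hxs : Perm.sign x = 1) (hys : Perm.sign y = 1)
    (hp3 : 3 ≤ p) (hpq : p < q) (_hmq : m < 2 * q) (hm2 : m ≤ 2 * p)
    (hdbl : q + 3 ≤ 2 * p ∨ m < 2 * p ∨ (p = 3 ∧ q = 5))
    (hgap : p = 3 ∨ p + 4 ≤ q ∨ (p = 5 ∧ q = 7) ∨ (p = 11 ∧ q = 13)) :
    ∃ n, 5 ≤ n ∧ Nonempty (Subgroup.closure ({x, y} : Set (Perm (Fin m))) ≃* alternatingGroup (Fin n)) := by
  classical
  set S : Finset (Fin m) := x.support ∪ y.support with hS
  have hmemS : ∀ c, c ∈ S ↔ x c ≠ c ∨ y c ≠ c := fun c => by simp [hS]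
  let ψ : Perm (Fin S.card) →* Perm (Fin m) :=
    (Perm.ofSubtype : Perm S →* Perm (Fin m)).comp S.equivFin.symm.permCongrHom.toMonoidHom
  have hψ : Function.Injective ψ := Perm.ofSubtype_injective.comp (MulEquiv.injective _)
  have hrange : ∀ z : Perm (Fin m), z.support ⊆ S → ∃ z', ψ z' = z := by
    intro z hz
    obtain ⟨w, hw⟩ : z ∈ (Perm.ofSubtype : Perm S →* Perm (Fin m)).range := by
      rw [Perm.mem_range_ofSubtype_iff]
      intro c hc
      exact hz hc
    refine ⟨S.equivFin.symm.permCongrHom.symm w, ?_⟩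
    show Perm.ofSubtype (S.equivFin.symm.permCongrHom (S.equivFin.symm.permCongrHom.symm w)) = z
    rw [MulEquiv.apply_symm_apply, hw]
  obtain ⟨x', hx'⟩ := hrange x Finset.subset_union_left
  obtain ⟨y', hy'⟩ := hrange y Finset.subset_union_right
  have hval : ∀ (z : Perm (Fin S.card)) (i : Fin S.card),
      ψ z (S.equivFin.symm i) = S.equivFin.symm (z i) := by
    intro z i
    simp [ψ, Perm.ofSubtype_apply_of_mem]
  have hsign : ∀ z, Perm.sign (ψ z) = Perm.sign z := fun z => by
    simp [ψ, Perm.sign_ofSubtype]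
  obtain ⟨n, hn, ⟨e⟩⟩ := closure_iso hp hq (x := x') (y := y')
    (by rw [← hx, ← hx', orderOf_injective ψ hψ]) (by rw [← hy, ← hy', orderOf_injective ψ hψ])
    (by rw [← hsign, hx']; exact hxs) (by rw [← hsign, hy']; exact hys)
    (fun i => by
      have := (hmemS _).mp (S.equivFin.symm i).2
      rw [← hx', ← hy', hval, hval] at this
      refine this.imp ?_ ?_ <;> exact fun h h' => h (by rw [h']))
    hp3 hpq
    (by have := (Finset.card_le_univ S).trans_eq (Fintype.card_fin m); omega)
    (by have := (Finset.card_le_univ S).trans_eq (Fintype.card_fin m); omega)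
    (by have := (Finset.card_le_univ S).trans_eq (Fintype.card_fin m); omega)
    hgap
  refine ⟨n, hn, ⟨(MulEquiv.subgroupCongr ?_).trans
    (((Subgroup.closure ({x', y'} : Set (Perm (Fin S.card)))).equivMapOfInjective ψ hψ).symm.trans e)⟩⟩
  rw [MonoidHom.map_closure, Set.image_pair, hx', hy']

theorem choose_primes {m : ℕ} (hm : 5 ≤ m) : ∃ p q : ℕ, p.Prime ∧ q.Prime ∧ 3 ≤ p ∧ p < q ∧
    q ≤ m ∧ m ≤ 2 * p ∧ m < 2 * q ∧ (q + 3 ≤ 2 * p ∨ m < 2 * p ∨ (p = 3 ∧ q = 5)) ∧
    (p = 3 ∨ p + 4 ≤ q ∨ (p = 5 ∧ q = 7) ∨ (p = 11 ∧ q = 13)) := by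
  by_cases h17 : 17 ≤ m
  · obtain ⟨p, q, hp, hq, h1, h2, h3⟩ := CfsgLib.NumberTheory.exists_two_primes h17
    exact ⟨p, q, hp, hq, by omega, by omega, h3, by omega, by omega, by omega, by omega⟩
  by_cases h7 : m < 7
  · exact ⟨3, 5, by norm_num, by norm_num, by omega, by omega, by omega, by omega, by omega, by omega,
      by omega⟩
  by_cases h11 : m < 11
  · exact ⟨5, 7, by norm_num, by norm_num, by omega, by omega, by omega, by omega, by omega, by omega,
      by omega⟩
  by_cases h15 : m < 15
  · exact ⟨7, 11, by norm_num, by norm_num, by omega, by omega, by omega, by omega, by omega, by omega,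
      by omega⟩
  exact ⟨11, 13, by norm_num, by norm_num, by omega, by omega, by omega, by omega, by omega, by omega,
    by omega⟩

theorem result (m : ℕ) (hm : 5 ≤ m) :
    ∃ p q : ℕ, p.Prime ∧ q.Prime ∧ m ≤ 2 * p ∧ p < q ∧ q ≤ m ∧
      ∀ x y : alternatingGroup (Fin m), orderOf x = p → orderOf y = q →
        ∃ d : ℕ, 5 ≤ d ∧ Nonempty (Subgroup.closure ({x, y} : Set (alternatingGroup (Fin m))) ≃* alternatingGroup (Fin d)) := by
  obtain ⟨p, q, hp, hq, hp3, hpq, hqm, hm2, hmq, hdbl, hgap⟩ := choose_primes hm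
  refine ⟨p, q, hp, hq, hm2, hpq, hqm, fun x y hx hy => ?_⟩
  obtain ⟨n, hn, ⟨e⟩⟩ := closure_iso_restrict hp hq (x := (x : Perm (Fin m))) (y := (y : Perm (Fin m)))
    ((Subgroup.orderOf_coe x).trans hx) ((Subgroup.orderOf_coe y).trans hy)
    x.2 y.2 hp3 hpq hmq hm2 hdbl hgap
  refine ⟨n, hn, ⟨(((Subgroup.closure ({x, y} : Set (alternatingGroup (Fin m)))).equivMapOfInjective
    (alternatingGroup (Fin m)).subtype (Subgroup.subtype_injective _)).trans
      (MulEquiv.subgroupCongr ?_)).trans e⟩⟩
  rw [MonoidHom.map_closure, Set.image_pair]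
  rfl

end Cfsg.Agent.S4150
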