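import Cfsg.Statements.S4151
import Cfsg.Agent.Lib.Coprime.Action
import Cfsg.Agent.Lib.Coprime.Generation
import Cfsg.Agent.Lib.Coprime.NoncyclicAbelian

set_option autoImplicit false
open Cfsg

namespace Cfsg.Agent.S4151

open Cfsg.Agent CfsgLib.Coprime
open scoped commutatorElement Pointwise

variable {G : Type*} [Group G] [Finite G]

theorem zpowers_eq_of_orderOf_eq {S : Type*} [Group S] [Finite S] [IsCyclic S] {a b : S} {p : ℕ}
    [hp : Fact p.Prime] (ha : orderOf a = p) (hb : orderOf b = p) :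
    Subgroup.zpowers a = Subgroup.zpowers b := by
  letI := IsCyclic.commGroup (α := S)
  have h : ∀ x : S, orderOf x = p → Subgroup.zpowers x = (powMonoidHom p : S →* S).ker := by
    intro x hx
    refine Subgroup.eq_of_le_of_card_ge (Subgroup.zpowers_le.mpr ?_) ?_
    · rw [MonoidHom.mem_ker, powMonoidHom_apply, ← hx, pow_orderOf_eq_one]
    · rw [Nat.card_zpowers, hx, IsCyclic.card_powMonoidHom_ker]
      exact Nat.le_of_dvd hp.out.pos (Nat.gcd_dvd_right _ _)
  rw [h a ha, h b hb]

theorem left_le_normalizer_commutator (H Q : Subgroup G) :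
    H ≤ Subgroup.normalizer ((⁅H, Q⁆ : Subgroup G) : Set G) := by
  have key : ∀ h ∈ H, ∀ x ∈ ⁅H, Q⁆, h * x * h⁻¹ ∈ ⁅H, Q⁆ := by
    intro h hh x hx
    suffices ⁅H, Q⁆ ≤ ⁅H, Q⁆.comap (MulAut.conj h).toMonoidHom from this hx
    rw [Subgroup.commutator_le]
    intro k hk q hq
    show h * ⁅k, q⁆ * h⁻¹ ∈ ⁅H, Q⁆
    rw [show h * ⁅k, q⁆ * h⁻¹ = ⁅h * k, q⁆ * ⁅h, q⁆⁻¹ by simp only [commutatorElement_def]; group]
    exact mul_mem (Subgroup.commutator_mem_commutator (mul_mem hh hk) hq)
      (inv_mem (Subgroup.commutator_mem_commutator hh hq))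
  intro h hh
  refine Subgroup.mem_normalizer_iff.mpr fun x => ⟨key h hh x, fun hx => ?_⟩
  simpa [mul_assoc] using key h⁻¹ (inv_mem hh) _ hx

/-- A TI subgroup that is a Hall subgroup of its normalizer is a Hall subgroup. -/
theorem coprime_index {H : Subgroup G} (hTI : Cfsg.IsTISubset (H : Set G))
    (hHall : (Nat.card H).Coprime (H.subgroupOf (Subgroup.normalizer (H : Set G))).index) :
    (Nat.card H).Coprime H.index := by
  refine Nat.coprime_of_dvd fun p hp hpH hpi => ?_
  haveI := Fact.mk hp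
  set N := Subgroup.normalizer (H : Set G)
  have hHN : H ≤ N := Subgroup.le_normalizer
  obtain ⟨P⟩ : Nonempty (Sylow p H) := inferInstance
  set P' := (P : Subgroup H).map H.subtype with hP'
  have hP'H : P' ≤ H := Subgroup.map_subtype_le _
  have hP'p : IsPGroup p P' := P.2.map _
  have hcP : Nat.card P' = p ^ (Nat.card H).factorization p := by
    rw [hP', Subgroup.card_map_of_injective H.subtype_injective, P.card_eq_multiplicity]
  have hP'1 : ∃ z ∈ P', z ≠ 1 := by
    by_contra h
    push Not at h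
    have h1 : P' = ⊥ := (Subgroup.eq_bot_iff_forall _).mpr h
    rw [h1, Subgroup.card_bot] at hcP
    exact (one_lt_pow₀ hp.one_lt (hp.factorization_pos_of_dvd Nat.card_pos.ne' hpH).ne').ne hcP
  obtain ⟨S, hS⟩ := not_dvd_relIndex_of_normalizer (K := ⊤) le_top hP'p
    (fun Q hQp hPQ _ hQN => by
      have hQH : Q ≤ N := by
        intro g hg
        by_contra hgN
        obtain ⟨z, hz, hz1⟩ := hP'1
        exact hz1 (hTI g hgN z (hP'H hz) (hP'H ((Subgroup.mem_normalizer_iff.mp (hQN hg) z).mp hz)))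
      obtain ⟨j, hj⟩ := IsPGroup.iff_card.mp hQp
      have h1 : p ^ j ∣ Nat.card N := hj ▸ Subgroup.card_dvd_of_le hQH
      have h2 : Nat.card N = Nat.card H * (H.subgroupOf N).index := by
        rw [← (H.subgroupOf N).card_mul_index, Nat.card_congr (Subgroup.subgroupOfEquivOfLe hHN).toEquiv]
      rw [h2] at h1
      have h3 : (p ^ j).Coprime (H.subgroupOf N).index :=
        (Nat.Coprime.coprime_dvd_left hpH hHall).pow_left j
      have h4 := (hp.pow_dvd_iff_le_factorization Nat.card_pos.ne').mp (h3.dvd_of_dvd_mul_right h1)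
      refine (Subgroup.eq_of_le_of_card_ge hPQ ?_).symm
      rw [hj, hcP]
      exact Nat.pow_le_pow_right hp.pos h4)
  have h1 : Nat.card (S : Subgroup (⊤ : Subgroup G)) = p ^ (Nat.card H).factorization p := by
    rw [← hcP, ← hS, Subgroup.card_map_of_injective (Subgroup.subtype_injective _)]
  rw [S.card_eq_multiplicity, Subgroup.card_top] at h1
  have h2 := Nat.pow_right_injective hp.two_le h1
  rw [← H.card_mul_index, Nat.factorization_mul Nat.card_pos.ne' H.index_ne_zero_of_finite] at h2
  have := hp.factorization_pos_of_dvd H.index_ne_zero_of_finite hpi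
  simp only [Finsupp.coe_add, Pi.add_apply] at h2
  omega

/-- There is a normal subgroup `O` of order coprime to `|H|` with `O N(H) = G`. -/
theorem exists_core {H : Subgroup G} (hTI : Cfsg.IsTISubset (H : Set G)) (hH1 : H ≠ ⊥)
    (hcop : (Nat.card H).Coprime H.index)
    (hsep : ∃ (n : ℕ) (M : Fin (n + 1) → Subgroup G), M 0 = ⊥ ∧ M (Fin.last n) = ⊤ ∧ Monotone M ∧
      (∀ i, (M i).Normal) ∧
      ∀ i : Fin n, (∀ q : ℕ, q.Prime → q ∣ (M i.castSucc).relIndex (M i.succ) → q ∣ Nat.card H) ∨
        ((M i.castSucc).relIndex (M i.succ)).Coprime (Nat.card H)) :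
    ∃ O : Subgroup G, O.Normal ∧ (Nat.card O).Coprime (Nat.card H) ∧
      O ⊔ Subgroup.normalizer (H : Set G) = ⊤ := by
  obtain ⟨n, M, hM0, hMn, hmono, hnorm, hstep⟩ := hsep
  have hlast : ¬ (Nat.card (M (Fin.last n))).Coprime (Nat.card H) := by
    rw [hMn, Subgroup.card_top]
    intro h
    exact hH1 (Subgroup.eq_bot_of_card_eq _
      (Nat.eq_one_of_dvd_coprimes h H.card_subgroup_dvd_card dvd_rfl))
  obtain ⟨j, hj0, hj1⟩ : ∃ j : Fin n, (Nat.card (M j.castSucc)).Coprime (Nat.card H) ∧
      ¬ (Nat.card (M j.succ)).Coprime (Nat.card H) := by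
    by_contra hne
    push Not at hne
    have hall : ∀ i : Fin (n + 1), (Nat.card (M i)).Coprime (Nat.card H) := by
      intro i
      induction i using Fin.induction with
      | zero => rw [hM0, Subgroup.card_bot]; exact Nat.coprime_one_left _
      | succ k hk => exact hne k hk
    exact hlast (hall _)
  set O := M j.castSucc
  set L := M j.succ
  haveI hOn : O.Normal := hnorm _
  haveI hLn : L.Normal := hnorm _
  have hOL : O ≤ L := hmono (le_of_lt (Fin.castSucc_lt_succ))
  refine ⟨O, hOn, hj0, ?_⟩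
  have hLcard : Nat.card L = Nat.card O * O.relIndex L := by
    have := Subgroup.relIndex_mul_relIndex ⊥ O L bot_le hOL
    simpa only [Subgroup.relIndex_bot_left] using this.symm
  have hstep' : ∀ q : ℕ, q.Prime → q ∣ O.relIndex L → q ∣ Nat.card H := by
    rcases hstep j with h | h
    · exact h
    · exact absurd (hLcard ▸ hj0.mul_left h) hj1
  -- `H ⊓ L` is a Hall part of `L`
  have hsupdvd : Nat.card ↥(L ⊔ H) ∣ Nat.card H * H.index := by
    rw [H.card_mul_index]; exact (L ⊔ H).card_subgroup_dvd_card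
  have hLi : Nat.card L ∣ Nat.card ↥(L ⊓ H) * H.index := by
    have h := card_sup_mul_card_inf (show H ≤ Subgroup.normalizer (L : Set G) from
      Subgroup.normalizer_eq_top (H := L) ▸ le_top)
    have h2 := Nat.mul_dvd_mul_right hsupdvd (Nat.card ↥(L ⊓ H))
    rw [h, mul_assoc, mul_comm (Nat.card L)] at h2
    rw [mul_comm _ H.index]
    exact Nat.dvd_of_mul_dvd_mul_left Nat.card_pos h2
  have hr : O.relIndex L ∣ Nat.card ↥(L ⊓ H) := by
    refine Nat.Coprime.dvd_of_dvd_mul_right ?_ ((Dvd.intro_left _ hLcard.symm).trans hLi)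
    refine Nat.coprime_of_dvd fun q hq hq1 hq2 => ?_
    exact hq.one_lt.ne' (Nat.eq_one_of_dvd_coprimes hcop (hstep' q hq hq1) hq2)
  have hdisj : O ⊓ (L ⊓ H) = ⊥ :=
    inf_eq_bot_of_coprime_card (hj0.coprime_dvd_right (Subgroup.card_dvd_of_le inf_le_right))
  have hL : O ⊔ (L ⊓ H) = L := by
    refine Subgroup.eq_of_le_of_card_ge (sup_le hOL inf_le_left) ?_
    rw [card_sup_of_normalizer (Subgroup.normalizer_eq_top (H := O) ▸ le_top) hdisj, hLcard]
    exact Nat.mul_le_mul_left _ (Nat.le_of_dvd Nat.card_pos hr)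
  obtain ⟨p, hp, hpr⟩ := Nat.exists_prime_and_dvd (show O.relIndex L ≠ 1 from fun h =>
    hj1 (by rw [hLcard, h, mul_one]; exact hj0))
  haveI := Fact.mk hp
  have hpK : p ∣ Nat.card ↥(L ⊓ H) := hpr.trans hr
  obtain ⟨P⟩ : Nonempty (Sylow p ↥(L ⊓ H)) := inferInstance
  set P' := (P : Subgroup ↥(L ⊓ H)).map (L ⊓ H).subtype with hP'
  have hP'K : P' ≤ L ⊓ H := Subgroup.map_subtype_le _
  have hcP : Nat.card (P'.subgroupOf L) = p ^ (Nat.card L).factorization p := by
    rw [Nat.card_congr (Subgroup.subgroupOfEquivOfLe (hP'K.trans inf_le_left)).toEquiv, hP',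
      Subgroup.card_map_of_injective (Subgroup.subtype_injective _), P.card_eq_multiplicity]
    congr 1
    conv_rhs => rw [← hL, card_sup_of_normalizer (Subgroup.normalizer_eq_top (H := O) ▸ le_top) hdisj,
      Nat.factorization_mul Nat.card_pos.ne' Nat.card_pos.ne']
    simp only [Finsupp.coe_add, Pi.add_apply]
    rw [Nat.factorization_eq_zero_of_not_dvd (n := Nat.card O), zero_add]
    exact fun h => hp.one_lt.ne' (Nat.eq_one_of_dvd_coprimes
      (hj0.coprime_dvd_right (Subgroup.card_dvd_of_le inf_le_right)) h hpK)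
  have hfr := Sylow.normalizer_sup_eq_top (Sylow.ofCard _ hcP)
  rw [Sylow.coe_ofCard, Subgroup.map_subgroupOf_eq_of_le (hP'K.trans inf_le_left)] at hfr
  obtain ⟨z, hz, hz1⟩ : ∃ z ∈ P', z ≠ 1 := by
    by_contra h
    push Not at h
    have h1 : P' = ⊥ := (Subgroup.eq_bot_iff_forall _).mpr h
    have h2 : Nat.card P' = p ^ (Nat.card ↥(L ⊓ H)).factorization p := by
      rw [hP', Subgroup.card_map_of_injective (Subgroup.subtype_injective _), P.card_eq_multiplicity]
    rw [h1, Subgroup.card_bot] at h2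
    exact (one_lt_pow₀ hp.one_lt (hp.factorization_pos_of_dvd Nat.card_pos.ne' hpK).ne').ne h2
  have hNP : Subgroup.normalizer (P' : Set G) ≤ Subgroup.normalizer (H : Set G) := by
    intro g hg
    by_contra hgN
    exact hz1 (hTI g hgN z (hP'K hz).2
      (hP'K ((Subgroup.mem_normalizer_iff.mp hg z).mp hz)).2)
  refine top_le_iff.mp (hfr.symm.le.trans (sup_le (hNP.trans le_sup_right) ?_))
  rw [← hL]
  exact sup_le le_sup_left (inf_le_right.trans (Subgroup.le_normalizer.trans le_sup_right))

/-- `H` is a Z-group. -/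
theorem isZGroup {H O : Subgroup G} [O.Normal] (hTI : Cfsg.IsTISubset (H : Set G)) (hnn : ¬ H.Normal)
    (h2 : ∀ P : Sylow 2 H, IsMulCommutative (P : Subgroup H))
    (hcop : (Nat.card O).Coprime (Nat.card H))
    (htop : O ⊔ Subgroup.normalizer (H : Set G) = ⊤) : IsZGroup H := by
  set N := Subgroup.normalizer (H : Set G) with hN
  refine ⟨fun p hp P => by_contra fun hnc => ?_⟩
  haveI := Fact.mk hp
  obtain ⟨A, hA, hAc⟩ : ∃ A : Subgroup (P : Subgroup H), IsMulCommutative A ∧ ¬ IsCyclic A := by
    by_cases hp2 : p = 2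
    · subst hp2
      haveI := h2 P
      exact ⟨⊤, ⟨⟨fun a b => mul_comm' a b⟩⟩, fun h =>
        hnc (isCyclic_of_surjective Subgroup.topEquiv (MulEquiv.surjective _))⟩
    · exact NoncyclicAbelian.exists_noncyclic_abelian hp2 P.2 hnc
  set f := H.subtype.comp (P : Subgroup H).subtype with hf
  have hfi : Function.Injective f :=
    Subtype.val_injective.comp Subtype.val_injective
  set A' := A.map f with hA'
  haveI : IsMulCommutative A' := Subgroup.map_isMulCommutative A f
  have hA'c : ¬ IsCyclic A' := fun h => hAc (isCyclic_of_surjective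
    (Subgroup.equivMapOfInjective A f hfi).symm (MulEquiv.surjective _))
  have hA'H : A' ≤ H := by
    rintro _ ⟨a, -, rfl⟩
    exact (a : H).2
  have hle : O ≤ N := by
    refine le_of_centralizer_le (A := A') hA'c (Subgroup.normalizer_eq_top (H := O) ▸ le_top)
      (hcop.symm.coprime_dvd_left (Subgroup.card_dvd_of_le hA'H)) ?_
    intro g hg hg1 o ho
    by_contra hoN
    have h := Subgroup.mem_centralizer_singleton_iff.mp (Subgroup.mem_inf.mp ho).2
    refine hg1 (hTI o hoN g (hA'H hg) ?_)
    rw [show o * g * o⁻¹ = g by rw [h, mul_assoc, mul_inv_cancel, mul_one]]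
    exact hA'H hg
  rw [sup_eq_right.mpr hle] at htop
  exact hnn (Subgroup.normalizer_eq_top_iff.mp htop)

/-- A conjugation-invariant map to an abelian group kills commutators with the acting group. -/
theorem hom_eq_one_of_mem {Q M : Subgroup G} {B : Type*} [Group B] (τ : M →* B)
    (hMQ : ⁅M, Q⁆ = M) (hQM : Q ≤ Subgroup.normalizer (M : Set G))
    (h : ∀ q ∈ Q, ∀ m : M, ∀ hm : q * (m : G) * q⁻¹ ∈ M, τ ⟨q * m * q⁻¹, hm⟩ = τ m) (m : M) :
    τ m = 1 := by
  have hle : ⁅M, Q⁆ ≤ τ.ker.map M.subtype := by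
    rw [Subgroup.commutator_le]
    intro a ha q hq
    have hm : q * (a⁻¹ : G) * q⁻¹ ∈ M :=
      (Subgroup.mem_normalizer_iff.mp (hQM hq) _).mp (inv_mem ha)
    refine ⟨⟨a, ha⟩ * ⟨q * (a⁻¹ : G) * q⁻¹, hm⟩, ?_, ?_⟩
    · rw [SetLike.mem_coe, MonoidHom.mem_ker, map_mul,
        show τ ⟨q * (a⁻¹ : G) * q⁻¹, hm⟩ = τ (⟨a, ha⟩⁻¹) from h q hq (⟨a, ha⟩⁻¹) hm, map_inv,
        mul_inv_cancel]
    · simp [commutatorElement_def, mul_assoc]
  rw [hMQ] at hle
  obtain ⟨m', hm', he⟩ := hle m.2
  rw [← Subtype.ext he]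
  exact hm'

/-- In a Z-group `H`, `C_H(Q)` and `[H, Q]` have coprime orders. -/
theorem coprime_commutator {H Q : Subgroup G} [IsZGroup H]
    (hQH : Q ≤ Subgroup.normalizer (H : Set G)) (hcop : (Nat.card Q).Coprime (Nat.card H)) :
    (Nat.card ↥(H ⊓ Subgroup.centralizer (Q : Set G))).Coprime (Nat.card ↥⁅H, Q⁆) := by
  set C := H ⊓ Subgroup.centralizer (Q : Set G) with hC
  set M := ⁅H, Q⁆ with hM
  have hMH : M ≤ H := commutator_le_left_of_le_normalizer hQH
  have hMQ : ⁅M, Q⁆ = M := commutator_commutator_eq hQH hcop (Or.inr inferInstance)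
  have hQM : Q ≤ Subgroup.normalizer (M : Set G) := le_normalizer_commutator hQH Subgroup.le_normalizer
  haveI : IsZGroup M :=
    IsZGroup.of_injective (f := Subgroup.inclusion hMH) (Subgroup.inclusion_injective hMH)
  let conjM : Q →* MulAut M := (MulAut.congr (MulEquiv.refl M)).toMonoidHom.comp
    { toFun := fun q =>
        { toFun := fun m => ⟨(q : G) * m * (q : G)⁻¹,
            (Subgroup.mem_normalizer_iff.mp (hQM q.2) _).mp m.2⟩
          invFun := fun m => ⟨(q : G)⁻¹ * m * q, by
            have := (Subgroup.mem_normalizer_iff.mp (hQM (inv_mem q.2)) _).mp m.2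
            rwa [inv_inv] at this⟩
          left_inv := fun m => Subtype.ext (by simp [mul_assoc])
          right_inv := fun m => Subtype.ext (by simp [mul_assoc])
          map_mul' := fun a b => Subtype.ext (by simp [mul_assoc]) }
      map_one' := by ext m; simp
      map_mul' := fun a b => by ext m; simp [mul_assoc] }
  have hconj : ∀ (q : Q) (m : M), ((conjM q m : M) : G) = (q : G) * m * (q : G)⁻¹ := fun q m => rfl
  refine Nat.coprime_of_dvd fun p hp hpC hpM => ?_
  haveI := Fact.mk hp
  obtain ⟨c, hc⟩ := exists_prime_orderOf_dvd_card' p hpC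
  obtain ⟨e, he⟩ := exists_prime_orderOf_dvd_card' p hpM
  -- all subgroups of order `p` of `H` are conjugate, so `c ∈ M`
  have hcM : (c : G) ∈ M := by
    have hzp : ∀ x : H, orderOf x = p → ∃ (S : Sylow p H), Subgroup.zpowers x ≤ (S : Subgroup H) :=
      fun x hx => IsPGroup.exists_le_sylow
        (IsPGroup.of_card (n := 1) (by rw [Nat.card_zpowers, hx, pow_one]))
    have hcH : orderOf (⟨c, c.2.1⟩ : H) = p := by rw [← Subgroup.orderOf_coe, ← hc, ← Subgroup.orderOf_coe]
    have heH : orderOf (⟨e, hMH e.2⟩ : H) = p := by rw [← Subgroup.orderOf_coe, ← he, ← Subgroup.orderOf_coe]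
    obtain ⟨S, hS⟩ := hzp _ hcH
    obtain ⟨T, hT⟩ := hzp _ heH
    obtain ⟨g, hg⟩ := MulAction.exists_smul_eq H T S
    have hgH : MulAut.conj g ⟨e, hMH e.2⟩ ∈ (S : Subgroup H) := by
      rw [← hg]
      exact Subgroup.mem_map_of_mem _ (hT (Subgroup.mem_zpowers _))
    haveI : IsCyclic (S : Subgroup H) := inferInstance
    set a : (S : Subgroup H) := ⟨_, hgH⟩
    set b : (S : Subgroup H) := ⟨_, hS (Subgroup.mem_zpowers _)⟩
    have hoa : orderOf a = p := by rw [← Subgroup.orderOf_coe, MulEquiv.orderOf_eq, heH]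
    have hob : orderOf b = p := by rw [← Subgroup.orderOf_coe, hcH]
    have hab : Subgroup.zpowers a = Subgroup.zpowers b :=
      zpowers_eq_of_orderOf_eq hoa hob
    obtain ⟨k, hk⟩ := Subgroup.mem_zpowers_iff.mp (hab ▸ Subgroup.mem_zpowers b)
    have hk' : (c : G) = ((g : G) * e * (g : G)⁻¹) ^ k := by
      have h := congrArg (fun u : (S : Subgroup H) => ((u : H) : G)) hk
      simpa [a, b] using h.symm
    rw [hk']
    refine zpow_mem ?_ k
    exact (Subgroup.mem_normalizer_iff.mp
      ((left_le_normalizer_commutator H Q) g.2) _).mp e.2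
  set cM : M := ⟨c, hcM⟩ with hcMdef
  have hocM : orderOf cM = p := by rw [← Subgroup.orderOf_coe, ← hc, ← Subgroup.orderOf_coe]
  -- `c ∈ M'`
  have hc' : cM ∈ commutator M := by
    classical
    haveI : Fintype Q := Fintype.ofFinite Q
    let τ : M →* Abelianization M :=
      { toFun := fun m => ∏ q : Q, Abelianization.of (conjM q m)
        map_one' := by simp
        map_mul' := fun a b => by simp [Finset.prod_mul_distrib] }
    have hτ : τ cM = 1 := by
      refine hom_eq_one_of_mem τ hMQ hQM (fun q hq m hm => ?_) cM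
      show ∏ r : Q, Abelianization.of (conjM r _) = ∏ r : Q, Abelianization.of (conjM r m)
      refine Fintype.prod_equiv (Equiv.mulRight (⟨q, hq⟩ : Q)) _ _ fun r => ?_
      congr 1
      apply Subtype.ext
      simp [hconj, mul_assoc]
    have hfix : ∀ q : Q, conjM q cM = cM := fun q => Subtype.ext (by
      rw [hconj]
      show (q : G) * c * (q : G)⁻¹ = c
      rw [c.2.2 q q.2, mul_assoc, mul_inv_cancel, mul_one])
    have hτ2 : (Abelianization.of cM) ^ Nat.card Q = 1 := by
      rw [← hτ]
      show _ = ∏ r : Q, Abelianization.of (conjM r cM)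
      simp [hfix, Nat.card_eq_fintype_card]
    have ho1 : orderOf (Abelianization.of cM) ∣ p := hocM ▸ orderOf_map_dvd _ cM
    have ho2 := orderOf_dvd_of_pow_eq_one hτ2
    have hpQ : p.Coprime (Nat.card Q) := (hcop.coprime_dvd_right
      (hpC.trans (Subgroup.card_dvd_of_le inf_le_left))).symm
    have h1 := Nat.eq_one_of_dvd_coprimes hpQ ho1 ho2
    rw [orderOf_eq_one_iff] at h1
    rwa [← Abelianization.ker_of M, MonoidHom.mem_ker]
  -- a Sylow subgroup of `M` is normal, central and inside `M'`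
  obtain ⟨R⟩ : Nonempty (Sylow p (commutator M)) := inferInstance
  haveI := IsZGroup.isCyclic_commutator M
  letI := IsCyclic.commGroup (α := commutator M)
  haveI : (R : Subgroup (commutator M)).Normal := inferInstance
  haveI : (R : Subgroup (commutator M)).Characteristic := R.characteristic_of_normal inferInstance
  set P := (R : Subgroup (commutator M)).map (commutator M).subtype with hP
  haveI : P.Normal := ConjAct.normal_of_characteristic_of_normal
  have hpc : p ∣ Nat.card (commutator M) := by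
    rw [← hocM, ← Subgroup.orderOf_mk cM hc']
    exact orderOf_dvd_natCard _
  have hpi : ¬ p ∣ (commutator M).index := fun h =>
    hp.one_lt.ne' (Nat.eq_one_of_dvd_coprimes (IsZGroup.coprime_commutator_index M) hpc h)
  have hcP : Nat.card P = p ^ (Nat.card M).factorization p := by
    rw [hP, Subgroup.card_map_of_injective (Subgroup.subtype_injective _), R.card_eq_multiplicity,
      ← (commutator M).card_mul_index, Nat.factorization_mul Nat.card_pos.ne'
        Subgroup.index_ne_zero_of_finite]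
    simp [Nat.factorization_eq_zero_of_not_dvd hpi]
  set S := Sylow.ofCard P hcP with hS
  have hSP : (S : Subgroup M) = P := Sylow.coe_ofCard _ _
  haveI : (S : Subgroup M).Normal := hSP ▸ inferInstance
  haveI hScyc : IsCyclic (S : Subgroup M) := inferInstance
  -- `M` centralizes `S`
  let φ : M →* MulAut (S : Subgroup M) := MulAut.conjNormal
  have hφ : ∀ m : M, φ m = 1 := by
    refine hom_eq_one_of_mem φ hMQ hQM (fun q hq m hm => ?_)
    -- conjugation by `q` preserves `S`
    have hqS : ∀ s : M, s ∈ (S : Subgroup M) → conjM ⟨q, hq⟩ s ∈ (S : Subgroup M) := by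
      intro s hs
      haveI : (S : Subgroup M).Characteristic := S.characteristic_of_normal inferInstance
      have := Subgroup.mem_map_of_mem (conjM ⟨q, hq⟩).toMonoidHom hs
      rwa [Subgroup.characteristic_iff_map_eq.mp inferInstance (conjM ⟨q, hq⟩)] at this
    obtain ⟨s₀, hs₀⟩ := IsCyclic.exists_generator (α := (S : Subgroup M))
    obtain ⟨a, ha⟩ := Subgroup.mem_zpowers_iff.mp (hs₀ ((φ m) s₀))
    have hall : ∀ s : (S : Subgroup M), φ m s = s ^ a := by
      intro s
      obtain ⟨b, rfl⟩ := Subgroup.mem_zpowers_iff.mp (hs₀ s)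
      rw [map_zpow, ← ha, ← zpow_mul, ← zpow_mul, mul_comm]
    ext s
    -- write `s` as a conjugate by `q`
    set s' : (S : Subgroup M) := ⟨conjM ⟨q, hq⟩⁻¹ s, by
      have := hqS
      haveI : (S : Subgroup M).Characteristic := S.characteristic_of_normal inferInstance
      have h' := Subgroup.mem_map_of_mem (conjM (⟨q, hq⟩ : Q)⁻¹).toMonoidHom s.2
      rwa [Subgroup.characteristic_iff_map_eq.mp inferInstance (conjM (⟨q, hq⟩ : Q)⁻¹)] at h'⟩
      with hs'
    have hss : conjM ⟨q, hq⟩ (s' : M) = s := by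
      show conjM ⟨q, hq⟩ (conjM ⟨q, hq⟩⁻¹ (s : M)) = s
      rw [← MulAut.mul_apply, ← map_mul, mul_inv_cancel, map_one, MulAut.one_apply]
    rw [hall s]
    have hq' : (⟨q * (m : G) * q⁻¹, hm⟩ : M) = conjM ⟨q, hq⟩ m := Subtype.ext (hconj ⟨q, hq⟩ m).symm
    have h3 := congrArg (fun u : (S : Subgroup M) => conjM ⟨q, hq⟩ (u : M)) (hall s')
    simp only [φ, MulAut.conjNormal_apply, SubgroupClass.coe_zpow, map_zpow, map_mul, map_inv,
      hss] at h3
    simp only [φ, MulAut.conjNormal_apply, SubgroupClass.coe_zpow, hq']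
    exact congrArg Subtype.val h3
  have hcentS : (S : Subgroup M) ≤ Subgroup.center M := by
    intro s hs
    rw [Subgroup.mem_center_iff]
    intro m
    have := congrArg (fun f : MulAut (S : Subgroup M) => ((f ⟨s, hs⟩ : (S : Subgroup M)) : M)) (hφ m)
    simp only [φ, MulAut.conjNormal_apply, MulAut.one_apply] at this
    exact mul_inv_eq_iff_eq_mul.mp this
  have hNC : Subgroup.normalizer ((S : Subgroup M) : Set M) ≤
      Subgroup.centralizer ((S : Subgroup M) : Set M) := fun g _ s hs =>
    (Subgroup.mem_center_iff.mp (hcentS hs) g).symm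
  have hker : commutator M ≤ (MonoidHom.transferSylow S hNC).ker := by
    haveI : IsMulCommutative (S : Subgroup M) :=
      ⟨⟨fun a b => Subtype.ext (hNC (Subgroup.le_normalizer b.2) a a.2)⟩⟩
    rw [commutator_eq_closure, Subgroup.closure_le]
    rintro _ ⟨a, b, rfl⟩
    rw [SetLike.mem_coe, MonoidHom.mem_ker, map_commutatorElement, commutatorElement_eq_one_iff_mul_comm]
    exact mul_comm' _ _
  have hdisj := MonoidHom.ker_transferSylow_disjoint S hNC S S.2
  have hbot : (S : Subgroup M) = ⊥ := hdisj.eq_bot_of_ge (le_trans (by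
    rw [hSP]; exact Subgroup.map_subtype_le _) hker)
  have h1 : Nat.card P = 1 := by rw [← hSP, hbot, Subgroup.card_bot]
  rw [hcP] at h1
  exact (one_lt_pow₀ hp.one_lt (hp.factorization_pos_of_dvd Nat.card_pos.ne' hpM).ne').ne' h1


/-- Let G be a finite group and H a non-normal subgroup meeting each of its conjugates by elements outside N_G(H) trivially, with the order of H coprime to its index in N_G(H), such that G is π-separable for π the set of primes dividing the order of H (G has a chain of normal subgroups from 1 to G each of whose factors has order divisible only by primes dividing the order of H or coprime to it). Suppose a Sylow 2-subgroup of H is abelian and Q is a complement of H in N_G(H). Then C_H(Q), the subgroup of elements of H commuting with Q, has order coprime to its index in G and has a normal complement in G. -/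
theorem result {G : Type*} [Group G] [Finite G] (H : Subgroup G)
    (hTI : Cfsg.IsTISubset (H : Set G)) (hnn : ¬ H.Normal)
    (hHall : (Nat.card H).Coprime (H.subgroupOf (Subgroup.normalizer (H : Set G))).index)
    (hsep : ∃ (n : ℕ) (M : Fin (n + 1) → Subgroup G), M 0 = ⊥ ∧ M (Fin.last n) = ⊤ ∧ Monotone M ∧ (∀ i, (M i).Normal) ∧
      ∀ i : Fin n, (∀ q : ℕ, q.Prime → q ∣ (M i.castSucc).relIndex (M i.succ) → q ∣ Nat.card H) ∨
        ((M i.castSucc).relIndex (M i.succ)).Coprime (Nat.card H))
    (h2 : ∀ P : Sylow 2 H, IsMulCommutative (P : Subgroup H))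
    (Q : Subgroup G) (hQ : Q ≤ Subgroup.normalizer (H : Set G)) (hQH : Q ⊓ H = ⊥) (hQH' : Q ⊔ H = Subgroup.normalizer (H : Set G)) :
    (Nat.card ↥(H ⊓ Subgroup.centralizer (Q : Set G))).Coprime (H ⊓ Subgroup.centralizer (Q : Set G)).index ∧
    ∃ N : Subgroup G, N.Normal ∧ N.IsComplement' (H ⊓ Subgroup.centralizer (Q : Set G)) := by
  have hHG := coprime_index hTI hHall
  have hH1 : H ≠ ⊥ := by
    rintro rfl
    exact hnn inferInstance
  obtain ⟨O, hOn, hOH, htop⟩ := exists_core hTI hH1 hHG hsep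
  haveI := hOn
  haveI := isZGroup hTI hnn h2 hOH htop
  set N := Subgroup.normalizer (H : Set G) with hN
  have hHQ : H ⊓ Q = ⊥ := by rw [inf_comm]; exact hQH
  have hQcop : (Nat.card Q).Coprime (Nat.card H) := by
    have hc := card_sup_of_normalizer hQ hHQ
    rw [sup_comm, hQH', ← (H.subgroupOf N).card_mul_index,
      Nat.card_congr (Subgroup.subgroupOfEquivOfLe (Subgroup.le_normalizer (H := H))).toEquiv] at hc
    rw [Nat.eq_of_mul_eq_mul_left Nat.card_pos hc] at hHall
    exact hHall.symm
  set C := H ⊓ Subgroup.centralizer (Q : Set G) with hC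
  set M := ⁅H, Q⁆ with hM
  have hCM : (Nat.card C).Coprime (Nat.card M) := coprime_commutator hQ hQcop
  have hHMC : M ⊔ C = H := commutator_sup_centralizer hQ hQcop (Or.inr inferInstance)
  have hMH : M ≤ H := commutator_le_left_of_le_normalizer hQ
  have hHnM : H ≤ Subgroup.normalizer (M : Set G) := left_le_normalizer_commutator H Q
  have hQnM : Q ≤ Subgroup.normalizer (M : Set G) :=
    le_normalizer_commutator hQ Subgroup.le_normalizer
  have hCnM : C ≤ Subgroup.normalizer (M : Set G) := inf_le_left.trans hHnM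
  have hHcard : Nat.card H = Nat.card M * Nat.card C := by
    rw [← hHMC, card_sup_of_coprime hCnM hCM.symm]
  refine ⟨?_, ?_⟩
  · have hi : C.index = Nat.card M * H.index := by
      refine Nat.eq_of_mul_eq_mul_left (Nat.card_pos : 0 < Nat.card C) ?_
      rw [C.card_mul_index, ← H.card_mul_index, hHcard]
      ring
    rw [hi]
    exact hCM.mul_right (hHG.coprime_dvd_left (Subgroup.card_dvd_of_le inf_le_left))
  set U := M ⊔ Q with hU
  set K := O ⊔ U with hK
  have hUN : U ≤ N := sup_le (hMH.trans Subgroup.le_normalizer) hQ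
  have hOnK : ∀ V : Subgroup G, V ≤ Subgroup.normalizer (O : Set G) := fun V => by
    rw [Subgroup.normalizer_eq_top]; exact le_top
  have hKn : K.Normal := by
    rw [← Subgroup.normalizer_eq_top_iff, eq_top_iff, ← htop, sup_le_iff]
    refine ⟨le_sup_left.trans Subgroup.le_normalizer, ?_⟩
    rw [← hQH', ← hHMC, sup_le_iff, sup_le_iff]
    refine ⟨(le_sup_right.trans le_sup_right).trans Subgroup.le_normalizer,
      (le_sup_left.trans le_sup_right).trans Subgroup.le_normalizer, ?_⟩
    refine le_normalizer_sup_of_le (hOnK C) (le_normalizer_sup_of_le hCnM ?_)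
    exact inf_le_right.trans (Subgroup.centralizer_le_normalizer _)
  haveI := hKn
  have hKdvd : Nat.card K ∣ Nat.card O * (Nat.card M * Nat.card Q) := by
    have h1 : Nat.card ↥(O ⊔ U) ∣ Nat.card O * Nat.card U :=
      card_sup_mul_card_inf (hOnK U) ▸ Dvd.intro _ rfl
    have h2 : Nat.card ↥(M ⊔ Q) ∣ Nat.card M * Nat.card Q :=
      card_sup_mul_card_inf hQnM ▸ Dvd.intro _ rfl
    exact h1.trans (mul_dvd_mul_left _ h2)
  have hcopK : (Nat.card K).Coprime (Nat.card C) := by
    refine Nat.Coprime.coprime_dvd_left hKdvd ?_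
    exact (hOH.coprime_dvd_right (Subgroup.card_dvd_of_le inf_le_left)).mul_left
      (hCM.symm.mul_left (hQcop.coprime_dvd_right (Subgroup.card_dvd_of_le inf_le_left)))
  have hKC : K ⊔ C = ⊤ := by
    rw [eq_top_iff, ← htop, ← hQH', ← hHMC]
    refine sup_le (le_sup_left.trans le_sup_left) (sup_le ?_ (sup_le ?_ le_sup_right))
    · exact (le_sup_right.trans le_sup_right).trans le_sup_left
    · exact (le_sup_left.trans le_sup_right).trans le_sup_left
  refine ⟨K, hKn, Subgroup.isComplement'_of_disjoint_and_mul_eq_univ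
    (disjoint_iff.mpr (inf_eq_bot_of_coprime_card hcopK)) ?_⟩
  rw [← Subgroup.normal_mul, hKC, Subgroup.coe_top]

end Cfsg.Agent.S4151
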