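import Cfsg.Statements.S4153
import Mathlib
-- import your own Cfsg.Agent.* helpers here

set_option autoImplicit false
open Cfsg

namespace Cfsg.Agent.S4153

/-- Let G be a finite group, p a prime, N a normal subgroup, P a Sylow p-subgroup of G and P̄ a Sylow p-subgroup of G/N. Count the elements of p-power order, the identity included. Then (number of such elements of G/N)/#P̄ ≤ (number of such elements of G)/#P, stated as a cross-multiplied inequality, with equality when N is central. -/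
theorem result {G : Type*} [Group G] [Finite G] (p : ℕ) [Fact p.Prime] (N : Subgroup G) [N.Normal]
    (P : Sylow p G) (Pbar : Sylow p (G ⧸ N)) :
    Nat.card {g : (G ⧸ N) // ∃ k : ℕ, orderOf g = p ^ k} * Nat.card (P : Subgroup G) ≤ Nat.card {g : G // ∃ k : ℕ, orderOf g = p ^ k} * Nat.card (Pbar : Subgroup (G ⧸ N)) ∧
    (N ≤ Subgroup.center G → Nat.card {g : (G ⧸ N) // ∃ k : ℕ, orderOf g = p ^ k} * Nat.card (P : Subgroup G) = Nat.card {g : G // ∃ k : ℕ, orderOf g = p ^ k} * Nat.card (Pbar : Subgroup (G ⧸ N))) := by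
  classical
  have : Fintype G := Fintype.ofFinite G
  have : Fintype (G ⧸ N) := Fintype.ofFinite _
  have hp : p.Prime := Fact.out
  let f := QuotientGroup.mk' N
  have hf : Function.Surjective f := QuotientGroup.mk'_surjective N
  -- every Sylow subgroup meets `N` in the same number of elements
  let a := Nat.card ↥((P : Subgroup G) ⊓ N)
  have hcardR : ∀ R : Sylow p G, Nat.card ↥((R : Subgroup G) ⊓ N) * Nat.card (Pbar : Subgroup (G ⧸ N)) =
      Nat.card (P : Subgroup G) := fun R => by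
    rw [P.card_eq_multiplicity, ← R.card_eq_multiplicity, Pbar.card_eq_multiplicity,
      ← (R.mapSurjective hf).card_eq_multiplicity]
    show Nat.card ↥((R : Subgroup G) ⊓ N) * Nat.card ↥((R : Subgroup G).map f) = _
    let g : (R : Subgroup G) →* G ⧸ N := f.comp (R : Subgroup G).subtype
    have h := g.ker.card_mul_index
    rw [Subgroup.index_ker] at h
    rw [show (R : Subgroup G).map f = g.range by rw [MonoidHom.range_comp, Subgroup.range_subtype]]
    have hk : g.ker = ((R : Subgroup G) ⊓ N).subgroupOf R := by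
      ext x
      simp [g, f, Subgroup.mem_subgroupOf]
    rwa [hk, Nat.card_congr (Subgroup.subgroupOfEquivOfLe inf_le_left).toEquiv] at h
  have hb : 0 < Nat.card (Pbar : Subgroup (G ⧸ N)) := Nat.card_pos
  have ha : ∀ R : Sylow p G, Nat.card ↥((R : Subgroup G) ⊓ N) = a := fun R =>
    Nat.eq_of_mul_eq_mul_right hb ((hcardR R).trans (hcardR P).symm)
  let E : Finset G := Finset.univ.filter fun g => ∃ k : ℕ, orderOf g = p ^ k
  let E' : Finset (G ⧸ N) := Finset.univ.filter fun g => ∃ k : ℕ, orderOf g = p ^ k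
  have hlift : ∀ x ∈ E', ∃ R : Sylow p G, ∃ g ∈ (R : Subgroup G), f g = x := by
    intro x hx
    obtain ⟨k, hk⟩ := (Finset.mem_filter.mp hx).2
    obtain ⟨S, hS⟩ := (IsPGroup.of_card (p := p) (n := k) (by rw [Nat.card_zpowers, hk]) :
      IsPGroup p (Subgroup.zpowers x)).exists_le_sylow
    obtain ⟨R, hR⟩ : ∃ R : Sylow p G, R.mapSurjective hf = S := by
      obtain ⟨c, hc⟩ := MulAction.exists_smul_eq (G ⧸ N) (P.mapSurjective hf) S
      obtain ⟨c', rfl⟩ := hf c
      refine ⟨c' • P, ?_⟩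
      rw [← hc]
      refine Sylow.ext ?_
      ext y
      constructor
      · rintro ⟨z, ⟨w, hw, rfl⟩, rfl⟩
        refine ⟨f w, ⟨w, hw, rfl⟩, ?_⟩
        simp [MulAut.conj]
      · rintro ⟨z, ⟨w, hw, rfl⟩, rfl⟩
        exact ⟨c' * w * c'⁻¹, ⟨w, hw, by simp [MulAut.conj]⟩, by simp [MulAut.conj]⟩
    obtain ⟨g, hg, hgx⟩ := (show x ∈ (R.mapSurjective hf : Subgroup (G ⧸ N)) from hR.symm ▸ hS (Subgroup.mem_zpowers x))
    exact ⟨R, g, hg, hgx⟩
  have hEmem : ∀ (R : Sylow p G) g, g ∈ (R : Subgroup G) → g ∈ E := fun R g hg => by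
    obtain ⟨k, hk⟩ := IsPGroup.iff_orderOf.mp R.2 ⟨g, hg⟩
    exact Finset.mem_filter.mpr ⟨Finset.mem_univ _, k, by rwa [Subgroup.orderOf_mk] at hk⟩
  have hfib : ∀ x ∈ E', a ≤ (E.filter fun g => f g = x).card ∧
      (N ≤ Subgroup.center G → (E.filter fun g => f g = x).card = a) := by
    intro x hx
    obtain ⟨R, g, hg, hgx⟩ := hlift x hx
    let T : Finset G := (Finset.univ.filter fun z => z ∈ (R : Subgroup G) ⊓ N).map (Equiv.mulLeft g).toEmbedding
    have hT : T.card = a := by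
      rw [Finset.card_map, ← ha R, Nat.card_eq_fintype_card, Fintype.card_subtype]
    have hsub : T ⊆ E.filter fun g => f g = x := by
      intro y hy
      obtain ⟨z, hz, rfl⟩ := Finset.mem_map.mp hy
      have hz' : z ∈ (R : Subgroup G) ⊓ N := (Finset.mem_filter.mp hz).2
      refine Finset.mem_filter.mpr ⟨hEmem R _ (mul_mem hg hz'.1), ?_⟩
      show f (g * z) = x
      rw [map_mul, show f z = 1 from (QuotientGroup.eq_one_iff z).mpr hz'.2, mul_one, hgx]
    refine ⟨hT ▸ Finset.card_le_card hsub, fun hc => ?_⟩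
    rw [← hT]
    refine congrArg Finset.card (Finset.Subset.antisymm ?_ hsub)
    intro y hy
    obtain ⟨hyE, hyx⟩ := Finset.mem_filter.mp hy
    obtain ⟨k, hk⟩ := (Finset.mem_filter.mp hyE).2
    have hz : g⁻¹ * y ∈ N := (QuotientGroup.eq_one_iff _).mp (show f (g⁻¹ * y) = 1 by rw [map_mul, map_inv, hgx, hyx, inv_mul_cancel])
    have hzc : ∀ w, (g⁻¹ * y) * w = w * (g⁻¹ * y) := fun w => (Subgroup.mem_center_iff.mp (hc hz) w).symm
    obtain ⟨l, hl⟩ := IsPGroup.iff_orderOf.mp R.2 ⟨g, hg⟩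
    rw [Subgroup.orderOf_mk] at hl
    have hzp : (g⁻¹ * y) ^ (p ^ (l + k)) = 1 := by
      have hcg : Commute g (g⁻¹ * y) := (hzc g).symm
      have h1 := hcg.mul_pow (p ^ (l + k))
      rw [mul_inv_cancel_left, orderOf_dvd_iff_pow_eq_one.mp (hk ▸ pow_dvd_pow p (Nat.le_add_left k l)),
        orderOf_dvd_iff_pow_eq_one.mp (hl ▸ pow_dvd_pow p (Nat.le_add_right l k)), one_mul] at h1
      exact h1.symm
    let Z := Subgroup.zpowers (g⁻¹ * y)
    obtain ⟨d, -, hd⟩ := (Nat.dvd_prime_pow hp).mp (orderOf_dvd_of_pow_eq_one hzp)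
    have hZp : IsPGroup p Z := IsPGroup.of_card (n := d) (by rw [Nat.card_zpowers, hd])
    have hZn : Z.Normal := ⟨fun w hw c => by
      obtain ⟨i, rfl⟩ := Subgroup.mem_zpowers_iff.mp hw
      have : Commute c ((g⁻¹ * y) ^ i) := Commute.zpow_right (hzc c).symm i
      rw [this.eq, mul_inv_cancel_right]
      exact hw⟩
    have hzR : g⁻¹ * y ∈ (R : Subgroup G) := IsPGroup.le_sylow_of_normal hZp R (Subgroup.mem_zpowers _)
    exact Finset.mem_map.mpr ⟨g⁻¹ * y, Finset.mem_filter.mpr ⟨Finset.mem_univ _, hzR, hz⟩, by simp⟩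
  have hmaps : ∀ g ∈ E, f g ∈ E' := fun g hg => by
    obtain ⟨k, hk⟩ := (Finset.mem_filter.mp hg).2
    obtain ⟨d, -, hd⟩ := (Nat.dvd_prime_pow hp).mp (hk ▸ orderOf_map_dvd f g)
    exact Finset.mem_filter.mpr ⟨Finset.mem_univ _, d, hd⟩
  have e1 : Nat.card {g : G ⧸ N // ∃ k : ℕ, orderOf g = p ^ k} = E'.card := by
    rw [Nat.card_eq_fintype_card, Fintype.card_subtype]
  have e2 : Nat.card {g : G // ∃ k : ℕ, orderOf g = p ^ k} = E.card := by
    rw [Nat.card_eq_fintype_card, Fintype.card_subtype]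
  rw [e1, e2]
  rw [Finset.card_eq_sum_card_fiberwise (f := f) (s := E) (t := E') hmaps, ← hcardR P,
    ← mul_assoc]
  change E'.card * a * _ ≤ _ ∧ (_ → E'.card * a * _ = _)
  refine ⟨Nat.mul_le_mul_right _ ?_, fun hc => congrArg (· * _) ?_⟩
  · rw [← smul_eq_mul, ← Finset.sum_const]
    exact Finset.sum_le_sum fun x hx => (hfib x hx).1
  · rw [← smul_eq_mul, ← Finset.sum_const]
    exact Finset.sum_congr rfl fun x hx => ((hfib x hx).2 hc).symm

end Cfsg.Agent.S4153
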