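import Cfsg.Statements.S4154
import Mathlib

set_option autoImplicit false
set_option linter.style.haveILetI false
open Cfsg

namespace Cfsg.Agent.S4154

/-- Let G be a finite group and α an automorphism of G such that every element of G is the product of an element fixed by α and an element of the form g⁻¹α(g). If N is a normal α-invariant subgroup, then the automorphism ᾱ induced on G/N has the same property, and every coset fixed by ᾱ contains an element fixed by α (so the fixed points of ᾱ are the images of the fixed points of α). -/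
theorem result {G : Type*} [Group G] [Finite G] (α : MulAut G)
    (hccp : ∀ x : G, ∃ c g : G, α c = c ∧ x = c * (g⁻¹ * α g))
    (N : Subgroup G) [N.Normal] (hN : ∀ n ∈ N, α n ∈ N) :
    (∀ x : G, ∃ c g : G, c⁻¹ * α c ∈ N ∧ x⁻¹ * (c * (g⁻¹ * α g)) ∈ N) ∧
    (∀ x : G, x⁻¹ * α x ∈ N → ∃ c : G, α c = c ∧ c⁻¹ * x ∈ N) := by
  constructor
  · intro x
    obtain ⟨c, g, hc, hx⟩ := hccp x
    exact ⟨c, g, by rw [hc, inv_mul_cancel]; exact N.one_mem, by
      rw [hx, inv_mul_cancel]; exact N.one_mem⟩
  intro x hx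
  set f := QuotientGroup.mk' N
  let C : Subgroup G :=
    { carrier := {a | α a = a}
      one_mem' := map_one α
      mul_mem' := fun {a b} (ha : α a = a) (hb : α b = b) => show α (a * b) = a * b by
        rw [map_mul, ha, hb]
      inv_mem' := fun {a} (ha : α a = a) => show α a⁻¹ = a⁻¹ by rw [map_inv, ha] }
  let D : Subgroup G :=
    { carrier := {a | f (α a) = f a}
      one_mem' := by show f (α 1) = f 1; rw [map_one]
      mul_mem' := fun {a b} (ha : f (α a) = f a) (hb : f (α b) = f b) =>
        show f (α (a * b)) = f (a * b) by rw [map_mul, map_mul, map_mul, ha, hb]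
      inv_mem' := fun {a} (ha : f (α a) = f a) => show f (α a⁻¹) = f a⁻¹ by
        rw [map_inv, map_inv, map_inv, ha] }
  have hND : N ≤ D := fun n hn => show f (α n) = f n by
    rw [show f (α n) = 1 from (QuotientGroup.eq_one_iff _).mpr (hN n hn),
      show f n = 1 from (QuotientGroup.eq_one_iff _).mpr hn]
  have hCD : C.map f ≤ D.map f := Subgroup.map_mono fun a (ha : α a = a) =>
    show f (α a) = f a by rw [ha]
  let ψ : G ⧸ D → G ⧸ N := Quotient.lift (fun a : G => f (a * α a⁻¹))
    (fun a b hab => by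
      have h1 : f (α (a⁻¹ * b)) = f (a⁻¹ * b) := QuotientGroup.leftRel_apply.mp hab
      show f (a * α a⁻¹) = f (b * α b⁻¹)
      rw [show b * α b⁻¹ = a * (a⁻¹ * b) * (α (a⁻¹ * b))⁻¹ * α a⁻¹ by
        rw [map_mul, map_inv, map_inv]; group]
      simp only [map_mul, map_inv] at h1 ⊢
      rw [h1]; group)
  have hsurj : Function.Surjective fun z : (C.map f) × (G ⧸ D) => (z.1 : G ⧸ N) * ψ z.2 := by
    intro y
    obtain ⟨y, rfl⟩ := QuotientGroup.mk'_surjective N y
    obtain ⟨c, g, hc, hy⟩ := hccp y
    refine ⟨(⟨f c, ⟨c, hc, rfl⟩⟩, Quotient.mk _ g⁻¹), ?_⟩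
    show f c * f (g⁻¹ * α g⁻¹⁻¹) = f y
    rw [hy, inv_inv, map_mul f c]
  have h1 : Nat.card (G ⧸ N) ≤ Nat.card (C.map f) * D.index := by
    rw [D.index_eq_card, ← Nat.card_prod]
    exact Nat.card_le_card_of_surjective _ hsurj
  have h2 : (D.map f).index = D.index :=
    Subgroup.index_map_eq D (QuotientGroup.mk'_surjective N) (by rw [QuotientGroup.ker_mk']; exact hND)
  have h3 : Nat.card (D.map f) ≤ Nat.card (C.map f) := by
    refine Nat.le_of_mul_le_mul_right ?_ (Nat.pos_of_ne_zero (D.index_ne_zero_of_finite))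
    calc Nat.card (D.map f) * D.index = Nat.card (G ⧸ N) := by
          rw [← h2]; exact Subgroup.card_mul_index _
      _ ≤ _ := h1
  have heq : C.map f = D.map f := Subgroup.eq_of_le_of_card_ge hCD h3
  have hxD : x ∈ D := by
    show f (α x) = f x
    exact (QuotientGroup.eq.mpr hx).symm
  obtain ⟨c, hc, hcx⟩ : f x ∈ C.map f := heq ▸ Subgroup.mem_map_of_mem f hxD
  exact ⟨c, hc, QuotientGroup.eq.mp hcx⟩

end Cfsg.Agent.S4154
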