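import Cfsg.Statements.S4159
import Cfsg.Agent.Lib.Baer.Basic
import Cfsg.Agent.Lib.Coprime.Action
import Cfsg.Agent.Lib.OddOrder.Solvable

set_option autoImplicit false
open Cfsg

namespace Cfsg.Agent.S4159

open CfsgLib

universe u

/-- No two-element inverts a nontrivial element of odd order. -/
def NoInv (G : Type u) [Group G] : Prop :=
  ∀ x r : G, (∃ k : ℕ, x ^ 2 ^ k = 1) → Odd (orderOf r) → x * r * x⁻¹ = r⁻¹ → r = 1

theorem noInv_of_hyp {G : Type u} [Group G] [Finite G]
    (h : ∀ (H : Subgroup G) (x y : H), 1 < (Subgroup.centralizer ({x} : Set H)).index →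
      1 < (Subgroup.centralizer ({y} : Set H)).index →
      ¬ ((Subgroup.centralizer ({x} : Set H)).index).Coprime
        (Subgroup.centralizer ({y} : Set H)).index) : NoInv G := by
  intro x r hx hr hinv
  by_contra hr1
  have hnorm : Subgroup.zpowers x ≤ Subgroup.normalizer (Subgroup.zpowers r : Set G) := by
    rw [Subgroup.zpowers_le, Subgroup.mem_normalizer_iff]
    intro n
    have key : ∀ i : ℤ, x * r ^ i * x⁻¹ = r ^ (-i) := fun i => by
      rw [← conj_zpow, hinv, inv_zpow, zpow_neg]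
    constructor
    · intro hn
      obtain ⟨i, rfl⟩ := Subgroup.mem_zpowers_iff.mp hn
      exact Subgroup.mem_zpowers_iff.mpr ⟨-i, (key i).symm⟩
    · intro hn
      obtain ⟨i, hi⟩ := Subgroup.mem_zpowers_iff.mp hn
      refine Subgroup.mem_zpowers_iff.mpr ⟨-i, ?_⟩
      have := key (-i)
      rw [neg_neg, hi] at this
      exact mul_left_cancel (mul_right_cancel this)
  let H := Subgroup.zpowers r ⊔ Subgroup.zpowers x
  let xH : H := ⟨x, Subgroup.mem_sup_right (Subgroup.mem_zpowers x)⟩
  let rH : H := ⟨r, Subgroup.mem_sup_left (Subgroup.mem_zpowers r)⟩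
  have hr2 : r⁻¹ ≠ r := by
    intro e
    have h2 : r ^ 2 = 1 := by
      calc r ^ 2 = r * r := pow_two r
        _ = r * r⁻¹ := by rw [e]
        _ = 1 := mul_inv_cancel r
    rcases (Nat.dvd_prime Nat.prime_two).mp (orderOf_dvd_of_pow_eq_one h2) with h1 | h1
    · exact hr1 (orderOf_eq_one_iff.mp h1)
    · rw [h1] at hr
      exact absurd hr (by decide)
  have hall : ∀ g ∈ H, g * r * g⁻¹ = r ∨ g * r * g⁻¹ = r⁻¹ := by
    intro g hg
    let S : Subgroup G :=
      { carrier := {g | g * r * g⁻¹ = r ∨ g * r * g⁻¹ = r⁻¹}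
        one_mem' := Or.inl (by group)
        mul_mem' := by
          intro a b ha hb
          have hab : a * b * r * (a * b)⁻¹ = a * (b * r * b⁻¹) * a⁻¹ := by group
          rcases hb with hb | hb <;> rcases ha with ha | ha
          · exact Or.inl (by rw [hab, hb, ha])
          · exact Or.inr (by rw [hab, hb, ha])
          · exact Or.inr (by rw [hab, hb, ← conj_inv, ha])
          · exact Or.inl (by rw [hab, hb, ← conj_inv, ha, inv_inv])
        inv_mem' := by
          intro a ha
          rcases ha with ha | ha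
          · refine Or.inl ?_
            calc a⁻¹ * r * a⁻¹⁻¹ = a⁻¹ * (a * r * a⁻¹) * a⁻¹⁻¹ := by rw [ha]
              _ = r := by group
          · refine Or.inr ?_
            calc a⁻¹ * r * a⁻¹⁻¹ = a⁻¹ * (a * r * a⁻¹)⁻¹ * a⁻¹⁻¹ := by rw [ha]; group
              _ = r⁻¹ := by group }
    have hle : H ≤ S := sup_le (Subgroup.zpowers_le.mpr (Or.inl (by group)))
      (Subgroup.zpowers_le.mpr (Or.inr hinv))
    exact hle hg
  have hCr : ∀ b : H, b ∈ Subgroup.centralizer ({rH} : Set H) ↔ (b : G) * r * (b : G)⁻¹ = r := by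
    intro b
    rw [Subgroup.mem_centralizer_singleton_iff, ← Subtype.coe_inj, mul_inv_eq_iff_eq_mul]
    exact Iff.rfl
  have hidx2 : (Subgroup.centralizer ({rH} : Set H)).index = 2 := by
    rw [Subgroup.index_eq_two_iff]
    refine ⟨xH, fun b => ?_⟩
    have hbx : ((b * xH : H) : G) * r * ((b * xH : H) : G)⁻¹ = ((b : G) * r * (b : G)⁻¹)⁻¹ := by
      calc ((b * xH : H) : G) * r * ((b * xH : H) : G)⁻¹ = (b : G) * (x * r * x⁻¹) * (b : G)⁻¹ := by
            simp only [Subgroup.coe_mul, xH]; group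
        _ = _ := by rw [hinv]; group
    rw [hCr, hCr, hbx]
    rcases hall b b.2 with hb | hb
    · rw [hb]; exact Or.inr ⟨rfl, hr2⟩
    · rw [hb, inv_inv]; exact Or.inl ⟨rfl, hr2⟩
  have hodd : Odd (Subgroup.centralizer ({xH} : Set H)).index := by
    have hle : (Subgroup.zpowers x).subgroupOf H ≤ Subgroup.centralizer ({xH} : Set H) := by
      intro b hb
      obtain ⟨i, hi⟩ := Subgroup.mem_zpowers_iff.mp hb
      rw [Subgroup.mem_centralizer_singleton_iff]
      apply Subtype.ext
      show (b : G) * x = x * b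
      have hi' : (b : G) = x ^ i := hi.symm
      rw [hi']
      exact ((Commute.refl x).zpow_left i).eq
    refine Odd.of_dvd_nat ?_ (Subgroup.index_dvd_of_le hle)
    obtain ⟨k, hk⟩ := hx
    have hdis : Subgroup.zpowers r ⊓ Subgroup.zpowers x = ⊥ := by
      refine Subgroup.inf_eq_bot_of_coprime ?_
      rw [Nat.card_zpowers, Nat.card_zpowers]
      exact ((Nat.coprime_two_right.mpr hr).pow_right k).coprime_dvd_right
        (orderOf_dvd_of_pow_eq_one hk)
    have h1 := Coprime.card_sup_mul_card_inf hnorm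
    rw [hdis, Subgroup.card_bot, mul_one] at h1
    have h2 := Subgroup.index_mul_card ((Subgroup.zpowers x).subgroupOf H)
    rw [Nat.card_congr (Subgroup.subgroupOfEquivOfLe (le_sup_right : Subgroup.zpowers x ≤ H)).toEquiv,
      h1] at h2
    rw [Nat.eq_of_mul_eq_mul_right Nat.card_pos h2, Nat.card_zpowers]
    exact hr
  refine h H xH rH ?_ (by omega) ?_
  · have hne : (Subgroup.centralizer ({xH} : Set H)).index ≠ 1 := by
      intro e
      have : rH ∈ Subgroup.centralizer ({xH} : Set H) := by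
        rw [Subgroup.index_eq_one.mp e]; trivial
      have := congrArg Subtype.val (Subgroup.mem_centralizer_singleton_iff.mp this)
      apply hr2
      rw [← hinv]
      calc x * r * x⁻¹ = r * x * x⁻¹ := by rw [show r * x = x * r from this]
        _ = r := by group
    have := hodd.pos
    omega
  · rw [hidx2]
    exact (Nat.coprime_two_right.mpr hodd)

theorem aux : ∀ (n : ℕ) (G : Type u) [Group G] [Finite G], Nat.card G = n → NoInv G →
    Group.IsSolvable G := by
  intro n
  induction n using Nat.strong_induction_on with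
  | _ n ih =>
  intro G _ _ hn hG
  subst hn
  rcases Nat.even_or_odd (Nat.card G) with heven | hodd
  swap
  · exact CfsgLib.OddOrder.odd_order_solvable hodd
  haveI : Fact (Nat.Prime 2) := ⟨Nat.prime_two⟩
  obtain ⟨x, hx⟩ := exists_prime_orderOf_dvd_card' 2 heven.two_dvd
  have hx2 : x * x = 1 := by rw [← pow_two, ← hx, pow_orderOf_eq_one]
  have hxX : IsPGroup 2 (Subgroup.zpowers x) := IsPGroup.of_card (n := 1) (by rw [Nat.card_zpowers, hx, pow_one])
  obtain ⟨N, hN, hNp, hxN⟩ := CfsgLib.Baer.baer_suzuki (Subgroup.zpowers x) hxX (fun g => by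
    set y := g * x * g⁻¹ with hy
    have hy2 : y * y = 1 := by
      calc y * y = g * (x * x) * g⁻¹ := by rw [hy]; group
        _ = 1 := by rw [hx2]; group
    set d := x * y with hd
    have hxd : x * d * x⁻¹ = d⁻¹ := by
      rw [hd, mul_inv_rev, inv_eq_of_mul_eq_one_right hx2, inv_eq_of_mul_eq_one_right hy2,
        ← mul_assoc, hx2, one_mul]
    obtain ⟨k, m, hm, hdm⟩ := Nat.exists_eq_two_pow_mul_odd (orderOf_pos d).ne'
    have hr : d ^ 2 ^ k = 1 := hG x _ ⟨1, by rw [pow_one, pow_two, hx2]⟩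
      (hm.of_dvd_nat (orderOf_dvd_of_pow_eq_one (by rw [← pow_mul, ← hdm, pow_orderOf_eq_one])))
      (by rw [← conj_pow, hxd, inv_pow])
    have hdp : IsPGroup 2 (Subgroup.zpowers d) := by
      obtain ⟨j, -, hj⟩ := (Nat.dvd_prime_pow Nat.prime_two).mp (orderOf_dvd_of_pow_eq_one hr)
      exact IsPGroup.of_card (n := j) (by rw [Nat.card_zpowers, hj])
    have hnorm : Subgroup.zpowers x ≤ Subgroup.normalizer (Subgroup.zpowers d : Set G) := by
      rw [Subgroup.zpowers_le]
      have key : ∀ i : ℤ, x * d ^ i * x⁻¹ = d ^ (-i) := fun i => by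
        rw [← conj_zpow, hxd, inv_zpow, zpow_neg]
      rw [Subgroup.mem_normalizer_iff]
      intro n
      constructor
      · intro hn
        obtain ⟨i, rfl⟩ := Subgroup.mem_zpowers_iff.mp hn
        exact Subgroup.mem_zpowers_iff.mpr ⟨-i, (key i).symm⟩
      · intro hn
        obtain ⟨i, hi⟩ := Subgroup.mem_zpowers_iff.mp hn
        refine Subgroup.mem_zpowers_iff.mpr ⟨-i, ?_⟩
        have := key (-i)
        rw [neg_neg, hi] at this
        exact mul_left_cancel (mul_right_cancel this)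
    refine (hdp.to_sup_of_normal_left' hxX hnorm).to_le (sup_le le_sup_right ?_)
    rw [MonoidHom.map_zpowers, Subgroup.zpowers_le]
    show g * x * g⁻¹ ∈ _
    have : y = x * d := by rw [hd, ← mul_assoc, hx2, one_mul]
    rw [← hy, this]
    exact mul_mem (Subgroup.mem_sup_right (Subgroup.mem_zpowers x)) (Subgroup.mem_sup_left (Subgroup.mem_zpowers d)))
  haveI := hN
  set π := QuotientGroup.mk' N with hπ
  have hlt : Nat.card (G ⧸ N) < Nat.card G := by
    rw [Subgroup.card_eq_card_quotient_mul_card_subgroup N]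
    refine lt_mul_of_one_lt_right Nat.card_pos ((Subgroup.one_lt_card_iff_ne_bot N).mpr fun e => ?_)
    have := hxN (Subgroup.mem_zpowers x)
    rw [e, Subgroup.mem_bot] at this
    rw [this, orderOf_one] at hx
    omega
  have hQ : NoInv (G ⧸ N) := by
    intro a b ha hb hab
    by_contra hb1
    obtain ⟨q, hq, hqd⟩ := Nat.exists_prime_and_dvd (mt orderOf_eq_one_iff.mp hb1)
    haveI := Fact.mk hq
    obtain ⟨c, hc⟩ := hqd
    have hc0 : c ≠ 0 := fun e => (orderOf_pos b).ne' (by rw [hc, e, mul_zero])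
    set r' := b ^ c with hr'
    have hr'q : orderOf r' = q := by
      rw [hr', orderOf_pow' _ hc0, hc,
        Nat.gcd_eq_right (dvd_mul_left c q), Nat.mul_div_cancel _ (Nat.pos_of_ne_zero hc0)]
    have hq2 : q ≠ 2 := by
      intro e
      have h2 : Odd (q * c) := hc ▸ hb
      rw [e] at h2
      exact Nat.not_even_iff_odd.mpr h2 (even_two_mul c)
    have hab' : a * r' * a⁻¹ = r'⁻¹ := by rw [hr', ← conj_pow, hab, inv_pow]
    obtain ⟨a₀, rfl⟩ := QuotientGroup.mk'_surjective N a
    obtain ⟨r₀, hr₀⟩ := QuotientGroup.mk'_surjective N r'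
    -- a lift of prime order
    have hr₀N : r₀ ^ q ∈ N := by
      rw [← QuotientGroup.eq_one_iff]
      show π (r₀ ^ q) = 1
      rw [map_pow, hπ, hr₀, ← hr'q, pow_orderOf_eq_one]
    obtain ⟨l, hl⟩ := hNp ⟨_, hr₀N⟩
    have hl' : (r₀ ^ q) ^ 2 ^ l = 1 := congrArg Subtype.val hl
    have hcop : Nat.Coprime (2 ^ l) q :=
      ((Nat.coprime_primes Nat.prime_two hq).mpr (Ne.symm hq2)).pow_left l
    obtain ⟨i, hi⟩ := exists_pow_eq_self_of_coprime (x := r') (hr'q.symm ▸ hcop)
    set r := r₀ ^ (2 ^ l * i) with hr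
    have hrπ : π r = r' := by rw [hr, map_pow, hπ, hr₀, pow_mul, hi]
    have hrq : r ^ q = 1 := by
      rw [hr, ← pow_mul, show 2 ^ l * i * q = q * 2 ^ l * i by ring, pow_mul, pow_mul, hl', one_pow]
    have hr1 : r ≠ 1 := fun e => hq.one_lt.ne (by rw [← hr'q, ← hrπ, e, map_one, orderOf_one])
    have hor : orderOf r = q := orderOf_eq_prime hrq hr1
    set K := (Subgroup.zpowers r').comap π with hK
    have hcardK : Nat.card K = Nat.card N * q := by
      have h1 : K.index * Nat.card K = Nat.card (G ⧸ N) * Nat.card N := by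
        rw [Subgroup.index_mul_card, ← Subgroup.card_eq_card_quotient_mul_card_subgroup]
      rw [← Subgroup.index_mul_card (Subgroup.zpowers r'), Nat.card_zpowers, hr'q,
        hK, Subgroup.index_comap_of_surjective _ (QuotientGroup.mk'_surjective N), mul_assoc] at h1
      rw [Nat.eq_of_mul_eq_mul_left (Nat.pos_of_ne_zero Subgroup.index_ne_zero_of_finite) h1, mul_comm]
    have hsyl : ∀ s ∈ K, orderOf s = q → ∃ T : Sylow q K, (T : Subgroup K).map K.subtype = Subgroup.zpowers s := by
      intro s hs hos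
      have hZ : IsPGroup q (Subgroup.zpowers (⟨s, hs⟩ : K)) :=
        IsPGroup.of_card (n := 1) (by rw [Nat.card_zpowers, Subgroup.orderOf_mk, hos, pow_one])
      refine ⟨hZ.toSylow ?_, ?_⟩
      · intro hd
        have h1 := Subgroup.index_mul_card (Subgroup.zpowers (⟨s, hs⟩ : K))
        rw [Nat.card_zpowers, Subgroup.orderOf_mk, hos, hcardK] at h1
        rw [Nat.eq_of_mul_eq_mul_right hq.pos h1] at hd
        obtain ⟨j, hj⟩ := IsPGroup.iff_card.mp hNp
        rw [hj] at hd
        exact hq2 ((Nat.prime_dvd_prime_iff_eq hq Nat.prime_two).mp (hq.dvd_of_dvd_pow hd))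
      · show (Subgroup.zpowers (⟨s, hs⟩ : K)).map K.subtype = _
        rw [MonoidHom.map_zpowers]; rfl
    have hrK : r ∈ K := by rw [hK, Subgroup.mem_comap, hrπ]; exact Subgroup.mem_zpowers _
    set s := a₀ * r * a₀⁻¹ with hs
    have hsπ : π s = r'⁻¹ := by rw [hs, map_mul, map_mul, map_inv, hrπ]; exact hab'
    have hsK : s ∈ K := by rw [hK, Subgroup.mem_comap, hsπ]; exact inv_mem (Subgroup.mem_zpowers _)
    have hos : orderOf s = q := by
      rw [hs, ← hor]; exact orderOf_injective (MulAut.conj a₀).toMonoidHom (MulAut.conj a₀).injective r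
    obtain ⟨T, hT⟩ := hsyl s hsK hos
    obtain ⟨U, hU⟩ := hsyl r hrK hor
    obtain ⟨k, hk⟩ := MulAction.exists_smul_eq K T U
    have hkmem : (k : G) * s * (k : G)⁻¹ ∈ Subgroup.zpowers r := by
      rw [← hU, ← hk]
      have hsT : (⟨s, hsK⟩ : K) ∈ (T : Subgroup K) := by
        have : s ∈ (T : Subgroup K).map K.subtype := hT ▸ Subgroup.mem_zpowers s
        obtain ⟨y, hy, he⟩ := this
        rwa [show (⟨s, hsK⟩ : K) = y from Subtype.ext he.symm]
      exact ⟨k * ⟨s, hsK⟩ * k⁻¹, ⟨⟨s, hsK⟩, hsT, rfl⟩, rfl⟩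
    obtain ⟨j, hj⟩ := Subgroup.mem_zpowers_iff.mp (Subgroup.mem_comap.mp k.2)
    set n := r ^ (-j) * (k : G) with hn'
    have hnN : n ∈ N := by
      rw [← QuotientGroup.eq_one_iff]
      show π n = 1
      rw [hn', map_mul, map_zpow, hrπ, ← hj, ← zpow_add, neg_add_cancel, zpow_zero]
    have hn : n * s * n⁻¹ ∈ Subgroup.zpowers r := by
      have : n * s * n⁻¹ = r ^ (-j) * ((k : G) * s * (k : G)⁻¹) * r ^ j := by rw [hn']; group
      rw [this]
      exact mul_mem (mul_mem ⟨_, rfl⟩ hkmem) ⟨_, rfl⟩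
    obtain ⟨i', hi'⟩ := Subgroup.mem_zpowers_iff.mp hn
    have hinv : n * s * n⁻¹ = r⁻¹ := by
      have hnp : π n = 1 := (QuotientGroup.eq_one_iff n).mpr hnN
      have h1 : r' ^ (i' + 1) = 1 := by
        rw [zpow_add_one, ← hrπ, ← map_zpow, hi', map_mul, map_mul, map_inv, hnp, hsπ, hrπ]
        group
      have h2 : r ^ (i' + 1) = 1 := by
        rw [← orderOf_dvd_iff_zpow_eq_one, hor, ← hr'q, orderOf_dvd_iff_zpow_eq_one]; exact h1
      rw [← hi', eq_inv_iff_mul_eq_one, ← zpow_add_one, h2]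
    refine hr1 (hG (n * a₀) r ?_ ?_ ?_)
    · obtain ⟨k', hk'⟩ := ha
      have hmem : (n * a₀) ^ 2 ^ k' ∈ N := by
        rw [← QuotientGroup.eq_one_iff]
        show π ((n * a₀) ^ 2 ^ k') = 1
        have hnp : π n = 1 := (QuotientGroup.eq_one_iff n).mpr hnN
        rw [map_pow, map_mul, hnp, one_mul]
        exact hk'
      obtain ⟨k'', hk''⟩ := hNp ⟨_, hmem⟩
      exact ⟨k' + k'', by rw [pow_add, pow_mul]; exact congrArg Subtype.val hk''⟩
    · rw [hor]; exact hq.odd_of_ne_two hq2
    · calc n * a₀ * r * (n * a₀)⁻¹ = n * s * n⁻¹ := by rw [hs]; group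
        _ = r⁻¹ := hinv
  haveI := ih _ hlt (G ⧸ N) rfl hQ
  haveI : Group.IsNilpotent N := hNp.isNilpotent
  exact Group.isSolvable_of_ker_le_range N.subtype π (by simp [hπ])

/-- Let G be a finite group such that in every subgroup H of G, any two conjugacy classes of H of size greater than 1 have non-coprime sizes. Then G is solvable. -/
theorem result {G : Type*} [Group G] [Finite G]
    (h : ∀ (H : Subgroup G) (x y : H), 1 < (Subgroup.centralizer ({x} : Set H)).index → 1 < (Subgroup.centralizer ({y} : Set H)).index →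
      ¬ ((Subgroup.centralizer ({x} : Set H)).index).Coprime (Subgroup.centralizer ({y} : Set H)).index) : Group.IsSolvable G := by
  exact aux _ G rfl (noInv_of_hyp h)

end Cfsg.Agent.S4159
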