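import Cfsg.Statements.S4160
import Mathlib
-- import your own Cfsg.Agent.* helpers here

set_option autoImplicit false
open Cfsg

namespace Cfsg.Agent.S4160

/-- The elements having a conjugate which centralizes a given subgroup. -/
lemma card_conjugates_centralizer {G : Type*} [Group G] [Finite G] (P : Subgroup G) :
    Nat.card {x : G | x ≠ 1 ∧ ∃ g : G, g⁻¹ * x * g ∈ Subgroup.centralizer (P : Set G)} ≤
      (Subgroup.normalizer (P : Set G)).index * (Nat.card ↥(Subgroup.centralizer (P : Set G)) - 1) := by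
  classical
  haveI := Fintype.ofFinite G
  set C := Subgroup.centralizer (P : Set G)
  set N := Subgroup.normalizer (P : Set G)
  let f : (G ⧸ N) × {c : C // c ≠ 1} → G := fun t => t.1.out * ((t.2 : C) : G) * (t.1.out)⁻¹
  have hcov : {x : G | x ≠ 1 ∧ ∃ g : G, g⁻¹ * x * g ∈ C} ⊆ Set.range f := by
    rintro x ⟨hx, g, hg⟩
    obtain ⟨n, hn⟩ := QuotientGroup.mk_out_eq_mul N g
    have hc : (n : G)⁻¹ * (g⁻¹ * x * g) * (n : G) ∈ C := by
      rw [Subgroup.mem_centralizer_iff]
      intro y hy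
      have h1 : (n : G) * y * (n : G)⁻¹ ∈ P := (Subgroup.mem_normalizer_iff.mp n.2 y).mp hy
      have h2 := Subgroup.mem_centralizer_iff.mp hg _ h1
      calc y * ((n : G)⁻¹ * (g⁻¹ * x * g) * n) = (n : G)⁻¹ * (((n : G) * y * (n : G)⁻¹) * (g⁻¹ * x * g)) * n := by group
        _ = (n : G)⁻¹ * (g⁻¹ * x * g) * n * y := by rw [h2]; group
    refine ⟨((g : G ⧸ N), ⟨⟨_, hc⟩, fun h => hx ?_⟩), ?_⟩
    · have h' : (n : G)⁻¹ * (g⁻¹ * x * g) * (n : G) = 1 := congrArg Subtype.val h
      calc x = g * ((n : G) * ((n : G)⁻¹ * (g⁻¹ * x * g) * n) * (n : G)⁻¹) * g⁻¹ := by group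
        _ = 1 := by rw [h']; group
    · show (g : G ⧸ N).out * _ * ((g : G ⧸ N).out)⁻¹ = x
      rw [hn]; group
  calc Nat.card {x : G | x ≠ 1 ∧ ∃ g : G, g⁻¹ * x * g ∈ C}
      ≤ Nat.card (Set.range f) := Nat.card_mono (Set.toFinite _) hcov
    _ ≤ Nat.card ((G ⧸ N) × {c : C // c ≠ 1}) :=
        Nat.card_le_card_of_surjective _ Set.rangeFactorization_surjective
    _ = _ := by
        rw [Nat.card_prod, ← Subgroup.index]
        simp only [Nat.card_eq_fintype_card, Fintype.card_subtype_compl, Fintype.card_subtype_eq]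

lemma centralizes_sylow {G : Type*} [Group G] [Finite G] {p : ℕ} [Fact p.Prime] (P : Sylow p G) {x : G}
    (h : ¬ p ∣ (Subgroup.centralizer ({x} : Set G)).index) :
    ∃ g : G, g⁻¹ * x * g ∈ Subgroup.centralizer ((P : Subgroup G) : Set G) := by
  set C := Subgroup.centralizer ({x} : Set G)
  let S : Sylow p C := default
  obtain ⟨Q, hQ⟩ := (S.2.map C.subtype).exists_le_sylow
  have hQeq : (S : Subgroup C).map C.subtype = (Q : Subgroup G) := by
    refine Subgroup.eq_of_le_of_card_ge hQ ?_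
    rw [Subgroup.card_subtype, S.card_eq_multiplicity, Q.card_eq_multiplicity, ← C.card_mul_index,
      Nat.factorization_mul Nat.card_pos.ne' Subgroup.index_ne_zero_of_finite, Finsupp.add_apply,
      Nat.factorization_eq_zero_of_not_dvd h, add_zero]
  obtain ⟨g, hg⟩ := MulAction.exists_smul_eq G P Q
  refine ⟨g, Subgroup.mem_centralizer_iff.mpr fun y hy => ?_⟩
  have h1 : g * y * g⁻¹ ∈ (Q : Subgroup G) := by
    rw [← hg, Sylow.coe_subgroup_smul, Subgroup.pointwise_smul_def]
    exact ⟨y, hy, rfl⟩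
  rw [← hQeq] at h1
  obtain ⟨z, -, hz⟩ := h1
  have h2 := Subgroup.mem_centralizer_singleton_iff.mp (z.2 : (z : G) ∈ C)
  rw [show (z : G) = g * y * g⁻¹ from hz] at h2
  calc y * (g⁻¹ * x * g) = g⁻¹ * ((g * y * g⁻¹) * x) * g := by group
    _ = g⁻¹ * x * g * y := by rw [h2]; group

lemma complement_of_normalizer_le {G : Type*} [Group G] [Finite G] {p : ℕ} [Fact p.Prime] (P : Sylow p G)
    (h : Nat.card ↥(Subgroup.normalizer ((P : Subgroup G) : Set G)) < 2 * Nat.card ↥(Subgroup.centralizer ((P : Subgroup G) : Set G))) :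
    Cfsg.HasNormalPComplement p G := by
  set C := Subgroup.centralizer ((P : Subgroup G) : Set G)
  set N := Subgroup.normalizer ((P : Subgroup G) : Set G)
  have hle : C ≤ N := Subgroup.centralizer_le_normalizer _
  obtain ⟨k, hk⟩ := Subgroup.card_dvd_of_le hle
  have hk1 : k = 1 := by
    have hN0 : 0 < Nat.card N := Nat.card_pos
    rcases Nat.lt_or_ge k 2 with h1 | h1
    · interval_cases k
      · omega
      · rfl
    · have := Nat.mul_le_mul_left (Nat.card C) h1
      rw [← hk] at this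
      omega
  have hNC : N ≤ C := (Subgroup.eq_of_le_of_card_ge hle (by rw [hk, hk1, mul_one])).ge
  exact ⟨P, _, inferInstance, MonoidHom.ker_transferSylow_isComplement' P hNC⟩

theorem result {G : Type*} [Group G] [Finite G] (p q : ℕ) (hp : p.Prime) (hq : q.Prime) (hpq : p ≠ q)
    (hp' : ∃ x : G, p ∣ (Subgroup.centralizer ({x} : Set G)).index) (hq' : ∃ x : G, q ∣ (Subgroup.centralizer ({x} : Set G)).index) (h : ∀ x : G, ¬ p * q ∣ (Subgroup.centralizer ({x} : Set G)).index) :
    Cfsg.HasNormalPComplement p G ∨ Cfsg.HasNormalPComplement q G := by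
  haveI := Fact.mk hp
  haveI := Fact.mk hq
  let P : Sylow p G := default
  let Q : Sylow q G := default
  set CP := Subgroup.centralizer ((P : Subgroup G) : Set G)
  set CQ := Subgroup.centralizer ((Q : Subgroup G) : Set G)
  set NP := Subgroup.normalizer ((P : Subgroup G) : Set G)
  set NQ := Subgroup.normalizer ((Q : Subgroup G) : Set G)
  by_contra hcon
  push Not at hcon
  have h1 : 2 * Nat.card CP ≤ Nat.card NP := not_lt.mp fun h' => hcon.1 (complement_of_normalizer_le P h')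
  have h2 : 2 * Nat.card CQ ≤ Nat.card NQ := not_lt.mp fun h' => hcon.2 (complement_of_normalizer_le Q h')
  have hcov : ({1}ᶜ : Set G) ⊆ {x : G | x ≠ 1 ∧ ∃ g : G, g⁻¹ * x * g ∈ CP} ∪ {x : G | x ≠ 1 ∧ ∃ g : G, g⁻¹ * x * g ∈ CQ} := by
    intro x hx1
    by_cases hx : p ∣ (Subgroup.centralizer ({x} : Set G)).index
    · exact Or.inr ⟨hx1, centralizes_sylow Q fun h' => h x (((Nat.coprime_primes hp hq).mpr hpq).mul_dvd_of_dvd_of_dvd hx h')⟩
    · exact Or.inl ⟨hx1, centralizes_sylow P hx⟩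
  have hG := (Set.ncard_le_ncard hcov (Set.toFinite _)).trans (Set.ncard_union_le _ _)
  have a1 := card_conjugates_centralizer (G := G) (P : Subgroup G)
  have a2 := card_conjugates_centralizer (G := G) (Q : Subgroup G)
  rw [Nat.card_coe_set_eq] at a1 a2
  rw [Set.ncard_compl, Set.ncard_singleton] at hG
  have b1 : 2 * (NP.index * Nat.card CP) ≤ Nat.card G := by
    rw [← NP.card_mul_index, mul_comm (Nat.card NP)]
    calc 2 * (NP.index * Nat.card CP) = NP.index * (2 * Nat.card CP) := by ring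
      _ ≤ _ := Nat.mul_le_mul_left _ h1
  have b2 : 2 * (NQ.index * Nat.card CQ) ≤ Nat.card G := by
    rw [← NQ.card_mul_index, mul_comm (Nat.card NQ)]
    calc 2 * (NQ.index * Nat.card CQ) = NQ.index * (2 * Nat.card CQ) := by ring
      _ ≤ _ := Nat.mul_le_mul_left _ h2
  rw [Nat.mul_sub, mul_one] at a1 a2
  have c1 : 1 ≤ NP.index := Nat.pos_of_ne_zero Subgroup.index_ne_zero_of_finite
  have c2 : 1 ≤ NQ.index := Nat.pos_of_ne_zero Subgroup.index_ne_zero_of_finite
  have c3 : NP.index ≤ NP.index * Nat.card CP := Nat.le_mul_of_pos_right _ Nat.card_pos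
  have c4 : NQ.index ≤ NQ.index * Nat.card CQ := Nat.le_mul_of_pos_right _ Nat.card_pos
  have a1' : {x : G | x ≠ 1 ∧ ∃ g : G, g⁻¹ * x * g ∈ CP}.ncard ≤ NP.index * Nat.card CP - NP.index := a1
  have a2' : {x : G | x ≠ 1 ∧ ∃ g : G, g⁻¹ * x * g ∈ CQ}.ncard ≤ NQ.index * Nat.card CQ - NQ.index := a2
  omega

end Cfsg.Agent.S4160
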