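import Cfsg.Statements.S4169
import Cfsg.Agent.Lib.ClassSize.SmallClass
import Cfsg.Agent.Lib.Fusion.DStar
-- import your own Cfsg.Agent.* helpers here

set_option autoImplicit false
open Cfsg
open scoped commutatorElement

namespace Cfsg.Agent.S4169

/-- Let P be a finite p-group whose conjugacy classes have exactly two sizes (1 and one other value). Then P has nilpotency class at most 3. -/
theorem result {P : Type*} [Group P] [Finite P] {p : ℕ} [Fact p.Prime] (hP : IsPGroup p P)
    (m : ℕ) (hm : 1 < m) (h : ∀ x : P, (Subgroup.centralizer ({x} : Set P)).index = 1 ∨ (Subgroup.centralizer ({x} : Set P)).index = m) :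
    upperCentralSeries P 3 = ⊤ := by
  haveI : Group.IsNilpotent ↥(⊤ : Subgroup P) := (hP.to_subgroup ⊤).isNilpotent
  obtain ⟨A, -, hAn, hAc, hCA⟩ := CfsgLib.DStar.exists_self_centralizing (⊤ : Subgroup P)
  haveI : A.Normal := Subgroup.normalizer_eq_top_iff.1 (top_le_iff.1 hAn)
  rw [top_inf_eq] at hCA
  have hCA' : Subgroup.centralizer (A : Set P) = A :=
    le_antisymm hCA fun a ha => Subgroup.mem_centralizer_iff.2 fun b hb => hAc b hb a ha
  have hall := CfsgLib.ClassSize.ucs_three_eq_top A hCA' Set.univ fun t _ a ha => by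
    rcases h t with ht | ht
    · have hC : t ∈ Subgroup.center P := Subgroup.mem_center_iff.2 fun g =>
        Subgroup.mem_centralizer_singleton_iff.1 ((Subgroup.index_eq_one.1 ht).symm ▸
          Subgroup.mem_top g : g ∈ Subgroup.centralizer ({t} : Set P))
      rw [commutatorElement_eq_one_iff_mul_comm.2 (Subgroup.mem_center_iff.1 hC a)]
      exact Subgroup.one_mem _
    · refine CfsgLib.ClassSize.commutator_mem_center_of_small A (fun u hu v hv => hAc u hu v hv)
        t (fun y hy => ?_) a ha
      rw [ht]
      rcases h y with hy' | hy' <;> omega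
  rw [Subgroup.closure_univ] at hall
  show Subgroup.upperCentralSeries P 3 = ⊤
  rw [← Subgroup.comap_upperCentralSeries (Subgroup.topEquiv (G := P)).symm, hall,
    Subgroup.comap_top]

end Cfsg.Agent.S4169
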