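import Cfsg.Statements.S4176
import Cfsg.Agent.Lib.PSolvable.Core

set_option autoImplicit false
set_option linter.style.haveILetI false
open Cfsg

namespace Cfsg.Agent.S4176

universe u v w

/-- The augmentation space. -/
def augSpace {k V H : Type*} [Field k] [AddCommGroup V] [Module k V] [Monoid H] (ρ : H →* (V →ₗ[k] V)) :
    Submodule k V :=
  Submodule.span k {y | ∃ (h : H) (u : V), y = ρ h u - u}

/-- A fixed vector in the augmentation space of a cyclic module generated by a vector fixed by a Sylow
subgroup of a `p`-soluble group is zero. -/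
theorem eq_zero_of_mem_aug {k : Type w} [Field k] (p : ℕ) [Fact p.Prime] [CharP k p] (n : ℕ) :
    ∀ (H : Type u) [Group H] [Finite H] (V : Type v) [AddCommGroup V] [Module k V], Nat.card H ≤ n →
      Cfsg.IsPSolvable p H → ∀ (ρ : H →* (V →ₗ[k] V)) (a : V),
        (∃ P : Sylow p H, ∀ x : H, x ∈ (P : Subgroup H) → ρ x a = a) →
        Submodule.span k {u : V | ∃ h : H, ρ h a = u} = ⊤ →
        ∀ v : V, (∀ h, ρ h v = v) → v ∈ augSpace ρ → v = 0 := by
  classical
  induction n with
  | zero => intro H _ _ V _ _ hn; exact absurd hn (by have := Nat.card_pos (α := H); omega)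
  | succ n ih =>
    intro H _ _ V _ _ hn hsol ρ a ⟨P, hP⟩ hspan v hv hvI
    have hρ : ∀ x y : H, ∀ u : V, ρ (x * y) u = ρ x (ρ y u) := fun x y u => by rw [map_mul]; rfl
    have hcardlt : ∀ (N : Subgroup H), N ≠ ⊥ → Nat.card (H ⧸ N) ≤ n := fun N hN => by
      haveI : Nontrivial N := (Subgroup.nontrivial_iff_ne_bot N).mpr hN
      have h1 := N.card_mul_index
      have h2 : 2 ≤ Nat.card N := Finite.one_lt_card
      have h3 : 0 < N.index := Nat.pos_of_ne_zero Subgroup.index_ne_zero_of_finite
      have : N.index * 2 ≤ n + 1 := by nlinarith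
      change N.index ≤ n
      omega
    by_cases hO' : Cfsg.pPrimeCore p H = ⊥
    · by_cases hO : Cfsg.pCore p H = ⊥
      · -- the group is trivial
        have h1 := CfsgLib.PSolvable.centralizer_pCore_le hsol hO'
        rw [hO] at h1
        have htriv : ∀ h : H, h = 1 := fun h => Subgroup.mem_bot.mp (h1 (Subgroup.mem_centralizer_iff.mpr fun y hy => by
          rw [SetLike.mem_coe, Subgroup.mem_bot] at hy; rw [hy, one_mul, mul_one]))
        have : augSpace ρ = ⊥ := by
          rw [augSpace, Submodule.span_eq_bot]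
          rintro _ ⟨h, u, rfl⟩
          rw [htriv h, map_one]
          exact sub_self u
        rw [this, Submodule.mem_bot] at hvI
        exact hvI
      · set N := Cfsg.pCore p H with hN
        haveI : N.Normal := CfsgLib.Fitting.pCore_normal p
        have hNP : N ≤ (P : Subgroup H) :=
          le_sup_right.trans (P.3 (P.2.to_sup_of_normal_right (CfsgLib.Fitting.pCore_isPGroup p)) le_sup_left).le
        have htriv : N ≤ ρ.ker := by
          intro x hx
          rw [MonoidHom.mem_ker]
          refine LinearMap.ext_on (s := {u : V | ∃ h : H, ρ h a = u}) hspan ?_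
          rintro _ ⟨h, rfl⟩
          show ρ x (ρ h a) = ρ h a
          have e : x * h = h * (h⁻¹ * x * h) := by group
          rw [← hρ, e, hρ, hP _ (hNP (by simpa using (inferInstance : N.Normal).conj_mem x hx h⁻¹))]
        have hsurj := QuotientGroup.mk'_surjective N
        refine ih (H ⧸ N) V (hcardlt N hO) (CfsgLib.PSolvable.isPSolvable_of_surjective _ hsurj hsol)
          (QuotientGroup.lift N ρ htriv) a ⟨P.mapSurjective hsurj, ?_⟩ ?_ v ?_ ?_
        · intro x hx
          rw [Sylow.coe_mapSurjective] at hx
          obtain ⟨y, hy, rfl⟩ := hx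
          exact hP y hy
        · rw [eq_top_iff, ← hspan]
          refine Submodule.span_mono ?_
          rintro _ ⟨h, rfl⟩
          exact ⟨QuotientGroup.mk h, rfl⟩
        · intro y
          obtain ⟨y, rfl⟩ := hsurj y
          exact hv y
        · refine Submodule.span_mono ?_ hvI
          rintro _ ⟨h, u, rfl⟩
          exact ⟨QuotientGroup.mk h, u, rfl⟩
    · set N := Cfsg.pPrimeCore p H with hN
      haveI : N.Normal := CfsgLib.Transfer.pPrimeCore_normal p H
      haveI : Fintype N := Fintype.ofFinite N
      have hm : (Fintype.card N : k) ≠ 0 := by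
        rw [Ne, CharP.cast_eq_zero_iff k p, ← Nat.card_eq_fintype_card]
        exact (Fact.out : p.Prime).coprime_iff_not_dvd.mp (CfsgLib.Transfer.pPrimeCore_coprime p).symm
      let e : V →ₗ[k] V := (Fintype.card N : k)⁻¹ • ∑ x : N, ρ (x : H)
      have heapp : ∀ u, e u = (Fintype.card N : k)⁻¹ • ∑ x : N, ρ (x : H) u := fun u => by
        simp [e]
      have hcomm : ∀ (h : H) u, ρ h (e u) = e (ρ h u) := by
        intro h u
        rw [heapp, heapp, map_smul, map_sum]
        congr 1
        refine Fintype.sum_equiv (MulAut.conjNormal h : MulAut N).toEquiv _ _ fun x => ?_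
        show ρ h (ρ (x : H) u) = ρ ((MulAut.conjNormal h x : N) : H) (ρ h u)
        rw [← hρ, ← hρ, MulAut.conjNormal_apply, inv_mul_cancel_right]
      have hfix : ∀ (x : N) u, ρ (x : H) (e u) = e u := by
        intro x u
        rw [heapp, map_smul, map_sum]
        congr 1
        refine Fintype.sum_equiv (Equiv.mulLeft x) _ _ fun y => ?_
        show ρ (x : H) (ρ (y : H) u) = ρ ((x * y : N) : H) u
        rw [← hρ]; rfl
      have hev : ∀ u, (∀ x : N, ρ (x : H) u = u) → e u = u := by
        intro u hu
        rw [heapp, Finset.sum_congr rfl fun x _ => hu x, Finset.sum_const, Finset.card_univ,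
          ← Nat.cast_smul_eq_nsmul k, smul_smul, inv_mul_cancel₀ hm, one_smul]
      let W : Submodule k V := LinearMap.range e
      have hW : ∀ (h : H), ∀ u ∈ W, ρ h u ∈ W := by
        rintro h _ ⟨u, rfl⟩
        exact ⟨ρ h u, (hcomm h u).symm⟩
      let σ : H →* (W →ₗ[k] W) :=
        { toFun := fun h => (ρ h).restrict (hW h)
          map_one' := LinearMap.ext fun u => Subtype.ext (by show ρ 1 (u : V) = u; rw [map_one]; rfl)
          map_mul' := fun x y => LinearMap.ext fun u => Subtype.ext (hρ x y u) }
      have hσN : N ≤ σ.ker := fun x hx => by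
        rw [MonoidHom.mem_ker]
        refine LinearMap.ext fun u => Subtype.ext ?_
        obtain ⟨w, hw⟩ := u.2
        show ρ x (u : V) = u
        rw [← hw]; exact hfix ⟨x, hx⟩ w
      have hsurj := QuotientGroup.mk'_surjective N
      let eW : V →ₗ[k] W := e.rangeRestrict
      have heW : ∀ h u, eW (ρ h u) = σ h (eW u) := fun h u => Subtype.ext (hcomm h u).symm
      have hves : Function.Surjective eW := LinearMap.surjective_rangeRestrict e
      have h0 : eW v = 0 := by
        refine ih (H ⧸ N) W (hcardlt N hO') (CfsgLib.PSolvable.isPSolvable_of_surjective _ hsurj hsol)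
          (QuotientGroup.lift N σ hσN) (eW a) ⟨P.mapSurjective hsurj, ?_⟩ ?_ (eW v) ?_ ?_
        · intro x hx
          rw [Sylow.coe_mapSurjective] at hx
          obtain ⟨y, hy, rfl⟩ := hx
          show σ y (eW a) = eW a
          rw [← heW, hP y hy]
        · rw [eq_top_iff]
          intro w _
          obtain ⟨u, rfl⟩ := hves w
          have hu : u ∈ Submodule.span k {u : V | ∃ h : H, ρ h a = u} := hspan ▸ Submodule.mem_top
          have := Submodule.mem_map_of_mem (f := eW) hu
          rw [Submodule.map_span] at this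
          refine Submodule.span_mono ?_ this
          rintro _ ⟨_, ⟨h, rfl⟩, rfl⟩
          exact ⟨QuotientGroup.mk h, (heW h a).symm⟩
        · intro y
          obtain ⟨y, rfl⟩ := hsurj y
          show σ y (eW v) = eW v
          rw [← heW, hv y]
        · have := Submodule.mem_map_of_mem (f := eW) hvI
          rw [augSpace, Submodule.map_span] at this
          refine Submodule.span_mono ?_ this
          rintro _ ⟨_, ⟨h, u, rfl⟩, rfl⟩
          exact ⟨QuotientGroup.mk h, eW u, by rw [map_sub, heW]; rfl⟩
      rw [← hev v fun x => hv x]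
      exact congrArg Subtype.val h0


/-- Let k be a field of prime characteristic p, H a finite p-soluble group and ρ a k-linear representation of H on V. Let a be a vector that is fixed by some Sylow p-subgroup of H and whose H-orbit spans V. Then the space of H-fixed vectors has dimension at most 1, and every vector b whose H-orbit has size coprime to the size of the orbit of a is fixed by H. -/
theorem result {k V H : Type*} [Field k] (p : ℕ) [Fact p.Prime] [CharP k p] [AddCommGroup V] [Module k V]
    [Group H] [Finite H] (hsol : Cfsg.IsPSolvable p H) (ρ : Representation k H V) (a : V)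
    (hfix : ∃ P : Sylow p H, ∀ x : H, x ∈ (P : Subgroup H) → ρ x a = a)
    (hspan : Submodule.span k {u : V | ∃ h : H, ρ h a = u} = ⊤) :
    Module.finrank k ρ.invariants ≤ 1 ∧
    ∀ b : V, (Nat.card {u : V | ∃ h : H, ρ h a = u}).Coprime (Nat.card {u : V | ∃ h : H, ρ h b = u}) → ∀ h : H, ρ h b = b := by
  classical
  set I := augSpace (ρ : H →* (V →ₗ[k] V)) with hI
  have hρ : ∀ x y : H, ∀ u : V, ρ (x * y) u = ρ x (ρ y u) := fun x y u => by rw [map_mul]; rfl
  let cls : V →ₗ[k] V ⧸ I := I.mkQ
  have hcls : ∀ h u, cls (ρ h u) = cls u := fun h u => by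
    rw [← sub_eq_zero, ← map_sub]
    exact (Submodule.Quotient.mk_eq_zero _).mpr (Submodule.subset_span ⟨h, u, rfl⟩)
  have hline : ∀ u, ∃ c : k, cls u = c • cls a := by
    intro u
    have hu : u ∈ Submodule.span k {u : V | ∃ h : H, ρ h a = u} := hspan ▸ Submodule.mem_top
    have := Submodule.mem_map_of_mem (f := cls) hu
    rw [Submodule.map_span] at this
    have h1 : Submodule.span k (cls '' {u : V | ∃ h : H, ρ h a = u}) ≤ Submodule.span k {cls a} := by
      refine Submodule.span_mono ?_
      rintro _ ⟨_, ⟨h, rfl⟩, rfl⟩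
      exact hcls h a
    obtain ⟨c, hc⟩ := Submodule.mem_span_singleton.mp (h1 this)
    exact ⟨c, hc.symm⟩
  have hinj : ∀ v : V, (∀ h, ρ h v = v) → cls v = 0 → v = 0 := fun v hv hv0 =>
    eq_zero_of_mem_aug p (Nat.card H) H V le_rfl hsol ρ a hfix hspan v hv ((Submodule.Quotient.mk_eq_zero _).mp hv0)
  refine ⟨?_, fun b hb => ?_⟩
  · refine le_trans (LinearMap.finrank_le_finrank_of_injective (f := (LinearMap.codRestrict (Submodule.span k {cls a})
      (cls.comp ρ.invariants.subtype) fun v => by
        obtain ⟨c, hc⟩ := hline v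
        exact Submodule.mem_span_singleton.mpr ⟨c, hc.symm⟩)) ?_) (finrank_span_le_card _ |>.trans (by simp))
    rw [injective_iff_map_eq_zero]
    intro v hv
    exact Subtype.ext (hinj v v.2 (congrArg Subtype.val hv))
  · obtain ⟨P, hP⟩ := hfix
    letI : MulAction H V :=
      { smul := fun h u => ρ h u
        one_smul := fun u => by show ρ 1 u = u; rw [map_one]; rfl
        mul_smul := fun x y u => hρ x y u }
    set Ha := MulAction.stabilizer H a with hHa
    set Hb := MulAction.stabilizer H b with hHb
    have horba : Nat.card {u : V | ∃ h : H, ρ h a = u} = Ha.index := by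
      rw [MulAction.index_stabilizer, Nat.card_coe_set_eq]; rfl
    have horbb : Nat.card {u : V | ∃ h : H, ρ h b = u} = Hb.index := by
      rw [MulAction.index_stabilizer, Nat.card_coe_set_eq]; rfl
    rw [horba, horbb] at hb
    have hpn : ¬ p ∣ Ha.index := fun hd => P.not_dvd_index (hd.trans (Subgroup.index_dvd_of_le hP))
    -- the orbit of `a` under `Hb` is the whole orbit
    haveI : Fintype H := Fintype.ofFinite H
    haveI : Finite (MulAction.orbit H a) := (Set.finite_range fun h : H => h • a).to_subtype
    have hstab : MulAction.stabilizer Hb a = Ha.subgroupOf Hb := rfl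
    have horb : MulAction.orbit Hb a ⊆ MulAction.orbit H a := by rintro _ ⟨x, rfl⟩; exact ⟨x.1, rfl⟩
    have hidx : Ha.relIndex Hb = Ha.index := by
      refine le_antisymm ?_ ?_
      · rw [Subgroup.relIndex, ← hstab, hHa, MulAction.index_stabilizer, MulAction.index_stabilizer]
        exact Set.ncard_le_ncard horb (Set.toFinite _)
      · refine Nat.le_of_dvd (Nat.pos_of_ne_zero Subgroup.index_ne_zero_of_finite) (hb.dvd_of_dvd_mul_right ?_)
        refine (Subgroup.index_dvd_of_le (inf_le_left : Ha ⊓ Hb ≤ Ha)).trans ?_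
        rw [← Subgroup.relIndex_mul_index (inf_le_right : Ha ⊓ Hb ≤ Hb), Subgroup.inf_relIndex_right]
    have hsub : MulAction.orbit Hb a = MulAction.orbit H a := by
      refine Set.eq_of_subset_of_ncard_le horb ?_ (Set.toFinite _)
      rw [← MulAction.index_stabilizer, ← MulAction.index_stabilizer, hstab, ← Subgroup.relIndex, hidx]
    -- a Sylow subgroup of `Hb` fixing `a`
    obtain ⟨Q⟩ := (inferInstance : Nonempty (Sylow p (Ha.subgroupOf Hb)))
    have hQp : IsPGroup p ((Q : Subgroup (Ha.subgroupOf Hb)).map (Ha.subgroupOf Hb).subtype) := Q.2.map _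
    have hQi : ¬ p ∣ ((Q : Subgroup (Ha.subgroupOf Hb)).map (Ha.subgroupOf Hb).subtype).index := by
      rw [Subgroup.index_map_subtype, ← Subgroup.relIndex, hidx]
      intro hd
      exact ((Fact.out : p.Prime).dvd_mul.mp hd).elim Q.not_dvd_index hpn
    let σ : Hb →* (V →ₗ[k] V) := MonoidHom.comp ρ Hb.subtype
    have hspan' : Submodule.span k {u : V | ∃ h : Hb, σ h a = u} = ⊤ := by
      rw [show {u : V | ∃ h : Hb, σ h a = u} = MulAction.orbit Hb a from rfl, hsub]
      exact hspan
    have hbfix : ∀ x : Hb, σ x b = b := fun x => x.2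
    have hQfix : ∃ Q : Sylow p Hb, ∀ x : Hb, x ∈ (Q : Subgroup Hb) → σ x a = a :=
      ⟨hQp.toSylow hQi, fun x hx => (Subgroup.map_subtype_le _ hx : x ∈ Ha.subgroupOf Hb)⟩
    have hkey : ∀ v : V, (∀ x : Hb, σ x v = v) → v ∈ augSpace σ → v = 0 :=
      eq_zero_of_mem_aug p (Nat.card Hb) Hb V le_rfl (CfsgLib.PSolvable.isPSolvable_subgroup Hb hsol) σ a hQfix hspan'
    -- the augmentation spaces agree
    have hII : I ≤ augSpace σ := by
      let clb : V →ₗ[k] V ⧸ augSpace σ := (augSpace σ).mkQ
      have horba' : ∀ u ∈ MulAction.orbit H a, clb u = clb a := by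
        intro u hu
        rw [← hsub] at hu
        obtain ⟨x, rfl⟩ := hu
        rw [← sub_eq_zero, ← map_sub]
        exact (Submodule.Quotient.mk_eq_zero _).mpr (Submodule.subset_span ⟨x, a, rfl⟩)
      rw [hI, augSpace, Submodule.span_le]
      rintro _ ⟨h, u, rfl⟩
      have hext : clb.comp (ρ h) = clb := by
        refine LinearMap.ext_on (s := {u : V | ∃ h : H, ρ h a = u}) hspan ?_
        rintro _ ⟨g, rfl⟩
        show clb (ρ h (ρ g a)) = clb (ρ g a)
        rw [← hρ, horba' (ρ (h * g) a) ⟨h * g, rfl⟩, horba' (ρ g a) ⟨g, rfl⟩]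
      refine (Submodule.Quotient.mk_eq_zero _).mp ?_
      show clb (ρ h u - u) = 0
      rw [map_sub, show clb (ρ h u) = clb u from LinearMap.congr_fun hext u, sub_self]
    obtain ⟨c, hc⟩ := hline b
    by_cases ha0 : cls a = 0
    · have hb0 : b = 0 := hkey b hbfix (hII ((Submodule.Quotient.mk_eq_zero _).mp (by rw [← Submodule.mkQ_apply]; show cls b = 0; rw [hc, ha0, smul_zero])))
      intro h
      rw [hb0, map_zero]
    · haveI : Fintype (MulAction.orbit H a) := Fintype.ofFinite _
      let T : V := ∑ u : MulAction.orbit H a, (u : V)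
      have hTfix : ∀ h, ρ h T = T := fun h => by
        rw [map_sum]
        exact Fintype.sum_equiv (MulAction.toPerm h) _ _ fun u => rfl
      have hTcls : cls T = (Ha.index : k) • cls a := by
        have hu : ∀ u : MulAction.orbit H a, cls (u : V) = cls a := fun u => by
          obtain ⟨g, hg⟩ := u.2
          rw [← hg]; exact hcls g a
        rw [map_sum, Finset.sum_congr rfl fun u _ => hu u, Finset.sum_const, Finset.card_univ, hHa, MulAction.index_stabilizer,
          ← Nat.card_coe_set_eq, Nat.card_eq_fintype_card, Nat.cast_smul_eq_nsmul]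
      have hn0 : (Ha.index : k) ≠ 0 := by rwa [Ne, CharP.cast_eq_zero_iff k p]
      have hd0 : b - (c * (Ha.index : k)⁻¹) • T = 0 := by
        refine hkey _ (fun x => ?_) (hII ((Submodule.Quotient.mk_eq_zero _).mp ?_))
        · rw [map_sub, map_smul, hbfix x, show σ x T = T from hTfix x.1]
        · show cls (b - (c * (Ha.index : k)⁻¹) • T) = 0
          rw [map_sub, map_smul, hTcls, hc, smul_smul, mul_assoc, inv_mul_cancel₀ hn0, mul_one, sub_self]
      intro h
      rw [sub_eq_zero.mp hd0, map_smul, hTfix]

end Cfsg.Agent.S4176
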