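import Cfsg.Statements.S4177
import Mathlib

set_option autoImplicit false
set_option linter.style.haveILetI false
open Cfsg

namespace Cfsg.Agent.S4177

/-- Let k be a field whose characteristic does not divide the order of the finite group H (for instance a field of characteristic zero), and ρ a k-linear representation of H on V. Let a be a vector whose H-orbit spans V. Then the space of H-fixed vectors has dimension at most 1, and every vector b whose H-orbit has size coprime to the size of the orbit of a is fixed by H. -/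
theorem result {k V H : Type*} [Field k] [AddCommGroup V] [Module k V] [Group H] [Finite H]
    (hchar : ¬ ringChar k ∣ Nat.card H) (ρ : Representation k H V) (a : V)
    (hspan : Submodule.span k {u : V | ∃ h : H, ρ h a = u} = ⊤) :
    Module.finrank k ρ.invariants ≤ 1 ∧
    ∀ b : V, (Nat.card {u : V | ∃ h : H, ρ h a = u}).Coprime (Nat.card {u : V | ∃ h : H, ρ h b = u}) → ∀ h : H, ρ h b = b := by
  classical
  haveI := Fintype.ofFinite H
  have hne : ∀ B : Subgroup H, ((Nat.card B : ℕ) : k) ≠ 0 := fun B h =>
    hchar (((ringChar.spec k _).mp h).trans B.card_subgroup_dvd_card)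
  let S : Subgroup H → (V →ₗ[k] V) := fun B => ∑ b : B, ρ (b : H)
  have hS : ∀ (B : Subgroup H) (x : V), S B x = ∑ b : B, ρ (b : H) x := fun B x => LinearMap.sum_apply _ _ _
  have hSfix : ∀ (B : Subgroup H) (x : V), (∀ b ∈ B, ρ b x = x) → S B x = (Nat.card B : k) • x := by
    intro B x hx
    rw [hS, Finset.sum_congr rfl (fun (b : B) _ => hx b b.2), Finset.sum_const, Finset.card_univ,
      ← Nat.card_eq_fintype_card, Nat.cast_smul_eq_nsmul]
  have hmul : ∀ (g h : H) (x : V), ρ (g * h) x = ρ g (ρ h x) := fun g h x => by rw [map_mul]; rfl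
  have habs : ∀ (B : Subgroup H) (b : H), b ∈ B → ∀ x, S B (ρ b x) = S B x := by
    intro B b hb x
    rw [hS, hS]
    exact Fintype.sum_equiv (Equiv.mulRight (⟨b, hb⟩ : B)) _ _ fun c => by
      simp [hmul, Equiv.coe_mulRight]
  have hinv : ∀ (B : Subgroup H) (b : H), b ∈ B → ∀ x, ρ b (S B x) = S B x := by
    intro B b hb x
    rw [hS, map_sum]
    exact Fintype.sum_equiv (Equiv.mulLeft (⟨b, hb⟩ : B)) _ _ fun c => by
      simp [hmul, Equiv.coe_mulLeft]
  -- any subgroup transitive on the orbit of `a`: its fixed vectors are multiples of the orbit sum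
  have main : ∀ B : Subgroup H, (∀ h : H, ∃ b ∈ B, ρ h a = ρ b a) → ∀ x, (∀ b ∈ B, ρ b x = x) →
      x ∈ Submodule.span k {S B a} := by
    intro B hB x hx
    have h1 : Submodule.map (S B) ⊤ ≤ Submodule.span k {S B a} := by
      rw [← hspan, Submodule.map_span, Submodule.span_le]
      rintro _ ⟨_, ⟨h, rfl⟩, rfl⟩
      obtain ⟨b, hb, hhb⟩ := hB h
      rw [hhb, habs B b hb a]
      exact Submodule.mem_span_singleton_self _
    have h2 := Submodule.smul_mem _ ((Nat.card B : k)⁻¹) (h1 (Submodule.mem_map_of_mem (f := S B) (Submodule.mem_top (x := x))))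
    rwa [hSfix B x hx, inv_smul_smul₀ (hne B)] at h2
  refine ⟨?_, fun b hcop h => ?_⟩
  · refine le_trans (Submodule.finrank_mono (fun x hx => main ⊤ (fun h => ⟨h, trivial, rfl⟩) x fun g _ => hx g)) ?_
    exact (finrank_span_le_card ({S ⊤ a} : Set V)).trans (by simp)
  · letI : MulAction H V := MulAction.compHom V ρ
    set A := MulAction.stabilizer H a
    set B := MulAction.stabilizer H b
    have hA : ∀ h ∈ A, ρ h a = a := fun h hh => hh
    have hB : ∀ h ∈ B, ρ h b = b := fun h hh => hh
    have horb : ∀ u : V, {w : V | ∃ h : H, ρ h u = w} = MulAction.orbit H u := fun u => rfl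
    rw [horb, horb, Nat.card_coe_set_eq, Nat.card_coe_set_eq, ← MulAction.index_stabilizer,
      ← MulAction.index_stabilizer] at hcop
    have hrel : B.relIndex A = B.index := by
      apply le_antisymm
      · have := Subgroup.relIndex_le_of_le_right (H := B) (le_top : A ≤ ⊤)
          (by rw [Subgroup.relIndex_top_right]; exact Subgroup.index_ne_zero_of_finite)
        rwa [Subgroup.relIndex_top_right] at this
      · refine Nat.le_of_dvd (Nat.pos_of_ne_zero Subgroup.index_ne_zero_of_finite) ?_
        apply hcop.symm.dvd_of_dvd_mul_right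
        rw [← Subgroup.inf_relIndex_right, Subgroup.relIndex_mul_index inf_le_right]
        exact Subgroup.index_dvd_of_le inf_le_left
    have htrans : ∀ h : H, ∃ d ∈ B, ρ h a = ρ d a := by
      intro h
      let f : ↥A ⧸ B.subgroupOf A → H ⧸ B :=
        Quotient.map' Subtype.val fun x y hxy => by
          rw [QuotientGroup.leftRel_apply] at hxy ⊢
          exact hxy
      have hf : Function.Injective f := by
        intro x y
        induction x using QuotientGroup.induction_on with
        | _ x =>
          induction y using QuotientGroup.induction_on with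
          | _ y => intro e; exact QuotientGroup.eq.mpr (QuotientGroup.eq.mp e :)
      obtain ⟨q, hq⟩ := (hf.bijective_of_nat_card_le (le_of_eq hrel.symm)).2 (QuotientGroup.mk h⁻¹)
      induction q using QuotientGroup.induction_on with
      | _ c =>
        have h1 : (c : H)⁻¹ * h⁻¹ ∈ B := QuotientGroup.eq.mp hq
        refine ⟨((c : H)⁻¹ * h⁻¹)⁻¹, B.inv_mem h1, ?_⟩
        rw [show ((c : H)⁻¹ * h⁻¹)⁻¹ = h * c by group, hmul, hA c c.2]
    set T := ∑ g : H, ρ g a
    have hT : ∀ g : H, ρ g T = T := fun g => by
      rw [map_sum]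
      exact Fintype.sum_equiv (Equiv.mulLeft g) _ _ fun c => by simp [hmul, Equiv.coe_mulLeft]
    have e1 : S B T = (Nat.card B : k) • T := hSfix B T fun d _ => hT d
    have e2 : S B T = (Nat.card H : k) • S B a := by
      rw [map_sum, Finset.sum_congr rfl (fun g _ => show S B (ρ g a) = S B a by
        obtain ⟨d, hd, e⟩ := htrans g
        rw [e, habs B d hd a]), Finset.sum_const, Finset.card_univ, ← Nat.card_eq_fintype_card,
        Nat.cast_smul_eq_nsmul]
    have hcH : (Nat.card H : k) ≠ 0 := by
      have := hne ⊤
      rwa [Subgroup.card_top] at this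
    have hSinv : ∀ g : H, ρ g (S B a) = S B a := by
      intro g
      have : S B a = (Nat.card H : k)⁻¹ • ((Nat.card B : k) • T) := by rw [← e1, e2, inv_smul_smul₀ hcH]
      rw [this, map_smul, map_smul, hT]
    obtain ⟨r, hr⟩ := Submodule.mem_span_singleton.mp (main B htrans b hB)
    rw [← hr, map_smul, hSinv]

end Cfsg.Agent.S4177
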