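import Cfsg.Statements.S4178
import Mathlib

set_option autoImplicit false
set_option linter.style.haveILetI false
open Cfsg

namespace Cfsg.Agent.S4178

theorem index_lt_card {H X : Type*} [Group H] [Finite X] (N : Subgroup H) (f : H → X) (z : X)
    (hz : ∀ h, f h ≠ z) (hf : ∀ a b, f a = f b → a⁻¹ * b ∈ N) : N.index < Nat.card X := by
  classical
  have hinj : Function.Injective (fun q : H ⧸ N => f q.out) := fun a b hab => by
    rw [← a.out_eq, ← b.out_eq]
    exact QuotientGroup.eq.mpr (hf _ _ hab)
  have := Fintype.ofFinite X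
  haveI : Finite (H ⧸ N) := Finite.of_injective _ hinj
  have := Fintype.ofFinite (H ⧸ N)
  rw [Subgroup.index, Nat.card_eq_fintype_card, Nat.card_eq_fintype_card]
  refine Fintype.card_lt_of_injective_of_notMem _ hinj (b := z) ?_
  rintro ⟨q, hq⟩
  exact hz _ hq

/-- Let F be a finite field with q elements, V a non-zero finite-dimensional F-space of dimension d, H a group of invertible linear maps of V, and R the subgroup of H generated by the elements of H that fix some non-zero vector (have eigenvalue 1). Then the index of R in H is at most q^d − 1; and if H leaves invariant some proper non-zero subspace, the index is at most q^(d/2) − 1. -/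
theorem result {F V : Type*} [Field F] [Fintype F] [AddCommGroup V] [Module F V] [FiniteDimensional F V] [Nontrivial V]
    (H : Subgroup (V ≃ₗ[F] V)) :
    (Subgroup.closure {h : ↥H | ∃ v : V, v ≠ 0 ∧ (h : V ≃ₗ[F] V) v = v}).index ≤ Fintype.card F ^ Module.finrank F V - 1 ∧
    ((∃ W : Submodule F V, W ≠ ⊥ ∧ W ≠ ⊤ ∧ ∀ h ∈ H, ∀ w ∈ W, h w ∈ W) →
      ((Subgroup.closure {h : ↥H | ∃ v : V, v ≠ 0 ∧ (h : V ≃ₗ[F] V) v = v}).index : ℝ) ≤ Real.sqrt ((Fintype.card F : ℝ) ^ Module.finrank F V) - 1) := by
  classical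
  haveI : Finite V := Module.finite_of_finite F
  obtain ⟨v0, hv0⟩ := exists_ne (0 : V)
  set N := Subgroup.closure {h : ↥H | ∃ v : V, v ≠ 0 ∧ (h : V ≃ₗ[F] V) v = v} with hN
  have hV : Nat.card V = Fintype.card F ^ Module.finrank F V := by
    rw [Module.natCard_eq_pow_finrank (K := F), Nat.card_eq_fintype_card]
  refine ⟨?_, ?_⟩
  · have := index_lt_card N (fun h : ↥H => (h : V ≃ₗ[F] V) v0) 0 (fun h => by simp [hv0]) (by
      intro a b hab
      refine Subgroup.subset_closure ⟨v0, hv0, ?_⟩
      simp [LinearEquiv.mul_apply, ← hab])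
    rw [hV] at this
    omega
  · rintro ⟨W, hW0, hW1, hW⟩
    have hW' : ∀ h ∈ H, ∀ w, h w ∈ W → w ∈ W := fun h hh w hw => by
      have := hW h⁻¹ (H.inv_mem hh) _ hw
      simpa using this
    obtain ⟨w0, hw0W, hw0⟩ := Submodule.exists_mem_ne_zero_of_ne_bot hW0
    haveI : Finite (V ⧸ W) := Finite.of_surjective _ W.mkQ_surjective
    obtain ⟨u, hu⟩ : ∃ u, u ∉ W := by
      by_contra hall
      push_neg at hall
      exact hW1 (Submodule.eq_top_iff'.mpr hall)
    have h1 := index_lt_card N (fun h : ↥H => (⟨(h : V ≃ₗ[F] V) w0, hW _ h.2 _ hw0W⟩ : W)) 0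
      (fun h => by simp [Subtype.ext_iff, hw0]) (by
      intro a b hab
      refine Subgroup.subset_closure ⟨w0, hw0, ?_⟩
      simp only [Subtype.ext_iff] at hab
      simp [LinearEquiv.mul_apply, ← hab])
    have h2 := index_lt_card N (fun h : ↥H => (Submodule.Quotient.mk ((h : V ≃ₗ[F] V) u) : V ⧸ W)) 0
      (fun h hh => hu (hW' _ h.2 _ (by simpa using hh))) (by
      intro a b hab
      simp only [Submodule.Quotient.eq] at hab
      have hc : ((a⁻¹ * b : ↥H) : V ≃ₗ[F] V) u - u ∈ W := by
        have h5 := W.neg_mem (hW _ (H.inv_mem a.2) _ hab)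
        simpa [LinearEquiv.mul_apply, map_sub] using h5
      refine Subgroup.subset_closure ?_
      by_contra hno
      simp only [Set.mem_setOf_eq, not_exists, not_and] at hno
      obtain ⟨h, hh⟩ : ∃ h : ↥H, h = a⁻¹ * b := ⟨_, rfl⟩
      rw [← hh] at hc hno
      let T : W →ₗ[F] W := LinearMap.restrict (((h : V ≃ₗ[F] V) : V →ₗ[F] V) - LinearMap.id)
        (fun w hw => W.sub_mem (hW _ h.2 _ hw) hw)
      have hT : Function.Injective T := by
        rw [injective_iff_map_eq_zero]
        intro w hw
        by_contra hw0'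
        have h6 : (h : V ≃ₗ[F] V) (w : V) - (w : V) = 0 := by
          have := congrArg Subtype.val hw
          simpa [T] using this
        exact hno (w : V) (by simpa using hw0') (sub_eq_zero.mp h6)
      obtain ⟨w, hw⟩ := (LinearMap.injective_iff_surjective.mp hT) ⟨_, hc⟩
      have h7 : (h : V ≃ₗ[F] V) (w : V) - (w : V) = (h : V ≃ₗ[F] V) u - u := by
        have := congrArg Subtype.val hw
        simpa [T] using this
      refine hno (u - w) (fun hz => hu ((sub_eq_zero.mp hz) ▸ w.2)) ?_
      rw [map_sub]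
      exact sub_eq_sub_iff_sub_eq_sub.mp h7.symm)
    have hprod : Nat.card V = Nat.card W * Nat.card (V ⧸ W) := Submodule.card_eq_card_quotient_mul_card W
    have hsq : (N.index + 1) * (N.index + 1) ≤ Fintype.card F ^ Module.finrank F V := by
      rw [← hV, hprod]
      exact Nat.mul_le_mul h1 h2
    have hR : ((N.index : ℝ) + 1) ^ 2 ≤ (Fintype.card F : ℝ) ^ Module.finrank F V := by
      rw [sq]; exact_mod_cast hsq
    have h8 := Real.le_sqrt_of_sq_le hR
    linarith

end Cfsg.Agent.S4178
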