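import Cfsg.Statements.S4182


set_option autoImplicit false
open Cfsg

namespace Cfsg.Agent.S4182

variable {G : Type*} [Group G] [Finite G] {p : ℕ} [Fact p.Prime]

open scoped Pointwise

/-- The subgroup generated by the `p`-elements of `H`. -/
def pGen (p : ℕ) (H : Subgroup G) : Subgroup G :=
  Subgroup.closure {g : G | g ∈ H ∧ ∃ k : ℕ, orderOf g = p ^ k}

theorem pGen_le (H : Subgroup G) : pGen p H ≤ H :=
  (Subgroup.closure_le H).mpr fun _ hg => hg.1

theorem le_pGen {A H : Subgroup G} (hA : pGen p A = A) (h : A ≤ H) : A ≤ pGen p H := by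
  rw [← hA]
  exact Subgroup.closure_mono fun g hg => ⟨h hg.1, hg.2⟩

theorem pGen_idem (H : Subgroup G) : pGen p (pGen p H) = pGen p H :=
  le_antisymm (pGen_le _) (Subgroup.closure_mono fun _ hg => ⟨Subgroup.subset_closure hg, hg.2⟩)

theorem pGen_smul (g : G) (H : Subgroup G) :
    MulAut.conj g • pGen p H = pGen p (MulAut.conj g • H) := by
  rw [pGen, pGen, Subgroup.smul_closure]
  congr 1
  ext x
  constructor
  · rintro ⟨y, ⟨hy, k, hk⟩, rfl⟩
    exact ⟨Subgroup.smul_mem_pointwise_smul y _ H hy, k,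
      ((MulAut.conj g).orderOf_eq y).trans hk⟩
  · rintro ⟨⟨y, hy, rfl⟩, k, hk⟩
    exact ⟨y, ⟨hy, k, ((MulAut.conj g).orderOf_eq y).symm.trans hk⟩, rfl⟩

theorem pGen_of_isPGroup {P : Subgroup G} (hP : IsPGroup p P) : pGen p P = P :=
  le_antisymm (pGen_le P) fun x hx => Subgroup.subset_closure
    ⟨hx, (IsPGroup.iff_orderOf.mp hP ⟨x, hx⟩).imp fun k hk => by rwa [Subgroup.orderOf_mk] at hk⟩

theorem mem_normalizer_iff_conj_smul' {A : Subgroup G} {g : G} :
    g ∈ Subgroup.normalizer (A : Set G) ↔ MulAut.conj g • A = A := by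
  rw [Subgroup.mem_normalizer_iff, SetLike.ext_iff]
  simp only [Subgroup.mem_pointwise_smul_iff_inv_smul_mem, MulAut.smul_def, MulAut.inv_def,
    MulAut.conj_symm_apply]
  constructor
  · intro h x
    rw [h (g⁻¹ * x * g), show g * (g⁻¹ * x * g) * g⁻¹ = x by group]
  · intro h x
    rw [← h (g * x * g⁻¹), show g⁻¹ * (g * x * g⁻¹) * g = x by group]

theorem exists_ge {ι : Type*} [Fintype ι] (K : ι → Subgroup G) (hn : Fintype.card ι ≤ p)
    (hcov : ∀ g : G, (∃ k : ℕ, orderOf g = p ^ k) → ∃ i, g ∈ K i) :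
    ∀ H : Subgroup G, pGen p H = H → ∃ i, H ≤ K i := by
  classical
  intro H
  induction H using WellFoundedLT.induction with
  | ind H IH =>
  intro hH
  by_contra hne
  push Not at hne
  have hp := (Fact.out : p.Prime)
  let F : ι → Subgroup G := fun i => pGen p (H ⊓ K i)
  have hFlt : ∀ i, F i < H := fun i => lt_of_le_of_ne ((pGen_le _).trans inf_le_left)
    fun e => hne i (e.symm.le.trans ((pGen_le _).trans inf_le_right))
  have hlow : ∀ A, A < H → pGen p A = A → ∃ i, A ≤ F i := fun A hA hAg => by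
    obtain ⟨i, hi⟩ := IH A hA hAg
    exact ⟨i, le_pGen hAg (le_inf hA.le hi)⟩
  obtain ⟨P⟩ : Nonempty (Sylow p H) := inferInstance
  set P' := (P : Subgroup H).map H.subtype with hP'
  by_cases hPH : P' = H
  · -- `H` is a `p`-group
    have hHp : IsPGroup p H := hPH ▸ P.2.map _
    obtain ⟨i0, -⟩ := hcov 1 ⟨0, by simp⟩
    haveI : Fintype G := Fintype.ofFinite _
    have hbound : ∀ i, p * Nat.card ↥(H ⊓ K i) ≤ Nat.card H := fun i => by
      have hlt : H ⊓ K i < H := inf_le_left.lt_of_ne fun e => hne i (inf_eq_left.mp e)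
      obtain ⟨a, ha⟩ := IsPGroup.iff_card.mp hHp
      obtain ⟨b, hb⟩ := IsPGroup.iff_card.mp (hHp.to_le hlt.le)
      rw [ha, hb, ← pow_succ']
      refine Nat.pow_le_pow_right hp.pos ?_
      by_contra h
      have h2 : p ^ a ≤ p ^ b := Nat.pow_le_pow_right hp.pos (by omega)
      exact hlt.ne (Subgroup.eq_of_le_of_card_ge hlt.le (by rw [ha, hb]; exact h2))
    have hcard : ∀ A : Subgroup G, (Finset.univ.filter fun x : G => x ∈ A).card = Nat.card A :=
      fun A => by rw [Nat.card_eq_fintype_card, Fintype.card_subtype]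
    have h1 : (Finset.univ.filter fun x : G => x ∈ H).erase 1 ⊆
        Finset.univ.biUnion fun i => (Finset.univ.filter fun x : G => x ∈ H ⊓ K i).erase 1 := by
      intro x hx
      simp only [Finset.mem_erase, Finset.mem_filter, Finset.mem_univ, true_and] at hx
      obtain ⟨i, hi⟩ := hcov x ((IsPGroup.iff_orderOf.mp hHp ⟨x, hx.2⟩).imp fun k hk => by
        rwa [Subgroup.orderOf_mk] at hk)
      simp only [Finset.mem_biUnion, Finset.mem_erase, Finset.mem_filter, Finset.mem_univ, true_and]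
      exact ⟨i, hx.1, hx.2, hi⟩
    have h2 := (Finset.card_le_card h1).trans Finset.card_biUnion_le
    simp only [Finset.card_erase_of_mem, Finset.mem_filter, Finset.mem_univ, true_and, one_mem,
      hcard] at h2
    have h3 : p * (Nat.card H - 1) ≤ p * (Nat.card H - p) := by
      calc p * (Nat.card H - 1) ≤ p * ∑ i, (Nat.card ↥(H ⊓ K i) - 1) := Nat.mul_le_mul le_rfl h2
        _ = ∑ i, p * (Nat.card ↥(H ⊓ K i) - 1) := Finset.mul_sum _ _ _
        _ ≤ ∑ _i : ι, (Nat.card H - p) := Finset.sum_le_sum fun i _ => by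
            rw [Nat.mul_sub, mul_one]
            exact Nat.sub_le_sub_right (hbound i) p
        _ ≤ p * (Nat.card H - p) := by
            rw [Finset.sum_const, Finset.card_univ, smul_eq_mul]
            exact Nat.mul_le_mul hn le_rfl
    have h4 := Nat.le_of_mul_le_mul_left h3 hp.pos
    have h5 := hbound i0
    have h6 : 0 < Nat.card ↥(H ⊓ K i0) := Nat.card_pos
    have := hp.two_le
    have : p ≤ Nat.card H := le_trans (Nat.le_mul_of_pos_right p h6) h5
    omega
  set M := (Finset.univ.image F).filter fun A => ∀ B ∈ Finset.univ.image F, A ≤ B → A = B with hM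
  have hMF : ∀ A ∈ M, ∃ i, F i = A := fun A hA => by
    obtain ⟨i, -, hi⟩ := Finset.mem_image.mp ((@Finset.mem_filter _ _ (_) _ _).mp hA).1
    exact ⟨i, hi⟩
  have habove : ∀ i, ∃ A ∈ M, F i ≤ A := fun i => by
    obtain ⟨B, hB, hBmax⟩ := Finite.exists_le_maximal (p := fun A => A ∈ Finset.univ.image F)
      (Finset.mem_image_of_mem F (Finset.mem_univ i))
    exact ⟨B, (@Finset.mem_filter _ _ (_) _ _).mpr
      ⟨hBmax.prop, fun C hC hBC => le_antisymm hBC (hBmax.2 hC hBC)⟩, hB⟩
  have hinv : ∀ g ∈ H, ∀ A ∈ M, MulAut.conj g • A ∈ M := by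
    intro g hg A hA
    have hup : ∀ a ∈ H, ∀ i, ∃ B ∈ M, MulAut.conj a • F i ≤ B := by
      intro a ha i
      have hlt : MulAut.conj a • F i < H := by
        rw [← Subgroup.conj_smul_eq_self_of_mem ha]
        exact lt_of_le_of_ne (Subgroup.pointwise_smul_le_pointwise_smul_iff.mpr (hFlt i).le)
          fun e => (hFlt i).ne (MulAction.injective _ e)
      obtain ⟨j, hj⟩ := hlow _ hlt (by rw [← pGen_smul, pGen_idem])
      obtain ⟨B, hB, hjB⟩ := habove j
      exact ⟨B, hB, hj.trans hjB⟩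
    obtain ⟨i, rfl⟩ := hMF A hA
    obtain ⟨B, hB, hgB⟩ := hup g hg i
    obtain ⟨j, rfl⟩ := hMF B hB
    obtain ⟨C, hC, hjC⟩ := hup g⁻¹ (inv_mem hg) j
    have h1 : F i ≤ C := by
      refine le_trans ?_ hjC
      rw [map_inv, Subgroup.subset_pointwise_smul_iff, inv_inv]
      exact hgB
    have h2 : F i = C := ((@Finset.mem_filter _ _ (_) _ _).mp hA).2 C
      ((@Finset.mem_filter _ _ (_) _ _).mp hC).1 h1
    have h3 : MulAut.conj g • F i = F j := le_antisymm hgB (by
      rw [Subgroup.subset_pointwise_smul_iff, ← map_inv]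
      exact hjC.trans h2.ge)
    rw [h3]; exact hB
  have hMcard : M.card ≤ p :=
    (@Finset.card_filter_le _ _ _ (_)).trans (Finset.card_image_le.trans (by simpa using hn))
  -- every Sylow subgroup lies in a member of `M`, hence normalises all of them
  have hsyl : ∀ Q : Sylow p H, ∃ A ∈ M, (Q : Subgroup H).map H.subtype ≤ A := fun Q => by
    have hlt : (Q : Subgroup H).map H.subtype < H := by
      refine (Subgroup.map_subtype_le _).lt_of_ne fun e => hPH ?_
      refine Subgroup.eq_of_le_of_card_ge (Subgroup.map_subtype_le _) ?_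
      rw [hP', Subgroup.card_map_of_injective H.subtype_injective, P.card_eq_multiplicity,
        ← Q.card_eq_multiplicity, ← Subgroup.card_map_of_injective H.subtype_injective, e]
    obtain ⟨i, hi⟩ := hlow _ hlt (pGen_of_isPGroup (Q.2.map _))
    obtain ⟨A, hA, hiA⟩ := habove i
    exact ⟨A, hA, hi.trans hiA⟩
  have hnorm : ∀ A ∈ M, H ≤ Subgroup.normalizer (A : Set G) := by
    intro A hA
    rw [← hH]
    refine (Subgroup.closure_le _).mpr fun x hx => ?_
    obtain ⟨hxH, k, hk⟩ := hx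
    have hzp : IsPGroup p (Subgroup.zpowers (⟨x, hxH⟩ : H)) := IsPGroup.of_card (n := k) (by
      rw [Nat.card_zpowers, Subgroup.orderOf_mk, hk])
    obtain ⟨Q, hQ⟩ := hzp.exists_le_sylow
    obtain ⟨A0, hA0, hQA⟩ := hsyl Q
    have hxA : x ∈ A0 := hQA ⟨⟨x, hxH⟩, hQ (Subgroup.mem_zpowers _), rfl⟩
    have hfix : MulAut.conj x • A0 = A0 := Subgroup.conj_smul_eq_self_of_mem hxA
    have hback : ∀ z : {B // B ∈ M.erase A0}, MulAut.conj x • z.1 ∈ M.erase A0 := fun z => by
      obtain ⟨h1, h2⟩ := Finset.mem_erase.mp z.2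
      exact Finset.mem_erase.mpr
        ⟨fun e => h1 (MulAction.injective _ (e.trans hfix.symm)), hinv x hxH _ h2⟩
    let f : {B // B ∈ M.erase A0} → {B // B ∈ M.erase A0} :=
      fun z => ⟨MulAut.conj x • z.1, hback z⟩
    have hf : Function.Bijective f := Finite.injective_iff_bijective.mp fun a b hab =>
      Subtype.ext (MulAction.injective _ (congrArg Subtype.val hab))
    let σ := Equiv.ofBijective f hf
    have hiter : ∀ n : ℕ, ∀ z, ((σ ^ n) z).1 = MulAut.conj (x ^ n) • z.1 := by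
      intro n
      induction n with
      | zero => intro z; simp
      | succ n ih =>
        intro z
        rw [pow_succ', Equiv.Perm.mul_apply, pow_succ', map_mul, mul_smul, ← ih z]
        rfl
    have hσ : σ = 1 := by
      rw [← orderOf_eq_one_iff]
      refine Nat.eq_one_of_dvd_coprimes (a := p ^ k) (b := Nat.card (Equiv.Perm {B // B ∈ M.erase A0}))
        ?_ (orderOf_dvd_of_pow_eq_one ?_) (orderOf_dvd_natCard σ)
      · refine Nat.Coprime.pow_left k (hp.coprime_iff_not_dvd.mpr fun hd => ?_)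
        rw [Nat.card_perm, Nat.card_eq_fintype_card, Fintype.card_coe, Finset.card_erase_of_mem hA0,
          hp.dvd_factorial] at hd
        have := hp.pos
        omega
      · refine Equiv.ext fun z => Subtype.ext ?_
        rw [hiter, ← hk, pow_orderOf_eq_one, map_one, one_smul]
        rfl
    rw [SetLike.mem_coe, mem_normalizer_iff_conj_smul']
    by_cases hAA : A = A0
    · rw [hAA]; exact hfix
    · exact congrArg Subtype.val (Equiv.ext_iff.mp hσ ⟨A, Finset.mem_erase.mpr ⟨hAA, hA⟩⟩)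
  obtain ⟨A, hA, hPA⟩ := hsyl P
  obtain ⟨i, hi⟩ := hMF A hA
  refine (hFlt i).not_ge ?_
  rw [hi, ← hH]
  refine (Subgroup.closure_le _).mpr fun x hx => ?_
  obtain ⟨hxH, k, hk⟩ := hx
  have hzp : IsPGroup p (Subgroup.zpowers (⟨x, hxH⟩ : H)) := IsPGroup.of_card (n := k) (by
    rw [Nat.card_zpowers, Subgroup.orderOf_mk, hk])
  obtain ⟨Q, hQ⟩ := hzp.exists_le_sylow
  obtain ⟨c, hc⟩ := MulAction.exists_smul_eq H P Q
  have hxQ : (⟨x, hxH⟩ : H) ∈ ((c • P : Sylow p H) : Subgroup H) := hc ▸ hQ (Subgroup.mem_zpowers _)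
  rw [Sylow.coe_subgroup_smul, Subgroup.mem_pointwise_smul_iff_inv_smul_mem] at hxQ
  have h2 : (c : G)⁻¹ * x * c ∈ A := by
    refine hPA ⟨_, hxQ, ?_⟩
    simp [MulAut.smul_def]
  have := (Subgroup.mem_normalizer_iff.mp (hnorm A hA c.2) _).mp h2
  rw [show (c : G) * ((c : G)⁻¹ * x * c) * (c : G)⁻¹ = x by group] at this
  exact this

/-- Let p be a prime and G a finite group generated by its p-elements. If a finite family of proper subgroups of G covers the set of p-elements of G (every element of p-power order lies in one of them), then the family has at least p + 1 members. -/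
theorem result {G : Type*} [Group G] [Finite G] (p : ℕ) [Fact p.Prime] (hgen : Subgroup.closure {g : G | ∃ k : ℕ, orderOf g = p ^ k} = ⊤)
    {ι : Type*} [Fintype ι] (K : ι → Subgroup G) (hK : ∀ i, K i ≠ ⊤)
    (hcov : ∀ g : G, (∃ k : ℕ, orderOf g = p ^ k) → ∃ i, g ∈ K i) :
    p + 1 ≤ Fintype.card ι := by
  by_contra h
  push Not at h
  obtain ⟨i, hi⟩ := exists_ge K (by omega) hcov ⊤
    (le_antisymm le_top (hgen.ge.trans (Subgroup.closure_mono fun g hg => ⟨Subgroup.mem_top g, hg⟩)))
  exact hK i (top_le_iff.mp hi)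
end Cfsg.Agent.S4182
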