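import Cfsg.Statements.S4184
import Cfsg.Agent.Lib.TwoClassSizes.Basic

set_option autoImplicit false
open Cfsg

namespace Cfsg.Agent.S4184

open CfsgLib.CentMaxNormal

/-- `n` has the full `q`-part of `N` for every prime `q` outside `A`. -/
def FullOut (A : Set ℕ) (N n : ℕ) : Prop :=
  ∀ q : ℕ, q.Prime → q ∉ A → N.factorization q ≤ n.factorization q

theorem dvd_of_two {A : Set ℕ} {N n k : ℕ} (hN : N ≠ 0) (hn : n ≠ 0) (hk : k ≠ 0)
    (h1 : FullOut A N n) (h2 : FullOut Aᶜ N k) {m : ℕ} (hm : m ≠ 0) (hnm : n ∣ m)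
    (hkm : k ∣ m) : N ∣ m := by
  rw [← Nat.factorization_le_iff_dvd hN hm]
  intro q
  by_cases hq : q.Prime
  · by_cases hA : q ∈ A
    · exact (h2 q hq (not_not.mpr hA)).trans ((Nat.factorization_le_iff_dvd hk hm).mpr hkm q)
    · exact (h1 q hq hA).trans ((Nat.factorization_le_iff_dvd hn hm).mpr hnm q)
  · simp [Nat.factorization_eq_zero_of_not_prime N hq]

theorem core {G M : Type*}
    [Group G] [Finite G] [Group M] [Finite M] (hZG : Subgroup.center G = ⊥)
    (hZM : Subgroup.center M = ⊥)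
    (h : Set.range (fun g : G => (cen g).index) = Set.range (fun g : M => (cen g).index))
    (A : Set ℕ) (hA : ∃ a ∈ A, a.Prime ∧ a ∣ Nat.card M)
    (hB : ∃ b ∉ A, b.Prime ∧ b ∣ Nat.card M)
    (hno : ∀ a ∈ A, ∀ b ∉ A, a.Prime → b.Prime → a ∣ Nat.card M → b ∣ Nat.card M →
      ¬ ∃ x : M, orderOf x = a * b) :
    Nat.card M ∣ Nat.card G ∧ ∀ p ∈ A, p.Prime → p ∣ Nat.card M →
      (Nat.card G).factorization p ≤ (Nat.card M).factorization p := by
  have hM0 : Nat.card M ≠ 0 := Nat.card_pos.ne'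
  have hG0 : Nat.card G ≠ 0 := Nat.card_pos.ne'
  -- centralizers in `M` of nontrivial elements
  have hsplit : ∀ m : M, m ≠ 1 → (∀ q : ℕ, q.Prime → q ∉ A → ¬ q ∣ Nat.card (cen m)) ∨
      (∀ q : ℕ, q.Prime → q ∈ A → ¬ q ∣ Nat.card (cen m)) := by
    intro m hm
    obtain ⟨r, hr, hrm⟩ := Nat.exists_prime_and_dvd (mt orderOf_eq_one_iff.mp hm)
    obtain ⟨u, hu, hu'⟩ : ∃ u ∈ Subgroup.zpowers m, orderOf u = r :=
      ⟨m ^ (orderOf m / r), Subgroup.pow_mem _ (Subgroup.mem_zpowers m) _, orderOf_pow_orderOf_div (isOfFinOrder_of_finite m).orderOf_pos.ne' hrm⟩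
    have hrM : r ∣ Nat.card M := hrm.trans (orderOf_dvd_natCard m)
    have key : ∀ q : ℕ, q.Prime → q ∣ Nat.card (cen m) → r ≠ q → ∃ x : M, orderOf x = r * q := by
      intro q hq hqc hrq
      haveI := Fact.mk hq
      obtain ⟨w, hw⟩ := exists_prime_orderOf_dvd_card' q hqc
      have hcu : Commute u (w : M) := (mem_cen.mp (cen_le_cen_of_mem hu w.2)).symm
      refine ⟨u * (w : M), ?_⟩
      rw [hcu.orderOf_mul_eq_mul_orderOf_of_coprime, hu', Subgroup.orderOf_coe, hw]
      rw [hu', Subgroup.orderOf_coe, hw]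
      exact (Nat.coprime_primes hr hq).mpr hrq
    by_cases hrA : r ∈ A
    · refine Or.inl fun q hq hqA hqc => ?_
      exact hno r hrA q hqA hr hq hrM (hqc.trans (Subgroup.card_subgroup_dvd_card _))
        (key q hq hqc fun e => hqA (e ▸ hrA))
    · refine Or.inr fun q hq hqA hqc => ?_
      obtain ⟨x, hx⟩ := key q hq hqc fun e => hrA (e ▸ hqA)
      exact hno q hqA r hrA hq hr (hqc.trans (Subgroup.card_subgroup_dvd_card _)) hrM
        ⟨x, hx.trans (mul_comm _ _)⟩
  have hfull : ∀ m : M, ∀ q : ℕ, q.Prime → ¬ q ∣ Nat.card (cen m) →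
      (Nat.card M).factorization q ≤ ((cen m).index).factorization q := by
    intro m q _ hqc
    rw [← Subgroup.card_mul_index (cen m),
      Nat.factorization_mul Nat.card_pos.ne' Subgroup.index_ne_zero_of_finite,
      Finsupp.add_apply, Nat.factorization_eq_zero_of_not_dvd hqc, zero_add]
  have hG1 : ∀ g : G, (cen g).index = 1 → g = 1 := fun g hg => by
    have : g ∈ Subgroup.center G :=
      CfsgLib.TwoClassSizes.cen_eq_top_iff.mp (Subgroup.index_eq_one.mp hg)
    rwa [hZG, Subgroup.mem_bot] at this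
  have hcenone : ∀ {H : Type _} [Group H], (cen (1 : H)).index = 1 := fun {H} _ => by
    rw [Subgroup.index_eq_one, eq_top_iff]
    exact fun x _ => mem_cen.mpr (by rw [mul_one, one_mul])
  -- class sizes in `G`
  have hlt : ∀ g : G, (cen g).index < Nat.card M := by
    intro g
    obtain ⟨m, hm⟩ : ∃ m : M, (cen m).index = (cen g).index :=
      (Set.ext_iff.mp h _).mp ⟨g, rfl⟩
    rw [← hm]
    rcases eq_or_ne m 1 with rfl | hm1
    · rw [hcenone]
      obtain ⟨a, _, ha, had⟩ := hA
      exact ha.one_lt.trans_le (Nat.le_of_dvd Nat.card_pos had)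
    · have h2 : 2 ≤ Nat.card (cen m) := by
        rcases Nat.lt_or_ge (Nat.card (cen m)) 2 with hl | hl
        · exfalso
          have : Nat.card (cen m) = 1 := by
            have := Nat.card_pos (α := cen m); omega
          have hmem := self_mem_cen m
          rw [Subgroup.eq_bot_of_card_eq _ this, Subgroup.mem_bot] at hmem
          exact hm1 hmem
        · exact hl
      have hi : 0 < (cen m).index := Nat.pos_of_ne_zero Subgroup.index_ne_zero_of_finite
      calc (cen m).index < 2 * (cen m).index := by omega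
        _ ≤ Nat.card (cen m) * (cen m).index := Nat.mul_le_mul_right _ h2
        _ = Nat.card M := Subgroup.card_mul_index _
  have htype : ∀ g : G, g ≠ 1 → FullOut A (Nat.card M) (cen g).index ∨
      FullOut Aᶜ (Nat.card M) (cen g).index := by
    intro g hg
    obtain ⟨m, hm⟩ : ∃ m : M, (cen m).index = (cen g).index :=
      (Set.ext_iff.mp h _).mp ⟨g, rfl⟩
    have hm1 : m ≠ 1 := by
      rintro rfl
      exact hg (hG1 g (hm ▸ hcenone))
    rw [← hm]
    rcases hsplit m hm1 with h' | h'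
    · exact Or.inl fun q hq hqA => hfull m q hq (h' q hq hqA)
    · exact Or.inr fun q hq hqA => hfull m q hq (h' q hq (not_not.mp hqA))
  -- commuting elements of coprime order
  have hcomm : ∀ x y : G, Commute x y → (orderOf x).Coprime (orderOf y) →
      FullOut A (Nat.card M) (cen x).index → FullOut Aᶜ (Nat.card M) (cen y).index → False := by
    intro x y hc hcop hx hy
    have hne : (cen (x * y)).index ≠ 0 := Subgroup.index_ne_zero_of_finite
    have h1 := Subgroup.index_dvd_of_le (cen_le_cen_of_mem (mem_zpowers_mul hc hcop))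
    have h2 := Subgroup.index_dvd_of_le
      (cen_le_cen_of_mem (hc.eq ▸ mem_zpowers_mul hc.symm hcop.symm :
        y ∈ Subgroup.zpowers (x * y)))
    have := dvd_of_two hM0 Subgroup.index_ne_zero_of_finite Subgroup.index_ne_zero_of_finite
      hx hy hne h1 h2
    exact absurd (Nat.le_of_dvd (Nat.pos_of_ne_zero hne) this) (not_le.mpr (hlt _))
  -- the order of `M` divides the order of `G`
  have hdvd : Nat.card M ∣ Nat.card G := by
    rw [← Nat.factorization_le_iff_dvd hM0 hG0]
    intro q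
    by_cases hqM : q.Prime ∧ q ∣ Nat.card M
    swap
    · rcases not_and_or.mp hqM with hq | hq
      · simp [Nat.factorization_eq_zero_of_not_prime _ hq]
      · simp [Nat.factorization_eq_zero_of_not_dvd hq]
    obtain ⟨c, hc, hcM, hqc⟩ : ∃ c : ℕ, c.Prime ∧ c ∣ Nat.card M ∧ ¬ (c ∈ A ↔ q ∈ A) := by
      by_cases hqA : q ∈ A
      · obtain ⟨b, hb, hb1, hb2⟩ := hB; exact ⟨b, hb1, hb2, by tauto⟩
      · obtain ⟨a, ha, ha1, ha2⟩ := hA; exact ⟨a, ha1, ha2, by tauto⟩
    haveI := Fact.mk hc
    obtain ⟨m, hm⟩ := exists_prime_orderOf_dvd_card' c hcM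
    have hm1 : m ≠ 1 := fun e => hc.one_lt.ne' (by rw [← hm, e, orderOf_one])
    have hcm : c ∣ Nat.card (cen m) := hm ▸ Subgroup.orderOf_dvd_natCard _ (self_mem_cen m)
    have hnq : ¬ q ∣ Nat.card (cen m) := by
      rcases hsplit m hm1 with h' | h'
      · have hcA : c ∈ A := not_not.mp fun hn => h' c hc hn hcm
        exact h' q hqM.1 (by tauto)
      · have hcA : c ∉ A := fun hn => h' c hc hn hcm
        exact h' q hqM.1 (by tauto)
    obtain ⟨g, hg⟩ : ∃ g : G, (cen g).index = (cen m).index :=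
      (Set.ext_iff.mp h _).mpr ⟨m, rfl⟩
    exact (hfull m q hqM.1 hnq).trans (hg ▸
      (Nat.factorization_le_iff_dvd Subgroup.index_ne_zero_of_finite hG0).mpr
        (Subgroup.index_dvd_card _) q)
  refine ⟨hdvd, fun p hpA hp hpM => ?_⟩
  by_contra hcon
  push_neg at hcon
  haveI := Fact.mk hp
  have hpos : 0 < (Nat.card M).factorization p := hp.factorization_pos_of_dvd hM0 hpM
  -- a central element of a Sylow subgroup lying in a given `p`-subgroup
  have hZ : ∀ (q : ℕ) [Fact q.Prime] (Q : Sylow q G), q ∣ Nat.card G →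
      ∃ z ∈ (Q : Subgroup G), z ≠ 1 ∧ (∀ s ∈ (Q : Subgroup G), s ∈ cen z) ∧
        (∃ k, orderOf z = q ^ k) ∧ ((cen z).index).factorization q = 0 := by
    intro q _ Q hq
    haveI : Nontrivial (Q : Subgroup G) :=
      (Subgroup.nontrivial_iff_ne_bot _).mpr (Q.ne_bot_of_dvd_card hq)
    haveI := Q.isPGroup'.center_nontrivial
    obtain ⟨z, hz⟩ := exists_ne (1 : Subgroup.center (Q : Subgroup G))
    have hle : ∀ s ∈ (Q : Subgroup G), s ∈ cen (z.1.1 : G) := fun s hs =>
      mem_cen.mpr (congrArg Subtype.val (Subgroup.mem_center_iff.mp z.2 ⟨s, hs⟩))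
    refine ⟨z.1.1, z.1.2, fun e => hz (Subtype.ext (Subtype.ext e)), hle, ?_, ?_⟩
    · obtain ⟨k, hk⟩ := IsPGroup.iff_orderOf.mp Q.isPGroup' z.1
      exact ⟨k, by rw [Subgroup.orderOf_coe]; exact hk⟩
    · exact Nat.factorization_eq_zero_of_not_dvd fun hd =>
        Q.not_dvd_index (hd.trans (Subgroup.index_dvd_of_le hle))
  -- an element of type `A`, of order a prime power for a prime outside `A`
  obtain ⟨b, hbA, hb, hbM⟩ := hB
  haveI := Fact.mk hb
  obtain ⟨v, -, hv1, -, ⟨j, hvj⟩, hv0⟩ :=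
    hZ b (default : Sylow b G) (hbM.trans hdvd)
  have hvA : FullOut Aᶜ (Nat.card M) (cen v).index := by
    rcases htype v hv1 with h' | h'
    · have := h' b hb hbA
      have := hb.factorization_pos_of_dvd hM0 hbM
      omega
    · exact h'
  have hpb : p ≠ b := fun e => hbA (e ▸ hpA)
  have hsum : ∀ g : G, (Nat.card G).factorization p =
      (Nat.card (cen g)).factorization p + ((cen g).index).factorization p := fun g => by
    rw [← Subgroup.card_mul_index (cen g),
      Nat.factorization_mul Nat.card_pos.ne' Subgroup.index_ne_zero_of_finite, Finsupp.add_apply]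
  have hle : ∀ g : G, ((cen g).index).factorization p ≤ (Nat.card M).factorization p := by
    intro g
    obtain ⟨m, hm⟩ : ∃ m : M, (cen m).index = (cen g).index :=
      (Set.ext_iff.mp h _).mp ⟨g, rfl⟩
    rw [← hm]
    exact (Nat.factorization_le_iff_dvd Subgroup.index_ne_zero_of_finite hM0).mpr
      (Subgroup.index_dvd_card _) p
  have heq : ∀ g : G, FullOut Aᶜ (Nat.card M) (cen g).index →
      ((cen g).index).factorization p = (Nat.card M).factorization p := fun g hg =>
    le_antisymm (hle g) (hg p hp (not_not.mpr hpA))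
  obtain ⟨W⟩ : Nonempty (Sylow p (cen v)) := inferInstance
  set W0 : Subgroup G := (W : Subgroup (cen v)).map (cen v).subtype with hW0
  have hW0le : W0 ≤ cen v := Subgroup.map_subtype_le _
  have hW0p : IsPGroup p W0 := W.isPGroup'.map _
  have hW0card : Nat.card W0 = p ^ (Nat.card (cen v)).factorization p := by
    rw [hW0, Subgroup.card_map_of_injective (Subgroup.subtype_injective _),
      Sylow.card_eq_multiplicity]
  have hWpos : 0 < (Nat.card (cen v)).factorization p := by
    have := hsum v; have := heq v hvA; omega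
  haveI : Nontrivial W0 := by
    rw [Subgroup.nontrivial_iff_ne_bot]
    intro e
    rw [e, Subgroup.card_bot] at hW0card
    exact (Nat.one_lt_pow hWpos.ne' hp.one_lt).ne hW0card
  haveI := hW0p.center_nontrivial
  obtain ⟨w', hw'⟩ := exists_ne (1 : Subgroup.center W0)
  set w : G := w'.1.1 with hw
  have hwW : w ∈ W0 := w'.1.2
  have hw1 : w ≠ 1 := fun e => hw' (Subtype.ext (Subtype.ext e))
  have hWw : W0 ≤ cen w := fun s hs =>
    mem_cen.mpr (congrArg Subtype.val (Subgroup.mem_center_iff.mp w'.2 ⟨s, hs⟩))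
  have hpcop : ∀ x : G, x ∈ W0 → (orderOf x).Coprime (orderOf v) := by
    intro x hx
    obtain ⟨k, hk⟩ := IsPGroup.iff_orderOf.mp hW0p ⟨x, hx⟩
    rw [Subgroup.orderOf_mk] at hk
    rw [hk, hvj]
    exact Nat.Coprime.pow _ _ ((Nat.coprime_primes hp hb).mpr hpb)
  have hwA : FullOut Aᶜ (Nat.card M) (cen w).index := by
    rcases htype w hw1 with h' | h'
    · exact (hcomm w v (mem_cen.mp (hW0le hwW)) (hpcop w hwW) h' hvA).elim
    · exact h'
  obtain ⟨S, hS⟩ := hW0p.exists_le_sylow
  have hSW : (S : Subgroup G) ⊓ cen w = W0 := by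
    refine (Subgroup.eq_of_le_of_card_ge (le_inf hS hWw) ?_).symm
    obtain ⟨k, hk⟩ := IsPGroup.iff_card.mp (S.isPGroup'.to_le inf_le_left :
      IsPGroup p ↥((S : Subgroup G) ⊓ cen w))
    have hd : p ^ k ∣ Nat.card (cen w) := hk ▸ Subgroup.card_dvd_of_le inf_le_right
    rw [hk, hW0card]
    refine Nat.pow_le_pow_right hp.pos ?_
    have h1 := (hp.pow_dvd_iff_le_factorization Nat.card_pos.ne').mp hd
    have := hsum v; have := heq v hvA; have := hsum w; have := heq w hwA
    omega
  obtain ⟨z, hzS, hz1, hzc, -, hz0⟩ := hZ p S (hpM.trans hdvd)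
  have hzW : z ∈ W0 := by
    rw [← hSW]
    exact ⟨hzS, mem_cen_comm.mp (hzc w (hS hwW))⟩
  rcases htype z hz1 with h' | h'
  · exact hcomm z v (mem_cen.mp (hW0le hzW)) (hpcop z hzW) h' hvA
  · have := h' p hp (not_not.mpr hpA)
    omega


/-- Let G and M be finite groups with trivial centres and the same set of conjugacy class sizes, and suppose the prime graph of M is disconnected: the prime divisors of #M split into two non-empty parts such that M has no element of order pq with p in one part and q in the other. Then #G = #M. -/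
theorem result {G M : Type*}
    [Group G] [Finite G] [Group M] [Finite M] (hZG : Subgroup.center G = ⊥) (hZM : Subgroup.center M = ⊥)
    (h : Set.range (fun g : G => (Subgroup.centralizer ({g} : Set G)).index) = Set.range (fun g : M => (Subgroup.centralizer ({g} : Set M)).index))
    (hdisc : ∃ A : Set ℕ, (∃ a ∈ A, a.Prime ∧ a ∣ Nat.card M) ∧ (∃ b ∉ A, b.Prime ∧ b ∣ Nat.card M) ∧
      ∀ a ∈ A, ∀ b ∉ A, a.Prime → b.Prime → a ∣ Nat.card M → b ∣ Nat.card M → ¬ ∃ x : M, orderOf x = a * b) :
    Nat.card G = Nat.card M := by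
  obtain ⟨A, hA, hB, hno⟩ := hdisc
  obtain ⟨hdvd, hAle⟩ := core hZG hZM h A hA hB hno
  obtain ⟨-, hBle⟩ := core hZG hZM h Aᶜ
    (by obtain ⟨b, hb⟩ := hB; exact ⟨b, hb⟩)
    (by obtain ⟨a, ha⟩ := hA; exact ⟨a, not_not.mpr ha.1, ha.2⟩)
    (fun a ha b hb hpa hpb hda hdb => by
      rintro ⟨x, hx⟩
      exact hno b (not_not.mp hb) a ha hpb hpa hdb hda ⟨x, hx.trans (mul_comm a b)⟩)
  refine Nat.dvd_antisymm ?_ hdvd
  rw [← Nat.factorization_le_iff_dvd Nat.card_pos.ne' Nat.card_pos.ne']
  intro p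
  by_cases hp : p.Prime
  swap
  · simp [Nat.factorization_eq_zero_of_not_prime _ hp]
  by_cases hpM : p ∣ Nat.card M
  · by_cases hpA : p ∈ A
    · exact hAle p hpA hp hpM
    · exact hBle p hpA hp hpM
  rw [Nat.factorization_eq_zero_of_not_dvd hpM, Nat.le_zero]
  refine Nat.factorization_eq_zero_of_not_dvd fun hpG => ?_
  haveI := Fact.mk hp
  obtain ⟨P⟩ : Nonempty (Sylow p G) := inferInstance
  have htop : Subgroup.centralizer ((P : Subgroup G) : Set G) = ⊤ := by
    refine CfsgLib.TwoClassSizes.eq_top_of_conj_cover fun g => ?_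
    obtain ⟨m, hm⟩ : ∃ m : M, (CfsgLib.CentMaxNormal.cen m).index =
        (CfsgLib.CentMaxNormal.cen g).index := (Set.ext_iff.mp h _).mp ⟨g, rfl⟩
    obtain ⟨Q⟩ : Nonempty (Sylow p (CfsgLib.CentMaxNormal.cen g)) := inferInstance
    have hQp := Q.isPGroup'.map (CfsgLib.CentMaxNormal.cen g).subtype
    obtain ⟨T, hT⟩ := hQp.exists_le_sylow
    have hTg : ∀ t ∈ (T : Subgroup G), t * g = g * t := by
      have hTQ : ((Q : Subgroup (CfsgLib.CentMaxNormal.cen g)).map
          (CfsgLib.CentMaxNormal.cen g).subtype) = (T : Subgroup G) := by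
        refine Subgroup.eq_of_le_of_card_ge hT ?_
        rw [Subgroup.card_map_of_injective (Subgroup.subtype_injective _),
          Sylow.card_eq_multiplicity, Sylow.card_eq_multiplicity]
        refine Nat.pow_le_pow_right hp.pos (le_of_eq ?_)
        conv_lhs => rw [← Subgroup.card_mul_index (CfsgLib.CentMaxNormal.cen g)]
        rw [Nat.factorization_mul Nat.card_pos.ne' Subgroup.index_ne_zero_of_finite,
          Finsupp.add_apply, ← hm]
        rw [Nat.factorization_eq_zero_of_not_dvd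
          (fun hd => hpM (hd.trans (Subgroup.index_dvd_card _))), add_zero]
      intro t ht
      rw [← hTQ] at ht
      exact CfsgLib.CentMaxNormal.mem_cen.mp (Subgroup.map_subtype_le _ ht)
    obtain ⟨x, hx⟩ := MulAction.exists_smul_eq G P T
    refine ⟨x, Subgroup.mem_centralizer_iff.mpr fun s hs => ?_⟩
    have hmem : x * s * x⁻¹ ∈ (T : Subgroup G) := by
      rw [← hx, Sylow.coe_subgroup_smul, Subgroup.mem_pointwise_smul_iff_inv_smul_mem,
        ← map_inv, MulAut.smul_def, MulAut.conj_apply]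
      simpa [mul_assoc] using SetLike.mem_coe.mp hs
    have h2 := hTg _ hmem
    calc s * (x⁻¹ * g * x) = x⁻¹ * (x * s * x⁻¹ * g) * x := by group
      _ = x⁻¹ * (g * (x * s * x⁻¹)) * x := by rw [h2]
      _ = x⁻¹ * g * x * s := by group
  have hle : (P : Subgroup G) ≤ Subgroup.center G := fun s hs =>
    Subgroup.mem_center_iff.mpr fun g =>
      (Subgroup.mem_centralizer_iff.mp (htop ▸ Subgroup.mem_top g) s hs).symm
  exact P.ne_bot_of_dvd_card hpG (le_bot_iff.mp (hZG ▸ hle))

end Cfsg.Agent.S4184
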