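import Cfsg.Statements.S4186
import Mathlib

set_option autoImplicit false
open Cfsg

namespace Cfsg.Agent.S4186

/-- Let T and X be subgroups of a group with T a finite 2-group normalizing X but not centralizing it. Then some element of T inverts some non-identity element of X under conjugation. -/
theorem result {G : Type*} [Group G] (T X : Subgroup G) [Finite ↥T] (hT : IsPGroup 2 ↥T) (hTN : T ≤ Subgroup.normalizer (X : Set G)) (hTC : ¬ T ≤ Subgroup.centralizer (X : Set G)) : ∃ t ∈ T, ∃ x ∈ X, x ≠ 1 ∧ t * x * t⁻¹ = x⁻¹ := by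
  obtain ⟨t₀, ht₀, hnot⟩ := SetLike.not_le_iff_exists.mp hTC
  have hex : ∃ k, t₀ ^ 2 ^ k ∈ Subgroup.centralizer (X : Set G) := by
    obtain ⟨k, hk⟩ := hT ⟨t₀, ht₀⟩
    exact ⟨k, by rw [show t₀ ^ 2 ^ k = 1 from congrArg Subtype.val hk]; exact one_mem _⟩
  classical
  obtain ⟨j, hj⟩ : ∃ j, Nat.find hex = j + 1 := by
    refine ⟨Nat.find hex - 1, ?_⟩
    have : Nat.find hex ≠ 0 := fun h => hnot (by simpa [h] using Nat.find_spec hex)
    omega
  set t := t₀ ^ 2 ^ j with ht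
  have htT : t ∈ T := pow_mem ht₀ _
  have ht1 : t ∉ Subgroup.centralizer (X : Set G) := Nat.find_min hex (by omega)
  have ht2 : t * t ∈ Subgroup.centralizer (X : Set G) := by
    rw [ht, ← pow_two, ← pow_mul, ← pow_succ, ← hj]
    exact Nat.find_spec hex
  obtain ⟨x, hx, hxt⟩ : ∃ x ∈ X, x * t ≠ t * x := by
    by_contra h
    exact ht1 (Subgroup.mem_centralizer_iff.mpr fun x hx => by_contra fun e => h ⟨x, hx, e⟩)
  have htx : t * x * t⁻¹ ∈ X := (Subgroup.mem_normalizer_iff.mp (hTN htT) x).mp hx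
  refine ⟨t, htT, x⁻¹ * (t * x * t⁻¹), X.mul_mem (X.inv_mem hx) htx, fun h => hxt ?_, ?_⟩
  · rw [inv_mul_eq_one, eq_mul_inv_iff_mul_eq] at h
    exact h
  · have h2 : t * (t * x * t⁻¹) * t⁻¹ = x := by
      have := Subgroup.mem_centralizer_iff.mp ht2 x hx
      rw [show t * (t * x * t⁻¹) * t⁻¹ = (t * t) * x * (t * t)⁻¹ by group, ← this, mul_inv_cancel_right]
    calc t * (x⁻¹ * (t * x * t⁻¹)) * t⁻¹ = (t * x * t⁻¹)⁻¹ * (t * (t * x * t⁻¹) * t⁻¹) := by group
      _ = (x⁻¹ * (t * x * t⁻¹))⁻¹ := by rw [h2]; group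

end Cfsg.Agent.S4186
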