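import Cfsg.Statements.S4187
import Cfsg.Agent.Lib.RealClassGraph.Reduction

set_option autoImplicit false
open Cfsg

namespace Cfsg.Agent.S4187

/-- Let G be a finite group. Call an element real when it is conjugate to its inverse, and consider the graph whose vertices are the primes dividing the size of some conjugacy class of real elements, two distinct primes being adjacent when their product divides such a class size. If this graph is disconnected — its vertex set splits into two non-empty parts such that no real class size is divisible by a prime from each part — then G is solvable. -/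
theorem result {G : Type*} [Group G] [Finite G] (π₁ π₂ : Set ℕ) (h₁ : π₁.Nonempty) (h₂ : π₂.Nonempty) (hcover : ∀ q : ℕ, q.Prime → (∃ n ∈ {n : ℕ | ∃ x : G, IsConj x x⁻¹ ∧ (Subgroup.centralizer ({x} : Set G)).index = n}, q ∣ n) → q ∈ π₁ ∨ q ∈ π₂) (hsub : ∀ q ∈ π₁ ∪ π₂, q.Prime ∧ ∃ n ∈ {n : ℕ | ∃ x : G, IsConj x x⁻¹ ∧ (Subgroup.centralizer ({x} : Set G)).index = n}, q ∣ n) (hdisj : Disjoint π₁ π₂) (hnoedge : ∀ a ∈ π₁, ∀ b ∈ π₂, ∀ n ∈ {n : ℕ | ∃ x : G, IsConj x x⁻¹ ∧ (Subgroup.centralizer ({x} : Set G)).index = n}, ¬ (a ∣ n ∧ b ∣ n)) : Group.IsSolvable G := by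
  classical
  by_contra hns
  haveI : Fact (Nat.Prime 2) := ⟨Nat.prime_two⟩
  obtain ⟨S⟩ : Nonempty (Sylow 2 G) := inferInstance
  obtain ⟨x, hxr, hxo, hx1⟩ : ∃ x : G, CfsgLib.RealClassGraph.IsReal x ∧ Odd (orderOf x) ∧ x ≠ 1 := by
    by_contra h
    push Not at h
    exact hns (CfsgLib.RealClassGraph.solvable_of_normal_sylow_two S
      (CfsgLib.RealClassGraph.normal_sylow_two_of_forall h S))
  have hne : x ≠ x⁻¹ := fun e => hx1 (CfsgLib.RealClassGraph.eq_one_of_odd_of_eq_inv hxo e)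
  have hmem : ∀ y : G, CfsgLib.RealClassGraph.IsReal y →
      (Subgroup.centralizer ({y} : Set G)).index ∈
        {n : ℕ | ∃ x : G, IsConj x x⁻¹ ∧ (Subgroup.centralizer ({x} : Set G)).index = n} :=
    fun y hy => ⟨y, (CfsgLib.RealClassGraph.isReal_iff_isConj y).mp hy, rfl⟩
  have h2 := CfsgLib.RealClassGraph.two_dvd_index hxr hne
  have h2π := hcover 2 Nat.prime_two ⟨_, hmem x hxr, h2⟩
  -- the part of the graph not containing `2`
  have main : ∀ π π' : Set ℕ, π.Nonempty → 2 ∉ π → π ⊆ π₁ ∪ π₂ →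
      (∀ q : ℕ, q.Prime → (∃ y : G, CfsgLib.RealClassGraph.IsReal y ∧
        q ∣ (Subgroup.centralizer ({y} : Set G)).index) → q ∈ π ∨ q ∈ π') →
      (∀ a ∈ π, ∀ b ∈ π', ∀ y : G, CfsgLib.RealClassGraph.IsReal y →
        ¬ (a ∣ (Subgroup.centralizer ({y} : Set G)).index ∧
          b ∣ (Subgroup.centralizer ({y} : Set G)).index)) → False := by
    intro π π' hπ h2n hsubπ hcov hno
    refine hns (CfsgLib.RealClassGraph.solvable_of_split (π := π) _ G rfl ⟨h2n, ?_, ?_⟩)
    · intro y hy hyf p hp hpd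
      by_contra hpπ
      apply hyf
      intro q _ hqπ hqd
      exact hno q hqπ p ((hcov p hp ⟨y, hy, hpd⟩).resolve_left hpπ) y hy ⟨hqd, hpd⟩
    · obtain ⟨q, hq⟩ := hπ
      obtain ⟨hqp, _, ⟨y, hy, rfl⟩, hqd⟩ := hsub q (hsubπ hq)
      exact ⟨y, (CfsgLib.RealClassGraph.isReal_iff_isConj y).mpr hy, fun hf => hf q hqp hq hqd⟩
  rcases h2π with h | h
  · refine main π₂ π₁ h₂ (Set.disjoint_left.mp hdisj h) Set.subset_union_right
      (fun q hq ⟨y, hy, hd⟩ => (hcover q hq ⟨_, hmem y hy, hd⟩).symm) ?_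
    exact fun a ha b hb y hy hab => hnoedge b hb a ha _ (hmem y hy) ⟨hab.2, hab.1⟩
  · refine main π₁ π₂ h₁ (Set.disjoint_right.mp hdisj h) Set.subset_union_left
      (fun q hq ⟨y, hy, hd⟩ => hcover q hq ⟨_, hmem y hy, hd⟩) ?_
    exact fun a ha b hb y hy => hnoedge a ha b hb _ (hmem y hy)

end Cfsg.Agent.S4187
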