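import Cfsg.Statements.S4188
import Cfsg.Agent.Lib.PGroup.TwoGroupOddModule
import Cfsg.Agent.Lib.PGroup.CoprimeAut

set_option autoImplicit false
set_option linter.style.haveILetI false
open Cfsg

namespace Cfsg.Agent.S4188

theorem bound.{w} {G : Type w} [Group G] [Finite G] (N P : Subgroup G) (hN : N.Normal)
    (hNab : IsMulCommutative ↥N) (hNodd : Odd (Nat.card ↥N)) (hP : IsPGroup 2 ↥P) (hdisj : N ⊓ P = ⊥)
    (hprod : N ⊔ P = ⊤) (hmin : N ≠ ⊥ ∧ ∀ M : Subgroup G, M.Normal → M ≠ ⊥ → N ≤ M) :
    (frattini ↥P).index ≤ Nat.card ↥N - 1 := by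
  classical
  haveI := hN
  haveI : Fact (Nat.Prime 2) := ⟨Nat.prime_two⟩
  letI : CommGroup N :=
    { (inferInstance : Group N) with mul_comm := fun a b => hNab.is_comm.comm a b }
  set f : P →* MulAut N := (MulAut.conjNormal (H := N)).comp P.subtype with hf
  -- the action is faithful
  have hC : Subgroup.centralizer (N : Set G) ⊓ P = ⊥ := by
    by_contra hne
    have hn : (Subgroup.centralizer (N : Set G) ⊓ P).Normal := by
      rw [← Subgroup.normalizer_eq_top_iff, eq_top_iff, ← hprod, sup_le_iff]
      constructor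
      · refine le_trans ?_ (Subgroup.centralizer_le_normalizer _)
        intro n hn c hc
        exact (hc.1 n hn).symm
      · intro g hg
        rw [Subgroup.mem_normalizer_iff]
        intro c
        constructor
        · rintro ⟨h1, h2⟩
          exact ⟨(inferInstance : (Subgroup.centralizer (N : Set G)).Normal).conj_mem c h1 g,
            P.mul_mem (P.mul_mem hg h2) (P.inv_mem hg)⟩
        · rintro ⟨h1, h2⟩
          refine ⟨?_, ?_⟩
          · have := (inferInstance : (Subgroup.centralizer (N : Set G)).Normal).conj_mem _ h1 g⁻¹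
            simpa [mul_assoc] using this
          · have := P.mul_mem (P.mul_mem (P.inv_mem hg) h2) hg
            simpa [mul_assoc] using this
    have h1 : N ≤ P := (hmin.2 _ hn hne).trans inf_le_right
    exact hmin.1 (eq_bot_iff.mpr (hdisj ▸ le_inf le_rfl h1))
  have hfi : Function.Injective f := by
    rw [injective_iff_map_eq_one]
    intro x hx
    have hxC : (x : G) ∈ Subgroup.centralizer (N : Set G) ⊓ P := by
      refine ⟨fun n hn => ?_, x.2⟩
      have h := congrArg (fun F : MulAut N => ((F ⟨n, hn⟩ : N) : G)) hx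
      simp only [hf, MonoidHom.comp_apply, MulAut.conjNormal_apply] at h
      calc n * (x : G) = ((x : G) * n * (x : G)⁻¹) * x := by
            rw [show (x : G) * n * (x : G)⁻¹ = n from h]
        _ = (x : G) * n := by group
    rw [hC, Subgroup.mem_bot] at hxC
    exact Subtype.ext hxC
  have hn1 : 1 < Nat.card N := by
    by_contra h
    exact hmin.1 (N.eq_bot_of_card_le (by omega))
  obtain ⟨s, hs, hb, -⟩ := CfsgLib.TwoOddModule.sg_bound (Nat.card N) N rfl hNodd hn1 f.range
    (hP.of_surjective f.rangeRestrict f.rangeRestrict_surjective) (by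
      intro W hW
      have hWn : (W.map N.subtype).Normal := by
        rw [← Subgroup.normalizer_eq_top_iff, eq_top_iff, ← hprod, sup_le_iff]
        constructor
        · refine le_trans ?_ (Subgroup.centralizer_le_normalizer _)
          rintro n hn _ ⟨w, -, rfl⟩
          exact congrArg Subtype.val (hNab.is_comm.comm w ⟨n, hn⟩)
        · intro g hg
          have hfwd : ∀ a ∈ P, ∀ c ∈ W.map N.subtype, a * c * a⁻¹ ∈ W.map N.subtype := by
            rintro a ha _ ⟨w, hw, rfl⟩
            exact ⟨_, hW _ ⟨⟨a, ha⟩, rfl⟩ w hw, rfl⟩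
          rw [Subgroup.mem_normalizer_iff]
          intro c
          refine ⟨hfwd g hg c, fun h => ?_⟩
          have := hfwd g⁻¹ (P.inv_mem hg) _ h
          simpa [mul_assoc] using this
      by_cases h0 : W.map N.subtype = ⊥
      · left
        exact (Subgroup.map_eq_bot_iff_of_injective W N.subtype_injective).mp h0
      · right
        refine eq_top_iff.mpr fun x _ => ?_
        obtain ⟨w, hw, hwx⟩ := hmin.2 _ hWn h0 x.2
        rwa [← Subtype.ext hwx])
  obtain ⟨T, hT, hTtop⟩ :=
    (CfsgLib.TwoOddModule.SG.of_injective f.rangeRestrict (fun a b h => hfi (congrArg Subtype.val h)) hs) ⊤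
  exact ((CfsgLib.PGroup.frattini_index_le hP T hTtop).trans
    (Nat.pow_le_pow_right (by norm_num) hT)).trans hb


/-- Let G be a finite group that is the semidirect product of a normal abelian subgroup N of odd order by a 2-subgroup P, and suppose N is the unique minimal normal subgroup of G. Then the index of the Frattini subgroup of P in P is at most #N − 1. -/
theorem result {G : Type*} [Group G] [Finite G] (N P : Subgroup G) (hN : N.Normal) (hNab : IsMulCommutative ↥N) (hNodd : Odd (Nat.card ↥N)) (hP : IsPGroup 2 ↥P) (hdisj : N ⊓ P = ⊥) (hprod : N ⊔ P = ⊤) (hmin : N ≠ ⊥ ∧ ∀ M : Subgroup G, M.Normal → M ≠ ⊥ → N ≤ M) : (frattini ↥P).index ≤ Nat.card ↥N - 1 := by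
  exact bound N P hN hNab hNodd hP hdisj hprod hmin

end Cfsg.Agent.S4188
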