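import Cfsg.Statements.S4189
import Cfsg.Agent.Lib.PGroup.TwoMaximalClass
import Cfsg.Agent.Lib.Critical.Basic
import Cfsg.Agent.Lib.Classical.QuaternionRec

set_option autoImplicit false
open Cfsg

namespace Cfsg.Agent.S4189

/-- Let P be a finite non-abelian 2-group whose commutator subgroup has index 4 and whose automorphism group is not a 2-group (some automorphism has order that is not a power of 2). Then P is isomorphic to the quaternion group of order 8. -/
theorem result {P : Type*} [Group P] [Finite P] (hP : IsPGroup 2 P) (hna : ¬ IsMulCommutative P) (h4 : (commutator P).index = 4) (haut : ¬ IsPGroup 2 (MulAut P)) : Nonempty (P ≃* QuaternionGroup 2) := by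
  haveI : Fact (Nat.Prime 2) := ⟨Nat.prime_two⟩
  haveI : Group.IsNilpotent P := hP.isNilpotent
  obtain ⟨n, hn⟩ := IsPGroup.iff_card.mp hP
  have hci := (commutator P).card_mul_index
  obtain ⟨a, ha⟩ := IsPGroup.iff_card.mp (hP.to_subgroup (commutator P))
  rw [h4, hn, ha, show 2 ^ a * 4 = 2 ^ (a + 2) by rw [pow_add]; norm_num] at hci
  have hna2 := Nat.pow_right_injective le_rfl hci
  have hn3 : 3 ≤ n := by
    by_contra hlt
    refine hna ?_
    rw [show a = 0 by omega, pow_zero] at ha
    exact ⟨⟨fun x y => CfsgLib.MaxClass.comm_eq_of_commutator_eq_bot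
      (Subgroup.eq_bot_of_card_eq _ ha) x y⟩⟩
  have hX' : Nat.card (commutator P) = 2 ^ (n - 2) := by rw [ha, show a = n - 2 by omega]
  obtain ⟨-, C, hCc, hCi⟩ := CfsgLib.MaxClass.taussky n P hn3 hn hX'
  have hne := CfsgLib.MaxClass.commutator_ne_bot_of_card hn3 hX'
  have hZ2 : ∀ D : Subgroup P, D.index = 2 → IsCyclic D → Nat.card (Subgroup.center P) = 2 := by
    intro D hDi hDc
    haveI hDab : IsMulCommutative D := ⟨⟨fun x y => (IsCyclic.commGroup (α := D)).mul_comm x y⟩⟩
    obtain ⟨t, ht⟩ : ∃ t, t ∉ D := by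
      by_contra hall
      push Not at hall
      rw [(Subgroup.eq_top_iff' D).mpr hall, Subgroup.index_top] at hDi
      omega
    obtain ⟨hcard, -⟩ := CfsgLib.MaxClass.index_two_facts D hDi ht hne
    rw [hn, hX', show n = (n - 2) + 2 by omega, pow_add, Nat.add_sub_cancel] at hcard
    have hp := Nat.two_pow_pos (n - 2)
    nlinarith
  -- an automorphism moving `C`
  obtain ⟨φ, hφ⟩ : ∃ φ : MulAut P, C.map φ.toMonoidHom ≠ C := by
    by_contra hall
    push Not at hall
    refine haut ?_
    have hsub : ∀ α : MulAut P, ∃ k, orderOf α = 2 ^ k := by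
      intro α
      obtain ⟨k, r, hr, hord⟩ := Nat.exists_eq_pow_mul_and_not_dvd (orderOf_pos α).ne' 2 (by norm_num)
      refine ⟨k, ?_⟩
      set β := α ^ 2 ^ k with hβ
      have hβo : orderOf β = r := by
        rw [hβ, orderOf_pow' α (by positivity), hord, Nat.gcd_mul_right_left,
          Nat.mul_div_cancel_left r (Nat.two_pow_pos k)]
      have hcop : r.Coprime 2 := Nat.coprime_comm.mp (Nat.prime_two.coprime_iff_not_dvd.mpr hr)
      haveI : C.Normal := Subgroup.normal_of_index_eq_two hCi
      haveI := hCc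
      obtain ⟨c, hc⟩ := hCc.exists_generator
      have hCC : Subgroup.centralizer (C : Set P) ≤ C := by
        intro x hx
        by_contra hxC
        refine hne ?_
        have hx2 : ∀ y : P, y ∈ C ∨ y * x⁻¹ ∈ C := fun y => by
          by_cases hy : y ∈ C
          · exact Or.inl hy
          · exact Or.inr ((Subgroup.mul_mem_iff_of_index_two hCi).mpr (by rw [inv_mem_iff]; tauto))
        have hcc : ∀ u ∈ C, ∀ w ∈ C, u * w = w * u := fun u hu w hw =>
          congrArg Subtype.val ((IsCyclic.commGroup (α := C)).mul_comm ⟨u, hu⟩ ⟨w, hw⟩)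
        have hall : ∀ y, ∀ u ∈ C, Commute y u := fun y u hu => by
          rcases hx2 y with hy | hy
          · exact hcc y hy u hu
          · rw [show y = y * x⁻¹ * x by group]
            exact (show Commute (y * x⁻¹) u from hcc _ hy u hu).mul_left
              (show Commute x u from (hx u hu).symm)
        rw [commutator_def, Subgroup.commutator_eq_bot_iff_le_centralizer]
        intro y _ w _
        rcases hx2 y with hy | hy
        · exact hall w y hy
        · rw [show y = y * x⁻¹ * x by group]
          refine ((hall w _ hy).mul_right ?_).eq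
          rcases hx2 w with hw | hw
          · exact (hall x w hw).symm
          · rw [show w = w * x⁻¹ * x by group]
            exact ((hall x _ hw).symm).mul_left (Commute.refl x)
      -- `β` acts on the cyclic group `C`
      have hfixC : ∀ x ∈ C, β x = x := by
        let ψ : MulAut C := MulEquiv.trans (β.subgroupMap C) (MulEquiv.subgroupCongr (hall β))
        have hψ : ∀ m : ℕ, ∀ x : C, ((ψ ^ m) x : P) = (β ^ m) (x : P) := by
          intro m
          induction m with
          | zero => intro x; rfl
          | succ m ih => intro x; rw [pow_succ', pow_succ', MulAut.mul_apply, MulAut.mul_apply, ← ih]; rfl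
        have h1 : orderOf ψ ∣ r := by
          refine orderOf_dvd_of_pow_eq_one (MulEquiv.ext fun x => Subtype.ext ?_)
          rw [hψ, ← hβo, pow_orderOf_eq_one]
          rfl
        obtain ⟨e, he⟩ := IsPGroup.iff_card.mp (hP.to_subgroup C)
        have h2 : orderOf ψ ∣ Nat.card (MulAut C) := orderOf_dvd_natCard ψ
        rw [IsCyclic.card_mulAut] at h2
        have h3 : ψ = 1 := by
          refine orderOf_eq_one_iff.mp (Nat.eq_one_of_dvd_coprimes ?_ h1 h2)
          rw [he]
          rcases Nat.eq_zero_or_pos e with rfl | he0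
          · simp
          · rw [Nat.totient_prime_pow Nat.prime_two he0]
            simpa using hcop.pow_right (e - 1)
        intro x hx
        have h4 := hψ 1 ⟨x, hx⟩
        rw [h3] at h4
        simpa using h4.symm
      have h1 := CfsgLib.Critical.mulAut_eq_one (p := 2) hP C hCC β (hβo ▸ hcop) hfixC
      exact Nat.dvd_antisymm (orderOf_dvd_of_pow_eq_one h1) (hord ▸ dvd_mul_right _ _)
    exact fun α => let ⟨k, hk⟩ := hsub α; ⟨k, hk ▸ pow_orderOf_eq_one α⟩
  set D := C.map φ.toMonoidHom with hD
  have hDc : IsCyclic D :=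
    isCyclic_of_surjective (C.equivMapOfInjective φ.toMonoidHom φ.injective) (MulEquiv.surjective _)
  have hDi : D.index = 2 := by
    rw [hD, ← hCi]
    exact Subgroup.index_map_equiv C φ
  haveI hCn : C.Normal := Subgroup.normal_of_index_eq_two hCi
  haveI hDn : D.Normal := Subgroup.normal_of_index_eq_two hDi
  -- `C ⊓ D` is central of index four
  have hcentral : C ⊓ D ≤ Subgroup.center P := by
    intro z hz
    rw [Subgroup.mem_center_iff]
    intro g
    set E := Subgroup.centralizer ({z} : Set P)
    have hCE : C ≤ E := fun c hc => Subgroup.mem_centralizer_singleton_iff.mpr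
      (congrArg Subtype.val ((IsCyclic.commGroup (α := C)).mul_comm ⟨c, hc⟩ ⟨z, hz.1⟩))
    have hDE : D ≤ E := fun c hc => Subgroup.mem_centralizer_singleton_iff.mpr
      (congrArg Subtype.val ((IsCyclic.commGroup (α := D)).mul_comm ⟨c, hc⟩ ⟨z, hz.2⟩))
    have hE : E = ⊤ := by
      rw [← Subgroup.index_eq_one]
      refine ((Nat.dvd_prime Nat.prime_two).mp (hCi ▸ Subgroup.index_dvd_of_le hCE)).resolve_right ?_
      intro he
      have h1 := Subgroup.relIndex_mul_index hCE
      rw [he, hCi] at h1
      have hEC : E ≤ C := Subgroup.relIndex_eq_one.mp (by omega)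
      refine hφ (Subgroup.eq_of_le_of_card_ge (hDE.trans hEC) ?_)
      rw [hD, Subgroup.card_map_of_injective φ.injective]
    exact Subgroup.mem_centralizer_singleton_iff.mp (hE.ge (Subgroup.mem_top g))
  have hCcard : Nat.card C = 2 ^ (n - 1) := by
    have := C.card_mul_index
    rw [hCi, hn, show n = n - 1 + 1 by omega, pow_succ] at this
    omega
  have hinf : 2 ^ (n - 2) ≤ Nat.card ↥(C ⊓ D) := by
    have h2 := Subgroup.relIndex_mul_relIndex ⊥ (C ⊓ D) C bot_le inf_le_left
    rw [Subgroup.relIndex_bot_left, Subgroup.relIndex_bot_left, Subgroup.inf_relIndex_left] at h2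
    have h3 : D.relIndex C ∣ D.index := Subgroup.relIndex_dvd_index_of_normal D C
    rw [hDi] at h3
    have h4 := Nat.le_of_dvd two_pos h3
    rw [hCcard, show n - 1 = n - 2 + 1 by omega, pow_succ] at h2
    nlinarith
  have hZ := hZ2 C hCi hCc
  have hn4 : n = 3 := by
    have h1 := hinf.trans (Subgroup.card_le_of_le hcentral)
    rw [hZ] at h1
    have : n - 2 ≤ 1 := (Nat.pow_le_pow_iff_right one_lt_two).mp (h1.trans_eq (pow_one 2).symm)
    omega
  obtain ⟨c, hcgen⟩ := hCc.exists_generator
  obtain ⟨d, hdgen⟩ := hDc.exists_generator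
  have hco : orderOf (c : P) = 2 * 2 := by
    rw [Subgroup.orderOf_coe, orderOf_eq_card_of_forall_mem_zpowers hcgen, hCcard, hn4]; norm_num
  have hdo : orderOf (d : P) = 4 := by
    rw [Subgroup.orderOf_coe, orderOf_eq_card_of_forall_mem_zpowers hdgen, hD,
      Subgroup.card_map_of_injective φ.injective, hCcard, hn4]
    norm_num
  have hzc : Subgroup.zpowers (c : P) = C := le_antisymm (Subgroup.zpowers_le.mpr c.2) fun x hx => by
    obtain ⟨i, hi⟩ := Subgroup.mem_zpowers_iff.mp (hcgen ⟨x, hx⟩)
    exact Subgroup.mem_zpowers_iff.mpr ⟨i, congrArg Subtype.val hi⟩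
  have hzd : Subgroup.zpowers (d : P) = D := le_antisymm (Subgroup.zpowers_le.mpr d.2) fun x hx => by
    obtain ⟨i, hi⟩ := Subgroup.mem_zpowers_iff.mp (hdgen ⟨x, hx⟩)
    exact Subgroup.mem_zpowers_iff.mpr ⟨i, congrArg Subtype.val hi⟩
  have hdC : (d : P) ∉ Subgroup.zpowers (c : P) := fun h => hφ (by
    refine Subgroup.eq_of_le_of_card_ge ?_ (by rw [hD, Subgroup.card_map_of_injective φ.injective])
    rw [← hzd, ← hzc]
    exact Subgroup.zpowers_le.mpr h)
  -- the unique involution of each is central
  have hmem : ∀ (E : Subgroup P), E.index = 2 → ∀ x : P, x * x ∈ E := fun E hE x =>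
    (Subgroup.mul_mem_iff_of_index_two hE).mpr Iff.rfl
  have hdd : (d : P) * d ∈ Subgroup.center P :=
    hcentral ⟨hmem C hCi _, hmem D hDi _⟩
  have hcc : (c : P) * c ∈ Subgroup.center P :=
    hcentral ⟨hmem C hCi _, hmem D hDi _⟩
  have hne1 : ∀ x : P, orderOf x = 4 → x * x ≠ 1 := fun x hx e => by
    have := orderOf_dvd_of_pow_eq_one (show x ^ 2 = 1 by rw [sq, e])
    rw [hx] at this
    omega
  have heq : (d : P) * d = (c : P) ^ 2 := by
    rw [sq]
    by_contra hne'
    classical
    have h3 : ({1, (d : P) * d, (c : P) * c} : Finset P).card = 3 := by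
      rw [Finset.card_insert_of_notMem, Finset.card_pair hne']
      simp [(hne1 _ hdo).symm, (hne1 _ hco).symm]
    have h4 : ({1, (d : P) * d, (c : P) * c} : Finset P).card ≤ Nat.card (Subgroup.center P) := by
      rw [← Nat.card_eq_finsetCard]
      refine Nat.card_le_card_of_injective (fun x => (⟨x.1, ?_⟩ : Subgroup.center P)) ?_
      · have := x.2
        simp only [Finset.mem_insert, Finset.mem_singleton] at this
        rcases this with e | e | e <;> rw [e]
        exacts [one_mem _, hdd, hcc]
      · intro x y h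
        exact Subtype.ext (congrArg Subtype.val h :)
    omega
  have hdcd : (d : P) * c * (d : P)⁻¹ = (c : P)⁻¹ := by
    have hmemC : (d : P) * c * (d : P)⁻¹ ∈ Subgroup.zpowers (c : P) := by
      rw [hzc]; exact hCn.conj_mem c c.2 d
    obtain ⟨i, hi⟩ := Subgroup.mem_zpowers_iff.mp hmemC
    have hc4 : (c : P) ^ (4 : ℤ) = 1 := by
      rw [show (4 : ℤ) = ((2 * 2 : ℕ) : ℤ) by norm_num, zpow_natCast, ← hco, pow_orderOf_eq_one]
    have hi' : (c : P) ^ i = (c : P) ^ (i % 4) := by
      conv_lhs => rw [← Int.emod_add_mul_ediv i 4, zpow_add, zpow_mul, hc4, one_zpow, mul_one]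
    have hcases : i % 4 = 0 ∨ i % 4 = 1 ∨ i % 4 = 2 ∨ i % 4 = 3 := by omega
    rw [← hi, hi']
    rw [hi'] at hi
    rcases hcases with e | e | e | e <;> rw [e] at hi ⊢
    · exfalso
      rw [zpow_zero, eq_comm, conj_eq_one_iff] at hi
      rw [hi, orderOf_one] at hco
      omega
    · exfalso
      rw [zpow_one] at hi
      refine hne ?_
      have hcd : Commute (d : P) (c : P) := mul_inv_eq_iff_eq_mul.mp hi.symm
      have hall : ∀ x : P, x ∈ Subgroup.closure ({(c : P), (d : P)} : Set P) := by
        intro x
        have hCle : C ≤ Subgroup.closure ({(c : P), (d : P)} : Set P) := by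
          exact hzc.ge.trans (Subgroup.zpowers_le.mpr (Subgroup.subset_closure (Set.mem_insert _ _)))
        have hdle : (d : P) ∈ Subgroup.closure ({(c : P), (d : P)} : Set P) :=
          Subgroup.subset_closure (Set.mem_insert_of_mem _ rfl)
        by_cases hx : x ∈ C
        · exact hCle hx
        · have := (Subgroup.mul_mem_iff_of_index_two hCi (a := x) (b := (d : P)⁻¹)).mpr
            (iff_of_false hx fun h => hdC (hzc.ge (inv_mem_iff.mp h)))
          simpa using mul_mem (hCle this) hdle
      haveI : IsMulCommutative (Subgroup.closure ({(c : P), (d : P)} : Set P)) :=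
        Subgroup.isMulCommutative_closure (by
          rintro x (rfl | rfl) y (rfl | rfl)
          exacts [rfl, hcd.symm, hcd, rfl])
      rw [commutator_def, Subgroup.commutator_eq_bot_iff_le_centralizer]
      intro x _ y _
      exact congrArg Subtype.val (mul_comm' (⟨y, hall y⟩ : Subgroup.closure _) ⟨x, hall x⟩)
    · exfalso
      have h2 : ((d : P) * c * (d : P)⁻¹) ^ 2 = 1 := by
        rw [← hi, ← zpow_natCast, ← zpow_mul]
        exact hc4
      rw [conj_pow, conj_eq_one_iff, sq] at h2
      exact hne1 _ hco h2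
    · refine eq_inv_of_mul_eq_one_left ?_
      rw [← zpow_add_one]
      exact hc4
  obtain ⟨F, hFi, -⟩ := CfsgLib.Classical.exists_quaternion_hom (n := 2) hco heq hdcd hdC
  refine ⟨(MulEquiv.ofBijective F ((Nat.bijective_iff_injective_and_card F).mpr ⟨hFi, ?_⟩)).symm⟩
  rw [Nat.card_eq_fintype_card, QuaternionGroup.card, hn, hn4] <;> norm_num

end Cfsg.Agent.S4189
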