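import Cfsg.Statements.S4190
import Cfsg.Agent.Lib.ClassLower.Count
import Cfsg.Agent.Lib.ClassLower.Module
import Cfsg.Agent.Lib.Fitting.Basic

set_option autoImplicit false
set_option linter.style.haveILetI false
set_option maxHeartbeats 1000000
open Cfsg

namespace Cfsg.Agent.S4190

open CfsgLib.KR (kc)
open CfsgLib.ClassLower
open scoped commutatorElement IsMulCommutative

universe u

theorem to_real {p k a b : ℕ} (ha : 0 < a) (hp : 2 ≤ p) (h1 : 2 ^ a ≤ p ^ b) (h2 : b * p ≤ 3 * a * k) :
    (p : ℝ) / (3 * Real.logb 2 p) ≤ k := by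
  have hp' : (1 : ℝ) < p := by exact_mod_cast hp
  have hL : 0 < Real.logb 2 p := Real.logb_pos one_lt_two hp'
  have h3 : (a : ℝ) ≤ b * Real.logb 2 p := by
    have : Real.logb 2 ((2 : ℝ) ^ a) ≤ Real.logb 2 ((p : ℝ) ^ b) :=
      Real.logb_le_logb_of_le one_lt_two (by positivity) (by exact_mod_cast h1)
    rwa [Real.logb_pow, Real.logb_pow, Real.logb_self_eq_one one_lt_two, mul_one] at this
  have hb : 0 < (b : ℝ) := by
    by_contra hb
    have : (b : ℝ) = 0 := le_antisymm (not_lt.mp hb) (Nat.cast_nonneg b)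
    rw [this, zero_mul] at h3
    have : (0 : ℝ) < a := by exact_mod_cast ha
    linarith
  rw [div_le_iff₀ (by positivity)]
  have h4 : (b : ℝ) * p ≤ 3 * a * k := by exact_mod_cast h2
  have h5 : (3 : ℝ) * a * k ≤ 3 * (b * Real.logb 2 p) * k := by gcongr
  refine le_of_mul_le_mul_left ?_ hb
  calc (b : ℝ) * p ≤ 3 * (b * Real.logb 2 p) * k := h4.trans h5
    _ = _ := by ring

theorem of_product {p k X w : ℕ} (hp : 2 ≤ p) (hX : 0 < X) (h1 : 4 * w ≤ k ^ 2 * X)
    (h2 : p ^ 2 * X ≤ 36 * Nat.log 2 p ^ 2 * w) :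
    (p : ℝ) / (3 * Real.logb 2 p) ≤ k := by
  set j := Nat.log 2 p with hj
  have hj1 : 1 ≤ j := Nat.le_log_of_pow_le one_lt_two (by simpa using hp)
  have h3 : p ≤ 3 * j * k := by
    refine (Nat.pow_le_pow_iff_left two_ne_zero).mp (Nat.le_of_mul_le_mul_right ?_ hX)
    calc p ^ 2 * X ≤ 36 * j ^ 2 * w := h2
      _ = 9 * j ^ 2 * (4 * w) := by ring
      _ ≤ 9 * j ^ 2 * (k ^ 2 * X) := Nat.mul_le_mul_left _ h1
      _ = _ := by ring
  exact to_real (a := j) (b := 1) hj1 hp (by rw [pow_one]; exact Nat.pow_log_le_self 2 (by omega))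
    (by rw [one_mul]; exact h3)

theorem small_prime_ineq {p : ℕ} (h2 : 2 ≤ p) (h : p < 4096) :
    p ^ 2 ≤ 36 * Nat.log 2 p ^ 2 * (p - 1) := by
  obtain ⟨q, rfl⟩ : ∃ q, p = q + 1 := ⟨p - 1, by omega⟩
  rw [Nat.add_sub_cancel]
  have h1 : 2 ^ Nat.log 2 (q + 1) ≤ q + 1 := Nat.pow_log_le_self 2 (by omega)
  have h3 : q + 1 < 2 ^ (Nat.log 2 (q + 1) + 1) := Nat.lt_pow_succ_log_self one_lt_two _
  have h4 : Nat.log 2 (q + 1) < 12 := Nat.log_lt_of_lt_pow (by omega) (by norm_num; omega)
  have h5 : 1 ≤ Nat.log 2 (q + 1) := Nat.le_log_of_pow_le one_lt_two (by omega)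
  generalize Nat.log 2 (q + 1) = j at *
  interval_cases j <;> norm_num at h1 h3 ⊢ <;> nlinarith

theorem large_rank_ineq {p : ℕ} (hp : 114 ≤ p) : ∀ m, 2 ≤ m →
    p ^ 6 * 2 ^ (20 * (m - 1)) ≤ 648 ^ 3 * p ^ (3 * m) := by
  intro m hm
  induction m, hm using Nat.le_induction with
  | base => rw [mul_comm]; exact Nat.mul_le_mul_right _ (by norm_num)
  | succ m hm ih =>
    have h3 : 2 ^ 20 ≤ p ^ 3 := le_trans (by norm_num) (Nat.pow_le_pow_left hp 3)
    rw [show 20 * (m + 1 - 1) = 20 * (m - 1) + 20 by omega, pow_add, show 3 * (m + 1) = 3 * m + 3 by ring,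
      pow_add, ← mul_assoc, ← mul_assoc]
    exact Nat.mul_le_mul ih h3

theorem pow_twelve_le : ∀ e : ℕ, e ^ 12 ≤ 2 ^ (e + 60) := by
  intro e
  rcases Nat.lt_or_ge e 32 with h | h
  · exact (Nat.pow_le_pow_left h.le 12).trans ((by norm_num : (32 : ℕ) ^ 12 ≤ 2 ^ 60).trans
      (Nat.pow_le_pow_right two_pos (by omega)))
  · induction e, h using Nat.le_induction with
    | base => norm_num
    | succ e he ih =>
      refine Nat.le_of_mul_le_mul_left ?_ (show 0 < 32 ^ 12 by norm_num)
      calc 32 ^ 12 * (e + 1) ^ 12 = (32 * (e + 1)) ^ 12 := (mul_pow _ _ _).symm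
        _ ≤ (33 * e) ^ 12 := Nat.pow_le_pow_left (by omega) 12
        _ = 33 ^ 12 * e ^ 12 := mul_pow _ _ _
        _ ≤ (2 * 32 ^ 12) * 2 ^ (e + 60) := Nat.mul_le_mul (by norm_num) ih
        _ = 32 ^ 12 * 2 ^ (e + 1 + 60) := by rw [show e + 1 + 60 = e + 60 + 1 by omega, pow_succ]; ring

theorem large_prime_ineq {p j e D W X : ℕ} (hj : 12 ≤ j) (hp : p < 2 ^ (j + 1)) (hp' : 2 ^ j ≤ p)
    (he : 3 * j + 1 ≤ e) (hX : X ^ 3 ≤ (e ^ 2) ^ 3 * 2 ^ (20 * D)) (hD : p ^ D ≤ W) (hW : 2 ^ e ≤ W)
    (hor : D = 0 ∨ 2 ^ (2 * e) ≤ W) : p ^ 2 * X ≤ 2592 * W := by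
  refine (Nat.pow_le_pow_iff_left (show (6 : ℕ) ≠ 0 by norm_num)).mp ?_
  have key : 2 ^ (5 * e + 40 * D) ≤ W ^ 6 := by
    rcases hor with rfl | h
    · calc 2 ^ (5 * e + 40 * 0) ≤ (2 ^ e) ^ 6 := by
            rw [← pow_mul]; exact Nat.pow_le_pow_right two_pos (by omega)
        _ ≤ W ^ 6 := Nat.pow_le_pow_left hW 6
    · refine (Nat.pow_le_pow_iff_left (show (6 : ℕ) ≠ 0 by norm_num)).mp ?_
      have h12 : 2 ^ (12 * D) ≤ W := le_trans (by
        rw [pow_mul]
        exact Nat.pow_le_pow_left ((Nat.pow_le_pow_right two_pos hj).trans hp') D) hD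
      have hW1 : 1 ≤ W := (Nat.one_le_two_pow).trans hW
      calc (2 ^ (5 * e + 40 * D)) ^ 6 = (2 ^ (2 * e)) ^ 15 * (2 ^ (12 * D)) ^ 20 := by
            rw [← pow_mul, ← pow_mul, ← pow_mul, ← pow_add]; ring_nf
        _ ≤ W ^ 15 * W ^ 20 := Nat.mul_le_mul (Nat.pow_le_pow_left h _) (Nat.pow_le_pow_left h12 _)
        _ ≤ (W ^ 6) ^ 6 := by rw [← pow_add, ← pow_mul]; exact Nat.pow_le_pow_right hW1 (by norm_num)
  calc (p ^ 2 * X) ^ 6 = p ^ 12 * (X ^ 3) ^ 2 := by ring
    _ ≤ (2 ^ (j + 1)) ^ 12 * ((e ^ 2) ^ 3 * 2 ^ (20 * D)) ^ 2 :=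
        Nat.mul_le_mul (Nat.pow_le_pow_left hp.le _) (Nat.pow_le_pow_left hX _)
    _ = 2 ^ ((j + 1) * 12) * e ^ 12 * 2 ^ (40 * D) := by ring
    _ ≤ 2 ^ (4 * e + 8) * 2 ^ (e + 60) * 2 ^ (40 * D) :=
        Nat.mul_le_mul_right _ (Nat.mul_le_mul (Nat.pow_le_pow_right two_pos (by omega)) (pow_twelve_le e))
    _ = 2 ^ 68 * 2 ^ (5 * e + 40 * D) := by rw [← pow_add, ← pow_add, ← pow_add]; ring_nf
    _ ≤ 2592 ^ 6 * W ^ 6 := Nat.mul_le_mul (by norm_num) key
    _ = (2592 * W) ^ 6 := (mul_pow _ _ _).symm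

theorem pow_le_small {p : ℕ} (hp : p.Prime) (h : p ≤ 29) : 2 ^ p ≤ p ^ 6 := by
  have := hp.two_le
  interval_cases p <;> norm_num

theorem pow_le_mid {p : ℕ} (h : 29 < p) (h' : p ≤ 113) : 2 ^ p ≤ p ^ 18 := by
  interval_cases p <;> norm_num

theorem unipotent_pow {R : Type*} [Ring R] (q : ℕ) [Fact q.Prime] [CharP R q] {x : R}
    (h : IsNilpotent (x - 1)) : ∃ k, x ^ q ^ k = 1 := by
  obtain ⟨k, hk⟩ := h
  refine ⟨k, ?_⟩
  have h0 : (x - 1) ^ q ^ k = 0 :=
    pow_eq_zero_of_le (Nat.lt_pow_self (Fact.out : q.Prime).one_lt).le hk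
  rwa [sub_pow_char_pow_of_commute _ _ (Commute.one_right _), one_pow, sub_eq_zero] at h0

theorem fitting_index_dvd {X Y : Type*} [Group X] [Finite X] [Group Y] (e : X ≃* Y) :
    (Cfsg.fittingSubgroup Y).index ∣ (Cfsg.fittingSubgroup X).index := by
  haveI := CfsgLib.Fitting.fittingSubgroup_normal (G := X)
  rw [← Subgroup.index_map_equiv (Cfsg.fittingSubgroup X) e]
  refine Subgroup.index_dvd_of_le (CfsgLib.Fitting.le_fittingSubgroup
    ((inferInstance : (Cfsg.fittingSubgroup X).Normal).map _ e.surjective) ?_)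
  haveI := CfsgLib.Fitting.fittingSubgroup_isNilpotent (G := X)
  exact Group.nilpotent_of_surjective
    ((e : X →* Y).subgroupMap (Cfsg.fittingSubgroup X))
    ((e : X →* Y).subgroupMap_surjective _)

theorem min_normal {X : Type*} [Group X] [Finite X] [Group.IsSolvable X] (P : Subgroup X) [P.Normal]
    (hP : P ≠ ⊥) :
    ∃ Z : Subgroup X, Z.Normal ∧ Z ≠ ⊥ ∧ Z ≤ P ∧ (∀ K : Subgroup X, K.Normal → K ≤ Z → K = ⊥ ∨ K = Z) ∧
      ∀ a ∈ Z, ∀ b ∈ Z, a * b = b * a := by
  obtain ⟨Z, ⟨hZn, hZ, hZP⟩, hmin⟩ :=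
    (Set.toFinite {Z : Subgroup X | Z.Normal ∧ Z ≠ ⊥ ∧ Z ≤ P}).exists_minimal ⟨P, ‹_›, hP, le_rfl⟩
  haveI := hZn
  have hlt := Group.IsSolvable.commutator_lt_of_ne_bot hZ
  have hb : ⁅Z, Z⁆ = ⊥ := by
    by_contra h
    exact hlt.not_ge (hmin ⟨inferInstance, h, hlt.le.trans hZP⟩ hlt.le)
  refine ⟨Z, hZn, hZ, hZP, fun K h1 h2 => or_iff_not_imp_left.mpr fun h3 =>
    le_antisymm h2 (hmin ⟨h1, h3, h2.trans hZP⟩ h2), fun a ha b hb' => ?_⟩
  have := Subgroup.commutator_mem_commutator ha hb'
  rwa [hb, Subgroup.mem_bot, commutatorElement_eq_one_iff_mul_comm] at this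

/-- An iterated commutator series. -/
def cser {X : Type*} [Group X] (L Y : Subgroup X) : ℕ → Subgroup X
  | 0 => L
  | i + 1 => ⁅cser L Y i, Y⁆

theorem cser_mono {X : Type*} [Group X] {L M Y : Subgroup X} (h : L ≤ M) :
    ∀ i, cser L Y i ≤ cser M Y i
  | 0 => h
  | i + 1 => Subgroup.commutator_mono (cser_mono h i) le_rfl

theorem cser_succ {X : Type*} [Group X] (L Y : Subgroup X) :
    ∀ i, cser L Y (i + 1) = cser ⁅L, Y⁆ Y i
  | 0 => rfl
  | i + 1 => congrArg (fun W => ⁅W, Y⁆) (cser_succ L Y i)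

/-- The irreducible action on a minimal normal abelian subgroup. -/
theorem irr_action {X : Type*} [Group X] (V : Subgroup X) [V.Normal] (q : ℕ) [IsMulCommutative V]
    [Module (ZMod q) (Additive V)]
    (hmin : ∀ K : Subgroup X, K.Normal → K ≤ V → K = ⊥ ∨ K = V)
    (ρ : (MulAut.conjNormal : X →* MulAut V).range →* Module.End (ZMod q) (Additive V))
    (hρ : ∀ a v, ρ a (Additive.ofMul v) = Additive.ofMul ((a : MulAut V) v))
    (W : Submodule (ZMod q) (Additive V)) (hW : ∀ a, ∀ v ∈ W, ρ a v ∈ W) : W = ⊥ ∨ W = ⊤ := by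
  let K : Subgroup V := AddSubgroup.toSubgroup' W.toAddSubgroup
  have hmem : ∀ v, v ∈ K ↔ Additive.ofMul v ∈ W := fun v => Iff.rfl
  have hn : (K.map V.subtype).Normal := ⟨by
    rintro _ ⟨v, hv, rfl⟩ g
    refine ⟨MulAut.conjNormal g v, ?_, MulAut.conjNormal_apply _ _⟩
    have := hW ⟨_, ⟨g, rfl⟩⟩ _ ((hmem v).mp hv)
    rw [hρ] at this
    exact this⟩
  rcases hmin _ hn (Subgroup.map_subtype_le K) with e | e
  · left
    refine (Submodule.eq_bot_iff W).mpr fun w hw => ?_
    have : ((Additive.toMul w : V) : X) ∈ K.map V.subtype := ⟨_, hw, rfl⟩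
    rw [e, Subgroup.mem_bot, OneMemClass.coe_eq_one] at this
    exact congrArg Additive.ofMul this
  · right
    refine eq_top_iff.mpr fun w _ => ?_
    obtain ⟨v, hv, hve⟩ := (e.symm ▸ (Additive.toMul w).2 : ((Additive.toMul w : V) : X) ∈ K.map V.subtype)
    rw [Subtype.ext hve] at hv
    exact hv

/-- The conjugation representation on an abelian normal subgroup of prime exponent. -/
noncomputable def conjRep {X : Type*} [Group X] (V : Subgroup X) [V.Normal] (q : ℕ) [IsMulCommutative V]
    [Module (ZMod q) (Additive V)] :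
    (MulAut.conjNormal : X →* MulAut V).range →* Module.End (ZMod q) (Additive V) where
  toFun a := (MonoidHom.toAdditive (a : MulAut V).toMonoidHom).toZModLinearMap q
  map_one' := LinearMap.ext fun _ => rfl
  map_mul' _ _ := LinearMap.ext fun _ => rfl

theorem conjRep_injective {X : Type*} [Group X] (V : Subgroup X) [V.Normal] (q : ℕ) [IsMulCommutative V]
    [Module (ZMod q) (Additive V)] : Function.Injective (conjRep V q) := fun a b e =>
  Subtype.ext (MulEquiv.ext fun v => congrArg Additive.toMul (LinearMap.congr_fun e (Additive.ofMul v)))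

theorem core {Q : Type u} [Group Q] [Finite Q] (hQ : Group.IsSolvable Q) (p : ℕ) [hp : Fact p.Prime]
    (hdvd : p ∣ (Cfsg.fittingSubgroup Q).index)
    (hmax : ∀ (N : Subgroup Q) [N.Normal], N ≠ ⊥ → ¬ p ∣ (Cfsg.fittingSubgroup (Q ⧸ N)).index) :
    (p : ℝ) / (3 * Real.logb 2 p) ≤ kc Q := by
  classical
  haveI := hQ
  have hp2 : 2 ≤ p := hp.out.two_le
  set F := Cfsg.fittingSubgroup Q with hFdef
  haveI hFn : F.Normal := CfsgLib.Fitting.fittingSubgroup_normal
  haveI : Nontrivial Q := by
    refine Finite.one_lt_card_iff_nontrivial.mp ?_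
    have : p ∣ Nat.card Q := hdvd.trans F.index_dvd_card
    exact lt_of_lt_of_le hp2 (Nat.le_of_dvd Nat.card_pos this)
  have hk2 : 2 ≤ kc Q := by
    haveI : Finite (ConjClasses Q) := Finite.of_surjective _ ConjClasses.mk_surjective
    obtain ⟨x, hx⟩ := exists_ne (1 : Q)
    haveI : Nontrivial (ConjClasses Q) := ⟨⟨ConjClasses.mk x, ConjClasses.mk 1, fun e =>
      hx (isConj_one_left.mp (ConjClasses.mk_eq_mk_iff_isConj.mp e))⟩⟩
    exact Finite.one_lt_card
  have hFne : F ≠ ⊥ := fun e => by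
    obtain ⟨Z, hZn, hZ, -, -, hZab⟩ := min_normal (⊤ : Subgroup Q) top_ne_bot
    haveI : IsMulCommutative Z := ⟨⟨fun a b => Subtype.ext (hZab a a.2 b b.2)⟩⟩
    haveI : Group.IsNilpotent Z := inferInstance
    exact hZ (le_bot_iff.mp (e ▸ CfsgLib.Fitting.le_fittingSubgroup hZn inferInstance))
  -- a minimal normal p-subgroup of Q / F
  set B := Q ⧸ F
  have hpB : p ∣ Nat.card (Cfsg.fittingSubgroup B) := by
    have h1 := hmax F hFne
    have h2 : p ∣ (Cfsg.fittingSubgroup B).index * Nat.card (Cfsg.fittingSubgroup B) := by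
      rw [Subgroup.index_mul_card, ← Subgroup.index_eq_card]; exact hdvd
    exact (hp.out.dvd_mul.mp h2).resolve_left h1
  haveI := CfsgLib.Fitting.fittingSubgroup_normal (G := B)
  haveI := CfsgLib.Fitting.fittingSubgroup_isNilpotent (G := B)
  obtain ⟨S⟩ : Nonempty (Sylow p (Cfsg.fittingSubgroup B)) := inferInstance
  haveI hSn : (S : Subgroup (Cfsg.fittingSubgroup B)).Normal := inferInstance
  haveI := Sylow.characteristic_of_normal S hSn
  obtain ⟨Z, hZn, hZne, hZS, hZmin, hZab⟩ := min_normal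
    ((S : Subgroup (Cfsg.fittingSubgroup B)).map (Cfsg.fittingSubgroup B).subtype) (by
      rw [ne_eq, Subgroup.map_eq_bot_iff_of_injective _ (Cfsg.fittingSubgroup B).subtype_injective]
      exact S.ne_bot_of_dvd_card hpB)
  haveI := hZn
  haveI iZ : IsMulCommutative Z := ⟨⟨fun a b => Subtype.ext (hZab a a.2 b b.2)⟩⟩
  have hZp : IsPGroup p Z := (S.2.map _).to_le hZS
  have hZexp : ∀ x : Z, x ^ p = 1 := by
    let E : Subgroup B :=
      { carrier := {x | x ∈ Z ∧ x ^ p = 1}
        one_mem' := ⟨one_mem _, one_pow _⟩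
        mul_mem' := fun {a b} ha hb => ⟨mul_mem ha.1 hb.1, by
          rw [(show Commute a b from hZab a ha.1 b hb.1).mul_pow, ha.2, hb.2, one_mul]⟩
        inv_mem' := fun {a} ha => ⟨inv_mem ha.1, by rw [inv_pow, ha.2, inv_one]⟩ }
    have hEn : E.Normal := ⟨fun a ha g => ⟨hZn.conj_mem a ha.1 g, by rw [conj_pow, ha.2, mul_one, mul_inv_cancel]⟩⟩
    have hE : E = Z := by
      refine (hZmin E hEn fun a ha => ha.1).resolve_left fun e => ?_
      haveI : Nontrivial Z := (Subgroup.nontrivial_iff_ne_bot Z).mpr hZne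
      obtain ⟨k, hk, hcard⟩ := hZp.nontrivial_iff_card.mp inferInstance
      obtain ⟨x, hx⟩ := exists_prime_orderOf_dvd_card' p (hcard ▸ dvd_pow_self p hk.ne')
      have : (x : B) ∈ E := ⟨x.2, by rw [← hx, ← Subgroup.orderOf_coe, pow_orderOf_eq_one]⟩
      rw [e, Subgroup.mem_bot, OneMemClass.coe_eq_one] at this
      rw [this, orderOf_one] at hx
      exact hp.out.ne_one hx.symm
    intro x
    have hx : (x : B) ∈ E := hE.symm ▸ x.2
    exact Subtype.ext hx.2
  obtain ⟨iZm⟩ : Nonempty (Module (ZMod p) (Additive Z)) :=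
    ⟨AddCommGroup.zmodModule (fun x => hZexp (Additive.toMul x))⟩
  haveI : Finite (Additive Z) := inferInstanceAs (Finite Z)
  haveI : Module.Finite (ZMod p) (Additive Z) := Module.Finite.of_finite
  set m := Module.finrank (ZMod p) (Additive Z) with hm
  have hZcard : Nat.card Z = p ^ m := by
    have h : Nat.card (Additive Z) = Nat.card (ZMod p) ^ Module.finrank (ZMod p) (Additive Z) :=
      Module.natCard_eq_pow_finrank
    rw [Nat.card_zmod] at h
    exact (Nat.card_congr Additive.ofMul).trans h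
  haveI : Nontrivial Z := (Subgroup.nontrivial_iff_ne_bot Z).mpr hZne
  have hm1 : 1 ≤ m := by
    by_contra h
    rw [show m = 0 by omega, pow_zero] at hZcard
    have := Finite.one_lt_card_iff_nontrivial.mpr (inferInstance : Nontrivial Z)
    omega
  set A := (MulAut.conjNormal : B →* MulAut Z).range
  let φA : B →* A := (MulAut.conjNormal : B →* MulAut Z).rangeRestrict
  have hφA : Function.Surjective φA := MonoidHom.rangeRestrict_surjective _
  have hkB : kc B ≤ kc Q := CfsgLib.KR.kc_of_surjective _ (QuotientGroup.mk'_surjective F)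
  rcases Nat.lt_or_ge m 2 with hm2 | hm2
  swap
  · -- rank at least two
    haveI hAs : Group.IsSolvable A := Group.isSolvable_of_surjective hφA
    have hirr := irr_action Z p hZmin (conjRep Z p) (fun _ _ => rfl)
    have hker : φA.ker ≤ Subgroup.centralizer (Z : Set B) := fun x hx =>
      Subgroup.mem_centralizer_iff.mpr fun v hv => by
        have h := congrArg Subtype.val (DFunLike.congr_fun
          (congrArg Subtype.val (MonoidHom.mem_ker.mp hx)) (⟨v, hv⟩ : Z))
        have h' : x * v * x⁻¹ = v := (MulAut.conjNormal_apply x ⟨v, hv⟩).symm.trans h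
        calc v * x = x * v * x⁻¹ * x := by rw [h']
          _ = x * v := by group
    have hZker : Z ≤ φA.ker := fun x hx => MonoidHom.mem_ker.mpr (Subtype.ext (MulEquiv.ext fun v =>
      Subtype.ext (by
        show ((MulAut.conjNormal x v : Z) : B) = v
        rw [MulAut.conjNormal_apply, hZab x hx v v.2, mul_inv_cancel_right])))
    by_cases h113 : p ≤ 113
    · by_cases h29 : p ≤ 29
      · refine to_real (a := p) (b := 6) (by omega) hp2 ?_ (by nlinarith)
        exact pow_le_small hp.out h29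
      · have hk6 : 6 ≤ kc Q := by
          by_contra hlt
          have h1 := kc_quot_add φA hφA Z hZker hker
          have hAk : kc A < 5 := by
            by_contra hge
            have := Nat.mul_le_mul_right (Nat.card A) (show kc B ≤ kc A by omega)
            have : 900 ≤ Nat.card Z := by
              rw [hZcard]
              exact le_trans (le_trans (by norm_num) (Nat.pow_le_pow_left (show 30 ≤ p by omega) 2))
                (Nat.pow_le_pow_right (by omega) hm2)
            omega
          have h42 := (card_le_of_kc hAs).2.2.2 (by omega)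
          have h2 : kc B * Nat.card A ≤ 5 * 42 := Nat.mul_le_mul (by omega) h42
          have : 900 ≤ Nat.card Z := by
            rw [hZcard]
            exact le_trans (le_trans (by norm_num) (Nat.pow_le_pow_left (show 30 ≤ p by omega) 2))
              (Nat.pow_le_pow_right (by omega) hm2)
          omega
        refine to_real (a := p) (b := 18) (by omega) hp2 ?_ (by nlinarith)
        exact pow_le_mid (by omega) h113
    · -- the structure bound
      obtain ⟨T, C, N, -, hN, hu, hc, hb⟩ := good_finite_field (q := p) hAs (conjRep Z p)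
      have hN1 : N = ⊥ := by
        haveI := hN
        refine pgroup_eq_bot_finite (conjRep Z p) (conjRep_injective Z p) hirr N ?_
        rintro ⟨x, hx⟩
        haveI : Nontrivial (Additive Z) := inferInstance
        haveI : CharP (Module.End (ZMod p) (Additive Z)) p := charP_of_injective_algebraMap' (ZMod p) p
        obtain ⟨k, hk⟩ := unipotent_pow (R := Module.End (ZMod p) (Additive Z)) p (x := conjRep Z p x) (hu x hx)
        refine ⟨k, Subtype.ext (conjRep_injective Z p ?_)⟩
        show conjRep Z p (x ^ p ^ k) = conjRep Z p 1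
        rw [map_pow, map_one, hk]
      have h1 := four_mul_le φA hφA Z hZker hker T C fun t ht c hc' =>
        commutatorElement_eq_one_iff_mul_comm.mp (Subgroup.mem_bot.mp (hN1 ▸ hc t ht c hc'))
      rw [hZcard] at h1
      have hX : 0 < C.index * T.index :=
        Nat.mul_pos (Nat.pos_of_ne_zero C.index_ne_zero_of_finite)
          (Nat.pos_of_ne_zero T.index_ne_zero_of_finite)
      refine of_product hp2 hX (h1.trans (Nat.mul_le_mul_right _ (Nat.pow_le_pow_left hkB 2))) ?_
      have hj : 6 ≤ Nat.log 2 p := Nat.le_log_of_pow_le one_lt_two (by omega)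
      have hpm : p ^ m ≤ 2 * (p ^ m - 1) := by
        have : 2 ≤ p ^ m := hp2.trans (Nat.le_self_pow (by omega) p)
        omega
      refine le_trans ?_ (show 648 * p ^ m ≤ 36 * Nat.log 2 p ^ 2 * (p ^ m - 1) from ?_)
      · refine (Nat.pow_le_pow_iff_left (show (3 : ℕ) ≠ 0 by norm_num)).mp ?_
        calc (p ^ 2 * (C.index * T.index)) ^ 3 = p ^ 6 * (C.index * T.index) ^ 3 := by ring
          _ ≤ p ^ 6 * 2 ^ (20 * (m - 1)) := Nat.mul_le_mul_left _ hb
          _ ≤ 648 ^ 3 * p ^ (3 * m) := large_rank_ineq (by omega) m hm2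
          _ = _ := by rw [mul_pow, ← pow_mul, mul_comm 3 m]
      · calc 648 * p ^ m ≤ 648 * (2 * (p ^ m - 1)) := Nat.mul_le_mul_left _ hpm
          _ = 36 * 6 ^ 2 * (p ^ m - 1) := by ring
          _ ≤ _ := Nat.mul_le_mul_right _ (Nat.mul_le_mul_left _ (Nat.pow_le_pow_left hj 2))
  · -- a normal subgroup of prime order
    have hm' : m = 1 := by omega
    rw [hm', pow_one] at hZcard
    set Y := Z.comap (QuotientGroup.mk' F) with hY
    haveI hYn : Y.Normal := hZn.comap _
    have hFY : F ≤ Y := fun x hx => Subgroup.mem_comap.mpr (by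
      rw [QuotientGroup.mk'_apply, (QuotientGroup.eq_one_iff x).mpr hx]; exact one_mem _)
    have hYF : ¬ Y ≤ F := fun h => hZne (le_bot_iff.mp fun b hb => by
      obtain ⟨y, rfl⟩ := QuotientGroup.mk'_surjective F b
      exact Subgroup.mem_bot.mpr ((QuotientGroup.eq_one_iff y).mpr (h (Subgroup.mem_comap.mpr hb))))
    have hYY : ⁅Y, Y⁆ ≤ F := Subgroup.commutator_le.mpr fun a ha b hb => by
      rw [← QuotientGroup.eq_one_iff]
      show QuotientGroup.mk' F ⁅a, b⁆ = 1
      rw [map_commutatorElement, commutatorElement_eq_one_iff_mul_comm]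
      exact hZab _ ha _ hb
    have hbad : ¬ ∃ c, cser F Y c = ⊥ := by
      rintro ⟨c, hc⟩
      refine hYF (CfsgLib.Fitting.le_fittingSubgroup hYn ?_)
      refine Subgroup.nilpotent_iff_lowerCentralSeries.mpr ⟨c + 1, ?_⟩
      have key : ∀ i, Y.lowerCentralSeries (i + 1) ≤ cser F Y i := by
        intro i
        induction i with
        | zero => rw [Subgroup.lowerCentralSeries_succ, Subgroup.lowerCentralSeries_zero]; exact hYY
        | succ i ih => rw [Subgroup.lowerCentralSeries_succ]; exact Subgroup.commutator_mono ih le_rfl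
      refine Subgroup.map_injective Y.subtype_injective ?_
      rw [Subgroup.map_lowerCentralSeries, ← MonoidHom.range_eq_map, Subgroup.range_subtype,
        Subgroup.map_bot]
      exact le_bot_iff.mp ((key c).trans hc.le)
    obtain ⟨L, ⟨hLn, hLF, hLbad⟩, hLmin⟩ :=
      (Set.toFinite {L : Subgroup Q | L.Normal ∧ L ≤ F ∧ ¬ ∃ c, cser L Y c = ⊥}).exists_minimal
        ⟨F, hFn, le_rfl, hbad⟩
    haveI := hLn
    have hLne : L ≠ ⊥ := fun e => hLbad ⟨0, e⟩
    obtain ⟨M, ⟨hMn, hML⟩, hMmax⟩ :=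
      (Set.toFinite {M : Subgroup Q | M.Normal ∧ M < L}).exists_maximal
        ⟨⊥, inferInstance, bot_lt_iff_ne_bot.mpr hLne⟩
    haveI := hMn
    have hMgood : ∃ c, cser M Y c = ⊥ := by
      by_contra h
      exact hML.not_ge (hLmin ⟨hMn, hML.le.trans hLF, h⟩ hML.le)
    have hnc : ¬ ⁅L, Y⁆ ≤ M := fun h => by
      obtain ⟨c, hc⟩ := hMgood
      exact hLbad ⟨c + 1, le_bot_iff.mp (by rw [cser_succ]; exact (cser_mono h c).trans hc.le)⟩
    -- the chief factor
    set G' := Q ⧸ M
    let π := QuotientGroup.mk' M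
    set V : Subgroup G' := L.map π with hV
    haveI hVn : V.Normal := hLn.map _ (QuotientGroup.mk'_surjective M)
    have hVne : V ≠ ⊥ := fun e => hML.not_ge (by
      rwa [hV, Subgroup.map_eq_bot_iff, QuotientGroup.ker_mk'] at e)
    have hVmin : ∀ K : Subgroup G', K.Normal → K ≤ V → K = ⊥ ∨ K = V := by
      intro K hK hKV
      have h1 : M ≤ K.comap π := fun x hx => Subgroup.mem_comap.mpr (by
        rw [QuotientGroup.mk'_apply, (QuotientGroup.eq_one_iff x).mpr hx]; exact one_mem _)
      have h2 : K.comap π ≤ L := fun x hx => by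
        obtain ⟨l, hl, hle⟩ := hKV hx
        have : x⁻¹ * l ∈ M := QuotientGroup.eq.mp hle.symm
        have hxl : x⁻¹ ∈ L := by
          have := mul_mem (hML.le this) (inv_mem hl)
          rwa [mul_inv_cancel_right] at this
        exact inv_mem_iff.mp hxl
      rcases lt_or_eq_of_le h2 with h | h
      · left
        have h3 : K.comap π = M := le_antisymm (hMmax ⟨hK.comap _, h⟩ h1) h1
        rw [← Subgroup.map_comap_eq_self_of_surjective (QuotientGroup.mk'_surjective M) K, h3,
          Subgroup.map_eq_bot_iff, QuotientGroup.ker_mk']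
      · right
        rw [← Subgroup.map_comap_eq_self_of_surjective (QuotientGroup.mk'_surjective M) K, h, hV]
    haveI : Group.IsSolvable G' := Group.isSolvable_of_surjective (QuotientGroup.mk'_surjective M)
    have hVab : ∀ a ∈ V, ∀ b ∈ V, a * b = b * a := by
      have hlt := Group.IsSolvable.commutator_lt_of_ne_bot hVne
      have hb : ⁅V, V⁆ = ⊥ := (hVmin _ inferInstance hlt.le).resolve_right hlt.ne
      intro a ha b hb'
      have := Subgroup.commutator_mem_commutator ha hb'
      rwa [hb, Subgroup.mem_bot, commutatorElement_eq_one_iff_mul_comm] at this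
    haveI iV : IsMulCommutative V := ⟨⟨fun a b => Subtype.ext (hVab a a.2 b b.2)⟩⟩
    haveI : Nontrivial V := (Subgroup.nontrivial_iff_ne_bot V).mpr hVne
    obtain ⟨q, hq, hqdvd⟩ := Nat.exists_prime_and_dvd
      (Finite.one_lt_card_iff_nontrivial.mpr (inferInstance : Nontrivial V)).ne'
    haveI : Fact q.Prime := ⟨hq⟩
    have hVexp : ∀ x : V, x ^ q = 1 := by
      let E : Subgroup G' :=
        { carrier := {x | x ∈ V ∧ x ^ q = 1}
          one_mem' := ⟨one_mem _, one_pow _⟩
          mul_mem' := fun {a b} ha hb => ⟨mul_mem ha.1 hb.1, by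
            rw [(show Commute a b from hVab a ha.1 b hb.1).mul_pow, ha.2, hb.2, one_mul]⟩
          inv_mem' := fun {a} ha => ⟨inv_mem ha.1, by rw [inv_pow, ha.2, inv_one]⟩ }
      have hEn : E.Normal :=
        ⟨fun a ha g => ⟨hVn.conj_mem a ha.1 g, by rw [conj_pow, ha.2, mul_one, mul_inv_cancel]⟩⟩
      have hE : E = V := by
        refine (hVmin E hEn fun a ha => ha.1).resolve_left fun e => ?_
        obtain ⟨x, hx⟩ := exists_prime_orderOf_dvd_card' q hqdvd
        have : (x : G') ∈ E := ⟨x.2, by rw [← hx, ← Subgroup.orderOf_coe, pow_orderOf_eq_one]⟩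
        rw [e, Subgroup.mem_bot, OneMemClass.coe_eq_one] at this
        rw [this, orderOf_one] at hx
        exact hq.ne_one hx.symm
      intro x
      have hx : (x : G') ∈ E := hE.symm ▸ x.2
      exact Subtype.ext hx.2
    obtain ⟨iVm⟩ : Nonempty (Module (ZMod q) (Additive V)) :=
      ⟨AddCommGroup.zmodModule (fun x => hVexp (Additive.toMul x))⟩
    haveI : Finite (Additive V) := inferInstanceAs (Finite V)
    set H := (MulAut.conjNormal : G' →* MulAut V).range
    let φ : G' →* H := (MulAut.conjNormal : G' →* MulAut V).rangeRestrict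
    have hφ : Function.Surjective φ := MonoidHom.rangeRestrict_surjective _
    have hHs : Group.IsSolvable H := Group.isSolvable_of_surjective hφ
    have hker : ∀ x, x ∈ φ.ker ↔ ∀ v ∈ V, v * x = x * v := fun x => by
      rw [MonoidHom.mem_ker]
      constructor
      · intro h v hv
        have h1 := congrArg Subtype.val (DFunLike.congr_fun (congrArg Subtype.val h) (⟨v, hv⟩ : V))
        have h' : x * v * x⁻¹ = v := (MulAut.conjNormal_apply x ⟨v, hv⟩).symm.trans h1
        calc v * x = x * v * x⁻¹ * x := by rw [h']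
          _ = x * v := by group
      · intro h
        refine Subtype.ext (MulEquiv.ext fun v => Subtype.ext ?_)
        show ((MulAut.conjNormal x v : V) : G') = v
        rw [MulAut.conjNormal_apply, ← h v v.2, mul_inv_cancel_right]
    have hkerC : φ.ker ≤ Subgroup.centralizer (V : Set G') := fun x hx =>
      Subgroup.mem_centralizer_iff.mpr ((hker x).mp hx)
    have hVker : V ≤ φ.ker := fun x hx => (hker x).mpr fun v hv => hVab v hv x hx
    -- the Fitting subgroup centralizes the chief factor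
    have hFV : ⁅V, F.map π⁆ = ⊥ := by
      haveI : (F.map π).Normal := hFn.map _ (QuotientGroup.mk'_surjective M)
      have hVF : V ≤ F.map π := Subgroup.map_mono hLF
      refine (hVmin _ inferInstance (Subgroup.commutator_le_left _ _)).resolve_right fun e => hVne ?_
      obtain ⟨n, hn⟩ := Subgroup.nilpotent_iff_lowerCentralSeries.mp
        (CfsgLib.Fitting.fittingSubgroup_isNilpotent (G := Q))
      have hle : ∀ i, V ≤ (F.map π).lowerCentralSeries i := by
        intro i
        induction i with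
        | zero => rw [Subgroup.lowerCentralSeries_zero]; exact hVF
        | succ i ih => rw [Subgroup.lowerCentralSeries_succ, ← e]; exact Subgroup.commutator_mono ih le_rfl
      have hn' := congrArg (Subgroup.map (π.comp F.subtype)) hn
      rw [Subgroup.map_lowerCentralSeries, Subgroup.map_bot, ← Subgroup.map_map,
        ← MonoidHom.range_eq_map, Subgroup.range_subtype] at hn'
      exact le_bot_iff.mp ((hle n).trans hn'.le)
    let ψ : Q →* H := φ.comp π
    have hψ : Function.Surjective ψ := hφ.comp (QuotientGroup.mk'_surjective M)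
    have hFψ : F ≤ ψ.ker := fun x hx => MonoidHom.mem_ker.mpr (MonoidHom.mem_ker.mp ((hker _).mpr fun v hv => by
      have := Subgroup.commutator_mem_commutator hv (Subgroup.mem_map_of_mem π hx)
      rwa [hFV, Subgroup.mem_bot, commutatorElement_eq_one_iff_mul_comm] at this))
    let χ : B →* H := QuotientGroup.lift F ψ hFψ
    have hYZ : Y.map ψ = Z.map χ := by
      refine le_antisymm ?_ ?_
      · rintro _ ⟨y, hy, rfl⟩
        exact ⟨QuotientGroup.mk' F y, hy, rfl⟩
      · rintro _ ⟨b, hb, rfl⟩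
        obtain ⟨y, rfl⟩ := QuotientGroup.mk'_surjective F b
        exact ⟨y, hb, rfl⟩
    have hYne : Y.map ψ ≠ ⊥ := fun e => hnc (Subgroup.commutator_le.mpr fun l hl y hy => by
      have h1 : ψ y = 1 := Subgroup.mem_bot.mp (e ▸ Subgroup.mem_map_of_mem ψ hy)
      have h2 := (hker _).mp (MonoidHom.mem_ker.mpr h1) (π l) (Subgroup.mem_map_of_mem π hl)
      rw [← QuotientGroup.eq_one_iff]
      show π ⁅l, y⁆ = 1
      rw [map_commutatorElement, commutatorElement_eq_one_iff_mul_comm]
      exact h2)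
    have hYcard : Nat.card (Y.map ψ) = p := by
      have h1 : Nat.card (Y.map ψ) ∣ p := by
        rw [hYZ, ← hZcard]
        exact Subgroup.card_map_dvd _ _
      rcases (Nat.dvd_prime hp.out).mp h1 with h | h
      · exact absurd (Subgroup.card_eq_one.mp h) hYne
      · exact h
    obtain ⟨⟨z, hzmem⟩, hz1'⟩ := Subgroup.ne_bot_iff_exists_ne_one.mp hYne
    have hz1 : z ≠ 1 := fun e => hz1' (Subtype.ext e)
    have hzord : orderOf z = p := by
      have h1 := orderOf_dvd_natCard (⟨z, hzmem⟩ : Y.map ψ)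
      rw [hYcard] at h1
      rcases (Nat.dvd_prime hp.out).mp h1 with h | h
      · exact absurd (congrArg Subtype.val (orderOf_eq_one_iff.mp h)) hz1
      · exact (Subgroup.orderOf_coe (⟨z, hzmem⟩ : Y.map ψ)).trans h
    have hzp : Subgroup.zpowers z = Y.map ψ := by
      refine Subgroup.eq_of_le_of_card_ge (Subgroup.zpowers_le.mpr hzmem) ?_
      rw [Nat.card_zpowers, hzord, hYcard]
    have hzn : (Subgroup.zpowers z).Normal := hzp ▸ hYn.map _ hψ
    set e := (Subgroup.centralizer ({z} : Set H)).index with he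
    have he0 : 0 < e := Nat.pos_of_ne_zero Subgroup.index_ne_zero_of_finite
    have hkG : kc G' ≤ kc Q := CfsgLib.KR.kc_of_surjective _ (QuotientGroup.mk'_surjective M)
    -- classes of H
    have hke : e * e + (p - 1) ≤ kc Q * e := by
      set H1 := Subgroup.centralizer ({z} : Set H) with hH1
      haveI := hzn
      have hH1' : H1 = Subgroup.centralizer (Subgroup.zpowers z : Set H) := by
        rw [hH1, Subgroup.zpowers_eq_closure, Subgroup.centralizer_closure]
      haveI : H1.Normal := by rw [hH1']; infer_instance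
      have hcomm : ∀ a b : H ⧸ H1, a * b = b * a := by
        intro a b
        obtain ⟨x, rfl⟩ := QuotientGroup.mk'_surjective H1 a
        obtain ⟨y, rfl⟩ := QuotientGroup.mk'_surjective H1 b
        refine commutatorElement_eq_one_iff_mul_comm.mp ?_
        rw [← map_commutatorElement]
        refine (QuotientGroup.eq_one_iff _).mpr (Subgroup.mem_centralizer_singleton_iff.mpr ?_)
        have hexp : ∀ h : H, ∃ i : ℤ, h * z * h⁻¹ = z ^ i := fun h => by
          obtain ⟨i, hi⟩ := Subgroup.mem_zpowers_iff.mp (hzn.conj_mem z (Subgroup.mem_zpowers z) h)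
          exact ⟨i, hi.symm⟩
        obtain ⟨i, hi⟩ := hexp x
        obtain ⟨j, hj⟩ := hexp y
        have hxy : x * y * z * (x * y)⁻¹ = z ^ (i * j) := by
          rw [zpow_mul, ← hi, ← MulAut.conj_apply x z, ← map_zpow, ← hj, MulAut.conj_apply]; group
        have hyx : y * x * z * (y * x)⁻¹ = z ^ (i * j) := by
          rw [mul_comm i j, zpow_mul, ← hj, ← MulAut.conj_apply y z, ← map_zpow, ← hi, MulAut.conj_apply]; group
        have hw : ⁅x, y⁆ = (x * y) * (y * x)⁻¹ := by rw [commutatorElement_def]; group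
        rw [hw]
        calc x * y * (y * x)⁻¹ * z = (x * y) * ((y * x)⁻¹ * z * (y * x)) * (y * x)⁻¹ := by group
          _ = (x * y) * ((y * x)⁻¹ * z * (y * x)) * (x * y)⁻¹ * ((x * y) * (y * x)⁻¹) := by group
          _ = z * (x * y * (y * x)⁻¹) := ?_
        congr 1
        have h3 : ∀ w : H, w ∈ Subgroup.zpowers z → (x * y) * w * (x * y)⁻¹ = (y * x) * w * (y * x)⁻¹ := by
          rintro w ⟨k, rfl⟩
          show (x * y) * z ^ k * (x * y)⁻¹ = (y * x) * z ^ k * (y * x)⁻¹
          rw [← conj_zpow, ← conj_zpow, hxy, hyx]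
        rw [h3 _ (by simpa [mul_inv_rev, mul_assoc] using hzn.conj_mem z (Subgroup.mem_zpowers z) (y * x)⁻¹)]
        group
      have h1 := kc_quot_add (QuotientGroup.mk' H1) (QuotientGroup.mk'_surjective H1)
        (Subgroup.zpowers z) (by
          rw [QuotientGroup.ker_mk', Subgroup.zpowers_le]
          exact Subgroup.mem_centralizer_singleton_iff.mpr rfl)
        (by rw [QuotientGroup.ker_mk', hH1'])
      have h2 : kc (H ⧸ H1) = Nat.card (H ⧸ H1) := by
        refine le_antisymm (CfsgLib.KR.kc_le_card _) ?_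
        haveI : Finite (ConjClasses (H ⧸ H1)) := Finite.of_surjective _ ConjClasses.mk_surjective
        refine Nat.card_le_card_of_injective ConjClasses.mk fun a b hab => ?_
        obtain ⟨c, hc⟩ := isConj_iff.mp (ConjClasses.mk_eq_mk_iff_isConj.mp hab)
        rw [← hc, hcomm c a, mul_inv_cancel_right]
      rw [h2, ← Subgroup.index_eq_card, Nat.card_zpowers, hzord] at h1
      exact h1.trans (Nat.mul_le_mul_right _ ((CfsgLib.KR.kc_of_surjective φ hφ).trans hkG))
    by_cases hsmall : p < 4096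
    · refine of_product (X := 1) (w := p - 1) hp2 one_pos ?_ ?_
      · rw [mul_one]
        refine Nat.le_of_mul_le_mul_right ?_ (Nat.pow_pos (n := 2) he0)
        calc 4 * (p - 1) * e ^ 2 = 4 * (e * e) * (p - 1) := by ring
          _ ≤ (e * e + (p - 1)) ^ 2 := four_mul_le_sq_add _ _
          _ ≤ (kc Q * e) ^ 2 := Nat.pow_le_pow_left hke 2
          _ = _ := by ring
      · rw [mul_one]; exact small_prime_ineq hp2 hsmall
    set j := Nat.log 2 p with hj
    have hj12 : 12 ≤ j := Nat.le_log_of_pow_le one_lt_two (by omega)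
    by_cases hej : e ≤ 3 * j
    · refine to_real (a := j) (b := 1) (by omega) hp2 ?_ ?_
      · rw [pow_one]; exact Nat.pow_log_le_self 2 (by omega)
      · rw [one_mul]
        calc p ≤ e * e + (p - 1) := by nlinarith [Nat.sub_add_cancel (show 1 ≤ p by omega)]
          _ ≤ kc Q * e := hke
          _ ≤ 3 * j * kc Q := by rw [mul_comm]; exact Nat.mul_le_mul_right _ hej
    obtain ⟨T, C, D, hTC, hX, hD, hW, hor⟩ := prime_module (q := q) hHs (conjRep V q) (conjRep_injective V q)
      (irr_action V q hVmin (conjRep V q) (fun _ _ => rfl)) z hzord hzn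
    have h1 := four_mul_le φ hφ V hVker hkerC T C hTC
    have hXpos : 0 < C.index * T.index :=
      Nat.mul_pos (Nat.pos_of_ne_zero C.index_ne_zero_of_finite)
        (Nat.pos_of_ne_zero T.index_ne_zero_of_finite)
    refine of_product hp2 hXpos (h1.trans (Nat.mul_le_mul_right _ (Nat.pow_le_pow_left hkG 2))) ?_
    have hcardA : Nat.card (Additive V) = Nat.card V := (Nat.card_congr Additive.ofMul).symm
    rw [hcardA] at hD hW hor
    refine (large_prime_ineq hj12 (Nat.lt_pow_succ_log_self one_lt_two p) (Nat.pow_log_le_self 2 (by omega))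
      (by omega) hX hD hW hor).trans ?_
    have hV2 : Nat.card V ≤ 2 * (Nat.card V - 1) := by
      have := Finite.one_lt_card_iff_nontrivial.mpr (inferInstance : Nontrivial V)
      omega
    calc 2592 * Nat.card V ≤ 2592 * (2 * (Nat.card V - 1)) := Nat.mul_le_mul_left _ hV2
      _ = 36 * 12 ^ 2 * (Nat.card V - 1) := by ring
      _ ≤ _ := Nat.mul_le_mul_right _ (Nat.mul_le_mul_left _ (Nat.pow_le_pow_left hj12 2))


/-- Let G be a finite solvable group and p a prime dividing the index of the Fitting subgroup of G. Then the number of conjugacy classes of G is at least p/(3·log₂ p). -/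
theorem result {G : Type*} [Group G] [Finite G] (hG : Group.IsSolvable G) (p : ℕ) [Fact p.Prime] (hp : p ∣ (Cfsg.fittingSubgroup G).index) : (p : ℝ) / (3 * Real.logb 2 p) ≤ Nat.card (ConjClasses G) := by
  haveI := hG
  classical
  obtain ⟨N, ⟨hNn, hN⟩, hNmax⟩ := (Set.toFinite {N : Subgroup G | ∃ h : N.Normal,
      haveI := h; p ∣ (Cfsg.fittingSubgroup (G ⧸ N)).index}).exists_maximal ⟨⊥, inferInstance, by
    exact hp.trans (fitting_index_dvd (QuotientGroup.quotientBot (G := G)))⟩
  haveI := hNn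
  refine (core inferInstance p hN ?_).trans ?_
  · intro K hKn hK hdiv
    set M := K.comap (QuotientGroup.mk' N) with hM
    haveI : M.Normal := hKn.comap _
    have hNM : N ≤ M := fun x hx => Subgroup.mem_comap.mpr (by
      rw [QuotientGroup.mk'_apply, (QuotientGroup.eq_one_iff x).mpr hx]; exact one_mem _)
    have hMK : M.map (QuotientGroup.mk' N) = K :=
      Subgroup.map_comap_eq_self_of_surjective (QuotientGroup.mk'_surjective N) K
    haveI : (M.map (QuotientGroup.mk' N)).Normal := hMK.symm ▸ hKn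
    have e : G ⧸ M ≃* (G ⧸ N) ⧸ K := ((QuotientGroup.quotientMulEquivOfEq hMK.symm).trans
      (QuotientGroup.quotientQuotientEquivQuotient N M hNM)).symm
    have h2 : M ≤ N := hNmax ⟨inferInstance, hdiv.trans (fitting_index_dvd e)⟩ hNM
    refine hK (le_bot_iff.mp fun x hx => ?_)
    obtain ⟨y, rfl⟩ := QuotientGroup.mk'_surjective N x
    exact Subgroup.mem_bot.mpr ((QuotientGroup.eq_one_iff y).mpr (h2 (Subgroup.mem_comap.mpr hx)))
  · exact_mod_cast CfsgLib.KR.kc_of_surjective (QuotientGroup.mk' N) (QuotientGroup.mk'_surjective N)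

end Cfsg.Agent.S4190
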