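import Cfsg.Statements.S4192
import Cfsg.Agent.Lib.RealClassGraph.Structure

set_option autoImplicit false
open Cfsg

namespace Cfsg.Agent.S4192

/-- Let G be a finite group; call an element real when it is conjugate to its inverse, and say that the real-class-size graph of a group is disconnected when the primes dividing its real class sizes split into two non-empty disjoint parts with no real class size divisible by a prime from each part. If the real-class-size graph of G is disconnected, then some real class size of G is even, and either the Sylow 2-subgroups of G are normal, or the subgroup K generated by the 2-elements of G (the smallest normal subgroup of odd index) again has a disconnected real-class-size graph and every real class size of K is odd or a power of 2. -/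
theorem result {G : Type*} [Group G] [Finite G] (h : (∃ π₁ π₂ : Set ℕ, π₁.Nonempty ∧ π₂.Nonempty ∧ Disjoint π₁ π₂ ∧ (∀ q ∈ π₁ ∪ π₂, q.Prime ∧ ∃ n ∈ {n : ℕ | ∃ x : G, IsConj x x⁻¹ ∧ (Subgroup.centralizer ({x} : Set G)).index = n}, q ∣ n) ∧ (∀ q : ℕ, q.Prime → (∃ n ∈ {n : ℕ | ∃ x : G, IsConj x x⁻¹ ∧ (Subgroup.centralizer ({x} : Set G)).index = n}, q ∣ n) → q ∈ π₁ ∨ q ∈ π₂) ∧ ∀ a ∈ π₁, ∀ b ∈ π₂, ∀ n ∈ {n : ℕ | ∃ x : G, IsConj x x⁻¹ ∧ (Subgroup.centralizer ({x} : Set G)).index = n}, ¬ (a ∣ n ∧ b ∣ n))) : (∃ n ∈ {n : ℕ | ∃ x : G, IsConj x x⁻¹ ∧ (Subgroup.centralizer ({x} : Set G)).index = n}, 2 ∣ n) ∧ ((∀ P : Sylow 2 G, (P : Subgroup G).Normal) ∨ ((∃ π₁ π₂ : Set ℕ, π₁.Nonempty ∧ π₂.Nonempty ∧ Disjoint π₁ π₂ ∧ (∀ q ∈ π₁ ∪ π₂, q.Prime ∧ ∃ n ∈ {n : ℕ | ∃ x : ↥(Subgroup.closure {g : G | ∃ k : ℕ, orderOf g = 2 ^ k}), IsConj x x⁻¹ ∧ (Subgroup.centralizer ({x} : Set ↥(Subgroup.closure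 {g : G | ∃ k : ℕ, orderOf g = 2 ^ k}))).index = n}, q ∣ n) ∧ (∀ q : ℕ, q.Prime → (∃ n ∈ {n : ℕ | ∃ x : ↥(Subgroup.closure {g : G | ∃ k : ℕ, orderOf g = 2 ^ k}), IsConj x x⁻¹ ∧ (Subgroup.centralizer ({x} : Set ↥(Subgroup.closure {g : G | ∃ k : ℕ, orderOf g = 2 ^ k}))).index = n}, q ∣ n) → q ∈ π₁ ∨ q ∈ π₂) ∧ ∀ a ∈ π₁, ∀ b ∈ π₂, ∀ n ∈ {n : ℕ | ∃ x : ↥(Subgroup.closure {g : G | ∃ k : ℕ, orderOf g = 2 ^ k}), IsConj x x⁻¹ ∧ (Subgroup.centralizer ({x} : Set ↥(Subgroup.closure {g : G | ∃ k : ℕ, orderOf g = 2 ^ k}))).index = n}, ¬ (a ∣ n ∧ b ∣ n)) ∧ ∀ n ∈ {n : ℕ | ∃ x : ↥(Subgroup.closure {g : G | ∃ k : ℕ, orderOf g = 2 ^ k}), IsConj x x⁻¹ ∧ (Subgroup.centralizer ({x} : Set ↥(Subgroup.closure {g : G | ∃ k : ℕ, orderOf g = 2 ^ k}))).index = n}, Odd n ∨ ∃ j : ℕ, n = 2 ^ j)) := by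
  classical
  obtain ⟨π₁, π₂, h₁, h₂, hdisj, hsub, hcover, hnoedge⟩ := h
  haveI : Fact (Nat.Prime 2) := ⟨Nat.prime_two⟩
  have hmem : ∀ y : G, CfsgLib.RealClassGraph.IsReal y →
      (Subgroup.centralizer ({y} : Set G)).index ∈
        {n : ℕ | ∃ x : G, IsConj x x⁻¹ ∧ (Subgroup.centralizer ({x} : Set G)).index = n} :=
    fun y hy => ⟨y, (CfsgLib.RealClassGraph.isReal_iff_isConj y).mp hy, rfl⟩
  have hex : ∀ q ∈ π₁ ∪ π₂, q.Prime ∧ ∃ y : G, CfsgLib.RealClassGraph.IsReal y ∧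
      q ∣ (Subgroup.centralizer ({y} : Set G)).index := fun q hq => by
    obtain ⟨hqp, _, ⟨y, hy, rfl⟩, hqd⟩ := hsub q hq
    exact ⟨hqp, y, (CfsgLib.RealClassGraph.isReal_iff_isConj y).mpr hy, hqd⟩
  have h2ex : ∃ y : G, CfsgLib.RealClassGraph.IsReal y ∧
      2 ∣ (Subgroup.centralizer ({y} : Set G)).index := by
    by_contra hno
    push Not at hno
    obtain ⟨a, ha⟩ := h₁
    obtain ⟨b, hb⟩ := h₂
    obtain ⟨hap, u, hu, hau⟩ := hex a (Or.inl ha)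
    obtain ⟨hbp, v, hv, hbv⟩ := hex b (Or.inr hb)
    exact CfsgLib.RealClassGraph.false_of_all_odd hno
      (fun a ha b hb x hx => hnoedge a ha b hb _ (hmem x hx))
      (fun p hp ⟨x, hx, hd⟩ => hcover p hp ⟨_, hmem x hx, hd⟩) hu hv hap hbp ha hau hb hbv
  obtain ⟨y₂, hy₂, hy₂d⟩ := h2ex
  refine ⟨⟨_, hmem y₂ hy₂, hy₂d⟩, ?_⟩
  by_cases hnorm : ∀ P : Sylow 2 G, (P : Subgroup G).Normal
  · exact Or.inl hnorm
  refine Or.inr ?_
  have hns : ∀ P : Sylow 2 G, ¬ (P : Subgroup G).Normal := fun P hP => hnorm fun Q => by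
    haveI := Sylow.unique_of_normal P hP
    rwa [Subsingleton.elim Q P]
  have main : ∀ π π' : Set ℕ, π.Nonempty → 2 ∉ π → π ⊆ π₁ ∪ π₂ →
      (∀ q : ℕ, q.Prime → (∃ y : G, CfsgLib.RealClassGraph.IsReal y ∧
        q ∣ (Subgroup.centralizer ({y} : Set G)).index) → q ∈ π ∨ q ∈ π') →
      (∀ a ∈ π, ∀ b ∈ π', ∀ y : G, CfsgLib.RealClassGraph.IsReal y →
        ¬ (a ∣ (Subgroup.centralizer ({y} : Set G)).index ∧
          b ∣ (Subgroup.centralizer ({y} : Set G)).index)) → CfsgLib.RealClassGraph.Split π G := by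
    intro π π' hπ h2n hsubπ hcov hno
    refine ⟨h2n, ?_, ?_⟩
    · intro y hy hyf p hp hpd
      by_contra hpπ
      apply hyf
      intro q _ hqπ hqd
      exact hno q hqπ p ((hcov p hp ⟨y, hy, hpd⟩).resolve_left hpπ) y hy ⟨hqd, hpd⟩
    · obtain ⟨q, hq⟩ := hπ
      obtain ⟨hqp, y, hy, hqd⟩ := hex q (hsubπ hq)
      exact ⟨y, hy, fun hf => hf q hqp hq hqd⟩
  obtain ⟨π, hsplit⟩ : ∃ π : Set ℕ, CfsgLib.RealClassGraph.Split π G := by
    rcases hcover 2 Nat.prime_two ⟨_, hmem y₂ hy₂, hy₂d⟩ with h | h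
    · exact ⟨π₂, main π₂ π₁ h₂ (Set.disjoint_left.mp hdisj h) Set.subset_union_right
        (fun q hq ⟨y, hy, hd⟩ => (hcover q hq ⟨_, hmem y hy, hd⟩).symm)
        (fun a ha b hb y hy hab => hnoedge b hb a ha _ (hmem y hy) ⟨hab.2, hab.1⟩)⟩
    · exact ⟨π₁, main π₁ π₂ h₁ (Set.disjoint_right.mp hdisj h) Set.subset_union_left
        (fun q hq ⟨y, hy, hd⟩ => hcover q hq ⟨_, hmem y hy, hd⟩)
        (fun a ha b hb y hy => hnoedge a ha b hb _ (hmem y hy))⟩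
  obtain ⟨⟨z₂, hz₂, hz₂d⟩, ⟨z, hz, q, hq, hqπ, hqd⟩, hpar⟩ := hsplit.twoGen_split hns
  have hpar' : ∀ n ∈ {n : ℕ | ∃ x : CfsgLib.RealClassGraph.twoGen G, IsConj x x⁻¹ ∧
      (Subgroup.centralizer ({x} : Set (CfsgLib.RealClassGraph.twoGen G))).index = n},
      Odd n ∨ ∃ j : ℕ, n = 2 ^ j := by
    rintro n ⟨x, hx, rfl⟩
    exact hpar x ((CfsgLib.RealClassGraph.isReal_iff_isConj x).mpr hx)
  refine ⟨⟨{2}, {r : ℕ | r.Prime ∧ r ≠ 2 ∧ ∃ n ∈ {n : ℕ | ∃ x : CfsgLib.RealClassGraph.twoGen G,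
      IsConj x x⁻¹ ∧ (Subgroup.centralizer ({x} : Set (CfsgLib.RealClassGraph.twoGen G))).index = n},
      r ∣ n}, Set.singleton_nonempty 2,
    ⟨q, hq, fun e => hsplit.two (e ▸ hqπ), _, ⟨z, (CfsgLib.RealClassGraph.isReal_iff_isConj z).mp hz, rfl⟩, hqd⟩,
    Set.disjoint_singleton_left.mpr fun h => h.2.1 rfl, ?_, ?_, ?_⟩, hpar'⟩
  · rintro r (hr | hr)
    · rw [Set.mem_singleton_iff.mp hr]
      exact ⟨Nat.prime_two, _, ⟨z₂, (CfsgLib.RealClassGraph.isReal_iff_isConj z₂).mp hz₂, rfl⟩, hz₂d⟩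
    · exact ⟨hr.1, hr.2.2⟩
  · intro r hr hn
    by_cases h2 : r = 2
    · exact Or.inl (Set.mem_singleton_iff.mpr h2)
    · exact Or.inr ⟨hr, h2, hn⟩
  · rintro a ha b ⟨hb, hb2, -⟩ n hn ⟨han, hbn⟩
    rw [Set.mem_singleton_iff.mp ha] at han
    rcases hpar' n hn with hodd | ⟨j, rfl⟩
    · exact Nat.not_even_iff_odd.mpr hodd (even_iff_two_dvd.mpr han)
    · exact hb2 ((Nat.prime_dvd_prime_iff_eq hb Nat.prime_two).mp (hb.dvd_of_dvd_pow hbn))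

end Cfsg.Agent.S4192
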