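import Cfsg.Statements.S4193
import Cfsg.Agent.Lib.RealTwoLocal.Main
import Cfsg.Agent.Lib.Baer.NoReal
import Cfsg.Agent.Lib.ZJ.RealBase
import Cfsg.Agent.Lib.OddOrder.Solvable

set_option autoImplicit false
open Cfsg

namespace Cfsg.Agent.S4193

/-- Let G be a finite group in which the conjugacy classes of all non-central real elements (elements conjugate to their inverses) have sizes with the same 2-part, and suppose G has a Sylow 2-subgroup S such that every element of S that is conjugate in S to its inverse lies in the centre of S. Then G is solvable and the subgroup generated by the 2-elements of G (the smallest normal subgroup of odd index) has a normal 2-complement. -/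
theorem result {G : Type*} [Group G] [Finite G] (a : ℕ) (h : ∀ x : G, IsConj x x⁻¹ → x ∉ Subgroup.center G → ((Subgroup.centralizer ({x} : Set G)).index).factorization 2 = a) (S : Sylow 2 G) (hS : ∀ s : ↥(S : Subgroup G), IsConj s s⁻¹ → s ∈ Subgroup.center ↥(S : Subgroup G)) : Group.IsSolvable G ∧ Cfsg.HasNormalPComplement 2 ↥(Subgroup.closure {g : G | ∃ k : ℕ, orderOf g = 2 ^ k}) := by
  haveI : Fact (Nat.Prime 2) := ⟨Nat.prime_two⟩
  set O := Subgroup.closure {g : G | ∃ k : ℕ, orderOf g = 2 ^ k}
  rcases eq_or_ne a 0 with rfl | ha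
  · -- no nontrivial real element of odd order
    have hn : (S : Subgroup G).Normal := by
      refine CfsgLib.Baer.sylow_two_normal_of_no_inverted ?_ S
      intro x hx hodd t ht
      have hxc : x ∉ Subgroup.center G := by
        intro hc
        apply hx
        have h1 : x⁻¹ = x := by
          rw [← ht, Subgroup.mem_center_iff.mp hc t, mul_inv_cancel_right]
        have h2 : x * x = 1 := inv_eq_iff_mul_eq_one.mp h1
        rw [← pow_two, ← orderOf_dvd_iff_pow_eq_one] at h2
        rcases (Nat.dvd_prime Nat.prime_two).mp h2 with h3 | h3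
        · exact orderOf_eq_one_iff.mp h3
        · rw [h3] at hodd; exact absurd hodd (by decide)
      have h0 := h x (isConj_iff.mpr ⟨t, ht⟩) hxc
      set C := Subgroup.centralizer ({x} : Set G)
      let N : Subgroup G :=
        { carrier := {g | g * x * g⁻¹ = x ∨ g * x * g⁻¹ = x⁻¹}
          one_mem' := .inl (by group)
          mul_mem' := by
            rintro g k hg hk
            show g * k * x * (g * k)⁻¹ = x ∨ g * k * x * (g * k)⁻¹ = x⁻¹
            rw [show g * k * x * (g * k)⁻¹ = g * (k * x * k⁻¹) * g⁻¹ by group]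
            rcases hk with hk | hk <;> rw [hk]
            · exact hg
            · rw [show g * x⁻¹ * g⁻¹ = (g * x * g⁻¹)⁻¹ by group]
              rcases hg with hg | hg <;> rw [hg]
              · exact .inr rfl
              · exact .inl (inv_inv x)
          inv_mem' := by
            rintro g (hg | hg)
            · left; conv_lhs => rw [← hg]
              group
            · right
              show g⁻¹ * x * g⁻¹⁻¹ = x⁻¹
              conv_lhs => rw [show x = (g * x * g⁻¹)⁻¹ by rw [hg, inv_inv]]
              group }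
      have hCmem : ∀ g : G, g ∈ C ↔ g * x * g⁻¹ = x := fun g => by
        rw [Subgroup.mem_centralizer_singleton_iff, mul_inv_eq_iff_eq_mul]
      have hCN : C ≤ N := fun g hg => .inl ((hCmem g).mp hg)
      have hne : x⁻¹ ≠ x := fun he => hxc (by
        exfalso
        have h2 : x * x = 1 := inv_eq_iff_mul_eq_one.mp he
        rw [← pow_two, ← orderOf_dvd_iff_pow_eq_one] at h2
        rcases (Nat.dvd_prime Nat.prime_two).mp h2 with h3 | h3
        · exact hx (orderOf_eq_one_iff.mp h3)
        · rw [h3] at hodd; exact absurd hodd (by decide))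
      have h2 : C.relIndex N = 2 := by
        refine Subgroup.relIndex_eq_two_iff.mpr ⟨t, .inr ht, fun b hb => ?_⟩
        rw [hCmem, hCmem, show b * t * x * (b * t)⁻¹ = b * (t * x * t⁻¹) * b⁻¹ by group, ht,
          show b * x⁻¹ * b⁻¹ = (b * x * b⁻¹)⁻¹ by group]
        rcases hb with hb | hb
        · exact .inr ⟨hb, by rw [hb]; exact hne⟩
        · exact .inl ⟨by rw [hb, inv_inv], by rw [hb]; exact hne⟩
      have h3 : 2 ∣ C.index := by
        rw [← Subgroup.relIndex_mul_index hCN, h2]; exact dvd_mul_right 2 _
      rw [Nat.factorization_eq_zero_iff] at h0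
      rcases h0 with h0 | h0 | h0
      · exact h0 Nat.prime_two
      · exact h0 h3
      · exact Subgroup.index_ne_zero_of_finite h0
    haveI := hn
    have hO : O ≤ (S : Subgroup G) := by
      rw [Subgroup.closure_le]
      rintro g ⟨k, hk⟩
      obtain ⟨P, hP⟩ := (IsPGroup.of_card (p := 2) (G := Subgroup.zpowers g) (n := k)
        (by rw [Nat.card_zpowers, hk])).exists_le_sylow
      obtain ⟨c, hc⟩ := MulAction.exists_smul_eq G S P
      rw [Sylow.smul_eq_of_normal] at hc
      rw [hc]
      exact hP (Subgroup.mem_zpowers g)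
    refine ⟨?_, CfsgLib.Transfer.hasNormalPComplement_of_isPGroup (S.2.to_le hO)⟩
    haveI : Group.IsSolvable (G ⧸ (S : Subgroup G)) := CfsgLib.OddOrder.odd_order_solvable (by
      rw [← Subgroup.index_eq_card]
      exact Nat.odd_iff.mpr (Nat.two_dvd_ne_zero.mp S.not_dvd_index))
    haveI : Group.IsNilpotent (S : Subgroup G) := S.2.isNilpotent
    exact solvable_of_ker_le_range (S : Subgroup G).subtype (QuotientGroup.mk' (S : Subgroup G))
      (by rw [QuotientGroup.ker_mk', Subgroup.range_subtype])
  · -- real elements of 2-subgroups are central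
    have hG : Cfsg.HasNormalPComplement 2 G := by
      refine CfsgLib.RealTwoLocal.hasNormalPComplement_of_real_central ?_
      intro U hU u hu v hv hvu
      obtain ⟨P, hP⟩ := hU.exists_le_sylow
      obtain ⟨g, hg⟩ := MulAction.exists_smul_eq G P S
      have hmem : ∀ z ∈ U, g * z * g⁻¹ ∈ (S : Subgroup G) := fun z hz => by
        rw [← hg, Sylow.coe_subgroup_smul]
        exact ⟨z, hP hz, rfl⟩
      set u' := g * u * g⁻¹ with hu'
      have hcS : (⟨u', hmem u hu⟩ : ↥(S : Subgroup G)) ∈ Subgroup.center ↥(S : Subgroup G) :=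
        hS _ (isConj_iff.mpr ⟨⟨g * v * g⁻¹, hmem v hv⟩, Subtype.ext (by
          show g * v * g⁻¹ * (g * u * g⁻¹) * (g * v * g⁻¹)⁻¹ = (g * u * g⁻¹)⁻¹
          rw [show g * v * g⁻¹ * (g * u * g⁻¹) * (g * v * g⁻¹)⁻¹ = g * (v * u * v⁻¹) * g⁻¹ by group,
            hvu]
          group)⟩)
      have hSC : (S : Subgroup G) ≤ Subgroup.centralizer ({u'} : Set G) := fun s hs =>
        Subgroup.mem_centralizer_singleton_iff.mpr
          (congrArg Subtype.val (Subgroup.mem_center_iff.mp hcS ⟨s, hs⟩))
      have hz : u' ∈ Subgroup.center G := by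
        by_contra hzc
        have h1 := h u' (isConj_iff.mpr ⟨g * v * g⁻¹, by
          rw [show g * v * g⁻¹ * (g * u * g⁻¹) * (g * v * g⁻¹)⁻¹ = g * (v * u * v⁻¹) * g⁻¹ by group,
            hvu, hu']
          group⟩) hzc
        rw [Nat.factorization_eq_zero_of_not_dvd
          (fun hd => S.not_dvd_index (hd.trans (Subgroup.index_dvd_of_le hSC)))] at h1
        exact ha h1.symm
      have h2 := (inferInstance : (Subgroup.center G).Normal).conj_mem u' hz g⁻¹
      rwa [show g⁻¹ * u' * g⁻¹⁻¹ = u by rw [hu']; group] at h2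
    refine ⟨?_, CfsgLib.Transfer.hasNormalPComplement_subgroup O hG⟩
    obtain ⟨P, N, hN, hc⟩ := hG
    haveI := hN
    haveI : Group.IsSolvable N := CfsgLib.OddOrder.odd_order_solvable (by
      rw [← hc.index_eq_card]
      exact Nat.odd_iff.mpr (Nat.two_dvd_ne_zero.mp P.not_dvd_index))
    haveI : Group.IsNilpotent (G ⧸ N) :=
      (CfsgLib.Transfer.isPGroup_quotient_of_isComplement' hc).isNilpotent
    exact solvable_of_ker_le_range N.subtype (QuotientGroup.mk' N)
      (by rw [QuotientGroup.ker_mk', Subgroup.range_subtype])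

end Cfsg.Agent.S4193
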