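import Cfsg.Statements.S4194
import Cfsg.Agent.Lib.CaminaHerzog.Abelian

set_option autoImplicit false
open Cfsg

namespace Cfsg.Agent.S4194

/-- A finite group G has commutative Sylow 2-subgroups if and only if every 2-element of G (element of order a power of 2) is 2-central, that is, its centralizer contains a Sylow 2-subgroup of G. -/
theorem result {G : Type*} [Group G] [Finite G] (P : Sylow 2 G) :
    IsMulCommutative (P : Subgroup G) ↔ ∀ x : G, (∃ k : ℕ, orderOf x = 2 ^ k) → (∃ Q : Sylow 2 G, (Q : Subgroup G) ≤ Subgroup.centralizer ({x} : Set G)) := by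
  refine ⟨fun hP x hx => ?_, fun h => CfsgLib.CaminaHerzog.sylow_two_commutative h P⟩
  obtain ⟨k, hk⟩ := hx
  obtain ⟨Q, hQ⟩ := (IsPGroup.of_card (n := k) (p := 2) (G := Subgroup.zpowers x)
    (by rw [Nat.card_zpowers, hk])).exists_le_sylow
  obtain ⟨g, hg⟩ := MulAction.exists_smul_eq G P Q
  refine ⟨Q, fun q hq => Subgroup.mem_centralizer_singleton_iff.2 ?_⟩
  have key : ∀ z ∈ (Q : Subgroup G), g⁻¹ * z * g ∈ (P : Subgroup G) := by
    intro z hz
    rw [← hg, Sylow.coe_subgroup_smul, Subgroup.mem_pointwise_smul_iff_inv_smul_mem] at hz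
    simpa [MulAut.smul_def, mul_assoc] using hz
  have h2 := congrArg Subtype.val (mul_comm' (⟨_, key q hq⟩ : (P : Subgroup G))
    ⟨_, key x (hQ (Subgroup.mem_zpowers x))⟩)
  calc q * x = g * (g⁻¹ * q * g * (g⁻¹ * x * g)) * g⁻¹ := by group
    _ = g * (g⁻¹ * x * g * (g⁻¹ * q * g)) * g⁻¹ := by rw [show g⁻¹ * q * g * (g⁻¹ * x * g) = g⁻¹ * x * g * (g⁻¹ * q * g) from h2]
    _ = x * q := by group

end Cfsg.Agent.S4194
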