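import Cfsg.Statements.S4195
import Mathlib

set_option autoImplicit false
open Cfsg

namespace Cfsg.Agent.S4195

/-- Let x be a non-identity element of a finite group G whose centralizer contains a Sylow 2-subgroup of G. If x is conjugate to its inverse, then x has order 2. -/
theorem result {G : Type*} [Group G] [Finite G] (x : G) (hx : x ≠ 1) (P : Sylow 2 G) (hP : (P : Subgroup G) ≤ Subgroup.centralizer ({x} : Set G)) (hreal : IsConj x x⁻¹) : orderOf x = 2 := by
  obtain ⟨g, hg⟩ := isConj_iff.mp hreal
  by_contra h2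
  have hne : x⁻¹ ≠ x := fun e => h2 (orderOf_eq_prime (by rw [pow_two]; exact eq_inv_iff_mul_eq_one.mp e.symm) hx)
  let K : Subgroup G :=
    { carrier := {k | k * x * k⁻¹ = x ∨ k * x * k⁻¹ = x⁻¹}
      one_mem' := Or.inl (by simp)
      mul_mem' := fun {a b} ha hb => by
        have e : a * b * x * (a * b)⁻¹ = a * (b * x * b⁻¹) * a⁻¹ := by group
        rcases hb with hb | hb <;> rcases ha with ha | ha
        · left; rw [e, hb, ha]
        · right; rw [e, hb, ha]
        · right; rw [e, hb, ← conj_inv, ha]
        · left; rw [e, hb, ← conj_inv, ha, inv_inv]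
      inv_mem' := fun {a} ha => by
        rcases ha with ha | ha
        · left
          conv_lhs => arg 1; arg 2; rw [← ha]
          group
        · right
          have e : x = a⁻¹ * x⁻¹ * a := by rw [← ha]; group
          conv_rhs => rw [e]
          group }
  set C := Subgroup.centralizer ({x} : Set G) with hC
  have hCK : C ≤ K := fun k hk => Or.inl (by
    rw [Subgroup.mem_centralizer_singleton_iff.mp hk, mul_inv_cancel_right])
  have hmem : ∀ k : G, k ∈ C ↔ k * x * k⁻¹ = x := fun k => by
    rw [hC, Subgroup.mem_centralizer_singleton_iff, mul_inv_eq_iff_eq_mul]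
  have hidx : C.relIndex K = 2 := by
    rw [Subgroup.relIndex, Subgroup.index_eq_two_iff]
    refine ⟨⟨g, Or.inr hg⟩, fun b => ?_⟩
    rw [Subgroup.mem_subgroupOf, Subgroup.mem_subgroupOf, hmem, hmem, Subgroup.coe_mul]
    have e : (b : G) * g * x * ((b : G) * g)⁻¹ = (b : G) * (g * x * g⁻¹) * (b : G)⁻¹ := by group
    rw [e, hg, ← conj_inv]
    rcases b.2 with hb | hb
    · exact Or.inr ⟨hb, by rw [hb]; exact hne⟩
    · exact Or.inl ⟨by rw [hb, inv_inv], by rw [hb]; exact hne⟩
  have h := (Subgroup.relIndex_dvd_index_of_le hCK).trans (Subgroup.index_dvd_of_le hP)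
  rw [hidx] at h
  exact P.not_dvd_index h

end Cfsg.Agent.S4195
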