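import Cfsg.Statements.S4196
import Mathlib
import Cfsg.Agent.Lib.Coprime.SchurZassenhaus

set_option autoImplicit false
set_option linter.style.haveILetI false
open Cfsg

namespace Cfsg.Agent.S4196

/-- An element with a Sylow 2-subgroup in its centraliser which is conjugate to its inverse is an
involution or trivial. -/
theorem sq_eq_one_of_real_central {G : Type*} [Group G] [Finite G] (x : G) (Q : Sylow 2 G)
    (hQ : (Q : Subgroup G) ≤ Subgroup.centralizer ({x} : Set G)) (hx : IsConj x x⁻¹) : x ^ 2 = 1 := by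
  obtain ⟨g, hg⟩ := isConj_iff.mp hx
  set C := Subgroup.centralizer ({x} : Set G) with hC
  by_contra hne
  have hgC : g ∉ C := fun h => hne (by
    have h1 : g * x = x * g := Subgroup.mem_centralizer_singleton_iff.mp h
    rw [h1, mul_inv_cancel_right] at hg
    rw [pow_two]; exact mul_eq_one_iff_eq_inv.mpr hg)
  have hg2 : g * g ∈ C := Subgroup.mem_centralizer_singleton_iff.mpr (by
    have h1 : g * g * x * (g * g)⁻¹ = x := by
      rw [show g * g * x * (g * g)⁻¹ = g * (g * x * g⁻¹) * g⁻¹ by group, hg,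
        show g * x⁻¹ * g⁻¹ = (g * x * g⁻¹)⁻¹ by group, hg, inv_inv]
    exact mul_inv_eq_iff_eq_mul.mp h1)
  have hnorm : g ∈ Subgroup.normalizer (C : Set G) := by
    rw [Subgroup.mem_normalizer_iff]
    have hxg : g⁻¹ * x * g = x⁻¹ := by
      have := congrArg (fun t => g⁻¹ * t⁻¹ * g) hg
      simp [mul_assoc] at this
      rw [mul_assoc]; exact this.symm
    intro y
    rw [hC, Subgroup.mem_centralizer_singleton_iff, Subgroup.mem_centralizer_singleton_iff]
    constructor
    · intro h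
      have h' : y * x⁻¹ = x⁻¹ * y := (Commute.inv_right (h : Commute y x)).eq
      calc g * y * g⁻¹ * x = g * (y * (g⁻¹ * x * g)) * g⁻¹ := by group
        _ = g * ((g⁻¹ * x * g) * y) * g⁻¹ := by rw [hxg, h']
        _ = x * (g * y * g⁻¹) := by group
    · intro h
      have h1 : y * (g⁻¹ * x * g) = (g⁻¹ * x * g) * y := by
        calc y * (g⁻¹ * x * g) = g⁻¹ * (g * y * g⁻¹ * x) * g := by group
          _ = g⁻¹ * (x * (g * y * g⁻¹)) * g := by rw [h]
          _ = (g⁻¹ * x * g) * y := by group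
      rw [hxg] at h1
      have h2 := (Commute.inv_right (h1 : Commute y x⁻¹)).eq
      rwa [inv_inv] at h2
  set T := C ⊔ Subgroup.zpowers g with hT
  have hTn : T ≤ Subgroup.normalizer (C : Set G) :=
    sup_le Subgroup.le_normalizer (Subgroup.zpowers_le.mpr hnorm)
  haveI : (C.subgroupOf T).Normal := (Subgroup.normal_subgroupOf_iff_le_normalizer le_sup_left).mpr hTn
  have h2 : (C.subgroupOf T).index = 2 := by
    set q := QuotientGroup.mk' (C.subgroupOf T)
    have hgT : g ∈ T := Subgroup.mem_sup_right (Subgroup.mem_zpowers g)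
    have hgen : Subgroup.zpowers (q ⟨g, hgT⟩) = ⊤ := by
      rw [eq_top_iff, ← Subgroup.map_top_of_surjective q (QuotientGroup.mk'_surjective _)]
      rintro _ ⟨t, -, rfl⟩
      have ht : (t : G) ∈ (C ⊔ Subgroup.zpowers g : Subgroup G) := t.2
      rw [← SetLike.mem_coe, Subgroup.coe_mul_of_right_le_normalizer_left C _
        (Subgroup.zpowers_le.mpr hnorm)] at ht
      obtain ⟨c, hc, w, hw, hcw⟩ := Set.mem_mul.mp ht
      obtain ⟨j, rfl⟩ := Subgroup.mem_zpowers_iff.mp hw
      refine ⟨j, ?_⟩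
      show q ⟨g, hgT⟩ ^ j = q t
      rw [← map_zpow]
      apply QuotientGroup.eq.mpr
      have hcn := (Subgroup.mem_normalizer_iff.mp ((Subgroup.normalizer (C : Set G)).inv_mem
        (zpow_mem hnorm j)) c).mp hc
      show ((g ^ j)⁻¹ * (t : G)) ∈ C
      rw [← hcw]
      rwa [show (g ^ j)⁻¹ * (c * g ^ j) = (g ^ j)⁻¹ * c * (g ^ j)⁻¹⁻¹ by group]
    rw [Subgroup.index_eq_card, ← Subgroup.card_top, ← hgen, Nat.card_zpowers]
    refine orderOf_eq_prime ?_ ?_
    · rw [pow_two, ← map_mul]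
      exact (QuotientGroup.eq_one_iff _).mpr hg2
    · exact fun e => hgC (Subgroup.mem_subgroupOf.mp ((QuotientGroup.eq_one_iff _).mp e))
  have h3 : C.relIndex T ∣ C.index := Subgroup.relIndex_dvd_index_of_le le_sup_left |>.trans dvd_rfl
  rw [Subgroup.relIndex, h2] at h3
  exact Q.not_dvd_index (h3.trans (Subgroup.index_dvd_of_le hQ))

/-- A finite group G has elementary abelian Sylow 2-subgroups (commutative with every element squaring to the identity) if and only if every 2-element of G has a Sylow 2-subgroup in its centralizer and is conjugate to its inverse. -/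
theorem result {G : Type*} [Group G] [Finite G] (P : Sylow 2 G) :
    (IsMulCommutative (P : Subgroup G) ∧ ∀ x ∈ (P : Subgroup G), x ^ 2 = 1) ↔
      ∀ x : G, (∃ k : ℕ, orderOf x = 2 ^ k) → (∃ Q : Sylow 2 G, (Q : Subgroup G) ≤ Subgroup.centralizer ({x} : Set G)) ∧ IsConj x x⁻¹ := by
  classical
  constructor
  · rintro ⟨hcomm, h2⟩ x ⟨k, hk⟩
    obtain ⟨S, hS⟩ := (IsPGroup.of_card (p := 2) (n := k) (G := Subgroup.zpowers x)
      (by rw [Nat.card_zpowers, hk])).exists_le_sylow
    obtain ⟨g, rfl⟩ := MulAction.exists_smul_eq G P S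
    have hxm : g⁻¹ * x * g ∈ (P : Subgroup G) :=
      CfsgLib.Coprime.mem_conj_smul_iff.mp (hS (Subgroup.mem_zpowers x))
    refine ⟨⟨g • P, fun y hy => Subgroup.mem_centralizer_singleton_iff.mpr ?_⟩, ?_⟩
    · have hy' := CfsgLib.Coprime.mem_conj_smul_iff.mp hy
      have h : (g⁻¹ * y * g) * (g⁻¹ * x * g) = (g⁻¹ * x * g) * (g⁻¹ * y * g) :=
        congrArg Subtype.val (hcomm.is_comm.comm (⟨_, hy'⟩ : (P : Subgroup G)) ⟨_, hxm⟩)
      calc y * x = g * ((g⁻¹ * y * g) * (g⁻¹ * x * g)) * g⁻¹ := by group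
        _ = g * ((g⁻¹ * x * g) * (g⁻¹ * y * g)) * g⁻¹ := by rw [h]
        _ = x * y := by group
    · have hx2 : x * x = 1 := by
        have := h2 _ hxm
        rw [pow_two] at this
        calc x * x = g * ((g⁻¹ * x * g) * (g⁻¹ * x * g)) * g⁻¹ := by group
          _ = 1 := by rw [this]; group
      rw [inv_eq_of_mul_eq_one_right hx2]
  · intro h
    have h2 : ∀ x ∈ (P : Subgroup G), x ^ 2 = 1 := fun x hx => by
      obtain ⟨k, hk⟩ := P.2 ⟨x, hx⟩
      obtain ⟨j, -, hj⟩ := (Nat.dvd_prime_pow Nat.prime_two).mp (orderOf_dvd_of_pow_eq_one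
        (congrArg Subtype.val hk : x ^ 2 ^ k = 1))
      obtain ⟨⟨Q, hQ⟩, hr⟩ := h x ⟨j, hj⟩
      exact sq_eq_one_of_real_central x Q hQ hr
    refine ⟨⟨⟨fun a b => Subtype.ext ?_⟩⟩, h2⟩
    show (a : G) * b = b * a
    have h1 := inv_eq_of_mul_eq_one_right (a := (a : G) * b)
      (by rw [← pow_two]; exact h2 _ (mul_mem a.2 b.2))
    rw [mul_inv_rev, inv_eq_of_mul_eq_one_right (a := (a : G)) (by rw [← pow_two]; exact h2 _ a.2),
      inv_eq_of_mul_eq_one_right (a := (b : G)) (by rw [← pow_two]; exact h2 _ b.2)] at h1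
    exact h1.symm

end Cfsg.Agent.S4196
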