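import Cfsg.Statements.S4198
import Mathlib

set_option autoImplicit false
set_option linter.style.haveILetI false
open Cfsg

namespace Cfsg.Agent.S4198

open Equiv.Perm

/-- smallest part -/
noncomputable def low {k : ℕ} (π : Nat.Partition k) : ℕ :=
  if h : π.parts.toFinset.Nonempty then π.parts.toFinset.min' h else 0

theorem low_spec {n : ℕ} (π : Nat.Partition (n + 1)) :
    low π ∈ π.parts ∧ ∀ x ∈ π.parts, low π ≤ x := by
  have hne : π.parts.toFinset.Nonempty := by
    rcases π.parts.empty_or_exists_mem with h | ⟨x, hx⟩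
    · have := π.parts_sum; simp [h] at this
    · exact ⟨x, Multiset.mem_toFinset.mpr hx⟩
  rw [low, dif_pos hne]
  exact ⟨Multiset.mem_toFinset.mp (Finset.min'_mem _ _),
    fun x hx => Finset.min'_le _ _ (Multiset.mem_toFinset.mpr hx)⟩

/-- recursion map on partitions -/
noncomputable def step (n : ℕ) (π : Nat.Partition (n + 1)) : Bool × Nat.Partition n :=
  (decide (1 ∈ π.parts), ⟨if low π = 1 then π.parts.erase (low π) else (low π - 1) ::ₘ π.parts.erase (low π), by
    intro i hi
    have hp := π.parts_pos (low_spec π).1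
    split_ifs at hi
    · exact π.parts_pos (Multiset.mem_of_mem_erase hi)
    · rcases Multiset.mem_cons.mp hi with h | h
      · omega
      · exact π.parts_pos (Multiset.mem_of_mem_erase h), by
    have hp := π.parts_pos (low_spec π).1
    have hs := π.parts_sum
    rw [← Multiset.cons_erase (low_spec π).1, Multiset.sum_cons] at hs
    split_ifs
    · omega
    · rw [Multiset.sum_cons]; omega⟩)

theorem step_injective (n : ℕ) : Function.Injective (step n) := by
  classical
  intro π σ h
  unfold step at h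
  simp only [Prod.mk.injEq, decide_eq_decide, Nat.Partition.ext_iff] at h
  obtain ⟨hiff, h⟩ := h
  obtain ⟨ham, hal⟩ := low_spec π
  obtain ⟨hbm, hbl⟩ := low_spec σ
  revert h ham hal hbm hbl
  generalize low π = a
  generalize low σ = b
  intro h ham hal hbm hbl
  have ha1 : a = 1 ↔ 1 ∈ π.parts :=
    ⟨fun h => h ▸ ham, fun h => le_antisymm (hal _ h) (π.parts_pos ham)⟩
  have hb1 : b = 1 ↔ 1 ∈ σ.parts :=
    ⟨fun h => h ▸ hbm, fun h => le_antisymm (hbl _ h) (σ.parts_pos hbm)⟩
  by_cases h1 : 1 ∈ π.parts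
  · have e1 := ha1.mpr h1
    have e2 := hb1.mpr (hiff.mp h1)
    rw [if_pos e1, if_pos e2] at h
    apply Nat.Partition.ext
    rw [← Multiset.cons_erase ham, ← Multiset.cons_erase hbm, h, e1, e2]
  · have e1 : ¬ a = 1 := mt ha1.mp h1
    have e2 : ¬ b = 1 := mt hb1.mp (fun h => h1 (hiff.mpr h))
    rw [if_neg e1, if_neg e2] at h
    have p1 := π.parts_pos ham
    have p2 := σ.parts_pos hbm
    have hab : a = b := by
      have m1 : a - 1 ∈ (b - 1) ::ₘ σ.parts.erase b := h ▸ Multiset.mem_cons_self _ _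
      have m2 : b - 1 ∈ (a - 1) ::ₘ π.parts.erase a := h.symm ▸ Multiset.mem_cons_self _ _
      rcases Multiset.mem_cons.mp m1 with m1 | m1 <;> rcases Multiset.mem_cons.mp m2 with m2 | m2
      · omega
      · omega
      · omega
      · have := hbl _ (Multiset.mem_of_mem_erase m1)
        have := hal _ (Multiset.mem_of_mem_erase m2)
        omega
    rw [← hab] at h hbm
    apply Nat.Partition.ext
    rw [← Multiset.cons_erase ham, ← Multiset.cons_erase hbm, (Multiset.cons_inj_right _).mp h]

theorem card_five : Fintype.card (Nat.Partition 5) ≤ 2 ^ 3 := by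
  classical
  let S : Finset (Fin 6 × Fin 3 × Fin 2 × Fin 2 × Fin 2) := Finset.univ.filter
    (fun c => c.1.val + 2 * c.2.1.val + 3 * c.2.2.1.val + 4 * c.2.2.2.1.val + 5 * c.2.2.2.2.val = 5)
  have hsum : ∀ π : Nat.Partition 5, π.parts.count 1 + 2 * π.parts.count 2 + 3 * π.parts.count 3 +
      4 * π.parts.count 4 + 5 * π.parts.count 5 = 5 := by
    intro π
    have hle : ∀ i ∈ π.parts, i ≤ 5 := fun i hi => (Multiset.le_sum_of_mem hi).trans_eq π.parts_sum
    have h := Finset.sum_multiset_count π.parts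
    rw [π.parts_sum, Finset.sum_subset (s₂ := ({1, 2, 3, 4, 5} : Finset ℕ))] at h
    · simp at h; omega
    · intro i hi
      have hi' := Multiset.mem_toFinset.mp hi
      have := hle i hi'
      have := π.parts_pos hi'
      simp; omega
    · intro i _ hi
      rw [Multiset.count_eq_zero_of_notMem (fun h => hi (Multiset.mem_toFinset.mpr h)), zero_smul]
  let f : Nat.Partition 5 → S := fun π =>
    ⟨(⟨π.parts.count 1, by have := hsum π; omega⟩, ⟨π.parts.count 2, by have := hsum π; omega⟩,
      ⟨π.parts.count 3, by have := hsum π; omega⟩, ⟨π.parts.count 4, by have := hsum π; omega⟩,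
      ⟨π.parts.count 5, by have := hsum π; omega⟩), by
      simp only [S, Finset.mem_filter, Finset.mem_univ, true_and]; exact hsum π⟩
  have hf : Function.Injective f := by
    intro π σ h
    simp only [f, Subtype.mk.injEq, Prod.mk.injEq, Fin.mk.injEq] at h
    apply Nat.Partition.ext
    refine Multiset.ext.mpr fun i => ?_
    by_cases hi : 1 ≤ i ∧ i ≤ 5
    · obtain ⟨h1, h5⟩ := hi
      interval_cases i <;> tauto
    · have hz : ∀ ρ : Nat.Partition 5, ρ.parts.count i = 0 := fun ρ =>
        Multiset.count_eq_zero_of_notMem fun hm =>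
          hi ⟨ρ.parts_pos hm, (Multiset.le_sum_of_mem hm).trans_eq ρ.parts_sum⟩
      rw [hz, hz]
  refine (Fintype.card_le_of_injective f hf).trans ?_
  rw [Fintype.card_coe]
  decide

theorem card_partition_le : ∀ k : ℕ, Fintype.card (Nat.Partition (5 + k)) ≤ 2 ^ (3 + k)
  | 0 => card_five
  | k + 1 => by
    have h := Fintype.card_le_of_injective _ (step_injective (5 + k))
    rw [Fintype.card_prod, Fintype.card_bool] at h
    have := card_partition_le k
    rw [← add_assoc, ← add_assoc, pow_succ]
    omega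

/-- cycle type of the odd class attached to a split class -/
def Rel {n : ℕ} (C D : ConjClasses (Equiv.Perm (Fin n))) : Prop :=
  ∃ a d, C = ConjClasses.mk a ∧ D = ConjClasses.mk d ∧ (∀ c ∈ a.cycleType, Odd c) ∧
    n ≤ a.cycleType.sum + 1 ∧ ∃ x ∈ a.cycleType, d.cycleType = (x - 1) ::ₘ a.cycleType.erase x

theorem rel_inj {n : ℕ} {C C' D : ConjClasses (Equiv.Perm (Fin n))} (h : Rel C D) (h' : Rel C' D) :
    C = C' := by
  obtain ⟨a, d, rfl, rfl, hodd, -, x, hx, hd⟩ := h
  obtain ⟨a', d', rfl, hD, hodd', -, x', hx', hd'⟩ := h'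
  rw [ConjClasses.mk_eq_mk_iff_isConj, isConj_iff_cycleType_eq] at hD ⊢
  rw [hd, hd'] at hD
  have hev : ∀ y, Odd y → Even (y - 1) := fun y ⟨k, hk⟩ => ⟨k, by omega⟩
  have hxx : x - 1 = x' - 1 := by
    rcases Multiset.mem_cons.mp (hD ▸ Multiset.mem_cons_self (x - 1) _ : x - 1 ∈ (x' - 1) ::ₘ _) with h | h
    · exact h
    · exact absurd (hodd' _ (Multiset.mem_of_mem_erase h)) (Nat.not_odd_iff_even.mpr (hev _ (hodd _ hx)))
  have h2 := two_le_of_mem_cycleType hx
  have h2' := two_le_of_mem_cycleType hx'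
  have e : x = x' := by omega
  subst e
  rw [← Multiset.cons_erase hx, ← Multiset.cons_erase hx', (Multiset.cons_inj_right _).mp hD]

theorem exists_rel {n : ℕ} (hn : 5 ≤ n) {a : Equiv.Perm (Fin n)} (heven : sign a = 1)
    (hc : Subgroup.centralizer {a} ≤ alternatingGroup (Fin n)) :
    ∃ d, sign d = -1 ∧ Rel (ConjClasses.mk a) (ConjClasses.mk d) := by
  obtain ⟨hodd, hsum, -⟩ := centralizer_le_alternating_iff.mp hc
  rw [Fintype.card_fin] at hsum
  obtain ⟨x, hx⟩ : ∃ x, x ∈ a.cycleType := by
    rcases a.cycleType.empty_or_exists_mem with h | h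
    · rw [h] at hsum; simp at hsum; omega
    · exact h
  have h2 := two_le_of_mem_cycleType hx
  obtain ⟨k, hk⟩ := hodd x hx
  have hs : x + (a.cycleType.erase x).sum = a.cycleType.sum := by
    rw [← Multiset.sum_cons, Multiset.cons_erase hx]
  have hle : a.cycleType.sum ≤ n := by
    rw [sum_cycleType]; exact (Finset.card_le_univ _).trans (by simp)
  obtain ⟨d, hd⟩ := (exists_with_cycleType_iff (α := Fin n) (m := (x - 1) ::ₘ a.cycleType.erase x)).mpr
    ⟨by rw [Multiset.sum_cons, Fintype.card_fin]; omega, by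
      intro y hy
      rcases Multiset.mem_cons.mp hy with rfl | hy
      · omega
      · exact two_le_of_mem_cycleType (Multiset.mem_of_mem_erase hy)⟩
  refine ⟨d, ?_, a, d, rfl, rfl, hodd, hsum, x, hx, hd⟩
  rw [sign_of_cycleType] at heven ⊢
  rw [hd, Multiset.sum_cons, Multiset.card_cons, Multiset.card_erase_of_mem hx]
  have hpos : 0 < Multiset.card a.cycleType := Multiset.card_pos_iff_exists_mem.mpr ⟨x, hx⟩
  have e : a.cycleType.sum + Multiset.card a.cycleType =
      (x - 1 + (a.cycleType.erase x).sum + ((Multiset.card a.cycleType).pred + 1)) + 1 := by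
    rw [Nat.pred_eq_sub_one]; omega
  rw [e, pow_succ, mul_neg_one, neg_eq_iff_eq_neg] at heven
  exact heven

theorem classes_lt {n : ℕ} (hn : 5 ≤ n) :
    Nat.card (ConjClasses (alternatingGroup (Fin n))) < Nat.card (ConjClasses (Equiv.Perm (Fin n))) := by
  classical
  let π : ConjClasses (alternatingGroup (Fin n)) → ConjClasses (Equiv.Perm (Fin n)) :=
    ConjClasses.map (alternatingGroup (Fin n)).subtype
  haveI : Nonempty (ConjClasses (alternatingGroup (Fin n))) := ⟨ConjClasses.mk 1⟩
  have conj_even : ∀ (a b : alternatingGroup (Fin n)) (g : Equiv.Perm (Fin n)), sign g = 1 →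
      g * (a : Equiv.Perm (Fin n)) * g⁻¹ = b → ConjClasses.mk a = ConjClasses.mk b := fun a b g hg h => by
    rw [ConjClasses.mk_eq_mk_iff_isConj, isConj_iff]
    exact ⟨⟨g, mem_alternatingGroup.mpr hg⟩, Subtype.ext h⟩
  have hpm : ∀ g : Equiv.Perm (Fin n), sign g ≠ 1 → sign g = -1 := fun g h =>
    (Int.units_eq_one_or _).resolve_left h
  have key : ∀ a b : alternatingGroup (Fin n), π (ConjClasses.mk a) = π (ConjClasses.mk b) →
      ConjClasses.mk a ≠ ConjClasses.mk b → ∃ g : Equiv.Perm (Fin n), sign g = -1 ∧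
        g * (a : Equiv.Perm (Fin n)) * g⁻¹ = b := by
    intro a b h hne
    have h' : ConjClasses.mk (a : Equiv.Perm (Fin n)) = ConjClasses.mk (b : Equiv.Perm (Fin n)) := h
    rw [ConjClasses.mk_eq_mk_iff_isConj, isConj_iff] at h'
    obtain ⟨g, hg⟩ := h'
    exact ⟨g, hpm g (fun h1 => hne (conj_even a b g h1 hg)), hg⟩
  have hsplit : ∀ c, c ≠ Function.invFun π (π c) → ∃ D, (∃ d, sign d = -1 ∧ D = ConjClasses.mk d) ∧ Rel (π c) D := by
    intro c hc
    obtain ⟨a, rfl⟩ := ConjClasses.exists_rep c
    obtain ⟨b, hb⟩ := ConjClasses.exists_rep (Function.invFun π (π (ConjClasses.mk a)))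
    have hab : π (ConjClasses.mk a) = π (ConjClasses.mk b) := by
      rw [hb, Function.invFun_eq (f := π) ⟨ConjClasses.mk a, rfl⟩]
    rw [← hb] at hc
    obtain ⟨g, hg, hgab⟩ := key a b hab hc
    have hcent : Subgroup.centralizer {(a : Equiv.Perm (Fin n))} ≤ alternatingGroup (Fin n) := by
      intro k hk
      rw [Subgroup.mem_centralizer_singleton_iff] at hk
      rw [mem_alternatingGroup]
      by_contra h1
      refine hc (conj_even a b (g * k) (by rw [map_mul, hg, hpm k h1]; decide) ?_)
      calc g * k * (a : Equiv.Perm (Fin n)) * (g * k)⁻¹ = g * (k * a * k⁻¹) * g⁻¹ := by group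
        _ = _ := by rw [show k * (a : Equiv.Perm (Fin n)) = a * k from hk, mul_inv_cancel_right, hgab]
    obtain ⟨d, hd, hr⟩ := exists_rel hn (mem_alternatingGroup.mp a.2) hcent
    exact ⟨_, ⟨d, hd, rfl⟩, hr⟩
  choose Φ hΦ hR using hsplit
  let f : ConjClasses (alternatingGroup (Fin n)) → ConjClasses (Equiv.Perm (Fin n)) := fun c =>
    if h : c = Function.invFun π (π c) then π c else Φ c h
  have hsign : ∀ c, ∀ g, π c = ConjClasses.mk g → sign g = 1 := by
    intro c g h
    obtain ⟨a, rfl⟩ := ConjClasses.exists_rep c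
    have h' : ConjClasses.mk (a : Equiv.Perm (Fin n)) = ConjClasses.mk g := h
    rw [ConjClasses.mk_eq_mk_iff_isConj, isConj_iff] at h'
    obtain ⟨u, rfl⟩ := h'
    simp [mem_alternatingGroup.mp a.2]
  have hdiff : ∀ c c' h, π c ≠ Φ c' h := by
    intro c c' h he
    obtain ⟨d, hd, hD⟩ := hΦ c' h
    have := hsign c d (he.trans hD)
    rw [hd] at this
    exact absurd this (by decide)
  have hf : Function.Injective f := by
    intro c c' h
    simp only [f] at h
    split_ifs at h with h1 h2 h2
    · rw [h1, h2, h]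
    · exact absurd h (hdiff _ _ _)
    · exact absurd h.symm (hdiff _ _ _)
    · have hp : π c = π c' := rel_inj (hR c h1) (h ▸ hR c' h2)
      by_contra hne
      obtain ⟨a, rfl⟩ := ConjClasses.exists_rep c
      obtain ⟨b, rfl⟩ := ConjClasses.exists_rep c'
      obtain ⟨e, he⟩ := ConjClasses.exists_rep (Function.invFun π (π (ConjClasses.mk a)))
      have hpe : π (ConjClasses.mk a) = π (ConjClasses.mk e) := by
        rw [he, Function.invFun_eq (f := π) ⟨ConjClasses.mk a, rfl⟩]
      rw [← he] at h1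
      rw [← hp, ← he] at h2
      obtain ⟨g, hg, hga⟩ := key a b hp hne
      obtain ⟨k, hk, hke⟩ := key a e hpe h1
      refine h2 (conj_even b e (k * g⁻¹) (by rw [map_mul, map_inv, hg, hk]; decide) ?_)
      rw [← hga, ← hke]; group
  have hswap : ¬ Function.Surjective f := by
    intro hs
    let t : Equiv.Perm (Fin n) := Equiv.swap ⟨0, by omega⟩ ⟨1, by omega⟩
    have ht : t.IsSwap := ⟨_, _, by simp [Fin.ext_iff], rfl⟩
    obtain ⟨c, hc⟩ := hs (ConjClasses.mk t)
    simp only [f] at hc
    split_ifs at hc with h1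
    · have := hsign c t hc
      rw [ht.sign_eq] at this
      exact absurd this (by decide)
    · obtain ⟨a, d, -, hD, hodd, hsum, x, hx, hd⟩ := hR c h1
      rw [hc, ConjClasses.mk_eq_mk_iff_isConj, isConj_iff_cycleType_eq, hd] at hD
      rw [ht.isCycle.cycleType, card_support_swap (by simp [Fin.ext_iff] : (⟨0, _⟩ : Fin n) ≠ ⟨1, _⟩)] at hD
      rw [show ({2} : Multiset ℕ) = 2 ::ₘ 0 from rfl, Multiset.cons_eq_cons] at hD
      have hs' : x + (a.cycleType.erase x).sum = a.cycleType.sum := by
        rw [← Multiset.sum_cons, Multiset.cons_erase hx]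
      rcases hD with ⟨e1, e2⟩ | ⟨-, cs, e1, -⟩
      · rw [← e2] at hs'; simp at hs'; omega
      · exact Multiset.cons_ne_zero e1.symm
  rw [Nat.card_eq_fintype_card, Nat.card_eq_fintype_card]
  exact lt_of_le_of_ne (Fintype.card_le_of_injective f hf) fun h =>
    hswap ((Fintype.bijective_iff_injective_and_card f).mpr ⟨hf, h⟩).2

/-- For n ≥ 5 the alternating group of degree n has strictly fewer conjugacy classes than the symmetric group of degree n, and the symmetric group of degree n (whose classes correspond to the partitions of n) has at most 2^(n−2) conjugacy classes. -/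
theorem result (n : ℕ) (hn : 5 ≤ n) : Nat.card (ConjClasses (alternatingGroup (Fin n))) < Nat.card (ConjClasses (Equiv.Perm (Fin n))) ∧ Nat.card (ConjClasses (Equiv.Perm (Fin n))) ≤ 2 ^ (n - 2) := by
  classical
  refine ⟨classes_lt hn, ?_⟩
  let P : ConjClasses (Equiv.Perm (Fin n)) → Nat.Partition n := fun c =>
    (Quotient.liftOn c (fun σ => (⟨σ.partition.parts, σ.partition.parts_pos, by
      rw [σ.partition.parts_sum, Fintype.card_fin]⟩ : Nat.Partition n)) (fun a b h =>
        Nat.Partition.ext (by simp only [Equiv.Perm.partition_eq_of_isConj.mp h])))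
  have hP : Function.Injective P := by
    intro c c'
    refine Quotient.inductionOn₂ c c' (fun a b h => ?_)
    refine Quotient.sound (Equiv.Perm.partition_eq_of_isConj.mpr (Nat.Partition.ext ?_))
    have h' := congrArg Nat.Partition.parts h
    exact h'
  obtain ⟨k, rfl⟩ : ∃ k, n = 5 + k := ⟨n - 5, by omega⟩
  rw [Nat.card_eq_fintype_card]
  refine (Fintype.card_le_of_injective P hP).trans ((card_partition_le k).trans (le_of_eq ?_))
  congr 1
  omega

end Cfsg.Agent.S4198
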