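import Cfsg.Statements.S4203
import Cfsg.Agent.S0144

set_option autoImplicit false
open Cfsg

namespace Cfsg.Agent.S4203

universe u

set_option linter.style.haveILetI false

theorem aux : ∀ (k : ℕ) (G : Type u) [Group G] [Finite G], Nat.card G = k →
    (∀ M : Subgroup G, IsCoatom M → ∃ p : ℕ, p.Prime ∧ (M.index = p ∨ M.index = p ^ 2)) →
      Group.IsSolvable G := by
  intro k
  induction k using Nat.strong_induction_on with
  | _ k ih =>
  intro G _ _ hk h
  classical
  by_cases hone : Nat.card G = 1
  · haveI : Subsingleton G := (Nat.card_eq_one_iff_unique.mp hone).1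
    infer_instance
  set π := (Nat.card G).primeFactors with hπ
  have hne : π.Nonempty := Nat.nonempty_primeFactors.mpr (by have := Nat.card_pos (α := G); omega)
  set p := π.max' hne with hpdef
  have hpmem : p ∈ π := Finset.max'_mem π hne
  have hp : p.Prime := Nat.prime_of_mem_primeFactors hpmem
  haveI : Fact p.Prime := ⟨hp⟩
  have hpG : p ∣ Nat.card G := Nat.dvd_of_mem_primeFactors hpmem
  obtain ⟨P⟩ := (inferInstance : Nonempty (Sylow p G))
  by_cases hPn : (P : Subgroup G).Normal
  · haveI := hPn
    set f := QuotientGroup.mk' (P : Subgroup G) with hf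
    have hsurj : Function.Surjective f := QuotientGroup.mk'_surjective _
    have hP1 : 1 < Nat.card (P : Subgroup G) := (Subgroup.one_lt_card_iff_ne_bot _).mpr
      (P.ne_bot_of_dvd_card hpG)
    have hlt : Nat.card (G ⧸ (P : Subgroup G)) < k := by
      rw [← hk, Subgroup.card_eq_card_quotient_mul_card_subgroup (P : Subgroup G)]
      exact lt_mul_of_one_lt_right Nat.card_pos hP1
    have hq : Group.IsSolvable (G ⧸ (P : Subgroup G)) := by
      refine ih _ hlt _ rfl fun M hM => ?_
      have hco : IsCoatom (M.comap f) := by
        refine ⟨fun e => hM.1 ?_, fun L hL => ?_⟩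
        · rw [← Subgroup.map_comap_eq_self_of_surjective hsurj M, e, Subgroup.map_top_of_surjective _ hsurj]
        · have h1 : (L.map f).comap f = L := by
            rw [Subgroup.comap_map_eq, sup_eq_left]
            exact (Subgroup.ker_le_comap f M).trans hL.le
          have h2 : M < L.map f := (Subgroup.comap_lt_comap_of_surjective hsurj).mp (by rw [h1]; exact hL)
          rw [← h1, hM.2 _ h2, Subgroup.comap_top]
      obtain ⟨q, hq, hi⟩ := h _ hco
      rw [Subgroup.index_comap_of_surjective _ hsurj] at hi
      exact ⟨q, hq, hi⟩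
    haveI : Group.IsNilpotent (P : Subgroup G) := P.2.isNilpotent
    haveI : Group.IsSolvable (P : Subgroup G) := inferInstance
    exact Group.isSolvable_of_ker_le_range (P : Subgroup G).subtype f (by
      rw [hf, QuotientGroup.ker_mk', Subgroup.range_subtype])
  have hNtop : Subgroup.normalizer ((P : Subgroup G) : Set G) ≠ ⊤ := fun e =>
    hPn (Subgroup.normalizer_eq_top_iff.mp e)
  obtain ⟨M, hM, hNM⟩ := (eq_top_or_exists_le_coatom _).resolve_left hNtop
  have hPM : (P : Subgroup G) ≤ M := Subgroup.le_normalizer.trans hNM
  -- the index is congruent to one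
  have hmod : M.index ≡ 1 [MOD p] := by
    have h1 : Nat.card (Sylow p G) = (Subgroup.normalizer ((P : Subgroup G) : Set G)).index :=
      P.card_eq_index_normalizer
    set Q : Sylow p M := P.subtype hPM with hQ
    have h2 : Nat.card (Sylow p M) = (Subgroup.normalizer ((Q : Subgroup M) : Set M)).index :=
      Q.card_eq_index_normalizer
    have h3 : Subgroup.normalizer ((Q : Subgroup M) : Set M) =
        (Subgroup.normalizer ((P : Subgroup G) : Set G)).subgroupOf M := by
      ext m
      rw [Subgroup.mem_subgroupOf, Subgroup.mem_normalizer_iff, Subgroup.mem_normalizer_iff]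
      constructor
      · intro hm y
        constructor
        · intro hy
          exact (hm ⟨y, hPM hy⟩).mp hy
        · intro hy
          have hyM : y ∈ M := by
            have := mul_mem (mul_mem (inv_mem m.2) (hPM hy)) m.2
            rwa [show (m : G)⁻¹ * ((m : G) * y * (m : G)⁻¹) * m = y by group] at this
          exact (hm ⟨y, hyM⟩).mpr hy
      · intro hm y
        exact hm y
    have h4 := Subgroup.relIndex_mul_index hNM
    have h5 : Nat.card (Sylow p M) * M.index = Nat.card (Sylow p G) := by
      rw [h2, h3, h1]; exact h4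
    have h6 := card_sylow_modEq_one p G
    have h7 := card_sylow_modEq_one p M
    rw [← h5] at h6
    have h8 := (h7.mul_right M.index).symm.trans h6
    rwa [one_mul] at h8
  obtain ⟨q, hq, hi⟩ := h M hM
  have hqG : q ∣ Nat.card G := by
    refine dvd_trans ?_ (Subgroup.index_dvd_card M)
    rcases hi with e | e <;> rw [e]
    exact dvd_pow_self q two_ne_zero
  have hqp : q < p := by
    have hle : q ≤ p := Finset.le_max' π q (Nat.mem_primeFactors.mpr ⟨hq, hqG, Nat.card_pos.ne'⟩)
    refine lt_of_le_of_ne hle fun e => ?_
    have h1 : p ∣ M.index := by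
      rcases hi with e' | e' <;> rw [e', ← e]
      exact dvd_pow_self q two_ne_zero
    exact hp.not_dvd_one ((Nat.ModEq.dvd_iff hmod dvd_rfl).mp h1)
  rcases hi with e | e
  · exfalso
    rw [e] at hmod
    have := hmod.eq_of_lt_of_lt hqp hp.one_lt
    exact hq.ne_one this
  · rw [e] at hmod
    have h1 : (p : ℕ) ∣ (q - 1) * (q + 1) := by
      have h2 := (Nat.modEq_iff_dvd' (Nat.one_le_pow 2 q hq.pos)).mp hmod.symm
      rwa [show q ^ 2 - 1 = (q - 1) * (q + 1) by
        obtain ⟨r, rfl⟩ : ∃ r, q = r + 1 := ⟨q - 1, by have := hq.pos; omega⟩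
        rw [Nat.add_sub_cancel, show (r + 1) ^ 2 = r * (r + 1 + 1) + 1 by ring, Nat.add_sub_cancel]] at h2
    rcases hp.dvd_mul.mp h1 with h2 | h2
    · have := Nat.le_of_dvd (by have := hq.two_le; omega) h2
      omega
    · have h3 := Nat.le_of_dvd (by omega) h2
      have hq2 : q = 2 := by
        rcases hq.eq_two_or_odd with h4 | h4
        · exact h4
        · exfalso
          rcases hp.eq_two_or_odd with h5 | h5
          · have := hq.two_le
            omega
          · omega
      have hp3 : p = 3 := by omega
      refine Cfsg.Agent.S0144.result 2 3 ((Nat.card G).factorization 2) ((Nat.card G).factorization 3)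
        Nat.prime_two Nat.prime_three ?_
      have hsub : π ⊆ ({2, 3} : Finset ℕ) := fun r hr => by
        have h6 : r ≤ p := Finset.le_max' π r hr
        have h7 := (Nat.prime_of_mem_primeFactors hr).two_le
        simp only [Finset.mem_insert, Finset.mem_singleton]
        omega
      conv_lhs => rw [← Nat.prod_factorization_pow_eq_self (Nat.card_pos (α := G)).ne']
      show (∏ x ∈ π, x ^ (Nat.card G).factorization x) = _
      rw [Finset.prod_subset hsub fun x _ hx => ?_]
      · exact Finset.prod_pair (show (2 : ℕ) ≠ 3 by norm_num)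
      · rw [← Nat.support_factorization] at hπ
        rw [Finsupp.notMem_support_iff.mp (hπ ▸ hx), pow_zero]


/-- A finite group in which every maximal subgroup has index a prime or the square of a prime is solvable. -/
theorem result {G : Type*} [Group G] [Finite G] (h : ∀ M : Subgroup G, IsCoatom M → ∃ p : ℕ, p.Prime ∧ (M.index = p ∨ M.index = p ^ 2)) : Group.IsSolvable G := by
  exact aux _ G rfl h

end Cfsg.Agent.S4203
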