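import Cfsg.Statements.S4204
import Mathlib

set_option autoImplicit false
open Cfsg


namespace CfsgLib.LcsJoin

variable {G : Type*} [Group G]

/-- The `a`-th lower central term of `H`, shifted, with the whole group at index `0`. -/
def wt (H : Subgroup G) : ℕ → Subgroup G
  | 0 => ⊤
  | a + 1 => H.lowerCentralSeries a

theorem wt_normal (H : Subgroup G) [H.Normal] : ∀ a, (wt H a).Normal
  | 0 => inferInstanceAs (⊤ : Subgroup G).Normal
  | a + 1 => inferInstanceAs (H.lowerCentralSeries a).Normal

theorem wt_succ_comm (H : Subgroup G) [H.Normal] : ∀ a, ⁅wt H a, H⁆ ≤ wt H (a + 1)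
  | 0 => by
    show ⁅(⊤ : Subgroup G), H⁆ ≤ H.lowerCentralSeries 0
    rw [Subgroup.lowerCentralSeries_zero]
    exact Subgroup.commutator_le_right _ _
  | a + 1 => by
    show ⁅H.lowerCentralSeries a, H⁆ ≤ H.lowerCentralSeries (a + 1)
    rw [Subgroup.lowerCentralSeries_succ]

/-- The filtration of `H ⊔ K`. -/
def tot (H K : Subgroup G) (m : ℕ) : Subgroup G :=
  ⨆ a : {a : ℕ // a ≤ m}, wt H a.1 ⊓ wt K (m - a.1)

theorem le_tot (H K : Subgroup G) (a b m : ℕ) (h : a + b = m) : wt H a ⊓ wt K b ≤ tot H K m := by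
  subst h
  refine le_trans ?_ (le_iSup _ ⟨a, Nat.le_add_right a b⟩)
  rw [Nat.add_sub_cancel_left]

theorem tot_normal (H K : Subgroup G) [H.Normal] [K.Normal] (m : ℕ) : (tot H K m).Normal := by
  have : ∀ a : {a : ℕ // a ≤ m}, (wt H a.1 ⊓ wt K (m - a.1)).Normal := fun a => by
    haveI := wt_normal H a.1
    haveI := wt_normal K (m - a.1)
    infer_instance
  exact ⟨fun x hx g => by
    induction hx using Subgroup.iSup_induction' with
    | hp a y hy => exact (le_iSup (fun a : {a : ℕ // a ≤ m} => wt H a.1 ⊓ wt K (m - a.1)) a) ((this a).conj_mem y hy g)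
    | h1 => simp
    | hmul y z _ _ h h' =>
      rw [show g * (y * z) * g⁻¹ = g * y * g⁻¹ * (g * z * g⁻¹) by group]
      exact mul_mem h h'⟩

theorem lcs_le_tot (H K : Subgroup G) [H.Normal] [K.Normal] :
    ∀ n, (H ⊔ K).lowerCentralSeries n ≤ tot H K (n + 1)
  | 0 => by
    rw [Subgroup.lowerCentralSeries_zero]
    refine sup_le ?_ ?_
    · refine le_trans ?_ (le_tot H K 1 0 1 rfl)
      exact le_inf (le_of_eq (Subgroup.lowerCentralSeries_zero H).symm) le_top
    · refine le_trans ?_ (le_tot H K 0 1 1 rfl)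
      exact le_inf le_top (le_of_eq (Subgroup.lowerCentralSeries_zero K).symm)
  | n + 1 => by
    rw [Subgroup.lowerCentralSeries_succ]
    refine (Subgroup.commutator_mono (lcs_le_tot H K n) le_rfl).trans ?_
    haveI := tot_normal H K (n + 1 + 1)
    have key : ∀ A B : Subgroup G, ⁅A, B⁆ ≤ tot H K (n + 1 + 1) ↔
        ⁅A.map (QuotientGroup.mk' (tot H K (n + 1 + 1))), B.map (QuotientGroup.mk' (tot H K (n + 1 + 1)))⁆ = ⊥ := by
      intro A B
      rw [← Subgroup.map_commutator, Subgroup.map_eq_bot_iff, QuotientGroup.ker_mk']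
    rw [key, show tot H K (n + 1) = ⨆ a : {a : ℕ // a ≤ n + 1}, wt H a.1 ⊓ wt K (n + 1 - a.1) from rfl,
      Subgroup.map_iSup, Subgroup.map_sup, Subgroup.commutator_eq_bot_iff_le_centralizer]
    refine iSup_le fun a => ?_
    rw [← Subgroup.commutator_eq_bot_iff_le_centralizer, Subgroup.commutator_comm,
      Subgroup.commutator_eq_bot_iff_le_centralizer]
    haveI := wt_normal H a.1
    haveI := wt_normal K (n + 1 - a.1)
    refine sup_le ?_ ?_ <;> rw [← Subgroup.commutator_eq_bot_iff_le_centralizer, Subgroup.commutator_comm, ← key]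
    · refine le_trans ?_ (le_tot H K (a.1 + 1) (n + 1 - a.1) _ (by have := a.2; omega))
      exact le_inf ((Subgroup.commutator_mono inf_le_left le_rfl).trans (wt_succ_comm H a.1))
        ((Subgroup.commutator_mono inf_le_right le_rfl).trans (Subgroup.commutator_le_left _ _))
    · refine le_trans ?_ (le_tot H K a.1 (n + 1 - a.1 + 1) _ (by have := a.2; omega))
      exact le_inf ((Subgroup.commutator_mono inf_le_left le_rfl).trans (Subgroup.commutator_le_left _ _))
        ((Subgroup.commutator_mono inf_le_right le_rfl).trans (wt_succ_comm K _))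

theorem lcs_sup_eq_bot (H K : Subgroup G) [H.Normal] [K.Normal] (c d : ℕ) (hH : H.lowerCentralSeries c = ⊥)
    (hK : K.lowerCentralSeries d = ⊥) : (H ⊔ K).lowerCentralSeries (c + d) = ⊥ := by
  refine eq_bot_iff.mpr ((lcs_le_tot H K (c + d)).trans (iSup_le fun a => ?_))
  by_cases ha : c + 1 ≤ a.1
  · obtain ⟨e, he⟩ : ∃ e, a.1 = e + 1 := ⟨a.1 - 1, by omega⟩
    refine inf_le_left.trans ?_
    rw [he]
    exact (Subgroup.lowerCentralSeries_antitone H (show c ≤ e by omega)).trans hH.le
  · obtain ⟨e, he⟩ : ∃ e, c + d + 1 - a.1 = e + 1 := ⟨c + d - a.1, by omega⟩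
    refine inf_le_right.trans ?_
    rw [he]
    exact (Subgroup.lowerCentralSeries_antitone K (show d ≤ e by omega)).trans hK.le

end CfsgLib.LcsJoin

namespace Cfsg.Agent.S4204

/-- If `H` and `K` are normal subgroups of a finite group with `H` nilpotent of class at most `c` and `K` nilpotent of class at most `d` (the terms with index `c`, respectively `d`, of their lower central series are trivial, indices starting at `0`), then `HK` is nilpotent of class at most `c + d`. -/
theorem result {G : Type*} [Group G] [Finite G] (H K : Subgroup G) [H.Normal] [K.Normal] (c d : ℕ) (hH : H.lowerCentralSeries c = ⊥) (hK : K.lowerCentralSeries d = ⊥) : (H ⊔ K).lowerCentralSeries (c + d) = ⊥ := by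
  exact CfsgLib.LcsJoin.lcs_sup_eq_bot H K c d hH hK

end Cfsg.Agent.S4204
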