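import Cfsg.Statements.S4206
import Mathlib

set_option autoImplicit false
open Cfsg

namespace Cfsg.Agent.S4206

/-- Let `H 0 ≥ H 1 ≥ H 2 ≥ ⋯` be normal subgroups of a finite group and `L` a subgroup with `⁅H i, L⁆ ≤ H (i+1)` for all `i`. Then `⁅H i, γ⁆ ≤ H (i + j + 1)` where `γ` is the `j`-th term of the lower central series of `L` (indexed from `0`, so the term with index `j` is the `(j+1)`-fold commutator). -/
theorem result {G : Type*} [Group G] [Finite G] (H : ℕ → Subgroup G) (hN : ∀ i, (H i).Normal) (hdesc : ∀ i, H (i + 1) ≤ H i) (L : Subgroup G) (hL : ∀ i, ⁅H i, L⁆ ≤ H (i + 1)) (i j : ℕ) : ⁅H i, L.lowerCentralSeries j⁆ ≤ H (i + j + 1) := by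
  have main : ∀ j i, ⁅H i, L.lowerCentralSeries j⁆ ≤ H (i + j + 1) := by
    intro j
    induction j with
    | zero => intro i; rw [Subgroup.lowerCentralSeries_zero]; exact hL i
    | succ j ih =>
      intro i
      haveI := hN (i + (j + 1) + 1)
      rw [Subgroup.lowerCentralSeries_succ, Subgroup.commutator_comm, ← QuotientGroup.ker_mk' (H (i + (j + 1) + 1)),
        ← Subgroup.map_eq_bot_iff, Subgroup.map_commutator, Subgroup.map_commutator]
      apply Subgroup.commutator_commutator_eq_bot_of_rotate
      · rw [← Subgroup.map_commutator, ← Subgroup.map_commutator, Subgroup.map_eq_bot_iff, QuotientGroup.ker_mk']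
        refine (Subgroup.commutator_mono (?_ : ⁅L, H i⁆ ≤ H (i + 1)) le_rfl).trans ?_
        · rw [Subgroup.commutator_comm]; exact hL i
        · exact (ih (i + 1)).trans (le_of_eq (congrArg H (by omega)))
      · rw [← Subgroup.map_commutator, ← Subgroup.map_commutator, Subgroup.map_eq_bot_iff, QuotientGroup.ker_mk']
        refine (Subgroup.commutator_mono (ih i) le_rfl).trans ?_
        exact (hL _).trans (le_of_eq (congrArg H (by omega)))
  exact main j i

end Cfsg.Agent.S4206
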