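import Cfsg.Statements.S4207
import Cfsg.Agent.Lib.PGroup.Generators

set_option autoImplicit false
open Cfsg

namespace Cfsg.Agent.S4207

/-- Let `P` be a group of order `p^n` whose Frattini subgroup has index `p^r`. Then any group of automorphisms of `P` each of which induces the identity on the Frattini quotient has order dividing `p^(r(n-r))`; in particular it is a `p`-group. -/
theorem result {P : Type*} [Group P] [Finite P] {p n r : ℕ} [Fact p.Prime] (hP : Nat.card P = p ^ n) (hr : (frattini P).index = p ^ r) (A : Subgroup (MulAut P)) (hA : ∀ α ∈ A, ∀ x : P, α x * x⁻¹ ∈ frattini P) : Nat.card A ∣ p ^ (r * (n - r)) := by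
  classical
  have hp : p.Prime := Fact.out
  have hPp : IsPGroup p P := IsPGroup.of_card hP
  obtain ⟨S, hS, hgen⟩ := CfsgLib.PGroup.exists_generators hPp (frattini P) le_rfl hr.le
  have hΦ : Nat.card (frattini P) = p ^ (n - r) := by
    have h1 := (frattini P).card_mul_index
    obtain ⟨a, ha⟩ := IsPGroup.iff_card.mp (hPp.to_subgroup (frattini P))
    rw [hr, hP, ha, ← pow_add] at h1
    have := Nat.pow_right_injective hp.two_le h1
    rw [ha, show a = n - r by omega]
  let F : Type _ := S → frattini P
  have hmem : ∀ α : A, ∀ f : F, ∀ s : S, (α : MulAut P) ((f s : P) * s) * (s : P)⁻¹ ∈ frattini P := by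
    intro α f s
    rw [map_mul, mul_assoc]
    exact mul_mem (Subgroup.characteristic_iff_map_le.mp inferInstance (α : MulAut P)
      (Subgroup.mem_map_of_mem _ (f s).2)) (hA α α.2 s)
  letI : MulAction A F :=
    { smul := fun α f s => ⟨_, hmem α f s⟩
      one_smul := fun f => funext fun s => Subtype.ext (by
        show (f s : P) * s * (s : P)⁻¹ = f s
        exact mul_inv_cancel_right _ _)
      mul_smul := fun α β f => funext fun s => Subtype.ext (by
        show ((α : MulAut P) * β) ((f s : P) * s) * (s : P)⁻¹ =
          (α : MulAut P) ((β : MulAut P) ((f s : P) * s) * (s : P)⁻¹ * s) * (s : P)⁻¹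
        rw [inv_mul_cancel_right, MulAut.mul_apply]) }
  have hfree : ∀ f : F, MulAction.stabilizer A f = ⊥ := by
    intro f
    refine (Subgroup.eq_bot_iff_forall _).mpr fun α hα => Subtype.ext ?_
    have hfix : ∀ s : S, (α : MulAut P) ((f s : P) * s) = (f s : P) * s := fun s => by
      have h1 : (α : MulAut P) ((f s : P) * s) * (s : P)⁻¹ = f s :=
        congrArg (fun g : F => ((g s : frattini P) : P)) (MulAction.mem_stabilizer_iff.mp hα)
      exact mul_inv_eq_iff_eq_mul.mp h1
    have htop : Subgroup.closure (Set.range fun s : S => (f s : P) * s) = ⊤ := by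
      refine frattini_nongenerating (eq_top_iff.mpr (hgen.ge.trans ((Subgroup.closure_le _).mpr ?_)))
      intro s hs
      have h1 := mul_mem
        (Subgroup.mem_sup_right (S := Subgroup.closure (Set.range fun s : S => (f s : P) * s))
          (inv_mem (f ⟨s, hs⟩).2))
        (Subgroup.mem_sup_left (T := frattini P) (Subgroup.subset_closure (Set.mem_range_self ⟨s, hs⟩)))
      simpa using h1
    apply MulEquiv.toMonoidHom_injective
    exact MonoidHom.eq_of_eqOn_dense htop (by rintro _ ⟨s, rfl⟩; exact hfix s)
  have hdvd : Nat.card A ∣ Nat.card F := by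
    rw [Nat.card_congr (MulAction.selfEquivOrbitsQuotientProd hfree), Nat.card_prod]
    exact dvd_mul_left _ _
  refine hdvd.trans ?_
  rw [Nat.card_fun, hΦ, Nat.card_eq_finsetCard, ← pow_mul, mul_comm r]
  exact pow_dvd_pow p (Nat.mul_le_mul_left _ hS)

end Cfsg.Agent.S4207
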