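import Cfsg.Statements.S4208
import Cfsg.Agent.Lib.PSolvable.Omega

set_option autoImplicit false
open Cfsg
open scoped commutatorElement

namespace Cfsg.Agent.S4208

/-- Let `P` be a group of order `p^n` whose Frattini subgroup has index `p^r`. Then the order of the automorphism group of `P` divides `p^(r(n-r)) · (p^r - 1)(p^r - p) ⋯ (p^r - p^(r-1))`. -/
theorem result {P : Type*} [Group P] [Finite P] {p n r : ℕ} [Fact p.Prime] (hP : Nat.card P = p ^ n) (hr : (frattini P).index = p ^ r) : Nat.card (MulAut P) ∣ p ^ (r * (n - r)) * ∏ i ∈ Finset.range r, (p ^ r - p ^ i) := by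
  classical
  have hP' : IsPGroup p P := IsPGroup.of_card hP
  set Φ := frattini P with hΦ
  haveI : Φ.Normal := Subgroup.normal_of_characteristic _
  obtain ⟨hcomm, hpow⟩ := CfsgLib.PSolvable.commutator_le_frattini hP'
  -- the quotient is an elementary abelian group
  have hmc : ∀ a b : P ⧸ Φ, a * b = b * a := by
    intro a b
    obtain ⟨x, rfl⟩ := QuotientGroup.mk_surjective a
    obtain ⟨y, rfl⟩ := QuotientGroup.mk_surjective b
    rw [← QuotientGroup.mk_mul, ← QuotientGroup.mk_mul, QuotientGroup.eq]
    refine hcomm ?_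
    rw [show (x * y)⁻¹ * (y * x) = ⁅y⁻¹, x⁻¹⁆ by rw [commutatorElement_def]; group]
    exact Subgroup.commutator_mem_commutator (Subgroup.mem_top _) (Subgroup.mem_top _)
  have hexp : ∀ v : P ⧸ Φ, v ^ p = 1 := by
    intro v
    obtain ⟨x, rfl⟩ := QuotientGroup.mk_surjective v
    rw [← QuotientGroup.mk_pow, (QuotientGroup.eq_one_iff _).mpr (hpow x)]
  letI : CommGroup (P ⧸ Φ) := { (inferInstance : Group (P ⧸ Φ)) with mul_comm := hmc }
  haveI : Module (ZMod p) (Additive (P ⧸ Φ)) := AddCommGroup.zmodModule (fun v => hexp v.toMul)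
  have hVcard : Nat.card (Additive (P ⧸ Φ)) = p ^ r := by rw [← hr]; rfl
  haveI : Finite (Additive (P ⧸ Φ)) := Finite.of_equiv _ (Additive.ofMul (α := P ⧸ Φ))
  haveI : Module.Finite (ZMod p) (Additive (P ⧸ Φ)) := Module.Finite.of_finite (R := ZMod p) (M := (Additive (P ⧸ Φ)))
  have hfr : Module.finrank (ZMod p) (Additive (P ⧸ Φ)) = r := by
    have h : Nat.card (Additive (P ⧸ Φ)) = Nat.card (ZMod p) ^ Module.finrank (ZMod p) (Additive (P ⧸ Φ)) :=
      Module.natCard_eq_pow_finrank (K := ZMod p) (V := Additive (P ⧸ Φ))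
    rw [hVcard, Nat.card_zmod] at h
    exact (Nat.pow_right_injective (Fact.out : p.Prime).two_le h).symm
  -- generating tuples
  let X := {t : Fin r → P // Subgroup.closure (Set.range t) = ⊤}
  let π : P → (Additive (P ⧸ Φ)) := fun x => Additive.ofMul (x : P ⧸ Φ)
  have hgen : ∀ t : Fin r → P, Subgroup.closure (Set.range t) = ⊤ ↔
      LinearIndependent (ZMod p) (π ∘ t) := by
    intro t
    have hspan : (⊤ : Submodule (ZMod p) (Additive (P ⧸ Φ))) ≤ Submodule.span (ZMod p) (Set.range (π ∘ t)) ↔
        Subgroup.closure (Set.range t) = ⊤ := by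
      constructor
      · intro h
        apply frattini_nongenerating
        rw [eq_top_iff]
        intro x _
        have hx : π x ∈ Submodule.span (ZMod p) (Set.range (π ∘ t)) := SetLike.le_def.mp h Submodule.mem_top
        have key : ∀ v : (Additive (P ⧸ Φ)), v ∈ Submodule.span (ZMod p) (Set.range (π ∘ t)) →
            v.toMul ∈ (Subgroup.closure (Set.range t)).map (QuotientGroup.mk' Φ) := by
          intro v hv
          induction hv using Submodule.span_induction with
          | mem v hv =>
            obtain ⟨i, rfl⟩ := hv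
            exact ⟨t i, Subgroup.subset_closure ⟨i, rfl⟩, rfl⟩
          | zero => exact one_mem _
          | add v w _ _ hv hw => exact mul_mem hv hw
          | smul c v _ hv =>
            rw [← ZMod.natCast_zmod_val c, Nat.cast_smul_eq_nsmul]
            exact pow_mem hv _
        obtain ⟨y, hy, hyx⟩ := key _ hx
        have : y⁻¹ * x ∈ Φ := QuotientGroup.eq.mp hyx
        rw [show x = y * (y⁻¹ * x) by group]
        exact Subgroup.mul_mem_sup hy this
      · intro h
        refine SetLike.le_def.mpr fun {v} _ => ?_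
        obtain ⟨x, hx⟩ := QuotientGroup.mk_surjective v.toMul
        have key : ∀ x ∈ Subgroup.closure (Set.range t), π x ∈ Submodule.span (ZMod p) (Set.range (π ∘ t)) := by
          intro x hx
          induction hx using Subgroup.closure_induction with
          | mem x hx => obtain ⟨i, rfl⟩ := hx; exact Submodule.subset_span ⟨i, rfl⟩
          | one => exact Submodule.zero_mem _
          | mul x y _ _ hx hy => exact Submodule.add_mem _ hx hy
          | inv x _ hx => exact Submodule.neg_mem _ hx
        have := key x (h ▸ Subgroup.mem_top x)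
        rwa [show π x = v from congrArg Additive.ofMul hx] at this
    rw [← hspan]
    constructor
    · intro h
      exact linearIndependent_of_top_le_span_of_card_eq_finrank h (by rw [hfr, Fintype.card_fin])
    · intro h
      exact (LinearIndependent.span_eq_top_of_card_eq_finrank' h (by rw [hfr, Fintype.card_fin])).ge
  have hX : Nat.card X = (∏ i ∈ Finset.range r, (p ^ r - p ^ i)) * Nat.card Φ ^ r := by
    choose s hs using fun v : P ⧸ Φ => QuotientGroup.mk_surjective v
    have hmk : ∀ (v : (Additive (P ⧸ Φ))) (y : Φ), π (s v.toMul * (y : P)) = v := fun v y => by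
      show Additive.ofMul ((s v.toMul * (y : P) : P) : P ⧸ Φ) = v
      rw [QuotientGroup.mk_mul, hs, (QuotientGroup.eq_one_iff _).mpr y.2, mul_one]
      rfl
    have e : X ≃ {f : Fin r → (Additive (P ⧸ Φ)) // LinearIndependent (ZMod p) f} × (Fin r → Φ) :=
      { toFun := fun t => (⟨π ∘ t.1, (hgen t.1).mp t.2⟩,
          fun i => ⟨(s ((t.1 i : P) : P ⧸ Φ))⁻¹ * t.1 i, QuotientGroup.eq.mp (hs _)⟩)
        invFun := fun z => ⟨fun i => s (z.1.1 i).toMul * (z.2 i : P), (hgen _).mpr (by
          rw [show (π ∘ fun i => s (z.1.1 i).toMul * (z.2 i : P)) = z.1.1 from funext fun i => hmk _ _]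
          exact z.1.2)⟩
        left_inv := fun t => Subtype.ext (funext fun i => mul_inv_cancel_left _ _)
        right_inv := fun z => by
          refine Prod.ext (Subtype.ext (funext fun i => hmk _ _)) (funext fun i => Subtype.ext ?_)
          show (s ((s (z.1.1 i).toMul * (z.2 i : P) : P) : P ⧸ Φ))⁻¹ * (s (z.1.1 i).toMul * (z.2 i : P)) = z.2 i
          rw [show ((s (z.1.1 i).toMul * (z.2 i : P) : P) : P ⧸ Φ) = (z.1.1 i).toMul from
            congrArg Additive.toMul (hmk _ _), inv_mul_cancel_left] }
    rw [Nat.card_congr e, Nat.card_prod, Nat.card_fun, Nat.card_eq_fintype_card (α := Fin r),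
      Fintype.card_fin, card_linearIndependent (by rw [hfr]), hfr, ZMod.card,
      Fin.prod_univ_eq_prod_range (fun i => p ^ r - p ^ i)]
  have hΦc : Nat.card Φ = p ^ (n - r) := by
    have h := Subgroup.card_mul_index Φ
    rw [hP, hr] at h
    have hrn : r ≤ n := (Nat.pow_dvd_pow_iff_le_right (Fact.out : p.Prime).one_lt).mp (Dvd.intro_left _ h)
    refine Nat.eq_of_mul_eq_mul_right (pow_pos (Fact.out : p.Prime).pos r) ?_
    rw [h, ← pow_add, Nat.sub_add_cancel hrn]
  -- automorphisms act freely on generating tuples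
  letI : MulAction (MulAut P) X :=
    { smul := fun φ t => ⟨φ ∘ t.1, by
        rw [Set.range_comp]
        have := MonoidHom.map_closure φ.toMonoidHom (Set.range t.1)
        rw [t.2, Subgroup.map_top_of_surjective _ φ.surjective] at this
        exact this.symm⟩
      one_smul := fun t => Subtype.ext (funext fun i => rfl)
      mul_smul := fun φ ψ t => Subtype.ext (funext fun i => rfl) }
  have hfree : ∀ t : X, MulAction.stabilizer (MulAut P) t = ⊥ := by
    intro t
    rw [eq_bot_iff]
    intro φ hφ
    rw [MulAction.mem_stabilizer_iff] at hφ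
    rw [Subgroup.mem_bot]
    ext x
    have h1 : ∀ i, φ (t.1 i) = t.1 i := fun i => congrFun (congrArg Subtype.val hφ) i
    exact MonoidHom.eqOn_closure (f := φ.toMonoidHom) (g := MonoidHom.id P)
      (fun y hy => by obtain ⟨i, rfl⟩ := hy; exact h1 i) (t.2 ▸ Subgroup.mem_top x)
  have hdvd : Nat.card (MulAut P) ∣ Nat.card X := by
    have := Fintype.ofFinite (MulAction.orbitRel.Quotient (MulAut P) X)
    rw [Nat.card_congr (MulAction.selfEquivSigmaOrbits (MulAut P) X), Nat.card_sigma]
    refine Finset.dvd_sum fun o _ => dvd_of_eq ?_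
    rw [← (Subgroup.card_bot (G := MulAut P)) |> fun _ =>
      Nat.card_congr (MulAction.orbitProdStabilizerEquivGroup (MulAut P) o.out), Nat.card_prod,
      hfree o.out, Subgroup.card_bot, mul_one]
  rw [hX, hΦc, ← pow_mul, mul_comm (∏ i ∈ Finset.range r, (p ^ r - p ^ i))] at hdvd
  rwa [mul_comm r]

end Cfsg.Agent.S4208
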