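import Cfsg.Statements.S4212
import Cfsg.Agent.Lib.Frobenius.Roots

set_option autoImplicit false
open Cfsg

namespace Cfsg.Agent.S4212

/-- Let `G` be a finite group of order `g`, `c` an element whose conjugacy class has `h` elements, and `n` a natural number. Then the number of elements `x` of `G` with `x^n` conjugate to `c` is a multiple of `gcd(hn, g)`. -/
theorem result {G : Type*} [Group G] [Finite G] (c : G) (n : ℕ) : Nat.gcd (Nat.card {y : G // IsConj c y} * n) (Nat.card G) ∣ Nat.card {x : G // IsConj c (x ^ n)} := by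
  classical
  have := Fintype.ofFinite G
  have hsum : Nat.card {x : G // IsConj c (x ^ n)} =
      Nat.card {y : G // IsConj c y} * CfsgLib.Frobenius.roots c n := by
    have e : {x : G // IsConj c (x ^ n)} ≃ Σ y : {y : G // IsConj c y}, {x : G // x ^ n = y.1} :=
      { toFun := fun x => ⟨⟨x.1 ^ n, x.2⟩, ⟨x.1, rfl⟩⟩
        invFun := fun x => ⟨x.2.1, by rw [x.2.2]; exact x.1.2⟩
        left_inv := fun x => rfl
        right_inv := fun x => by
          obtain ⟨⟨y, hy⟩, z, hz⟩ := x
          simp only at hz
          subst hz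
          rfl }
    have hk : ∀ y : {y : G // IsConj c y},
        Nat.card {x : G // x ^ n = y.1} = CfsgLib.Frobenius.roots c n := fun y => by
      obtain ⟨g, hg⟩ := isConj_iff.mp y.2
      rw [← hg]
      exact CfsgLib.Frobenius.roots_conj c g n
    rw [Nat.card_congr e, Nat.card_sigma, Finset.sum_congr rfl fun y _ => hk y, Finset.sum_const,
      Finset.card_univ, smul_eq_mul, ← Nat.card_eq_fintype_card]
  rw [hsum, ← CfsgLib.Invol.card_isConj_mul_card_centralizer c, Nat.gcd_mul_left]
  exact Nat.mul_dvd_mul_left _ (CfsgLib.Frobenius.gcd_dvd_roots n c)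

end Cfsg.Agent.S4212
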