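import Cfsg.Statements.S4213
import Cfsg.Agent.Lib.Frobenius.Roots
import Cfsg.Agent.Lib.Perm.Isospectral

set_option autoImplicit false
open Cfsg


namespace CfsgLib.Frobenius

theorem exactSolutions_aux : ∀ (N : ℕ) (G : Type*) [Group G] [Finite G] [Group.IsSolvable G],
    Nat.card G ≤ N → ∀ n : ℕ, n ∣ Nat.card G → Nat.card {x : G // x ^ n = 1} = n →
      ∃ H : Subgroup G, H.Normal ∧ (H : Set G) = {x : G | x ^ n = 1} := by
  intro N
  induction N with
  | zero =>
    intro G _ _ _ h
    exact absurd (Nat.card_pos (α := G)) (by omega)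
  | succ N ih =>
    intro G _ _ _ hG n hn hcount
    have hn0 : n ≠ 0 := fun h => by
      rw [h, zero_dvd_iff] at hn
      exact Nat.card_pos.ne' hn
    -- it suffices to find a subgroup of order `n`
    suffices ∃ H : Subgroup G, Nat.card H = n by
      obtain ⟨H, hH⟩ := this
      have hsub : ∀ x ∈ H, x ^ n = 1 := fun x hx => by
        rw [← hH]
        exact congrArg Subtype.val (pow_card_eq_one' (x := (⟨x, hx⟩ : H)))
      have heq : (H : Set G) = {x : G | x ^ n = 1} :=
        Set.eq_of_subset_of_ncard_le hsub (by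
          rw [← Nat.card_coe_set_eq, ← Nat.card_coe_set_eq]
          exact le_of_eq (hcount.trans hH.symm)) (Set.toFinite _)
      refine ⟨H, ⟨fun x hx g => ?_⟩, heq⟩
      rw [← SetLike.mem_coe, heq]
      show (g * x * g⁻¹) ^ n = 1
      rw [← MulAut.conj_apply, ← map_pow, hsub x hx, map_one]
    by_cases htriv : Nat.card G = 1
    · exact ⟨⊤, by rw [Subgroup.card_top, htriv]; exact (Nat.dvd_one.mp (htriv ▸ hn)).symm⟩
    haveI : Nontrivial G := Finite.one_lt_card_iff_nontrivial.mp (by
      have := Nat.card_pos (α := G)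
      omega)
    obtain ⟨M, p, hp, hMn, hM1, -, hMpow⟩ := Isospectral.exists_elementary (⊤ : Subgroup G) top_ne_bot
    haveI := hMn
    have hMp : IsPGroup p M := fun x => ⟨1, Subtype.ext (by rw [pow_one]; exact hMpow _ x.2)⟩
    haveI := Fact.mk hp
    obtain ⟨k, hk⟩ := hMp.exists_card_eq
    have hM : 1 < Nat.card M := Subgroup.one_lt_card_iff_ne_bot _ |>.mpr hM1
    have hcardQ : Nat.card G = Nat.card (G ⧸ M) * Nat.card M := Subgroup.card_eq_card_quotient_mul_card_subgroup M
    have hQlt : Nat.card (G ⧸ M) ≤ N := by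
      have : Nat.card (G ⧸ M) * 2 ≤ Nat.card (G ⧸ M) * Nat.card M := Nat.mul_le_mul_left _ hM
      have := Nat.card_pos (α := G ⧸ M)
      omega
    haveI : Group.IsSolvable (G ⧸ M) := Group.isSolvable_of_surjective (QuotientGroup.mk'_surjective M)
    -- lifting solutions
    have hlift : ∀ b : ℕ, Nat.card {y : G ⧸ M // y ^ b = 1} * Nat.card M =
        Nat.card {x : G // x ^ b ∈ M} := by
      intro b
      rw [← Nat.card_prod]
      choose s hs using fun y : G ⧸ M => QuotientGroup.mk_surjective y
      refine Nat.card_congr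
        { toFun := fun z => ⟨s z.1.1 * z.2, by
            rw [← QuotientGroup.eq_one_iff, QuotientGroup.mk_pow, QuotientGroup.mk_mul, hs,
              (QuotientGroup.eq_one_iff _).mpr z.2.2, mul_one, z.1.2]⟩
          invFun := fun x => (⟨x.1, by rw [← QuotientGroup.mk_pow, (QuotientGroup.eq_one_iff _).mpr x.2]⟩,
            ⟨(s x.1)⁻¹ * x.1, by rw [← QuotientGroup.eq, hs]⟩)
          left_inv := fun z => by
            have e : ((s z.1.1 * z.2 : G) : G ⧸ M) = z.1.1 := by
              rw [QuotientGroup.mk_mul, hs, (QuotientGroup.eq_one_iff _).mpr z.2.2, mul_one]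
            refine Prod.ext (Subtype.ext e) (Subtype.ext ?_)
            show (s ((s z.1.1 * z.2 : G) : G ⧸ M))⁻¹ * (s z.1.1 * z.2) = z.2
            rw [e, inv_mul_cancel_left]
          right_inv := fun x => Subtype.ext (mul_inv_cancel_left _ _) }
    have hdiv : ∀ b : ℕ, b ∣ Nat.card (G ⧸ M) → b ∣ Nat.card {y : G ⧸ M // y ^ b = 1} := fun b hb => by
      have h := gcd_dvd_card_pow_mem b (fun y : G ⧸ M => y = 1)
        (fun y g hy => by rw [hy, mul_one, mul_inv_cancel])
      rwa [Nat.gcd_eq_left hb] at h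
    have hpos : ∀ b : ℕ, 0 < Nat.card {y : G ⧸ M // y ^ b = 1} := fun b => by
      have : Nonempty {y : G ⧸ M // y ^ b = 1} := ⟨⟨1, one_pow b⟩⟩
      exact Nat.card_pos
    have hpre : ∀ H : Subgroup (G ⧸ M),
        Nat.card (H.comap (QuotientGroup.mk' M)) = Nat.card H * Nat.card M := by
      intro H
      have h1 : (H.comap (QuotientGroup.mk' M)).index = H.index :=
        Subgroup.index_comap_of_surjective H (QuotientGroup.mk'_surjective M)
      have h2 := Subgroup.card_mul_index (H.comap (QuotientGroup.mk' M))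
      rw [h1, hcardQ, ← Subgroup.card_mul_index H] at h2
      exact Nat.eq_of_mul_eq_mul_right (Nat.pos_of_ne_zero Subgroup.index_ne_zero_of_finite)
        (by linarith [mul_right_comm (Nat.card H) H.index (Nat.card M)])
    by_cases hpn : p ∣ n
    · obtain ⟨c, hc⟩ := hpn
      set b := Nat.gcd c (Nat.card (G ⧸ M)) with hb
      have hbQ : b ∣ Nat.card (G ⧸ M) := Nat.gcd_dvd_right _ _
      have hk1 : 1 ≤ k := by
        rcases Nat.eq_zero_or_pos k with h | h
        · rw [hk, h, pow_zero] at hM; omega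
        · exact h
      have h1 : n ∣ b * Nat.card M := by
        rw [hb, ← Nat.gcd_mul_right, ← hcardQ]
        refine Nat.dvd_gcd ?_ hn
        rw [hc, mul_comm p c, hk]
        exact Nat.mul_dvd_mul_left c (dvd_pow_self p (by omega))
      have h2 : Nat.card {y : G ⧸ M // y ^ b = 1} * Nat.card M ≤ n := by
        rw [hlift, ← hcount]
        refine Nat.card_le_card_of_injective (fun x => ⟨x.1, ?_⟩) fun x y e => Subtype.ext (congrArg (·.1) e)
        obtain ⟨d, hd⟩ : b ∣ c := Nat.gcd_dvd_left _ _
        rw [hc, hd, show p * (b * d) = b * (p * d) by ring, pow_mul, pow_mul, hMpow _ x.2, one_pow]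
      have h3 : b ≤ Nat.card {y : G ⧸ M // y ^ b = 1} := Nat.le_of_dvd (hpos b) (hdiv b hbQ)
      have h5 : n ≤ b * Nat.card M := Nat.le_of_dvd
        (Nat.mul_pos (Nat.gcd_pos_of_pos_right _ Nat.card_pos) Nat.card_pos) h1
      have h6 : Nat.card {y : G ⧸ M // y ^ b = 1} = b :=
        le_antisymm (Nat.le_of_mul_le_mul_right (h2.trans h5) Nat.card_pos) h3
      obtain ⟨H, -, hH⟩ := ih (G ⧸ M) hQlt b hbQ h6
      refine ⟨H.comap (QuotientGroup.mk' M), ?_⟩
      have hcardH : Nat.card H = b := by
        rw [← h6]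
        exact Nat.card_congr (Equiv.setCongr hH)
      rw [hpre, hcardH]
      rw [h6] at h2
      exact le_antisymm h2 h5
    · have hcop : n.Coprime (Nat.card M) := by
        rw [hk]; exact ((hp.coprime_iff_not_dvd.mpr hpn).pow_left k).symm
      have hnQ : n ∣ Nat.card (G ⧸ M) := hcop.dvd_mul_right.mp (hcardQ ▸ hn)
      have h2 : Nat.card {y : G ⧸ M // y ^ n = 1} ≤ n := by
        refine le_of_le_of_eq ?_ hcount
        refine Nat.card_le_card_of_surjective (fun x => ⟨(x.1 : G), by
          rw [← QuotientGroup.mk_pow, x.2, QuotientGroup.mk_one]⟩) fun y => ?_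
        obtain ⟨x, hx⟩ := QuotientGroup.mk_surjective y.1
        have hxn : x ^ n ∈ M := by
          rw [← QuotientGroup.eq_one_iff, QuotientGroup.mk_pow, hx, y.2]
        obtain ⟨i, hi⟩ := exists_pow_eq_self_of_coprime (n := n) (x := x ^ n)
          (hcop.coprime_dvd_right (Subgroup.orderOf_dvd_natCard M hxn))
        refine ⟨⟨x * ((x ^ n) ^ i)⁻¹, ?_⟩, ?_⟩
        · rw [((((Commute.refl x).pow_right n).pow_right i).inv_right).mul_pow, inv_pow, ← pow_mul (x ^ n),
            mul_comm i n, pow_mul, hi, mul_inv_cancel]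
        · refine Subtype.ext ?_
          show ((x * ((x ^ n) ^ i)⁻¹ : G) : G ⧸ M) = y.1
          rw [QuotientGroup.mk_mul, (QuotientGroup.eq_one_iff _).mpr (inv_mem (pow_mem hxn i)), mul_one, hx]
      obtain ⟨H, -, hH⟩ := ih (G ⧸ M) hQlt n hnQ
        (le_antisymm h2 (Nat.le_of_dvd (hpos n) (hdiv n hnQ)))
      have hcardH : Nat.card H = n := by
        refine (Nat.card_congr (Equiv.setCongr hH)).trans ?_
        exact le_antisymm h2 (Nat.le_of_dvd (hpos n) (hdiv n hnQ))
      let P := H.comap (QuotientGroup.mk' M)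
      have hMP : M ≤ P := fun x hx => by
        show (x : G ⧸ M) ∈ H
        rw [(QuotientGroup.eq_one_iff x).mpr hx]; exact one_mem _
      have hMPcard : Nat.card (M.subgroupOf P) = Nat.card M :=
        Nat.card_congr (Subgroup.subgroupOfEquivOfLe hMP).toEquiv
      have hind : (M.subgroupOf P).index = n := by
        have := Subgroup.card_mul_index (M.subgroupOf P)
        rw [hMPcard, hpre, hcardH, mul_comm n] at this
        exact Nat.eq_of_mul_eq_mul_left Nat.card_pos this
      obtain ⟨K, hK⟩ := Subgroup.exists_right_complement'_of_coprime (N := M.subgroupOf P)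
        (by rw [hMPcard, hind]; exact hcop.symm)
      refine ⟨K.map P.subtype, ?_⟩
      rw [Subgroup.card_map_of_injective Subtype.coe_injective, ← hind, ← hK.symm.index_eq_card]

end CfsgLib.Frobenius

namespace Cfsg.Agent.S4213

/-- If `G` is a finite solvable group and `n` divides the order of `G` and exactly `n` elements `x` of `G` satisfy `x^n = 1`, then these elements form a normal subgroup. -/
theorem result {G : Type*} [Group G] [Finite G] [Group.IsSolvable G] (n : ℕ) (hn : n ∣ Nat.card G) (hcount : Nat.card {x : G // x ^ n = 1} = n) : ∃ H : Subgroup G, H.Normal ∧ (H : Set G) = {x : G | x ^ n = 1} := by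
  exact CfsgLib.Frobenius.exactSolutions_aux _ G le_rfl n hn hcount

end Cfsg.Agent.S4213
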