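import Cfsg.Statements.S4214
import Mathlib
import Cfsg.Agent.Lib.Hall.Basic
import Cfsg.Agent.S0043

-- statement Cfsg.CfsgFrozen.S4214

set_option autoImplicit false

universe u

open Pointwise

namespace Cfsg.Agent.S4214

variable {G : Type u} [Group G] [Finite G]

/-- A factor of the Hall count. -/
def Good (G : Type u) [Group G] (m f : ℕ) : Prop :=
  (∃ q e : ℕ, q.Prime ∧ f = q ^ e) ∧ (∃ K L : Subgroup G, K.Normal ∧ L.Normal ∧ K < L ∧
    (∀ M : Subgroup G, M.Normal → K ≤ M → M ≤ L → M = K ∨ M = L) ∧ f ∣ K.relIndex L) ∧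
    (∃ q : ℕ, q.Prime ∧ q ∣ m ∧ f ≡ 1 [MOD q])

lemma good_lift {N : Subgroup G} [N.Normal] {m m' f : ℕ} (hm : m' ∣ m) (h : Good (G ⧸ N) m' f) :
    Good G m f := by
  obtain ⟨h1, ⟨K, L, hK, hL, hKL, hch, hf⟩, q, hq, hqm, hmod⟩ := h
  set π := QuotientGroup.mk' N
  have hπ : Function.Surjective π := QuotientGroup.mk'_surjective N
  refine ⟨h1, ⟨K.comap π, L.comap π, hK.comap π, hL.comap π,
    (Subgroup.comap_lt_comap_of_surjective hπ).mpr hKL, fun M hM hKM hML => ?_, ?_⟩,
    q, hq, hqm.trans hm, hmod⟩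
  · have hMN : N ≤ M := by
      refine le_trans (fun n hn => ?_) hKM
      show π n ∈ K
      rw [show π n = 1 from (QuotientGroup.eq_one_iff n).mpr hn]
      exact one_mem _
    have e : (M.map π).comap π = M := by
      rw [Subgroup.comap_map_eq, QuotientGroup.ker_mk', sup_eq_left.mpr hMN]
    rcases hch (M.map π) (hM.map π hπ)
        (by rw [← Subgroup.map_comap_eq_self_of_surjective hπ K]; exact Subgroup.map_mono hKM)
        (by rw [← Subgroup.map_comap_eq_self_of_surjective hπ L]; exact Subgroup.map_mono hML)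
      with h | h
    · left; rw [← e, h]
    · right; rw [← e, h]
  · rwa [Subgroup.relIndex_comap, Subgroup.map_comap_eq_self_of_surjective hπ]

lemma card_count {m n : ℕ} [Group.IsSolvable G] (hG : Nat.card G = m * n) (hmn : m.Coprime n)
    {H : Subgroup G} (hH : Nat.card H = m) :
    Nat.card {K : Subgroup G // Nat.card K = m} = (Subgroup.normalizer (H : Set G)).index := by
  rw [Subgroup.index]
  symm
  refine Nat.card_eq_of_bijective (Quotient.lift (fun g : G => (⟨MulAut.conj g • H, by
    rw [CfsgLib.Coprime.card_conj_smul, hH]⟩ : {K : Subgroup G // Nat.card K = m})) ?_) ⟨?_, ?_⟩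
  · intro a b hab
    have h := QuotientGroup.leftRel_apply.mp hab
    refine Subtype.ext ?_
    have e : MulAut.conj (a⁻¹ * b) • H = H := Subgroup.conjAct_pointwise_smul_eq_self h
    show MulAut.conj a • H = MulAut.conj b • H
    conv_lhs => rw [← e]
    rw [smul_smul, ← map_mul, mul_inv_cancel_left]
  · intro x y
    induction x using Quotient.inductionOn with
    | _ a =>
      induction y using Quotient.inductionOn with
      | _ b =>
        intro hab
        have h : MulAut.conj a • H = MulAut.conj b • H := congrArg Subtype.val hab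
        refine Quotient.sound (QuotientGroup.leftRel_apply.mpr ?_)
        have e : MulAut.conj (a⁻¹ * b) • H = H := by
          rw [map_mul, map_inv, mul_smul, ← h, inv_smul_smul]
        rw [Subgroup.mem_normalizer_iff]
        intro x
        conv_rhs => rw [← e]
        constructor
        · intro hx; exact ⟨x, hx, rfl⟩
        · rintro ⟨y, hy, hxy⟩
          have : y = x := (MulAut.conj (a⁻¹ * b)).injective hxy
          exact this ▸ hy
  · rintro ⟨K, hK⟩
    obtain ⟨g, hg⟩ := CfsgLib.Hall.exists_conj_eq hG hmn hH hK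
    exact ⟨Quotient.mk _ g, Subtype.ext hg⟩

/-- Coprime fixed point factorisation. -/
lemma fix_factor {r : ℕ} [Fact r.Prime] {V : Subgroup G} (hV : IsPGroup r V) :
    ∀ (k : ℕ) (H : Subgroup G), Nat.card H = k → Group.IsSolvable H → ¬ r ∣ k →
      H ≤ Subgroup.normalizer (V : Set G) →
      ∃ l : List ℕ, Nat.card V = l.prod * Nat.card ↥(V ⊓ Subgroup.centralizer (H : Set G)) ∧
        ∀ f ∈ l, (∃ e, f = r ^ e) ∧ f ∣ Nat.card V ∧ ∃ q, q.Prime ∧ q ∣ Nat.card H ∧ f ≡ 1 [MOD q] := by
  intro k
  induction k using Nat.strong_induction_on with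
  | _ k ih =>
    intro H hk hsol hr hHV
    haveI := hsol
    by_cases hH : H = ⊥
    · refine ⟨[], ?_, by simp⟩
      have : V ⊓ Subgroup.centralizer (H : Set G) = V := inf_eq_left.mpr fun v _ => by
        rw [Subgroup.mem_centralizer_iff]; intro h hh; rw [hH] at hh
        rw [Subgroup.mem_bot.mp hh, one_mul, mul_one]
      rw [this, List.prod_nil, one_mul]
    haveI : Nontrivial H := (Subgroup.nontrivial_iff_ne_bot H).mpr hH
    have hD : (commutator H : Subgroup H) ≠ ⊤ := (Group.IsSolvable.commutator_lt_top_of_nontrivial H).ne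
    obtain ⟨M0, hM0, hDM⟩ : ∃ M0 : Subgroup H, IsCoatom M0 ∧ commutator H ≤ M0 :=
      (eq_top_or_exists_le_coatom _).resolve_left hD
    haveI hM0n : M0.Normal := Subgroup.Normal.of_commutator_le (G := H) (H := M0) hDM
    obtain ⟨q, hq, Q0, hQ0⟩ : ∃ q, q.Prime ∧ ∃ Q0 : Sylow q H, ¬ (Q0 : Subgroup H) ≤ M0 := by
      by_contra hcon
      push Not at hcon
      refine hM0.1 (Subgroup.eq_top_of_le_card M0 ?_)
      refine Nat.le_of_dvd Nat.card_pos ((Nat.factorization_le_iff_dvd Nat.card_pos.ne' Nat.card_pos.ne').mp ?_)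
      intro q
      by_cases hq : q.Prime
      · haveI := Fact.mk hq
        let Q0 : Sylow q H := default
        have h := Subgroup.card_dvd_of_le (hcon q hq Q0)
        rw [Q0.card_eq_multiplicity] at h
        exact (hq.pow_dvd_iff_le_factorization Nat.card_pos.ne').mp h
      · rw [Nat.factorization_eq_zero_of_not_prime _ hq]; exact Nat.zero_le _
    haveI := Fact.mk hq
    have htop : M0 ⊔ (Q0 : Subgroup H) = ⊤ := hM0.2 _ (left_lt_sup.mpr hQ0)
    set M : Subgroup G := M0.map H.subtype
    set Q : Subgroup G := (Q0 : Subgroup H).map H.subtype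
    have hMH : M ≤ H := by rintro _ ⟨x, -, rfl⟩; exact x.2
    have hQH : Q ≤ H := by rintro _ ⟨x, -, rfl⟩; exact x.2
    have hMlt : Nat.card M < k := by
      rw [← hk, Subgroup.card_subtype]
      exact lt_of_le_of_ne (Subgroup.card_le_card_group M0) fun h => hM0.1 (Subgroup.eq_top_of_card_eq M0 h)
    have hMdvd : Nat.card M ∣ k := hk ▸ Subgroup.card_dvd_of_le hMH
    haveI : Group.IsSolvable M := solvable_of_solvable_injective (f := Subgroup.inclusion hMH) (Subgroup.inclusion_injective hMH)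
    obtain ⟨l, hl, hlf⟩ := ih _ hMlt M rfl inferInstance (fun h => hr (h.trans hMdvd)) (hMH.trans hHV)
    set W : Subgroup G := V ⊓ Subgroup.centralizer (M : Set G)
    have hHM : ∀ h ∈ H, ∀ x ∈ M, h * x * h⁻¹ ∈ M := by
      rintro h hh _ ⟨x, hx, rfl⟩
      exact ⟨⟨h, hh⟩ * x * ⟨h, hh⟩⁻¹, hM0n.conj_mem x hx _, rfl⟩
    have hW : ∀ h ∈ H, ∀ w ∈ W, h * w * h⁻¹ ∈ W := by
      intro h hh w hw
      refine ⟨(Subgroup.mem_normalizer_iff.mp (hHV hh) w).mp hw.1, ?_⟩
      refine Subgroup.mem_centralizer_iff.mpr fun x hx => ?_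
      have h1 : h⁻¹ * x * h ∈ M := by simpa using hHM h⁻¹ (inv_mem hh) x hx
      have h2 := Subgroup.mem_centralizer_iff.mp hw.2 _ h1
      calc x * (h * w * h⁻¹) = h * ((h⁻¹ * x * h) * w) * h⁻¹ := by group
        _ = h * w * h⁻¹ * x := by rw [h2]; group
    letI : MulAction Q W :=
      { smul := fun a w => ⟨(a : G) * w * (a : G)⁻¹, hW a (hQH a.2) w w.2⟩
        one_smul := fun w => Subtype.ext (by simp [HSMul.hSMul, SMul.smul])
        mul_smul := fun a b w => Subtype.ext (by simp [HSMul.hSMul, SMul.smul, mul_assoc]) }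
    have hQp : IsPGroup q Q := Q0.2.map _
    have hcong := hQp.card_modEq_card_fixedPoints (α := W)
    have hfix : Nat.card (MulAction.fixedPoints Q W) =
        Nat.card ↥(V ⊓ Subgroup.centralizer (H : Set G)) := by
      refine Nat.card_eq_of_bijective (fun w => (⟨((w : W) : G), (w : W).2.1, ?_⟩ :
        ↥(V ⊓ Subgroup.centralizer (H : Set G)))) ⟨fun a b h => ?_, ?_⟩
      · have hle : H ≤ Subgroup.centralizer {((w : W) : G)} := by
          intro h hh
          have hmem : (⟨h, hh⟩ : H) ∈ M0 ⊔ (Q0 : Subgroup H) := htop ▸ Subgroup.mem_top _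
          have hsub : M0 ⊔ (Q0 : Subgroup H) ≤ (Subgroup.centralizer {((w : W) : G)}).comap H.subtype := by
            refine sup_le (fun x hx => ?_) (fun x hx => ?_)
            · show (x : G) ∈ Subgroup.centralizer {((w : W) : G)}
              rw [Subgroup.mem_centralizer_singleton_iff]
              exact Subgroup.mem_centralizer_iff.mp (w : W).2.2 x ⟨x, hx, rfl⟩
            · show (x : G) ∈ Subgroup.centralizer {((w : W) : G)}
              rw [Subgroup.mem_centralizer_singleton_iff]
              have h0 : (⟨(x : G), ⟨x, hx, rfl⟩⟩ : Q) • (w : W) = (w : W) := w.2 _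
              exact mul_inv_eq_iff_eq_mul.mp (congrArg Subtype.val h0)
          exact hsub hmem
        refine Subgroup.mem_centralizer_iff.mpr fun h hh => ?_
        exact Subgroup.mem_centralizer_singleton_iff.mp (hle hh)
      · exact Subtype.ext (Subtype.ext (congrArg Subtype.val h :))
      · rintro ⟨v, hv⟩
        refine ⟨⟨⟨v, hv.1, ?_⟩, fun a => ?_⟩, rfl⟩
        · refine Subgroup.mem_centralizer_iff.mpr ?_
          exact fun x hx => Subgroup.mem_centralizer_iff.mp hv.2 x (hMH hx)
        · refine Subtype.ext (mul_inv_eq_iff_eq_mul.mpr ?_)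
          exact Subgroup.mem_centralizer_iff.mp hv.2 a (hQH a.2)
    rw [hfix] at hcong
    obtain ⟨a, ha⟩ := IsPGroup.iff_card.mp (hV.to_le (inf_le_left : W ≤ V))
    set W' : Subgroup G := V ⊓ Subgroup.centralizer (H : Set G)
    obtain ⟨b, hb⟩ := IsPGroup.iff_card.mp (hV.to_le (inf_le_left : W' ≤ V))
    have hW' : W' ≤ W := inf_le_inf_left _ (Subgroup.centralizer_le hMH)
    have hba : b ≤ a := by
      have := Subgroup.card_dvd_of_le hW'
      rw [ha, hb] at this
      exact Nat.pow_dvd_pow_iff_le_right (Fact.out : r.Prime).one_lt |>.mp this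
    have hqH : q ∣ Nat.card H := by
      have h1 : Q0.1 ≠ ⊥ := fun h => hQ0 (h ▸ bot_le)
      obtain ⟨j, hj⟩ := IsPGroup.iff_card.mp Q0.2
      have hj0 : j ≠ 0 := fun h => h1 (Subgroup.eq_bot_of_card_eq _ (by rw [hj, h, pow_zero]))
      exact ((dvd_pow_self q hj0).trans hj.symm.dvd).trans (Subgroup.card_subgroup_dvd_card _)
    refine ⟨r ^ (a - b) :: l, ?_, ?_⟩
    · rw [hl, ha, hb, List.prod_cons, mul_comm (r ^ (a - b)), mul_assoc, ← pow_add, Nat.sub_add_cancel hba]
    · intro f hf
      rcases List.mem_cons.mp hf with rfl | hf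
      · refine ⟨⟨_, rfl⟩, ?_, q, hq, hqH, ?_⟩
        · exact (pow_dvd_pow r (Nat.sub_le a b)).trans (ha ▸ Subgroup.card_dvd_of_le inf_le_left)
        · have hcop : q.Coprime (r ^ b) := by
            refine Nat.Coprime.pow_right _ ((Nat.coprime_primes hq Fact.out).mpr ?_)
            rintro rfl
            exact hr (hk ▸ hqH)
          rw [ha, hb, ← Nat.sub_add_cancel hba, pow_add] at hcong
          exact Nat.ModEq.cancel_right_of_coprime hcop (by rwa [one_mul])
      · obtain ⟨h1, h2, q', h3, h4, h5⟩ := hlf f hf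
        exact ⟨h1, h2, q', h3, h4.trans (Subgroup.card_dvd_of_le hMH), h5⟩

lemma card_comap (N : Subgroup G) [N.Normal] (A : Subgroup (G ⧸ N)) :
    Nat.card ↥(A.comap (QuotientGroup.mk' N)) = Nat.card A * Nat.card N := by
  have h1 := Subgroup.index_comap_of_surjective A (QuotientGroup.mk'_surjective N)
  have h2 := (A.comap (QuotientGroup.mk' N)).card_mul_index
  have h3 := A.card_mul_index
  have h4 := Subgroup.card_eq_card_quotient_mul_card_subgroup N
  rw [h1] at h2
  have hi : 0 < A.index := Nat.pos_of_ne_zero Subgroup.index_ne_zero_of_finite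
  apply Nat.eq_of_mul_eq_mul_right hi
  calc Nat.card ↥(A.comap (QuotientGroup.mk' N)) * A.index = Nat.card (G ⧸ N) * Nat.card N := by
        rw [h2, h4]
    _ = Nat.card A * Nat.card N * A.index := by rw [← h3]; ring

lemma main : ∀ (k : ℕ) (G : Type u) [Group G] [Finite G] [Group.IsSolvable G], Nat.card G = k →
    ∀ m n : ℕ, Nat.card G = m * n → Nat.Coprime m n →
      ∃ l : List ℕ, Nat.card {H : Subgroup G // Nat.card H = m} = l.prod ∧ ∀ f ∈ l, Good G m f := by
  intro k
  induction k using Nat.strong_induction_on with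
  | _ k ih =>
    intro G _ _ _ hk m n hG hmn
    obtain ⟨H, hH⟩ := CfsgLib.Hall.exists_hall hG hmn
    rw [card_count hG hmn hH]
    rcases subsingleton_or_nontrivial G with hG1 | hG1
    · refine ⟨[], ?_, by simp⟩
      rw [List.prod_nil, Subgroup.index_eq_one]
      exact Subsingleton.elim _ _
    obtain ⟨N, hN, hNmin⟩ : ∃ N : Subgroup G, (N.Normal ∧ N ≠ ⊥) ∧
        ∀ K : Subgroup G, K.Normal → K ≤ N → K = ⊥ ∨ K = N := by
      obtain ⟨N, hN, hmin⟩ := (Set.toFinite {N : Subgroup G | N.Normal ∧ N ≠ ⊥}).exists_minimal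
        ⟨⊤, inferInstance, top_ne_bot⟩
      exact ⟨N, hN, fun K h1 h2 => or_iff_not_imp_left.mpr fun h3 => le_antisymm h2 (hmin ⟨h1, h3⟩ h2)⟩
    obtain ⟨hNn, hN0⟩ := hN
    haveI := hNn
    obtain ⟨hNc, r, hr, hexp⟩ := Cfsg.Agent.S0043.result N hN0 hNmin
    haveI := Fact.mk hr
    have hNp : IsPGroup r N := fun x => ⟨1, Subtype.ext (by simpa using hexp x x.2)⟩
    obtain ⟨e, he⟩ := IsPGroup.iff_card.mp hNp
    have hN1 : 1 < Nat.card N := Finite.one_lt_card_iff_nontrivial.mpr ((Subgroup.nontrivial_iff_ne_bot N).mpr hN0)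
    have he0 : e ≠ 0 := by rintro rfl; rw [he, pow_zero] at hN1; omega
    have hcardQ := Subgroup.card_eq_card_quotient_mul_card_subgroup N
    set π := QuotientGroup.mk' N
    have hπ : Function.Surjective π := QuotientGroup.mk'_surjective N
    set Hb := H.map π
    have hsup : Hb.comap π = H ⊔ N := by rw [Subgroup.comap_map_eq, QuotientGroup.ker_mk']
    have hlt : Nat.card (G ⧸ N) < k := by
      rw [← hk, hcardQ]; exact lt_mul_of_one_lt_right Nat.card_pos hN1
    have hNle : N ≤ Subgroup.normalizer (N : Set G) := Subgroup.le_normalizer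
    by_cases hrm : r ∣ m
    · have hcop : (Nat.card N).Coprime n := he ▸ Nat.Coprime.pow_left _ (hmn.coprime_dvd_left hrm)
      have hNH : N ≤ H := by
        obtain ⟨g, hg⟩ := CfsgLib.Hall.exists_conj_le hG hmn hH hcop
        intro x hx
        have h1 : g * x * g⁻¹ ∈ MulAut.conj g • H := hg (hNn.conj_mem x hx g)
        obtain ⟨y, hy, hyx⟩ := h1
        have : y = x := (MulAut.conj g).injective hyx
        exact this ▸ hy
      have hHb : m = Nat.card Hb * Nat.card N := by
        rw [← card_comap N Hb, hsup, sup_eq_left.mpr hNH, hH]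
      have hGb : Nat.card (G ⧸ N) = Nat.card Hb * n := by
        apply Nat.eq_of_mul_eq_mul_right (show 0 < Nat.card N by omega)
        rw [← hcardQ, hG, hHb]; ring
      have hmb : (Nat.card Hb).Coprime n := hmn.coprime_dvd_left ⟨_, hHb⟩
      obtain ⟨l, hl, hlg⟩ := ih _ hlt (G ⧸ N) rfl _ n hGb hmb
      refine ⟨l, ?_, fun f hf => good_lift ⟨_, hHb⟩ (hlg f hf)⟩
      rw [← hl, card_count hGb hmb rfl, ← Subgroup.index_comap_of_surjective _ hπ]
      congr 1
      rw [Subgroup.comap_normalizer_eq_of_surjective _ hπ, hsup, sup_eq_left.mpr hNH]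
    · have hcop : (Nat.card N).Coprime m := he ▸ Nat.Coprime.pow_left _ (hr.coprime_iff_not_dvd.mpr hrm)
      have hHN : ∀ x ∈ H, x ∈ N → x = 1 := fun x hx hxN => by
        have h1 : orderOf x ∣ Nat.card N := Subgroup.orderOf_mk x hxN ▸ orderOf_dvd_natCard (⟨x, hxN⟩ : N)
        have h2 : orderOf x ∣ m := hH ▸ (Subgroup.orderOf_mk x hx ▸ orderOf_dvd_natCard (⟨x, hx⟩ : H))
        exact orderOf_eq_one_iff.mp (Nat.eq_one_of_dvd_coprimes hcop h1 h2)
      have hHb : Nat.card Hb = m := by
        rw [← hH]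
        refine Nat.card_congr (Equiv.ofBijective (fun x : H => (⟨π x, x, x.2, rfl⟩ : Hb)) ⟨?_, ?_⟩).symm
        · intro a b hab
          have h1 : π (a : G) = π b := congrArg Subtype.val hab
          exact Subtype.ext (inv_mul_eq_one.mp (hHN _ (mul_mem (inv_mem a.2) b.2) (QuotientGroup.eq.mp h1)))
        · rintro ⟨_, x, hx, rfl⟩; exact ⟨⟨x, hx⟩, rfl⟩
      have hn : Nat.card N ∣ n := hcop.dvd_of_dvd_mul_left (hG ▸ Subgroup.card_subgroup_dvd_card N)
      obtain ⟨n', hn'⟩ := hn
      have hGb : Nat.card (G ⧸ N) = m * n' := by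
        apply Nat.eq_of_mul_eq_mul_right (show 0 < Nat.card N by omega)
        rw [← hcardQ, hG, hn']; ring
      have hmb : m.Coprime n' := hmn.coprime_dvd_right ⟨Nat.card N, by rw [hn']; ring⟩
      obtain ⟨l, hl, hlg⟩ := ih _ hlt (G ⧸ N) rfl m n' hGb hmb
      set NH := Subgroup.normalizer (H : Set G)
      have hcomap : (Subgroup.normalizer (Hb : Set (G ⧸ N))).comap π = NH ⊔ N := by
        rw [Subgroup.comap_normalizer_eq_of_surjective _ hπ, hsup]
        refine le_antisymm (fun x hx => ?_) (sup_le (fun x hx => ?_) (le_trans le_sup_right Subgroup.le_normalizer))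
        · have hle : MulAut.conj x • H ≤ N ⊔ H := by
            rintro _ ⟨y, hy, rfl⟩
            rw [sup_comm]
            exact (Subgroup.mem_normalizer_iff.mp hx y).mp (Subgroup.mem_sup_left hy)
          obtain ⟨z, hz, hzle⟩ := CfsgLib.Hall.exists_conj_le_of_complement (N := N) (H := H)
            inferInstance (hH ▸ hcop) (by rw [CfsgLib.Coprime.card_conj_smul, hH]; exact hcop) hle
          have heq : MulAut.conj x • H = MulAut.conj z • H :=
            Subgroup.eq_of_le_of_card_ge hzle (by rw [CfsgLib.Coprime.card_conj_smul, CfsgLib.Coprime.card_conj_smul])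
          have h3 : z⁻¹ * x ∈ NH := by
            have e3 : MulAut.conj (z⁻¹ * x) • H = H := by rw [map_mul, map_inv, mul_smul, heq, inv_smul_smul]
            rw [Subgroup.mem_normalizer_iff]
            intro y
            conv_rhs => rw [← e3]
            constructor
            · intro hy; exact ⟨y, hy, rfl⟩
            · rintro ⟨w, hw, hwy⟩
              have : w = y := (MulAut.conj (z⁻¹ * x)).injective hwy
              exact this ▸ hw
          rw [sup_comm, show x = z * (z⁻¹ * x) by group]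
          exact Subgroup.mul_mem_sup hz h3
        · rw [Subgroup.mem_normalizer_iff]
          intro y
          rw [← hsup, Subgroup.mem_comap, Subgroup.mem_comap, map_mul, map_mul, map_inv]
          have : π x ∈ Subgroup.normalizer (Hb : Set (G ⧸ N)) :=
            Subgroup.le_normalizer_map π ⟨x, hx, rfl⟩
          exact Subgroup.mem_normalizer_iff.mp this _
      haveI : Group.IsSolvable H := inferInstance
      obtain ⟨l2, hl2, hl2g⟩ := fix_factor hNp m H hH inferInstance hrm
        (fun x _ => by rw [Subgroup.normalizer_eq_top N]; exact Subgroup.mem_top _)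
      have hfixeq : N ⊓ NH = N ⊓ Subgroup.centralizer (H : Set G) := by
        ext x
        constructor
        · rintro ⟨hxN, hx⟩
          refine ⟨hxN, ?_⟩
          refine Subgroup.mem_centralizer_iff.mpr fun h hh => ?_
          have h1 : x * h * x⁻¹ * h⁻¹ ∈ H := mul_mem ((Subgroup.mem_normalizer_iff.mp hx h).mp hh) (inv_mem hh)
          have h2 : x * h * x⁻¹ * h⁻¹ ∈ N := by
            rw [mul_assoc, mul_assoc, ← mul_assoc h]
            exact mul_mem hxN (hNn.conj_mem _ (inv_mem hxN) h)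
          exact (mul_inv_eq_iff_eq_mul.mp (mul_inv_eq_one.mp (hHN _ h1 h2))).symm
        · rintro ⟨hxN, hx⟩
          exact ⟨hxN, Subgroup.centralizer_le_normalizer _ hx⟩
      refine ⟨l ++ l2, ?_, fun f hf => ?_⟩
      · rw [List.prod_append, ← hl, card_count hGb hmb hHb, ← Subgroup.index_comap_of_surjective _ hπ, hcomap]
        have h1 : NH.relIndex (NH ⊔ N) * (NH ⊔ N).index = NH.index := Subgroup.relIndex_mul_index le_sup_left
        have h3 : NH.relIndex (NH ⊔ N) * Nat.card ↥(N ⊓ NH) = Nat.card N := by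
          have h5 := CfsgLib.Coprime.card_sup_mul_card_inf (K := N) (S := NH)
            (by rw [Subgroup.normalizer_eq_top N]; exact le_top)
          have h6 := CfsgLib.Coprime.relIndex_mul_card_inf NH (NH ⊔ N)
          rw [inf_of_le_left (le_sup_left : NH ≤ NH ⊔ N)] at h6
          rw [sup_comm N NH, ← h6] at h5
          apply Nat.eq_of_mul_eq_mul_right (show 0 < Nat.card NH from Nat.card_pos)
          rw [← h5]; ring
        have h4 : NH.relIndex (NH ⊔ N) = l2.prod := by
          rw [hfixeq, hl2] at h3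
          exact Nat.eq_of_mul_eq_mul_right Nat.card_pos h3
        rw [← h1, h4, mul_comm]
      · rcases List.mem_append.mp hf with hf | hf
        · exact good_lift dvd_rfl (hlg f hf)
        · obtain ⟨⟨j, hj⟩, hd, q, hq, hqm, hmod⟩ := hl2g f hf
          exact ⟨⟨r, j, hr, hj⟩, ⟨⊥, N, inferInstance, hNn, bot_lt_iff_ne_bot.mpr hN0,
            fun M hM _ hMN => hNmin M hM hMN, by rw [Subgroup.relIndex_bot_left]; exact hd⟩,
            q, hq, hH ▸ hqm, hmod⟩

theorem result {G : Type*} [Group G] [Finite G] [Group.IsSolvable G] (m n : ℕ) (hG : Nat.card G = m * n) (hmn : Nat.Coprime m n) : ∃ (k : ℕ) (f : Fin k → ℕ), Nat.card {H : Subgroup G // Nat.card H = m} = ∏ i, f i ∧ ∀ i, (∃ q e : ℕ, q.Prime ∧ f i = q ^ e) ∧ (∃ K L : Subgroup G, K.Normal ∧ L.Normal ∧ K < L ∧ (∀ M : Subgroup G, M.Normal → K ≤ M → M ≤ L → M = K ∨ M = L) ∧ f i ∣ K.relIndex L) ∧ (∃ q : ℕ, q.Prime ∧ q ∣ m ∧ f i ≡ 1 [MOD q]) := by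
  obtain ⟨l, hl, hg⟩ := main _ G rfl m n hG hmn
  refine ⟨l.length, fun i => l[i], ?_, fun i => hg _ (List.getElem_mem _)⟩
  rw [hl, ← List.prod_ofFn]
  exact congrArg List.prod List.ofFn_getElem.symm

end Cfsg.Agent.S4214
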