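import Cfsg.Statements.S4217
import Cfsg.Agent.Lib.Gaschutz.Split
import Cfsg.Agent.Lib.Coprime.Action

set_option autoImplicit false
set_option linter.style.haveILetI false
open Cfsg

namespace Cfsg.Agent.S4217

/-- One prime at a time: a subgroup meeting `A` in its `q'`-part, of index the `q`-part of `|A|`. -/
theorem exists_part {G : Type*} [Group G] [Finite G] (A : Subgroup G) [A.Normal] [IsMulCommutative A]
    (q : ℕ) [Fact q.Prime] (U K : Subgroup G) (hAU : A ≤ U) (hidx : ¬ q ∣ U.index) (hKA : K ⊓ A = ⊥)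
    (hU : K ⊔ A = U) :
    ∃ H : Subgroup G, H.index = q ^ (Nat.card A).factorization q ∧
      ∀ x ∈ H, x ∈ A → (orderOf x).Coprime q := by
  classical
  have hq := (Fact.out : q.Prime)
  letI : CommGroup A := { (inferInstance : Group A) with mul_comm := mul_comm' }
  set v := (Nat.card A).factorization q with hv
  let φ : A →* A := powMonoidHom (q ^ v)
  obtain ⟨P⟩ := (inferInstance : Nonempty (Sylow q A))
  haveI : (P : Subgroup A).Normal := ⟨fun x hx g => by rwa [mul_comm g x, mul_inv_cancel_right]⟩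
  have hPc : Nat.card (P : Subgroup A) = q ^ v := P.card_eq_multiplicity
  have hker : φ.ker = (P : Subgroup A) := by
    refine le_antisymm (fun x hx => ?_) fun x hx => ?_
    · obtain ⟨j, -, hj⟩ := (Nat.dvd_prime_pow hq).mp (orderOf_dvd_of_pow_eq_one (hx : x ^ q ^ v = 1))
      have hp : IsPGroup q (Subgroup.zpowers x) := IsPGroup.of_card (n := j) (by rw [Nat.card_zpowers, hj])
      exact (P.3 (P.2.to_sup_of_normal_left hp) le_sup_left).le (Subgroup.mem_sup_right (Subgroup.mem_zpowers x))
    · show x ^ q ^ v = 1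
      rw [← hPc]
      exact orderOf_dvd_iff_pow_eq_one.mp ((P : Subgroup A).orderOf_dvd_natCard hx)
  set T := φ.range.map A.subtype with hT
  haveI : T.Normal := ⟨by
    rintro _ ⟨_, ⟨a, rfl⟩, rfl⟩ g
    refine ⟨_, ⟨⟨g * a * g⁻¹, ‹A.Normal›.conj_mem a a.2 g⟩, rfl⟩, ?_⟩
    show (g * (a : G) * g⁻¹) ^ q ^ v = g * ((a : G) ^ q ^ v) * g⁻¹
    rw [conj_pow]⟩
  have hTc : Nat.card T * q ^ v = Nat.card A := by
    rw [hT, Subgroup.card_map_of_injective A.subtype_injective, ← hPc, ← hker, mul_comm,
      ← Subgroup.index_ker, Subgroup.card_mul_index]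
  have hTA : T ≤ A := Subgroup.map_subtype_le _
  have hTq : (Nat.card T).Coprime q := by
    refine ((hq.coprime_iff_not_dvd).mpr fun hd => ?_).symm
    have := (hq.pow_dvd_iff_le_factorization (Nat.card_pos (α := A)).ne' (k := v + 1)).mp
      (hTc ▸ by rw [pow_succ, mul_comm (Nat.card T)]; exact mul_dvd_mul_left _ hd)
    omega
  set π := QuotientGroup.mk' T with hπ
  have hsurj : Function.Surjective π := QuotientGroup.mk'_surjective T
  have hkπ : π.ker = T := QuotientGroup.ker_mk' T
  haveI : (A.map π).Normal := Subgroup.Normal.map inferInstance _ hsurj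
  haveI : IsMulCommutative (A.map π) := ⟨⟨by
    rintro ⟨_, a, ha, rfl⟩ ⟨_, b, hb, rfl⟩
    exact Subtype.ext (by simp only [Subgroup.coe_mul, ← map_mul, show a * b = b * a from congrArg Subtype.val (mul_comm (⟨a, ha⟩ : A) ⟨b, hb⟩)])⟩⟩
  have hAc : Nat.card (A.map π) = q ^ v := by
    have h1 := Subgroup.relIndex_ker A π
    rw [hkπ] at h1
    have h2 := Subgroup.card_mul_index (T.subgroupOf A)
    rw [← Subgroup.relIndex, h1, Nat.card_congr (Subgroup.subgroupOfEquivOfLe hTA).toEquiv, ← hTc] at h2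
    exact Nat.eq_of_mul_eq_mul_left Nat.card_pos h2
  have hTU : T ≤ U := hTA.trans hAU
  obtain ⟨H, hH⟩ := CfsgLib.Gaschutz.exists_complement (K := A.map π) (U := U.map π) (A := K.map π)
    (Subgroup.map_mono hAU) (by
      rw [hAc, Subgroup.index_map_eq _ hsurj (hkπ.le.trans hTU)]
      exact (hq.coprime_iff_not_dvd.mpr hidx).pow_left v) (by
      rw [eq_bot_iff]
      rintro _ ⟨⟨k, hk, rfl⟩, ⟨a, ha, he⟩⟩
      have hkA : k ∈ A := by
        have h1 : a⁻¹ * k ∈ T := by rw [← hkπ, MonoidHom.mem_ker, map_mul, map_inv, he, inv_mul_cancel]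
        simpa using mul_mem ha (hTA h1)
      have : k ∈ K ⊓ A := ⟨hk, hkA⟩
      rw [hKA, Subgroup.mem_bot] at this
      rw [this, map_one]; exact one_mem _)
    (by rw [← Subgroup.map_sup, sup_comm, hU])
  refine ⟨H.comap π, ?_, fun x hx hxA => ?_⟩
  · rw [Subgroup.index_comap_of_surjective _ hsurj, ← hAc]
    have := hH.card_mul
    have h2 := H.card_mul_index
    rw [← this, mul_comm (Nat.card (A.map π))] at h2
    exact Nat.eq_of_mul_eq_mul_left Nat.card_pos h2
  · have h1 : π x ∈ (A.map π) ⊓ H := ⟨⟨x, hxA, rfl⟩, hx⟩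
    rw [hH.disjoint.eq_bot, Subgroup.mem_bot] at h1
    have h2 : x ∈ T := hkπ ▸ MonoidHom.mem_ker.mpr h1
    exact hTq.coprime_dvd_left (Subgroup.orderOf_dvd_natCard T h2)


/-- Let `A` be an abelian normal subgroup of the finite group `G`. Then `A` has a complement in `G` if and only if, for every prime `p` dividing the index of `A`, there are a Sylow `p`-subgroup `S` of `G/A` and a subgroup `K` of `G` with `K ∩ A = 1` and `KA` equal to the preimage of `S` (that is, `A` has a complement in the preimage of a Sylow `p`-subgroup of `G/A`). -/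
theorem result {G : Type*} [Group G] [Finite G] (A : Subgroup G) [A.Normal] (hA : IsMulCommutative A) : (∃ K : Subgroup G, K.IsComplement' A) ↔ ∀ p : ℕ, p.Prime → p ∣ A.index → ∃ (S : Sylow p (G ⧸ A)) (K : Subgroup G), K ⊓ A = ⊥ ∧ K ⊔ A = (S : Subgroup (G ⧸ A)).comap (QuotientGroup.mk' A) := by
  classical
  haveI := hA
  set π := QuotientGroup.mk' A with hπ
  constructor
  · rintro ⟨K, hK⟩ p hp hpA
    haveI := Fact.mk hp
    obtain ⟨S⟩ := (inferInstance : Nonempty (Sylow p (G ⧸ A)))
    set U := (S : Subgroup (G ⧸ A)).comap π with hU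
    have hAU : A ≤ U := fun a ha => by
      rw [hU, Subgroup.mem_comap, hπ, QuotientGroup.mk'_apply, (QuotientGroup.eq_one_iff a).mpr ha]
      exact one_mem _
    refine ⟨S, K ⊓ U, ?_, le_antisymm (sup_le inf_le_right hAU) fun u hu => ?_⟩
    · rw [eq_bot_iff]
      exact (inf_le_inf_right A inf_le_left).trans (disjoint_iff.mp hK.disjoint).le
    · obtain ⟨⟨k, a⟩, hka⟩ := hK.2 u
      change (k : G) * a = u at hka
      have hkU : (k : G) ∈ U := by
        rw [show (k : G) = u * (a : G)⁻¹ by rw [← hka, mul_inv_cancel_right]]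
        exact mul_mem hu (inv_mem (hAU a.2))
      rw [← hka]
      exact Subgroup.mul_mem_sup ⟨k.2, hkU⟩ a.2
  · intro h
    have hpart : ∀ q : ℕ, q.Prime → ∃ H : Subgroup G, H.index = q ^ (Nat.card A).factorization q ∧
        ∀ x ∈ H, x ∈ A → (orderOf x).Coprime q := by
      intro q hq
      haveI := Fact.mk hq
      by_cases hd : q ∣ A.index
      · obtain ⟨S, K, hK, hKS⟩ := h q hq hd
        refine exists_part A q _ K ?_ ?_ hK hKS
        · rw [← hKS]; exact le_sup_right
        · rw [Subgroup.index_comap_of_surjective _ (QuotientGroup.mk'_surjective A)]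
          exact S.not_dvd_index
      · exact exists_part A q A ⊥ le_rfl hd (bot_inf_eq A) (bot_sup_eq A)
    choose H hH1 hH2 using fun q : (Nat.card A).primeFactors => hpart q (Nat.prime_of_mem_primeFactors q.2)
    refine ⟨⨅ q, H q, ?_⟩
    have hdisj : (⨅ q, H q) ⊓ A = ⊥ := by
      rw [eq_bot_iff]
      rintro x ⟨hx, hxA⟩
      rw [Subgroup.mem_bot, ← orderOf_eq_one_iff]
      by_contra hne
      obtain ⟨q, hq, hqd⟩ := Nat.exists_prime_and_dvd hne
      have hqA : q ∈ (Nat.card A).primeFactors :=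
        Nat.mem_primeFactors.mpr ⟨hq, hqd.trans (Subgroup.orderOf_dvd_natCard A hxA), Nat.card_pos.ne'⟩
      have := hH2 ⟨q, hqA⟩ x (iInf_le H ⟨q, hqA⟩ hx) hxA
      exact hq.coprime_iff_not_dvd.mp this.symm hqd
    have hidx : (⨅ q, H q).index ≤ Nat.card A := by
      refine (Subgroup.index_iInf_le H).trans (le_of_eq ?_)
      rw [Finset.prod_congr rfl fun q _ => hH1 q, Finset.univ_eq_attach, Finset.prod_attach _ fun q => q ^ (Nat.card A).factorization q]
      exact (Nat.prod_factorization_pow_eq_self (Nat.card_pos (α := A)).ne')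
    refine Subgroup.isComplement'_of_card_mul_and_disjoint ?_ (disjoint_iff.mpr hdisj)
    refine le_antisymm ?_ ?_
    · have h2 := CfsgLib.Coprime.card_sup_mul_card_inf (K := A) (S := ⨅ q, H q) Subgroup.le_normalizer_of_normal
      rw [inf_comm, hdisj, Subgroup.card_bot, mul_one] at h2
      rw [mul_comm, ← h2]
      exact Nat.le_of_dvd Nat.card_pos (Subgroup.card_subgroup_dvd_card _)
    · rw [← (⨅ q, H q).card_mul_index]
      exact Nat.mul_le_mul_left _ hidx
end Cfsg.Agent.S4217
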