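import Cfsg.Statements.S4218
import Cfsg.Agent.Lib.PSolvable.Core
import Cfsg.Agent.Lib.PSolvable.Constrained
import Cfsg.Agent.Lib.PSolvable.Omega

set_option autoImplicit false
set_option linter.style.haveILetI false
open Cfsg

namespace Cfsg.Agent.S4218

open scoped commutatorElement

/-- Faithful action on the Frattini quotient of the `p`-core when there is no `p'`-core. -/
theorem mem_pCore_iff {Q : Type*} [Group Q] [Finite Q] {p : ℕ} [Fact p.Prime] (hQ : Cfsg.IsPSolvable p Q)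
    (hO : Cfsg.pPrimeCore p Q = ⊥) (g : Q) :
    (∀ y ∈ Cfsg.pCore p Q, g * y * g⁻¹ * y⁻¹ ∈ (frattini (Cfsg.pCore p Q)).map (Cfsg.pCore p Q).subtype) ↔
      g ∈ Cfsg.pCore p Q := by
  classical
  haveI := CfsgLib.Fitting.pCore_normal (G := Q) p
  set R := Cfsg.pCore p Q with hR
  have hRp : IsPGroup p R := CfsgLib.Fitting.pCore_isPGroup p
  set F := (frattini R).map R.subtype with hF
  haveI : F.Normal := by rw [hF]; infer_instance
  constructor
  · intro hg
    let K : Subgroup Q :=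
      { carrier := {a | ∀ y ∈ R, a * y * a⁻¹ * y⁻¹ ∈ F}
        one_mem' := fun y _ => by simp [one_mem F]
        mul_mem' := fun {a b} ha hb y hy => by
          have h1 := mul_mem (ha _ ((inferInstance : R.Normal).conj_mem y hy b)) (hb y hy)
          rwa [show a * b * y * (a * b)⁻¹ * y⁻¹ = a * (b * y * b⁻¹) * a⁻¹ * (b * y * b⁻¹)⁻¹ * (b * y * b⁻¹ * y⁻¹) by group]
        inv_mem' := fun {a} ha y hy => by
          have h1 := inv_mem (ha _ ((inferInstance : R.Normal).conj_mem y hy a⁻¹))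
          rwa [show (a * (a⁻¹ * y * a⁻¹⁻¹) * a⁻¹ * (a⁻¹ * y * a⁻¹⁻¹)⁻¹)⁻¹ = a⁻¹ * y * a⁻¹⁻¹ * y⁻¹ by group] at h1 }
    have hK : K.Normal := ⟨fun a ha c y hy => by
      have h1 := (inferInstance : F.Normal).conj_mem _ (ha _ ((inferInstance : R.Normal).conj_mem y hy c⁻¹)) c
      rwa [show c * (a * (c⁻¹ * y * c⁻¹⁻¹) * a⁻¹ * (c⁻¹ * y * c⁻¹⁻¹)⁻¹) * c⁻¹ = c * a * c⁻¹ * y * (c * a * c⁻¹)⁻¹ * y⁻¹ by group] at h1⟩
    refine CfsgLib.Fitting.le_pCore hK ?_ (hg : g ∈ K)
    refine CfsgLib.PSolvable.isPGroup_of_forall_coprime (p := p) fun a ha hcop => ?_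
    obtain ⟨n, hn⟩ := IsPGroup.iff_card.mp (hRp.to_subgroup (frattini R))
    have hc := CfsgLib.Coprime.le_centralizer_of_frattini (A := Subgroup.zpowers a) (K := R)
      Subgroup.le_normalizer_of_normal (by rw [Nat.card_zpowers, hn]; exact hcop.pow_right n)
      (fun b hb => Subgroup.zpowers_le.mpr (ha : a ∈ K) hb) (Subgroup.mem_zpowers a)
    have haR : a ∈ R := CfsgLib.PSolvable.centralizer_pCore_le hQ hO hc
    obtain ⟨k, hk⟩ := IsPGroup.iff_orderOf.mp hRp ⟨a, haR⟩
    rw [← Subgroup.orderOf_coe] at hk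
    exact orderOf_eq_one_iff.mp (Nat.eq_one_of_dvd_coprimes (hcop.pow_right k) dvd_rfl (dvd_of_eq hk))
  · intro hg y hy
    have h := ((Subgroup.map_subtype_commutator R).ge.trans (Subgroup.map_mono (CfsgLib.PSolvable.commutator_le_frattini hRp).1)) (Subgroup.commutator_mem_commutator hg hy)
    rwa [commutatorElement_def] at h


/-- Let `G` be a finite `p`-solvable group, `N₀ = O_{p'}(G)`, `P₁ = O_{p',p}(G)`, and let `F ≤ P₁` be the preimage of the Frattini subgroup of `P₁/N₀`. Then an element `g` of `G` induces the identity on `P₁/F` by conjugation (that is, `g x g⁻¹ x⁻¹ ∈ F` for all `x ∈ P₁`) if and only if `g ∈ P₁`: the group `G/P₁` acts faithfully on `P₁/F`. -/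
theorem result {G : Type*} [Group G] [Finite G] {p : ℕ} [Fact p.Prime] (hG : Cfsg.IsPSolvable p G) (g : G) : (∀ x ∈ Cfsg.pPrimePCore p G, g * x * g⁻¹ * x⁻¹ ∈ ((frattini (↥(Cfsg.pPrimePCore p G) ⧸ (Cfsg.pPrimeCore p G).subgroupOf (Cfsg.pPrimePCore p G))).comap (QuotientGroup.mk' ((Cfsg.pPrimeCore p G).subgroupOf (Cfsg.pPrimePCore p G)))).map (Cfsg.pPrimePCore p G).subtype) ↔ g ∈ Cfsg.pPrimePCore p G := by
  classical
  haveI := CfsgLib.Transfer.pPrimeCore_normal p G
  set N := Cfsg.pPrimeCore p G with hN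
  set π := QuotientGroup.mk' N with hπ
  set R := Cfsg.pCore p (G ⧸ N) with hR
  have key := mem_pCore_iff (CfsgLib.PSolvable.isPSolvable_of_surjective π (QuotientGroup.mk'_surjective N) hG)
    (CfsgLib.PSolvable.pPrimeCore_eq_bot_of_ker (QuotientGroup.mk'_surjective N) (QuotientGroup.ker_mk' N)) (π g)
  rw [show (g ∈ Cfsg.pPrimePCore p G) ↔ π g ∈ R from Iff.rfl, ← key]
  -- the canonical isomorphism
  let f : Cfsg.pPrimePCore p G →* R :=
    (π.comp (Cfsg.pPrimePCore p G).subtype).codRestrict R fun x => x.2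
  have hf : Function.Surjective f := fun y => by
    obtain ⟨x, hx⟩ := QuotientGroup.mk'_surjective N (y : G ⧸ N)
    have hxR : π x ∈ R := by rw [hπ, hx]; exact y.2
    exact ⟨⟨x, hxR⟩, Subtype.ext hx⟩
  have hker : f.ker = N.subgroupOf (Cfsg.pPrimePCore p G) := by
    ext x
    rw [MonoidHom.mem_ker, Subgroup.mem_subgroupOf]
    exact ⟨fun h => (QuotientGroup.eq_one_iff _).mp (congrArg Subtype.val h),
      fun h => Subtype.ext ((QuotientGroup.eq_one_iff _).mpr h)⟩
  let θ : (Cfsg.pPrimePCore p G ⧸ N.subgroupOf (Cfsg.pPrimePCore p G)) →* R :=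
    QuotientGroup.lift _ f (le_of_eq hker.symm)
  have hθs : Function.Surjective θ := fun y => by
    obtain ⟨x, rfl⟩ := hf y
    exact ⟨QuotientGroup.mk x, rfl⟩
  have hθi : Function.Injective θ := by
    rw [injective_iff_map_eq_one]
    intro x hx
    obtain ⟨x, rfl⟩ := QuotientGroup.mk_surjective x
    exact (QuotientGroup.eq_one_iff x).mpr (hker ▸ MonoidHom.mem_ker.mpr hx)
  let e := MulEquiv.ofBijective θ ⟨hθi, hθs⟩
  have hmem : ∀ c : G, c ∈ Cfsg.pPrimePCore p G →
      (c ∈ ((frattini (↥(Cfsg.pPrimePCore p G) ⧸ N.subgroupOf (Cfsg.pPrimePCore p G))).comap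
        (QuotientGroup.mk' (N.subgroupOf (Cfsg.pPrimePCore p G)))).map (Cfsg.pPrimePCore p G).subtype ↔
      π c ∈ (frattini R).map R.subtype) := by
    intro c hc
    constructor
    · rintro ⟨d, hd, rfl⟩
      exact ⟨_, frattini_le_comap_frattini_of_surjective (φ := e.toMonoidHom) e.surjective hd, rfl⟩
    · rintro ⟨r, hr, hre⟩
      refine ⟨⟨c, hc⟩, ?_, rfl⟩
      have h := frattini_le_comap_frattini_of_surjective (φ := e.symm.toMonoidHom) e.symm.surjective hr
      have he : e.symm r = QuotientGroup.mk' (N.subgroupOf (Cfsg.pPrimePCore p G)) ⟨c, hc⟩ := by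
        rw [MulEquiv.symm_apply_eq]
        exact Subtype.ext hre
      rwa [Subgroup.mem_comap, MulEquiv.coe_toMonoidHom, he] at h
  haveI : R.Normal := CfsgLib.Fitting.pCore_normal p
  have hP₁ : (Cfsg.pPrimePCore p G).Normal := Subgroup.Normal.comap inferInstance π
  have hc : ∀ x ∈ Cfsg.pPrimePCore p G, g * x * g⁻¹ * x⁻¹ ∈ Cfsg.pPrimePCore p G := fun x hx =>
    mul_mem (hP₁.conj_mem x hx g) (inv_mem hx)
  constructor
  · intro h y hy
    obtain ⟨x, rfl⟩ := QuotientGroup.mk'_surjective N y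
    have h1 := (hmem _ (hc x hy)).mp (h x hy)
    rwa [map_mul, map_mul, map_mul, map_inv, map_inv] at h1
  · intro h x hx
    refine (hmem _ (hc x hx)).mpr ?_
    rw [map_mul, map_mul, map_mul, map_inv, map_inv]
    exact h (π x) hx
end Cfsg.Agent.S4218
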