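import Cfsg.Statements.S4219
import Mathlib
import Cfsg.Agent.Lib.Coprime.SchurZassenhaus

set_option autoImplicit false
set_option linter.style.haveILetI false
open Cfsg
open scoped Pointwise

namespace Cfsg.Agent.S4219

/-- Let a finite group `G` act `t`-fold transitively on a finite set, let `H` be the stabilizer of `t` distinct points and `P` a Sylow `p`-subgroup of `H`. Then the normalizer of `P` in `G` is `t`-fold transitive on the fixed points of `P`: any `t` distinct fixed points of `P` can be carried to any other `t` distinct fixed points of `P` by an element normalizing `P`. -/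
theorem result {G : Type*} [Group G] [Finite G] {α : Type*} [Fintype α] [MulAction G α] {t : ℕ} (hG : MulAction.IsMultiplyPretransitive G α t) (x : Fin t ↪ α) {p : ℕ} [Fact p.Prime] (P : Sylow p (MulAction.stabilizer G x)) (a b : Fin t ↪ α) (ha : ∀ i, a i ∈ MulAction.fixedPoints ((P : Subgroup (MulAction.stabilizer G x)).map (MulAction.stabilizer G x).subtype) α) (hb : ∀ i, b i ∈ MulAction.fixedPoints ((P : Subgroup (MulAction.stabilizer G x)).map (MulAction.stabilizer G x).subtype) α) : ∃ g ∈ Subgroup.normalizer ((((P : Subgroup (MulAction.stabilizer G x)).map (MulAction.stabilizer G x).subtype) : Subgroup G) : Set G), g • a = b := by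
  classical
  obtain ⟨g, hg⟩ := hG.exists_smul_eq a b
  set Q := (P : Subgroup (MulAction.stabilizer G x)).map (MulAction.stabilizer G x).subtype with hQdef
  set B := MulAction.stabilizer G b
  have hQb : Q ≤ B := fun q hq => Function.Embedding.ext fun i => hb i ⟨q, hq⟩
  have hQa : ∀ q ∈ Q, q • a = a := fun q hq => Function.Embedding.ext fun i => ha i ⟨q, hq⟩
  have hgQb : MulAut.conj g • Q ≤ B := by
    rintro _ ⟨q, hq, rfl⟩
    show (g * q * g⁻¹) • b = b
    rw [← hg, mul_smul, inv_smul_smul, mul_smul, hQa q hq]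
  have hcard : ∀ u : Fin t ↪ α, Nat.card (MulAction.stabilizer G u) = Nat.card (MulAction.stabilizer G x) := by
    intro u
    obtain ⟨w, rfl⟩ := hG.exists_smul_eq x u
    rw [MulAction.stabilizer_smul_eq_stabilizer_map_conj]
    exact Nat.card_congr ((MulAction.stabilizer G x).equivMapOfInjective _ (MulAut.conj w).injective).symm.toEquiv
  have hsyl : ∀ R : Subgroup G, R ≤ B → Nat.card R = Nat.card Q → ∃ S : Sylow p B, (S : Subgroup B).map B.subtype = R := by
    intro R hR hc
    refine ⟨Sylow.ofCard (R.subgroupOf B) ?_, ?_⟩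
    · rw [Nat.card_congr (Subgroup.subgroupOfEquivOfLe hR).toEquiv, hc, hQdef,
        Subgroup.card_subtype, hcard b]
      exact P.card_eq_multiplicity
    · rw [Sylow.coe_ofCard, Subgroup.map_subgroupOf_eq_of_le hR]
  obtain ⟨S, hS⟩ := hsyl Q hQb rfl
  obtain ⟨T, hT⟩ := hsyl (MulAut.conj g • Q) hgQb (Nat.card_congr (Subgroup.equivSMul (MulAut.conj g) Q).symm.toEquiv)
  obtain ⟨h, hh⟩ := MulAction.exists_smul_eq B T S
  refine ⟨(h : G) * g, ?_, by rw [mul_smul, hg]; exact h.2⟩
  rw [CfsgLib.Coprime.mem_normalizer_iff_conj_smul, map_mul, mul_smul, ← hT]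
  conv_rhs => rw [← hS, ← hh]
  ext y
  simp only [Subgroup.mem_map, CfsgLib.Coprime.mem_conj_smul_iff, Sylow.coe_subgroup_smul]
  constructor
  · rintro ⟨w, hw, hwy⟩
    refine ⟨h * w * h⁻¹, ?_, ?_⟩
    · rwa [show h⁻¹ * (h * w * h⁻¹) * h = w by group]
    · simp only [Subgroup.subtype_apply, Subgroup.coe_mul, Subgroup.coe_inv] at hwy ⊢
      rw [hwy]; group
  · rintro ⟨w, hw, rfl⟩
    exact ⟨h⁻¹ * w * h, hw, rfl⟩

end Cfsg.Agent.S4219
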