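import Cfsg.Statements.S4221
import Cfsg.Agent.Lib.FourTrans.Small
-- import your own Cfsg.Agent.* helpers here

set_option autoImplicit false
open Cfsg

namespace Cfsg.Agent.S4221

/-- Let `G` be a `4`-fold transitive permutation group on a finite set of `n` points in which the pointwise stabilizer of some four distinct points has odd order. Then `n = 4` or `n = 5` with `G` the full symmetric group, or `n = 6` or `n = 7` with `G` the alternating group, or `n = 11` and `G` has order `7920`. -/
theorem result {α : Type*} [Fintype α] [DecidableEq α] (G : Subgroup (Equiv.Perm α)) (hG : MulAction.IsMultiplyPretransitive G α 4) (x : Fin 4 ↪ α) (hodd : Odd (Nat.card (MulAction.stabilizer G x))) : ((Fintype.card α = 4 ∨ Fintype.card α = 5) ∧ G = ⊤) ∨ ((Fintype.card α = 6 ∨ Fintype.card α = 7) ∧ G = alternatingGroup α) ∨ (Fintype.card α = 11 ∧ Nat.card G = 7920) := by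
  classical
  obtain ⟨H, d⟩ : ∃ H : Cfsg.Agent.FourTrans.Hyp G α, Cfsg.Agent.FourTrans.D4 (x 0) (x 1) (x 2) (x 3) := by
    have d : Cfsg.Agent.FourTrans.D4 (x 0) (x 1) (x 2) (x 3) :=
      ⟨x.injective.ne (by decide), x.injective.ne (by decide), x.injective.ne (by decide),
        x.injective.ne (by decide), x.injective.ne (by decide), x.injective.ne (by decide)⟩
    have htr := MulAction.isMultiplyPretransitive_iff.1 hG
    have htrans : ∀ ⦃i j k l : α⦄, Cfsg.Agent.FourTrans.D4 i j k l → ∀ ⦃i' j' k' l' : α⦄,
        Cfsg.Agent.FourTrans.D4 i' j' k' l' →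
        ∃ g : G, g • i = i' ∧ g • j = j' ∧ g • k = k' ∧ g • l = l' := by
      intro i j k l e i' j' k' l' e'
      have mk : ∀ {p q r s : α}, Cfsg.Agent.FourTrans.D4 p q r s →
          ∃ y : Fin 4 ↪ α, y 0 = p ∧ y 1 = q ∧ y 2 = r ∧ y 3 = s := by
        intro p q r s e
        refine ⟨⟨![p, q, r, s], ?_⟩, rfl, rfl, rfl, rfl⟩
        intro u v h
        fin_cases u <;> fin_cases v <;>
          first
            | rfl
            | exact absurd h (by simp [e.ij, e.ik, e.il, e.jk, e.jl, e.kl, e.ij.symm, e.ik.symm,
                e.il.symm, e.jk.symm, e.jl.symm, e.kl.symm])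
      obtain ⟨y, y0, y1, y2, y3⟩ := mk e
      obtain ⟨y', y0', y1', y2', y3'⟩ := mk e'
      obtain ⟨g, hg⟩ := htr y y'
      have h := fun u => DFunLike.congr_fun hg u
      exact ⟨g, by rw [← y0, ← y0']; exact h 0, by rw [← y1, ← y1']; exact h 1,
        by rw [← y2, ← y2']; exact h 2, by rw [← y3, ← y3']; exact h 3⟩
    refine ⟨⟨htrans, ?_⟩, d⟩
    intro i j k l e
    obtain ⟨g, g1, g2, g3, g4⟩ := htrans d e
    have hst : MulAction.stabilizer G x = Cfsg.Agent.FourTrans.fix4 G (x 0) (x 1) (x 2) (x 3) := by
      ext t
      rw [MulAction.mem_stabilizer_iff, Cfsg.Agent.FourTrans.mem_fix4]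
      constructor
      · intro h
        have h' := fun p => DFunLike.congr_fun h p
        exact ⟨h' 0, h' 1, h' 2, h' 3⟩
      · rintro ⟨h1, h2, h3, h4⟩
        ext p
        fin_cases p
        exacts [h1, h2, h3, h4]
    rw [Cfsg.Agent.FourTrans.card_eq_of_conj g
      (Cfsg.Agent.FourTrans.conj_mem_fix4 g1 g2 g3 g4), ← hst]
    exact hodd
  have hcard := H.card_group d
  have hn4 : 4 ≤ Fintype.card α := by simpa using Fintype.card_le_of_embedding x
  set K := Cfsg.Agent.FourTrans.fix4 G (x 0) (x 1) (x 2) (x 3)
  have hKodd : Odd (Nat.card K) := H.odd d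
  have hsmall : Fintype.card α ≤ 6 → Nat.card K = 1 := by
    intro h6
    rw [Subgroup.card_eq_one, Subgroup.eq_bot_iff_forall]
    intro t ht
    obtain ⟨t0, t1, t2, t3⟩ := Cfsg.Agent.FourTrans.mem_fix4.1 ht
    set R : Finset α := Finset.univ \ Finset.univ.map x with hR
    have hfixout : ∀ z : α, z ∉ R → t • z = z := by
      intro z hz
      simp only [hR, Finset.mem_sdiff, Finset.mem_univ, true_and, not_not, Finset.mem_map] at hz
      obtain ⟨p, rfl⟩ := hz
      fin_cases p
      exacts [t0, t1, t2, t3]
    have hRc : R.card ≤ 2 := by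
      rw [hR, Finset.card_sdiff_of_subset (Finset.subset_univ _), Finset.card_map,
        Finset.card_univ, Finset.card_univ, Fintype.card_fin]
      omega
    refine eq_of_smul_eq_smul fun z : α => ?_
    rw [one_smul]
    by_contra hz
    have h1 : z ∈ R := by_contra fun h => hz (hfixout z h)
    have h2 : t • z ∈ R := by_contra fun h => hz (MulAction.injective t (hfixout _ h))
    have h3 : t • (t • z) = z := by
      by_contra h3
      have h4 : t • (t • z) ∈ R := by_contra fun h =>
        hz (MulAction.injective t (MulAction.injective t (hfixout _ h)))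
      have hsub : ({z, t • z, t • (t • z)} : Finset α) ⊆ R := by
        intro w hw
        simp only [Finset.mem_insert, Finset.mem_singleton] at hw
        rcases hw with rfl | rfl | rfl <;> assumption
      have h5 : ({z, t • z, t • (t • z)} : Finset α).card = 3 := Finset.card_eq_three.2
        ⟨z, t • z, t • (t • z), Ne.symm hz, Ne.symm h3,
          fun h => hz (MulAction.injective t h.symm), rfl⟩
      have := Finset.card_le_card hsub
      omega
    exact hz (Cfsg.Agent.FourTrans.odd_fix_pair (Cfsg.Agent.FourTrans.odd_orderOf hKodd ht)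
      (Or.inr rfl) (Or.inl h3))
  have hperm : Nat.card (Equiv.Perm α) = (Fintype.card α).factorial := by
    rw [Nat.card_perm, Nat.card_eq_fintype_card (α := α)]
  have hidx := Subgroup.card_mul_index G
  rw [hperm, hcard] at hidx
  rcases Nat.lt_or_ge (Fintype.card α) 8 with hlt | hge
  · have : Fintype.card α = 4 ∨ Fintype.card α = 5 ∨ Fintype.card α = 6 ∨ Fintype.card α = 7 := by
      omega
    rcases this with h | h | h | h
    · refine Or.inl ⟨Or.inl h, Subgroup.index_eq_one.1 ?_⟩
      rw [hsmall (by omega), h] at hidx
      rw [show Nat.descFactorial 4 4 = 24 from rfl, show Nat.factorial 4 = 24 from rfl] at hidx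
      omega
    · refine Or.inl ⟨Or.inr h, Subgroup.index_eq_one.1 ?_⟩
      rw [hsmall (by omega), h] at hidx
      rw [show Nat.descFactorial 5 4 = 120 from rfl, show Nat.factorial 5 = 120 from rfl] at hidx
      omega
    · refine Or.inr (Or.inl ⟨Or.inl h, Equiv.Perm.eq_alternatingGroup_of_index_eq_two ?_⟩)
      rw [hsmall (by omega), h] at hidx
      rw [show Nat.descFactorial 6 4 = 360 from rfl, show Nat.factorial 6 = 720 from rfl] at hidx
      omega
    · refine Or.inr (Or.inl ⟨Or.inr h, Equiv.Perm.eq_alternatingGroup_of_index_eq_two ?_⟩)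
      rw [h] at hidx
      rw [show Nat.descFactorial 7 4 = 840 from rfl, show Nat.factorial 7 = 5040 from rfl] at hidx
      have h6 : Nat.card K * G.index = 6 := by
        apply Nat.eq_of_mul_eq_mul_left (by norm_num : 0 < 840)
        rw [← mul_assoc, hidx]
      have hK3 : Nat.card K = 1 ∨ Nat.card K = 3 := by
        have hm : Nat.card K ∈ Nat.divisors 6 := Nat.mem_divisors.2 ⟨⟨_, h6.symm⟩, by norm_num⟩
        rw [show Nat.divisors 6 = {1, 2, 3, 6} by decide] at hm
        simp only [Finset.mem_insert, Finset.mem_singleton] at hm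
        obtain ⟨m, hm'⟩ := hKodd
        omega
      rcases hK3 with hK | hK
      · exfalso
        rw [hK, one_mul] at h6
        have hle : Nat.card (Equiv.Perm (Equiv.Perm α ⧸ G)) = 720 := by
          rw [Nat.card_perm]
          change (G.index).factorial = 720
          rw [h6]; rfl
        have hker : 7 ≤ Nat.card G.normalCore := by
          rw [Subgroup.normalCore_eq_ker]
          set f := MulAction.toPermHom (Equiv.Perm α) (Equiv.Perm α ⧸ G)
          have h1 := Subgroup.card_mul_index f.ker
          rw [hperm, h, Subgroup.index_ker] at h1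
          have h2 : Nat.card f.range ≤ 720 := hle ▸ Subgroup.card_le_card_group _
          rw [show Nat.factorial 7 = 5040 from rfl] at h1
          nlinarith
        have hnt : Nontrivial G.normalCore := by
          rw [Subgroup.nontrivial_iff_ne_bot]
          intro hbot
          rw [hbot, Subgroup.card_bot] at hker
          omega
        have hA : alternatingGroup α ≤ G :=
          (Equiv.Perm.alternatingGroup_le_of_normal (by rw [Nat.card_eq_fintype_card, h]; norm_num)
            hnt).trans G.normalCore_le
        have h1 := Subgroup.index_dvd_of_le hA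
        have : Nontrivial α := Fintype.one_lt_card_iff_nontrivial.1 (by omega)
        rw [alternatingGroup.index_eq_two, h6] at h1
        norm_num at h1
      · rw [hK] at h6
        omega
  · exact Or.inr (Or.inr (H.main hge d))

end Cfsg.Agent.S4221
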