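import Cfsg.Statements.S4223
import Mathlib
-- import your own Cfsg.Agent.* helpers here

set_option autoImplicit false
open Cfsg

namespace Cfsg.Agent.S4223

universe ksU ksV

/-- A normal endomorphism of an indecomposable finite group is bijective or nilpotent. -/
lemma ksAux_fitting {A : Type*} [Group A] [Finite A]
    (hA : ∀ H K : Subgroup A, H.Normal → K.Normal → H ⊓ K = ⊥ → H ⊔ K = ⊤ → H = ⊥ ∨ K = ⊥)
    (u : A →* A) (hu : ∀ g x, u (g * x * g⁻¹) = g * u x * g⁻¹) :
    Function.Bijective u ∨ ∃ N : ℕ, ∀ x, (⇑u)^[N] x = 1 := by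
  classical
  obtain ⟨a, b, hab, heq⟩ := Finite.exists_ne_map_eq_of_infinite (fun k : ℕ => (⇑u)^[k])
  wlog hlt : a < b generalizing a b
  · exact this b a hab.symm heq.symm (by omega)
  obtain ⟨d, hd⟩ : ∃ d, d = b - a := ⟨_, rfl⟩
  have hper : ∀ k, a ≤ k → (⇑u)^[k + d] = (⇑u)^[k] := by
    intro k hk
    obtain ⟨c, rfl⟩ : ∃ c, k = c + a := ⟨k - a, by omega⟩
    rw [show c + a + d = c + b by omega, Function.iterate_add, Function.iterate_add]
    exact congrArg _ heq.symm
  have hmult : ∀ j k, a ≤ k → (⇑u)^[k + j * d] = (⇑u)^[k] := by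
    intro j
    induction j with
    | zero => intro k _; simp
    | succ j ih =>
      intro k hk
      rw [show k + (j + 1) * d = k + j * d + d by ring, hper _ (by omega), ih k hk]
  obtain ⟨N, hN⟩ : ∃ N, N = (a + 1) * d := ⟨_, rfl⟩
  have hNpos : 0 < N := by rw [hN]; exact Nat.mul_pos (by omega) (by omega)
  have hidem : (⇑u)^[N + N] = (⇑u)^[N] := by
    nth_rewrite 2 [hN]
    exact hmult (a + 1) N (by rw [hN]; have := Nat.le_mul_of_pos_right (a + 1) (show 0 < d by omega); omega)
  -- the idempotent power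
  let E : A →* A := MonoidHom.mk' ((⇑u)^[N]) (fun x y => iterate_map_mul u N x y)
  have hE : ∀ g x, E (g * x * g⁻¹) = g * E x * g⁻¹ := by
    intro g x
    have hcomm : ∀ k, (⇑u)^[k] (g * x * g⁻¹) = g * (⇑u)^[k] x * g⁻¹ := by
      intro k
      induction k with
      | zero => rfl
      | succ k ih => rw [Function.iterate_succ_apply', Function.iterate_succ_apply', ih, hu]
    exact hcomm N
  have hEE : ∀ x, E (E x) = E x := fun x => by
    have := congrFun hidem x
    rwa [Function.iterate_add_apply] at this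
  have hrn : E.range.Normal := ⟨by
    rintro _ ⟨x, rfl⟩ g
    exact ⟨g * x * g⁻¹, hE g x⟩⟩
  have hinf : E.ker ⊓ E.range = ⊥ := by
    rw [eq_bot_iff]
    rintro _ ⟨hy, x, rfl⟩
    have : E (E x) = 1 := hy
    rw [hEE] at this
    exact this
  have hsup : E.ker ⊔ E.range = ⊤ := by
    rw [eq_top_iff]
    intro x _
    have h1 : x * (E x)⁻¹ ∈ E.ker := by
      rw [MonoidHom.mem_ker, map_mul, map_inv, hEE, mul_inv_cancel]
    have hx : E x ∈ E.range := ⟨x, rfl⟩
    have := Subgroup.mul_mem_sup h1 hx
    rwa [inv_mul_cancel_right] at this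
  rcases hA E.ker E.range inferInstance hrn hinf hsup with h | h
  · left
    apply Finite.injective_iff_bijective.1
    have hinj : Function.Injective E := (MonoidHom.ker_eq_bot_iff E).1 h
    intro x y hxy
    apply hinj
    show (⇑u)^[N] x = (⇑u)^[N] y
    obtain ⟨k, hk⟩ : ∃ k, N = k + 1 := ⟨N - 1, by omega⟩
    rw [hk, Function.iterate_succ_apply, Function.iterate_succ_apply, hxy]
  · right
    refine ⟨N, fun x => ?_⟩
    have : E x ∈ E.range := ⟨x, rfl⟩
    rw [h] at this
    exact this

/-- The exchange step. -/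
lemma ksAux_exchange {A₀ A' : Type*} [Group A₀] [Finite A₀] [Group A'] [Finite A']
    (hA₀ : Nontrivial A₀ ∧ ∀ H K : Subgroup A₀, H.Normal → K.Normal → H ⊓ K = ⊥ → H ⊔ K = ⊤ → H = ⊥ ∨ K = ⊥)
    {n : ℕ} {B : Fin (n + 1) → Type*} [∀ j, Group (B j)] [∀ j, Finite (B j)]
    (hB : ∀ j, Nontrivial (B j) ∧ ∀ H K : Subgroup (B j), H.Normal → K.Normal → H ⊓ K = ⊥ → H ⊔ K = ⊤ → H = ⊥ ∨ K = ⊥)
    (e : A₀ × A' ≃* ((j : Fin (n + 1)) → B j)) :
    ∃ j, Nonempty (A₀ ≃* B j) ∧ Nonempty (A' ≃* ((k : Fin n) → B (j.succAbove k))) := by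
  classical
  obtain ⟨hnt, hind⟩ := hA₀
  let p : ((j : Fin (n + 1)) → B j) →* A₀ := (MonoidHom.fst A₀ A').comp e.symm.toMonoidHom
  let i : A₀ →* ((j : Fin (n + 1)) → B j) := e.toMonoidHom.comp (MonoidHom.inl A₀ A')
  have hpi : ∀ a, p (i a) = a := fun a => by simp [p, i]
  let P : Finset (Fin (n + 1)) → ((j : Fin (n + 1)) → B j) →* ((j : Fin (n + 1)) → B j) := fun S =>
    MonoidHom.mk' (fun y k => if k ∈ S then y k else 1) fun y z => by
      funext k
      by_cases hk : k ∈ S <;> simp [hk]
  let v : Finset (Fin (n + 1)) → A₀ →* A₀ := fun S => p.comp ((P S).comp i)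
  have hvn : ∀ S g x, v S (g * x * g⁻¹) = g * v S x * g⁻¹ := by
    intro S g x
    have hP : P S (i g * i x * (i g)⁻¹) = i g * P S (i x) * (i g)⁻¹ := by
      funext k
      show (if k ∈ S then _ else 1) = i g k * (if k ∈ S then i x k else 1) * (i g k)⁻¹
      by_cases hk : k ∈ S <;> simp [hk]
    show p (P S (i (g * x * g⁻¹))) = g * p (P S (i x)) * g⁻¹
    rw [map_mul i, map_mul i, map_inv i, hP, map_mul, map_mul, map_inv, hpi]
  have huniv : Function.Bijective (v Finset.univ) := by
    have : ∀ a, v Finset.univ a = a := fun a => by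
      show p (P Finset.univ (i a)) = a
      rw [show P Finset.univ (i a) = i a from funext fun k => if_pos (Finset.mem_univ k), hpi]
    rw [show ⇑(v Finset.univ) = id from funext this]
    exact Function.bijective_id
  have hfind : ∀ S : Finset (Fin (n + 1)), Function.Bijective (v S) →
      ∃ j, Function.Bijective (v {j}) := by
    intro S
    induction S using Finset.induction_on with
    | empty =>
      intro hb
      obtain ⟨x, y, hxy⟩ := hnt.exists_pair_ne
      refine absurd (hb.1 ?_) hxy
      show p (P ∅ (i x)) = p (P ∅ (i y))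
      rfl
    | @insert j S hj ih =>
      intro hb
      let w : A₀ ≃* A₀ := (MulEquiv.ofBijective (v (insert j S)) hb).symm
      have hw : ∀ g x, w (g * x * g⁻¹) = g * w x * g⁻¹ := by
        intro g x
        apply (MulEquiv.ofBijective (v (insert j S)) hb).injective
        show v (insert j S) (w (g * x * g⁻¹)) = v (insert j S) (g * w x * g⁻¹)
        rw [hvn]
        have hcan : ∀ z, v (insert j S) (w z) = z :=
          (MulEquiv.ofBijective (v (insert j S)) hb).apply_symm_apply
        rw [hcan, hcan]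
      let U : A₀ →* A₀ := w.toMonoidHom.comp (v {j})
      let W : A₀ →* A₀ := w.toMonoidHom.comp (v S)
      have hsum : ∀ x, U x * W x = x := by
        intro x
        show w (v {j} x) * w (v S x) = x
        rw [← map_mul]
        have : v {j} x * v S x = v (insert j S) x := by
          show p (P {j} (i x)) * p (P S (i x)) = p (P (insert j S) (i x))
          rw [← map_mul]
          congr 1
          funext k
          show (if k ∈ ({j} : Finset _) then i x k else 1) * (if k ∈ S then i x k else 1)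
            = if k ∈ insert j S then i x k else 1
          by_cases hk : k = j
          · subst hk; simp [hj]
          · simp [hk]
        rw [this]
        exact (MulEquiv.ofBijective (v (insert j S)) hb).symm_apply_apply x
      have hWn : ∀ g x, W (g * x * g⁻¹) = g * W x * g⁻¹ := fun g x => by
        show w (v S (g * x * g⁻¹)) = g * w (v S x) * g⁻¹
        rw [hvn, hw]
      rcases ksAux_fitting hind W hWn with hWb | ⟨N, hN⟩
      · apply ih
        have : ⇑(v S) = ⇑w.symm ∘ ⇑W := funext fun x => (w.symm_apply_apply _).symm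
        rw [this]
        exact w.symm.bijective.comp hWb
      · refine ⟨j, ?_⟩
        have hU : Function.Injective U := by
          rw [← MonoidHom.ker_eq_bot_iff, eq_bot_iff]
          intro x hx
          rw [MonoidHom.mem_ker] at hx
          have h1 : W x = x := by have := hsum x; rwa [hx, one_mul] at this
          have := hN x
          rw [Function.iterate_fixed h1] at this
          exact this
        have : ⇑(v {j}) = ⇑w.symm ∘ ⇑U := funext fun x => (w.symm_apply_apply _).symm
        rw [this]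
        exact w.symm.bijective.comp (Finite.injective_iff_bijective.1 hU)
  obtain ⟨j, hj⟩ := hfind _ huniv
  let f : A₀ →* B j := (Pi.evalMonoidHom B j).comp i
  let g : B j →* A₀ := p.comp (MonoidHom.mulSingle B j)
  have hgf : ∀ a, g (f a) = v {j} a := fun a => by
    show p (Pi.mulSingle j (i a j)) = p (P {j} (i a))
    congr 1
    funext k
    show Pi.mulSingle j (i a j) k = if k ∈ ({j} : Finset _) then i a k else 1
    by_cases hk : k = j
    · subst hk; simp
    · simp [hk]
  have hfi : Function.Injective f := fun a b h => hj.1 (by rw [← hgf, ← hgf, h])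
  have hrn : f.range.Normal := ⟨by
    rintro _ ⟨a, rfl⟩ b
    obtain ⟨z, hz⟩ := e.surjective (Pi.mulSingle j b)
    refine ⟨z.1 * a * z.1⁻¹, ?_⟩
    have h1 : e (z * (a, 1) * z⁻¹) = Pi.mulSingle j b * e (a, 1) * (Pi.mulSingle j b)⁻¹ := by
      rw [map_mul, map_mul, map_inv, hz]
    have h2 : z * ((a, 1) : A₀ × A') * z⁻¹ = (z.1 * a * z.1⁻¹, 1) := Prod.ext rfl (by simp)
    rw [h2] at h1
    show e (z.1 * a * z.1⁻¹, 1) j = b * e (a, 1) j * b⁻¹
    rw [h1]
    simp⟩
  have hinf : g.ker ⊓ f.range = ⊥ := by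
    rw [eq_bot_iff]
    rintro _ ⟨hy, a, rfl⟩
    have h1 : v {j} a = v {j} 1 := by rw [← hgf, map_one]; exact hy
    rw [hj.1 h1, map_one]
    exact Subgroup.one_mem _
  have hsup : g.ker ⊔ f.range = ⊤ := by
    rw [eq_top_iff]
    intro b _
    obtain ⟨a, ha⟩ := hj.2 (g b)
    have h1 : b * (f a)⁻¹ ∈ g.ker := by
      rw [MonoidHom.mem_ker, map_mul, map_inv, hgf, ha, mul_inv_cancel]
    have hx : f a ∈ f.range := ⟨a, rfl⟩
    have := Subgroup.mul_mem_sup h1 hx
    rwa [inv_mul_cancel_right] at this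
  have hfs : Function.Surjective f := by
    rw [← MonoidHom.range_eq_top]
    rcases (hB j).2 g.ker f.range inferInstance hrn hinf hsup with h | h
    · rwa [h, bot_sup_eq] at hsup
    · exfalso
      obtain ⟨x, y, hxy⟩ := hnt.exists_pair_ne
      apply hxy
      apply hfi
      have hx : f x ∈ f.range := ⟨x, rfl⟩
      have hy : f y ∈ f.range := ⟨y, rfl⟩
      rw [h] at hx hy
      rw [Subgroup.mem_bot.1 hx, Subgroup.mem_bot.1 hy]
  refine ⟨j, ⟨MulEquiv.ofBijective f ⟨hfi, hfs⟩⟩, ?_⟩
  let ι : ((k : Fin n) → B (j.succAbove k)) →* ((l : Fin (n + 1)) → B l) :=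
    MonoidHom.mk' (fun y => j.insertNth 1 y) fun y z => by
      conv_lhs => rw [← one_mul (1 : B j)]
      exact Fin.insertNth_mul j 1 1 y z
  let h : ((k : Fin n) → B (j.succAbove k)) →* A' :=
    (MonoidHom.snd A₀ A').comp (e.symm.toMonoidHom.comp ι)
  have hh : Function.Injective h := by
    rw [← MonoidHom.ker_eq_bot_iff, eq_bot_iff]
    intro y hy
    have hy' : (e.symm (ι y)).2 = 1 := hy
    have h1 : i (e.symm (ι y)).1 = ι y := by
      show e ((e.symm (ι y)).1, 1) = ι y
      rw [← hy', Prod.mk.eta, e.apply_symm_apply]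
    have h2 : f (e.symm (ι y)).1 = 1 := by
      show i (e.symm (ι y)).1 j = 1
      rw [h1]
      exact Fin.insertNth_apply_same j _ _
    rw [hfi (h2.trans (map_one f).symm), map_one] at h1
    rw [Subgroup.mem_bot]
    funext k
    have := congrFun h1.symm (j.succAbove k)
    rwa [show ι y (j.succAbove k) = y k from Fin.insertNth_apply_succAbove j _ _ k] at this
  have hcard : Nat.card ((k : Fin n) → B (j.succAbove k)) = Nat.card A' := by
    have h1 := Nat.card_congr e.toEquiv
    rw [← Nat.card_congr (Fin.insertNthEquiv B j), Nat.card_prod, Nat.card_prod,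
      Nat.card_congr (MulEquiv.ofBijective f ⟨hfi, hfs⟩).toEquiv] at h1
    have hpos : 0 < Nat.card (B j) := Nat.card_pos
    exact (Nat.eq_of_mul_eq_mul_left hpos h1).symm
  exact ⟨(MulEquiv.ofBijective h
    ((Nat.bijective_iff_injective_and_card h).2 ⟨hh, hcard⟩)).symm⟩

lemma ksAux_main : ∀ (m n : ℕ) (A : Fin m → Type ksU) (B : Fin n → Type ksV) [∀ i, Group (A i)]
    [∀ j, Group (B j)] [∀ i, Finite (A i)] [∀ j, Finite (B j)],
    (∀ i, Nontrivial (A i) ∧ ∀ H K : Subgroup (A i), H.Normal → K.Normal → H ⊓ K = ⊥ → H ⊔ K = ⊤ → H = ⊥ ∨ K = ⊥) →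
    (∀ j, Nontrivial (B j) ∧ ∀ H K : Subgroup (B j), H.Normal → K.Normal → H ⊓ K = ⊥ → H ⊔ K = ⊤ → H = ⊥ ∨ K = ⊥) →
    (((i : Fin m) → A i) ≃* ((j : Fin n) → B j)) →
    ∃ σ : Fin m ≃ Fin n, ∀ i, Nonempty (A i ≃* B (σ i)) := by
  classical
  intro m
  induction m with
  | zero =>
    intro n A B _ _ _ _ hA hB e
    cases n with
    | zero => exact ⟨Equiv.refl _, fun i => i.elim0⟩
    | succ n =>
      exfalso
      obtain ⟨x, y, hxy⟩ := (hB 0).1.exists_pair_ne
      apply hxy
      have h1 : e.symm (Pi.mulSingle 0 x) = e.symm (Pi.mulSingle 0 y) := Subsingleton.elim _ _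
      simpa using congrFun (e.symm.injective h1) 0
  | succ m ih =>
    intro n A B _ _ _ _ hA hB e
    cases n with
    | zero =>
      exfalso
      obtain ⟨x, y, hxy⟩ := (hA 0).1.exists_pair_ne
      apply hxy
      have h1 : e (Pi.mulSingle 0 x) = e (Pi.mulSingle 0 y) := Subsingleton.elim _ _
      simpa using congrFun (e.injective h1) 0
    | succ n =>
      let s : A 0 × ((i : Fin m) → A i.succ) ≃* ((i : Fin (m + 1)) → A i) :=
        { Fin.consEquiv A with
          map_mul' := fun x y => by
            funext k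
            refine Fin.cases ?_ (fun i => ?_) k <;> simp [Fin.consEquiv] }
      obtain ⟨j, ⟨e₀⟩, ⟨e'⟩⟩ := ksAux_exchange (hA 0) hB (s.trans e)
      obtain ⟨σ, hσ⟩ := ih n (fun i => A i.succ) (fun k => B (j.succAbove k))
        (fun i => hA i.succ) (fun k => hB _) e'
      refine ⟨(finSuccEquiv' 0).trans ((Equiv.optionCongr σ).trans (finSuccEquiv' j).symm), fun k => ?_⟩
      refine Fin.cases ?_ (fun i => ?_) k
      · rw [show ((finSuccEquiv' 0).trans ((Equiv.optionCongr σ).trans (finSuccEquiv' j).symm)) 0 = j by simp]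
        exact ⟨e₀⟩
      · rw [show ((finSuccEquiv' 0).trans ((Equiv.optionCongr σ).trans (finSuccEquiv' j).symm)) i.succ
          = j.succAbove (σ i) by
            rw [show i.succ = (0 : Fin (m + 1)).succAbove i from (congrFun Fin.succAbove_zero i).symm]
            rw [Equiv.trans_apply, Equiv.trans_apply, finSuccEquiv'_succAbove]
            exact finSuccEquiv'_symm_some _ _]
        exact hσ i

/-- If a finite group is isomorphic both to a direct product of `m` directly indecomposable nontrivial groups and to a direct product of `n` such groups (a group is directly indecomposable when it is not the internal direct product of two nontrivial normal subgroups), then `m = n` and the factors are isomorphic in pairs after a suitable matching. -/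
theorem result {m n : ℕ} {A : Fin m → Type*} {B : Fin n → Type*} [∀ i, Group (A i)] [∀ j, Group (B j)] [∀ i, Finite (A i)] [∀ j, Finite (B j)] (hA : ∀ i, Nontrivial (A i) ∧ ∀ H K : Subgroup (A i), H.Normal → K.Normal → H ⊓ K = ⊥ → H ⊔ K = ⊤ → H = ⊥ ∨ K = ⊥) (hB : ∀ j, Nontrivial (B j) ∧ ∀ H K : Subgroup (B j), H.Normal → K.Normal → H ⊓ K = ⊥ → H ⊔ K = ⊤ → H = ⊥ ∨ K = ⊥) (e : ((i : Fin m) → A i) ≃* ((j : Fin n) → B j)) : ∃ σ : Fin m ≃ Fin n, ∀ i, Nonempty (A i ≃* B (σ i)) := by
  exact ksAux_main m n A B hA hB e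

end Cfsg.Agent.S4223
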