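import Cfsg.Statements.S4225
import Cfsg.Agent.Lib.Regular.Basic

set_option autoImplicit false
open Cfsg

namespace Cfsg.Agent.S4225

/-- In a regular `p`-group, for every `k` the elements whose `p^k`-th power is `1` form a characteristic subgroup. -/
theorem result {G : Type*} [Group G] [Finite G] {p : ℕ} [Fact p.Prime] (hG : Cfsg.IsRegularPGroup p G) (k : ℕ) : ∃ H : Subgroup G, H.Characteristic ∧ (H : Set G) = {x : G | x ^ p ^ k = 1} := by
  refine ⟨{ carrier := {x : G | x ^ p ^ k = 1}
            one_mem' := one_pow _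
            mul_mem' := fun ha hb =>
              CfsgLib.Regular.omega_mul hG.1 (CfsgLib.Regular.levelReg_of_regular hG k) _ _ ha hb
            inv_mem' := fun {x} (hx : x ^ p ^ k = 1) =>
              show x⁻¹ ^ p ^ k = 1 by rw [inv_pow, hx, inv_one] }, ?_, rfl⟩
  refine Subgroup.characteristic_iff_comap_eq.mpr fun φ => ?_
  ext x
  simp only [Subgroup.mem_comap, Subgroup.mem_mk, Submonoid.mem_mk, Subsemigroup.mem_mk,
    Set.mem_setOf_eq, MulEquiv.coe_toMonoidHom, ← map_pow, EmbeddingLike.map_eq_one_iff]

end Cfsg.Agent.S4225
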