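import Cfsg.Statements.S4226
import Cfsg.Agent.Lib.Transfer.HallWielandt
import Cfsg.Agent.S2807

set_option autoImplicit false
open Cfsg

namespace Cfsg.Agent.S4226

/-- Let `P` be a Sylow `p`-subgroup of the finite group `G` with nilpotency class less than `p` (the term of index `p - 1` of the lower central series of `P`, indexed from `0`, is trivial), and let `N` be its normalizer. Then `O^p(N) = O^p(G) ∩ N`, where `O^p` denotes the subgroup generated by the elements of order prime to `p`; so the largest `p`-factor groups of `G` and of `N` are isomorphic. -/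
theorem result {G : Type*} [Group G] [Finite G] {p : ℕ} [Fact p.Prime] (P : Sylow p G) (hcl : (P : Subgroup G).lowerCentralSeries (p - 1) = ⊥) : Cfsg.pResidualOf p (Subgroup.normalizer ((P : Subgroup G) : Set G)) = Cfsg.pResidual p G ⊓ Subgroup.normalizer ((P : Subgroup G) : Set G) := by
  refine CfsgLib.Transfer.pResidualOf_eq_of_focal P Subgroup.le_normalizer ?_
  by_contra h
  obtain ⟨W, f, hf⟩ := Cfsg.Agent.S2807.result P fun e => h (e.le.trans inf_le_right)
  have htop : (⊤ : Subgroup ↥(P : Subgroup G)).lowerCentralSeries (p - 1) = ⊥ := by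
    rw [← Subgroup.map_eq_bot_iff_of_injective _ (P : Subgroup G).subtype_injective,
      CfsgLib.Transfer.map_lowerCentralSeries, ← MonoidHom.range_eq_map, Subgroup.range_subtype]
    exact hcl
  refine CfsgLib.Transfer.wreath_lowerCentralSeries_ne_bot W ?_
  have h1 := congrArg (Subgroup.map ((W : Subgroup (Equiv.Perm (Fin (p ^ 2)))).subtype.comp f)) htop
  rw [CfsgLib.Transfer.map_lowerCentralSeries, Subgroup.map_bot, ← Subgroup.map_map,
    Subgroup.map_top_of_surjective f hf, ← MonoidHom.range_eq_map, Subgroup.range_subtype] at h1
  exact h1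

end Cfsg.Agent.S4226
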