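import Mathlib
import Cfsg.Agent.S0144
import Cfsg.Agent.Lib.PSolvable.Core
import Cfsg.Agent.Lib.PSolvable.Constrained
import Cfsg.Agent.Lib.ZJ.RealElements
import Cfsg.Agent.Lib.Critical.Basic

/-!
Groups of exponent six have 2-length and 3-length at most one.
-/

set_option autoImplicit false
set_option linter.style.haveILetI false

namespace Cfsg.Agent.S4227

universe u

open scoped Classical

/-- The setting: a four group `{1,a,b,c}` permuted by `x`, acting on a normal subgroup `Q`. -/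
structure Setting {H : Type u} [Group H] (Q : Subgroup H) (x a b c : H) : Prop where
  aa : a * a = 1
  bb : b * b = 1
  cc : c * c = 1
  ab : a * b = c
  ba : b * a = c
  xa : x * a * x⁻¹ = b
  xb : x * b * x⁻¹ = c
  xc : x * c * x⁻¹ = a
  cube : ∀ q ∈ Q, q ^ 3 = 1
  rel : ∀ v ∈ ({1, a, b, c} : Set H), ∀ q ∈ Q,
    q * ((x * v) * q * (x * v)⁻¹) * ((x * v) * ((x * v) * q * (x * v)⁻¹) * (x * v)⁻¹) = 1

theorem Setting.map {H H' : Type u} [Group H] [Group H'] {Q : Subgroup H} {x a b c : H}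
    (h : Setting Q x a b c) (f : H →* H') : Setting (Q.map f) (f x) (f a) (f b) (f c) where
  aa := by rw [← map_mul, h.aa, map_one]
  bb := by rw [← map_mul, h.bb, map_one]
  cc := by rw [← map_mul, h.cc, map_one]
  ab := by rw [← map_mul, h.ab]
  ba := by rw [← map_mul, h.ba]
  xa := by rw [← map_inv, ← map_mul, ← map_mul, h.xa]
  xb := by rw [← map_inv, ← map_mul, ← map_mul, h.xb]
  xc := by rw [← map_inv, ← map_mul, ← map_mul, h.xc]
  cube := by
    rintro _ ⟨q, hq, rfl⟩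
    rw [← map_pow, h.cube q hq, map_one]
  rel := by
    rintro v hv _ ⟨q, hq, rfl⟩
    obtain ⟨w, hw, rfl⟩ : ∃ w ∈ ({1, a, b, c} : Set H), f w = v := by
      simp only [Set.mem_insert_iff, Set.mem_singleton_iff] at hv ⊢
      rcases hv with rfl | rfl | rfl | rfl
      · exact ⟨1, Or.inl rfl, map_one f⟩
      · exact ⟨a, by simp, rfl⟩
      · exact ⟨b, by simp, rfl⟩
      · exact ⟨c, by simp, rfl⟩
    have := congrArg f (h.rel w hw q hq)
    simpa only [map_mul, map_inv, map_one] using this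

theorem Setting.mono {H : Type u} [Group H] {Q R : Subgroup H} {x a b c : H}
    (h : Setting Q x a b c) (hR : R ≤ Q) : Setting R x a b c where
  aa := h.aa
  bb := h.bb
  cc := h.cc
  ab := h.ab
  ba := h.ba
  xa := h.xa
  xb := h.xb
  xc := h.xc
  cube := fun q hq => h.cube q (hR hq)
  rel := fun v hv q hq => h.rel v hv q (hR hq)

theorem comm_rearrange {M : Type*} [CommMonoid M] (a b1 b2 b3 b4 c1 c2 c3 c4 : M) :
    (a * b1 * c1) * (a * b2 * c3) * ((a * b3 * c4) * (a * b4 * c2)) =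
      a ^ 4 * (b1 * b2 * b3 * b4) * (c1 * c2 * c3 * c4) := by
  rw [pow_succ, pow_succ, pow_two]
  ac_rfl

theorem trivial_of_comm {H : Type u} [Group H] {Q : Subgroup H} [Q.Normal] {x a b c : H}
    (h : Setting Q x a b c) (hcomm : ∀ u ∈ Q, ∀ v ∈ Q, u * v = v * u) : ∀ q ∈ Q, a * q = q * a := by
  letI : CommGroup Q :=
    { (inferInstance : Group Q) with mul_comm := fun u v => Subtype.ext (hcomm u u.2 v v.2) }
  let φ : H →* MulAut Q := MulAut.conjNormal
  have hrel : ∀ v ∈ ({1, a, b, c} : Set H), ∀ q : Q,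
      q * φ (x * v) q * φ (x * v) (φ (x * v) q) = 1 := by
    intro v hv q
    apply Subtype.ext
    simp only [Subgroup.coe_mul, φ, MulAut.conjNormal_apply, Subgroup.coe_one]
    exact h.rel v hv q q.2
  set θ := φ x with hθ
  set A := φ a
  set B := φ b
  set C := φ c
  have hAA : ∀ q, A (A q) = q := fun q => by
    rw [← MulAut.mul_apply, ← map_mul, h.aa, map_one, MulAut.one_apply]
  have hAB : ∀ q, A (B q) = C q := fun q => by rw [← MulAut.mul_apply, ← map_mul, h.ab]
  have hBA : ∀ q, B (A q) = C q := fun q => by rw [← MulAut.mul_apply, ← map_mul, h.ba]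
  have hAC : ∀ q, A (C q) = B q := fun q => by rw [← hAB, hAA]
  have hθA : ∀ q, θ (A q) = B (θ q) := fun q => by
    rw [← MulAut.mul_apply, ← MulAut.mul_apply, ← map_mul, ← map_mul, ← h.xa, inv_mul_cancel_right]
  have hθB : ∀ q, θ (B q) = C (θ q) := fun q => by
    rw [← MulAut.mul_apply, ← MulAut.mul_apply, ← map_mul, ← map_mul, ← h.xb, inv_mul_cancel_right]
  have hθC : ∀ q, θ (C q) = A (θ q) := fun q => by
    rw [← MulAut.mul_apply, ← MulAut.mul_apply, ← map_mul, ← map_mul, ← h.xc, inv_mul_cancel_right]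
  have hmul : ∀ v q, φ (x * v) q = θ (φ v q) := fun v q => by rw [map_mul, MulAut.mul_apply]
  intro q₀ hq₀
  set q : Q := ⟨q₀, hq₀⟩
  have e1 := hrel 1 (by simp) q
  have ea := hrel a (by simp) q
  have eb := hrel b (by simp) q
  have ec := hrel c (by simp) q
  simp only [hmul, map_one, MulAut.one_apply] at e1 ea eb ec
  change q * θ (A q) * θ (A (θ (A q))) = 1 at ea
  change q * θ (B q) * θ (B (θ (B q))) = 1 at eb
  change q * θ (C q) * θ (C (θ (C q))) = 1 at ec
  have hBB : ∀ q, B (B q) = q := fun q => by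
    rw [← MulAut.mul_apply, ← map_mul, h.bb, map_one, MulAut.one_apply]
  have fa : θ (A (θ (A q))) = θ (θ (B q)) := by
    rw [← hθC (A q), ← hBA, hAA]
  have fb : θ (B (θ (B q))) = θ (θ (C q)) := by
    rw [← hθA (B q), hAB]
  have fc : θ (C (θ (C q))) = θ (θ (A q)) := by
    rw [← hθB (C q), ← hBA q, hBB]
  rw [fa] at ea
  rw [fb] at eb
  rw [fc] at ec
  set s := q * A q * B q * C q with hs
  have hAs : A s = s := by
    rw [hs, map_mul, map_mul, map_mul, hAA, hAB, hAC, mul_comm (A q) q]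
    rw [mul_assoc (q * A q), mul_comm (C q) (B q), ← mul_assoc]
  have hBs : B s = s := by
    have hBC : ∀ q, B (C q) = A q := fun q => by rw [← hBA, hBB]
    rw [hs, map_mul, map_mul, map_mul, hBA, hBB, hBC]
    simp only [mul_comm, mul_assoc, mul_left_comm]
  have hCs : C s = s := by rw [← hAB, hBs, hAs]
  have hq3 : q ^ 3 = 1 := Subtype.ext (h.cube q₀ hq₀)
  have hsum : q ^ 4 * θ s * θ (θ s) = 1 := by
    have h' := comm_rearrange q (θ q) (θ (A q)) (θ (B q)) (θ (C q)) (θ (θ q)) (θ (θ (A q)))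
      (θ (θ (B q))) (θ (θ (C q)))
    rw [e1, ea, eb, ec] at h'
    simp only [mul_one] at h'
    rw [h', hs]
    simp only [map_mul]
  rw [pow_succ', hq3, mul_one] at hsum
  have hq : q = (θ s * θ (θ s))⁻¹ := eq_inv_of_mul_eq_one_left (by rw [← mul_assoc]; exact hsum)
  have hAθ : A (θ s) = θ s := by rw [← hθC, hCs]
  have hAθθ : A (θ (θ s)) = θ (θ s) := by rw [← hθC, ← hθB, hBs]
  have hfix : A q = q := by rw [hq, map_inv, map_mul, hAθ, hAθθ]
  have h1 := congrArg Subtype.val hfix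
  simp only [A, φ, MulAut.conjNormal_apply] at h1
  exact mul_inv_eq_iff_eq_mul.mp h1

theorem trivial_action : ∀ (n : ℕ) (H : Type u) [Group H] [Finite H] (Q : Subgroup H) [Q.Normal]
    (x a b c : H), Nat.card Q = n → Setting Q x a b c → ∀ q ∈ Q, a * q = q * a := by
  intro n
  induction n using Nat.strong_induction_on with
  | _ n ih =>
  intro H _ _ Q _ x a b c hn h q hq
  by_cases hQ1 : Q = ⊥
  · rw [hQ1, Subgroup.mem_bot] at hq
    rw [hq, mul_one, one_mul]
  haveI : Fact (Nat.Prime 3) := ⟨Nat.prime_three⟩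
  have hQp : IsPGroup 3 Q := fun u => ⟨1, Subtype.ext (by simpa using h.cube u u.2)⟩
  haveI : Group.IsNilpotent Q := hQp.isNilpotent
  haveI : Nontrivial Q := (Subgroup.nontrivial_iff_ne_bot Q).mpr hQ1
  set Z := (Subgroup.center Q).map Q.subtype with hZ
  haveI : Z.Normal := ConjAct.normal_of_characteristic_of_normal
  have hZQ : Z ≤ Q := Subgroup.map_subtype_le _
  have hZ1 : Z ≠ ⊥ := by
    rw [hZ, ne_eq, Subgroup.map_eq_bot_iff_of_injective _ Q.subtype_injective]
    intro e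
    have := CfsgLib.Critical.inf_center_ne_bot (⊤ : Subgroup Q) top_ne_bot
    rw [top_inf_eq] at this
    exact this e
  have hZc : ∀ u ∈ Z, ∀ v ∈ Z, u * v = v * u := by
    rintro _ ⟨u, hu, rfl⟩ _ ⟨v, -, rfl⟩
    exact (congrArg Subtype.val (Subgroup.mem_center_iff.mp hu v)).symm
  set f := QuotientGroup.mk' Z
  haveI : (Q.map f).Normal := Subgroup.Normal.map inferInstance f (QuotientGroup.mk'_surjective _)
  have hcard : Nat.card (Q.map f) < n := by
    have h1 := Subgroup.relIndex_ker Q f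
    rw [QuotientGroup.ker_mk'] at h1
    have h2 := Subgroup.card_mul_index (Z.subgroupOf Q)
    rw [Nat.card_congr (Subgroup.subgroupOfEquivOfLe hZQ).toEquiv, ← Subgroup.relIndex, h1, hn] at h2
    rw [← h2]
    exact lt_mul_of_one_lt_left Nat.card_pos ((Subgroup.one_lt_card_iff_ne_bot Z).mpr hZ1)
  have hquot := ih _ hcard (H ⧸ Z) (Q.map f) (f x) (f a) (f b) (f c) rfl (h.map f) (f q) ⟨q, hq, rfl⟩
  have hz : q⁻¹ * (a * q * a⁻¹) ∈ Z := by
    rw [← QuotientGroup.eq_one_iff]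
    show f (q⁻¹ * (a * q * a⁻¹)) = 1
    rw [map_mul, map_mul, map_mul, hquot, map_inv, map_inv]
    group
  set z := q⁻¹ * (a * q * a⁻¹) with hzdef
  have haz := trivial_of_comm (h.mono hZQ) hZc z hz
  have e : a * q * a⁻¹ = q * z := by rw [hzdef, mul_inv_cancel_left]
  have hainv : a⁻¹ = a := inv_eq_of_mul_eq_one_right h.aa
  have e2 : q = q * z * z := by
    calc q = a * (a * q * a⁻¹) * a⁻¹ := by
          rw [hainv]
          calc q = (a * a) * q * (a * a) := by rw [h.aa]; simp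
            _ = _ := by group
      _ = a * (q * z) * a⁻¹ := by rw [e]
      _ = a * q * a⁻¹ * (a * z * a⁻¹) := by group
      _ = q * z * z := by rw [e, haz, mul_inv_cancel_right]
  have hz2 : z * z = 1 := by
    rw [mul_assoc] at e2
    exact left_eq_mul.mp e2
  have hz3 : z ^ 3 = 1 := h.cube z (hZQ hz)
  have hz1 : z = 1 := by rwa [pow_succ, pow_two, hz2, one_mul] at hz3
  rw [hz1, mul_one] at e
  exact mul_inv_eq_iff_eq_mul.mp e

variable {G : Type u} [Group G] [Finite G]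

theorem prime_dvd_six (h : ∀ g : G, g ^ 6 = 1) {r : ℕ} (hr : r.Prime) (hd : r ∣ Nat.card G) :
    r = 2 ∨ r = 3 := by
  haveI := Fact.mk hr
  obtain ⟨g, hg⟩ := exists_prime_orderOf_dvd_card' r hd
  have h6 : r ∣ 2 * 3 := hg ▸ orderOf_dvd_of_pow_eq_one (h g)
  rcases hr.dvd_mul.mp h6 with h' | h'
  · exact Or.inl ((Nat.prime_dvd_prime_iff_eq hr Nat.prime_two).mp h')
  · exact Or.inr ((Nat.prime_dvd_prime_iff_eq hr Nat.prime_three).mp h')

theorem card_eq (h : ∀ g : G, g ^ 6 = 1) : ∃ a b : ℕ, Nat.card G = 2 ^ a * 3 ^ b := by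
  refine ⟨(Nat.card G).factorization 2, (Nat.card G).factorization 3, ?_⟩
  have h0 : Nat.card G ≠ 0 := Nat.card_pos.ne'
  refine Nat.eq_of_factorization_eq h0 (by positivity) fun r => ?_
  rw [Nat.factorization_mul (by positivity) (by positivity), Nat.Prime.factorization_pow Nat.prime_two,
    Nat.Prime.factorization_pow Nat.prime_three, Finsupp.add_apply]
  by_cases h2 : r = 2
  · subst h2; simp
  by_cases h3 : r = 3
  · subst h3; simp
  rw [Finsupp.single_eq_of_ne h2, Finsupp.single_eq_of_ne h3, add_zero]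
  by_cases hr : r.Prime
  · exact Nat.factorization_eq_zero_of_not_dvd fun hd => by
      rcases prime_dvd_six h hr hd with e | e
      · exact h2 e
      · exact h3 e
  · exact Nat.factorization_eq_zero_of_not_prime _ hr

theorem isSolvable (h : ∀ g : G, g ^ 6 = 1) : Group.IsSolvable G := by
  obtain ⟨a, b, hab⟩ := card_eq h
  exact Cfsg.Agent.S0144.result 2 3 a b Nat.prime_two Nat.prime_three hab

theorem coprime_imp_pgroup (h : ∀ g : G, g ^ 6 = 1) {p q : ℕ} (hpq : (p = 2 ∧ q = 3) ∨ (p = 3 ∧ q = 2))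
    (N : Subgroup G) (hN : (Nat.card N).Coprime p) : IsPGroup q N := by
  intro u
  refine ⟨1, ?_⟩
  have h6 : u ^ 6 = 1 := Subtype.ext (by simpa using h u)
  have hd := orderOf_dvd_of_pow_eq_one h6
  have hc : (orderOf u).Coprime p := hN.coprime_dvd_left (orderOf_dvd_natCard u)
  rw [pow_one]
  apply orderOf_dvd_iff_pow_eq_one.mp
  rcases hpq with ⟨rfl, rfl⟩ | ⟨rfl, rfl⟩
  · exact hc.dvd_of_dvd_mul_left (show orderOf u ∣ 2 * 3 from hd)
  · exact hc.dvd_of_dvd_mul_right (show orderOf u ∣ 2 * 3 from hd)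

theorem not_dvd_index_two (h : ∀ g : G, g ^ 6 = 1) (hO : Cfsg.pPrimeCore 2 G = ⊥) :
    ¬ 2 ∣ (Cfsg.pCore 2 G).index := by
  haveI : Fact (Nat.Prime 2) := ⟨Nat.prime_two⟩
  have hC := CfsgLib.PSolvable.centralizer_pCore_le
    (CfsgLib.PSolvable.isPSolvable_of_isSolvable (p := 2) (isSolvable h)) hO
  obtain ⟨P⟩ : Nonempty (Sylow 2 G) := inferInstance
  haveI := CfsgLib.Fitting.pCore_normal (G := G) 2
  have hQP : Cfsg.pCore 2 G ≤ (P : Subgroup G) :=
    (CfsgLib.Fitting.pCore_isPGroup (G := G) 2).le_sylow_of_normal P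
  have hsq : ∀ u ∈ (P : Subgroup G), u * u = 1 := by
    intro u hu
    obtain ⟨k, hk⟩ := IsPGroup.iff_orderOf.mp P.2 ⟨u, hu⟩
    rw [Subgroup.orderOf_mk] at hk
    have h2 : orderOf u ∣ 2 * 3 := orderOf_dvd_of_pow_eq_one (h u)
    have h3 : orderOf u ∣ 2 := (hk ▸ Nat.Coprime.pow_left k (by norm_num : Nat.Coprime 2 3) :
      (orderOf u).Coprime 3).dvd_of_dvd_mul_right h2
    rw [← pow_two]
    exact orderOf_dvd_iff_pow_eq_one.mp h3
  have hPC : (P : Subgroup G) ≤ Subgroup.centralizer (Cfsg.pCore 2 G : Set G) := by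
    intro u hu
    rw [Subgroup.mem_centralizer_iff]
    intro v hv
    have hv' := hQP hv
    have e : ∀ w ∈ (P : Subgroup G), w⁻¹ = w := fun w hw => inv_eq_of_mul_eq_one_right (hsq w hw)
    calc v * u = (v * u)⁻¹ := (e _ (mul_mem hv' hu)).symm
      _ = u⁻¹ * v⁻¹ := mul_inv_rev v u
      _ = u * v := by rw [e u hu, e v hv']
  have hPQ := hPC.trans hC
  intro hd
  exact P.not_dvd_index (hd.trans (Subgroup.index_dvd_of_le hPQ))

theorem not_dvd_index_three (h : ∀ g : G, g ^ 6 = 1) (hO : Cfsg.pPrimeCore 3 G = ⊥) :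
    ¬ 3 ∣ (Cfsg.pCore 3 G).index := by
  haveI : Fact (Nat.Prime 2) := ⟨Nat.prime_two⟩
  haveI : Fact (Nat.Prime 3) := ⟨Nat.prime_three⟩
  intro hd
  set Q := Cfsg.pCore 3 G with hQdef
  haveI : Q.Normal := CfsgLib.Fitting.pCore_normal 3
  have hQp : IsPGroup 3 Q := CfsgLib.Fitting.pCore_isPGroup 3
  have hCQ : Subgroup.centralizer (Q : Set G) ≤ Q :=
    CfsgLib.PSolvable.centralizer_pCore_le
      (CfsgLib.PSolvable.isPSolvable_of_isSolvable (p := 3) (isSolvable h)) hO
  have hh : ∀ y : G ⧸ Q, y ^ 6 = 1 := by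
    intro y
    obtain ⟨g, rfl⟩ := QuotientGroup.mk'_surjective Q y
    rw [← map_pow, h g, map_one]
  have hO2 : Cfsg.pPrimeCore 2 (G ⧸ Q) = ⊥ := by
    refine le_bot_iff.mp (le_trans ?_ (CfsgLib.ZJ.pCore_quotient_pCore_le_bot (p := 3)))
    exact CfsgLib.Fitting.le_pCore (CfsgLib.Transfer.pPrimeCore_normal 2 _)
      (coprime_imp_pgroup hh (Or.inl ⟨rfl, rfl⟩) _
        ((Nat.prime_two.coprime_iff_not_dvd).mpr CfsgLib.Transfer.not_dvd_card_pPrimeCore).symm)
  have hCR := CfsgLib.PSolvable.centralizer_pCore_le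
    (CfsgLib.PSolvable.isPSolvable_of_isSolvable (p := 2) (isSolvable hh)) hO2
  set R := Cfsg.pCore 2 (G ⧸ Q) with hRdef
  haveI : R.Normal := CfsgLib.Fitting.pCore_normal 2
  have hRp : IsPGroup 2 R := CfsgLib.Fitting.pCore_isPGroup 2
  set f := QuotientGroup.mk' Q with hfdef
  set K := R.comap f with hKdef
  haveI : K.Normal := Subgroup.Normal.comap inferInstance f
  obtain ⟨T⟩ : Nonempty (Sylow 2 ↥K) := inferInstance
  set T' := (T : Subgroup ↥K).map K.subtype with hT'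
  have hFr : Subgroup.normalizer (T' : Set G) ⊔ K = ⊤ := Sylow.normalizer_sup_eq_top T
  have hT2 : IsPGroup 2 T' := T.2.map _
  have hdisj : ∀ w ∈ T', w ∈ Q → w = 1 := by
    intro w hw hwQ
    obtain ⟨i, hi⟩ := IsPGroup.iff_orderOf.mp hT2 ⟨w, hw⟩
    obtain ⟨j, hj⟩ := IsPGroup.iff_orderOf.mp hQp ⟨w, hwQ⟩
    rw [Subgroup.orderOf_mk] at hi hj
    refine orderOf_eq_one_iff.mp (Nat.eq_one_of_dvd_coprimes
      (Nat.Coprime.pow i j (by norm_num : Nat.Coprime 2 3)) (dvd_of_eq hi) (dvd_of_eq hj))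
  have hTR : T'.map f = R := by
    refine Subgroup.eq_of_le_of_card_ge ?_ ?_
    · rintro _ ⟨w, hw, rfl⟩
      exact (Subgroup.map_subtype_le _ hw : w ∈ K)
    · have h1 : Nat.card (T'.map f) = Nat.card T' := by
        refine (Nat.card_congr (Equiv.ofBijective
          (fun w : T' => (⟨f w.1, w.1, w.2, rfl⟩ : T'.map f)) ⟨?_, ?_⟩)).symm
        · intro u v huv
          have h2 : (u : G)⁻¹ * v ∈ Q := QuotientGroup.eq.mp (congrArg Subtype.val huv)
          exact Subtype.ext (inv_mul_eq_one.mp (hdisj _ (mul_mem (inv_mem u.2) v.2) h2))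
        · rintro ⟨_, w, hw, rfl⟩
          exact ⟨⟨w, hw⟩, rfl⟩
      rw [h1, hT', Subgroup.card_map_of_injective K.subtype_injective, T.card_eq_multiplicity]
      obtain ⟨i, hi⟩ := IsPGroup.iff_card.mp hRp
      rw [hKdef, CfsgLib.PSolvable.card_comap_of_surjective (QuotientGroup.mk'_surjective Q), hi]
      refine Nat.le_of_dvd (by positivity) ?_
      refine (Nat.Prime.pow_dvd_iff_le_factorization Nat.prime_two ?_).mp ?_ |> pow_dvd_pow 2
      · exact Nat.mul_ne_zero Nat.card_pos.ne' (by positivity)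
      · exact dvd_mul_left _ _
  -- an element of order three mod `K` normalizing `T'`
  have hidx : 3 ∣ K.index := by
    have h1 : K.index = R.index := Subgroup.index_comap_of_surjective _ (QuotientGroup.mk'_surjective Q)
    rw [h1]
    have h2 : 3 ∣ Nat.card (G ⧸ Q) := hd
    rw [← Subgroup.card_mul_index R] at h2
    obtain ⟨i, hi⟩ := IsPGroup.iff_card.mp hRp
    rw [hi] at h2
    rcases Nat.prime_three.dvd_mul.mp h2 with h3 | h3
    · exact absurd ((Nat.prime_dvd_prime_iff_eq Nat.prime_three Nat.prime_two).mp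
        (Nat.prime_three.dvd_of_dvd_pow h3)) (by norm_num)
    · exact h3
  obtain ⟨y, hy⟩ := exists_prime_orderOf_dvd_card' (G := G ⧸ K) 3 hidx
  obtain ⟨g, rfl⟩ := QuotientGroup.mk'_surjective K y
  obtain ⟨n, hn, k, hk, rfl⟩ := Subgroup.mem_sup_of_normal_right.mp (hFr ▸ Subgroup.mem_top g)
  have hyn : QuotientGroup.mk' K (n * k) = QuotientGroup.mk' K n := by
    rw [map_mul, show QuotientGroup.mk' K k = 1 from (QuotientGroup.eq_one_iff k).mpr hk, mul_one]
  rw [hyn] at hy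
  set x := n ^ 2 with hx
  have hxN : x ∈ Subgroup.normalizer (T' : Set G) := Subgroup.pow_mem _ hn 2
  have hx3 : x ^ 3 = 1 := by rw [hx, ← pow_mul]; exact h n
  have hxK : x ∉ K := by
    intro hxK
    have h1 : (QuotientGroup.mk' K n) ^ 2 = 1 := by
      rw [← map_pow]; exact (QuotientGroup.eq_one_iff _).mpr hxK
    have := hy ▸ orderOf_dvd_of_pow_eq_one h1
    norm_num at this
  have hxne : ∃ t ∈ T', x * t ≠ t * x := by
    by_contra hall
    push Not at hall
    refine hxK (show f x ∈ R from hCR (Subgroup.mem_centralizer_iff.mpr ?_))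
    intro r hr
    obtain ⟨t, ht, rfl⟩ := (hTR.symm ▸ hr : r ∈ T'.map f)
    rw [← map_mul, ← map_mul, hall t ht]
  obtain ⟨t, ht, hne⟩ := hxne
  have hTsq : ∀ w ∈ T', w * w = 1 := by
    intro w hw
    obtain ⟨i, hi⟩ := IsPGroup.iff_orderOf.mp hT2 ⟨w, hw⟩
    rw [Subgroup.orderOf_mk] at hi
    have h2 : orderOf w ∣ 2 * 3 := orderOf_dvd_of_pow_eq_one (h w)
    have h3 : orderOf w ∣ 2 := (hi ▸ Nat.Coprime.pow_left i (by norm_num : Nat.Coprime 2 3) :
      (orderOf w).Coprime 3).dvd_of_dvd_mul_right h2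
    rw [← pow_two]
    exact orderOf_dvd_iff_pow_eq_one.mp h3
  have hTc : ∀ u ∈ T', ∀ v ∈ T', u * v = v * u := by
    intro u hu v hv
    have e : ∀ w ∈ T', w⁻¹ = w := fun w hw => inv_eq_of_mul_eq_one_right (hTsq w hw)
    calc u * v = (u * v)⁻¹ := (e _ (mul_mem hu hv)).symm
      _ = v⁻¹ * u⁻¹ := mul_inv_rev u v
      _ = v * u := by rw [e u hu, e v hv]
  have hconj : ∀ w ∈ T', x * w * x⁻¹ ∈ T' := fun w hw => (Subgroup.mem_normalizer_iff.mp hxN w).mp hw
  set t₁ := x * t * x⁻¹ with ht1def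
  set t₂ := x * t₁ * x⁻¹ with ht2def
  have ht3 : x * t₂ * x⁻¹ = t := by
    rw [ht2def, ht1def]
    calc x * (x * (x * t * x⁻¹) * x⁻¹) * x⁻¹ = x ^ 3 * t * (x ^ 3)⁻¹ := by rw [pow_succ, pow_two]; group
      _ = t := by rw [hx3]; simp

  have ht1 : t₁ ∈ T' := hconj t ht
  have ht2 : t₂ ∈ T' := hconj t₁ ht1
  set a := t * t₁ with hadef
  set b := t₁ * t₂ with hbdef
  set c := t₂ * t with hcdef
  have hsetT : ∀ v ∈ ({1, a, b, c} : Set G), v ∈ T' := by
    intro v hv
    simp only [Set.mem_insert_iff, Set.mem_singleton_iff] at hv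
    rcases hv with rfl | rfl | rfl | rfl
    · exact one_mem _
    · exact mul_mem ht ht1
    · exact mul_mem ht1 ht2
    · exact mul_mem ht2 ht
  have hab : a * b = c := by
    rw [hadef, hbdef, hcdef, hTc t₂ ht2 t ht, mul_assoc, ← mul_assoc t₁ t₁, hTsq t₁ ht1, one_mul]
  have hmemT : a ∈ T' ∧ b ∈ T' ∧ c ∈ T' := ⟨mul_mem ht ht1, mul_mem ht1 ht2, mul_mem ht2 ht⟩
  have hba : b * a = c := by rw [hTc b hmemT.2.1 a hmemT.1, hab]
  have hxa : x * a * x⁻¹ = b := by rw [hadef, hbdef, ht2def, ht1def]; group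
  have hxb : x * b * x⁻¹ = c := by rw [hbdef, hcdef, ← ht3, ht2def]; group
  have hxc : x * c * x⁻¹ = a := by
    rw [hcdef, hadef, ← ht3, ht1def]
    conv_rhs => rw [show t = x * t₂ * x⁻¹ from ht3.symm]
    group
  have hsetting : Setting Q x a b c := by
    refine ⟨hTsq a hmemT.1, hTsq b hmemT.2.1, hTsq c hmemT.2.2, hab, hba, hxa, hxb, hxc, ?_, ?_⟩
    · intro q hq
      obtain ⟨i, hi⟩ := IsPGroup.iff_orderOf.mp hQp ⟨q, hq⟩
      rw [Subgroup.orderOf_mk] at hi
      have h2 : orderOf q ∣ 2 * 3 := orderOf_dvd_of_pow_eq_one (h q)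
      exact orderOf_dvd_iff_pow_eq_one.mp
        ((hi ▸ Nat.Coprime.pow_left i (by norm_num : Nat.Coprime 3 2) :
          (orderOf q).Coprime 2).dvd_of_dvd_mul_left h2)
    · intro v hv q hq
      have hvT := hsetT v hv
      set y := x * v with hydef
      have hy3 : y ^ 3 = 1 := by
        rw [hydef, pow_succ, pow_two]
        have hprod : (x * v * x⁻¹) * (x * (x * v * x⁻¹) * x⁻¹) * v = 1 := by
          simp only [Set.mem_insert_iff, Set.mem_singleton_iff] at hv
          rcases hv with rfl | rfl | rfl | rfl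
          · group
          · rw [hxa, hxb, hTc b hmemT.2.1 c hmemT.2.2, mul_assoc, hba, hTsq c hmemT.2.2]
          · rw [hxb, hxc, hTc c hmemT.2.2 a hmemT.1, mul_assoc]
            rw [← hba, hTc b hmemT.2.1 a hmemT.1, mul_assoc a b b, hTsq b hmemT.2.1, mul_one,
              hTsq a hmemT.1]
          · rw [hxc, hxa, hab, hTsq c hmemT.2.2]
        calc x * v * (x * v) * (x * v)
            = (x * v * x⁻¹) * (x * (x * v * x⁻¹) * x⁻¹) * (x ^ 3 * v) := by rw [pow_succ, pow_two]; group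
          _ = (x * v * x⁻¹) * (x * (x * v * x⁻¹) * x⁻¹) * v := by rw [hx3, one_mul]
          _ = 1 := hprod
      have hz : (q * y) ^ 3 = q * (y * q * y⁻¹) * (y * (y * q * y⁻¹) * y⁻¹) := by
        calc (q * y) ^ 3 = q * y * (q * y) * (q * y) := by rw [pow_succ, pow_two]
          _ = q * (y * q * y⁻¹) * (y * (y * q * y⁻¹) * y⁻¹) * y ^ 3 := by rw [pow_succ, pow_two]; group
          _ = _ := by rw [hy3, mul_one]
      rw [← hz]
      have hzQ : (q * y) ^ 3 ∈ Q := by
        rw [hz]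
        have h1 : y * q * y⁻¹ ∈ Q := Subgroup.Normal.conj_mem inferInstance q hq y
        exact mul_mem (mul_mem hq h1) (Subgroup.Normal.conj_mem inferInstance _ h1 y)
      obtain ⟨i, hi⟩ := IsPGroup.iff_orderOf.mp hQp ⟨_, hzQ⟩
      rw [Subgroup.orderOf_mk] at hi
      have h2 : orderOf ((q * y) ^ 3) ∣ 2 := orderOf_dvd_of_pow_eq_one (by rw [← pow_mul]; exact h _)
      exact orderOf_eq_one_iff.mp (Nat.eq_one_of_dvd_coprimes
        (Nat.Coprime.pow_left i (by norm_num : Nat.Coprime 3 2)) (dvd_of_eq hi) h2)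
  have haC : a ∈ Subgroup.centralizer (Q : Set G) := Subgroup.mem_centralizer_iff.mpr
    fun q hq => (trivial_action _ G Q x a b c rfl hsetting q hq).symm
  have ha1 := hdisj a hmemT.1 (hCQ haC)
  apply hne
  have h1 : t₁ = t := by
    have := congrArg (t * ·) ha1
    rw [hadef] at this
    simpa [← mul_assoc, hTsq t ht] using this
  rw [ht1def] at h1
  exact mul_inv_eq_iff_eq_mul.mp h1

theorem upperPSeries_one (p : ℕ) :
    (Cfsg.upperPSeries p G 1).1 = Cfsg.pPrimeCore p G := by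
  haveI := (Cfsg.upperPSeries p G 0).2
  show (Cfsg.pPrimeCore p (G ⧸ (⊥ : Subgroup G))).comap (QuotientGroup.mk' ⊥) = _
  rw [← CfsgLib.PSolvable.map_equiv_pPrimeCore (QuotientGroup.quotientBot (G := G))]
  ext g
  simp only [Subgroup.mem_comap, Subgroup.mem_map]
  exact ⟨fun hg => ⟨_, hg, rfl⟩, fun ⟨q, hq, hqg⟩ => by
    have : q = (g : G ⧸ (⊥ : Subgroup G)) := QuotientGroup.quotientBot.injective hqg
    rw [QuotientGroup.mk'_apply, ← this]; exact hq⟩

theorem pLengthLE_one (p : ℕ) [Fact p.Prime] [(Cfsg.pPrimeCore p G).Normal]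
    (hidx : ¬ p ∣ (Cfsg.pCore p (G ⧸ Cfsg.pPrimeCore p G)).index) : Cfsg.PLengthLE p 1 G := by
  have key : ¬ p ∣ (Cfsg.pCore p (G ⧸ (Cfsg.upperPSeries p G 1).1)).index := by
    have : ∀ (U : Subgroup G) [U.Normal], U = Cfsg.pPrimeCore p G →
        ¬ p ∣ (Cfsg.pCore p (G ⧸ U)).index := by
      intro U _ hU
      subst hU
      exact hidx
    exact this _ (upperPSeries_one p)
  have step : ∀ (W : Subgroup G) [W.Normal], W.index =
      (Cfsg.pCore p (G ⧸ (Cfsg.upperPSeries p G 1).1)).index →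
      (Cfsg.pPrimeCore p (G ⧸ W)).comap (QuotientGroup.mk' W) = ⊤ := by
    intro W _ hW
    have htop : (⊤ : Subgroup (G ⧸ W)) ≤ Cfsg.pPrimeCore p (G ⧸ W) := by
      refine CfsgLib.Transfer.le_pPrimeCore inferInstance ?_
      rw [Subgroup.card_top]
      show W.index.Coprime p
      rw [hW]
      exact ((Fact.out : p.Prime).coprime_iff_not_dvd.mpr key).symm
    rw [top_le_iff.mp htop, Subgroup.comap_top]
  exact step (Cfsg.upperPSeries p G 2).1
    (Subgroup.index_comap_of_surjective _ (QuotientGroup.mk'_surjective _))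

theorem main (h : ∀ g : G, g ^ 6 = 1) : Cfsg.PLengthLE 2 1 G ∧ Cfsg.PLengthLE 3 1 G := by
  haveI : Fact (Nat.Prime 2) := ⟨Nat.prime_two⟩
  haveI : Fact (Nat.Prime 3) := ⟨Nat.prime_three⟩
  haveI := CfsgLib.Transfer.pPrimeCore_normal 2 G
  haveI := CfsgLib.Transfer.pPrimeCore_normal 3 G
  have hq : ∀ (N : Subgroup G) [N.Normal] (y : G ⧸ N), y ^ 6 = 1 := by
    intro N _ y
    obtain ⟨g, rfl⟩ := QuotientGroup.mk'_surjective N y
    rw [← map_pow, h g, map_one]
  exact ⟨pLengthLE_one 2 (not_dvd_index_two (hq _) (CfsgLib.PSolvable.pPrimeCore_eq_bot_of_ker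
      (QuotientGroup.mk'_surjective _) (QuotientGroup.ker_mk' _))),
    pLengthLE_one 3 (not_dvd_index_three (hq _) (CfsgLib.PSolvable.pPrimeCore_eq_bot_of_ker
      (QuotientGroup.mk'_surjective _) (QuotientGroup.ker_mk' _)))⟩

end Cfsg.Agent.S4227
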