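import Cfsg.Statements.S4230
import Mathlib
import Cfsg.Agent.Lib.NumberTheory.Zsigmondy

set_option autoImplicit false
set_option linter.unusedVariables false
open Cfsg

namespace Cfsg.Agent.S4230

/-- Let p be an odd prime, q a natural number not divisible by p, and e the multiplicative order of q modulo p. For a natural number f, p divides the value at q of the f-th cyclotomic polynomial if and only if f = e·p^j for some j ≥ 0. -/
theorem result (p q f : ℕ) (hp : p.Prime) (hp2 : p ≠ 2) (hpq : ¬ p ∣ q) :
    ((p : ℤ) ∣ (Polynomial.cyclotomic f ℤ).eval (q : ℤ)) ↔ ∃ j : ℕ, f = orderOf (q : ZMod p) * p ^ j := by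
  haveI := Fact.mk hp
  rw [Int.natCast_dvd]
  change p ∣ CfsgLib.NumberTheory.cycVal f q ↔ _
  have h0 : (q : ZMod p) ≠ 0 := fun h => hpq ((ZMod.natCast_eq_zero_iff q p).mp h)
  rcases Nat.eq_zero_or_pos f with rfl | hf
  · constructor
    · intro h
      simp [CfsgLib.NumberTheory.cycVal] at h
      exact absurd h hp.one_lt.ne'
    · rintro ⟨j, hj⟩
      have hpos : 0 < orderOf (q : ZMod p) := orderOf_pos_iff.mpr
        (isOfFinOrder_iff_pow_eq_one.mpr ⟨p - 1, Nat.sub_pos_of_lt hp.one_lt, ZMod.pow_card_sub_one_eq_one h0⟩)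
      have := Nat.mul_pos hpos (pow_pos hp.pos j)
      omega
  rw [CfsgLib.NumberTheory.dvd_cycVal_iff_order hf, and_iff_right h0]
  exact exists_congr fun j => by rw [Nat.mul_comm]

end Cfsg.Agent.S4230
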