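import Cfsg.Statements.S4234
import Cfsg.Agent.Lib.SL2.Tri
import Cfsg.Agent.Lib.SL2.Overgroups
-- import your own Cfsg.Agent.* helpers here

set_option autoImplicit false
open Cfsg

namespace Cfsg.Agent.S4234

open Matrix CfsgLib.SL2
open scoped MatrixGroups

abbrev P13 := ProjectiveSpecialLinearGroup (Fin 2) (ZMod 13)

instance : Fact (Nat.Prime 13) := ⟨by norm_num⟩

theorem card_P13 : Nat.card P13 = 1092 := by
  have h := card_PSL (F := ZMod 13)
  rw [Nat.card_zmod, show Nat.gcd 2 (13 - 1) = 2 from rfl] at h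
  show Nat.card (ProjectiveSpecialLinearGroup (Fin 2) (ZMod 13)) = 1092
  omega

theorem simple_P13 : IsSimpleGroup P13 := by
  refine CfsgLib.Classical.isSimpleGroup_PSL (Or.inr ?_)
  exact ⟨2, by decide, by decide⟩

theorem dd13 : dd (ZMod 13) = 2 := dd_of_odd (by rw [Nat.card_zmod]; decide)

theorem card_torus13 {c : P13} (hc : Census.Semi 13 c) :
    Nat.card (torus c) = 6 ∨ Nat.card (torus c) = 7 := by
  rcases card_torus_cases 13 hc with h | h <;> rw [h, Nat.card_zmod, dd13] <;> norm_num

theorem card_borel13 : Nat.card (borelPSL (ZMod 13)) = 78 := by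
  have h := card_borelPSL (F := ZMod 13)
  rw [dd13, Nat.card_zmod] at h
  omega

theorem subfield_top {M : Subgroup P13} (h : SubfieldShape (ZMod 13) M) : M = ⊤ := by
  obtain ⟨K, _, _, m, hm, hK⟩ := h
  rw [Nat.card_zmod] at hm
  have hKc : Nat.card K = 13 := by
    rw [Nat.card_eq_fintype_card]
    have hm0 : m ≠ 0 := fun h => by rw [h, pow_zero] at hm; omega
    rcases (Nat.prime_def.mp (by norm_num : Nat.Prime 13)).2 _ (hm ▸ dvd_pow_self _ hm0) with h | h
    · exact absurd Fintype.one_lt_card (by rw [h]; omega)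
    · exact h
  have hcK : Nat.card (ProjectiveSpecialLinearGroup (Fin 2) K) = 1092 := by
    have h := card_PSL (F := K)
    rw [hKc, show Nat.gcd 2 (13 - 1) = 2 from rfl] at h
    omega
  refine M.eq_top_of_le_card ?_
  rw [card_P13, ← hcK]
  rcases hK with ⟨⟨e⟩⟩ | ⟨⟨e⟩⟩
  · rw [Nat.card_congr e.toEquiv]
  · haveI : Finite (ProjGenLinGroup (Fin 2) K) := Finite.of_equiv _ e.toEquiv
    rw [Nat.card_congr e.toEquiv]
    exact Nat.card_le_card_of_injective _ ProjectiveSpecialLinearGroup.toPGL_injective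

theorem card_of_dickson (M : Subgroup P13) (hM : M ≠ ⊤) :
    Nat.card M ∣ 12 ∨ Nat.card M ∣ 14 ∨ Nat.card M ∣ 78 := by
  have hd : Nat.card M ∣ 1092 := card_P13 ▸ M.card_subgroup_dvd_card
  rcases dickson 13 M with ⟨c, -, hc, hcase⟩ | ⟨g, hg⟩ | ⟨⟨e⟩⟩ | ⟨⟨e⟩⟩ | ⟨⟨e⟩⟩ | hs
  · have hHo : Nat.card M ∣ 2 * orderOf c := by
      rcases hcase with ⟨-, h⟩ | ⟨⟨e⟩⟩
      · exact h ▸ dvd_mul_left _ _
      · rw [Nat.card_congr e.toEquiv, DihedralGroup.nat_card]
    have hor := orderOf_dvd_torus_orders 13 c hc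
    rw [Nat.card_zmod] at hor
    norm_num at hor
    rcases hor with h | h
    · exact Or.inr (Or.inl (hHo.trans (Nat.mul_dvd_mul_left 2 h)))
    · exact Or.inl (hHo.trans (Nat.mul_dvd_mul_left 2 h))
  · refine Or.inr (Or.inr ?_)
    rw [← card_borel13, ← Subgroup.card_map_of_injective (f := (MulAut.conj g).toMonoidHom)
      (MulAut.conj g).injective]
    refine Subgroup.card_dvd_of_le ?_
    rintro _ ⟨h, hh, rfl⟩
    exact hg h hh
  · exact Or.inl (by rw [Nat.card_congr e.toEquiv, nat_card_alternatingGroup, Nat.card_fin]; decide)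
  · rw [Nat.card_congr e.toEquiv, Nat.card_perm, Nat.card_fin] at hd
    norm_num [Nat.factorial] at hd
  · rw [Nat.card_congr e.toEquiv, nat_card_alternatingGroup, Nat.card_fin] at hd
    norm_num [Nat.factorial] at hd
  · exact absurd (subfield_top hs) hM

theorem coatom_of_card {L : Subgroup P13} (hL : Nat.card L = 12 ∨ Nat.card L = 14 ∨ Nat.card L = 78) :
    IsCoatom L := by
  refine ⟨fun h => ?_, fun M hM => ?_⟩
  · rw [h, Subgroup.card_top, card_P13] at hL
    omega
  by_contra hne
  have h1 : Nat.card L ∣ Nat.card M := Subgroup.card_dvd_of_le hM.le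
  have h2 := card_of_dickson M hne
  have hlt : Nat.card L < Nat.card M := by
    by_contra h
    exact hM.ne (Subgroup.eq_of_le_of_card_ge hM.le (not_lt.mp h))
  have h78 : Nat.card M ≤ 78 := by
    rcases h2 with h | h | h <;> have := Nat.le_of_dvd (by norm_num) h <;> omega
  revert hL h1 h2 hlt h78
  generalize Nat.card L = l
  generalize Nat.card M = m
  intro hL h1 h2 hlt h78
  rcases hL with rfl | rfl | rfl <;> interval_cases m <;> norm_num at *

/-- A normalized nontrivial proper subgroup has the normalizing maximal subgroup as normalizer. -/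
theorem coatom_normalizer {H L : Subgroup P13} (hL : IsCoatom L) (hH : H ≠ ⊥) (hH' : H ≠ ⊤)
    (hle : L ≤ Subgroup.normalizer (H : Set P13)) : Subgroup.normalizer (H : Set P13) = L := by
  haveI := simple_P13
  rcases hL.le_iff.mp hle with h | h
  · haveI := Subgroup.normalizer_eq_top_iff.mp h
    rcases IsSimpleGroup.eq_bot_or_eq_top_of_normal H inferInstance with h' | h'
    · exact absurd h' hH
    · exact absurd h' hH'
  · exact h

theorem torus_coatom {c : P13} (hc : Census.Semi 13 c) :
    IsCoatom (Subgroup.normalizer (torus c : Set P13)) := by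
  apply coatom_of_card
  rw [card_normalizer_torus 13 hc]
  rcases card_torus13 hc with h | h <;> omega

theorem normalizer_torus_le {G : Type*} [Group G] [Finite G] {T C : Subgroup G} [IsCyclic T]
    (hCT : C ≤ T) : Subgroup.normalizer (T : Set G) ≤ Subgroup.normalizer (C : Set G) := by
  intro g hg
  classical
  have := Fintype.ofFinite T
  have hkey : ∀ x ∈ T, x ^ Nat.card C = 1 → x ∈ C := by
    intro x hx hxp
    have h1 := IsCyclic.card_pow_eq_one_le (α := T) (Nat.card_pos (α := C))
    let f : C → {j : T // j ^ Nat.card C = 1} := fun h => ⟨⟨h.1, hCT h.2⟩, Subtype.ext (by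
      have h3 : ((h ^ Nat.card C : C) : G) = 1 := by rw [pow_card_eq_one']; rfl
      exact h3)⟩
    have hf : Function.Injective f := fun a b h =>
      Subtype.ext (congrArg (fun j : {j : T // j ^ Nat.card C = 1} => ((j.1 : T) : G)) h)
    have h2 : Nat.card {j : T // j ^ Nat.card C = 1} ≤ Nat.card C := by
      rw [Nat.card_eq_fintype_card, Fintype.card_subtype]
      exact h1
    obtain ⟨h, he⟩ := ((Nat.bijective_iff_injective_and_card f).mpr
      ⟨hf, le_antisymm (Nat.card_le_card_of_injective f hf) h2⟩).2 ⟨⟨x, hx⟩, Subtype.ext hxp⟩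
    have : (h : G) = x := congrArg (fun j : {j : T // j ^ Nat.card C = 1} => ((j.1 : T) : G)) he
    exact this ▸ h.2
  rw [Subgroup.mem_normalizer_iff]
  have hpow : ∀ x ∈ C, x ^ Nat.card C = 1 := fun x hx => by
    have h3 : (((⟨x, hx⟩ : C) ^ Nat.card C : C) : G) = 1 := by rw [pow_card_eq_one']; rfl
    exact h3
  intro x
  refine ⟨fun hx => hkey _ ((Subgroup.mem_normalizer_iff.mp hg x).mp (hCT hx))
    (by rw [conj_pow, hpow x hx, mul_one, mul_inv_cancel]), fun hx => ?_⟩
  refine hkey _ ((Subgroup.mem_normalizer_iff.mp hg x).mpr (hCT hx)) ?_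
  have := hpow _ hx
  rw [conj_pow] at this
  calc x ^ Nat.card C = g⁻¹ * (g * x ^ Nat.card C * g⁻¹) * g := by group
    _ = 1 := by rw [this]; group

theorem zpowers_case {c : P13} (hc : Census.Semi 13 c) :
    Subgroup.normalizer (torus c : Set P13) ≤ Subgroup.normalizer (Subgroup.zpowers c : Set P13) := by
  haveI := isCyclic_torus 13 hc
  exact normalizer_torus_le (Subgroup.zpowers_le.mpr (mem_torus c))

theorem cyclic_case {H : Subgroup P13} [IsCyclic H] (hH : H ≠ ⊥) (hH' : H ≠ ⊤)
    (h13 : ¬ 13 ∣ Nat.card H) : IsCoatom (Subgroup.normalizer (H : Set P13)) := by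
  obtain ⟨⟨h, hh⟩, hgen⟩ := IsCyclic.exists_generator (α := H)
  have hz : H = Subgroup.zpowers h := le_antisymm (fun x hx => by
    obtain ⟨i, hi⟩ := Subgroup.mem_zpowers_iff.mp (hgen ⟨x, hx⟩)
    exact ⟨i, congrArg Subtype.val hi⟩) (Subgroup.zpowers_le.mpr hh)
  subst hz
  have hc : Census.Semi 13 h := ⟨fun e => hH (by rw [e, Subgroup.zpowers_one_eq_bot]),
    fun hd => h13 (by rwa [Nat.card_zpowers])⟩
  rw [coatom_normalizer (torus_coatom hc) hH hH' (zpowers_case hc)]
  exact torus_coatom hc

theorem four_normal : ∀ x y : alternatingGroup (Fin 4), x * x = 1 → y * y = 1 →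
    x * y * (x * y) = 1 ∧ ∀ z : alternatingGroup (Fin 4), z * x * z⁻¹ * (z * x * z⁻¹) = 1 := by
  decide +kernel

theorem four_card : Fintype.card {x : alternatingGroup (Fin 4) // x * x = 1} = 4 := by decide +kernel

theorem upper_of_commutator {g h : SL(2, ZMod 13)} (hg : g ∈ borelSL (F := ZMod 13))
    (hh : h ∈ borelSL (F := ZMod 13)) : proj (g * h * g⁻¹ * h⁻¹) ∈ upperPSL (ZMod 13) := by
  rw [mem_upperPSL]
  set M := g * h * g⁻¹ * h⁻¹ with hM
  refine ⟨Multiplicative.ofAdd ((M : Matrix (Fin 2) (Fin 2) (ZMod 13)) 0 1), congrArg proj ?_⟩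
  rw [mem_borelSL] at hg hh
  apply Subtype.ext
  rw [upperHom_coe]
  have dg := g.2
  have dh := h.2
  rw [Matrix.det_fin_two, hg, mul_zero, sub_zero] at dg
  rw [Matrix.det_fin_two, hh, mul_zero, sub_zero] at dh
  ext i j
  fin_cases i <;> fin_cases j <;>
    simp [hM, Matrix.SpecialLinearGroup.coe_mul, Matrix.SpecialLinearGroup.coe_inv,
      Matrix.adjugate_fin_two, Matrix.mul_apply, Fin.sum_univ_two, hg, hh]
  · linear_combination -((g : Matrix (Fin 2) (Fin 2) (ZMod 13)) 0 0 *
      (g : Matrix (Fin 2) (Fin 2) (ZMod 13)) 1 1) * dh - dg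
  · linear_combination -((g : Matrix (Fin 2) (Fin 2) (ZMod 13)) 0 0 *
      (g : Matrix (Fin 2) (Fin 2) (ZMod 13)) 1 1) * dh - dg

theorem borel_case {H : Subgroup P13} (hle : H ≤ borelPSL (ZMod 13)) (hH : H ≠ ⊥) (hH' : H ≠ ⊤) :
    IsCoatom (Subgroup.normalizer (H : Set P13)) := by
  by_cases h13 : 13 ∣ Nat.card H
  swap
  · haveI := isCyclic_of_le_borelPSL 13 hle h13
    exact cyclic_case hH hH' h13
  have hB : IsCoatom (borelPSL (ZMod 13)) := coatom_of_card (Or.inr (Or.inr card_borel13))
  refine (coatom_normalizer hB hH hH' ?_).symm ▸ hB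
  -- `H` contains the root group
  obtain ⟨y, hy⟩ := exists_prime_orderOf_dvd_card' (G := H) 13 h13
  have hy' : orderOf (y : P13) = 13 := by rw [Subgroup.orderOf_coe, hy]
  have hyU : (y : P13) ∈ upperPSL (ZMod 13) :=
    mem_upperPSL_of_pow 13 (hle y.2) ((congrArg ((y : P13) ^ ·) hy'.symm).trans (pow_orderOf_eq_one _))
  obtain ⟨P, hP⟩ := exists_sylow_eq_upperPSL (F := ZMod 13) 13
  have hU : Nat.card (upperPSL (ZMod 13)) = 13 := by
    rw [← hP, P.card_eq_multiplicity, card_P13]
    rw [show (1092 : ℕ) = 13 * 84 by norm_num, Nat.factorization_mul (by norm_num) (by norm_num),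
      Finsupp.add_apply, Nat.Prime.factorization_self (by norm_num),
      Nat.factorization_eq_zero_of_not_dvd (by norm_num : ¬ 13 ∣ 84)]
    norm_num
  have hUH : upperPSL (ZMod 13) ≤ H := by
    rw [← Subgroup.eq_of_le_of_card_ge (Subgroup.zpowers_le.mpr hyU) (by rw [Nat.card_zpowers, hy', hU])]
    exact Subgroup.zpowers_le.mpr y.2
  have hcomm : ∀ b ∈ borelPSL (ZMod 13), ∀ x ∈ borelPSL (ZMod 13),
      b * x * b⁻¹ * x⁻¹ ∈ upperPSL (ZMod 13) := by
    intro b hb x hx
    obtain ⟨g, hg, rfl⟩ := hb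
    obtain ⟨h, hh, rfl⟩ := hx
    simpa [map_mul, map_inv] using upper_of_commutator hg hh
  intro b hb
  rw [Subgroup.mem_normalizer_iff]
  have key : ∀ b ∈ borelPSL (ZMod 13), ∀ x ∈ H, b * x * b⁻¹ ∈ H := fun b hb x hx => by
    have h := H.mul_mem (hUH (hcomm b hb x (hle hx))) hx
    rwa [inv_mul_cancel_right] at h
  intro x
  refine ⟨key b hb x, fun h => ?_⟩
  have h2 := key b⁻¹ (inv_mem hb) _ h
  rwa [show b⁻¹ * (b * x * b⁻¹) * b⁻¹⁻¹ = x by group] at h2

theorem conj_coatom {H : Subgroup P13} (g : P13)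
    (h : IsCoatom (Subgroup.normalizer ((H.map (MulAut.conj g).toMonoidHom : Subgroup P13) : Set P13))) :
    IsCoatom (Subgroup.normalizer (H : Set P13)) := by
  rw [← Subgroup.map_equiv_normalizer_eq] at h
  exact (OrderIso.isCoatom_iff (MulEquiv.mapSubgroup (MulAut.conj g)) _).mp h

theorem psl_max (H : Subgroup P13) (hH : H ≠ ⊥) (hH' : H ≠ ⊤) :
    IsCoatom (Subgroup.normalizer (H : Set P13)) := by
  have hd : Nat.card H ∣ 1092 := card_P13 ▸ H.card_subgroup_dvd_card
  rcases dickson 13 H with ⟨c, hcH, hc, hcase⟩ | ⟨g, hg⟩ | ⟨⟨e⟩⟩ | ⟨⟨e⟩⟩ | ⟨⟨e⟩⟩ | hs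
  · rcases hcase with ⟨hcyc, hcard⟩ | ⟨⟨e⟩⟩
    · exact cyclic_case hH hH' (hcard ▸ hc)
    have hcard : Nat.card H = 2 * orderOf c := by rw [Nat.card_congr e.toEquiv, DihedralGroup.nat_card]
    have hor := orderOf_dvd_torus_orders 13 c hc
    rw [Nat.card_zmod] at hor
    norm_num at hor
    rcases Nat.lt_or_ge (orderOf c) 3 with hlt | hge
    · have hpos := orderOf_pos c
      rcases Nat.lt_or_ge (orderOf c) 2 with h1 | h2
      · haveI : Fact (Nat.Prime 2) := ⟨Nat.prime_two⟩
        haveI : IsCyclic H := isCyclic_of_prime_card (p := 2) (by omega)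
        exact cyclic_case hH hH' (by rw [hcard]; norm_num [show orderOf c = 1 by omega])
      · -- order four: a Sylow `2`-subgroup, normal in some `A₄`
        haveI : Fact (Nat.Prime 2) := ⟨Nat.prime_two⟩
        have h4 : Nat.card H = 4 := by omega
        obtain ⟨K, ⟨k⟩⟩ := exists_alternating_four (F := ZMod 13) (by rw [Nat.card_zmod]; decide)
        let V : Subgroup K :=
          { carrier := {x | x * x = 1}
            mul_mem' := fun {a b} ha hb => k.injective (by
              simpa using (four_normal (k a) (k b) (by simpa using congrArg k ha)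
                (by simpa using congrArg k hb)).1)
            one_mem' := mul_one 1
            inv_mem' := fun {a} ha => by
              simp only [Set.mem_setOf_eq] at ha ⊢
              rw [← _root_.mul_inv_rev, ha, inv_one] }
        haveI hVn : V.Normal := ⟨fun x hx z => k.injective (by
          simpa using (four_normal (k x) 1 (by simpa using congrArg k hx) (mul_one 1)).2 (k z))⟩
        have hV : Nat.card V = 4 := by
          rw [← four_card, ← Nat.card_eq_fintype_card]
          exact Nat.card_congr (k.toEquiv.subtypeEquiv fun x => by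
            show x * x = 1 ↔ k x * k x = 1
            rw [← map_mul, ← map_eq_one_iff k k.injective])
        set W := V.map K.subtype with hW
        have hW4 : Nat.card W = 4 := by rw [hW, Subgroup.card_map_of_injective K.subtype_injective, hV]
        have h2syl : ∀ X : Subgroup P13, Nat.card X = 4 → ∃ S : Sylow 2 P13, (S : Subgroup P13) = X := by
          intro X hX
          have : Nat.card X = 2 ^ (Nat.card P13).factorization 2 := by
            rw [hX, card_P13, show (1092 : ℕ) = 2 ^ 2 * 273 by norm_num,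
              Nat.factorization_mul (by norm_num) (by norm_num), Finsupp.add_apply,
              Nat.Prime.factorization_pow Nat.prime_two,
              Nat.factorization_eq_zero_of_not_dvd (by norm_num : ¬ 2 ∣ 273)]
            simp
          exact ⟨Sylow.ofCard X this, Sylow.coe_ofCard X this⟩
        obtain ⟨S, hS⟩ := h2syl H h4
        obtain ⟨T, hT⟩ := h2syl W hW4
        obtain ⟨g, hgST⟩ := MulAction.exists_smul_eq P13 S T
        have hmap : H.map (MulAut.conj g).toMonoidHom = W := by
          rw [← hS, ← hT, ← hgST]; rfl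
        apply conj_coatom g
        rw [hmap]
        have hK : IsCoatom K := coatom_of_card (Or.inl (by
          rw [Nat.card_congr k.toEquiv, nat_card_alternatingGroup, Nat.card_fin]; decide))
        have hW1 : W ≠ ⊥ := fun h => by rw [h, Subgroup.card_bot] at hW4; omega
        have hW2 : W ≠ ⊤ := fun h => by rw [h, Subgroup.card_top, card_P13] at hW4; omega
        refine (coatom_normalizer hK hW1 hW2 ?_).symm ▸ hK
        intro z hz
        rw [Subgroup.mem_normalizer_iff]
        intro x
        constructor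
        · rintro ⟨v, hv, rfl⟩
          exact ⟨⟨z, hz⟩ * v * ⟨z, hz⟩⁻¹, hVn.conj_mem v hv _, by simp⟩
        · rintro ⟨v, hv, hvx⟩
          refine ⟨⟨z, hz⟩⁻¹ * v * ⟨z, hz⟩, by simpa using hVn.conj_mem v hv (⟨z, hz⟩ : K)⁻¹, ?_⟩
          simp only [map_mul, map_inv]
          rw [hvx]
          show z⁻¹ * (z * x * z⁻¹) * z = x
          group
    have hsemi : Census.Semi 13 c := ⟨fun h => by rw [h, orderOf_one] at hge; omega, hc⟩
    have hT := torus_coatom hsemi
    have hCne : Subgroup.zpowers c ≠ ⊥ := fun h => hsemi.1 (Subgroup.zpowers_eq_bot.mp h)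
    have hCnt : Subgroup.zpowers c ≠ ⊤ := fun h => hH' (top_le_iff.mp (h ▸ Subgroup.zpowers_le.mpr hcH))
    have hNC := coatom_normalizer hT hCne hCnt (zpowers_case hsemi)
    have hHT : H ≤ Subgroup.normalizer (torus c : Set P13) := by
      rw [← hNC]
      have hidx : ((Subgroup.zpowers c).subgroupOf H).index = 2 := by
        have h := ((Subgroup.zpowers c).subgroupOf H).card_mul_index
        rw [Nat.card_congr (Subgroup.subgroupOfEquivOfLe (Subgroup.zpowers_le.mpr hcH)).toEquiv,
          Nat.card_zpowers, hcard, mul_comm 2] at h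
        exact Nat.eq_of_mul_eq_mul_left (orderOf_pos c) h
      haveI := Subgroup.normal_of_index_eq_two hidx
      exact (Subgroup.normal_subgroupOf_iff_le_normalizer (Subgroup.zpowers_le.mpr hcH)).mp inferInstance
    refine (coatom_normalizer hT hH hH' ?_).symm ▸ hT
    have hN : Nat.card (Subgroup.normalizer (torus c : Set P13)) = 2 * Nat.card (torus c) :=
      card_normalizer_torus 13 hsemi
    have hdvd : orderOf c ∣ Nat.card (torus c) := by
      rw [← Nat.card_zpowers]
      exact Subgroup.card_dvd_of_le (Subgroup.zpowers_le.mpr (mem_torus c))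
    set N := Subgroup.normalizer (torus c : Set P13)
    have hidx : (H.subgroupOf N).index = 1 ∨ (H.subgroupOf N).index = 2 := by
      have h := (H.subgroupOf N).card_mul_index
      rw [Nat.card_congr (Subgroup.subgroupOfEquivOfLe hHT).toEquiv, hcard, hN, mul_assoc] at h
      have h' : orderOf c * (H.subgroupOf N).index = Nat.card (torus c) :=
        Nat.eq_of_mul_eq_mul_left two_pos h
      rcases card_torus13 hsemi with ht | ht <;> rw [ht] at h' hdvd <;>
        have := Nat.le_of_dvd (by norm_num) hdvd <;> interval_cases (orderOf c) <;> omega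
    rcases hidx with h | h
    · rw [Subgroup.index_eq_one, Subgroup.subgroupOf_eq_top] at h
      exact h.trans Subgroup.le_normalizer
    · haveI := Subgroup.normal_of_index_eq_two h
      exact (Subgroup.normal_subgroupOf_iff_le_normalizer hHT).mp inferInstance
  · refine conj_coatom g (borel_case ?_ ?_ ?_)
    · rintro _ ⟨h, hh, rfl⟩
      exact hg h hh
    · exact fun h => hH ((Subgroup.map_eq_bot_iff_of_injective H (MulAut.conj g).injective).mp h)
    · intro h
      apply hH'
      refine H.eq_top_of_card_eq ?_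
      rw [← Subgroup.card_map_of_injective (f := (MulAut.conj g).toMonoidHom) (MulAut.conj g).injective,
        h, Subgroup.card_top]
  · have hL : IsCoatom H := coatom_of_card (Or.inl (by
      rw [Nat.card_congr e.toEquiv, nat_card_alternatingGroup, Nat.card_fin]; decide))
    exact (coatom_normalizer hL hH hH' Subgroup.le_normalizer).symm ▸ hL
  · rw [Nat.card_congr e.toEquiv, Nat.card_perm, Nat.card_fin] at hd
    norm_num [Nat.factorial] at hd
  · rw [Nat.card_congr e.toEquiv, nat_card_alternatingGroup, Nat.card_fin] at hd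
    norm_num [Nat.factorial] at hd
  · exact absurd (subfield_top hs) hH'

/-- The property transferred along surjections with a small kernel. -/
theorem sl_max (H : Subgroup SL(2, ZMod 13)) (hH : ¬ H.Normal) :
    IsCoatom (Subgroup.normalizer (H : Set SL(2, ZMod 13))) := by
  have h2 : (2 : ZMod 13) ≠ 0 := by decide
  set Z := (proj : SL(2, ZMod 13) →* P13).ker with hZdef
  have hZmem : ∀ x ∈ Z, x = 1 ∨ x = -1 := fun x hx =>
    eq_one_or_eq_neg_one_of_mem_center x ((proj_eq_one_iff x).mp (MonoidHom.mem_ker.mp hx))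
  have hker : ∀ J : Subgroup SL(2, ZMod 13), (-1 : SL(2, ZMod 13)) ∈ J → Z ≤ J := fun J h x hx => by
    rcases hZmem x hx with rfl | rfl
    · exact one_mem _
    · exact h
  set Hb := H.map (proj : SL(2, ZMod 13) →* P13) with hHb
  have hne : Hb ≠ ⊥ := by
    intro h
    rw [hHb, Subgroup.map_eq_bot_iff] at h
    apply hH
    refine ⟨fun x hx g => ?_⟩
    have hc : g * x = x * g := Subgroup.mem_center_iff.mp
      ((proj_eq_one_iff x).mp (MonoidHom.mem_ker.mp (h hx))) g
    rwa [hc, mul_inv_cancel_right]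
  -- either `H` contains the involution or it has odd order
  by_cases hneg : (-1 : SL(2, ZMod 13)) ∈ H
  · have hHc : H = Hb.comap proj := by
      rw [hHb, Subgroup.comap_map_eq_self (hker H hneg)]
    have hnt : Hb ≠ ⊤ := fun h => hH (by rw [hHc, h, Subgroup.comap_top]; infer_instance)
    rw [hHc, ← Subgroup.comap_normalizer_eq_of_surjective _ proj_surjective]
    exact Subgroup.isCoatom_comap_of_surjective proj_surjective (psl_max Hb hne hnt)
  · have hodd : ¬ 2 ∣ Nat.card H := fun hd => by
      haveI : Fact (Nat.Prime 2) := ⟨Nat.prime_two⟩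
      obtain ⟨x, hx⟩ := exists_prime_orderOf_dvd_card' (G := H) 2 hd
      have hx' : orderOf (x : SL(2, ZMod 13)) = 2 := by rw [Subgroup.orderOf_coe, hx]
      have he := eq_neg_one_of_mul_self h2 (g := (x : SL(2, ZMod 13)))
        ((pow_two _).symm.trans ((congrArg ((x : SL(2, ZMod 13)) ^ ·) hx'.symm).trans (pow_orderOf_eq_one _)))
        (fun h => by rw [h, orderOf_one] at hx'; omega)
      exact hneg (he ▸ x.2)
    have hnt : Hb ≠ ⊤ := by
      intro h
      have h1 : Nat.card Hb ∣ Nat.card H := Subgroup.card_map_dvd H _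
      rw [h, Subgroup.card_top, card_P13] at h1
      exact hodd ((by norm_num : 2 ∣ 1092).trans h1)
    have hnorm : Subgroup.normalizer (H : Set SL(2, ZMod 13)) =
        (Subgroup.normalizer (Hb : Set P13)).comap proj := by
      refine le_antisymm (fun g hg => ?_) (fun g hg => ?_)
      · exact Subgroup.le_normalizer_map _ ⟨g, hg, rfl⟩
      · rw [Subgroup.mem_comap, Subgroup.mem_normalizer_iff] at hg
        have key : ∀ x, (x ∈ Hb.comap (proj : SL(2, ZMod 13) →* P13) ∧ x ^ Nat.card H = 1) ↔ x ∈ H := by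
          intro x
          constructor
          · rintro ⟨⟨y, hy, hyx⟩, hx⟩
            rcases eq_or_eq_neg_of_proj_eq hyx with rfl | rfl
            · exact hy
            · exfalso
              have h3 : (((⟨y, hy⟩ : H) ^ Nat.card H : H) : SL(2, ZMod 13)) = 1 := by
                rw [pow_card_eq_one']; rfl
              change y ^ Nat.card H = 1 at h3
              rw [Odd.neg_pow (Nat.odd_iff.mpr (Nat.two_dvd_ne_zero.mp hodd)), h3] at hx
              exact neg_one_ne_one h2 hx
          · intro hx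
            refine ⟨⟨x, hx, rfl⟩, ?_⟩
            have h3 : (((⟨x, hx⟩ : H) ^ Nat.card H : H) : SL(2, ZMod 13)) = 1 := by
              rw [pow_card_eq_one']; rfl
            exact h3
        rw [Subgroup.mem_normalizer_iff]
        intro x
        rw [← key x, ← key (g * x * g⁻¹), Subgroup.mem_comap, Subgroup.mem_comap, conj_pow,
          map_mul, map_mul, map_inv, ← hg (proj x), conj_eq_one_iff]
    rw [hnorm]
    exact Subgroup.isCoatom_comap_of_surjective proj_surjective (psl_max Hb hne hnt)

theorem transfer {K M : Type*} [Group K] [Group M] (e : K ≃* M)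
    (h : ∀ H : Subgroup M, ¬ H.Normal → IsCoatom (Subgroup.normalizer (H : Set M)))
    (H : Subgroup K) (hH : ¬ H.Normal) : IsCoatom (Subgroup.normalizer (H : Set K)) := by
  have hn : ¬ (H.map e.toMonoidHom).Normal := fun hn => hH (by
    have := hn.comap e.toMonoidHom
    rwa [Subgroup.comap_map_eq_self_of_injective e.injective] at this)
  have h' := h _ hn
  rw [← Subgroup.map_equiv_normalizer_eq] at h'
  exact (OrderIso.isCoatom_iff (MulEquiv.mapSubgroup e) _).mp h'

theorem prod_max {K S : Type*} [Group K] [CommGroup S] [Finite K] [Finite S]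
    (hKS : (Nat.card K).Coprime (Nat.card S))
    (h : ∀ H : Subgroup K, ¬ H.Normal → IsCoatom (Subgroup.normalizer (H : Set K)))
    (H : Subgroup (K × S)) (hH : ¬ H.Normal) : IsCoatom (Subgroup.normalizer (H : Set (K × S))) := by
  set H1 := H.map (MonoidHom.fst K S) with hH1
  have hsplit : ∀ k s, (k, s) ∈ H → (k, (1 : S)) ∈ H := by
    intro k s hks
    obtain ⟨m, hm1, hm2⟩ := Nat.chineseRemainder hKS 1 0
    have hp := H.pow_mem hks m
    rw [Prod.pow_mk, pow_eq_pow_mod m (pow_card_eq_one' (x := k)),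
      pow_eq_pow_mod m (pow_card_eq_one' (x := s)), hm1, hm2, Nat.zero_mod, pow_zero,
      ← pow_eq_pow_mod 1 (pow_card_eq_one' (x := k)), pow_one] at hp
    exact hp
  have hmem : ∀ k s, (k, s) ∈ H ↔ k ∈ H1 ∧ ((1 : K), s) ∈ H := by
    intro k s
    constructor
    · intro hks
      refine ⟨⟨_, hks, rfl⟩, ?_⟩
      simpa using H.mul_mem (H.inv_mem (hsplit k s hks)) hks
    · rintro ⟨⟨⟨k', s'⟩, hks, rfl⟩, hs⟩
      simpa using H.mul_mem (hsplit k' s' hks) hs
  have hnorm : Subgroup.normalizer (H : Set (K × S)) =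
      (Subgroup.normalizer (H1 : Set K)).comap (MonoidHom.fst K S) := by
    ext ⟨g, t⟩
    rw [Subgroup.mem_normalizer_iff, Subgroup.mem_comap, Subgroup.mem_normalizer_iff]
    show (∀ x, x ∈ H ↔ _) ↔ ∀ y, y ∈ H1 ↔ g * y * g⁻¹ ∈ H1
    constructor
    · intro hh y
      have h3 := hh (y, 1)
      rw [show ((g, t) : K × S) * (y, 1) * (g, t)⁻¹ = (g * y * g⁻¹, 1) by simp, hmem y 1,
        hmem (g * y * g⁻¹) 1] at h3
      have h1 : ((1 : K), (1 : S)) ∈ H := H.one_mem
      exact ⟨fun hy => (h3.mp ⟨hy, h1⟩).1, fun hy => (h3.mpr ⟨hy, h1⟩).1⟩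
    · rintro hh ⟨y, u⟩
      rw [show ((g, t) : K × S) * (y, u) * (g, t)⁻¹ = (g * y * g⁻¹, u) by simp [mul_comm t u],
        hmem y u, hmem (g * y * g⁻¹) u, hh y]
  rw [hnorm]
  refine Subgroup.isCoatom_comap_of_surjective Prod.fst_surjective (h H1 fun hn => hH ?_)
  refine ⟨fun ⟨y, u⟩ hy ⟨g, t⟩ => ?_⟩
  rw [hmem] at hy
  rw [show ((g, t) : K × S) * (y, u) * (g, t)⁻¹ = (g * y * g⁻¹, u) by simp [mul_comm t u], hmem]
  exact ⟨hn.conj_mem y hy.1 g, hy.2⟩

/-- Let K be isomorphic to PSL(2, 13) or to SL(2, 13) and let S be a finite abelian group of order coprime to the order of K. Then in the direct product K × S every subgroup that is not normal has a normalizer that is a maximal subgroup. -/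
theorem result {K S : Type*} [Group K] [CommGroup S] [Finite K] [Finite S]
    (hK : Nonempty (K ≃* Matrix.ProjectiveSpecialLinearGroup (Fin 2) (ZMod 13)) ∨
      Nonempty (K ≃* Matrix.SpecialLinearGroup (Fin 2) (ZMod 13)))
    (hKS : (Nat.card K).Coprime (Nat.card S)) (H : Subgroup (K × S)) (hH : ¬ H.Normal) :
    IsCoatom (Subgroup.normalizer (H : Set (K × S))) := by
  refine prod_max hKS ?_ H hH
  rcases hK with ⟨⟨e⟩⟩ | ⟨⟨e⟩⟩
  · refine transfer e fun J hJ => psl_max J (fun h => hJ ?_) (fun h => hJ ?_)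
    · subst h; infer_instance
    · subst h; infer_instance
  · exact transfer e sl_max

end Cfsg.Agent.S4234
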