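import Cfsg.Prelude.Def_Sz
import Cfsg.Agent.Lib.FrobSys.Even
import Cfsg.Agent.Lib.SuzUniq.Main
import Cfsg.Agent.Lib.Zassenhaus.FeitOdd
import Cfsg.Agent.Lib.Invol.AICField
-- import your own Cfsg.Agent.* helpers here

set_option autoImplicit false
open scoped Pointwise
open Cfsg

namespace Cfsg.Agent.S4235

/-- Let G be a finite group. Call a subgroup maximal solvable if it is solvable and not properly contained in a solvable subgroup. Suppose F assigns to each maximal solvable subgroup M a normal subgroup F(M) of M such that: every element of M outside F(M) centralizes no non-identity element of F(M); F(M) meets each conjugate g F(M) g⁻¹ with g outside M trivially; and F(M) is nontrivial unless M is abelian. Then G is solvable, or G is isomorphic to SL(2, K) for a finite field K of characteristic 2 with at least 4 elements, or G is isomorphic to a Suzuki group. -/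
theorem result {G : Type*} [Group G] [Finite G] (F : Subgroup G → Subgroup G)
    (h : ∀ M : Subgroup G, (Group.IsSolvable M ∧ ∀ M' : Subgroup G, M < M' → ¬ Group.IsSolvable M') →
      F M ≤ M ∧ M ≤ Subgroup.normalizer (F M : Set G) ∧
      (∀ a ∈ M, a ∉ F M → ∀ x ∈ F M, x * a = a * x → x = 1) ∧
      (∀ g : G, g ∉ M → F M ⊓ (MulAut.conj g • F M) = ⊥) ∧
      (F M ≠ ⊥ ∨ IsMulCommutative M)) :
    Group.IsSolvable G ∨
      (∃ (K : Type) (_ : Field K) (_ : Fintype K), (∃ n : ℕ, 2 ≤ n ∧ Fintype.card K = 2 ^ n) ∧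
        Nonempty (G ≃* Matrix.SpecialLinearGroup (Fin 2) K)) ∨
      Cfsg.Lie.IsoSuzuki G := by
    classical
  by_cases hns : Group.IsSolvable G
  · exact Or.inl hns
  right
  have hsys : Cfsg.Agent.FrobSys.Sys F :=
    ⟨fun M hM => (h M hM).1, fun M hM => (h M hM).2.1, fun M hM => (h M hM).2.2.1,
      fun M hM => (h M hM).2.2.2.1, fun M hM => (h M hM).2.2.2.2⟩
  obtain ⟨hsimp, M, t, hM, hS, he, hnil, T, hT⟩ := Cfsg.Agent.FrobSys.exists_simple_setup hsys hns
  haveI := hsimp
  by_cases hab : ∀ a ∈ F M, ∀ b ∈ F M, Commute a b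
  · left
    obtain ⟨K, iK, iK', f, hf, hK, -, -, ⟨e⟩⟩ := hS.classify_of_two_le hab he T hT
    haveI := CfsgLib.Invol.AIC.charP_two_of_card hK
    exact ⟨K, iK, iK', ⟨f, hf, hK⟩, ⟨e.trans (CfsgLib.Invol.AIC.slEquiv (F := K)).symm⟩⟩
  right
  haveI : Fintype G := Fintype.ofFinite G
  have hZ := hS.isZassenhaus he
  have hz := CfsgLib.Zassenhaus.ZG.mk' hZ.1 hZ.2.1 hZ.2.2.1 hZ.2.2.2.1
  obtain ⟨u, hu2, -, huN⟩ := hS.exists_outside
  set a : G ⧸ CfsgLib.Invol.CASimple.nA (F M) := CfsgLib.Invol.CASimple.base (F M)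
  set b : G ⧸ CfsgLib.Invol.CASimple.nA (F M) := QuotientGroup.mk u
  have hba : b ≠ a := fun e => huN (CfsgLib.Invol.CASimple.mk_eq_base_iff.1 e)
  obtain ⟨v, hv, hvN, -, hiff⟩ := hS.exists_rep b hba
  have hne : CfsgLib.Zassenhaus.D2 G a b ≠ ⊥ := by
    intro e
    have hc := hS.hsub_card hv hvN
    have hle : CfsgLib.Invol.CASimple.hsub (F M) v ≤ CfsgLib.Zassenhaus.D2 G a b :=
      fun x hx => CfsgLib.Zassenhaus.mem_D2.2 ((hiff x).1 hx)
    rw [e, le_bot_iff] at hle
    rw [hle, Subgroup.card_bot] at hc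
    omega
  have hodd : Odd (Nat.card (CfsgLib.Zassenhaus.D2 G a b)) := by
    rw [← Nat.not_even_iff_odd, even_iff_two_dvd]
    intro hd
    haveI : Fact (Nat.Prime 2) := ⟨Nat.prime_two⟩
    obtain ⟨⟨x, hx⟩, hx2⟩ := exists_prime_orderOf_dvd_card' 2 hd
    rw [← Subgroup.orderOf_coe] at hx2
    change orderOf x = 2 at hx2
    obtain ⟨hxx, hx1⟩ := CfsgLib.Invol.CASimple.involution_iff.1 hx2
    obtain ⟨hxa, hxb⟩ := CfsgLib.Zassenhaus.mem_D2.1 hx
    have hxA : x ∈ F M := hS.invol_mem (CfsgLib.Invol.CASimple.smul_base_iff.1 hxa) hxx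
    exact hx1 (congrArg Subtype.val ((hS.regular he b b hba hba).unique
      (y₁ := ⟨x, hxA⟩) (y₂ := 1) hxb (one_smul G _)))
  have hU : CfsgLib.Zassenhaus.RegKernel a (F M) :=
    { le := fun y hy => CfsgLib.Invol.CASimple.smul_base_iff.2 (Subgroup.le_normalizer hy)
      normal := fun g hg y hy =>
        (Subgroup.mem_normalizer_iff.1 (CfsgLib.Invol.CASimple.smul_base_iff.1 hg) y).1 hy
      reg := fun c d hc hd => hS.regular he c d hc hd
      nil := hnil }
  have hna : ∃ x y : F M, x * y ≠ y * x := by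
    by_contra hall
    push Not at hall
    exact hab fun x hx y hy => congrArg Subtype.val (hall ⟨x, hx⟩ ⟨y, hy⟩)
  exact CfsgLib.SuzUniq.isoSuzuki_of_case hz hba.symm hne hU
    (CfsgLib.Zassenhaus.feit_nonabelian_simple hz hba.symm hne hodd hU
      (fun hall => hab fun x hx y hy => congrArg Subtype.val (hall ⟨x, hx⟩ ⟨y, hy⟩))).1 hna


end Cfsg.Agent.S4235
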