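import Cfsg.Statements.S4236
import Cfsg.Agent.Lib.SylowNumber.TwoMulAddOneOrder

set_option autoImplicit false
open Cfsg

namespace Cfsg.Agent.S4236

/-- No finite group has exactly 35 Sylow 17-subgroups. -/
theorem result {G : Type*} [Group G] [Finite G] : Nat.card (Sylow 17 G) ≠ 35 := by
  haveI : Fact (Nat.Prime 17) := ⟨by norm_num⟩
  refine CfsgLib.SylowNumber.card_sylow_ne_two_mul_add_one (p := 17) (by norm_num) (fun H _ _ hH => ?_) G
  obtain ⟨k, hodd, hk, hcard⟩ := hH.exists_card_eq
  have hk1 : k = 1 := by
    obtain ⟨j, rfl⟩ := hodd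
    have := Nat.le_of_dvd (by norm_num) hk
    have : j ≤ 7 := by omega
    interval_cases j <;> omega
  subst hk1
  refine hH.false_of_prime (r := 7) (m := 85) (by norm_num) hcard (by norm_num) (by norm_num) ?_ ?_
  · intro d hd hd'
    have := Nat.le_of_dvd (by norm_num) hd
    interval_cases d <;> omega
  · intro d hd hd'
    have := Nat.le_of_dvd (by norm_num) hd
    interval_cases d <;> norm_num at *

end Cfsg.Agent.S4236
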