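import Cfsg.Statements.S4237
import Cfsg.Agent.Lib.Frobenius.HallCount

set_option autoImplicit false
open Cfsg

namespace Cfsg.Agent.S4237

/-- Let G be a finite group, p a prime and a a natural number such that p^(a+1) divides the order of G. Then the number of subgroups of G of order p^a is congruent to 1 or to 1 + p modulo p². -/
theorem result {G : Type*} [Group G] [Finite G] (p a : ℕ) (hp : p.Prime) (hdvd : p ^ (a + 1) ∣ Nat.card G) :
    Nat.card {H : Subgroup G // Nat.card H = p ^ a} ≡ 1 [MOD p ^ 2] ∨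
      Nat.card {H : Subgroup G // Nat.card H = p ^ a} ≡ 1 + p [MOD p ^ 2] := by
  classical
  haveI := Fact.mk hp
  by_cases hp2 : p = 2
  · subst hp2
    have h := CfsgLib.Frobenius.card_subgroups_modEq_one hp (G := G) a
      (dvd_trans (pow_dvd_pow 2 (Nat.le_succ a)) hdvd)
    unfold Nat.ModEq at h ⊢
    omega
  obtain ⟨P⟩ := (inferInstance : Nonempty (Sylow p G))
  obtain ⟨N, hN⟩ := IsPGroup.iff_card.mp P.2
  have haN : a + 1 ≤ N := by
    refine (Nat.pow_dvd_pow_iff_le_right hp.one_lt).mp ?_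
    rw [← hN, P.card_eq_multiplicity]
    exact pow_dvd_pow p ((hp.pow_dvd_iff_le_factorization Nat.card_pos.ne').mp hdvd)
  have h := CfsgLib.Kulakoff.hall_count hdvd P
  rw [← ZMod.natCast_eq_natCast_iff, ← ZMod.natCast_eq_natCast_iff, h]
  push_cast
  by_cases hcase : a = 0 ∨ IsCyclic P
  · left
    rw [show Nat.card {H : Subgroup P // Nat.card H = p ^ a} = 1 from ?_, Nat.cast_one]
    rw [Nat.card_eq_one_iff_unique]
    refine ⟨⟨fun H K => Subtype.ext ?_⟩, ?_⟩
    · rcases hcase with rfl | hc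
      · rw [Subgroup.card_eq_one.mp (H.2.trans (pow_zero p)),
          Subgroup.card_eq_one.mp (K.2.trans (pow_zero p))]
      · haveI := hc
        exact CfsgLib.Kulakoff.eq_of_card_cyclic H.1 K.1 (H.2.trans K.2.symm)
    · obtain ⟨H, hH⟩ := Sylow.exists_subgroup_card_pow_prime p (G := P) (n := a)
        (by rw [hN]; exact pow_dvd_pow p (by omega))
      exact ⟨⟨H, hH⟩⟩
  · right
    push Not at hcase
    exact CfsgLib.Kulakoff.pgroup_count hp2 N P hN hcase.2 a
      (Nat.pos_of_ne_zero hcase.1) (by omega)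

end Cfsg.Agent.S4237
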