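import Cfsg.Statements.S4238
import Cfsg.Agent.Lib.Transfer.Frobenius
import Cfsg.Agent.Lib.Coprime.Action
import Cfsg.Agent.Lib.Coprime.Generation

set_option autoImplicit false
open Cfsg

namespace Cfsg.Agent.S4238

open scoped commutatorElement
open CfsgLib

theorem exists_orderOf_eq_exponent {K : Type*} [Group K] [Finite K] {p : ℕ} [Fact p.Prime]
    (hK : IsPGroup p K) : ∃ k : K, orderOf k = Monoid.exponent K := by
  obtain ⟨k, hk⟩ := Finite.exists_max fun k : K => orderOf k
  refine ⟨k, Nat.dvd_antisymm (Monoid.order_dvd_exponent k) (Monoid.exponent_dvd.2 fun x => ?_)⟩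
  obtain ⟨a, ha⟩ := IsPGroup.iff_orderOf.1 hK k
  obtain ⟨b, hb⟩ := IsPGroup.iff_orderOf.1 hK x
  rw [ha, hb]
  refine Nat.pow_dvd_pow p ((Nat.pow_le_pow_iff_right (Fact.out : p.Prime).one_lt).1 ?_)
  rw [← ha, ← hb]
  exact hk x

/-- A section with no element of order equal to its exponent. -/
theorem exists_section {G : Type*} [Group G] [Finite G] {p : ℕ} [hp : Fact p.Prime]
    (h : ¬ Transfer.PAutomizers p G) :
    ∃ (H : Subgroup G) (N : Subgroup H) (_ : N.Normal), Cfsg.pPrimeCore p (H ⧸ N) = ⊥ ∧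
      ∀ k : H ⧸ N, orderOf k ≠ Monoid.exponent (H ⧸ N) := by
  classical
  unfold Transfer.PAutomizers at h
  push Not at h
  obtain ⟨Q0, hQ0, g0, hg0⟩ := h
  -- minimal operator
  have hex : ∃ n, ∃ g ∈ Subgroup.normalizer (Q0 : Set G), (orderOf g).Coprime p ∧
      g ∉ Subgroup.centralizer (Q0 : Set G) ∧ orderOf g = n := ⟨_, g0, hg0.1, hg0.2.1, hg0.2.2, rfl⟩
  obtain ⟨g, hgN, hgp, hgC, hgn⟩ := Nat.find_spec hex
  have hming : ∀ d : ℕ, orderOf (g ^ d) < orderOf g → g ^ d ∈ Subgroup.centralizer (Q0 : Set G) := by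
    intro d hd
    by_contra hc
    exact Nat.find_min hex (hgn ▸ hd) ⟨g ^ d, pow_mem hgN d,
      hgp.coprime_dvd_left (orderOf_pow_dvd d), hc, rfl⟩
  have hg1 : g ≠ 1 := fun h => hgC (h ▸ one_mem _)
  obtain ⟨q, hq, hqd⟩ := Nat.exists_prime_and_dvd (fun h => hg1 (orderOf_eq_one_iff.1 h))
  haveI : Fact q.Prime := ⟨hq⟩
  have hlow : ∀ r : ℕ, r.Prime → r ∣ orderOf g → orderOf (g ^ r) < orderOf g := by
    intro r hr hrd
    rw [orderOf_pow_of_dvd hr.ne_zero hrd]
    exact Nat.div_lt_self (orderOf_pos g) hr.one_lt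
  have hqpow : ∀ r : ℕ, r.Prime → r ∣ orderOf g → r = q := by
    intro r hr hrd
    by_contra hne
    have hz : (1 : ℤ) = (q : ℤ) * Nat.gcdA q r + (r : ℤ) * Nat.gcdB q r := by
      rw [← Nat.gcd_eq_gcd_ab, ((Nat.coprime_primes hq hr).2 (Ne.symm hne)).gcd_eq_one]; rfl
    refine hgC ?_
    rw [← zpow_one g, hz, zpow_add, zpow_mul, zpow_mul, zpow_natCast, zpow_natCast]
    exact mul_mem (zpow_mem (hming q (hlow q hq hqd)) _) (zpow_mem (hming r (hlow r hr hrd)) _)
  have hqp : q ≠ p := fun e => hq.one_lt.ne'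
    (Nat.eq_one_of_dvd_coprimes hgp hqd (e ▸ dvd_rfl))
  -- minimal subgroup
  have hex2 : ∃ n, ∃ Q : Subgroup G, Q ≤ Q0 ∧ g ∈ Subgroup.normalizer (Q : Set G) ∧
      g ∉ Subgroup.centralizer (Q : Set G) ∧ Nat.card Q = n := ⟨_, Q0, le_rfl, hgN, hgC, rfl⟩
  obtain ⟨Q, hQle, hQN, hQC, hQn⟩ := Nat.find_spec hex2
  have hminQ : ∀ R : Subgroup G, R < Q → g ∈ Subgroup.normalizer (R : Set G) →
      g ∈ Subgroup.centralizer (R : Set G) := by
    intro R hR hN
    by_contra hc
    exact Nat.find_min hex2 (hQn ▸ lt_of_le_of_ne (Subgroup.card_le_of_le hR.le)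
      (fun e => hR.ne (Subgroup.eq_of_le_of_card_ge hR.le e.ge)))
      ⟨R, hR.le.trans hQle, hN, hc, rfl⟩
  have hQp : IsPGroup p Q := hQ0.to_le hQle
  have hgq : g ^ q ∈ Subgroup.centralizer (Q : Set G) :=
    Subgroup.centralizer_le hQle (hming q (hlow q hq hqd))
  set A := Subgroup.zpowers g with hA
  set H := Q ⊔ A with hH
  set C := Q ⊓ Subgroup.centralizer (A : Set G) with hC
  have hAN : A ≤ Subgroup.normalizer (Q : Set G) := Subgroup.zpowers_le.2 hQN
  have hcop : (Nat.card A).Coprime (Nat.card Q) := by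
    obtain ⟨j, hj⟩ := IsPGroup.iff_card.1 hQp
    rw [hA, Nat.card_zpowers, hj]
    exact hgp.pow_right j
  have hCg : C ≤ Subgroup.centralizer ({g} : Set G) := fun c hc =>
    Subgroup.mem_centralizer_singleton_iff.2 (hc.2 g (Subgroup.mem_zpowers g)).symm
  -- the commutator subgroup of `Q` is centralized
  have hder : ⁅Q, Q⁆ ≤ C := by
    haveI := hQp.isNilpotent
    rcases eq_or_ne Q ⊥ with h0 | h0
    · exact absurd (fun x hx => by rw [h0, SetLike.mem_coe, Subgroup.mem_bot] at hx; simp [hx]) hQC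
    have hlt : ⁅Q, Q⁆ < Q :=
      Coprime.commutator_lt_of_isNilpotent (X := Q) le_rfl le_rfl Subgroup.le_normalizer h0
    refine le_inf hlt.le ?_
    have h1 := hminQ _ hlt (Coprime.le_normalizer_commutator hAN hAN (Subgroup.mem_zpowers g))
    rw [Subgroup.le_centralizer_iff]
    exact Subgroup.zpowers_le.2 h1
  have hQC' : Q ≤ Subgroup.normalizer (C : Set G) := by
    intro x hx
    rw [Subgroup.mem_normalizer_iff]
    intro c
    constructor
    · intro hc
      have h1 := hder (Subgroup.commutator_mem_commutator hx hc.1)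
      have h2 := mul_mem h1 hc
      simpa [commutatorElement_def, mul_assoc] using h2
    · intro hc
      have hcQ : c ∈ Q := by
        simpa [mul_assoc] using mul_mem (mul_mem (inv_mem hx) hc.1) hx
      have h1 := hder (Subgroup.commutator_mem_commutator hx hcQ)
      have h2 := mul_mem (inv_mem h1) hc
      simpa [commutatorElement_def, mul_assoc] using h2
  have hAC : A ≤ Subgroup.normalizer (C : Set G) :=
    Coprime.le_normalizer_inf_of_le hAN (Coprime.le_normalizer_centralizer Subgroup.le_normalizer)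
  set N0 := C ⊔ Subgroup.zpowers (g ^ q) with hN0
  have hgqH : H ≤ Subgroup.centralizer ({g ^ q} : Set G) := by
    refine sup_le (fun x hx => Subgroup.mem_centralizer_singleton_iff.2 (hgq x hx)) ?_
    exact Subgroup.zpowers_le.2 (Subgroup.mem_centralizer_singleton_iff.2
      (((Commute.refl g).pow_right q).eq))
  have hHN0 : H ≤ Subgroup.normalizer (N0 : Set G) := by
    refine Coprime.le_normalizer_sup_of_le (sup_le hQC' hAC) ?_
    refine le_trans ?_ (Subgroup.centralizer_le_normalizer _)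
    rw [Subgroup.le_centralizer_iff, Subgroup.zpowers_le]
    exact fun x hx => Subgroup.mem_centralizer_singleton_iff.1 (hgqH hx)
  have hN0H : N0 ≤ H := sup_le (inf_le_left.trans le_sup_left)
    (Subgroup.zpowers_le.2 (le_sup_right (a := Q) (pow_mem (Subgroup.mem_zpowers g) q)))
  set N := N0.subgroupOf H with hN
  haveI hNn : N.Normal := Subgroup.normal_subgroupOf_of_le_normalizer hHN0
  refine ⟨H, N, hNn, ?_⟩
  -- the image
  set π := QuotientGroup.mk' N with hπ
  set QH := Q.subgroupOf H with hQH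
  set AH := A.subgroupOf H with hAH
  set Qb := QH.map π with hQb
  set Ab := AH.map π with hAb
  let γ : H := ⟨g, le_sup_right (a := Q) (Subgroup.mem_zpowers g)⟩
  haveI hQHn : QH.Normal := Subgroup.normal_subgroupOf_of_le_normalizer
    (sup_le Subgroup.le_normalizer hAN)
  haveI hQbn : Qb.Normal := hQHn.map π (QuotientGroup.mk'_surjective N)
  have htop : Qb ⊔ Ab = ⊤ := by
    rw [hQb, hAb, ← Subgroup.map_sup, hQH, hAH, ← Subgroup.subgroupOf_sup le_sup_left le_sup_right,
      Subgroup.subgroupOf_self, Subgroup.map_top_of_surjective π (QuotientGroup.mk'_surjective N)]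
  have hAz : Ab = Subgroup.zpowers (π γ) := by
    have e : AH = Subgroup.zpowers γ := by
      refine Subgroup.map_injective H.subtype_injective ?_
      rw [hAH, Subgroup.map_subgroupOf_eq_of_le le_sup_right, MonoidHom.map_zpowers]
      rfl
    rw [hAb, e, MonoidHom.map_zpowers]
  haveI : Group.IsSolvable AH := by
    haveI : IsMulCommutative A := by rw [hA]; infer_instance
    exact Coprime.isSolvable_of_isMulCommutative AH
  have hfix : Qb ⊓ Subgroup.centralizer (Ab : Set (H ⧸ N)) = ⊥ := by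
    rw [hQb, hAb, ← Coprime.map_inf_centralizer Subgroup.le_normalizer_of_normal ?_
      (Or.inl inferInstance) π, Subgroup.map_eq_bot_iff, hπ, QuotientGroup.ker_mk']
    · intro x hx
      refine le_sup_left (b := Subgroup.zpowers (g ^ q)) ⟨hx.1, fun a ha => ?_⟩
      exact congrArg Subtype.val (hx.2 ⟨a, le_sup_right (a := Q) ha⟩ ha)
    · rw [hQH, hAH, Nat.card_congr (Subgroup.subgroupOfEquivOfLe le_sup_right).toEquiv,
        Nat.card_congr (Subgroup.subgroupOfEquivOfLe le_sup_left).toEquiv]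
      exact hcop
  have hQb1 : Qb ≠ ⊥ := by
    intro h0
    rw [hQb, Subgroup.map_eq_bot_iff, hπ, QuotientGroup.ker_mk'] at h0
    have hle : Q ≤ N0 := fun x hx => h0 (x := ⟨x, le_sup_left (b := A) hx⟩) hx
    refine hQC (fun x hx => ?_)
    have h1 : N0 ≤ Subgroup.centralizer ({g} : Set G) := sup_le hCg
      (Subgroup.zpowers_le.2 (Subgroup.mem_centralizer_singleton_iff.2
        (((Commute.refl g).pow_left q).eq)))
    exact Subgroup.mem_centralizer_singleton_iff.1 (h1 (hle hx))
  have hγ1 : π γ ≠ 1 := fun h0 => hQb1 (by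
    have : Ab = ⊥ := by rw [hAz, h0, Subgroup.zpowers_one_eq_bot]
    rw [this] at hfix
    rw [← hfix, left_eq_inf]
    exact fun x _ y hy => by rw [SetLike.mem_coe, Subgroup.mem_bot] at hy; simp [hy])
  have hγq : π γ ^ q = 1 := by
    rw [← map_pow, hπ, QuotientGroup.mk'_apply, QuotientGroup.eq_one_iff]
    exact le_sup_right (a := C) (Subgroup.mem_zpowers (g ^ q))
  have hAcard : Nat.card Ab = q := by
    rw [hAz, Nat.card_zpowers, orderOf_eq_prime hγq hγ1]
  have hQbp : IsPGroup p Qb := (hQp.comap_of_injective H.subtype H.subtype_injective).map π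
  obtain ⟨m, hm⟩ := IsPGroup.iff_card.1 hQbp
  have hcard : Nat.card (H ⧸ N) = p ^ m * q := by
    rw [← Subgroup.card_top, ← htop, Coprime.card_sup_of_coprime Subgroup.le_normalizer_of_normal
      (by rw [hm, hAcard]; exact ((Nat.coprime_primes hp.out hq).2 hqp.symm).pow_left m), hm, hAcard]
  have hAsyl : ¬ q ∣ Ab.index := by
    have h1 := Ab.card_mul_index
    rw [hAcard, hcard, mul_comm (p ^ m)] at h1
    rw [Nat.eq_of_mul_eq_mul_left hq.pos h1]
    exact fun hd => hqp ((Nat.prime_dvd_prime_iff_eq hq hp.out).1 (hq.dvd_of_dvd_pow hd))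
  let S : Sylow q (H ⧸ N) := (IsPGroup.of_card (n := 1) (by rw [hAcard, pow_one]) :
    IsPGroup q Ab).toSylow hAsyl
  -- order `q` elements centralize no nontrivial element of `Qb`
  have hfree : ∀ x : H ⧸ N, orderOf x = q → ∀ y ∈ Qb, x * y = y * x → y = 1 := by
    intro x hx y hy hxy
    obtain ⟨T, hT⟩ := (IsPGroup.of_card (n := 1) (by rw [Nat.card_zpowers, hx, pow_one]) :
      IsPGroup q (Subgroup.zpowers x)).exists_le_sylow
    obtain ⟨c, hc⟩ := MulAction.exists_smul_eq (H ⧸ N) T S
    have hcx : c * x * c⁻¹ ∈ Ab := by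
      have h1 : c * x * c⁻¹ ∈ (c • T : Sylow q (H ⧸ N)) := ⟨x, hT (Subgroup.mem_zpowers x), rfl⟩
      rwa [hc] at h1
    have hgen : Subgroup.zpowers (c * x * c⁻¹) = Ab := Subgroup.eq_of_le_of_card_ge
      (Subgroup.zpowers_le.2 hcx) (by
        rw [hAcard, Nat.card_zpowers, show orderOf (c * x * c⁻¹) = q from
          ((MulAut.conj c).orderOf_eq x).trans hx])
    have h2 : c * y * c⁻¹ ∈ Qb ⊓ Subgroup.centralizer (Ab : Set (H ⧸ N)) := by
      refine Subgroup.mem_inf.2 ⟨hQbn.conj_mem y hy c, ?_⟩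
      rw [← hgen, Subgroup.zpowers_eq_closure, Subgroup.centralizer_closure,
        Subgroup.mem_centralizer_singleton_iff]
      calc c * y * c⁻¹ * (c * x * c⁻¹) = c * (y * x) * c⁻¹ := by group
        _ = c * x * c⁻¹ * (c * y * c⁻¹) := by rw [← hxy]; group
    rw [hfix, Subgroup.mem_bot, conj_eq_one_iff] at h2
    exact h2
  constructor
  · set O := Cfsg.pPrimeCore p (H ⧸ N) with hO
    haveI := Transfer.pPrimeCore_normal p (H ⧸ N)
    by_contra h0
    have hco : (Nat.card O).Coprime p := Transfer.pPrimeCore_coprime p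
    have hdq : Nat.card O ∣ q := (hco.pow_right m).dvd_of_dvd_mul_left
      (hcard ▸ Subgroup.card_subgroup_dvd_card O)
    have hcq : Nat.card O = q := ((Nat.dvd_prime hq).1 hdq).resolve_left
      fun e => h0 (Subgroup.eq_bot_of_card_eq _ e)
    obtain ⟨⟨x, hx⟩, hx1⟩ := Subgroup.ne_bot_iff_exists_ne_one.1 h0
    have hxq : orderOf x = q := ((Nat.dvd_prime hq).1
      (hcq ▸ Subgroup.orderOf_dvd_natCard _ hx)).resolve_left
        fun e => hx1 (Subtype.ext (orderOf_eq_one_iff.1 e))
    have hdis : Qb ⊓ O = ⊥ := Coprime.inf_eq_bot_of_coprime_card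
      (by rw [hm, hcq]; exact ((Nat.coprime_primes hp.out hq).2 hqp.symm).pow_left m)
    refine hQb1 ((Subgroup.eq_bot_iff_forall _).2 fun y hy => hfree x hxq y hy ?_)
    exact (Subgroup.commute_of_normal_of_disjoint Qb O inferInstance inferInstance
      (disjoint_iff.2 hdis) y x hy hx).symm
  · intro k hk
    obtain ⟨⟨y, hy⟩, hy1⟩ := Subgroup.ne_bot_iff_exists_ne_one.1 hQb1
    have hpd : p ∣ orderOf k := by
      obtain ⟨a, ha⟩ := hQbp ⟨y, hy⟩
      have hd : orderOf y ∣ p ^ a := orderOf_dvd_of_pow_eq_one (by simpa using congrArg Subtype.val ha)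
      obtain ⟨b, -, hb⟩ := (Nat.dvd_prime_pow hp.out).1 hd
      have hb0 : b ≠ 0 := fun h => hy1 (Subtype.ext (orderOf_eq_one_iff.1 (by rw [hb, h, pow_zero])))
      rw [hk]
      exact ((dvd_pow_self p hb0).trans (dvd_of_eq hb.symm)).trans (Monoid.order_dvd_exponent y)
    have hqd' : q ∣ orderOf k := by
      rw [hk, ← orderOf_eq_prime hγq hγ1]
      exact Monoid.order_dvd_exponent _
    set u := k ^ (orderOf k / p) with hu
    set v := k ^ (orderOf k / q) with hv
    have huo : orderOf u = p := orderOf_pow_orderOf_div (orderOf_pos k).ne' hpd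
    have hvo : orderOf v = q := orderOf_pow_orderOf_div (orderOf_pos k).ne' hqd'
    have huQ : u ∈ Qb := by
      rw [← QuotientGroup.eq_one_iff (N := Qb), ← orderOf_eq_one_iff]
      refine Nat.eq_one_of_dvd_coprimes ((Nat.coprime_primes hp.out hq).2 hqp.symm)
        (huo ▸ orderOf_map_dvd (QuotientGroup.mk' Qb) u) ?_
      refine (orderOf_dvd_natCard _).trans (dvd_of_eq ?_)
      have h1 := Qb.card_mul_index
      rw [hm, hcard] at h1
      rw [← Subgroup.index_eq_card]
      exact Nat.eq_of_mul_eq_mul_left (pow_pos hp.out.pos m) h1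
    have hu1 := hfree v hvo u huQ (((Commute.refl k).pow_pow _ _).eq)
    rw [hu1, orderOf_one] at huo
    exact hp.out.one_lt.ne huo

/-- Let G be a finite group and p a prime. Then G has a normal p-complement if and only if every section K = H/N of G (N a normal subgroup of a subgroup H) whose largest normal subgroup of order prime to p is trivial contains an element whose order equals the exponent of K. -/
theorem result {G : Type*} [Group G] [Finite G] (p : ℕ) [Fact p.Prime] :
    Cfsg.HasNormalPComplement p G ↔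
      ∀ (H : Subgroup G) (N : Subgroup H) [N.Normal], Cfsg.pPrimeCore p (H ⧸ N) = ⊥ →
        ∃ k : H ⧸ N, orderOf k = Monoid.exponent (H ⧸ N) := by
  constructor
  · intro h H N _ hO
    have h1 := Transfer.hasNormalPComplement_of_surjective (QuotientGroup.mk' N)
      (QuotientGroup.mk'_surjective N) (Transfer.hasNormalPComplement_subgroup H h)
    have h2 := Transfer.pPrimeCore_eq_pResidual h1
    rw [hO] at h2
    haveI := Transfer.pResidual_normal p (H ⧸ N)
    exact exists_orderOf_eq_exponent ((Transfer.isPGroup_quotient_pResidual (G := H ⧸ N) (p := p)).of_injective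
      (QuotientGroup.mk' _) ((MonoidHom.ker_eq_bot_iff _).1 (by rw [QuotientGroup.ker_mk', ← h2])))
  · intro h
    refine Transfer.hasNormalPComplement_of_pAutomizers ?_
    by_contra hne
    obtain ⟨H, N, hN, hO, hk⟩ := exists_section hne
    haveI := hN
    obtain ⟨k, hk'⟩ := h H N hO
    exact hk k hk'
end Cfsg.Agent.S4238
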