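import Cfsg.Statements.S4242
import Cfsg.Agent.S0071
import Cfsg.Agent.Lib.Coprime.Action
import Cfsg.Agent.Lib.Char.PiPart

set_option autoImplicit false
set_option linter.style.haveILetI false
open Cfsg

namespace Cfsg.Agent.S4242

theorem nilpotent_le {G : Type*} [Group G] {A B : Subgroup G} (h : A ≤ B) (hB : Group.IsNilpotent B) :
    Group.IsNilpotent A :=
  haveI := hB
  (Group.isNilpotent_congr (Subgroup.subgroupOfEquivOfLe h)).mp inferInstance

theorem commute_in {G : Type*} [Group G] [Finite G] {X : Subgroup G} (hX : Group.IsNilpotent X) {x y : G}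
    (hx : x ∈ X) (hy : y ∈ X) (h : (orderOf x).Coprime (orderOf y)) : x * y = y * x := by
  haveI := hX
  exact congrArg Subtype.val (CfsgLib.Char.PiPart.commute_of_coprime (x := (⟨x, hx⟩ : X)) (y := ⟨y, hy⟩)
    (by rw [Subgroup.orderOf_mk, Subgroup.orderOf_mk]; exact h)).eq

theorem forward {G : Type*} [Group G] [Finite G] (p : ℕ) [Fact p.Prime] (hpG : p ∣ Nat.card G)
    (h : ∀ M : Subgroup G, IsCoatom M → p ∣ Nat.card M → Group.IsNilpotent M)
    (M : Subgroup G) (hM : IsCoatom M) (hMn : ¬ Group.IsNilpotent M) :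
    ∃ Z K : Subgroup G, Z.Normal ∧ K.Normal ∧ Z ⊓ K = ⊥ ∧ Z ⊔ K = ⊤ ∧ Nat.card Z = p ∧
      Cfsg.IsMinimalNonNilpotent K ∧ ¬ p ∣ Nat.card K := by
  classical
  have hp : p.Prime := Fact.out
  have hpM : ¬ p ∣ Nat.card M := fun hd => hMn (h M hM hd)
  have hsmall : ∀ X : Subgroup G, X ≠ ⊤ → p ∣ Nat.card X → Group.IsNilpotent X := fun X hX hd => by
    obtain ⟨N, hN, hle⟩ := (IsCoatomic.eq_top_or_exists_le_coatom X).resolve_left hX
    exact nilpotent_le hle (h N hN (hd.trans (Subgroup.card_dvd_of_le hle)))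
  let P : Sylow p G := default
  have hP1 : (P : Subgroup G) ≠ ⊥ := P.ne_bot_of_dvd_card hpG
  have hordP : ∀ x ∈ (P : Subgroup G), ∀ m ∈ M, (orderOf x).Coprime (orderOf m) := fun x hx m hm => by
    obtain ⟨k, hk⟩ := IsPGroup.iff_card.mp P.isPGroup'
    exact ((((hp.coprime_iff_not_dvd).mpr hpM).pow_left k).coprime_dvd_left
      (hk ▸ (P : Subgroup G).orderOf_dvd_natCard hx)).coprime_dvd_right (M.orderOf_dvd_natCard hm)
  have hPM : ¬ (P : Subgroup G) ≤ M := fun hle => hpM ((P.dvd_card_of_dvd_card hpG).trans (Subgroup.card_dvd_of_le hle))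
  by_cases hPn : (P : Subgroup G).Normal
  · haveI := hPn
    -- subgroups `L ⊔ P`
    have hL : ∀ L : Subgroup G, L ≤ M → L ≠ M → Group.IsNilpotent L ∧ ∀ l ∈ L, ∀ x ∈ (P : Subgroup G), x * l = l * x := by
      intro L hLM hne
      have hX : L ⊔ P ≠ ⊤ := by
        intro e
        refine hne (le_antisymm hLM fun m hm => ?_)
        have hm' : m ∈ L ⊔ (P : Subgroup G) := e ▸ Subgroup.mem_top m
        rw [← SetLike.mem_coe, Subgroup.mul_normal] at hm'
        obtain ⟨l, hl, x, hx, rfl⟩ := Set.mem_mul.mp hm'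
        have hxM : x ∈ M := by simpa using M.mul_mem (M.inv_mem (hLM hl)) hm
        have hx1 : x = 1 := orderOf_eq_one_iff.mp (Nat.coprime_self _ |>.mp (hordP x hx x hxM))
        simpa [hx1] using hl
      have hN := hsmall _ hX ((P.dvd_card_of_dvd_card hpG).trans (Subgroup.card_dvd_of_le le_sup_right))
      exact ⟨nilpotent_le le_sup_left hN, fun l hl x hx => commute_in hN (Subgroup.mem_sup_right hx)
        (Subgroup.mem_sup_left hl) (hordP x hx l (hLM hl))⟩
    have hMP : ∀ m ∈ M, ∀ x ∈ (P : Subgroup G), x * m = m * x := by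
      intro m hm
      refine (hL (Subgroup.zpowers m) (Subgroup.zpowers_le.mpr hm) fun e => hMn ?_).2 m (Subgroup.mem_zpowers m)
      rw [← e]
      letI : CommGroup (Subgroup.zpowers m) := IsCyclic.commGroup
      exact CommGroup.isNilpotent
    haveI : Nontrivial (P : Subgroup G) := (Subgroup.nontrivial_iff_ne_bot _).mpr hP1
    haveI := P.isPGroup'.center_nontrivial
    obtain ⟨k, hk0, hk⟩ := P.isPGroup'.to_subgroup (Subgroup.center (P : Subgroup G)) |>.nontrivial_iff_card.mp inferInstance
    obtain ⟨z', hz'⟩ := exists_prime_orderOf_dvd_card' (G := Subgroup.center (P : Subgroup G)) p (hk ▸ dvd_pow_self p hk0.ne')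
    set z : G := ((z' : (P : Subgroup G)) : G)
    have hzo : orderOf z = p := by rw [Subgroup.orderOf_coe, Subgroup.orderOf_coe, hz']
    have hzP : z ∈ (P : Subgroup G) := (z' : (P : Subgroup G)).2
    let Z := Subgroup.zpowers z
    have hZcard : Nat.card Z = p := by rw [Nat.card_zpowers, hzo]
    have hZM : M ⊔ Z = ⊤ := hM.2 _ (lt_of_le_of_ne le_sup_left fun e =>
      hpM (hZcard ▸ Subgroup.card_dvd_of_le (le_sup_right.trans e.ge)))
    have hcent : ∀ g : G, g * z = z * g := by
      intro g
      have : (M ⊔ Z) ≤ Subgroup.centralizer {z} := sup_le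
        (fun m hm => Subgroup.mem_centralizer_singleton_iff.mpr (hMP m hm z hzP).symm)
        (Subgroup.zpowers_le.mpr (Subgroup.mem_centralizer_singleton_iff.mpr rfl))
      exact Subgroup.mem_centralizer_singleton_iff.mp (this (hZM ▸ Subgroup.mem_top g))
    haveI hZn : Z.Normal := by
      refine ⟨fun n hn g => ?_⟩
      obtain ⟨i, rfl⟩ := Subgroup.mem_zpowers_iff.mp hn
      rw [((show Commute g z from hcent g).zpow_right i).eq, mul_inv_cancel_right]
      exact hn
    haveI hMnormal : M.Normal := Subgroup.normalizer_eq_top_iff.mp (top_le_iff.mp (hZM ▸ sup_le Subgroup.le_normalizer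
      (Subgroup.zpowers_le.mpr (Subgroup.centralizer_le_normalizer _
        (Subgroup.mem_centralizer_iff.mpr fun m _ => hcent m)))))
    refine ⟨Z, M, hZn, hMnormal, ?_, by rw [sup_comm, hZM], hZcard, ⟨hMn, fun L hL' => ?_⟩, hpM⟩
    · exact Subgroup.inf_eq_bot_of_coprime (hZcard.symm ▸ hp.coprime_iff_not_dvd.mpr hpM)
    · refine (Group.isNilpotent_congr (L.equivMapOfInjective M.subtype M.subtype_injective)).mpr
        (hL (L.map M.subtype) (Subgroup.map_subtype_le L) fun e => hL' ?_).1
      exact Subgroup.map_injective M.subtype_injective (e.trans (by rw [← MonoidHom.range_eq_map, Subgroup.range_subtype]))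
  · exfalso
    have hnorm : ∀ Q : Subgroup G, Q ≤ (P : Subgroup G) → ∀ g ∈ Subgroup.normalizer (Q : Set G),
        Nat.Coprime (orderOf g) p → g ∈ Subgroup.centralizer (Q : Set G) := by
      intro Q hQ g hg hgp
      rcases eq_or_ne Q ⊥ with rfl | hQ1
      · simp [Subgroup.mem_centralizer_iff]
      by_cases hN : Subgroup.normalizer (Q : Set G) = ⊤
      · exfalso
        haveI : Q.Normal := Subgroup.normalizer_eq_top_iff.mp hN
        have hQp : IsPGroup p Q := P.isPGroup'.to_le hQ
        obtain ⟨k, hk⟩ := IsPGroup.iff_card.mp hQp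
        have hk0 : k ≠ 0 := fun e => hQ1 (Subgroup.card_eq_one.mp (by rw [hk, e, pow_zero]))
        have hsup : M ⊔ Q = ⊤ := hM.2 _ (lt_of_le_of_ne le_sup_left fun e =>
          hpM ((dvd_pow_self p hk0).trans (hk ▸ Subgroup.card_dvd_of_le (le_sup_right.trans e.ge))))
        refine hPn ?_
        have : (P : Subgroup G) ≤ Q := fun x hx => by
          have hx' : x ∈ M ⊔ Q := hsup ▸ Subgroup.mem_top x
          rw [← SetLike.mem_coe, Subgroup.mul_normal] at hx'
          obtain ⟨m, hm, q, hq, rfl⟩ := Set.mem_mul.mp hx'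
          have hmP : m ∈ (P : Subgroup G) := by simpa using mul_mem hx (inv_mem (hQ hq))
          simpa [orderOf_eq_one_iff.mp (Nat.coprime_self _ |>.mp (hordP m hmP m hm))] using hq
        rw [← le_antisymm hQ this]; infer_instance
      have hQp : p ∣ Nat.card Q := by
        obtain ⟨k, hk⟩ := IsPGroup.iff_card.mp (P.isPGroup'.to_le hQ)
        exact hk ▸ dvd_pow_self p (fun e => hQ1 (Subgroup.card_eq_one.mp (by rw [hk, e, pow_zero])))
      have hnil := hsmall _ hN (hQp.trans (Subgroup.card_dvd_of_le Subgroup.le_normalizer))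
      refine Subgroup.mem_centralizer_iff.mpr fun x hx => (commute_in hnil hg (Subgroup.le_normalizer hx) ?_).symm
      obtain ⟨k, hk⟩ := IsPGroup.iff_card.mp (P.isPGroup'.to_le hQ)
      exact (hgp.pow_right k).coprime_dvd_right (hk ▸ Q.orderOf_dvd_natCard hx)
    obtain ⟨K, hKn, hKc⟩ := (Cfsg.Agent.S0071.result P).mpr hnorm
    haveI := hKn
    have hMK : M ≤ K := fun m hm => by
      rw [← QuotientGroup.eq_one_iff, ← orderOf_eq_one_iff]
      obtain ⟨k, hk⟩ := IsPGroup.iff_card.mp P.isPGroup'
      refine Nat.eq_one_of_dvd_coprimes ((hp.coprime_iff_not_dvd.mpr hpM).pow_left k).symm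
        ((orderOf_map_dvd (QuotientGroup.mk' K) m).trans (M.orderOf_dvd_natCard hm))
        ((orderOf_dvd_natCard _).trans ?_)
      rw [← hk, ← hKc.symm.index_eq_card]; exact dvd_rfl
    have hKt : K ≠ ⊤ := fun e => hP1 (Subgroup.isComplement'_top_left.mp (e ▸ hKc))
    obtain rfl : M = K := (hM.le_iff.mp hMK).resolve_left hKt |>.symm
    haveI : Group.IsNilpotent (P : Subgroup G) := P.isPGroup'.isNilpotent
    have hsolv : Group.IsSolvable (P : Subgroup G) := inferInstance
    obtain ⟨k, hk⟩ := IsPGroup.iff_card.mp P.isPGroup'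
    have hcop : (Nat.card (P : Subgroup G)).Coprime (Nat.card M) := hk ▸ (hp.coprime_iff_not_dvd.mpr hpM).pow_left k
    let C := M ⊓ Subgroup.centralizer ((P : Subgroup G) : Set G)
    have hC : Nat.card M ∣ Nat.card C := by
      refine (Nat.factorization_le_iff_dvd Nat.card_pos.ne' Nat.card_pos.ne').mp fun q => ?_
      by_cases hq : q.Prime
      swap; · simp [Nat.factorization_eq_zero_of_not_prime _ hq]
      haveI := Fact.mk hq
      obtain ⟨Q, hQ⟩ := CfsgLib.Coprime.exists_invariant_sylow (A := (P : Subgroup G))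
        Subgroup.le_normalizer_of_normal hcop (Or.inl hsolv) q
      let QG := (Q : Subgroup M).map M.subtype
      have hQM : QG ≤ M := Subgroup.map_subtype_le _
      have hQC : QG ≤ C := le_inf hQM fun y hy => Subgroup.mem_centralizer_iff.mpr fun x hx => by
        have hX : (P : Subgroup G) ⊔ QG ≠ ⊤ := by
          intro e
          refine hMn ?_
          have : M ≤ QG := fun m hm => by
            have hm' : m ∈ QG ⊔ (P : Subgroup G) := by rw [sup_comm, e]; trivial
            rw [← SetLike.mem_coe, Subgroup.coe_mul_of_right_le_normalizer_left _ _ hQ] at hm'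
            obtain ⟨u, hu, v, hv, rfl⟩ := Set.mem_mul.mp hm'
            have hvM : v ∈ M := by simpa using M.mul_mem (M.inv_mem (hQM hu)) hm
            have hv1 : v = 1 := orderOf_eq_one_iff.mp (Nat.coprime_self _ |>.mp (hordP v hv v hvM))
            subst hv1
            rw [mul_one]
            exact hu
          exact nilpotent_le this ((Q.isPGroup'.map M.subtype).isNilpotent)
        exact commute_in (hsmall _ hX ((P.dvd_card_of_dvd_card hpG).trans (Subgroup.card_dvd_of_le le_sup_left)))
          (Subgroup.mem_sup_left hx) (Subgroup.mem_sup_right hy) (hordP x hx y (hQM hy))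
      have h1 := Subgroup.card_dvd_of_le hQC
      rw [Subgroup.card_map_of_injective M.subtype_injective, Q.card_eq_multiplicity] at h1
      exact (hq.pow_dvd_iff_le_factorization Nat.card_pos.ne').mp h1
    have hCM : C = M := Subgroup.eq_of_le_of_card_ge inf_le_left (Nat.le_of_dvd Nat.card_pos hC)
    have hcent : M ≤ Subgroup.centralizer ((P : Subgroup G) : Set G) := hCM ▸ inf_le_right
    refine hPn (Subgroup.normalizer_eq_top_iff.mp (top_le_iff.mp ?_))
    rw [← hKc.sup_eq_top]
    exact sup_le (hcent.trans (Subgroup.centralizer_le_normalizer _)) Subgroup.le_normalizer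


/-- Let G be a finite group and p a prime dividing its order. Every maximal subgroup of G of order divisible by p is nilpotent if and only if G is nilpotent, or G is a minimal non-nilpotent group, or G is the internal direct product of a normal subgroup of order p and a normal minimal non-nilpotent subgroup of order prime to p. -/
theorem result {G : Type*} [Group G] [Finite G] (p : ℕ) (hp : p.Prime) (hpG : p ∣ Nat.card G) :
    (∀ M : Subgroup G, IsCoatom M → p ∣ Nat.card M → Group.IsNilpotent M) ↔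
      (Group.IsNilpotent G ∨ Cfsg.IsMinimalNonNilpotent G ∨
        ∃ Z K : Subgroup G, Z.Normal ∧ K.Normal ∧ Z ⊓ K = ⊥ ∧ Z ⊔ K = ⊤ ∧ Nat.card Z = p ∧
          Cfsg.IsMinimalNonNilpotent K ∧ ¬ p ∣ Nat.card K) := by
  classical
  haveI := Fact.mk hp
  constructor
  · intro h
    by_cases hn : Group.IsNilpotent G
    · exact Or.inl hn
    by_cases hm : Cfsg.IsMinimalNonNilpotent G
    · exact Or.inr (Or.inl hm)
    have hex : ∃ H : Subgroup G, H ≠ ⊤ ∧ ¬ Group.IsNilpotent H := by
      by_contra hcon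
      push Not at hcon
      exact hm ⟨hn, hcon⟩
    obtain ⟨H, hH, hHn⟩ := hex
    obtain ⟨M, hM, hle⟩ := (IsCoatomic.eq_top_or_exists_le_coatom H).resolve_left hH
    exact Or.inr (Or.inr (forward p hpG h M hM fun e => hHn (nilpotent_le hle e)))
  · rintro (h | h | ⟨Z, K, hZ, hK, hi, hs, hZc, ⟨-, hKmin⟩, hpK⟩) M hM hpM
    · exact inferInstance
    · exact h.2 M hM.1
    haveI := hZ
    haveI := hK
    have hdec : ∀ g : G, ∃ z ∈ Z, ∃ k ∈ K, z * k = g := fun g => by
      have : g ∈ Z ⊔ K := hs ▸ Subgroup.mem_top g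
      rw [← SetLike.mem_coe, Subgroup.mul_normal] at this
      exact Set.mem_mul.mp this
    have hcomm : ∀ z ∈ Z, ∀ k ∈ K, z * k = k * z := fun z hz k hk =>
      (Subgroup.commute_of_normal_of_disjoint Z K hZ hK (disjoint_iff.mpr hi) z k hz hk).eq
    have hidx : Z.index = Nat.card K := by
      have hc : Subgroup.IsComplement' K Z := Subgroup.isComplement'_of_disjoint_and_mul_eq_univ
        (disjoint_iff.mpr (by rw [inf_comm]; exact hi)) (by rw [← Subgroup.mul_normal, sup_comm, hs]; rfl)
      exact hc.index_eq_card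
    obtain ⟨x, hx⟩ := exists_prime_orderOf_dvd_card' (G := M) p hpM
    have hxZ : (x : G) ∈ Z := by
      rw [← QuotientGroup.eq_one_iff, ← orderOf_eq_one_iff]
      refine Nat.eq_one_of_dvd_coprimes (hp.coprime_iff_not_dvd.mpr hpK) ?_ (hidx ▸ orderOf_dvd_natCard _)
      have h1 := orderOf_map_dvd (QuotientGroup.mk' Z) (x : G)
      rwa [Subgroup.orderOf_coe, hx] at h1
    have hZM : Z ≤ M := by
      have : Subgroup.zpowers (x : G) = Z := Subgroup.eq_of_le_of_card_ge (Subgroup.zpowers_le.mpr hxZ)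
        (by rw [Nat.card_zpowers, Subgroup.orderOf_coe, hx, hZc])
      rw [← this]; exact Subgroup.zpowers_le.mpr x.2
    haveI : Group.IsNilpotent Z := (IsPGroup.of_card (n := 1) (by rw [hZc, pow_one]) : IsPGroup p Z).isNilpotent
    let L : Subgroup K := M.subgroupOf K
    have hL : L ≠ ⊤ := fun e => hM.1 (top_le_iff.mp (hs ▸ sup_le hZM (Subgroup.subgroupOf_eq_top.mp e)))
    haveI := hKmin L hL
    let f : Z × L →* M :=
      { toFun := fun a => ⟨(a.1 : G) * ((a.2 : K) : G), M.mul_mem (hZM a.1.2) a.2.2⟩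
        map_one' := Subtype.ext (by simp)
        map_mul' := fun a b => Subtype.ext (by
          show ((a.1 : G) * b.1) * (((a.2 : K) : G) * ((b.2 : K) : G)) = ((a.1 : G) * ((a.2 : K) : G)) * ((b.1 : G) * ((b.2 : K) : G))
          have e := hcomm b.1 b.1.2 (a.2 : K) (a.2 : K).2
          calc _ = (a.1 : G) * ((b.1 : G) * ((a.2 : K) : G)) * ((b.2 : K) : G) := by group
            _ = _ := by rw [e]; group) }
    refine Group.nilpotent_of_surjective f fun m => ?_
    obtain ⟨z, hz, k, hk, hzk⟩ := hdec m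
    have hkM : k ∈ M := by
      have h1 := M.mul_mem (M.inv_mem (hZM hz)) m.2
      rwa [← hzk, inv_mul_cancel_left] at h1
    exact ⟨(⟨z, hz⟩, ⟨⟨k, hk⟩, hkM⟩), Subtype.ext hzk⟩
end Cfsg.Agent.S4242
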