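import Cfsg.Statements.S4244
import Mathlib

set_option autoImplicit false
open Cfsg


namespace CfsgLib.SubnormalIndex

variable {G : Type*} [Group G] [Finite G]

theorem relIndex_dvd_index (M N : Subgroup G) [N.Normal] : M.relIndex N ∣ M.index := by
  obtain ⟨c, hc⟩ := Subgroup.relIndex_dvd_index_of_normal N M
  have h1 := Subgroup.relIndex_mul_index (inf_le_left : M ⊓ N ≤ M)
  have h2 := Subgroup.relIndex_mul_index (inf_le_right : M ⊓ N ≤ N)
  rw [Subgroup.inf_relIndex_left] at h1
  rw [Subgroup.inf_relIndex_right] at h2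
  refine ⟨c, Nat.eq_of_mul_eq_mul_left (Nat.pos_of_ne_zero
    (Subgroup.index_ne_zero_of_finite (H := N.subgroupOf M))) ?_⟩
  show N.relIndex M * M.index = N.relIndex M * (M.relIndex N * c)
  rw [h1, ← h2, hc]; ring

theorem relIndex_inf_dvd {H : Subgroup G} (hH : H.IsSubnormal) (K : Subgroup G) :
    (H ⊓ K).relIndex H ∣ K.index := by
  induction hH with
  | top => rw [Subgroup.inf_relIndex_left, Subgroup.relIndex_top_right]
  | step H M hle hM hN ih =>
    rw [Subgroup.inf_relIndex_left] at ih ⊢
    refine dvd_trans ?_ ih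
    haveI := hN
    have := relIndex_dvd_index (K.subgroupOf M) (H.subgroupOf M)
    rw [Subgroup.relIndex_subgroupOf hle] at this
    exact this

end CfsgLib.SubnormalIndex

namespace Cfsg.Agent.S4244

/-- Let H be a subnormal subgroup of a finite group G. Then for every subgroup K of G the index of H ∩ K in H divides the index of K in G. -/
theorem result {G : Type*} [Group G] [Finite G] (H : Subgroup G) (hH : H.IsSubnormal) (K : Subgroup G) :
    (H ⊓ K).relIndex H ∣ K.index := by
  exact CfsgLib.SubnormalIndex.relIndex_inf_dvd hH K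

end Cfsg.Agent.S4244
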