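import Cfsg.Statements.S4245
import Cfsg.Agent.S0143
import Cfsg.Agent.S0564
import Cfsg.Agent.Lib.ZStar.Basic
import Cfsg.Agent.Lib.Transfer.Basic

set_option autoImplicit false
open Cfsg

namespace Cfsg.Agent.S4245

universe u

/-- The simple case. -/
theorem simple_case {G : Type u} [Group G] [Finite G] [IsSimpleGroup G] (A : Subgroup G) (p s : ℕ)
    (hp : p.Prime) (hA : A.index = p ^ s) {M : Type u} [Group M] (hM : IsCyclic M)
    (hM2 : IsPGroup 2 M) (f : A →* M) (hf : IsCyclic f.ker) : Group.IsSolvable G := by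
  classical
  by_contra hns
  have hnp : ¬ (Nat.card G).Prime := fun h => hns (by
    haveI := Fact.mk h
    haveI := isCyclic_of_prime_card (α := G) rfl
    letI := IsCyclic.commGroup (α := G)
    exact isSolvable_of_comm fun a b => mul_comm a b)
  haveI := hf
  by_cases hp2 : p = 2
  · subst hp2
    -- a cyclic odd subgroup and a Sylow 2-subgroup
    haveI := Fact.mk Nat.prime_two
    obtain ⟨g, hg⟩ := IsCyclic.exists_generator (α := f.ker)
    obtain ⟨a, m, hm, hord⟩ :=
      Nat.exists_eq_pow_mul_and_not_dvd (orderOf_pos g).ne' 2 (by norm_num)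
    set c : G := (((g ^ 2 ^ a : f.ker) : A) : G) with hc
    have hco : orderOf c = m := by
      rw [hc, Subgroup.orderOf_coe, Subgroup.orderOf_coe, orderOf_pow_of_dvd (by positivity)
        (hord ▸ dvd_mul_right _ _), hord, Nat.mul_div_cancel_left _ (by positivity)]
    obtain ⟨P⟩ : Nonempty (Sylow 2 G) := inferInstance
    have hker : Nat.card f.ker = 2 ^ a * m := by
      rw [← orderOf_eq_card_of_forall_mem_zpowers hg, hord]
    haveI : Finite f.range := Finite.of_surjective f.rangeRestrict f.rangeRestrict_surjective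
    obtain ⟨b, hb⟩ := IsPGroup.iff_card.mp (hM2.to_subgroup f.range)
    have hcard : Nat.card G = 2 ^ (a + b + s) * m := by
      rw [← A.card_mul_index, hA, ← f.ker.card_mul_index, Subgroup.index_ker, hker, hb,
        pow_add, pow_add]
      ring
    have hP : Nat.card (P : Subgroup G) = 2 ^ (a + b + s) := by
      rw [P.card_eq_multiplicity, hcard, Nat.factorization_mul (by positivity)
        (by rintro rfl; simp at hm), Finsupp.add_apply,
        Nat.prime_two.factorization_pow, Finsupp.single_eq_same,
        Nat.factorization_eq_zero_of_not_dvd hm, add_zero]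
    have hC : Nat.card (Subgroup.zpowers c) = m := by rw [Nat.card_zpowers, hco]
    have hcompl : (Subgroup.zpowers c).IsComplement' (P : Subgroup G) :=
      Subgroup.isComplement'_of_coprime (by rw [hC, hP, hcard, mul_comm])
        (hC ▸ hP ▸ Nat.Coprime.pow_right _ ((Nat.prime_two.coprime_iff_not_dvd.mpr hm).symm))
    haveI := P.2.isNilpotent
    haveI : Group.IsNilpotent (Subgroup.zpowers c) := by
      letI := IsCyclic.commGroup (α := Subgroup.zpowers c)
      infer_instance
    refine hns (Cfsg.Agent.S0564.result (Subgroup.zpowers c) (P : Subgroup G) inferInstance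
      inferInstance fun x => ?_)
    obtain ⟨⟨y, z⟩, h⟩ := (Subgroup.isComplement'_def.mp hcompl).2 x
    exact ⟨y, y.2, z, z.2, h.symm⟩
  -- `p` is odd
  haveI := Fact.mk Nat.prime_two
  by_cases hZ : ∃ z : G, z ≠ 1 ∧ z ∈ A ∧ ∀ x ∈ A, x * z = z * x
  · obtain ⟨z, hz1, -, hzc⟩ := hZ
    have hle : A ≤ Subgroup.centralizer ({z} : Set G) := fun x hx =>
      Subgroup.mem_centralizer_singleton_iff.mpr (hzc x hx)
    obtain ⟨k, -, hk⟩ := (Nat.dvd_prime_pow hp).mp (hA ▸ Subgroup.index_dvd_of_le hle)
    exact hnp (Cfsg.Agent.S0143.result p k hp z hz1 hk)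
  -- the kernel has odd order
  have hodd : ¬ 2 ∣ Nat.card f.ker := by
    intro h2
    obtain ⟨t, ht⟩ := exists_prime_orderOf_dvd_card' (G := f.ker) 2 h2
    refine hZ ⟨((t : A) : G), ?_, (t : A).2, fun x hx => ?_⟩
    · intro h
      have : t = 1 := Subtype.ext (Subtype.ext h)
      rw [this, orderOf_one] at ht
      omega
    · have hconj : (⟨x, hx⟩ : A) * t * (⟨x, hx⟩ : A)⁻¹ ∈ f.ker :=
        (MonoidHom.normal_ker f).conj_mem _ t.2 _
      have hmem : ∀ u : f.ker, orderOf u = 2 → u = t := fun u hu => by
        classical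
        haveI := Fintype.ofFinite f.ker
        by_contra hne
        have hsub : ({1, t, u} : Finset f.ker) ⊆ Finset.univ.filter fun a => a ^ 2 = 1 := by
          intro a ha
          simp only [Finset.mem_insert, Finset.mem_singleton] at ha
          rw [Finset.mem_filter]
          refine ⟨Finset.mem_univ _, ?_⟩
          rcases ha with rfl | rfl | rfl
          · exact one_pow 2
          · rw [← ht]; exact pow_orderOf_eq_one _
          · rw [← hu]; exact pow_orderOf_eq_one _
        have h1 : t ≠ 1 := fun h => by rw [h, orderOf_one] at ht; omega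
        have h2 : u ≠ 1 := fun h => by rw [h, orderOf_one] at hu; omega
        have h3 : ({1, t, u} : Finset f.ker).card = 3 :=
          Finset.card_eq_three.mpr ⟨1, t, u, h1.symm, h2.symm, Ne.symm hne, rfl⟩
        have h4 := (Finset.card_le_card hsub).trans (IsCyclic.card_pow_eq_one_le two_pos)
        omega
      have ho : orderOf (⟨_, hconj⟩ : f.ker) = 2 := by
        rw [← Subgroup.orderOf_coe]
        show orderOf (MulAut.conj (⟨x, hx⟩ : A) (t : A)) = 2
        rw [MulEquiv.orderOf_eq, Subgroup.orderOf_coe, ht]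
      have h := congrArg (fun u : f.ker => ((u : A) : G)) (hmem _ ho)
      simp only [Subgroup.coe_mul, Subgroup.coe_inv] at h
      exact mul_inv_eq_iff_eq_mul.mp h
  obtain ⟨T⟩ : Nonempty (Sylow 2 A) := inferInstance
  have hTinj : Function.Injective (f.comp (T : Subgroup A).subtype) := by
    refine (injective_iff_map_eq_one _).mpr fun x hx => ?_
    obtain ⟨k, hk⟩ := T.2 x
    refine Subtype.ext (orderOf_eq_one_iff.mp (Nat.eq_one_of_dvd_coprimes
      (((Nat.prime_two.coprime_iff_not_dvd).mpr hodd).pow_left k).symm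
      (Subgroup.orderOf_dvd_natCard _ (show (x : A) ∈ f.ker from hx))
      (orderOf_dvd_of_pow_eq_one (congrArg Subtype.val hk :))))
  haveI := hM
  haveI hTc : IsCyclic (T : Subgroup A) := isCyclic_of_injective _ hTinj
  let e := (T : Subgroup A).equivMapOfInjective A.subtype Subtype.val_injective
  obtain ⟨S, hS⟩ : ∃ S : Sylow 2 G, (S : Subgroup G) = (T : Subgroup A).map A.subtype := by
    refine ⟨Sylow.ofCard ((T : Subgroup A).map A.subtype) ?_, rfl⟩
    rw [← Nat.card_congr e.toEquiv, T.card_eq_multiplicity, ← A.card_mul_index, hA,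
      Nat.factorization_mul Nat.card_pos.ne' (pow_ne_zero s hp.ne_zero), Finsupp.add_apply,
      Nat.Prime.factorization_pow hp, Finsupp.single_eq_of_ne (Ne.symm hp2), add_zero]
  have hScyc : IsCyclic (S : Subgroup G) :=
    isCyclic_of_surjective (e.trans (MulEquiv.subgroupCongr hS.symm)).toMonoidHom
      (e.trans (MulEquiv.subgroupCongr hS.symm)).surjective
  obtain ⟨K, hK, hc⟩ := (CfsgLib.Transfer.hasNormalPComplement_iff_forall_sylow S).mp
    (CfsgLib.ZStar.hasNormalPComplement_of_cyclic S hScyc)
  rcases hK.eq_bot_or_eq_top with rfl | rfl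
  · have h := Subgroup.isComplement'_bot_left.mp hc
    haveI := S.2.isNilpotent
    refine hns ?_
    haveI : Group.IsSolvable (⊤ : Subgroup G) := h ▸ inferInstance
    exact solvable_of_surjective (f := (⊤ : Subgroup G).subtype) fun x =>
      ⟨⟨x, Subgroup.mem_top x⟩, rfl⟩
  · have h := Subgroup.isComplement'_top_left.mp hc
    haveI : Subsingleton A ∨ True := Or.inr trivial
    have hodd' : ¬ 2 ∣ Nat.card G := by
      intro h2
      exact S.ne_bot_of_dvd_card h2 h
    -- then `f` is trivial and `A` is cyclic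
    have htriv : ∀ x : A, f x = 1 := fun x => by
      obtain ⟨k, hk⟩ := hM2 (f x)
      refine orderOf_eq_one_iff.mp (Nat.eq_one_of_dvd_coprimes
        (((Nat.prime_two.coprime_iff_not_dvd).mpr hodd').pow_left k).symm
        ((orderOf_map_dvd f x).trans ((orderOf_dvd_natCard x).trans A.card_subgroup_dvd_card))
        (orderOf_dvd_of_pow_eq_one hk))
    haveI : IsCyclic A := isCyclic_of_surjective f.ker.subtype fun x => ⟨⟨x, htriv x⟩, rfl⟩
    letI := IsCyclic.commGroup (α := A)
    by_cases hA1 : A = ⊥
    · rw [hA1, Subgroup.index_bot] at hA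
      haveI := Fact.mk hp
      haveI := (IsPGroup.of_card hA).isNilpotent
      exact hns inferInstance
    · obtain ⟨z, hz, hz1⟩ := (Subgroup.ne_bot_iff_exists_ne_one.mp hA1 |>.elim fun z hz =>
        ⟨(z : G), z.2, fun h => hz (Subtype.ext h)⟩ : ∃ z, z ∈ A ∧ z ≠ 1)
      exact hZ ⟨z, hz1, hz, fun x hx => congrArg Subtype.val (mul_comm (⟨x, hx⟩ : A) ⟨z, hz⟩)⟩

theorem main (n : ℕ) : ∀ (G : Type u) [Group G] [Finite G], Nat.card G = n →
    ∀ (A : Subgroup G) (p s : ℕ), p.Prime → A.index = p ^ s →
      ∀ (M : Type u) [Group M], IsCyclic M → IsPGroup 2 M → ∀ f : A →* M, IsCyclic f.ker →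
        Group.IsSolvable G := by
  induction n using Nat.strong_induction_on with
  | _ n ih =>
  intro G _ _ hn A p s hp hA M _ hM hM2 f hf
  by_cases hsimple : ∃ N : Subgroup G, N.Normal ∧ N ≠ ⊥ ∧ N ≠ ⊤
  · obtain ⟨N, hN, hb, ht⟩ := hsimple
    haveI := hf
    have h1 : Group.IsSolvable N := by
      have hlt : Nat.card N < n := hn ▸ lt_of_le_of_ne N.card_le_card_group fun h =>
        ht (Subgroup.eq_top_of_card_eq N h)
      have hidx : (A.subgroupOf N).index ∣ p ^ s := by
        rw [← hA]
        show A.relIndex N ∣ A.index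
        have e : A.relIndex N = A.relIndex (A ⊔ N) := by
          have h1 := Subgroup.relIndex_mul_relIndex ⊥ A (A ⊔ N) bot_le le_sup_left
          have h2 := Subgroup.relIndex_mul_relIndex ⊥ N (A ⊔ N) bot_le le_sup_right
          have h3 := Subgroup.relIndex_mul_relIndex ⊥ (A ⊓ N) A bot_le inf_le_left
          have h4 := Subgroup.relIndex_mul_relIndex ⊥ (A ⊓ N) N bot_le inf_le_right
          rw [Subgroup.inf_relIndex_left] at h3
          rw [Subgroup.inf_relIndex_right] at h4
          rw [Subgroup.relIndex_sup_right] at h2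
          simp only [Subgroup.relIndex_bot_left] at h1 h2 h3 h4
          rw [← h3] at h1
          rw [← h4, ← h1] at h2
          have hp1 : 0 < N.relIndex A := Nat.pos_of_ne_zero fun h => by
            rw [h, mul_zero] at h3; exact Nat.card_pos.ne h3
          have h5 : Nat.card ↥(A ⊓ N) * N.relIndex A * A.relIndex N =
              Nat.card ↥(A ⊓ N) * N.relIndex A * A.relIndex (A ⊔ N) := by rw [← h2]; ring
          exact Nat.eq_of_mul_eq_mul_left (Nat.mul_pos Nat.card_pos hp1) h5
        rw [e]
        exact Subgroup.relIndex_dvd_index_of_le le_sup_left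
      obtain ⟨t, -, ht'⟩ := (Nat.dvd_prime_pow hp).mp hidx
      let ι : A.subgroupOf N →* A :=
        { toFun := fun x => ⟨((x : N) : G), x.2⟩
          map_one' := rfl
          map_mul' := fun _ _ => rfl }
      refine ih _ hlt N rfl (A.subgroupOf N) p t hp ht' M hM hM2 (f.comp ι) ?_
      let κ : (f.comp ι).ker →* f.ker :=
        { toFun := fun x => ⟨ι x, x.2⟩
          map_one' := rfl
          map_mul' := fun _ _ => rfl }
      exact isCyclic_of_injective κ fun x y h =>
        Subtype.ext (Subtype.ext (Subtype.ext (congrArg (fun z : f.ker => ((z : A) : G)) h)))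
    have h2 : Group.IsSolvable (G ⧸ N) := by
      have hlt : Nat.card (G ⧸ N) < n := by
        rw [← hn, N.card_eq_card_quotient_mul_card_subgroup]
        exact lt_mul_of_one_lt_right Nat.card_pos ((Subgroup.one_lt_card_iff_ne_bot N).mpr hb)
      set π := QuotientGroup.mk' N
      have hidx : (A.map π).index ∣ p ^ s := hA ▸ A.index_map_dvd (QuotientGroup.mk'_surjective N)
      obtain ⟨t, -, ht'⟩ := (Nat.dvd_prime_pow hp).mp hidx
      let φ := π.subgroupMap A
      have hφ : Function.Surjective φ := π.subgroupMap_surjective A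
      haveI := hM
      letI := IsCyclic.commGroup (α := M)
      let K : Subgroup M := φ.ker.map f
      let f' : A.map π →* M ⧸ K :=
        φ.liftOfSurjective hφ ⟨(QuotientGroup.mk' K).comp f, fun x hx => by
          rw [MonoidHom.mem_ker, MonoidHom.comp_apply, QuotientGroup.mk'_apply,
            QuotientGroup.eq_one_iff]
          exact Subgroup.mem_map_of_mem f hx⟩
      have hf' : ∀ x, f' (φ x) = QuotientGroup.mk' K (f x) := fun x => by
        exact MonoidHom.liftOfRightInverse_comp_apply _ _ _ _ x
      refine ih _ hlt (G ⧸ N) rfl (A.map π) p t hp ht' (M ⧸ K)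
        (isCyclic_of_surjective (QuotientGroup.mk' K) (QuotientGroup.mk'_surjective K))
        (hM2.to_quotient K) f' ?_
      let κ : f.ker →* f'.ker :=
        { toFun := fun x => ⟨φ x, by rw [MonoidHom.mem_ker, hf', show f x = 1 from x.2, map_one]⟩
          map_one' := Subtype.ext (map_one φ)
          map_mul' := fun x y => Subtype.ext (map_mul φ _ _) }
      refine isCyclic_of_surjective κ ?_
      rintro ⟨y, hy⟩
      obtain ⟨x, rfl⟩ := hφ y
      rw [MonoidHom.mem_ker, hf', QuotientGroup.mk'_apply, QuotientGroup.eq_one_iff] at hy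
      obtain ⟨k, hk, hkx⟩ := hy
      refine ⟨⟨x * k⁻¹, by rw [MonoidHom.mem_ker, map_mul, map_inv, hkx, mul_inv_cancel]⟩, ?_⟩
      refine Subtype.ext ?_
      show φ (x * k⁻¹) = φ x
      rw [map_mul, map_inv, show φ k = 1 from hk, inv_one, mul_one]
    exact solvable_of_ker_le_range N.subtype (QuotientGroup.mk' N) (by simp)
  · rcases subsingleton_or_nontrivial G with hs | hs
    · exact isSolvable_of_comm fun a b => Subsingleton.elim _ _
    · haveI : IsSimpleGroup G := ⟨fun N hN => by
        by_contra h
        push Not at h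
        exact hsimple ⟨N, hN, h.1, h.2⟩⟩
      exact simple_case A p s hp hA hM hM2 f hf

/-- Let G be a finite group with a subgroup A of prime-power index. Suppose A has a normal cyclic subgroup B such that A/B is cyclic of order a power of 2. Then G is solvable. -/
theorem result {G : Type*} [Group G] [Finite G] (A : Subgroup G) (p s : ℕ) (hp : p.Prime) (hA : A.index = p ^ s)
    (B : Subgroup A) [B.Normal] (hB : IsCyclic B) (hAB : IsCyclic (A ⧸ B)) (r : ℕ) (hr : Nat.card (A ⧸ B) = 2 ^ r) :
    Group.IsSolvable G := by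
  exact main _ G rfl A p s hp hA (↥A ⧸ B) hAB (IsPGroup.of_card hr) (QuotientGroup.mk' B)
    (by rw [QuotientGroup.ker_mk']; exact hB)

end Cfsg.Agent.S4245
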