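import Cfsg.Statements.S4249
import Cfsg.Agent.Lib.Splitting.Nilpotent

set_option autoImplicit false
open Cfsg

namespace Cfsg.Agent.S4249

open CfsgLib.ThreeOrbit CfsgLib.Splitting
open scoped IsMulCommutative


/-- Let G be a finite group and p a prime such that G is not a p-group, and suppose the Hughes subgroup H_p(G), generated by all elements g with g^p ≠ 1, is a proper subgroup. Then H_p(G) is nilpotent and has index p in G. -/
theorem result {G : Type*} [Group G] [Finite G] (p : ℕ) (hp : p.Prime) (hG : ¬ IsPGroup p G)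
    (hH : Subgroup.closure {g : G | g ^ p ≠ 1} ≠ ⊤) :
    Group.IsNilpotent (Subgroup.closure {g : G | g ^ p ≠ 1}) ∧ (Subgroup.closure {g : G | g ^ p ≠ 1}).index = p := by
  classical
  set H := Subgroup.closure {g : G | g ^ p ≠ 1} with hHdef
  have := Fact.mk hp
  have hout : ∀ g : G, g ∉ H → g ^ p = 1 := fun g hg => by
    by_contra h
    exact hg (Subgroup.subset_closure h)
  have hHn : H.Normal := by
    rw [← Subgroup.normalizer_eq_top_iff, eq_top_iff]
    intro g _
    rw [Subgroup.mem_normalizer_iff]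
    have key : ∀ g a : G, a ∈ H → g * a * g⁻¹ ∈ H := by
      intro g a ha
      induction ha using Subgroup.closure_induction with
      | mem a ha => exact Subgroup.subset_closure (by
          show (g * a * g⁻¹) ^ p ≠ 1
          rw [conj_pow]
          exact fun h => ha (conj_eq_one_iff.mp h))
      | one => simp
      | mul a b _ _ iha ihb =>
        rw [show g * (a * b) * g⁻¹ = (g * a * g⁻¹) * (g * b * g⁻¹) by group]
        exact mul_mem iha ihb
      | inv a _ iha =>
        rw [show g * a⁻¹ * g⁻¹ = (g * a * g⁻¹)⁻¹ by group]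
        exact inv_mem iha
    exact fun a => ⟨key g a, fun h => by
      have := key g⁻¹ _ h
      rwa [show g⁻¹ * (g * a * g⁻¹) * g⁻¹⁻¹ = a by group] at this⟩
  obtain ⟨x, hx⟩ : ∃ x, x ∉ H := by
    by_contra hcon
    push Not at hcon
    exact hH (eq_top_iff.mpr fun g _ => hcon g)
  have hnil : Group.IsNilpotent H := by
    refine isNilpotent_of_splitting (p := p) H x (by rw [Subgroup.normalizer_eq_top]; exact Subgroup.mem_top x)
      fun h hh => hout _ fun hm => hx ?_
    simpa using H.mul_mem (H.inv_mem hh) hm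
  refine ⟨hnil, ?_⟩
  obtain ⟨r, hr, hrd, hrp⟩ : ∃ r, r.Prime ∧ r ∣ Nat.card G ∧ r ≠ p := by
    by_contra hcon
    push Not at hcon
    refine hG (IsPGroup.of_card (n := (Nat.card G).primeFactorsList.length) ?_)
    exact Nat.eq_prime_pow_of_unique_prime_dvd Nat.card_pos.ne' fun {d} hd hdd => hcon d hd hdd
  have := Fact.mk hr
  -- the `r`-elements lie in `H`
  obtain ⟨a, ha⟩ := exists_prime_orderOf_dvd_card' r hrd
  have hrH : r ∣ Nat.card H := by
    have haH : a ∈ H := by
      by_contra h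
      have := orderOf_dvd_of_pow_eq_one (hout a h)
      rw [ha] at this
      exact hrp ((Nat.prime_dvd_prime_iff_eq hr hp).mp this)
    exact ha ▸ H.orderOf_dvd_natCard haH
  let R : Sylow r H := default
  have hRn : (R : Subgroup H).Normal := CfsgLib.Transfer.sylow_normal_of_isNilpotent R
  have : Nontrivial (R : Subgroup H) :=
    (Subgroup.nontrivial_iff_ne_bot _).mpr (R.ne_bot_of_dvd_card hrH)
  have := R.isPGroup'.center_nontrivial
  -- an element of order `r` in the centre of `H`
  obtain ⟨z, hz⟩ := exists_ne (1 : Subgroup.center (R : Subgroup H))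
  have hzC : ∀ b : H, ((z : (R : Subgroup H)) : H) * b = b * ((z : (R : Subgroup H)) : H) := by
    intro b
    have hb : b ∈ (R : Subgroup H) ⊔ Subgroup.centralizer ((R : Subgroup H) : Set H) :=
      CfsgLib.Transfer.sylow_sup_centralizer_eq_top R ▸ Subgroup.mem_top b
    rw [Subgroup.mem_sup_of_normal_left] at hb
    obtain ⟨k, hk, c, hc, rfl⟩ := hb
    have h1 : ((z : (R : Subgroup H)) : H) * k = k * ((z : (R : Subgroup H)) : H) :=
      congrArg Subtype.val (Subgroup.mem_center_iff.mp z.2 ⟨k, hk⟩).symm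
    have h2 := Subgroup.mem_centralizer_iff.mp hc _ (z : (R : Subgroup H)).2
    rw [← mul_assoc, h1, mul_assoc, h2, mul_assoc]
  let W : Subgroup G :=
    { carrier := {w | w ∈ (Subgroup.center H).map H.subtype ∧ w ^ r = 1}
      one_mem' := ⟨one_mem _, one_pow r⟩
      mul_mem' := by
        rintro u v ⟨hu, hu'⟩ ⟨hv, hv'⟩
        refine ⟨mul_mem hu hv, ?_⟩
        obtain ⟨u', hu0, rfl⟩ := hu
        obtain ⟨v', -, rfl⟩ := hv
        rw [← map_mul, ← map_pow, (show Commute u' v' from
          (Subgroup.mem_center_iff.mp hu0 v').symm).mul_pow, map_mul, map_pow, map_pow, hu', hv',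
          mul_one]
      inv_mem' := fun {u} hu => ⟨inv_mem hu.1, by rw [inv_pow, hu.2, inv_one]⟩ }
  have hWn : W.Normal := ⟨fun w hw g => ⟨(CfsgLib.PSolvable.normal_map_of_characteristic H
      (Subgroup.center H)).conj_mem w hw.1 g, by rw [conj_pow, hw.2]; group⟩⟩
  have hWC : ∀ w ∈ W, ∀ h ∈ H, w * h = h * w := by
    rintro w ⟨⟨w', hw', rfl⟩, -⟩ h hh
    exact (congrArg Subtype.val (Subgroup.mem_center_iff.mp hw' ⟨h, hh⟩)).symm
  have hWH : ∀ w ∈ W, w ∈ H := fun w hw => Subgroup.map_subtype_le _ hw.1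
  have hWc : IsMulCommutative W := ⟨⟨fun u v => Subtype.ext (hWC u u.2 v (hWH v v.2))⟩⟩
  have hWne : W ≠ ⊥ := by
    intro hb
    set z' : G := (((z : (R : Subgroup H)) : H) : G) with hz'
    have hrz : r ∣ orderOf z' := by
      obtain ⟨k, hk⟩ := R.isPGroup' (z : (R : Subgroup H))
      have h1 : orderOf z' ∣ r ^ k := orderOf_dvd_of_pow_eq_one (by
        rw [hz', ← Subgroup.coe_pow, ← Subgroup.coe_pow, hk]; rfl)
      obtain ⟨j, -, hj⟩ := (Nat.dvd_prime_pow hr).mp h1
      rcases j with _ | j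
      · have e : z' = 1 := orderOf_eq_one_iff.mp (by rw [hj, pow_zero])
        exact absurd (Subtype.ext (Subtype.ext (Subtype.ext e))) hz
      · exact hj ▸ dvd_pow_self r j.succ_ne_zero
    have hmem : z' ^ (orderOf z' / r) ∈ W :=
      ⟨((Subgroup.center H).map H.subtype).pow_mem
        ⟨_, Subgroup.mem_center_iff.mpr fun b => (hzC b).symm, rfl⟩ _, by
        rw [← pow_mul, Nat.div_mul_cancel hrz, pow_orderOf_eq_one]⟩
    rw [hb, Subgroup.mem_bot] at hmem
    exact pow_ne_one_of_lt_orderOf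
      (Nat.div_pos (Nat.le_of_dvd (orderOf_pos _) hrz) hr.pos).ne'
      (Nat.div_lt_self (orderOf_pos _) hr.one_lt) hmem
  have hexp : ∀ w ∈ W, w ^ r = 1 := fun w hw => hw.2
  -- elements outside act without fixed points
  have hfpf : ∀ g : G, g ∉ H → ∀ w ∈ W, g * w * g⁻¹ = w → w = 1 := by
    intro g hg w hw he
    have hc : Commute w g := (mul_inv_eq_iff_eq_mul.mp he).symm
    have hwg : (w * g) ^ p = 1 := hout _ fun hm => hg (by
      simpa using H.mul_mem (H.inv_mem (hWH w hw)) hm)
    rw [hc.mul_pow, hout g hg, mul_one] at hwg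
    have h1 := orderOf_dvd_of_pow_eq_one hwg
    have h2 := orderOf_dvd_of_pow_eq_one hw.2
    exact orderOf_eq_one_iff.mp (Nat.eq_one_of_dvd_coprimes ((Nat.coprime_primes hr hp).mpr hrp) h2 h1)
  -- the quotient
  set Q := G ⧸ H with hQdef
  have hQexp : ∀ g : Q, g ^ p = 1 := by
    intro g
    induction g using QuotientGroup.induction_on with
    | H g =>
    by_cases hg : g ∈ H
    · rw [(QuotientGroup.eq_one_iff g).mpr hg, one_pow]
    · rw [← QuotientGroup.mk_pow, hout g hg]; rfl
  have hQp : IsPGroup p Q := fun g => ⟨1, by rw [pow_one]; exact hQexp g⟩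
  have : Nontrivial Q := ⟨⟨(x : Q), 1, fun e => hx ((QuotientGroup.eq_one_iff x).mp e)⟩⟩
  have := hQp.center_nontrivial
  obtain ⟨⟨c, hc⟩, hc1⟩ := exists_ne (1 : Subgroup.center Q)
  obtain ⟨a', rfl⟩ := QuotientGroup.mk_surjective c
  have ha'H : a' ∉ H := fun h => hc1 (Subtype.ext ((QuotientGroup.eq_one_iff a').mpr h))
  have horder : orderOf (a' : Q) = p :=
    orderOf_eq_prime (hQexp _) fun e => ha'H ((QuotientGroup.eq_one_iff a').mp e)
  by_cases htop : Subgroup.zpowers (a' : Q) = ⊤
  · show H.index = p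
    rw [Subgroup.index, ← horder, ← Nat.card_zpowers, htop, Subgroup.card_top]
  exfalso
  obtain ⟨bq, hbq⟩ : ∃ bq : Q, bq ∉ Subgroup.zpowers (a' : Q) := by
    by_contra hcon
    push Not at hcon
    exact htop (eq_top_iff.mpr fun g _ => hcon g)
  obtain ⟨b, rfl⟩ := QuotientGroup.mk_surjective bq
  have hbH : b ∉ H := fun h => hbq (by rw [(QuotientGroup.eq_one_iff b).mpr h]; exact one_mem _)
  have hexp' := exp_nsmul r W hexp
  letI := expModule r W hexp'
  have : Nontrivial (Additive W) := (Subgroup.nontrivial_iff_ne_bot W).mpr hWne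
  have hkey : ∀ g g' : G, (g : Q) = (g' : Q) → conjEnd r W g = conjEnd r W g' := by
    intro g g' he
    have hm : g⁻¹ * g' ∈ H := QuotientGroup.eq.mp he
    refine LinearMap.ext fun v => Additive.toMul.injective (Subtype.ext ?_)
    rw [conjEnd_apply, conjEnd_apply]
    set w : G := ((Additive.toMul v : W) : G)
    have hw := hWC w (Additive.toMul v : W).2 _ hm
    calc g * w * g⁻¹ = g * (w * (g⁻¹ * g')) * (g⁻¹ * g')⁻¹ * g⁻¹ := by group
      _ = g * ((g⁻¹ * g') * w) * (g⁻¹ * g')⁻¹ * g⁻¹ := by rw [hw]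
      _ = _ := by group
  refine false_of_rank_two hrp (conjEnd r W a') (conjEnd r W b) ?_
    (conjEnd_zpow_facts W a' (hout a' ha'H)) (conjEnd_zpow_facts W b (hout b hbH))
    (conjEnd_fpf W a' (hfpf a' ha'H)) (conjEnd_fpf W b (hfpf b hbH)) fun i hi v hv => ?_
  · show conjEnd r W a' * conjEnd r W b = conjEnd r W b * conjEnd r W a'
    rw [← conjEnd_comp, ← conjEnd_comp]
    exact hkey _ _ (Subgroup.mem_center_iff.mp hc (b : Q)).symm
  · rw [← conjEnd_npow, ← conjEnd_comp] at hv
    refine conjEnd_fpf W _ (hfpf _ fun hm => ?_) v hv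
    have h1 : (a' : Q) * (b : Q) ^ i = 1 := (QuotientGroup.eq_one_iff _).mpr hm
    rcases Nat.eq_zero_or_pos i with hi0 | hi0
    · rw [hi0, pow_zero, mul_one] at h1
      exact ha'H ((QuotientGroup.eq_one_iff a').mp h1)
    · obtain ⟨m, hm'⟩ := exists_pow_eq_self_of_coprime (x := (b : Q)) (n := i) (by
        have : orderOf (b : Q) ∣ p := orderOf_dvd_of_pow_eq_one (hQexp _)
        exact Nat.Coprime.coprime_dvd_right this
          ((hp.coprime_iff_not_dvd.mpr fun h => (Nat.le_of_dvd hi0 h).not_gt hi).symm))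
      apply hbq
      rw [← hm', eq_inv_of_mul_eq_one_right h1]
      exact pow_mem (inv_mem (Subgroup.mem_zpowers _)) m

end Cfsg.Agent.S4249
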