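import Cfsg.Statements.S4250
import Cfsg.Agent.Lib.Transfer.Alperin
import Cfsg.Agent.Lib.Transfer.Focal

set_option autoImplicit false
set_option linter.style.haveILetI false
open Cfsg

namespace Cfsg.Agent.S4250

open scoped commutatorElement

theorem chain_mem {G : Type*} [Group G] [Finite G] {p : ℕ} (P : Sylow p G) (R : Subgroup G) (c : ℕ)
    (hstep : ∀ D, CfsgLib.Transfer.IsTameInter P D → c ≤ Nat.card D →
      ∀ x ∈ Subgroup.normalizer (D : Set G), ∀ a ∈ D, a⁻¹ * (x⁻¹ * a * x) ∈ R)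
    {A : Set G} {g : G} (h : CfsgLib.Transfer.Chain (fun D _ => CfsgLib.Transfer.IsTameInter P D) A g)
    (hA : c ≤ Nat.card A) : ∀ a ∈ A, a⁻¹ * (g⁻¹ * a * g) ∈ R := by
  induction h with
  | nil A => intro a _; simp [one_mem R]
  | @cons A x k D hS hx hAD _ ih =>
    intro a ha
    have h1 := hstep D hS (hA.trans (Nat.card_mono (Set.toFinite _) hAD)) x hx a (hAD ha)
    have h2 := ih (by rwa [CfsgLib.Transfer.card_rconj]) (x⁻¹ * a * x) ⟨a, ha, rfl⟩
    have h3 := mul_mem h1 h2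
    rwa [show a⁻¹ * (x⁻¹ * a * x) * ((x⁻¹ * a * x)⁻¹ * (k⁻¹ * (x⁻¹ * a * x) * k)) =
      a⁻¹ * ((x * k)⁻¹ * a * (x * k)) by group] at h3


/-- Let P be a Sylow p-subgroup of a finite group G. Call an intersection H = P ∩ Q with a Sylow p-subgroup Q tame when N_P(H) and N_Q(H) are Sylow p-subgroups of N_G(H). Then P ∩ G′ is generated by [P, N_G(P)] together with the commutator subgroups [P ∩ Q, ⟨x⟩] for all tame intersections P ∩ Q and all p-elements x of N_G(P ∩ Q). -/
theorem result {G : Type*} [Group G] [Finite G] (p : ℕ) [Fact p.Prime] (P : Sylow p G) :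
    (P : Subgroup G) ⊓ commutator G =
      ⁅(P : Subgroup G), Subgroup.normalizer ((P : Subgroup G) : Set G)⁆ ⊔
        ⨆ (Q : Sylow p G) (_ : (¬ p ∣ ((P : Subgroup G) ⊓ Subgroup.normalizer (((P : Subgroup G) ⊓ (Q : Subgroup G) : Subgroup G) : Set G)).relIndex (Subgroup.normalizer (((P : Subgroup G) ⊓ (Q : Subgroup G) : Subgroup G) : Set G)) ∧ ¬ p ∣ ((Q : Subgroup G) ⊓ Subgroup.normalizer (((P : Subgroup G) ⊓ (Q : Subgroup G) : Subgroup G) : Set G)).relIndex (Subgroup.normalizer (((P : Subgroup G) ⊓ (Q : Subgroup G) : Subgroup G) : Set G))))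
          (x : G) (_ : x ∈ Subgroup.normalizer (((P : Subgroup G) ⊓ (Q : Subgroup G) : Subgroup G) : Set G) ∧ ∃ k : ℕ, orderOf x = p ^ k),
          ⁅(P : Subgroup G) ⊓ (Q : Subgroup G), Subgroup.zpowers x⁆ := by
  classical
  set R : Subgroup G := _ with hR
  change _ = R
  have hPN : ∀ a ∈ (P : Subgroup G), ∀ x ∈ Subgroup.normalizer ((P : Subgroup G) : Set G),
      a⁻¹ * (x⁻¹ * a * x) ∈ R := fun a ha x hx => by
    have h := Subgroup.commutator_mem_commutator (H₁ := (P : Subgroup G))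
      (H₂ := Subgroup.normalizer ((P : Subgroup G) : Set G)) (inv_mem ha) (inv_mem hx)
    rw [commutatorElement_def, inv_inv, inv_inv] at h
    rw [show a⁻¹ * (x⁻¹ * a * x) = a⁻¹ * x⁻¹ * a * x by group]
    exact Subgroup.mem_sup_left h
  have key : ∀ k : ℕ, ∀ D, CfsgLib.Transfer.IsTameInter P D → Nat.card (P : Subgroup G) - Nat.card D = k →
      ∀ x ∈ Subgroup.normalizer (D : Set G), ∀ a ∈ D, a⁻¹ * (x⁻¹ * a * x) ∈ R := by
    intro k
    induction k using Nat.strong_induction_on with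
    | _ k IH =>
    rintro D ⟨Q, rfl, h1, h2⟩ hk
    set D := (P : Subgroup G) ⊓ (Q : Subgroup G) with hD
    by_cases hDP : D = (P : Subgroup G)
    · rw [hDP]
      exact fun x hx a ha => hPN a ha x hx
    set N := Subgroup.normalizer (D : Set G) with hN
    set T := (P : Subgroup G) ⊓ N with hT
    have hDT : D < T := by
      refine lt_of_le_of_ne (le_inf inf_le_left Subgroup.le_normalizer) fun e => ?_
      haveI : Group.IsNilpotent (P : Subgroup G) := P.2.isNilpotent
      have hlt : D.subgroupOf (P : Subgroup G) < ⊤ := lt_top_iff_ne_top.mpr fun e' =>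
        hDP (le_antisymm inf_le_left (Subgroup.subgroupOf_eq_top.mp e'))
      obtain ⟨y, hy, hyD⟩ := SetLike.exists_of_lt
        (Group.normalizerCondition_of_isNilpotent (G := (P : Subgroup G)) _ hlt)
      refine hyD (e.ge ⟨y.2, Subgroup.mem_normalizer_iff.mpr fun z => ⟨fun hz => ?_, fun hz => ?_⟩⟩)
      · exact (Subgroup.mem_normalizer_iff.mp hy ⟨z, hz.1⟩).mp hz
      · have hzP : z ∈ (P : Subgroup G) := by
          have := mul_mem (mul_mem (inv_mem y.2) hz.1) y.2
          simpa [mul_assoc] using this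
        exact (Subgroup.mem_normalizer_iff.mp hy ⟨z, hzP⟩).mpr hz
    have hcard : Nat.card D < Nat.card T := Set.Finite.card_lt_card (Set.toFinite _) hDT
    let M : Subgroup N :=
      { carrier := {x | ∀ a ∈ D, a⁻¹ * ((x : G)⁻¹ * a * (x : G)) ∈ R}
        one_mem' := fun a _ => by simp [one_mem R]
        mul_mem' := fun {x y} hx hy a ha => by
          have hb : (x : G)⁻¹ * a * (x : G) ∈ D := by
            have := (Subgroup.mem_normalizer_iff.mp (inv_mem x.2) a).mp ha
            rwa [inv_inv] at this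
          have h3 := mul_mem (hx a ha) (hy _ hb)
          show a⁻¹ * (((x : G) * y)⁻¹ * a * ((x : G) * y)) ∈ R
          rwa [show a⁻¹ * ((x : G)⁻¹ * a * x) * (((x : G)⁻¹ * a * x)⁻¹ * ((y : G)⁻¹ * ((x : G)⁻¹ * a * x) * y)) =
            a⁻¹ * (((x : G) * y)⁻¹ * a * ((x : G) * y)) by group] at h3
        inv_mem' := fun {x} hx a ha => by
          have h3 := inv_mem (hx _ ((Subgroup.mem_normalizer_iff.mp x.2 a).mp ha))
          show a⁻¹ * ((x : G)⁻¹⁻¹ * a * (x : G)⁻¹) ∈ R
          rwa [show (((x : G) * a * (x : G)⁻¹)⁻¹ * ((x : G)⁻¹ * ((x : G) * a * (x : G)⁻¹) * x))⁻¹ =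
            a⁻¹ * ((x : G)⁻¹⁻¹ * a * (x : G)⁻¹) by group] at h3 }
    let L : Subgroup N := Subgroup.closure {x : N | ∃ j : ℕ, orderOf x = p ^ j}
    have hLn : L.Normal := by
      rw [← Subgroup.normalizer_eq_top_iff, eq_top_iff]
      refine fun n _ => Subgroup.mem_normalizer_iff_map_conj_eq.mpr ?_
      rw [MonoidHom.map_closure]
      congr 1
      ext y
      constructor
      · rintro ⟨x, ⟨j, hj⟩, rfl⟩
        exact ⟨j, (MulEquiv.orderOf_eq (MulAut.conj n) x).trans hj⟩
      · rintro ⟨j, hj⟩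
        exact ⟨n⁻¹ * y * n, ⟨j, by rw [show n⁻¹ * y * n = MulAut.conj n⁻¹ y by simp, MulEquiv.orderOf_eq, hj]⟩,
          by simp [mul_assoc]⟩
    have hLM : L ≤ M := by
      refine (Subgroup.closure_le _).mpr fun x hx a ha => ?_
      obtain ⟨j, hj⟩ := hx
      refine Subgroup.mem_sup_right (Subgroup.mem_iSup_of_mem Q (Subgroup.mem_iSup_of_mem ⟨h1, h2⟩
        (Subgroup.mem_iSup_of_mem (x : G) (Subgroup.mem_iSup_of_mem ⟨x.2, j, by rw [Subgroup.orderOf_coe, hj]⟩ ?_))))
      have h := Subgroup.commutator_mem_commutator (H₁ := D) (H₂ := Subgroup.zpowers (x : G)) (inv_mem ha)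
        (inv_mem (Subgroup.mem_zpowers _))
      rw [commutatorElement_def, inv_inv, inv_inv] at h
      rwa [show a⁻¹ * ((x : G)⁻¹ * a * x) = a⁻¹ * (x : G)⁻¹ * a * x by group]
    have hS : IsPGroup p ((P : Subgroup G).subgroupOf N) := P.2.comap_of_injective _ N.subtype_injective
    have hidx : ¬ p ∣ ((P : Subgroup G).subgroupOf N).index := by
      rwa [Subgroup.inf_relIndex_right] at h1
    haveI := hLn
    have hfr := Sylow.normalizer_sup_eq_top' (N := L) (hS.toSylow hidx) (fun x hx => by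
      obtain ⟨j, hj⟩ := IsPGroup.iff_orderOf.mp hS ⟨x, hx⟩
      rw [← Subgroup.orderOf_coe] at hj
      exact Subgroup.subset_closure ⟨j, hj⟩)
    intro x hx
    suffices hM : (⟨x, hx⟩ : N) ∈ M from hM
    have hx' : (⟨x, hx⟩ : N) ∈ (Subgroup.normalizer (((P : Subgroup G).subgroupOf N : Subgroup N) : Set N)) ⊔ L := by
      rw [show (Subgroup.normalizer (((P : Subgroup G).subgroupOf N : Subgroup N) : Set N)) ⊔ L = ⊤ from hfr]
      exact Subgroup.mem_top _
    refine (sup_le (fun n hn a ha => ?_) hLM) hx'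
    have hmemT : ∀ z ∈ (T : Set G), (n : G)⁻¹ * z * n ∈ (P : Subgroup G) := fun z hz => by
      have := (Subgroup.mem_normalizer_iff.mp (inv_mem hn) ⟨z, hz.2⟩).mp hz.1
      rw [inv_inv] at this
      exact this
    have hch := CfsgLib.Transfer.alperin_set P (A := (T : Set G)) (g := (n : G)) (fun z hz => hz.1)
      (by rintro _ ⟨z, hz, rfl⟩; exact hmemT z hz)
    refine chain_mem P R (Nat.card T) (fun D' hD' hc => IH _ ?_ D' hD' rfl) hch le_rfl a (hDT.le ha)
    have h3 : Nat.card D' ≤ Nat.card (P : Subgroup G) := by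
      obtain ⟨Q', rfl, -⟩ := hD'
      exact Subgroup.card_le_of_le inf_le_left
    omega
  refine le_antisymm ?_ ?_
  · rw [inf_comm, Subgroup.commutator_inf_eq_focalSubgroup, Subgroup.focalSubgroup_def, Subgroup.closure_le]
    rintro _ ⟨hzP, x, hx, u, rfl⟩
    have hux : u * x⁻¹ * u⁻¹ ∈ (P : Subgroup G) := by
      have := mul_mem (inv_mem hx) hzP
      rwa [commutatorElement_def, show x⁻¹ * (x * u * x⁻¹ * u⁻¹) = u * x⁻¹ * u⁻¹ by group] at this
    have hch := CfsgLib.Transfer.alperin_set P (A := {x⁻¹}) (g := u⁻¹) (Set.singleton_subset_iff.mpr (inv_mem hx))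
      (by rintro _ ⟨z, rfl : z = x⁻¹, rfl⟩; rw [inv_inv]; exact hux)
    have := chain_mem P R 0 (fun D hD _ => key _ D hD rfl) hch (Nat.zero_le _) x⁻¹ rfl
    rwa [inv_inv, inv_inv, show x * (u * x⁻¹ * u⁻¹) = ⁅x, u⁆ by rw [commutatorElement_def]; group] at this
  · refine sup_le (le_inf ?_ (Subgroup.commutator_mono le_top le_top)) (iSup_le fun Q => iSup_le fun _ =>
      iSup_le fun x => iSup_le fun hx => le_inf ?_ (Subgroup.commutator_mono le_top le_top))
    · exact Subgroup.commutator_le.mpr fun a ha b hb => by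
        rw [commutatorElement_def, show a * b * a⁻¹ * b⁻¹ = a * (b * a⁻¹ * b⁻¹) by group]
        exact mul_mem ha ((Subgroup.mem_normalizer_iff.mp hb _).mp (inv_mem ha))
    · exact Subgroup.commutator_le.mpr fun a ha b hb => by
        rw [commutatorElement_def, show a * b * a⁻¹ * b⁻¹ = a * (b * a⁻¹ * b⁻¹) by group]
        exact mul_mem ha.1 ((Subgroup.mem_normalizer_iff.mp ((Subgroup.zpowers_le.mpr hx.1) hb) _).mp (inv_mem ha)).1
end Cfsg.Agent.S4250
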