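import Cfsg.Statements.S4251
import Cfsg.Agent.Lib.Transfer.Frobenius

set_option autoImplicit false
set_option linter.style.haveILetI false
open Cfsg

namespace Cfsg.Agent.S4251

/-- Let P be a Sylow p-subgroup of a finite group G. Call an intersection H = P ∩ Q with a Sylow p-subgroup Q tame when N_P(H) and N_Q(H) are Sylow p-subgroups of N_G(H). If N_G(H)/C_G(H) is a p-group for every nontrivial tame intersection H = P ∩ Q, then G has a normal p-complement. -/
theorem result {G : Type*} [Group G] [Finite G] (p : ℕ) [Fact p.Prime] (P : Sylow p G)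
    (h : ∀ Q : Sylow p G, (P : Subgroup G) ⊓ (Q : Subgroup G) ≠ ⊥ → (¬ p ∣ ((P : Subgroup G) ⊓ Subgroup.normalizer (((P : Subgroup G) ⊓ (Q : Subgroup G) : Subgroup G) : Set G)).relIndex (Subgroup.normalizer (((P : Subgroup G) ⊓ (Q : Subgroup G) : Subgroup G) : Set G)) ∧ ¬ p ∣ ((Q : Subgroup G) ⊓ Subgroup.normalizer (((P : Subgroup G) ⊓ (Q : Subgroup G) : Subgroup G) : Set G)).relIndex (Subgroup.normalizer (((P : Subgroup G) ⊓ (Q : Subgroup G) : Subgroup G) : Set G))) →
      IsPGroup p (Subgroup.normalizer (((P : Subgroup G) ⊓ (Q : Subgroup G) : Subgroup G) : Set G) ⧸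
        (Subgroup.centralizer (((P : Subgroup G) ⊓ (Q : Subgroup G) : Subgroup G) : Set G)).subgroupOf
          (Subgroup.normalizer (((P : Subgroup G) ⊓ (Q : Subgroup G) : Subgroup G) : Set G)))) :
    Cfsg.HasNormalPComplement p G := by
  classical
  refine CfsgLib.Transfer.hasNormalPComplement_of_no_fusion P fun x hx g hgx => ?_
  obtain ⟨k, hk, hk'⟩ := (CfsgLib.Transfer.alperin_set P (A := {x}) (g := g⁻¹)
    (Set.singleton_subset_iff.mpr hx)
    (by rintro _ ⟨a, rfl : a = x, rfl⟩; change g⁻¹⁻¹ * a * g⁻¹ ∈ (P : Subgroup G); rwa [inv_inv])).exists_mem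
    (P : Subgroup G) (by
    rintro D y ⟨Q, rfl, h1, h2⟩ hy
    set D := (P : Subgroup G) ⊓ (Q : Subgroup G) with hD
    by_cases hD0 : D = ⊥
    · refine ⟨1, one_mem _, fun a ha => ?_⟩
      rw [hD0, Subgroup.mem_bot] at ha
      simp [ha]
    set N := Subgroup.normalizer (D : Set G) with hN
    have hq := h Q hD0 ⟨h1, h2⟩
    set C := (Subgroup.centralizer (D : Set G)).subgroupOf N with hC
    have hS : IsPGroup p ((P : Subgroup G).subgroupOf N) := P.2.comap_of_injective _ N.subtype_injective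
    have hidx : ¬ p ∣ ((P : Subgroup G).subgroupOf N).index := by
      rwa [Subgroup.inf_relIndex_right] at h1
    let T : Sylow p (N ⧸ C) := (hS.toSylow hidx).mapSurjective (QuotientGroup.mk'_surjective C)
    have hT : (T : Subgroup (N ⧸ C)) = ⊤ := (T.3 (hq.to_subgroup ⊤) le_top).symm
    have hy' : QuotientGroup.mk' C ⟨y, hy⟩ ∈ (T : Subgroup (N ⧸ C)) := by rw [hT]; trivial
    rw [Sylow.coe_mapSurjective, IsPGroup.toSylow_coe] at hy'
    obtain ⟨s, hs, hse⟩ := hy'
    refine ⟨(s : G), hs, fun a ha => ?_⟩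
    have hc : (s : G) * y⁻¹ ∈ Subgroup.centralizer (D : Set G) := by
      have : s * (⟨y, hy⟩ : N)⁻¹ ∈ C := by
        rw [← QuotientGroup.eq_one_iff, QuotientGroup.mk_mul, QuotientGroup.mk_inv]
        exact mul_inv_eq_one.mpr hse
      exact this
    calc (s : G)⁻¹ * a * (s : G) = y⁻¹ * (((s : G) * y⁻¹)⁻¹ * (a * ((s : G) * y⁻¹))) * y := by group
      _ = y⁻¹ * (((s : G) * y⁻¹)⁻¹ * (((s : G) * y⁻¹) * a)) * y := by rw [Subgroup.mem_centralizer_iff.mp hc a ha]
      _ = y⁻¹ * a * y := by group)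
  refine ⟨k⁻¹, inv_mem hk, ?_⟩
  rw [inv_inv, hk' x rfl, inv_inv]
end Cfsg.Agent.S4251
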