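import Cfsg.Statements.S4253
import Mathlib

set_option autoImplicit false
open Pointwise
open Cfsg

namespace Cfsg.Agent.S4253

/-- Let H be a Frobenius complement in a finite group G (a nontrivial proper subgroup meeting each conjugate gHg⁻¹ with g outside H trivially). Then in the action of G on the left cosets of H by left multiplication, no non-identity element of G fixes two distinct cosets. -/
theorem result {G : Type*} [Group G] [Finite G] (H : Subgroup G) (hH : Cfsg.IsFrobeniusComplement H)
    (g : G) (hg : g ≠ 1) (a b : G ⧸ H) (ha : g • a = a) (hb : g • b = b) : a = b := by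
  obtain ⟨x, rfl⟩ := QuotientGroup.mk_surjective a
  obtain ⟨y, rfl⟩ := QuotientGroup.mk_surjective b
  rw [MulAction.Quotient.smul_mk, QuotientGroup.eq, smul_eq_mul] at ha hb
  rw [QuotientGroup.eq]
  by_contra ht
  have hA : x⁻¹ * g * x ∈ H := by
    have := H.inv_mem ha
    simpa [mul_assoc] using this
  have hB : y⁻¹ * g * y ∈ H := by
    have := H.inv_mem hb
    simpa [mul_assoc] using this
  have h := hH.2.2 (x⁻¹ * y) ht
  have hmem : x⁻¹ * g * x ∈ H ⊓ (MulAut.conj (x⁻¹ * y) • H) := by
    refine Subgroup.mem_inf.mpr ⟨hA, ?_⟩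
    rw [Subgroup.mem_pointwise_smul_iff_inv_smul_mem, ← map_inv, MulAut.smul_def, MulAut.conj_apply]
    simpa [mul_assoc] using hB
  rw [h, Subgroup.mem_bot] at hmem
  apply hg
  have := congrArg (fun u => x * u * x⁻¹) hmem
  simpa [mul_assoc] using this

end Cfsg.Agent.S4253
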