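import Cfsg.Statements.S4255
import Cfsg.Agent.Lib.ClassGraph.Disconnected

set_option autoImplicit false
open Cfsg

namespace Cfsg.Agent.S4255

/-- Let G be a finite group. Call a prime a vertex if it divides some conjugacy class size of G, and two distinct vertices adjacent if their product divides some class size. Suppose this graph is disconnected: the vertices split into two nonempty parts with no vertex of one part adjacent to a vertex of the other. Then G/Z(G) is a Frobenius group with abelian Frobenius complement and with a Frobenius kernel all of whose elements commute. -/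
theorem result {G : Type*} [Group G] [Finite G] (S : Set ℕ) (hS : ∃ p ∈ S, (p.Prime ∧ ∃ g : G, p ∣ (Subgroup.centralizer ({g} : Set G)).index)) (hS' : ∃ q ∉ S, (q.Prime ∧ ∃ g : G, q ∣ (Subgroup.centralizer ({g} : Set G)).index))
    (hdisc : ∀ p q : ℕ, (p.Prime ∧ ∃ g : G, p ∣ (Subgroup.centralizer ({g} : Set G)).index) → (q.Prime ∧ ∃ g : G, q ∣ (Subgroup.centralizer ({g} : Set G)).index) → p ∈ S → q ∉ S → ¬ (∃ g : G, p * q ∣ (Subgroup.centralizer ({g} : Set G)).index)) :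
    ∃ H : Subgroup (G ⧸ Subgroup.center G), Cfsg.IsFrobeniusComplement H ∧ IsMulCommutative H ∧
      ∀ x ∈ Cfsg.frobeniusKernel H, ∀ y ∈ Cfsg.frobeniusKernel H, x * y = y * x := by
  classical
  obtain ⟨p0, hp0S, hp0, g0, hg0⟩ := hS
  obtain ⟨q0, hq0S, hq0, g1, hg1⟩ := hS'
  have hex : ∃ c : ℕ, 1 < c ∧ ∃ g : G, (Subgroup.centralizer ({g} : Set G)).index = c :=
    ⟨_, lt_of_lt_of_le hp0.one_lt (Nat.le_of_dvd
      (Nat.pos_of_ne_zero Subgroup.index_ne_zero_of_finite) hg0), g0, rfl⟩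
  obtain ⟨hc1, x, hx⟩ := Nat.find_spec hex
  have hmin : ∀ g : G, 1 < (Subgroup.centralizer ({g} : Set G)).index →
      (Subgroup.centralizer ({x} : Set G)).index ≤ (Subgroup.centralizer ({g} : Set G)).index :=
    fun g hg => hx ▸ Nat.find_min' hex ⟨hg, g, rfl⟩
  obtain ⟨p, hp, hpx⟩ := Nat.exists_prime_and_dvd (ne_of_gt hc1)
  rw [← hx] at hpx
  have hsep : ∀ g : G, ∀ t r : ℕ, t.Prime → r.Prime →
      t ∣ (Subgroup.centralizer ({g} : Set G)).index →
      r ∣ (Subgroup.centralizer ({g} : Set G)).index →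
      ((t ∈ S ↔ p ∈ S) ↔ (r ∈ S ↔ p ∈ S)) := by
    intro g t r ht hr htg hrg
    suffices h : t ∈ S ↔ r ∈ S by rw [h]
    by_contra h
    have hne : t ≠ r := fun h' => h (h' ▸ Iff.rfl)
    have hd : t * r ∣ (Subgroup.centralizer ({g} : Set G)).index :=
      ((Nat.coprime_primes ht hr).mpr hne).mul_dvd_of_dvd_of_dvd htg hrg
    by_cases htS : t ∈ S
    · exact hdisc t r ⟨ht, g, htg⟩ ⟨hr, g, hrg⟩ htS (fun hrS => h (iff_of_true htS hrS)) ⟨g, hd⟩
    · exact hdisc r t ⟨hr, g, hrg⟩ ⟨ht, g, htg⟩ (by_contra fun hrS => h (iff_of_false htS hrS))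
        htS ⟨g, mul_comm t r ▸ hd⟩
  obtain ⟨q, hq, y0, hy, hPq⟩ : ∃ q : ℕ, q.Prime ∧ ∃ y : G,
      q ∣ (Subgroup.centralizer ({y} : Set G)).index ∧ ¬ (q ∈ S ↔ p ∈ S) := by
    by_cases hpS : p ∈ S
    · exact ⟨q0, hq0, g1, hg1, fun h => hq0S (h.mpr hpS)⟩
    · exact ⟨p0, hp0, g0, hg0, fun h => hpS (h.mp hp0S)⟩
  obtain ⟨hn, hab, hK, hcop, hfpf⟩ :=
    CfsgLib.ClassGraph.exists_main (P := fun t => t ∈ S ↔ p ∈ S) hp hq Iff.rfl hPq hpx hy hmin hsep
  exact CfsgLib.ClassGraph.frobenius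
    (CfsgLib.ClassGraph.not_mem_center (hx.symm ▸ hc1)) hn hab hK hcop hfpf

end Cfsg.Agent.S4255
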