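import Cfsg.Statements.S4257
import Cfsg.Agent.Lib.ClassGraph.Connected

set_option autoImplicit false
open Cfsg

namespace Cfsg.Agent.S4257

/-- Let G be a finite group. Call a prime a vertex if it divides some conjugacy class size of G, and two distinct vertices adjacent if their product divides some class size. If this graph is connected, then its diameter is at most 3: any two distinct vertices p and q are adjacent, or joined through one or two intermediate vertices. -/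
theorem result {G : Type*} [Group G] [Finite G]
    (hconn : ∀ S : Set ℕ, (∃ p ∈ S, (p.Prime ∧ ∃ g : G, p ∣ (Subgroup.centralizer ({g} : Set G)).index)) → (∃ q ∉ S, (q.Prime ∧ ∃ g : G, q ∣ (Subgroup.centralizer ({g} : Set G)).index)) →
      ∃ p q : ℕ, (p.Prime ∧ ∃ g : G, p ∣ (Subgroup.centralizer ({g} : Set G)).index) ∧ (q.Prime ∧ ∃ g : G, q ∣ (Subgroup.centralizer ({g} : Set G)).index) ∧ p ∈ S ∧ q ∉ S ∧ (∃ g : G, p * q ∣ (Subgroup.centralizer ({g} : Set G)).index))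
    (p q : ℕ) (hp : (p.Prime ∧ ∃ g : G, p ∣ (Subgroup.centralizer ({g} : Set G)).index)) (hq : (q.Prime ∧ ∃ g : G, q ∣ (Subgroup.centralizer ({g} : Set G)).index)) (hpq : p ≠ q) :
    (∃ g : G, p * q ∣ (Subgroup.centralizer ({g} : Set G)).index) ∨ (∃ r : ℕ, (r.Prime ∧ ∃ g : G, r ∣ (Subgroup.centralizer ({g} : Set G)).index) ∧ r ≠ p ∧ r ≠ q ∧ (∃ g : G, p * r ∣ (Subgroup.centralizer ({g} : Set G)).index) ∧ (∃ g : G, r * q ∣ (Subgroup.centralizer ({g} : Set G)).index)) ∨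
      (∃ r s : ℕ, (r.Prime ∧ ∃ g : G, r ∣ (Subgroup.centralizer ({g} : Set G)).index) ∧ (s.Prime ∧ ∃ g : G, s ∣ (Subgroup.centralizer ({g} : Set G)).index) ∧ r ≠ p ∧ s ≠ q ∧ r ≠ s ∧ r ≠ q ∧ s ≠ p ∧
        (∃ g : G, p * r ∣ (Subgroup.centralizer ({g} : Set G)).index) ∧ (∃ g : G, r * s ∣ (Subgroup.centralizer ({g} : Set G)).index) ∧ (∃ g : G, s * q ∣ (Subgroup.centralizer ({g} : Set G)).index)) := by
  by_contra hno
  simp only [not_or] at hno
  obtain ⟨h1, h2, h3⟩ := hno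
  have hfar : CfsgLib.ClassGraph.Far G p q := by
    intro a b ha hb g1 g2 g3 hpg hag hag2 hbg2 hbg hqg
    have hmul : ∀ {u v : ℕ} {g : G}, u.Prime → v.Prime → u ≠ v →
        u ∣ (Subgroup.centralizer ({g} : Set G)).index →
        v ∣ (Subgroup.centralizer ({g} : Set G)).index →
        ∃ g : G, u * v ∣ (Subgroup.centralizer ({g} : Set G)).index :=
      fun {u v g} hu hv hne h h' =>
        ⟨g, ((Nat.coprime_primes hu hv).mpr hne).mul_dvd_of_dvd_of_dvd h h'⟩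
    have hpq' := hp.1
    have hqq' := hq.1
    by_cases haq : a = q
    · subst haq
      exact h1 (hmul hp.1 hq.1 hpq hpg hag)
    by_cases hbp : b = p
    · subst hbp
      exact h1 (hmul hp.1 hq.1 hpq hbg hqg)
    by_cases hap : a = p
    · subst hap
      by_cases hbq : b = q
      · subst hbq
        exact h1 (hmul hp.1 hq.1 hpq hag2 hbg2)
      · exact h2 ⟨b, ⟨hb, g2, hbg2⟩, hbp, hbq, hmul hp.1 hb (Ne.symm hbp) hag2 hbg2,
          hmul hb hq.1 hbq hbg hqg⟩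
    by_cases hbq : b = q
    · subst hbq
      exact h2 ⟨a, ⟨ha, g2, hag2⟩, hap, haq, hmul hp.1 ha (Ne.symm hap) hpg hag,
        hmul ha hq.1 haq hag2 hbg2⟩
    by_cases hab : a = b
    · subst hab
      exact h2 ⟨a, ⟨ha, g2, hag2⟩, hap, haq, hmul hp.1 ha (Ne.symm hap) hpg hag,
        hmul ha hq.1 haq hbg hqg⟩
    exact h3 ⟨a, b, ⟨ha, g2, hag2⟩, ⟨hb, g2, hbg2⟩, hap, hbq, hab, haq, hbp,
      hmul hp.1 ha (Ne.symm hap) hpg hag, hmul ha hb hab hag2 hbg2,
      hmul hb hq.1 hbq hbg hqg⟩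
  have hconn' : ∀ (u v : ℕ), (u.Prime ∧ ∃ g : G, u ∣ (Subgroup.centralizer ({g} : Set G)).index) →
      (v.Prime ∧ ∃ g : G, v ∣ (Subgroup.centralizer ({g} : Set G)).index) →
      ∀ U : ℕ → Prop, U u → ¬ U v → ∃ a b : ℕ, a.Prime ∧ b.Prime ∧ U a ∧ ¬ U b ∧
        ∃ g : G, a * b ∣ (Subgroup.centralizer ({g} : Set G)).index := by
    intro u v hu hv U hUu hUv
    obtain ⟨a, b, ha, hb, haU, hbU, hg⟩ := hconn {t | U t} ⟨u, hUu, hu⟩ ⟨v, hUv, hv⟩
    exact ⟨a, b, ha.1, hb.1, haU, hbU, hg⟩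
  obtain ⟨x, hx⟩ := hp.2
  obtain ⟨y, hy⟩ := hq.2
  rcases le_total (Subgroup.centralizer ({x} : Set G)).index
      (Subgroup.centralizer ({y} : Set G)).index with hle | hle
  · exact CfsgLib.ClassGraph.not_far hp.1 hq.1 hx hy hle hfar (hconn' p q hp hq)
  · exact CfsgLib.ClassGraph.not_far hq.1 hp.1 hy hx hle hfar.symm (hconn' q p hq hp)

end Cfsg.Agent.S4257
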