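import Cfsg.Statements.S4261
import Mathlib
import Cfsg.Agent.Lib.Hall.Chief
import Cfsg.Agent.Lib.Coprime.Action

set_option autoImplicit false
set_option linter.style.haveILetI false
open Cfsg

namespace Cfsg.Agent.S4261

universe u

theorem main (k : ℕ) : ∀ (G : Type u) [Group G] [Finite G], Nat.card G = k → Group.IsSolvable G →
    ∀ M : Subgroup G, IsCoatom M → (∀ x : G, x ^ M.index ∈ M) →
    ∃ p a : ℕ, p.Prime ∧ M.index = p ^ a := by
  induction k using Nat.strong_induction_on with
  | _ k IH =>
  intro G _ _ hk hG M hM hexp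
  subst hk
  haveI := hG
  haveI : Nontrivial G := by
    by_contra h
    rw [not_nontrivial_iff_subsingleton] at h
    exact hM.1 (Subsingleton.elim _ _)
  obtain ⟨p, hp, N, hN, hNne, hNp, -⟩ := CfsgLib.Hall.exists_normal_pgroup_ne_bot (G := G)
  haveI := hN
  haveI := Fact.mk hp
  set f := QuotientGroup.mk' N
  have hf : Function.Surjective f := QuotientGroup.mk'_surjective N
  by_cases hNM : N ≤ M
  · have hker : f.ker ≤ M := by rwa [QuotientGroup.ker_mk']
    have hidx : (M.map f).index = M.index := Subgroup.index_map_eq _ hf hker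
    have hco : IsCoatom (M.map f) := by
      constructor
      · intro h
        rw [← Subgroup.index_eq_one, hidx, Subgroup.index_eq_one] at h
        exact hM.1 h
      · intro K hK
        have h2 : M < K.comap f := by
          rw [← Subgroup.comap_map_eq_self hker]
          exact (Subgroup.comap_lt_comap_of_surjective hf).mpr hK
        rw [← Subgroup.map_comap_eq_self_of_surjective hf K, hM.2 _ h2,
          Subgroup.map_top_of_surjective _ hf]
    have hlt : Nat.card (G ⧸ N) < Nat.card G := by
      rw [Subgroup.card_eq_card_quotient_mul_card_subgroup N]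
      exact lt_mul_of_one_lt_right Nat.card_pos (N.one_lt_card_iff_ne_bot.mpr hNne)
    obtain ⟨q, a, hq, ha⟩ := IH _ hlt (G ⧸ N) rfl inferInstance _ hco fun y => by
      obtain ⟨x, rfl⟩ := hf y
      rw [hidx, ← map_pow]
      exact Subgroup.mem_map_of_mem f (hexp x)
    exact ⟨q, a, hq, hidx ▸ ha⟩
  · have htop : M ⊔ N = ⊤ := hM.2 _ (left_lt_sup.mpr hNM)
    obtain ⟨b, hb⟩ := IsPGroup.iff_card.mp hNp
    have h1 : M.relIndex (N ⊔ M) * (N ⊔ M).index = M.index :=
      Subgroup.relIndex_mul_index le_sup_right
    have h2 : Nat.card N * Nat.card M = Nat.card G * Nat.card ↥(N ⊓ M) := by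
      have := CfsgLib.Coprime.card_sup_mul_card_inf (K := N) (S := M)
        Subgroup.le_normalizer_of_normal
      rw [sup_comm N M, htop, Subgroup.card_top] at this
      exact this.symm
    have h3 : M.index * Nat.card ↥(N ⊓ M) = p ^ b := by
      rw [← hb]
      refine Nat.eq_of_mul_eq_mul_left (Nat.card_pos (α := M)) ?_
      rw [← mul_assoc, Subgroup.card_mul_index, ← h2, mul_comm]
    obtain ⟨a, -, ha⟩ := (Nat.dvd_prime_pow hp).mp (Dvd.intro _ h3)
    exact ⟨p, a, hp, ha⟩

/-- Let M be a maximal subgroup of a finite solvable group G such that x^[G : M] lies in M for every x in G. Then M is normal in G. -/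
theorem result {G : Type*} [Group G] [Finite G] (hG : Group.IsSolvable G) (M : Subgroup G) (hM : IsCoatom M)
    (hexp : ∀ x : G, x ^ M.index ∈ M) : M.Normal := by
  obtain ⟨p, a, hp, ha⟩ := main _ G rfl hG M hM hexp
  haveI := Fact.mk hp
  set L := Subgroup.closure {x : G | (orderOf x).Coprime p} with hL
  have hLM : L ≤ M := by
    rw [hL, Subgroup.closure_le]
    intro x (hx : (orderOf x).Coprime p)
    obtain ⟨j, hj⟩ := exists_pow_eq_self_of_coprime (x := x) (n := M.index)
      (by rw [ha]; exact (hx.pow_right a).symm)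
    rw [← hj]
    exact M.pow_mem (hexp x) j
  haveI : L.Normal := by
    refine ⟨fun y hy g => ?_⟩
    induction hy using Subgroup.closure_induction with
    | mem x hx => exact Subgroup.subset_closure (show (orderOf (g * x * g⁻¹)).Coprime p by
        have : orderOf (g * x * g⁻¹) = orderOf x :=
          orderOf_injective (MulAut.conj g).toMonoidHom (MulAut.conj g).injective x
        rw [this]; exact hx)
    | one => simp
    | mul x y _ _ hx hy => rw [conj_mul.symm]; exact L.mul_mem hx hy
    | inv x _ hx => rw [← conj_inv]; exact L.inv_mem hx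
  have hQ : IsPGroup p (G ⧸ L) := by
    intro y
    obtain ⟨x, rfl⟩ := QuotientGroup.mk'_surjective L y
    obtain ⟨e, m, hm, hxm⟩ := Nat.exists_eq_pow_mul_and_not_dvd (orderOf_pos x).ne' p hp.ne_one
    refine ⟨e, ?_⟩
    rw [← map_pow]
    refine (QuotientGroup.eq_one_iff _).mpr (Subgroup.subset_closure ?_)
    show (orderOf (x ^ p ^ e)).Coprime p
    rw [orderOf_pow' x (pow_ne_zero e hp.ne_zero), hxm, Nat.gcd_mul_right_left,
      Nat.mul_div_cancel_left _ (pow_pos hp.pos e)]
    exact ((Nat.Prime.coprime_iff_not_dvd hp).mpr hm).symm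
  haveI : Group.IsNilpotent (G ⧸ L) := hQ.isNilpotent
  set f := QuotientGroup.mk' L
  have hf : Function.Surjective f := QuotientGroup.mk'_surjective L
  have hker : f.ker ≤ M := by rwa [QuotientGroup.ker_mk']
  have hco : IsCoatom (M.map f) := by
    constructor
    · intro h
      rw [← Subgroup.index_eq_one, Subgroup.index_map_eq _ hf hker, Subgroup.index_eq_one] at h
      exact hM.1 h
    · intro K hK
      have h2 : M < K.comap f := by
        rw [← Subgroup.comap_map_eq_self hker]
        exact (Subgroup.comap_lt_comap_of_surjective hf).mpr hK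
      rw [← Subgroup.map_comap_eq_self_of_surjective hf K, hM.2 _ h2,
        Subgroup.map_top_of_surjective _ hf]
  have hn : (M.map f).Normal := Subgroup.NormalizerCondition.normal_of_coatom _ normalizerCondition_of_isNilpotent hco
  rw [← Subgroup.comap_map_eq_self hker]
  exact hn.comap f

end Cfsg.Agent.S4261
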