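import Cfsg.Statements.S4263
import Cfsg.Agent.Lib.Fitting.Basic

set_option autoImplicit false
open Cfsg

namespace Cfsg.Agent.S4263

/-- Let G be a finite group. An element x lies in the Fitting subgroup F(G) if and only if, for every subgroup H of G, the power x^[G : H] lies in H. -/
theorem result {G : Type*} [Group G] [Finite G] (x : G) :
    x ∈ Cfsg.fittingSubgroup G ↔ ∀ H : Subgroup G, x ^ H.index ∈ H := by
  haveI hFn : (Cfsg.fittingSubgroup G).Normal := CfsgLib.Fitting.fittingSubgroup_normal
  constructor
  · intro hx H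
    haveI : Group.IsNilpotent (Cfsg.fittingSubgroup G) :=
      CfsgLib.Fitting.fittingSubgroup_isNilpotent
    have h := CfsgLib.Fitting.pow_index_mem_of_isNilpotent
      (H.subgroupOf (Cfsg.fittingSubgroup G)) ⟨x, hx⟩
    rw [Subgroup.mem_subgroupOf, SubmonoidClass.coe_pow] at h
    obtain ⟨k, hk⟩ := CfsgLib.Fitting.relIndex_dvd_index_of_normal_right H (Cfsg.fittingSubgroup G)
    rw [hk, pow_mul]
    exact H.pow_mem h k
  · intro h
    rw [← QuotientGroup.eq_one_iff, ← orderOf_eq_one_iff]
    by_contra hne
    obtain ⟨q, hq, hqd⟩ := Nat.exists_prime_and_dvd hne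
    haveI := Fact.mk hq
    obtain ⟨P⟩ := (inferInstance : Nonempty (Sylow q G))
    have hmem : x ^ (P : Subgroup G).index ∈ Cfsg.fittingSubgroup G := by
      apply CfsgLib.Fitting.pCore_le_fittingSubgroup q
      rw [CfsgLib.Fitting.mem_pCore_iff_forall_sylow]
      intro Q
      have hidx : (P : Subgroup G).index = (Q : Subgroup G).index := by
        have hP := (P : Subgroup G).card_mul_index
        have hQ := (Q : Subgroup G).card_mul_index
        rw [Sylow.card_eq_multiplicity] at hP hQ
        exact Nat.eq_of_mul_eq_mul_left (pow_pos hq.pos _) (hP.trans hQ.symm)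
      rw [hidx]
      exact h _
    rw [← QuotientGroup.eq_one_iff, QuotientGroup.mk_pow, ← orderOf_dvd_iff_pow_eq_one] at hmem
    exact P.not_dvd_index (hqd.trans hmem)

end Cfsg.Agent.S4263
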