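import Cfsg.Agent.Lib.KR.Linear
-- import your own Cfsg.Agent.* helpers here

set_option autoImplicit false
open Cfsg

namespace Cfsg.Agent.S4265

/-- Let G be a finite solvable subgroup of GL_r(ℂ), r ≥ 1, with Fitting subgroup F(G) normal in G. Then for every subgroup H of G the quotient H/(H ∩ F(G)) has at most 3^{r−1} conjugacy classes. -/
theorem result (r : ℕ) (hr : 1 ≤ r) (G : Subgroup (GL (Fin r) ℂ)) [Finite ↥G] (hsolv : Group.IsSolvable ↥G) [hF : (Cfsg.fittingSubgroup ↥G).Normal] (H : Subgroup ↥G) : Nat.card (ConjClasses (↥H ⧸ (Cfsg.fittingSubgroup ↥G).subgroupOf H)) ≤ 3 ^ (r - 1) := by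
  classical
  let ρ : ↥G →* ((Fin r → ℂ) ≃ₗ[ℂ] (Fin r → ℂ)) :=
    (LinearMap.GeneralLinearGroup.generalLinearEquiv ℂ (Fin r → ℂ)).toMonoidHom.comp
      ((Matrix.GeneralLinearGroup.toLin (R := ℂ) (n := Fin r)).toMonoidHom.comp G.subtype)
  have hρ : Function.Injective ρ :=
    (LinearMap.GeneralLinearGroup.generalLinearEquiv ℂ (Fin r → ℂ)).injective.comp
      ((Matrix.GeneralLinearGroup.toLin (R := ℂ) (n := Fin r)).injective.comp G.subtype_injective)
  have hgood : CfsgLib.KR.Good ℂ (Fin r → ℂ) ↥G ρ := Or.inl inferInstance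
  have hout := (CfsgLib.KR.solvable_linear hsolv ρ hρ hgood).1
  rw [Module.finrank_fin_fun] at hout
  let π : ↥H →* CfsgLib.KR.Top ↥G := (QuotientGroup.mk' _).comp H.subtype
  have hker : π.ker = (Cfsg.fittingSubgroup ↥G).subgroupOf H := by
    ext x
    rw [MonoidHom.mem_ker, Subgroup.mem_subgroupOf]
    exact QuotientGroup.eq_one_iff _
  exact (CfsgLib.KR.kc_congr ((QuotientGroup.quotientMulEquivOfEq hker.symm).trans
    (QuotientGroup.quotientKerEquivRange π))).trans_le (hout π.range)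

end Cfsg.Agent.S4265
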