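import Cfsg.Statements.S4269
import Cfsg.Agent.Lib.Coprime.Action

set_option autoImplicit false
open Cfsg

namespace Cfsg.Agent.S4269

open scoped commutatorElement Pointwise

variable {G : Type*} [Group G]

theorem map_conj_eq_self_of_mem_normalizer {K : Subgroup G} {g : G}
    (hg : g ∈ Subgroup.normalizer (K : Set G)) : K.map (MulAut.conj g).toMonoidHom = K := by
  ext x
  constructor
  · rintro ⟨y, hy, rfl⟩
    exact (Subgroup.mem_normalizer_iff.mp hg y).mp hy
  · intro hx
    exact ⟨g⁻¹ * x * g, (Subgroup.mem_normalizer_iff''.mp hg x).mp hx, by simp [mul_assoc]⟩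

theorem map_conj_mul (K : Subgroup G) (a b : G) : K.map (MulAut.conj (a * b)).toMonoidHom
    = (K.map (MulAut.conj b).toMonoidHom).map (MulAut.conj a).toMonoidHom := by
  rw [Subgroup.map_map, map_mul]; rfl

theorem mem_normalizer_of_map_eq {K : Subgroup G} {g : G}
    (h : K.map (MulAut.conj g).toMonoidHom = K) : g ∈ Subgroup.normalizer (K : Set G) := by
  refine Subgroup.mem_normalizer_iff.mpr fun y => ⟨fun hy => ?_, fun hy => ?_⟩
  · exact (SetLike.ext_iff.mp h _).mp ⟨y, hy, rfl⟩
  · obtain ⟨z, hz, hzy⟩ := (SetLike.ext_iff.mp h _).mpr hy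
    have : z = y := (MulAut.conj g).injective hzy
    exact this ▸ hz

/-- Let G be a finite group, V an abelian normal subgroup and H a subgroup with HV = G. Then H is pronormal in G (H and gHg⁻¹ are conjugate inside the subgroup they generate, for every g) if and only if every H-invariant subgroup U of V satisfies U = N_U(H)·[H, U], that is, U is the join of U ∩ N_G(H) and the commutator subgroup [H, U]. -/
theorem result {G : Type*} [Group G] [Finite G]
    (V : Subgroup G) [V.Normal] (hV : IsMulCommutative ↥V) (H : Subgroup G) (hHV : H ⊔ V = ⊤) :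
    Cfsg.IsPronormal H ↔
      ∀ U : Subgroup G, U ≤ V → (∀ h ∈ H, U.map (MulAut.conj h).toMonoidHom = U) →
        U = (U ⊓ Subgroup.normalizer (H : Set G)) ⊔ ⁅H, U⁆ := by
  have hcomm : ∀ a ∈ V, ∀ b ∈ V, a * b = b * a := fun a ha b hb =>
    congrArg Subtype.val (hV.1.1 (⟨a, ha⟩ : V) ⟨b, hb⟩)
  constructor
  · intro hp U hUV hU
    have hnU : H ≤ Subgroup.normalizer (U : Set G) := fun h hh => mem_normalizer_of_map_eq (hU h hh)
    set W := ⁅H, U⁆ with hW
    have hHW : H ≤ Subgroup.normalizer (W : Set G) :=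
      CfsgLib.Coprime.le_normalizer_commutator Subgroup.le_normalizer hnU
    have hWU : W ≤ U := by
      rw [hW, Subgroup.commutator_comm]
      exact CfsgLib.Coprime.commutator_le_left_of_le_normalizer hnU
    refine le_antisymm (fun u hu => ?_) (sup_le inf_le_left hWU)
    obtain ⟨x, hx, hxe⟩ := hp u
    have hle : H.map (MulAut.conj u).toMonoidHom ≤ W ⊔ H := by
      rintro _ ⟨h, hh, rfl⟩
      have h1 : u * h * u⁻¹ * h⁻¹ ∈ W := by
        rw [hW, Subgroup.commutator_comm]
        exact Subgroup.commutator_mem_commutator hu hh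
      have h2 := mul_mem (Subgroup.mem_sup_left (T := H) h1) (Subgroup.mem_sup_right (S := W) hh)
      simpa using h2
    have hx' : x ∈ W ⊔ H := (sup_le le_sup_right hle) hx
    rw [← SetLike.mem_coe, Subgroup.coe_mul_of_right_le_normalizer_left W H hHW, Set.mem_mul] at hx'
    obtain ⟨w, hw, h, hh, rfl⟩ := hx'
    rw [map_conj_mul H w h, map_conj_eq_self_of_mem_normalizer (Subgroup.le_normalizer hh)] at hxe
    have hn : w⁻¹ * u ∈ U ⊓ Subgroup.normalizer (H : Set G) := by
      refine Subgroup.mem_inf.mpr ⟨mul_mem (inv_mem (hWU hw)) hu, mem_normalizer_of_map_eq ?_⟩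
      rw [map_conj_mul, hxe, ← map_conj_mul, inv_mul_cancel]
      exact map_conj_eq_self_of_mem_normalizer (one_mem _)
    have := mul_mem (Subgroup.mem_sup_right (S := U ⊓ Subgroup.normalizer (H : Set G)) hw)
      (Subgroup.mem_sup_left (T := W) hn)
    rwa [mul_inv_cancel_left] at this
  · intro hU g
    have hg : g ∈ V ⊔ H := by rw [sup_comm, hHV]; exact Subgroup.mem_top g
    rw [← SetLike.mem_coe, Subgroup.coe_mul_of_right_le_normalizer_left V H
      (fun x _ => Subgroup.le_normalizer_of_normal (Subgroup.mem_top x)), Set.mem_mul] at hg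
    obtain ⟨v, hv, h0, hh0, rfl⟩ := hg
    rw [map_conj_mul, map_conj_eq_self_of_mem_normalizer (Subgroup.le_normalizer hh0)]
    set J := H ⊔ H.map (MulAut.conj v).toMonoidHom with hJ
    let T : Subgroup G :=
      { carrier := {u | u ∈ V ∧ ∀ h ∈ H, ⁅h, u⁆ ∈ J}
        one_mem' := ⟨one_mem V, fun h _ => by simp⟩
        mul_mem' := by
          rintro a b ⟨ha, ha'⟩ ⟨hb, hb'⟩
          refine ⟨mul_mem ha hb, fun h hh => ?_⟩
          have hbV : ⁅h, b⁆ ∈ V := by
            rw [commutatorElement_def]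
            exact mul_mem (Subgroup.Normal.conj_mem inferInstance b hb h) (inv_mem hb)
          have : ⁅h, a * b⁆ = ⁅h, a⁆ * (a * ⁅h, b⁆ * a⁻¹) := by
            simp only [commutatorElement_def]; group
          rw [this, hcomm a ha _ hbV, mul_inv_cancel_right]
          exact mul_mem (ha' h hh) (hb' h hh)
        inv_mem' := by
          rintro a ⟨ha, ha'⟩
          refine ⟨inv_mem ha, fun h hh => ?_⟩
          have haV : ⁅h, a⁆⁻¹ ∈ V := by
            rw [commutatorElement_def]
            exact inv_mem (mul_mem (Subgroup.Normal.conj_mem inferInstance a ha h) (inv_mem ha))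
          have : ⁅h, a⁻¹⁆ = a⁻¹ * ⁅h, a⁆⁻¹ * a := by simp only [commutatorElement_def]; group
          rw [this, hcomm a⁻¹ (inv_mem ha) _ haV, inv_mul_cancel_right]
          exact inv_mem (ha' h hh) }
    set S : Set G := {u | ∃ k ∈ H, k * v * k⁻¹ = u}
    set U := Subgroup.closure S
    have hSV : S ⊆ (V : Set G) := by
      rintro _ ⟨k, -, rfl⟩; exact Subgroup.Normal.conj_mem inferInstance v hv k
    have hUT : U ≤ T := by
      refine (Subgroup.closure_le T).mpr ?_
      rintro _ ⟨k, hk, rfl⟩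
      refine ⟨Subgroup.Normal.conj_mem inferInstance v hv k, fun h hh => ?_⟩
      have h1 : v * (k⁻¹ * h * k)⁻¹ * v⁻¹ ∈ J := Subgroup.mem_sup_right
        ⟨_, inv_mem (mul_mem (mul_mem (inv_mem hk) hh) hk), rfl⟩
      have h2 : k ∈ J := Subgroup.mem_sup_left hk
      have h3 : k⁻¹ * h * k ∈ J := Subgroup.mem_sup_left (mul_mem (mul_mem (inv_mem hk) hh) hk)
      have : ⁅h, k * v * k⁻¹⁆ = k * ((k⁻¹ * h * k) * (v * (k⁻¹ * h * k)⁻¹ * v⁻¹)) * k⁻¹ := by
        simp only [commutatorElement_def]; group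
      rw [this]
      exact mul_mem (mul_mem h2 (mul_mem h3 h1)) (inv_mem h2)
    have hUinv : ∀ h ∈ H, U.map (MulAut.conj h).toMonoidHom = U := by
      intro h hh
      rw [MonoidHom.map_closure]
      congr 1
      ext u
      constructor
      · rintro ⟨_, ⟨k, hk, rfl⟩, rfl⟩
        exact ⟨h * k, mul_mem hh hk, by simp [mul_assoc]⟩
      · rintro ⟨k, hk, rfl⟩
        exact ⟨h⁻¹ * k * v * (h⁻¹ * k)⁻¹, ⟨h⁻¹ * k, mul_mem (inv_mem hh) hk, rfl⟩, by
          simp [mul_assoc]⟩
    have hUV : U ≤ V := (Subgroup.closure_le V).mpr hSV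
    have hWJ : ⁅H, U⁆ ≤ J := Subgroup.commutator_le.mpr fun h hh u hu => (hUT hu).2 h hh
    have hvU : v ∈ U := Subgroup.subset_closure ⟨1, one_mem H, by simp⟩
    rw [hU U hUV hUinv, ← SetLike.mem_coe,
      Subgroup.coe_mul_of_right_le_normalizer_left _ _ (fun w hw => ?_), Set.mem_mul] at hvU
    swap
    · refine Subgroup.centralizer_le_normalizer _ fun n hn => ?_
      refine hcomm n (hUV (Subgroup.mem_inf.mp hn).1) w ?_
      exact hUV ((Subgroup.commutator_comm H U ▸ CfsgLib.Coprime.commutator_le_left_of_le_normalizer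
        (fun h hh => mem_normalizer_of_map_eq (hUinv h hh))) hw)
    obtain ⟨n, hn, w, hw, hnw⟩ := hvU
    refine ⟨w, hWJ hw, ?_⟩
    have hnV := hUV (Subgroup.mem_inf.mp hn).1
    have hwV : w ∈ V := hUV ((Subgroup.commutator_comm H U ▸
      CfsgLib.Coprime.commutator_le_left_of_le_normalizer
        (fun h hh => mem_normalizer_of_map_eq (hUinv h hh))) hw)
    rw [← hnw, hcomm n hnV w hwV, map_conj_mul,
      map_conj_eq_self_of_mem_normalizer (Subgroup.mem_inf.mp hn).2]
end Cfsg.Agent.S4269
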