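import Cfsg.Statements.S4271
import Cfsg.Agent.S4270

set_option autoImplicit false
set_option linter.style.haveILetI false
open Cfsg

namespace Cfsg.Agent.S4271

open scoped Pointwise

open Cfsg.Agent.S4022 (cj)


/-- Let p be a prime and G a finite group with a normal subgroup A such that every subgroup of A containing a Sylow p-subgroup of A is pronormal in A, and the Sylow p-subgroups of G/A are self-normalizing. Let T be a Sylow p-subgroup of A. Then every subgroup of G containing a Sylow p-subgroup of G is pronormal in G if and only if every subgroup of N_G(T)/T containing a Sylow p-subgroup of N_G(T)/T is pronormal in N_G(T)/T. (Pronormal: H and gHg⁻¹ are conjugate inside the subgroup they generate, for every g.) -/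
theorem result {G : Type*} [Group G] [Finite G] {p : ℕ} [Fact p.Prime]
    (A : Subgroup G) [A.Normal] (hA : (∀ K : Subgroup ↥A, (∃ P : Sylow p ↥A, (P : Subgroup ↥A) ≤ K) → Cfsg.IsPronormal K))
    (hQ : ∀ P : Sylow p (G ⧸ A), Subgroup.normalizer ((P : Subgroup (G ⧸ A)) : Set (G ⧸ A)) = P)
    (T : Subgroup G) (hT : ∃ P : Sylow p ↥A, (P : Subgroup ↥A).map A.subtype = T) [(T.subgroupOf (Subgroup.normalizer (T : Set G))).Normal] :
    (∀ K : Subgroup G, (∃ P : Sylow p G, (P : Subgroup G) ≤ K) → Cfsg.IsPronormal K) ↔ (∀ K : Subgroup (↥(Subgroup.normalizer (T : Set G)) ⧸ T.subgroupOf (Subgroup.normalizer (T : Set G))), (∃ P : Sylow p (↥(Subgroup.normalizer (T : Set G)) ⧸ T.subgroupOf (Subgroup.normalizer (T : Set G))), (P : Subgroup (↥(Subgroup.normalizer (T : Set G)) ⧸ T.subgroupOf (Subgroup.normalizer (T : Set G)))) ≤ K) → Cfsg.IsPronormal K) := by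
  have hself : ∀ (K : Subgroup (G ⧸ A)), (∃ P : Sylow p (G ⧸ A), (P : Subgroup (G ⧸ A)) ≤ K) →
      Cfsg.IsPronormal K ∧ Subgroup.normalizer (K : Set (G ⧸ A)) ≤ K := by
    rintro K ⟨P, hP⟩
    refine ⟨fun g => ?_, fun g hg => ?_⟩
    · -- conjugate Sylow subgroups inside the join
      show ∃ x ∈ K ⊔ cj g K, cj g K = cj x K
      let J := K ⊔ cj g K
      have hgP : ((g • P : Sylow p (G ⧸ A)) : Subgroup (G ⧸ A)) ≤ J := by
        rw [Sylow.coe_subgroup_smul, Cfsg.Agent.S4022.cj_smul]
        exact (Cfsg.Agent.S4022.cj_mono g hP).trans le_sup_right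
      obtain ⟨j, hj⟩ := MulAction.exists_smul_eq J (P.subtype (hP.trans le_sup_left : (P : Subgroup (G ⧸ A)) ≤ J))
        ((g • P).subtype hgP)
      rw [Sylow.smul_subtype] at hj
      have hj' : ((j : G ⧸ A) • P : Sylow p (G ⧸ A)) = g • P := Sylow.subtype_injective hj
      refine ⟨j, j.2, ?_⟩
      have hm : (j : G ⧸ A)⁻¹ * g ∈ K := by
        apply hP
        rw [← hQ P]
        exact Sylow.smul_eq_iff_mem_normalizer.mp (by rw [mul_smul, ← hj', inv_smul_smul])
      conv_lhs => rw [show g = (j : G ⧸ A) * ((j : G ⧸ A)⁻¹ * g) by group]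
      rw [Cfsg.Agent.S4022.cj_mul, Cfsg.Agent.S4270.cj_self hm]
    · -- the normalizer is the subgroup
      have hgP : ((g • P : Sylow p (G ⧸ A)) : Subgroup (G ⧸ A)) ≤ K := by
        rw [Sylow.coe_subgroup_smul, Cfsg.Agent.S4022.cj_smul]
        exact (Cfsg.Agent.S4022.cj_mono g hP).trans (Cfsg.Agent.S4270.cj_of_mem_normalizer hg).le
      obtain ⟨j, hj⟩ := MulAction.exists_smul_eq K (P.subtype hP) ((g • P).subtype hgP)
      rw [Sylow.smul_subtype] at hj
      have hj' : ((j : G ⧸ A) • P : Sylow p (G ⧸ A)) = g • P := Sylow.subtype_injective hj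
      have hm : (j : G ⧸ A)⁻¹ * g ∈ K := by
        apply hP
        rw [← hQ P]
        exact Sylow.smul_eq_iff_mem_normalizer.mp (by rw [mul_smul, ← hj', inv_smul_smul])
      simpa using K.mul_mem j.2 hm
  have h := Cfsg.Agent.S4270.result A hA (fun K hK => (hself K hK).1) T hT
  rw [h]
  refine ⟨fun h => h.1, fun h1 => ⟨h1, fun K hK => ?_⟩⟩
  obtain ⟨P, hP⟩ := hK
  refine le_antisymm (Subgroup.le_normalizer_map _) ((hself _ ⟨P.mapSurjective (QuotientGroup.mk'_surjective A), ?_⟩).2.trans
    (Subgroup.map_mono Subgroup.le_normalizer))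
  rw [Sylow.coe_mapSurjective]
  exact Subgroup.map_mono hP
end Cfsg.Agent.S4271
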