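import Cfsg.Statements.S4273
import Cfsg.Agent.Lib.JOneCard.Cent
import Cfsg.Agent.Lib.JOneUnique.Final

set_option autoImplicit false
open Cfsg

namespace Cfsg.Agent.S4273

/-- Uniqueness of the simple group of order 175560: any two finite simple groups of order 175560 are isomorphic. -/
theorem result {G : Type*} {H : Type*} [Group G] [Finite G] [IsSimpleGroup G] [Group H] [Finite H] [IsSimpleGroup H] (hG : Nat.card G = 175560) (hH : Nat.card H = 175560) : Nonempty (G ≃* H) := by
  obtain ⟨x, j, h⟩ := CfsgLib.JOneCard.exists_five_inv hG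
  obtain ⟨x', j', h'⟩ := CfsgLib.JOneCard.exists_five_inv hH
  obtain ⟨e⟩ := h.centralizer_equiv
  obtain ⟨e'⟩ := h'.centralizer_equiv
  obtain ⟨φ⟩ := CfsgLib.JOneUnique.equiv_pres j
    (CfsgLib.JOneUnique.twoCentral_of_card hG h.hj e) e
  obtain ⟨ψ⟩ := CfsgLib.JOneUnique.equiv_pres j'
    (CfsgLib.JOneUnique.twoCentral_of_card hH h'.hj e') e'
  exact ⟨φ.symm.trans ψ⟩

end Cfsg.Agent.S4273
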