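import Cfsg.Statements.S4274
import Cfsg.Agent.Lib.BrauerTuan.Orders
import Cfsg.Agent.Lib.BrauerTuan.Cross
import Cfsg.Agent.Lib.SmallOrder.PrimeDegree

set_option autoImplicit false
set_option linter.unusedSectionVars false
set_option linter.unusedVariables false
set_option maxRecDepth 100000
open Cfsg CfsgLib CfsgLib.BrauerTuan

namespace Cfsg.Agent.S4274

universe u

/-- The odd primes dividing `175560` and `m`. -/
def primesOf (m : ℕ) : List ℕ := [3, 5, 7, 11, 19].filter fun q => decide (m % q = 0)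

/-- A bound for the square root. -/
def boundOf (m : ℕ) : ℕ := ((List.range 421).find? fun b => decide (m < (b + 1) * (b + 1))).getD 420

/-- The order `m` is excluded by a block of defect one. -/
def excl (m : ℕ) : Bool :=
  [19, 11, 7, 5].any fun p => decide (m % p = 0) && orderBad m p (primesOf m) (boundOf m)

/-- The orders with more than one possible Sylow `19`-subgroup, other than `87780` and `175560`. -/
def cands : List ℕ := [380, 760, 1140, 1463, 2280, 2660, 2926, 3990, 4180, 4389, 5320, 5852, 7315, 7980, 8360,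
  8778, 11704, 12540, 14630, 15960, 17556, 21945, 25080, 29260, 35112, 43890, 58520]

theorem cands_excl : cands.all excl = true := by decide +kernel

theorem div_cases : ([20, 77, 210, 1540] : List ℕ).all (fun c => (List.range (9240 / c + 1)).all fun j =>
    decide (9240 / c % j ≠ 0) || cands.contains (19 * (c * j)) || decide (19 * (c * j) = 87780) ||
      decide (19 * (c * j) = 175560)) = true := by decide +kernel

theorem n_cases : (List.range 9241).all (fun c =>
    decide (9240 % c ≠ 0) || decide (c % 19 ≠ 1) || [1, 20, 77, 210, 1540].contains c) = true := by decide +kernel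

theorem pow_small : (List.range 9241).all (fun c => decide (9240 % c ≠ 0) || decide (c < 19) ||
    [2, 3, 5, 7, 11].any fun q1 => [2, 3, 5, 7, 11].any fun q2 =>
      decide (q1 ≠ q2) && decide (c % q1 = 0) && decide (c % q2 = 0)) = true := by decide +kernel

theorem centralizer_card {G : Type u} [Group G] [Finite G] {p : ℕ} [Fact p.Prime] (P Q : Sylow p G) :
    Nat.card (Subgroup.centralizer ((P : Subgroup G) : Set G)) =
      Nat.card (Subgroup.centralizer ((Q : Subgroup G) : Set G)) := by
  obtain ⟨g, rfl⟩ := MulAction.exists_smul_eq G P Q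
  refine Nat.card_congr ((MulAut.conj g).toEquiv.subtypeEquiv fun x => ?_)
  rw [Subgroup.mem_centralizer_iff, Subgroup.mem_centralizer_iff, Sylow.coe_subgroup_smul]
  constructor
  · rintro h _ ⟨y, hy, rfl⟩
    show g * y * g⁻¹ * (g * x * g⁻¹) = g * x * g⁻¹ * (g * y * g⁻¹)
    have := h y hy
    calc g * y * g⁻¹ * (g * x * g⁻¹) = g * (y * x) * g⁻¹ := by group
      _ = g * (x * y) * g⁻¹ := by rw [this]
      _ = _ := by group
  · intro h y hy
    have h1 : g * y * g⁻¹ * (g * x * g⁻¹) = g * x * g⁻¹ * (g * y * g⁻¹) := h _ ⟨y, hy, rfl⟩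
    have h2 : g * (y * x) * g⁻¹ = g * (x * y) * g⁻¹ := by
      calc g * (y * x) * g⁻¹ = g * y * g⁻¹ * (g * x * g⁻¹) := by group
        _ = _ := h1
        _ = _ := by group
    simpa using h2

theorem sylow_card_eq {G : Type u} [Group G] [Finite G] {p : ℕ} [hp : Fact p.Prime] (hdvd : p ∣ Nat.card G)
    (hsq : ¬ p * p ∣ Nat.card G) (P : Sylow p G) : Nat.card (P : Subgroup G) = p := by
  obtain ⟨m, hm⟩ := hdvd
  have hmp : ¬ p ∣ m := fun h => hsq (hm ▸ mul_dvd_mul_left p h)
  rw [P.card_eq_multiplicity, hm, Nat.factorization_mul hp.out.ne_zero (fun h => hmp (by rw [h]; exact dvd_zero _)),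
    Finsupp.add_apply, hp.out.factorization_self, Nat.factorization_eq_zero_of_not_dvd hmp, add_zero, pow_one]

theorem false_87780 {G : Type u} [Group G] [Finite G] [IsSimpleGroup G] (hn : Nat.card G = 87780) : False := by
  classical
  letI : Fintype G := Fintype.ofFinite G
  haveI : Fact (Nat.Prime 5) := ⟨by norm_num⟩
  haveI : Fact (Nat.Prime 7) := ⟨by norm_num⟩
  haveI : Fact (Nat.Prime 11) := ⟨by norm_num⟩
  haveI : Fact (Nat.Prime 19) := ⟨by norm_num⟩
  obtain ⟨k, T, h19⟩ := exists_ctx_of_orderBad hn 19 [3, 5, 7, 11] 296 [(1540, 3, 1)]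
    (by norm_num) (by norm_num) (by norm_num) (by norm_num) (by norm_num) (by simp <;> norm_num)
    (by decide +kernel)
  obtain ⟨k₁, T₁, h11⟩ := exists_ctx_of_orderBad hn 11 [3, 5, 7, 19] 296 [(210, 2, 19), (1596, 5, 1)]
    (by norm_num) (by norm_num) (by norm_num) (by norm_num) (by norm_num) (by simp <;> norm_num)
    (by decide +kernel)
  obtain ⟨k₇, T₇, h7⟩ := exists_ctx_of_orderBad hn 7 [3, 5, 11, 19] 296 [(190, 2, 33), (190, 6, 11), (4180, 3, 1)]
    (by norm_num) (by norm_num) (by norm_num) (by norm_num) (by norm_num) (by simp <;> norm_num)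
    (by decide +kernel)
  obtain ⟨k₅, T₅, h5⟩ := exists_ctx_of_orderBad hn 5 [3, 7, 11, 19] 296
    [(66, 2, 133), (231, 2, 38), (231, 4, 19), (2926, 2, 3)]
    (by norm_num) (by norm_num) (by norm_num) (by norm_num) (by norm_num) (by simp <;> norm_num)
    (by decide +kernel)
  simp only [List.mem_cons, List.not_mem_nil, or_false, Prod.mk.injEq] at h19 h11 h7 h5
  obtain ⟨hc, -, rfl⟩ := h19
  have hn11 : 1 + T₁.D.n * 11 = 1596 ∧ k₁ = 1 := by
    rcases h11 with ⟨-, -, e⟩ | ⟨e1, -, e2⟩
    · have h := dvd_card_centralizer_swap T₁.P T.P T₁.card_P T.card_P (by rw [T₁.card_C, e]; norm_num)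
      rw [T.card_C] at h; norm_num at h
    · exact ⟨e1, e2⟩
  have hn7 : 1 + T₇.D.n * 7 = 4180 := by
    rcases h7 with ⟨-, -, e⟩ | ⟨-, -, e⟩ | ⟨e1, -, -⟩
    · have h := dvd_card_centralizer_swap T₇.P T₁.P T₇.card_P T₁.card_P (by rw [T₇.card_C, e]; norm_num)
      rw [T₁.card_C, hn11.2] at h; norm_num at h
    · have h := dvd_card_centralizer_swap T₇.P T₁.P T₇.card_P T₁.card_P (by rw [T₇.card_C, e]; norm_num)
      rw [T₁.card_C, hn11.2] at h; norm_num at h
    · exact e1
  have hn5 : 1 + T₅.D.n * 5 = 2926 ∧ k₅ = 3 := by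
    rcases h5 with ⟨-, -, e⟩ | ⟨-, -, e⟩ | ⟨-, -, e⟩ | ⟨e1, -, e2⟩
    pick_goal 4
    · exact ⟨e1, e2⟩
    all_goals
      have h := dvd_card_centralizer_swap T₅.P T.P T₅.card_P T.card_P (by rw [T₅.card_C, e]; norm_num)
      rw [T.card_C] at h; norm_num at h
  have cnt : ∀ (q : ℕ) [Fact q.Prime], q ∣ 87780 → ¬ q * q ∣ 87780 →
      Nat.card {g : G // orderOf g = q} = Nat.card (Sylow q G) * (q - 1) := fun q _ h1 h2 =>
    SmallOrder.card_orderOf_eq_prime fun P => sylow_card_eq (hn ▸ h1) (hn ▸ h2) P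
  have c19 := cnt 19 (by norm_num) (by norm_num)
  have c11 := cnt 11 (by norm_num) (by norm_num)
  have c7 := cnt 7 (by norm_num) (by norm_num)
  have c5 := cnt 5 (by norm_num) (by norm_num)
  rw [T.D.card_sylow, hc] at c19
  rw [T₁.D.card_sylow, hn11.1] at c11
  rw [T₇.D.card_sylow, hn7] at c7
  rw [T₅.D.card_sylow, hn5.1] at c5
  -- elements of order 15
  have hC : ∀ Q : Sylow 5 G, Nat.card (Subgroup.centralizer ((Q : Subgroup G) : Set G)) = 15 := fun Q => by
    rw [centralizer_card Q T₅.P, T₅.card_C, hn5.2]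
  have hQ : ∀ Q : Sylow 5 G, Nat.card (Q : Subgroup G) = 5 := fun Q =>
    sylow_card_eq (hn ▸ (by norm_num)) (hn ▸ (by norm_num)) Q
  have hQC : ∀ Q : Sylow 5 G, (Q : Subgroup G) ≤ Subgroup.centralizer ((Q : Subgroup G) : Set G) := fun Q a ha => by
    haveI : IsCyclic (Q : Subgroup G) := isCyclic_of_prime_card (hQ Q)
    exact Subgroup.mem_centralizer_iff.mpr fun c hc =>
      congrArg Subtype.val ((IsCyclic.commGroup (α := (Q : Subgroup G))).mul_comm ⟨c, hc⟩ ⟨a, ha⟩)
  have hcyc : ∀ Q : Sylow 5 G, IsCyclic (Subgroup.centralizer ((Q : Subgroup G) : Set G)) := by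
    intro Q
    haveI : Fact (Nat.Prime 3) := ⟨by norm_num⟩
    obtain ⟨a, ha⟩ := exists_prime_orderOf_dvd_card' (G := (Q : Subgroup G)) 5 (by rw [hQ Q])
    obtain ⟨b, hb⟩ := exists_prime_orderOf_dvd_card' (G := Subgroup.centralizer ((Q : Subgroup G) : Set G)) 3
      (by rw [hC Q]; norm_num)
    let a' : Subgroup.centralizer ((Q : Subgroup G) : Set G) := ⟨a, hQC Q a.2⟩
    have ha' : orderOf a' = 5 := ((Subgroup.orderOf_mk _ _).trans (Subgroup.orderOf_coe a)).trans ha
    have hab : Commute a' b := Subtype.ext (Subgroup.mem_centralizer_iff.mp b.2 a a.2)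
    refine isCyclic_of_orderOf_eq_card (a' * b) ?_
    rw [hab.orderOf_mul_eq_mul_orderOf_of_coprime (by rw [ha', hb]; norm_num), ha', hb, hC Q]
  have c15 : 2926 * 8 ≤ Nat.card {g : G // orderOf g = 15} := by
    have e : Nat.card (Σ Q : Sylow 5 G, {g : Subgroup.centralizer ((Q : Subgroup G) : Set G) // orderOf g = 15}) =
        2926 * 8 := by
      haveI : Fintype (Sylow 5 G) := Fintype.ofFinite _
      rw [Nat.card_sigma, Finset.sum_congr rfl (g := fun _ => 8), Finset.sum_const, Finset.card_univ,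
        ← Nat.card_eq_fintype_card, T₅.D.card_sylow, hn5.1, smul_eq_mul]
      intro Q _
      haveI := hcyc Q
      haveI := Fintype.ofFinite (Subgroup.centralizer ((Q : Subgroup G) : Set G))
      rw [Nat.card_eq_fintype_card, Fintype.card_subtype, IsCyclic.card_orderOf_eq_totient
        (by rw [← Nat.card_eq_fintype_card, hC Q])]
      decide +kernel
    rw [← e]
    refine Nat.card_le_card_of_injective (fun x => ⟨(x.2.1 : G), by rw [Subgroup.orderOf_coe]; exact x.2.2⟩) ?_
    rintro ⟨Q, ⟨x, hxC⟩, hx⟩ ⟨R, ⟨y, hyC⟩, hy⟩ hxy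
    have hxy' : x = y := congrArg Subtype.val hxy
    subst hxy'
    have key : ∀ S : Sylow 5 G, x ∈ Subgroup.centralizer ((S : Subgroup G) : Set G) → orderOf x = 15 →
        (S : Subgroup G) = Subgroup.zpowers (x ^ 3) := by
      intro S hxS hxo
      have h5' : orderOf (x ^ 3) = 5 := by rw [orderOf_pow' x (by norm_num), hxo]; decide +kernel
      haveI := hcyc S
      refine Subgroup.eq_of_le_of_card_ge (fun s hs => ?_) (by rw [Nat.card_zpowers, h5', hQ S])
      have hle : Subgroup.centralizer ((S : Subgroup G) : Set G) ≤ Subgroup.zpowers x := by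
        refine (Subgroup.eq_of_le_of_card_ge (Subgroup.zpowers_le.mpr hxS) ?_).ge
        rw [Nat.card_zpowers, hxo, hC S]
      obtain ⟨i, rfl⟩ := Subgroup.mem_zpowers_iff.mp (hle (hQC S hs))
      have h : (x ^ i) ^ (5 : ℕ) = 1 := by
        have := pow_card_eq_one' (x := (⟨_, hs⟩ : (S : Subgroup G)))
        rw [hQ S] at this
        exact congrArg Subtype.val this
      rw [← zpow_natCast, ← zpow_mul, ← orderOf_dvd_iff_zpow_eq_one, hxo] at h
      obtain ⟨j, hj⟩ : (3 : ℤ) ∣ i := by omega
      exact Subgroup.mem_zpowers_iff.mpr ⟨j, by rw [hj, zpow_mul]; norm_cast⟩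
    have hxo : orderOf x = 15 := by rw [← hx, Subgroup.orderOf_mk]
    have : Q = R := Sylow.ext ((key Q hxC hxo).trans (key R hyC hxo).symm)
    subst this
    rfl
  -- too many elements
  have htot : ∑ d ∈ ({19, 11, 7, 5, 15} : Finset ℕ), Nat.card {g : G // orderOf g = d} ≤ Nat.card G := by
    simp only [Nat.card_eq_fintype_card, Fintype.card_subtype]
    rw [← Finset.card_biUnion]
    · exact Finset.card_le_univ _
    · intro a _ b _ hab
      exact Finset.disjoint_left.mpr fun g h1 h2 => hab ((Finset.mem_filter.mp h1).2.symm.trans (Finset.mem_filter.mp h2).2)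
  rw [Finset.sum_insert (by decide), Finset.sum_insert (by decide), Finset.sum_insert (by decide),
    Finset.sum_insert (by decide), Finset.sum_singleton, c19, c11, c7, c5, hn] at htot
  omega

theorem not_simple {G : Type u} [Group G] [Finite G] [IsSimpleGroup G] {d : ℕ} (hd : d ∣ 9240) (hd' : d < 9240)
    (hn : Nat.card G = 19 * d) (hd1 : 1 < d) : False := by
  haveI : Fact (Nat.Prime 19) := ⟨by norm_num⟩
  have hnp : ¬ (Nat.card G).Prime := by rw [hn]; exact Nat.not_prime_mul (by norm_num) (by omega)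
  have hG := SmallOrder.not_comm_of_not_prime hnp
  have hd19 : ¬ (19 : ℕ) ∣ d := fun h => absurd (h.trans hd) (by norm_num)
  obtain ⟨P⟩ := (inferInstance : Nonempty (Sylow 19 G))
  have hP : Nat.card (P : Subgroup G) = 19 :=
    sylow_card_eq ⟨d, hn⟩ (fun h => hd19 (Nat.dvd_of_mul_dvd_mul_left (by norm_num) (hn ▸ h))) P
  set c := Nat.card (Sylow 19 G) with hc
  have hcd : c ∣ d := by
    have h1 := P.card_dvd_index
    have h2 : (P : Subgroup G).index = d := by
      have := (P : Subgroup G).card_mul_index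
      rw [hP, hn] at this; omega
    rwa [h2] at h1
  have hc1 : c % 19 = 1 := card_sylow_modEq_one 19 G
  have hcne : c ≠ 1 := SmallOrder.card_sylow_ne_one hG ⟨d, hn⟩
  have hmem := List.all_eq_true.mp n_cases c
    (List.mem_range.mpr (Nat.lt_succ_of_le (Nat.le_of_dvd (by norm_num) (hcd.trans hd))))
  simp only [Bool.or_eq_true, decide_eq_true_eq, List.contains_eq_mem, List.mem_cons, List.not_mem_nil,
    or_false] at hmem
  have hc4 : c ∈ ([20, 77, 210, 1540] : List ℕ) := by
    rcases hmem with (h | h) | h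
    · exact absurd (Nat.mod_eq_zero_of_dvd (hcd.trans hd)) h
    · exact absurd hc1 h
    · simp only [List.mem_cons, List.not_mem_nil, or_false]; omega
  obtain ⟨j, hj⟩ := hcd
  obtain ⟨i, hi⟩ := hd
  have hcpos : 0 < c := Nat.pos_of_ne_zero fun h => by rw [h, zero_mul] at hj; omega
  have hji : 9240 / c = j * i := by
    rw [show (9240 : ℕ) = c * (j * i) by rw [hi, hj]; ring, Nat.mul_div_cancel_left _ hcpos]
  have hmem' := List.all_eq_true.mp (List.all_eq_true.mp div_cases c hc4) j
    (List.mem_range.mpr (by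
      have hipos : 0 < i := Nat.pos_of_ne_zero fun h => by rw [h, mul_zero] at hi; omega
      rw [hji]; exact Nat.lt_succ_of_le (Nat.le_mul_of_pos_right j hipos)))
  simp only [Bool.or_eq_true, decide_eq_true_eq, List.contains_eq_mem] at hmem'
  rw [← hj, ← hn] at hmem'
  rcases hmem' with ((h | h) | h) | h
  · rw [hji] at h; exact h (Nat.mul_mod_right j i)
  · have he := List.all_eq_true.mp cands_excl _ h
    simp only [excl, List.any_eq_true, Bool.and_eq_true, decide_eq_true_eq] at he
    obtain ⟨p, hp, hpd, hbad⟩ := he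
    have hN : Nat.card G ∣ 175560 := ⟨i, by rw [hn]; calc (175560 : ℕ) = 19 * 9240 := by norm_num
                                                          _ = 19 * d * i := by rw [hi]; ring⟩
    have hp' : p.Prime ∧ ¬ p * p ∣ 175560 ∧ p ≠ 2 := by
      simp only [List.mem_cons, List.not_mem_nil, or_false] at hp
      rcases hp with rfl | rfl | rfl | rfl <;> norm_num
    refine false_of_orderBad rfl p _ _ hp'.1 hnp (Nat.dvd_of_mod_eq_zero hpd) (fun h => hp'.2.1 (h.trans hN)) ?_
      (fun q hq => ?_) hbad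
    · have hlt : Nat.card G < 175560 := by rw [hn]; omega
      rcases hb : (List.range 421).find? (fun b => decide (Nat.card G < (b + 1) * (b + 1))) with _ | b
      · have := List.find?_eq_none.mp hb 420 (by simp)
        simp only [decide_eq_true_eq] at this
        omega
      · have := List.find?_some hb
        simp only [boundOf, hb, Option.getD_some]
        simpa using this
    · simp only [primesOf, List.mem_filter, decide_eq_true_eq, List.mem_cons, List.not_mem_nil, or_false] at hq
      obtain ⟨hq, hqm⟩ := hq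
      have hq' : q.Prime ∧ ¬ q * q ∣ 175560 := by rcases hq with rfl | rfl | rfl | rfl | rfl <;> norm_num
      exact ⟨hq'.1, Nat.dvd_of_mod_eq_zero hqm, fun h => hq'.2 (h.trans hN)⟩
  · exact false_87780 h
  · rw [hn] at h; omega

theorem normalizer_top {G : Type u} [Group G] [Finite G] (hn : Nat.card G ∣ 175560) (N : Subgroup G) [N.Normal]
    (hN : ¬ 19 ∣ Nat.card N) [Fact (Nat.Prime 19)] (P : Sylow 19 G) (htop : N ⊔ (P : Subgroup G) = ⊤) :
    (P : Subgroup G).Normal := by
  rw [← Subgroup.normalizer_eq_top_iff]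
  refine Subgroup.eq_top_of_card_eq _ (Nat.dvd_antisymm (Subgroup.card_subgroup_dvd_card _) ?_)
  by_cases h19 : 19 ∣ Nat.card G
  swap
  · have hbot : (P : Subgroup G) = ⊥ := Subgroup.eq_bot_of_card_eq _ (by
      rw [P.card_eq_multiplicity, Nat.factorization_eq_zero_of_not_dvd h19, pow_zero])
    rw [hbot, show Subgroup.normalizer ((⊥ : Subgroup G) : Set G) = ⊤ from Subgroup.normalizer_eq_top _, Subgroup.card_top]
  have hPc : Nat.card (P : Subgroup G) = 19 := sylow_card_eq h19 (fun h => absurd (h.trans hn) (by norm_num)) P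
  have hcardG : Nat.card G = Nat.card N * 19 := by
    have := CfsgLib.Coprime.card_sup_mul_card_inf (K := N) (S := (P : Subgroup G)) Subgroup.le_normalizer_of_normal
    rw [htop, Subgroup.card_top] at this
    have hd : Nat.card (N ⊓ (P : Subgroup G) : Subgroup G) = 1 := by
      rcases (Nat.dvd_prime (by norm_num : Nat.Prime 19)).mp (hPc ▸ Subgroup.card_dvd_of_le inf_le_right) with h | h
      · exact h
      · exact absurd (h ▸ Subgroup.card_dvd_of_le inf_le_left) hN
    rw [hd, mul_one, hPc] at this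
    exact this
  refine (Nat.dvd_iff_prime_pow_dvd_dvd _ _).mpr fun r k hr hrk => ?_
  haveI := Fact.mk hr
  rcases Nat.eq_zero_or_pos k with rfl | hk
  · simp
  by_cases hr19 : r = 19
  · subst hr19
    have hk1 : k = 1 := by
      by_contra h
      exact absurd ((pow_dvd_pow 19 (show 2 ≤ k by omega)).trans (hrk.trans hn)) (by norm_num)
    rw [hk1, pow_one]
    exact (dvd_of_eq hPc.symm).trans (Subgroup.card_dvd_of_le Subgroup.le_normalizer)
  -- a Sylow `r`-subgroup of `N`
  obtain ⟨R⟩ := (inferInstance : Nonempty (Sylow r N))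
  have hrN : r ^ k ∣ Nat.card N :=
    (Nat.Coprime.pow_left k ((Nat.coprime_primes hr (by norm_num)).mpr hr19)).dvd_of_dvd_mul_right (hcardG ▸ hrk)
  set R' := (R : Subgroup N).map N.subtype with hR'
  have hR'c : Nat.card R' = Nat.card (R : Subgroup N) := Subgroup.card_map_of_injective N.subtype_injective
  have hrR : r ^ k ∣ Nat.card R' := by
    rw [hR'c, R.card_eq_multiplicity]
    exact Nat.pow_dvd_pow r ((hr.pow_dvd_iff_le_factorization Nat.card_pos.ne').mp hrN)
  have hNR : 19 ∣ Nat.card (Subgroup.normalizer (R' : Set G)) := by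
    have h1 := CfsgLib.Coprime.card_sup_mul_card_inf (K := N) (S := Subgroup.normalizer (R' : Set G))
      Subgroup.le_normalizer_of_normal
    rw [sup_comm, Sylow.normalizer_sup_eq_top R, Subgroup.card_top] at h1
    have h2 : 19 ∣ Nat.card N * Nat.card (Subgroup.normalizer (R' : Set G)) := by
      rw [← h1]; exact h19.mul_right _
    exact ((Nat.Prime.dvd_mul (by norm_num)).mp h2).resolve_left hN
  obtain ⟨y, hy⟩ := exists_prime_orderOf_dvd_card' 19 hNR
  have hyo : orderOf (y : G) = 19 := by rw [Subgroup.orderOf_coe, hy]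
  obtain ⟨Q, hQ⟩ := (IsPGroup.of_card (p := 19) (n := 1)
    (show Nat.card (Subgroup.zpowers (y : G)) = 19 ^ 1 by rw [Nat.card_zpowers, hyo, pow_one])).exists_le_sylow
  have hQy : (Q : Subgroup G) = Subgroup.zpowers (y : G) :=
    (Subgroup.eq_of_le_of_card_ge hQ (by
      rw [Nat.card_zpowers, hyo]
      exact (sylow_card_eq h19 (fun h => absurd (h.trans hn) (by norm_num)) Q).le)).symm
  have hsmall : Nat.card R' < 19 := by
    obtain ⟨e, he⟩ := IsPGroup.iff_card.mp (R.2.map N.subtype)
    have hd : Nat.card R' ∣ 9240 := by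
      have h1 : Nat.card N * 19 ∣ 9240 * 19 := hcardG ▸ (hn.trans (by norm_num))
      exact (hR'c.dvd.trans (Subgroup.card_subgroup_dvd_card (R : Subgroup N))).trans (Nat.dvd_of_mul_dvd_mul_right (by norm_num : 0 < 19) h1)
    by_contra h
    have hmem := List.all_eq_true.mp pow_small _ (List.mem_range.mpr (Nat.lt_succ_of_le (Nat.le_of_dvd (by norm_num) hd)))
    simp only [Bool.or_eq_true, decide_eq_true_eq, List.any_eq_true, Bool.and_eq_true] at hmem
    rcases hmem with (h' | h') | ⟨q1, hq1, q2, hq2, ⟨h12, hd1⟩, hd2⟩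
    · exact h' (Nat.mod_eq_zero_of_dvd hd)
    · omega
    · have hp : ∀ q ∈ ([2, 3, 5, 7, 11] : List ℕ), q.Prime := by
        intro q hq; simp only [List.mem_cons, List.not_mem_nil, or_false] at hq
        rcases hq with rfl | rfl | rfl | rfl | rfl <;> norm_num
      have key : ∀ q ∈ ([2, 3, 5, 7, 11] : List ℕ), Nat.card R' % q = 0 → q = r := fun q hq h0 =>
        (Nat.prime_dvd_prime_iff_eq (hp q hq) hr).mp ((hp q hq).dvd_of_dvd_pow (he ▸ Nat.dvd_of_mod_eq_zero h0))
      exact h12 ((key q1 hq1 hd1).trans (key q2 hq2 hd2).symm)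
  have hRC : R' ≤ Subgroup.centralizer ((Q : Subgroup G) : Set G) := by
    intro x hx
    have hyR : ∀ z ∈ R', (y : G) * z * (y : G)⁻¹ ∈ R' := fun z hz => (Subgroup.mem_normalizer_iff.mp y.2 z).mp hz
    have hiter : ∀ i : ℕ, ∀ z ∈ R', (y : G) ^ i * z * ((y : G) ^ i)⁻¹ ∈ R' := by
      intro i
      induction i with
      | zero => intro z hz; simpa using hz
      | succ i ih =>
        intro z hz
        rw [pow_succ', show (y : G) * (y : G) ^ i * z * ((y : G) * (y : G) ^ i)⁻¹ = (y : G) * ((y : G) ^ i * z * ((y : G) ^ i)⁻¹) * (y : G)⁻¹ by group]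
        exact hyR _ (ih z hz)
    rw [Subgroup.mem_centralizer_iff]
    intro q hq
    rw [hQy] at hq
    obtain ⟨i, rfl⟩ := Subgroup.mem_zpowers_iff.mp hq
    refine (Commute.zpow_left ?_ i).eq
    by_contra hne
    -- the 19 conjugates of `x` are distinct
    have hinj : Function.Injective (fun i : Fin 19 => (⟨(y : G) ^ (i : ℕ) * x * ((y : G) ^ (i : ℕ))⁻¹, hiter i x hx⟩ : R')) := by
      intro i j hij
      by_contra hij'
      wlog hlt : i < j generalizing i j
      · exact this hij.symm (Ne.symm hij') (lt_of_le_of_ne (not_lt.mp hlt) (Ne.symm hij'))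
      have h1 : (y : G) ^ (i : ℕ) * x * ((y : G) ^ (i : ℕ))⁻¹ = (y : G) ^ (j : ℕ) * x * ((y : G) ^ (j : ℕ))⁻¹ :=
        congrArg Subtype.val hij
      set m := (j : ℕ) - (i : ℕ) with hm
      have hj : (j : ℕ) = (i : ℕ) + m := by have : (i : ℕ) < (j : ℕ) := hlt; omega
      rw [hj, pow_add] at h1
      have h2 : Commute ((y : G) ^ m) x := by
        show _ = _
        have := congrArg (fun w => ((y : G) ^ (i : ℕ))⁻¹ * w * (y : G) ^ (i : ℕ) * (y : G) ^ m) h1
        simpa [mul_assoc] using this.symm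
      have hcop : Nat.Coprime m (orderOf (y : G)) := by
        rw [hyo, Nat.coprime_comm]
        refine (Nat.Prime.coprime_iff_not_dvd (by norm_num)).mpr fun h => ?_
        have h0 : 0 < m := by have : (i : ℕ) < (j : ℕ) := hlt; omega
        have := Nat.le_of_dvd h0 h
        have := j.isLt
        omega
      obtain ⟨t, ht⟩ := exists_pow_eq_self_of_coprime hcop
      exact hne (ht ▸ h2.pow_left t)
    have := Nat.card_le_card_of_injective _ hinj
    rw [Nat.card_fin] at this
    omega
  obtain ⟨g, hg⟩ := MulAction.exists_smul_eq G Q P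
  have hconj : Nat.card (Subgroup.normalizer ((P : Subgroup G) : Set G)) = Nat.card (Subgroup.normalizer ((Q : Subgroup G) : Set G)) := by
    have e1 : Nat.card (Sylow 19 G) = (Subgroup.normalizer ((P : Subgroup G) : Set G)).index := P.card_eq_index_normalizer
    have e2 : Nat.card (Sylow 19 G) = (Subgroup.normalizer ((Q : Subgroup G) : Set G)).index := Q.card_eq_index_normalizer
    have m1 := (Subgroup.normalizer ((P : Subgroup G) : Set G)).card_mul_index
    have m2 := (Subgroup.normalizer ((Q : Subgroup G) : Set G)).card_mul_index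
    rw [← e1] at m1; rw [← e2] at m2
    exact Nat.eq_of_mul_eq_mul_right Nat.card_pos (m1.trans m2.symm)
  rw [hconj]
  exact hrR.trans (Subgroup.card_dvd_of_le (hRC.trans (Subgroup.centralizer_le_normalizer _)))

theorem normal_of_step {G : Type u} [Group G] [Finite G] [Fact (Nat.Prime 19)] (h19 : 19 ∣ Nat.card G)
    (hdvd : Nat.card G ∣ 175560) (N : Subgroup G) [hNn : N.Normal] (hN1 : N ≠ ⊥) (hNt : N ≠ ⊤)
    (IH : ∀ X : Subgroup G, Nat.card X < Nat.card G → ∀ Q : Sylow 19 X, (Q : Subgroup X).Normal)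
    (IHq : Nat.card (G ⧸ N) < Nat.card G → ∀ Q : Sylow 19 (G ⧸ N), (Q : Subgroup (G ⧸ N)).Normal)
    (P : Sylow 19 G) : (P : Subgroup G).Normal := by
  have hsq : ¬ 19 * 19 ∣ Nat.card G := fun h => absurd (h.trans hdvd) (by norm_num)
  have hPc := sylow_card_eq h19 hsq P
  by_cases hN19 : 19 ∣ Nat.card N
  · have hlt' : Nat.card N < Nat.card G := lt_of_le_of_ne (Subgroup.card_le_card_group N) fun h =>
      hNt (Subgroup.eq_top_of_card_eq N h)
    obtain ⟨Q⟩ := (inferInstance : Nonempty (Sylow 19 N))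
    haveI hQn := IH N hlt' Q
    haveI := Q.characteristic_of_normal hQn
    have hQ' : ((Q : Subgroup N).map N.subtype).Normal := inferInstance
    obtain ⟨S, hS⟩ := (Q.2.map N.subtype).exists_le_sylow
    have hSQ : (S : Subgroup G) = (Q : Subgroup N).map N.subtype := (Subgroup.eq_of_le_of_card_ge hS (by
      rw [sylow_card_eq h19 hsq S, Subgroup.card_map_of_injective N.subtype_injective]
      exact (sylow_card_eq hN19 (fun h => hsq (h.trans (Subgroup.card_subgroup_dvd_card N))) Q).ge)).symm
    haveI : (S : Subgroup G).Normal := hSQ ▸ hQ'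
    obtain ⟨g, hg⟩ := MulAction.exists_smul_eq G S P
    rw [← hg, Sylow.coe_subgroup_smul, Subgroup.Normal.conj_smul_eq_self g (S : Subgroup G)]
    infer_instance
  set π := QuotientGroup.mk' N
  have hlt' : Nat.card (G ⧸ N) < Nat.card G := by
    have h1 := Subgroup.card_eq_card_quotient_mul_card_subgroup N
    have h2 : 1 < Nat.card N := Subgroup.one_lt_card_iff_ne_bot N |>.mpr hN1
    have h3 : 0 < Nat.card (G ⧸ N) := Nat.card_pos
    nlinarith
  haveI hQn := IHq hlt'
    (P.mapSurjective (QuotientGroup.mk'_surjective N))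
  set X := N ⊔ (P : Subgroup G) with hX
  have hXn : X.Normal := by
    have h : X = ((P : Subgroup G).map π).comap π := by
      rw [QuotientGroup.comap_map_mk', hX, sup_comm]
    rw [h]
    exact hQn.comap π
  by_cases hXt : X = ⊤
  · exact normalizer_top hdvd N hN19 P hXt
  have hXlt : Nat.card X < Nat.card G := lt_of_le_of_ne (Subgroup.card_le_card_group X) fun h =>
    hXt (Subgroup.eq_top_of_card_eq X h)
  haveI := IH X hXlt (P.subtype le_sup_right)
  haveI := (P.subtype (le_sup_right : (P : Subgroup G) ≤ X)).characteristic_of_normal this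
  haveI := hXn
  have h := (inferInstance : (((P.subtype (le_sup_right : (P : Subgroup G) ≤ X)) : Subgroup X).map X.subtype).Normal)
  rwa [Sylow.coe_subtype, Subgroup.map_subgroupOf_eq_of_le le_sup_right] at h


theorem sylow_normal : ∀ (n : ℕ) (G : Type u) [Group G] [Finite G], Nat.card G ≤ n → Nat.card G ∣ 175560 →
    Nat.card G < 175560 → ∀ [Fact (Nat.Prime 19)] (P : Sylow 19 G), (P : Subgroup G).Normal := by
  intro n
  induction n with
  | zero => intro G _ _ h; exact absurd h (Nat.not_le.mpr Nat.card_pos)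
  | succ n IH =>
  intro G _ _ hle hdvd hlt _ P
  by_cases h19 : 19 ∣ Nat.card G
  swap
  · have hbot : (P : Subgroup G) = ⊥ := Subgroup.eq_bot_of_card_eq _ (by
      rw [P.card_eq_multiplicity, Nat.factorization_eq_zero_of_not_dvd h19, pow_zero])
    rw [hbot]; infer_instance
  have hsq : ¬ 19 * 19 ∣ Nat.card G := fun h => absurd (h.trans hdvd) (by norm_num)
  have hPc := sylow_card_eq h19 hsq P
  by_cases hsimple : IsSimpleGroup G
  · obtain ⟨d, hd⟩ := h19
    rcases Nat.lt_or_ge 1 d with h1 | h1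
    · exfalso
      refine not_simple (d := d) ?_ (by omega) hd h1
      exact Nat.dvd_of_mul_dvd_mul_left (by norm_num : 0 < 19) (hd ▸ hdvd.trans (by norm_num))
    · have hd1 : d = 1 := by
        have : 0 < Nat.card G := Nat.card_pos
        rcases d with _ | _ | d <;> omega
      rw [Subgroup.eq_top_of_card_eq (P : Subgroup G) (by rw [hPc, hd, hd1])]
      infer_instance
  haveI : Nontrivial G := Finite.one_lt_card_iff_nontrivial.mp (by
    have := Nat.le_of_dvd Nat.card_pos h19; omega)
  obtain ⟨N, hNn, hN1, hNt⟩ : ∃ N : Subgroup G, N.Normal ∧ N ≠ ⊥ ∧ N ≠ ⊤ := by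
    by_contra! h
    exact hsimple ⟨fun N hN => (em (N = ⊥)).imp id fun h1 => h N hN h1⟩
  haveI := hNn
  exact normal_of_step h19 hdvd N hN1 hNt
    (fun X hX Q => IH X (by omega) ((Subgroup.card_subgroup_dvd_card X).trans hdvd) (by omega) Q)
    (fun hX Q => IH (G ⧸ N) (by omega) ((Subgroup.card_quotient_dvd_card N).trans hdvd) (by omega) Q) P

/-- A finite group of order 175560 = 2³·3·5·7·11·19 is either simple or has a normal Sylow 19-subgroup. -/
theorem result {G : Type*} [Group G] [Finite G] (hG : Nat.card G = 175560) : IsSimpleGroup G ∨ ∀ P : Sylow 19 G, (P : Subgroup G).Normal := by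
  haveI : Fact (Nat.Prime 19) := ⟨by norm_num⟩
  by_cases hs : IsSimpleGroup G
  · exact Or.inl hs
  refine Or.inr fun P => ?_
  haveI : Nontrivial G := Finite.one_lt_card_iff_nontrivial.mp (by omega)
  obtain ⟨N, hNn, hN1, hNt⟩ : ∃ N : Subgroup G, N.Normal ∧ N ≠ ⊥ ∧ N ≠ ⊤ := by
    by_contra! h
    exact hs ⟨fun N hN => (em (N = ⊥)).imp id fun h1 => h N hN h1⟩
  haveI := hNn
  exact normal_of_step (by rw [hG]; norm_num) (by rw [hG]) N hN1 hNt
    (fun X hX Q => sylow_normal _ X le_rfl (hG ▸ Subgroup.card_subgroup_dvd_card X) (hG ▸ hX) Q)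
    (fun hX Q => sylow_normal _ (G ⧸ N) le_rfl (hG ▸ Subgroup.card_quotient_dvd_card N) (hG ▸ hX) Q) P

end Cfsg.Agent.S4274
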