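import Cfsg.Statements.S4275
import Mathlib

set_option autoImplicit false
set_option linter.style.haveILetI false
open Cfsg

namespace Cfsg.Agent.S4275

/-- Let G be a transitive group of permutations of a finite set Ω, let o ∈ Ω, and let α be an automorphism of G. Then α is induced by conjugation by a permutation of Ω normalizing G if and only if the image under α of the stabilizer of o fixes some point of Ω. -/
theorem result {Ω : Type*} [Fintype Ω] (G : Subgroup (Equiv.Perm Ω)) (htr : MulAction.IsPretransitive G Ω) (o : Ω) (α : G ≃* G) : (∃ σ : Equiv.Perm Ω, σ ∈ Subgroup.normalizer (G : Set (Equiv.Perm Ω)) ∧ ∀ g : G, ((α g : G) : Equiv.Perm Ω) = σ * (g : Equiv.Perm Ω) * σ⁻¹) ↔ ∃ ω : Ω, ∀ g ∈ (MulAction.stabilizer G o).map α.toMonoidHom, g • ω = ω := by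
  classical
  constructor
  · rintro ⟨σ, -, hσ⟩
    refine ⟨σ o, ?_⟩
    rintro _ ⟨g, hg, rfl⟩
    show ((α g : G) : Equiv.Perm Ω) (σ o) = σ o
    rw [hσ, Equiv.Perm.mul_apply, Equiv.Perm.mul_apply, show σ⁻¹ (σ o) = o from σ.symm_apply_apply o]
    exact congrArg σ hg
  · rintro ⟨ω, hω⟩
    choose r hr using fun y => htr.exists_smul_eq o y
    have key : ∀ g : G, ∀ y : Ω, g • o = y → α g • ω = α (r y) • ω := by
      intro g y hg
      have h1 : (r y)⁻¹ * g ∈ MulAction.stabilizer G o := by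
        rw [MulAction.mem_stabilizer_iff, mul_smul, hg, inv_smul_eq_iff, hr]
      have h2 := hω _ (Subgroup.mem_map_of_mem α.toMonoidHom h1)
      have h3 : ((α (r y))⁻¹ * α g) • ω = ω := by rw [← map_inv, ← map_mul]; exact h2
      rwa [mul_smul, inv_smul_eq_iff] at h3
    let f : Ω → Ω := fun y => α (r y) • ω
    have hs : Function.Surjective f := by
      intro y
      obtain ⟨g, hg⟩ := htr.exists_smul_eq ω y
      obtain ⟨g', rfl⟩ := α.surjective g
      exact ⟨g' • o, by rw [← hg, key g' _ rfl]⟩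
    let σ : Equiv.Perm Ω := Equiv.ofBijective f (Finite.surjective_iff_bijective.mp hs)
    have heq : ∀ (g : G) (y : Ω), σ ((g : Equiv.Perm Ω) y) = ((α g : G) : Equiv.Perm Ω) (σ y) := by
      intro g y
      show α (r (g • y)) • ω = α g • α (r y) • ω
      rw [← key (g * r y) (g • y) (by rw [mul_smul, hr]), map_mul, mul_smul]
    have hconj : ∀ g : G, ((α g : G) : Equiv.Perm Ω) = σ * (g : Equiv.Perm Ω) * σ⁻¹ := fun g =>
      Equiv.ext fun y => by
        rw [Equiv.Perm.mul_apply, Equiv.Perm.mul_apply, heq, show σ (σ⁻¹ y) = y from σ.apply_symm_apply y]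
    refine ⟨σ, Subgroup.mem_normalizer_iff.mpr fun x => ⟨fun hx => ?_, fun hx => ?_⟩, hconj⟩
    · rw [← hconj ⟨x, hx⟩]; exact (α ⟨x, hx⟩).2
    · have h1 := hconj (α.symm ⟨_, hx⟩)
      rw [MulEquiv.apply_symm_apply] at h1
      have h2 : x = ((α.symm ⟨_, hx⟩ : G) : Equiv.Perm Ω) := mul_left_cancel (mul_right_cancel h1)
      rw [h2]
      exact (α.symm ⟨_, hx⟩).2

end Cfsg.Agent.S4275
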