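import Mathlib
import Cfsg.Statements.S4277
import Cfsg.Agent.Lib.Perm.OddAutomorphism
import Cfsg.Agent.S0675

set_option autoImplicit false
open Cfsg
open scoped Pointwise

namespace Cfsg.Agent.S4277

theorem isSolvable_of_odd_mem {X : Type*} [Group X] [Finite X] (R : Subgroup X) [Group.IsSolvable R]
    (h : ∀ x : X, Odd (orderOf x) → x ∈ R) : Group.IsSolvable X := by
  haveI : Fact (Nat.Prime 2) := ⟨Nat.prime_two⟩
  set N := Subgroup.normalClosure {x : X | Odd (orderOf x)} with hN
  have hNR : N ≤ R := by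
    have e : N = Subgroup.closure {x : X | Odd (orderOf x)} := by
      rw [hN]
      refine le_antisymm ?_ Subgroup.closure_le_normalClosure
      refine Subgroup.closure_mono ?_
      intro y hy
      obtain ⟨x, hx, hxy⟩ := Group.mem_conjugatesOfSet_iff.mp hy
      obtain ⟨c, rfl⟩ := isConj_iff.mp hxy
      show Odd (orderOf (c * x * c⁻¹))
      rwa [← MulAut.conj_apply, MulEquiv.orderOf_eq]
    rw [e, Subgroup.closure_le]
    exact h
  haveI : Group.IsSolvable N := solvable_of_solvable_injective (Subgroup.inclusion_injective hNR)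
  have hp : IsPGroup 2 (X ⧸ N) := by
    intro q
    obtain ⟨x, rfl⟩ := QuotientGroup.mk'_surjective N q
    obtain ⟨k, m, hm, hkm⟩ := Nat.exists_eq_two_pow_mul_odd (orderOf_pos x).ne'
    refine ⟨k, ?_⟩
    rw [← map_pow]
    refine (QuotientGroup.eq_one_iff _).mpr (Subgroup.subset_normalClosure ?_)
    show Odd (orderOf (x ^ 2 ^ k))
    rw [orderOf_pow' _ (Nat.two_pow_pos k).ne', hkm, Nat.gcd_mul_right_left,
      Nat.mul_div_cancel_left _ (Nat.two_pow_pos k)]
    exact hm
  haveI := hp.isNilpotent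
  exact solvable_of_ker_le_range N.subtype (QuotientGroup.mk' N) (by
    rw [QuotientGroup.ker_mk', Subgroup.range_subtype])

/-- The transitive case of prime degree. -/
theorem out_solvable {Ω : Type*} [Fintype Ω] (hp : (Fintype.card Ω).Prime)
    (G : Subgroup (Equiv.Perm Ω)) (h2 : MulAction.IsMultiplyPretransitive G Ω 2) :
    Group.IsSolvable (Cfsg.Out G) := by
  classical
  haveI := Fact.mk hp
  haveI := MulAction.isPretransitive_of_is_two_pretransitive (G := G) (α := Ω)
  obtain ⟨o⟩ : Nonempty Ω := Fintype.card_pos_iff.mp hp.pos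
  set p := Fintype.card Ω with hpdef
  have hidx : (MulAction.stabilizer G o).index = p := by
    rw [MulAction.index_stabilizer_of_transitive, Nat.card_eq_fintype_card]
  have hdvd : Nat.card G ∣ p.factorial := by
    rw [hpdef, ← Fintype.card_perm, ← Nat.card_eq_fintype_card]
    exact Subgroup.card_subgroup_dvd_card G
  have hcard := Subgroup.card_mul_index (MulAction.stabilizer G o)
  rw [hidx] at hcard
  have hnd : ¬ p ∣ Nat.card (MulAction.stabilizer G o) := fun h => by
    rw [← hcard, ← Nat.mul_factorial_pred hp.ne_zero, mul_comm] at hdvd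
    have := (h.trans (Nat.dvd_of_mul_dvd_mul_left hp.pos hdvd))
    rw [hp.dvd_factorial] at this
    have := hp.pos; omega
  have hHall : (Nat.card (MulAction.stabilizer G o)).Coprime (MulAction.stabilizer G o).index := by
    rw [hidx]; exact (hp.coprime_iff_not_dvd.mpr hnd).symm
  let N : Subgroup (Equiv.Perm Ω) := Subgroup.normalizer (G : Set (Equiv.Perm Ω))
  let Φ : N →* Cfsg.Out G := (QuotientGroup.mk' (Cfsg.Inn G)).comp G.normalizerMonoidHom
  obtain ⟨P⟩ : Nonempty (Sylow p G) := inferInstance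
  let P' : Subgroup (Equiv.Perm Ω) := (P : Subgroup G).map G.subtype
  let K : Subgroup (Equiv.Perm Ω) := Subgroup.normalizer (P' : Set (Equiv.Perm Ω))
  have hP'card : Nat.card P' = p := by
    rw [Subgroup.card_map_of_injective G.subtype_injective, P.card_eq_multiplicity, ← hcard,
      Nat.factorization_mul Nat.card_pos.ne' hp.ne_zero, Finsupp.add_apply,
      Nat.factorization_eq_zero_of_not_dvd hnd, hp.factorization_self, zero_add, pow_one]
  have hK : Group.IsSolvable K := by
    haveI hcyc : IsCyclic P' := isCyclic_of_prime_card hP'card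
    obtain ⟨c, hc⟩ := hcyc.exists_generator
    haveI : Group.IsSolvable P' := by
      haveI := hcyc.commGroup
      infer_instance
    haveI : Group.IsSolvable (MulAut P') := isSolvable_of_comm fun a b => by
      refine (IsCyclic.mulAutMulEquiv P').injective ?_
      rw [map_mul, map_mul, mul_comm]
    refine solvable_of_ker_le_range (Subgroup.inclusion (Subgroup.le_normalizer (H := P')))
      P'.normalizerMonoidHom ?_
    intro g hg
    rw [Subgroup.normalizerMonoidHom_ker, Subgroup.mem_subgroupOf, Subgroup.mem_centralizer_iff] at hg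
    -- `P'` is transitive, hence self-centralizing
    haveI : MulAction.IsPretransitive P' Ω := by
      haveI : Nontrivial P' := Finite.one_lt_card_iff_nontrivial.mp (hP'card ▸ hp.one_lt)
      obtain ⟨d, hd⟩ := exists_ne (1 : P')
      obtain ⟨x, hx⟩ : ∃ x : Ω, (d : Equiv.Perm Ω) x ≠ x := by
        by_contra hall; push Not at hall
        exact hd (Subtype.ext (Equiv.ext hall))
      have hdvd' : Nat.card (MulAction.orbit P' x) ∣ p := by
        rw [← hP'card, Nat.card_coe_set_eq, ← MulAction.index_stabilizer]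
        exact Subgroup.index_dvd_card _
      refine ⟨fun a b => ?_⟩
      have hfull : MulAction.orbit P' x = Set.univ := by
        rcases (Nat.dvd_prime hp).mp hdvd' with h | h
        · obtain ⟨hs, -⟩ := Nat.card_eq_one_iff_unique.mp h
          exact absurd (congrArg Subtype.val
            (Subsingleton.elim (⟨d • x, ⟨d, rfl⟩⟩ : MulAction.orbit P' x) ⟨x, MulAction.mem_orbit_self x⟩)) hx
        · exact Set.eq_of_subset_of_ncard_le (Set.subset_univ _) (by
            rw [Set.ncard_univ, ← Nat.card_coe_set_eq, h, Nat.card_eq_fintype_card]) (Set.toFinite _)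
      obtain ⟨u, hu⟩ : a ∈ MulAction.orbit P' x := hfull ▸ Set.mem_univ a
      obtain ⟨v, hv⟩ : b ∈ MulAction.orbit P' x := hfull ▸ Set.mem_univ b
      exact ⟨v * u⁻¹, by rw [← hu, ← hv, smul_smul, inv_mul_cancel_right]⟩
    obtain ⟨u, hu⟩ := MulAction.exists_smul_eq P' o ((g : Equiv.Perm Ω) o)
    refine ⟨u, Subtype.ext (Equiv.ext fun x => ?_)⟩
    obtain ⟨v, hv⟩ := MulAction.exists_smul_eq P' o x
    rw [← hv]
    show (u : Equiv.Perm Ω) ((v : Equiv.Perm Ω) o) = (g : Equiv.Perm Ω) ((v : Equiv.Perm Ω) o)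
    have hcomm : (u : Equiv.Perm Ω) * (v : Equiv.Perm Ω) = v * u := by
      obtain ⟨i, rfl⟩ := Subgroup.mem_zpowers_iff.mp (hc u)
      obtain ⟨j, rfl⟩ := Subgroup.mem_zpowers_iff.mp (hc v)
      exact (Subgroup.coe_mul _ _ _).symm.trans ((congrArg Subtype.val (zpow_mul_comm c i j)).trans (Subgroup.coe_mul _ _ _))
    rw [← Equiv.Perm.mul_apply, hcomm, Equiv.Perm.mul_apply, show (u : Equiv.Perm Ω) o = _ from hu,
      ← Equiv.Perm.mul_apply, hg v v.2, Equiv.Perm.mul_apply]
  have hsurj : ∀ x ∈ Φ.range, x ∈ (Φ.comp ((N ⊓ K).subgroupOf N).subtype).range := by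
    rintro _ ⟨σ, rfl⟩
    have hσ := σ.2
    let a : MulAut G := G.normalizerMonoidHom σ
    obtain ⟨g, hg⟩ := MulAction.exists_smul_eq G P (a • P)
    let τ : N := ⟨(g : Equiv.Perm Ω), Subgroup.le_normalizer g.2⟩⁻¹ * σ
    have hτK : (τ : Equiv.Perm Ω) ∈ K := by
      rw [Subgroup.mem_normalizer_iff]
      have h1 : (a • P : Sylow p G) = MulAut.conj g • P := hg.symm
      have h1' : a • (P : Subgroup G) = MulAut.conj g • (P : Subgroup G) := congrArg Sylow.toSubgroup h1
      have key : ∀ y : G, y ∈ (P : Subgroup G) ↔ g⁻¹ * a y * g ∈ (P : Subgroup G) := fun y => by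
        have h2 : a y ∈ a • (P : Subgroup G) ↔ y ∈ (P : Subgroup G) := by
          rw [Subgroup.mem_pointwise_smul_iff_inv_smul_mem]; simp
        rw [← h2, h1', Subgroup.mem_pointwise_smul_iff_inv_smul_mem]
        simp [mul_assoc]
      intro h
      constructor
      · rintro ⟨y, hy, rfl⟩
        exact ⟨g⁻¹ * a y * g, (key y).mp hy, by simp [τ, a, mul_assoc]⟩
      · rintro ⟨y, hy, hy'⟩
        have hh : h ∈ G := by
          have : (τ : Equiv.Perm Ω) * h * (τ : Equiv.Perm Ω)⁻¹ ∈ G := hy' ▸ y.2
          exact (Subgroup.mem_normalizer_iff.mp τ.2 h).mpr this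
        refine ⟨⟨h, hh⟩, (key _).mpr ?_, rfl⟩
        have e : g⁻¹ * a ⟨h, hh⟩ * g = y := by
          refine Subtype.ext ?_
          rw [G.subtype_apply] at hy'
          rw [hy']
          simp [τ, a, mul_assoc]
        rw [e]
        exact hy
    refine ⟨⟨τ, ⟨τ.2, hτK⟩⟩, ?_⟩
    show Φ τ = Φ σ
    rw [map_mul, map_inv]
    have : Φ ⟨(g : Equiv.Perm Ω), Subgroup.le_normalizer g.2⟩ = 1 :=
      (QuotientGroup.eq_one_iff _).mpr ⟨g, by ext x; rfl⟩
    rw [this, inv_one, one_mul]
  haveI : Group.IsSolvable Φ.range := by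
    haveI : Group.IsSolvable ((N ⊓ K).subgroupOf N) := by
      haveI := hK
      refine solvable_of_solvable_injective (f := MonoidHom.codRestrict
        ((N.subtype).comp ((N ⊓ K).subgroupOf N).subtype) K fun x => x.2.2) ?_
      intro x y h
      exact Subtype.ext (Subtype.ext (congrArg (fun z : K => (z : Equiv.Perm Ω)) h))
    haveI : Group.IsSolvable (Φ.comp ((N ⊓ K).subgroupOf N).subtype).range :=
      solvable_of_surjective (MonoidHom.rangeRestrict_surjective _)
    exact solvable_of_solvable_injective (Subgroup.inclusion_injective hsurj)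
  refine isSolvable_of_odd_mem Φ.range fun x hx => ?_
  obtain ⟨α, rfl⟩ := QuotientGroup.mk'_surjective (Cfsg.Inn G) x
  obtain ⟨k, m, hm, hkm⟩ := Nat.exists_eq_two_pow_mul_odd (orderOf_pos α).ne'
  have hodd : Odd (orderOf (α ^ 2 ^ k)) := by
    rw [orderOf_pow' _ (Nat.two_pow_pos k).ne', hkm, Nat.gcd_mul_right_left,
      Nat.mul_div_cancel_left _ (Nat.two_pow_pos k)]
    exact hm
  obtain ⟨σ, hσN, hσ⟩ := Cfsg.Agent.PermOddAutomorphism.exists_perm G h2 o (α ^ 2 ^ k) hodd o (by
    rw [← Nat.card_eq_fintype_card, ← MulAction.index_stabilizer_of_transitive G o]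
    refine Nat.Coprime.coprime_dvd_left ?_ hHall
    rw [← Subgroup.card_map_of_injective (f := (α ^ 2 ^ k).toMonoidHom) (K := MulAction.stabilizer G o)
      (α ^ 2 ^ k).injective, Nat.card_coe_set_eq, ← MulAction.index_stabilizer]
    exact Subgroup.index_dvd_card _)
  have hmem : QuotientGroup.mk' (Cfsg.Inn G) α ^ 2 ^ k ∈ Φ.range := by
    refine ⟨⟨σ, hσN⟩, ?_⟩
    rw [← map_pow]
    refine congrArg (QuotientGroup.mk' (Cfsg.Inn G)) ?_
    ext g : 1
    exact Subtype.ext (hσ g).symm
  obtain ⟨j, hj⟩ := exists_pow_eq_self_of_coprime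
    ((Nat.coprime_two_left.mpr hx).pow_left k)
  rw [← hj]
  exact Subgroup.pow_mem _ hmem j

/-- A case of the Schreier conjecture: if a finite simple group G has a subgroup of prime index, then the outer automorphism group of G is solvable. -/
theorem result {G : Type*} [Group G] [Finite G] [IsSimpleGroup G] (H : Subgroup G) (hH : H.index.Prime) : Group.IsSolvable (Cfsg.Out G) := by
  classical
  by_cases hs : Group.IsSolvable G
  · have hc : ∀ a b : G, a * b = b * a := IsSimpleGroup.comm_iff_isSolvable.mpr hs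
    haveI : IsCyclic G :=
      @IsSimpleGroup.isCyclic G { ‹Group G› with mul_comm := hc } _
    haveI : Group.IsSolvable (MulAut G) := isSolvable_of_comm fun a b => by
      refine (IsCyclic.mulAutMulEquiv G).injective ?_
      rw [map_mul, map_mul, mul_comm]
    exact solvable_of_surjective (QuotientGroup.mk'_surjective (Cfsg.Inn G))
  haveI := Fintype.ofFinite (G ⧸ H)
  have hp : (Fintype.card (G ⧸ H)).Prime := by
    rw [← Nat.card_eq_fintype_card]; exact hH
  let φ := MulAction.toPermHom G (G ⧸ H)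
  have hinj : Function.Injective φ := by
    rw [← MonoidHom.ker_eq_bot_iff]
    refine ((MonoidHom.normal_ker φ).eq_bot_or_eq_top).resolve_right fun htop => ?_
    refine hH.one_lt.ne' (Subgroup.index_eq_one.mpr (eq_top_iff.mpr fun g _ => ?_))
    have : φ g = 1 := MonoidHom.mem_ker.mp (htop ▸ Subgroup.mem_top g)
    have h1 : g • ((1 : G) : G ⧸ H) = ((1 : G) : G ⧸ H) := congrArg (fun e : Equiv.Perm (G ⧸ H) => e ((1 : G) : G ⧸ H)) this
    rw [MulAction.Quotient.smul_coe, smul_eq_mul, mul_one, QuotientGroup.eq] at h1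
    simpa using H.inv_mem h1
  let e : G ≃* φ.range := MonoidHom.ofInjective hinj
  haveI : MulAction.IsPretransitive φ.range (G ⧸ H) := ⟨fun x y => by
    obtain ⟨g, hg⟩ := MulAction.exists_smul_eq G x y
    exact ⟨e g, hg⟩⟩
  have h2 : MulAction.IsMultiplyPretransitive φ.range (G ⧸ H) 2 := by
    rcases Cfsg.Agent.S0675.result hp φ.range with h | h
    · haveI := h
      exact absurd (solvable_of_solvable_injective e.injective) hs
    · exact h
  haveI := out_solvable hp φ.range h2
  let f : MulAut φ.range →* MulAut G := (MulAut.congr e.symm).toMonoidHom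
  have hInn : Cfsg.Inn φ.range ≤ (Cfsg.Inn G).comap f := by
    rintro _ ⟨g, rfl⟩
    refine ⟨e.symm g, ?_⟩
    ext x
    simp [f, MulAut.congr]
  refine solvable_of_surjective (f := QuotientGroup.map _ _ f hInn) ?_
  intro x
  obtain ⟨a, rfl⟩ := QuotientGroup.mk'_surjective (Cfsg.Inn G) x
  exact ⟨QuotientGroup.mk' _ ((MulAut.congr e.symm).symm a), by
    show QuotientGroup.mk' (Cfsg.Inn G) (f _) = _
    exact congrArg _ ((MulAut.congr e.symm).apply_symm_apply a)⟩

end Cfsg.Agent.S4277
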