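import Cfsg.Statements.S4282
import Cfsg.Agent.Lib.HallHigman.Bound
import Cfsg.Agent.Lib.HallHigman.Degree

set_option autoImplicit false
set_option linter.style.haveILetI false
open Cfsg

namespace Cfsg.Agent.S4282

/-- A critical case behind the Hall–Higman theorem. Let p ≠ q be primes and G a finite group generated by a normal q-subgroup Q and a cyclic p-subgroup generated by x, such that the centralizer of every non-identity element of that cyclic subgroup is its product with the centre of G. Let K be an algebraically closed field of characteristic p and ρ a faithful representation of G on a nonzero finite-dimensional K-space whose restriction to Q is irreducible. If s is the least exponent with (ρ(x) − 1)^s = 0, then |⟨x⟩| − 1 ≤ s ≤ |⟨x⟩|; and if s = |⟨x⟩| − 1 then |⟨x⟩| − 1 is a power of q and Q is non-abelian. -/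
theorem result {G : Type*} [Group G] [Finite G] (p q : ℕ) [Fact p.Prime] [Fact q.Prime] (hpq : p ≠ q) (Q : Subgroup G) [Q.Normal] (hQ : IsPGroup q Q) (x : G) (hx : IsPGroup p (Subgroup.zpowers x)) (hgen : Q ⊔ Subgroup.zpowers x = ⊤) (hC : ∀ y ∈ Subgroup.zpowers x, y ≠ 1 → Subgroup.centralizer ({y} : Set G) = Subgroup.zpowers x ⊔ Subgroup.center G) {K : Type*} [Field K] [IsAlgClosed K] [CharP K p] {V : Type*} [AddCommGroup V] [Module K V] [FiniteDimensional K V] [Nontrivial V] (ρ : Representation K G V) (hfaith : Function.Injective ρ) (hirr : ∀ W : Submodule K V, (∀ g ∈ Q, Submodule.map (ρ g) W ≤ W) → W = ⊥ ∨ W = ⊤) (s : ℕ) (hs : (ρ x - 1) ^ s = 0) (hmin : ∀ k < s, (ρ x - 1) ^ k ≠ 0) : Nat.card (Subgroup.zpowers x) - 1 ≤ s ∧ s ≤ Nat.card (Subgroup.zpowers x) ∧ (s = Nat.card (Subgroup.zpowers x) - 1 → (∃ b : ℕ, Nat.card (Subgroup.zpowers x) - 1 = q ^ b) ∧ ¬ IsMulCommutative Q) := by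
  classical
  letI := Fintype.ofFinite Q
  haveI := CfsgLib.HallHigman.charP_end p V (K := K)
  set u : Module.End K V := ρ x with hu
  obtain ⟨n, hn⟩ := (IsPGroup.iff_card).mp hx
  set P := Nat.card (Subgroup.zpowers x) with hP
  have hxP : x ^ P = 1 := by rw [hP, Nat.card_zpowers]; exact pow_orderOf_eq_one x
  have huP : u ^ P = 1 := by rw [hu, ← map_pow, hxP, map_one]
  have hsle : s ≤ P := by
    by_contra hlt
    push Not at hlt
    refine hmin P hlt ?_
    show (u - 1) ^ P = 0
    rw [hn, CfsgLib.HallHigman.sub_one_pow_prime_pow, ← hn, huP, sub_self]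
  let ρQ : Q →* Module.End K V := (ρ : G →* Module.End K V).comp Q.subtype
  have hρQ : CfsgLib.HallHigman.IsIrr ρQ := ⟨inferInstance, fun U hU => hirr U fun g hg => by
    rintro _ ⟨w, hw, rfl⟩
    exact hU ⟨g, hg⟩ w hw⟩
  have hQ0 : (Fintype.card Q : K) ≠ 0 := by
    obtain ⟨m, hm⟩ := hQ.exists_card_eq
    rw [← Nat.card_eq_fintype_card, hm]
    exact CfsgLib.HallHigman.nat_ne_zero_of_coprime (Nat.Coprime.pow_left _
      ((Nat.coprime_primes Fact.out Fact.out).mpr (Ne.symm hpq)))
  let σ : MulAut Q := MulAut.conjNormal x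
  have hσi : ∀ (i : ℕ) (g : Q), ((σ ^ i) g : G) = x ^ i * g * (x ^ i)⁻¹ := fun i g => by
    show (((MulAut.conjNormal x) ^ i) g : G) = _
    rw [← map_pow, MulAut.conjNormal_apply]
  have hs0 : 1 ≤ s := by
    rcases Nat.eq_zero_or_pos s with h0 | h0
    · rw [h0, pow_zero] at hs; exact absurd hs one_ne_zero
    · exact h0
  -- if every element of `Q` is scalar then `x = 1`
  have htriv : Module.finrank K V = 1 → P = 1 := by
    intro hN
    obtain ⟨w, hw, hspan⟩ := finrank_eq_one_iff'.mp hN
    obtain ⟨c, hc⟩ := hspan (u w)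
    have hc1 : c ^ P = 1 := by
      have h1 : ∀ i : ℕ, (u ^ i) w = c ^ i • w := by
        intro i
        induction i with
        | zero => simp
        | succ i ih => rw [pow_succ', Module.End.mul_apply, ih, map_smul, ← hc, smul_smul, pow_succ]
      have h2 := h1 P
      rw [huP, Module.End.one_apply] at h2
      by_contra hne
      have h3 : (c ^ P - 1) • w = 0 := by rw [sub_smul, one_smul, ← h2, sub_self]
      rcases smul_eq_zero.mp h3 with h4 | h4
      exacts [hne (sub_eq_zero.mp h4), hw h4]
    have hc2 : c = 1 := by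
      have h := sub_pow_char_pow (p := p) (n := n) c (1 : K)
      rw [one_pow, ← hn, hc1, sub_self] at h
      exact sub_eq_zero.mp (eq_zero_of_pow_eq_zero h)
    have hx1 : x = 1 := hfaith (by
      rw [map_one]
      refine LinearMap.ext fun v => ?_
      obtain ⟨d, rfl⟩ := hspan v
      show u (d • w) = d • w
      rw [map_smul, ← hc, hc2, one_smul])
    rw [hP, Nat.card_zpowers, hx1, orderOf_one]
  have hbound := CfsgLib.HallHigman.bound hρQ hQ0 σ u n (by rw [← hn]; exact huP)
    (by
      refine MulEquiv.ext fun g => Subtype.ext ?_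
      rw [hσi, ← hn, hxP]; simp)
    (fun g => by
      have h1 := hσi 1 g
      rw [pow_one, pow_one] at h1
      show ρ x * ρ (g : G) = ρ ((σ g : Q) : G) * ρ x
      rw [h1, ← map_mul, ← map_mul, inv_mul_cancel_right])
    (fun i g hi hiP hfix => by
      refine CfsgLib.HallHigman.scalar_of_comm hρQ fun h => Subtype.ext ?_
      have hy1 : x ^ i ≠ 1 := by
        refine pow_ne_one_of_lt_orderOf (by omega) ?_
        rw [← Nat.card_zpowers, ← hP, hn]; exact hiP
      have hg := congrArg Subtype.val hfix
      rw [hσi, mul_inv_eq_iff_eq_mul] at hg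
      have hmem : (g : G) ∈ Subgroup.centralizer ({x ^ i} : Set G) :=
        Subgroup.mem_centralizer_singleton_iff.mpr hg.symm
      rw [hC _ (Subgroup.npow_mem_zpowers x i) hy1] at hmem
      obtain ⟨a, ha, z, hz, e⟩ := Subgroup.mem_sup_of_normal_right.mp hmem
      have haP : a ^ P = 1 := by
        have h1 := pow_card_eq_one' (G := Subgroup.zpowers x) (x := ⟨a, ha⟩)
        exact congrArg Subtype.val h1
      have hgP : (g : G) ^ P = z ^ P := by
        rw [← e, (show Commute a z from Subgroup.mem_center_iff.mp hz a).mul_pow, haP, one_mul]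
      obtain ⟨k, hk⟩ := hQ g
      have hcop : (orderOf (g : G)).Coprime P := by
        have hd : orderOf (g : G) ∣ q ^ k := orderOf_dvd_of_pow_eq_one (congrArg Subtype.val hk)
        rw [hn]
        exact Nat.Coprime.coprime_dvd_left hd (((Nat.coprime_primes Fact.out Fact.out).mpr
          (Ne.symm hpq)).pow _ _)
      obtain ⟨m, hm⟩ := exists_pow_eq_self_of_coprime hcop.symm
      have hgc : (g : G) ∈ Subgroup.center G := by
        rw [← hm]
        exact Subgroup.pow_mem _ (hgP ▸ Subgroup.pow_mem _ hz P) m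
      show (g : G) * h = h * g
      exact (Subgroup.mem_center_iff.mp hgc h).symm)
    s hs (hmin _ (by omega))
  have hcases : P - 1 ≤ s ∧ (s + 1 = P → Module.finrank K V = s) := by
    rcases hbound with hN | hb
    · have := htriv hN
      exact ⟨by omega, fun h => by omega⟩
    · rw [hn]; exact hb
  refine ⟨hcases.1, hsle, fun hsP => ?_⟩
  have hPpos : 0 < P := Nat.card_pos
  have hN := hcases.2 (by omega)
  refine ⟨?_, fun hcomm => ?_⟩
  · obtain ⟨b, hb⟩ := CfsgLib.HallHigman.irr_pgroup_finrank (q := q) _ Q rfl hQ ρQ hρQ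
    exact ⟨b, by omega⟩
  · obtain ⟨v, hv⟩ := exists_ne (0 : V)
    have htop : (K ∙ v) = ⊤ := (hρQ.2 _ fun g w hw => by
      obtain ⟨c, hc⟩ := CfsgLib.HallHigman.scalar_of_comm hρQ (g := g)
        (fun h => hcomm.is_comm.comm g h)
      rw [hc]; simpa using Submodule.smul_mem _ c hw).resolve_left (by simpa using hv)
    have h1 : Module.finrank K V = 1 := by
      rw [← finrank_top K V, ← htop, finrank_span_singleton hv]
    have := htriv h1
    omega

end Cfsg.Agent.S4282
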