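import Cfsg.Statements.S4283
import Mathlib
import Cfsg.Agent.Lib.FrobCompl.Fpf

set_option autoImplicit false
set_option linter.style.haveILetI false
open Cfsg

namespace Cfsg.Agent.S4283

/-- Let G be a finite group with centre Z and let K, H be abelian subgroups of G containing Z such that G/Z is a Frobenius group with complement H/Z and kernel K/Z. Then the conjugacy class sizes of G are exactly 1, [G : K] and [G : H], and these two indices are coprime. (This is the converse half of the characterization of finite groups whose conjugacy class sizes are exactly 1, m and n with m and n coprime.) -/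
theorem result {G : Type*} [Group G] [Finite G] (K H : Subgroup G) (hZK : Subgroup.center G ≤ K) (hZH : Subgroup.center G ≤ H) (hK : IsMulCommutative K) (hH : IsMulCommutative H) (hFrob : Cfsg.IsFrobeniusComplement (H.map (QuotientGroup.mk' (Subgroup.center G)))) (hker : Cfsg.frobeniusKernel (H.map (QuotientGroup.mk' (Subgroup.center G))) = (K.map (QuotientGroup.mk' (Subgroup.center G)) : Set (G ⧸ Subgroup.center G))) : Set.range (fun x : G => (Subgroup.centralizer ({x} : Set G)).index) = ({1, K.index, H.index} : Set ℕ) ∧ K.index.Coprime H.index := by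
  set Z := Subgroup.center G with hZ
  set f := QuotientGroup.mk' Z
  have hf : Function.Surjective f := QuotientGroup.mk'_surjective Z
  set Hb := H.map f with hHb
  set Kb := K.map f with hKb
  have hkerK : f.ker ≤ K := by rwa [QuotientGroup.ker_mk']
  have hkerH : f.ker ≤ H := by rwa [QuotientGroup.ker_mk']
  obtain ⟨N, hN, hNn, hc⟩ := CfsgLib.FrobCompl.exists_kernel_complement hFrob
  have hNK : N = Kb := SetLike.coe_injective (hN.trans hker)
  subst hNK
  haveI := hNn
  have hmemK : ∀ c : G, f c ∈ Kb → c ∈ K := fun c h => by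
    rw [← Subgroup.comap_map_eq_self hkerK]; exact h
  have hmemH : ∀ c : G, f c ∈ Hb → c ∈ H := fun c h => by
    rw [← Subgroup.comap_map_eq_self hkerH]; exact h
  have hone : ∀ x : G, f x = 1 ↔ x ∈ Z := fun x => QuotientGroup.eq_one_iff x
  have hCK : ∀ x ∈ K, x ∉ Z → Subgroup.centralizer ({x} : Set G) = K := by
    intro x hx hxZ
    refine le_antisymm (fun c hcx => hmemK c ?_) (fun c hcK => ?_)
    · refine CfsgLib.FrobCompl.mem_kernel_of_commute hFrob hc hN (Subgroup.mem_map_of_mem f hx)
        (fun e => hxZ ((hone x).mp e)) ?_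
      rw [← map_mul, ← map_mul, Subgroup.mem_centralizer_singleton_iff.mp hcx]
    · exact Subgroup.mem_centralizer_singleton_iff.mpr
        (congrArg Subtype.val (mul_comm' (⟨c, hcK⟩ : K) ⟨x, hx⟩))
  have hCH : ∀ x ∈ H, x ∉ Z → Subgroup.centralizer ({x} : Set G) = H := by
    intro x hx hxZ
    refine le_antisymm (fun c hcx => hmemH c ?_) (fun c hcH => ?_)
    · refine CfsgLib.FrobCompl.mem_of_commute hFrob (Subgroup.mem_map_of_mem f hx)
        (fun e => hxZ ((hone x).mp e)) ?_
      rw [← map_mul, ← map_mul, Subgroup.mem_centralizer_singleton_iff.mp hcx]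
    · exact Subgroup.mem_centralizer_singleton_iff.mpr
        (congrArg Subtype.val (mul_comm' (⟨c, hcH⟩ : H) ⟨x, hx⟩))
  refine ⟨Set.ext fun n => ⟨?_, ?_⟩, ?_⟩
  · rintro ⟨x, rfl⟩
    simp only [Set.mem_insert_iff, Set.mem_singleton_iff]
    by_cases hxZ : x ∈ Z
    · left
      rw [Subgroup.index_eq_one, Subgroup.eq_top_iff']
      exact fun c => Subgroup.mem_centralizer_singleton_iff.mpr (Subgroup.mem_center_iff.mp hxZ c)
    by_cases hxK : x ∈ K
    · exact Or.inr (Or.inl (by rw [hCK x hxK hxZ]))
    · right; right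
      have hfx : f x ∉ Cfsg.frobeniusKernel Hb := fun h => hxK (hmemK x (hN.symm.subset h))
      simp only [Cfsg.frobeniusKernel, Set.mem_ofPred_eq, not_or, not_forall, not_not] at hfx
      obtain ⟨-, g, hg⟩ := hfx
      rw [CfsgLib.FrobCompl.mem_conj_smul] at hg
      obtain ⟨g, rfl⟩ := hf g
      rw [← map_inv, ← map_mul, ← map_mul] at hg
      set y := g⁻¹ * x * g with hy
      have hyZ : y ∉ Z := fun h => hxZ (by
        have := (inferInstance : Z.Normal).conj_mem y h g
        simpa [hy, mul_assoc] using this)
      rw [← hCH y (hmemH y hg) hyZ]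
      have hmap : (Subgroup.centralizer ({y} : Set G)).map (MulAut.conj g).toMonoidHom =
          Subgroup.centralizer ({x} : Set G) := by
        ext c
        simp only [Subgroup.mem_map, Subgroup.mem_centralizer_singleton_iff]
        constructor
        · rintro ⟨d, hd, rfl⟩
          calc (g * d * g⁻¹) * x = g * (d * y) * g⁻¹ := by rw [hy]; group
            _ = x * (g * d * g⁻¹) := by rw [hd, hy]; group
        · intro hc'
          refine ⟨g⁻¹ * c * g, ?_, by simp [mul_assoc]⟩
          calc g⁻¹ * c * g * y = g⁻¹ * (c * x) * g := by rw [hy]; group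
            _ = y * (g⁻¹ * c * g) := by rw [hc', hy]; group
      rw [← hmap]
      exact Subgroup.index_map_equiv _ (MulAut.conj g)
  · simp only [Set.mem_insert_iff, Set.mem_singleton_iff]
    rintro (rfl | rfl | rfl)
    · exact ⟨1, by simp⟩
    · obtain ⟨x, hx, hxZ⟩ : ∃ x ∈ K, x ∉ Z := by
        by_contra h
        push Not at h
        refine hFrob.2.1 ?_
        have hbot : K.map f = ⊥ := (Subgroup.map_eq_bot_iff _).mpr (by rwa [QuotientGroup.ker_mk'])
        rw [hKb, hbot] at hc
        exact Subgroup.isComplement'_bot_left.mp hc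
      exact ⟨x, by simp only [hCK x hx hxZ]⟩
    · obtain ⟨x, hx, hxZ⟩ : ∃ x ∈ H, x ∉ Z := by
        by_contra h
        push Not at h
        exact hFrob.1 ((Subgroup.map_eq_bot_iff _).mpr (by rwa [QuotientGroup.ker_mk']))
      exact ⟨x, by simp only [hCH x hx hxZ]⟩
  · rw [← Subgroup.index_map_eq _ hf hkerK, ← Subgroup.index_map_eq _ hf hkerH]
    rw [hc.index_eq_card, hc.symm.index_eq_card]
    exact (CfsgLib.FrobCompl.isComplement_coprime hFrob hc).symm

end Cfsg.Agent.S4283
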