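import Cfsg.Statements.S4291
import Cfsg.Agent.Lib.PerfectCompl.SixTypes
import Cfsg.Agent.S4337

set_option autoImplicit false
open Cfsg
open CfsgLib.PerfectCompl CfsgLib.FrobCompl

namespace Cfsg.Agent.S4291

/-- Let G be a finite group that occurs as a Frobenius complement. Then G has exactly one normal subgroup N such that every Sylow subgroup of N is cyclic and the quotient of G by N is trivial or isomorphic to one of the following five groups: the Klein four-group, the alternating group of degree 4, the symmetric group of degree 4, the alternating group of degree 5, the symmetric group of degree 5. (The quotient is described by a surjective homomorphism with kernel N; the Klein four-group is written as the dihedral group of order 4.) -/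
theorem result {G : Type*} [Group G] [Finite G]
    (hFC : (∃ (L : Type) (_ : Group L) (_ : Finite L) (H : Subgroup L), Cfsg.IsFrobeniusComplement H ∧ Nonempty (G ≃* H))) :
    ∃! N : Subgroup G, N.Normal ∧ (∀ (p : ℕ) [Fact p.Prime] (P : Sylow p N), IsCyclic P) ∧
      (N = ⊤ ∨
        (∃ f : G →* DihedralGroup 2, Function.Surjective f ∧ f.ker = N) ∨
        (∃ f : G →* alternatingGroup (Fin 4), Function.Surjective f ∧ f.ker = N) ∨
        (∃ f : G →* Equiv.Perm (Fin 4), Function.Surjective f ∧ f.ker = N) ∨
        (∃ f : G →* alternatingGroup (Fin 5), Function.Surjective f ∧ f.ker = N) ∨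
        (∃ f : G →* Equiv.Perm (Fin 5), Function.Surjective f ∧ f.ker = N)) := by
  classical
  obtain ⟨L, _, _, H, hH, ⟨e⟩⟩ := hFC
  have hG : HasFpf G := hasFpf_of_complement hH e
  by_cases hsol : Group.IsSolvable G
  · haveI := hsol
    have hno5 : ∀ N : Subgroup G, ¬ ((∃ f : G →* alternatingGroup (Fin 5), Function.Surjective f ∧ f.ker = N) ∨
        (∃ f : G →* Equiv.Perm (Fin 5), Function.Surjective f ∧ f.ker = N)) := by
      rintro N (⟨f, hf, -⟩ | ⟨f, hf, -⟩)
      · exact alt_five_not_solvable (solvable_of_surjective hf)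
      · haveI : Group.IsSolvable (Equiv.Perm (Fin 5)) := solvable_of_surjective hf
        exact alt_five_not_solvable inferInstance
    by_cases hP : ∀ P : Sylow 2 G, IsCyclic (P : Subgroup G)
    · refine ⟨⊤, ⟨inferInstance, fun p hp Q => ?_, Or.inl rfl⟩, ?_⟩
      · by_cases hp2 : p = 2
        · subst hp2
          have hi : IsPGroup 2 ((Q : Subgroup (⊤ : Subgroup G)).map (Subgroup.subtype _)) := Q.2.map _
          obtain ⟨R, hR⟩ := hi.exists_le_sylow
          haveI := hP R
          haveI := Subgroup.isCyclic_of_le hR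
          exact (Subgroup.equivMapOfInjective _ _ (Subgroup.subtype_injective _)).isCyclic.mpr inferInstance
        · exact cyclic_sylow_odd hG hp2 Q
      rintro N ⟨-, -, h | ⟨f, hf, -⟩ | ⟨f, hf, -⟩ | ⟨f, hf, -⟩ | h | h⟩
      · exact h
      · exact absurd (eq_of_commute_invol f hf hP (s := (DihedralGroup.r 1 : DihedralGroup 2)) (t := (DihedralGroup.sr 0 : DihedralGroup 2))
          (orderOf_eq_prime (by decide) (by decide)) (orderOf_eq_prime (by decide) (by decide))
          (show (DihedralGroup.r 1 : DihedralGroup 2) * DihedralGroup.sr 0 = DihedralGroup.sr 0 * DihedralGroup.r 1 by decide))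
          (by decide)
      · exact absurd (eq_of_commute_invol f hf hP
          (s := ⟨Equiv.swap 0 1 * Equiv.swap 2 3, Equiv.Perm.mem_alternatingGroup.mpr (by decide)⟩)
          (t := ⟨Equiv.swap 0 2 * Equiv.swap 1 3, Equiv.Perm.mem_alternatingGroup.mpr (by decide)⟩)
          (orderOf_eq_prime (by decide) (by decide)) (orderOf_eq_prime (by decide) (by decide))
          (Subtype.ext (by decide))) (by decide)
      · exact absurd (eq_of_commute_invol f hf hP (s := Equiv.swap 0 1) (t := Equiv.swap 2 3)
          (orderOf_eq_prime (by decide) (by decide)) (orderOf_eq_prime (by decide) (by decide))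
          (show Equiv.swap (0 : Fin 4) 1 * Equiv.swap 2 3 = Equiv.swap 2 3 * Equiv.swap 0 1 by decide)) (by decide)
      · exact absurd (Or.inl h) (hno5 N)
      · exact absurd (Or.inr h) (hno5 N)
    push Not at hP
    obtain ⟨P, hP⟩ := hP
    have hPall : ∀ Q : Sylow 2 G, ¬ IsCyclic (Q : Subgroup G) := fun Q h => hP ((Q.equiv P).isCyclic.mp h)
    obtain ⟨N, hNn, hNz, hNq, -, huniq⟩ := solvable_structure hG hsol hPall
    refine ⟨N, ⟨hNn, hNz, ?_⟩, ?_⟩
    · rcases hNq with h | h | h
      · exact Or.inr (Or.inl h)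
      · exact Or.inr (Or.inr (Or.inl h))
      · exact Or.inr (Or.inr (Or.inr (Or.inl h)))
    rintro N' ⟨hn, hz, h | h | h | h | h | h⟩
    · subst h
      exact absurd (ZSylow.cyclic hz P.2 le_top) hP
    · exact huniq N' hn hz (Or.inl h)
    · exact huniq N' hn hz (Or.inr (Or.inl h))
    · exact huniq N' hn hz (Or.inr (Or.inr h))
    · exact absurd (Or.inl h) (hno5 N')
    · exact absurd (Or.inr h) (hno5 N')
  obtain ⟨D, M, θ, hDn, hMn, -, -, -, hMcop, -, -, hcard, hA, -, -, -⟩ := nonsolvable_structure hG hsol
  have hrange : alternatingGroup (Fin 5) ≤ θ.range := fun σ hσ => Subgroup.map_le_range θ D (hA σ hσ)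
  have hkz : ZSylow θ.ker := by
    intro p hp Q
    by_cases hp2 : p = 2
    · subst hp2
      have h2 : Nat.card (Q : Subgroup θ.ker) = 2 := by
        have hodd : ¬ 2 ∣ Nat.card M := fun h => by
          have := Nat.Coprime.coprime_dvd_left h hMcop
          exact absurd this (by decide)
        rw [Q.card_eq_multiplicity, hcard, Nat.factorization_mul two_ne_zero Nat.card_pos.ne']
        simp [Nat.prime_two.factorization_self, Nat.factorization_eq_zero_of_not_dvd hodd]
      exact isCyclic_of_prime_card h2
    · exact cyclic_sylow_odd hG hp2 Q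
  have hq : (∃ f : G →* alternatingGroup (Fin 5), Function.Surjective f ∧ f.ker = θ.ker) ∨
      (∃ f : G →* Equiv.Perm (Fin 5), Function.Surjective f ∧ f.ker = θ.ker) := by
    have h2 : (alternatingGroup (Fin 5)).index = 2 := alternatingGroup.index_eq_two
    have h := Subgroup.index_dvd_of_le hrange
    rw [h2] at h
    rcases (Nat.dvd_prime Nat.prime_two).mp h with h | h
    · exact Or.inr ⟨θ, MonoidHom.range_eq_top.mp (Subgroup.index_eq_one.mp h), rfl⟩
    · have he : θ.range = alternatingGroup (Fin 5) := Equiv.Perm.eq_alternatingGroup_of_index_eq_two h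
      refine Or.inl ⟨θ.codRestrict _ (fun g => he ▸ ⟨g, rfl⟩), fun t => ?_, MonoidHom.ker_codRestrict ..⟩
      obtain ⟨g, hg⟩ := hrange t.2
      exact ⟨g, Subtype.ext hg⟩
  refine ⟨θ.ker, ⟨inferInstance, hkz, ?_⟩, ?_⟩
  · rcases hq with h | h
    · exact Or.inr (Or.inr (Or.inr (Or.inr (Or.inl h))))
    · exact Or.inr (Or.inr (Or.inr (Or.inr (Or.inr h))))
  rintro N' ⟨hn, hz, hcase⟩
  haveI := hn
  have hz' : Group.IsSolvable N' := ZSylow.solvable hz
  have hno : ∀ (T : Type) [Group T] [Group.IsSolvable T] (f : G →* T), f.ker = N' → False :=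
    fun T _ _ f hf => hsol (solvable_of_quotient f (by rw [hf]; exact hz'))
  have five : ∀ f : G →* Equiv.Perm (Fin 5), f.ker = N' → alternatingGroup (Fin 5) ≤ f.range → N' = θ.ker := by
    intro f hf hr
    refine le_antisymm (le_ker_five hz' θ hrange) ?_
    rw [← hf]
    exact le_ker_five hkz.solvable f hr
  rcases hcase with h | ⟨f, hf, hk⟩ | ⟨f, hf, hk⟩ | ⟨f, hf, hk⟩ | ⟨f, hf, hk⟩ | ⟨f, hf, hk⟩
  · subst h
    exact absurd (solvable_of_surjective (f := (⊤ : Subgroup G).subtype) (fun g => ⟨⟨g, Subgroup.mem_top g⟩, rfl⟩)) hsol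
  · haveI : Group.IsSolvable (DihedralGroup 2) := by
      exact Group.isSolvable_of_comm fun a b => mul_comm_of_exponent_two IsKleinFour.exponent_two a b
    exact (hno _ f hk).elim
  · haveI : Group.IsSolvable (Equiv.Perm (Fin 4)) := CfsgLib.SmallPerm.isSolvable_perm_fin_four
    exact (hno _ f hk).elim
  · haveI : Group.IsSolvable (Equiv.Perm (Fin 4)) := CfsgLib.SmallPerm.isSolvable_perm_fin_four
    exact (hno _ f hk).elim
  · refine five ((alternatingGroup (Fin 5)).subtype.comp f) ?_ ?_
    · rw [MonoidHom.ker_comp_of_injective _ _ (Subgroup.subtype_injective _), hk]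
    · rw [MonoidHom.range_comp, MonoidHom.range_eq_top.mpr hf, ← MonoidHom.range_eq_map, Subgroup.range_subtype]
  · exact five f hk (by rw [MonoidHom.range_eq_top.mpr hf]; exact le_top)

end Cfsg.Agent.S4291
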