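import Cfsg.Statements.S4292
import Cfsg.Agent.Lib.FrobCompl.FpfModule

set_option autoImplicit false
open Cfsg CfsgLib.FrobCompl

namespace Cfsg.Agent.S4292

/-- Let A and B be nontrivial finite groups. Then the direct product A × B occurs as a Frobenius complement if and only if A and B both occur as Frobenius complements and the orders of A and B are coprime. -/
theorem result {A B : Type*} [Group A] [Finite A] [Nontrivial A] [Group B] [Finite B] [Nontrivial B] :
    (∃ (L : Type) (_ : Group L) (_ : Finite L) (H : Subgroup L), Cfsg.IsFrobeniusComplement H ∧ Nonempty ((A × B) ≃* H)) ↔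
    ((∃ (L : Type) (_ : Group L) (_ : Finite L) (H : Subgroup L), Cfsg.IsFrobeniusComplement H ∧ Nonempty (A ≃* H)) ∧
     (∃ (L : Type) (_ : Group L) (_ : Finite L) (H : Subgroup L), Cfsg.IsFrobeniusComplement H ∧ Nonempty (B ≃* H)) ∧
     (Nat.card A).Coprime (Nat.card B)) := by
  classical

  constructor
  · rintro ⟨L, _, _, H, hH, ⟨e⟩⟩
    have hF := hasFpf_of_complement hH e
    refine ⟨(hF.of_injective (MonoidHom.inl A B) fun a a' h => congrArg Prod.fst h).exists_complement,
      (hF.of_injective (MonoidHom.inr A B) fun b b' h => congrArg Prod.snd h).exists_complement,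
      Nat.coprime_of_dvd fun r hr hrA hrB => ?_⟩
    haveI := Fact.mk hr
    obtain ⟨a, ha⟩ := exists_prime_orderOf_dvd_card' (G := A) r hrA
    obtain ⟨b, hb⟩ := exists_prime_orderOf_dvd_card' (G := B) r hrB
    obtain ⟨V, iV, fV, nV, ρ, hρ⟩ := hF
    obtain ⟨i, hi⟩ := exists_pow_mul_eq_one ρ hρ (a := (a, 1)) (b := (1, b)) hr
      (by rw [Prod.orderOf]; simp [ha]) (by simp [← hb, pow_orderOf_eq_one, Prod.ext_iff])
      (by simp [commute_iff_eq])
    have h2 := congrArg Prod.snd hi
    simp at h2
    rw [h2, orderOf_one] at hb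
    exact hr.ne_one hb.symm
  · rintro ⟨⟨L, _, _, C, hC, ⟨e⟩⟩, ⟨L', _, _, C', hC', ⟨e'⟩⟩, hcop⟩
    let eA : Shrink.{0} A ≃* A := Shrink.mulEquiv
    let eB : Shrink.{0} B ≃* B := Shrink.mulEquiv
    haveI : Finite (Shrink.{0} A) := Finite.of_equiv _ eA.toEquiv.symm
    haveI : Finite (Shrink.{0} B) := Finite.of_equiv _ eB.toEquiv.symm
    have hA := (hasFpf_of_complement hC e).of_injective eA.toMonoidHom eA.injective
    have hB := (hasFpf_of_complement hC' e').of_injective eB.toMonoidHom eB.injective
    exact ((hasFpf_prod hA hB (by rwa [Nat.card_congr eA.toEquiv, Nat.card_congr eB.toEquiv])).of_injective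
      (eA.symm.prodCongr eB.symm).toMonoidHom (eA.symm.prodCongr eB.symm).injective).exists_complement
end Cfsg.Agent.S4292
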