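import Cfsg.Statements.S4294
import Cfsg.Agent.Lib.DivRing.Nonsolvable
import Cfsg.Agent.S4293
-- import your own Cfsg.Agent.* helpers here

set_option autoImplicit false
open Cfsg

namespace Cfsg.Agent.S4294

/-- A finite non-solvable subgroup of the multiplicative group of a division ring is isomorphic to the binary icosahedral group SL(2,5). -/
theorem result {D : Type*} [DivisionRing D] (H : Subgroup Dˣ) [Finite H] (hH : ¬ Group.IsSolvable H) :
    Nonempty (H ≃* Matrix.SpecialLinearGroup (Fin 2) (ZMod 5)) := by
  have hb : H ≠ ⊥ := by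
    rintro rfl
    exact hH (Group.isSolvable_of_comm fun a b => Subsingleton.elim _ _)
  obtain ⟨L, _, _, C, hC, ⟨e⟩⟩ := Cfsg.Agent.S4293.result H hb
  exact CfsgLib.DivRing.iso_SL25_of_nonsolvable (CfsgLib.FrobCompl.hasFpf_of_complement hC e)
    ((Units.coeHom D).comp H.subtype) (Units.val_injective.comp H.subtype_injective) hH

end Cfsg.Agent.S4294
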