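import Cfsg.Statements.S4296
import Cfsg.Agent.S0040
import Cfsg.Agent.Lib.FrobCompl.Conjugate
import Cfsg.Agent.Lib.FrobCompl.Fpf
import Cfsg.Agent.Lib.FrobCompl.QuaternionSquare

set_option autoImplicit false
set_option linter.style.haveILetI false
open Cfsg

namespace Cfsg.Agent.S4296

theorem core {L : Type*} [Group L] [Finite L] (N H : Subgroup L) [N.Normal]
    (hfpf : ∀ h ∈ H, h ≠ 1 → ∀ k ∈ N, k * h = h * k → k = 1) (z a b : L) (hz : z ∈ H) (hz1 : z ≠ 1)
    (hzz : z * z = 1) (haa : a * a = z) (hbb : b * b = z) (hab : a * b = z * (b * a)) :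
    Odd (Nat.card N) ∧ IsSquare (Nat.card N) := by
  have hinv : ∀ w ∈ N, z * w * z⁻¹ = w⁻¹ := by
    let ψ : N → N := fun k => ⟨(k : L)⁻¹ * (z * k * z⁻¹),
      mul_mem (inv_mem k.2) (Subgroup.Normal.conj_mem inferInstance _ k.2 z)⟩
    have hψ : Function.Injective ψ := by
      intro k l hkl
      have h : (k : L)⁻¹ * (z * k * z⁻¹) = (l : L)⁻¹ * (z * l * z⁻¹) := congrArg Subtype.val hkl
      have hfix := hfpf z hz hz1 ((l : L) * (k : L)⁻¹) (mul_mem l.2 (inv_mem k.2))
      have : (l : L) * (k : L)⁻¹ * z = z * ((l : L) * (k : L)⁻¹) := by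
        have h2 : z * (k : L) * z⁻¹ = k * ((l : L)⁻¹ * (z * l * z⁻¹)) := by rw [← h, mul_inv_cancel_left]
        calc (l : L) * (k : L)⁻¹ * z
            = (l : L) * (k : L)⁻¹ * (z * k * z⁻¹) * (z * (k : L)⁻¹) * 1 := by group
          _ = z * ((l : L) * (k : L)⁻¹) := by rw [h2]; group
      exact Subtype.ext (mul_inv_eq_one.mp (hfix this)).symm
    intro w hw
    obtain ⟨⟨k, hk⟩, e⟩ := Finite.surjective_of_injective hψ ⟨w, hw⟩
    have e' : k⁻¹ * (z * k * z⁻¹) = w := congrArg Subtype.val e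
    rw [← e', show z * (k⁻¹ * (z * k * z⁻¹)) * z⁻¹ = z * k⁻¹ * z * k * (z * z)⁻¹ by group, hzz]
    have hz' : z⁻¹ = z := inv_eq_of_mul_eq_one_right hzz
    simp only [mul_inv_rev, inv_inv, inv_one, mul_one, hz']
    group
  have hcomm : ∀ u v : N, u * v = v * u := fun u v => by
    refine inv_injective (Subtype.ext ?_)
    show ((u : L) * v)⁻¹ = ((v : L) * u)⁻¹
    rw [← hinv _ (mul_mem u.2 v.2), mul_inv_rev, ← hinv u u.2, ← hinv v v.2]
    group
  have hodd : Odd (Nat.card N) := by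
    rw [← Nat.not_even_iff_odd, even_iff_two_dvd]
    intro h
    obtain ⟨w, hw⟩ := exists_prime_orderOf_dvd_card' (G := N) 2 h
    rw [← Subgroup.orderOf_coe] at hw
    have h2 : (w : L)⁻¹ = w := inv_eq_of_mul_eq_one_right (by rw [← pow_two, ← hw, pow_orderOf_eq_one])
    have h3 := hfpf z hz hz1 w w.2 (by
      have := hinv w w.2
      rw [h2, mul_inv_eq_iff_eq_mul] at this
      exact this.symm)
    rw [h3, orderOf_one] at hw
    omega
  letI : CommGroup N := { (inferInstance : Group N) with mul_comm := hcomm }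
  let cj : L → (Additive N →+ Additive N) := fun g => MonoidHom.toAdditive
    { toFun := fun k => (⟨g * k * g⁻¹, Subgroup.Normal.conj_mem inferInstance _ k.2 g⟩ : N)
      map_one' := Subtype.ext (by show g * 1 * g⁻¹ = 1; group)
      map_mul' := fun k l => Subtype.ext (by
        show g * ((k : L) * l) * g⁻¹ = g * k * g⁻¹ * (g * l * g⁻¹)
        group) }
  have hcj : ∀ g h : L, ∀ x, cj g (cj h x) = cj (g * h) x := fun g h x => by
    apply Additive.toMul.injective
    exact Subtype.ext (show g * (h * (Additive.toMul x : N) * h⁻¹) * g⁻¹ = g * h * (Additive.toMul x : N) * (g * h)⁻¹ by group)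
  have hneg : ∀ x, cj z x = -x := fun x => by
    apply Additive.toMul.injective
    exact Subtype.ext (hinv (Additive.toMul x : N) (Additive.toMul x : N).2)
  refine ⟨hodd, ?_⟩
  have h := CfsgLib.FrobCompl.isSquare_card_of_anticommuting (M := Additive N)
    (by rwa [Nat.card_congr Additive.toMul]) (cj a) (cj b)
    (fun x => by rw [hcj, haa, hneg]) (fun x => by rw [hcj, hbb, hneg])
    (fun x => by rw [hcj, hab, ← hcj, hneg, ← hcj])
  rwa [Nat.card_congr Additive.toMul] at h

/-- Let H be a Frobenius complement in a finite group, and suppose some Sylow subgroup of H is not cyclic. Then the number of elements of the Frobenius kernel (the identity together with the elements lying in no conjugate of H) is an odd perfect square. -/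
theorem result {L : Type*} [Group L] [Finite L] (H : Subgroup L) (hF : Cfsg.IsFrobeniusComplement H)
    (hZ : ∃ (p : ℕ) (_ : Fact p.Prime) (P : Sylow p H), ¬ IsCyclic P) :
    Odd (Nat.card (Cfsg.frobeniusKernel H)) ∧ IsSquare (Nat.card (Cfsg.frobeniusKernel H)) := by
  obtain ⟨N, hNset, hNn, hc⟩ := CfsgLib.FrobCompl.exists_kernel_complement hF
  haveI := hNn
  rw [← hNset]
  have hd : ∀ k ∈ N, k ∈ H → k = 1 := fun k h1 h2 => by
    have := hc.disjoint.le_bot (Subgroup.mem_inf.mpr ⟨h1, h2⟩)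
    simpa using this
  have hfpf : ∀ h ∈ H, h ≠ 1 → ∀ k ∈ N, k * h = h * k → k = 1 := fun h hh h1 k hk e =>
    hd k hk (CfsgLib.FrobCompl.mem_of_commute hF hh h1 e)
  have hNne : N ≠ ⊥ := by
    intro h
    rw [h] at hc
    exact hF.2.1 (Subgroup.isComplement'_bot_left.mp hc)
  obtain ⟨p, hp, P, hP⟩ := hZ
  haveI := hp
  rcases Cfsg.Agent.S0040.result N H hc hNne (fun h hh h1 => by
      rw [Subgroup.eq_bot_iff_forall]
      intro k hk
      obtain ⟨hk1, hk2⟩ := Subgroup.mem_inf.mp hk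
      exact hfpf h hh h1 k hk1 (Subgroup.mem_centralizer_singleton_iff.mp hk2)) p P with h | ⟨n, ⟨e⟩⟩
  · exact absurd h hP
  haveI : NeZero (2 ^ n) := ⟨by positivity⟩
  rcases Nat.eq_zero_or_pos n with rfl | hn
  · refine absurd (isCyclic_of_orderOf_eq_card (e.symm (QuaternionGroup.xa 0)) ?_) hP
    rw [MulEquiv.orderOf_eq, QuaternionGroup.orderOf_xa, Nat.card_congr e.toEquiv,
      Nat.card_eq_fintype_card, QuaternionGroup.card]
    norm_num
  set s : ℕ := 2 ^ (n - 1) with hs
  have hsn : 2 ^ n = s + s := by rw [hs, ← two_mul, ← pow_succ', Nat.sub_add_cancel hn]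
  let f : QuaternionGroup (2 ^ n) →* L := (H.subtype.comp (P : Subgroup H).subtype).comp e.symm.toMonoidHom
  have hfinj : Function.Injective f := fun u v huv => e.symm.injective (Subtype.ext (Subtype.ext huv))
  have hfH : ∀ q, f q ∈ H := fun q => ((e.symm q : (P : Subgroup H)) : H).2
  set Z : QuaternionGroup (2 ^ n) := QuaternionGroup.a ((2 ^ n : ℕ) : ZMod (2 * 2 ^ n)) with hZd
  have hdbl : ((2 ^ n : ℕ) : ZMod (2 * 2 ^ n)) + ((2 ^ n : ℕ) : ZMod (2 * 2 ^ n)) = 0 := by
    rw [← Nat.cast_add, ← two_mul, ZMod.natCast_self]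
  have hz1 : Z ≠ 1 := by
    rw [hZd, ← QuaternionGroup.a_zero]
    intro h
    injection h with h
    have h3 := Nat.le_of_dvd (by positivity) ((ZMod.natCast_eq_zero_iff _ _).mp h)
    have : 0 < 2 ^ n := by positivity
    omega
  have hA : QuaternionGroup.a ((s : ℕ) : ZMod (2 * 2 ^ n)) * QuaternionGroup.a ((s : ℕ) : ZMod (2 * 2 ^ n)) = Z := by
    rw [QuaternionGroup.a_mul_a, ← Nat.cast_add, ← hsn]
  have hB : QuaternionGroup.xa (0 : ZMod (2 * 2 ^ n)) * QuaternionGroup.xa 0 = Z := by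
    rw [QuaternionGroup.xa_mul_xa, sub_zero, add_zero]
  refine core N H hfpf (f Z) (f (QuaternionGroup.a ((s : ℕ) : ZMod (2 * 2 ^ n)))) (f (QuaternionGroup.xa 0))
    (hfH _) (fun h => hz1 (hfinj (h.trans (map_one f).symm))) ?_ ?_ ?_ ?_
  · rw [← map_mul, hZd, QuaternionGroup.a_mul_a, hdbl, QuaternionGroup.a_zero, map_one]
  · rw [← map_mul, hA]
  · rw [← map_mul, hB]
  · rw [← map_mul, ← map_mul, ← map_mul]
    congr 1
    rw [hZd, QuaternionGroup.a_mul_xa, QuaternionGroup.xa_mul_a, QuaternionGroup.a_mul_xa, hsn,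
      Nat.cast_add]
    congr 1
    ring
end Cfsg.Agent.S4296
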