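import Cfsg.Statements.S4295
import Cfsg.Agent.S4296
import Cfsg.Agent.Lib.FrobCompl.Basic
import Cfsg.Agent.Lib.FrobCompl.Counting
import Cfsg.Agent.Lib.Classical.QuaternionRec

set_option autoImplicit false
set_option linter.style.haveILetI false
open Cfsg

namespace Cfsg.Agent.S4295

theorem q8_cases : ∀ q : QuaternionGroup 2, q ≠ 1 → q = QuaternionGroup.a 2 ∨ q * q = QuaternionGroup.a 2 := by
  decide

theorem build (k : ℕ) (hodd : Odd k) (hk : 1 < k) :
    ∃ (L : Type) (_ : Group L) (_ : Finite L) (H : Subgroup L), Cfsg.IsFrobeniusComplement H ∧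
      Nonempty (H ≃* QuaternionGroup 2) ∧ Nat.card (Cfsg.frobeniusKernel H) = k * k := by
  classical
  set l := k.primeFactorsList with hl
  let F : Fin l.length → Type := fun t => ZMod (l.get t)
  have hpr : ∀ t, (l.get t).Prime := fun t => Nat.prime_of_mem_primeFactorsList (List.get_mem _ _)
  haveI : ∀ t, Fact (l.get t).Prime := fun t => ⟨hpr t⟩
  have hne2 : ∀ t, l.get t ≠ 2 := fun t e => by
    have h := Nat.dvd_of_mem_primeFactorsList (n := k) (p := l.get t) (List.get_mem _ _)
    rw [e] at h
    exact (Nat.not_even_iff_odd.mpr hodd) (even_iff_two_dvd.mpr h)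
  choose ca cb hab using fun t => ZMod.sq_add_sq (l.get t) (-1)
  let R := (t : Fin l.length) → ZMod (l.get t)
  let a : R := ca
  let b : R := cb
  have hab' : a * a + b * b = -1 := funext fun t => by
    show ca t * ca t + cb t * cb t = -1
    rw [← hab t]; ring
  have htwo : ∀ w : R, w + w = 0 → w = 0 := fun w hw => funext fun t => by
    have h : w t + w t = 0 := congrFun hw t
    rw [← two_mul] at h
    refine (mul_eq_zero.mp h).resolve_left fun e => hne2 t ?_
    exact (Nat.prime_dvd_prime_iff_eq (hpr t) Nat.prime_two).mp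
      ((ZMod.natCast_eq_zero_iff 2 (l.get t)).mp (by exact_mod_cast e))
  have hcardR : Nat.card R = k := by
    show Nat.card ((t : Fin l.length) → ZMod (l.get t)) = k
    rw [Nat.card_pi]
    simp only [Nat.card_zmod, List.get_eq_getElem, Fin.prod_univ_getElem]
    exact Nat.prod_primeFactorsList (by omega)
  haveI hRf : Finite R := inferInstance
  let Iv : R × R ≃+ R × R :=
    { toFun := fun v => (-v.2, v.1)
      invFun := fun v => (v.2, -v.1)
      left_inv := fun v => Prod.ext rfl (neg_neg _)
      right_inv := fun v => Prod.ext (neg_neg _) rfl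
      map_add' := fun v w => Prod.ext (neg_add _ _) rfl }
  let Jv : R × R ≃+ R × R :=
    { toFun := fun v => (a * v.1 + b * v.2, b * v.1 - a * v.2)
      invFun := fun v => (-(a * v.1 + b * v.2), -(b * v.1 - a * v.2))
      left_inv := fun v => by
        refine Prod.ext ?_ ?_ <;> simp only
        · linear_combination (-v.1) * hab'
        · linear_combination (-v.2) * hab'
      right_inv := fun v => by
        refine Prod.ext ?_ ?_ <;> simp only
        · linear_combination (-v.1) * hab'
        · linear_combination (-v.2) * hab'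
      map_add' := fun v w => by
        refine Prod.ext ?_ ?_ <;> simp only [Prod.fst_add, Prod.snd_add] <;> ring }
  let V := Multiplicative (R × R)
  let I : MulAut V := AddEquiv.toMultiplicative Iv
  let J : MulAut V := AddEquiv.toMultiplicative Jv
  have happI : ∀ v : V, I v = Multiplicative.ofAdd (Iv v.toAdd) := fun v => rfl
  have happJ : ∀ v : V, J v = Multiplicative.ofAdd (Jv v.toAdd) := fun v => rfl
  have hI2 : ∀ v : V, (I * I) v = v⁻¹ := fun v => by
    apply Multiplicative.toAdd.injective
    show Iv (Iv v.toAdd) = -v.toAdd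
    refine Prod.ext ?_ ?_ <;> simp [Iv]
  have hJ2 : ∀ v : V, (J * J) v = v⁻¹ := fun v => by
    apply Multiplicative.toAdd.injective
    show Jv (Jv v.toAdd) = -v.toAdd
    refine Prod.ext ?_ ?_ <;> simp only [Jv, AddEquiv.coe_mk, Equiv.coe_fn_mk, Prod.fst_neg, Prod.snd_neg]
    · linear_combination (Multiplicative.toAdd v).1 * hab'
    · linear_combination (Multiplicative.toAdd v).2 * hab'
  have hIJ : ∀ v : V, (J * I) v = ((I * J) v)⁻¹ := fun v => by
    apply Multiplicative.toAdd.injective
    show Jv (Iv v.toAdd) = -Iv (Jv v.toAdd)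
    refine Prod.ext ?_ ?_ <;> simp only [Iv, Jv, AddEquiv.coe_mk, Equiv.coe_fn_mk, Prod.fst_neg, Prod.snd_neg] <;> ring
  obtain ⟨v₀, hv₀⟩ : ∃ v : V, v ≠ v⁻¹ := by
    haveI : Nontrivial R := Finite.one_lt_card_iff_nontrivial.mp (hcardR ▸ hk)
    obtain ⟨r, hr⟩ := exists_ne (0 : R)
    refine ⟨Multiplicative.ofAdd (r, 0), fun h => hr (htwo r ?_)⟩
    have h' : r = -r := congrArg Prod.fst (congrArg Multiplicative.toAdd h)
    exact eq_neg_iff_add_eq_zero.mp h'
  have hI4 : orderOf I = 2 * 2 := by
    refine orderOf_eq_prime_pow (p := 2) (n := 1) ?_ ?_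
    · intro h
      rw [pow_one, pow_two] at h
      exact hv₀ ((congrArg (fun f : MulAut V => f v₀) h).symm.trans (hI2 v₀))
    · refine MulEquiv.ext fun v => ?_
      show ((I ^ 2 ^ 2 : MulAut V)) v = v
      rw [show (2 : ℕ) ^ 2 = 2 + 2 from rfl, pow_add, pow_two, MulAut.mul_apply, hI2, hI2, inv_inv]
  have hJI : J * J = I ^ 2 := MulEquiv.ext fun v => by rw [pow_two, hJ2, hI2]
  have hconj : J * I * J⁻¹ = I⁻¹ := by
    have h3 : J * I = I⁻¹ * J := MulEquiv.ext fun v => by
      rw [hIJ, MulAut.mul_apply, MulAut.mul_apply]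
      apply I.injective
      rw [MulAut.apply_inv_self, map_inv, ← MulAut.mul_apply, hI2, inv_inv]
    rw [h3, mul_assoc, mul_inv_cancel, mul_one]
  have hout : J ∉ Subgroup.zpowers I := by
    rintro ⟨i, hi⟩
    simp only at hi
    have hc : J * I = I * J := by rw [← hi]; exact ((Commute.refl I).zpow_left i).eq
    refine hv₀ ?_
    obtain ⟨w, hw⟩ : ∃ w, (I * J) w = v₀ := ⟨(I * J).symm v₀, (I * J).apply_symm_apply v₀⟩
    have h2 : (J * I) w = (I * J) w := congrArg (fun f : MulAut V => f w) hc
    rw [hIJ, hw] at h2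
    exact h2.symm
  obtain ⟨f, hf, hrange⟩ := CfsgLib.Classical.exists_quaternion_hom hI4 hJI hconj hout
  have hz : ∀ v : V, f (QuaternionGroup.a 2) v = v⁻¹ := by
    intro v
    obtain ⟨q, hq⟩ : I * I ∈ f.range := by
      rw [hrange]
      exact mul_mem (Subgroup.subset_closure (Set.mem_insert _ _)) (Subgroup.subset_closure (Set.mem_insert _ _))
    have hne : I * I ≠ 1 := fun h => hv₀ ((congrArg (fun f : MulAut V => f v₀) h).symm.trans (hI2 v₀))
    have hqq : q * q = 1 := hf (by
      rw [map_mul, hq, map_one, show I * I * (I * I) = I ^ orderOf I by rw [hI4, show (2 : ℕ) * 2 = 4 from rfl, pow_succ, pow_succ, pow_succ, pow_one]; simp only [mul_assoc], pow_orderOf_eq_one])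
    have hall : ∀ q : QuaternionGroup 2, q * q = 1 → q = 1 ∨ q = QuaternionGroup.a 2 := by decide
    rcases hall q hqq with rfl | rfl
    · exact absurd (hq.symm.trans (map_one f)) hne
    · rw [hq, hI2]
  have hfpf : ∀ q : QuaternionGroup 2, q ≠ 1 → ∀ w : V, f q w = w → w = 1 := by
    intro q hq w hw
    have hzw : w⁻¹ = w := by
      rw [← hz w]
      rcases q8_cases q hq with h | h
      · rw [← h]; exact hw
      · rw [← h, map_mul, MulAut.mul_apply, hw, hw]
    apply Multiplicative.toAdd.injective
    have h' : -Multiplicative.toAdd w = Multiplicative.toAdd w := congrArg Multiplicative.toAdd hzw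
    have h1 : (Multiplicative.toAdd w).1 = 0 := htwo _ (eq_neg_iff_add_eq_zero.mp (congrArg Prod.fst h').symm)
    have h2 : (Multiplicative.toAdd w).2 = 0 := htwo _ (eq_neg_iff_add_eq_zero.mp (congrArg Prod.snd h').symm)
    exact Prod.ext h1 h2
  haveI : Nontrivial V := ⟨⟨v₀, v₀⁻¹, hv₀⟩⟩
  haveI : Finite (V ⋊[f] QuaternionGroup 2) :=
    Finite.of_injective (fun x => (x.left, x.right)) fun x y h =>
      SemidirectProduct.ext (congrArg Prod.fst h) (congrArg Prod.snd h)
  have hC := CfsgLib.FrobCompl.isFrobeniusComplement_range_inr f hfpf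
  refine ⟨V ⋊[f] QuaternionGroup 2, inferInstance, inferInstance, _, hC,
    ⟨(MonoidHom.ofInjective SemidirectProduct.inr_injective).symm⟩, ?_⟩
  rw [CfsgLib.FrobCompl.card_frobeniusKernel hC]
  have h := (SemidirectProduct.inr : QuaternionGroup 2 →* V ⋊[f] QuaternionGroup 2).range.index_mul_card
  rw [SemidirectProduct.card, ← Nat.card_congr (MonoidHom.ofInjective (SemidirectProduct.inr_injective (φ := f))).toEquiv] at h
  have hV : Nat.card V = k * k := by
    rw [show Nat.card V = Nat.card (R × R) from Nat.card_congr Multiplicative.toAdd, Nat.card_prod, hcardR]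
  rw [hV] at h
  exact Nat.eq_of_mul_eq_mul_right Nat.card_pos h

/-- For a natural number m the following are equivalent: (a) some finite group has a Frobenius complement isomorphic to the quaternion group of order 8 whose Frobenius kernel (the identity together with the elements lying in no conjugate of the complement) has exactly m elements; (b) m is an odd perfect square greater than 1. -/
theorem result (m : ℕ) :
    (∃ (L : Type) (_ : Group L) (_ : Finite L) (H : Subgroup L), Cfsg.IsFrobeniusComplement H ∧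
        Nonempty (H ≃* QuaternionGroup 2) ∧ Nat.card (Cfsg.frobeniusKernel H) = m) ↔
    (Odd m ∧ IsSquare m ∧ 1 < m) := by
  constructor
  · rintro ⟨L, _, _, H, hF, ⟨e⟩, rfl⟩
    have hH2 : IsPGroup 2 H := (IsPGroup.of_card (n := 3) (by
      rw [Nat.card_eq_fintype_card, QuaternionGroup.card]; rfl : Nat.card (QuaternionGroup 2) = 2 ^ 3)).of_equiv e.symm
    obtain ⟨P⟩ : Nonempty (Sylow 2 H) := inferInstance
    have hP : ¬ IsCyclic P := fun hc => by
      have hPt : (P : Subgroup H) = ⊤ := (P.3 (hH2.to_subgroup ⊤) le_top).symm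
      haveI := hc
      haveI : IsCyclic H := by
        have hc' : IsCyclic (P : Subgroup H) := hc
        rw [hPt] at hc'
        exact isCyclic_of_surjective Subgroup.topEquiv Subgroup.topEquiv.surjective
      haveI : IsCyclic (QuaternionGroup 2) := isCyclic_of_surjective e e.surjective
      haveI := IsCyclic.isMulCommutative (α := QuaternionGroup 2)
      exact absurd (mul_comm' (QuaternionGroup.a 1 : QuaternionGroup 2) (QuaternionGroup.xa 0)) (by decide)
    obtain ⟨h1, h2⟩ := Cfsg.Agent.S4296.result H hF ⟨2, ⟨Nat.prime_two⟩, P, hP⟩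
    refine ⟨h1, h2, ?_⟩
    rw [CfsgLib.FrobCompl.card_frobeniusKernel hF]
    exact Subgroup.one_lt_index_of_ne_top hF.2.1
  · rintro ⟨hodd, ⟨k, rfl⟩, h1⟩
    exact build k (Nat.odd_mul.mp hodd).1 (by nlinarith)
end Cfsg.Agent.S4295
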