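import Cfsg.Statements.S4297
import Cfsg.Agent.Lib.FrobCompl.Basic

set_option autoImplicit false
open Cfsg

namespace Cfsg.Agent.S4297

/-- For every n ≥ 2 the dicyclic group of order 4n (generated by an element a of order 2n and an element x with x² = aⁿ and x a x⁻¹ = a⁻¹) occurs as a Frobenius complement of some finite Frobenius group. -/
theorem result (n : ℕ) (hn : 2 ≤ n) :
    ∃ (L : Type) (_ : Group L) (_ : Finite L) (H : Subgroup L), Cfsg.IsFrobeniusComplement H ∧ Nonempty (H ≃* QuaternionGroup n) := by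
  haveI : NeZero n := ⟨by omega⟩
  obtain ⟨q, hgt, hq, hqmod⟩ := Nat.forall_exists_prime_gt_and_modEq 2 (q := 2 * n) (a := 1) (by omega) (Nat.coprime_one_left _)
  haveI : Fact q.Prime := ⟨hq⟩
  have hdvd : 2 * n ∣ q - 1 := (Nat.modEq_iff_dvd' hq.one_lt.le).mp hqmod.symm
  obtain ⟨g, hg⟩ := (ZMod.isCyclic_units_prime hq).exists_generator
  have hgo : orderOf g = q - 1 := by
    rw [orderOf_eq_card_of_forall_mem_zpowers hg, Nat.card_eq_fintype_card, ZMod.card_units]
  obtain ⟨c, hc⟩ := hdvd
  set ζ : ZMod q := ((g ^ c : (ZMod q)ˣ) : ZMod q) with hζdef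
  have hζ : IsPrimitiveRoot ζ (2 * n) := by
    have h1 : IsPrimitiveRoot g (q - 1) := hgo ▸ IsPrimitiveRoot.orderOf g
    have h2 : IsPrimitiveRoot (g ^ c) (2 * n) := h1.pow (by have := hq.two_le; omega) (by rw [hc, mul_comm])
    exact IsPrimitiveRoot.coe_units_iff.mpr h2
  let e : ZMod (2 * n) → ZMod q := fun i => ζ ^ i.val
  have he : ∀ i j, e (i + j) = e i * e j := fun i j => by
    show ζ ^ (i + j).val = ζ ^ i.val * ζ ^ j.val
    rw [← pow_add, ZMod.val_add, ← pow_mod_orderOf ζ (i.val + j.val), ← hζ.eq_orderOf]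
  have he0 : e 0 = 1 := by simp [e]
  have hen : e (n : ZMod (2 * n)) = -1 := by
    show ζ ^ (n : ZMod (2 * n)).val = -1
    rw [ZMod.val_natCast, Nat.mod_eq_of_lt (by omega)]
    have h1 : ζ ^ n * ζ ^ n = 1 := by rw [← pow_add, ← two_mul]; exact hζ.pow_eq_one
    rcases mul_self_eq_one_iff.mp h1 with h | h
    · exact absurd h (hζ.pow_ne_one_of_pos_of_lt (by omega) (by omega))
    · exact h
  have hone : ∀ i, e i = 1 → i = 0 := fun i hi => by
    rw [← ZMod.val_eq_zero]
    exact Nat.eq_zero_of_dvd_of_lt ((hζ.pow_eq_one_iff_dvd _).mp hi) (ZMod.val_lt i)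
  have hq2 : (2 : ZMod q) ≠ 0 := by
    intro h
    have h2 : q ∣ 2 := (ZMod.natCast_eq_zero_iff 2 q).mp (by exact_mod_cast h)
    have := (Nat.prime_dvd_prime_iff_eq hq Nat.prime_two).mp h2
    omega
  let act : QuaternionGroup n → ZMod q × ZMod q → ZMod q × ZMod q := fun g w =>
    match g with
    | .a i => (e i * w.1, e (-i) * w.2)
    | .xa i => (-(e (-i) * w.2), e i * w.1)
  suffices hmain : ∃ (L : Type) (_ : Group L) (_ : Finite L) (C : Subgroup L),
      IsFrobeniusComplement C ∧ Nonempty (QuaternionGroup n ≃* C) by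
    obtain ⟨L, i1, i2, C, hC, ⟨f⟩⟩ := hmain
    exact ⟨L, i1, i2, C, hC, ⟨f.symm⟩⟩
  refine CfsgLib.FrobCompl.exists_isFrobeniusComplement act
    (fun w => ?_) (fun g h w => ?_) (fun h w w' => ?_) (fun h hh w hw => ?_)
  · show (e 0 * w.1, e (-0) * w.2) = w
    simp [he0]
  · match g, h with
    | .a i, .a j =>
      rw [QuaternionGroup.a_mul_a]
      show (e (i + j) * w.1, e (-(i + j)) * w.2) = _
      simp only [act, he, neg_add, mul_assoc]
    | .a i, .xa j =>
      rw [QuaternionGroup.a_mul_xa]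
      show (-(e (-(j - i)) * w.2), e (j - i) * w.1) = _
      rw [show -(j - i) = i + -j by ring, show j - i = -i + j by ring]
      simp only [act, he]
      ext <;> ring
    | .xa i, .a j =>
      rw [QuaternionGroup.xa_mul_a]
      show (-(e (-(i + j)) * w.2), e (i + j) * w.1) = _
      simp only [act, he, neg_add]
      ext <;> ring
    | .xa i, .xa j =>
      rw [QuaternionGroup.xa_mul_xa]
      show (e ((n : ZMod (2 * n)) + j - i) * w.1, e (-((n : ZMod (2 * n)) + j - i)) * w.2) = _
      have hnn : -(n : ZMod (2 * n)) = n := by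
        rw [neg_eq_iff_add_eq_zero, ← Nat.cast_add, ← two_mul, ZMod.natCast_self]
      rw [show (n : ZMod (2 * n)) + j - i = n + (-i + j) by ring,
        show -((n : ZMod (2 * n)) + (-i + j)) = -(n : ZMod (2 * n)) + (i + -j) by ring, hnn]
      simp only [act, he, hen]
      ext <;> ring
  · match h with
    | .a i => ext <;> simp only [act, Prod.fst_add, Prod.snd_add] <;> ring
    | .xa i => ext <;> simp only [act, Prod.fst_add, Prod.snd_add] <;> ring
  · match h with
    | .a i =>
      have hi : i ≠ 0 := fun h0 => hh (by rw [h0, QuaternionGroup.one_def])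
      have h1 : e i * w.1 = w.1 := congrArg Prod.fst hw
      have h2 : e (-i) * w.2 = w.2 := congrArg Prod.snd hw
      ext
      · by_contra hne
        exact hi (hone i ((mul_eq_right₀ hne).mp h1))
      · by_contra hne
        exact hi (neg_eq_zero.mp (hone (-i) ((mul_eq_right₀ hne).mp h2)))
    | .xa i =>
      have h1 : -(e (-i) * w.2) = w.1 := congrArg Prod.fst hw
      have h2 : e i * w.1 = w.2 := congrArg Prod.snd hw
      have hmul : e (-i) * e i = 1 := by rw [← he, neg_add_cancel, he0]
      have hw1 : w.1 = 0 := by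
        have h3 : 2 * w.1 = 0 := by linear_combination (-1 : ZMod q) * h1 + e (-i) * h2 - w.1 * hmul
        exact (mul_eq_zero.mp h3).resolve_left hq2
      ext
      · exact hw1
      · rw [← h2, hw1, mul_zero]; rfl

end Cfsg.Agent.S4297
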