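import Cfsg.Statements.S4298
import Cfsg.Agent.Lib.FrobCompl.Basic

set_option autoImplicit false
open Cfsg

namespace Cfsg.Agent.S4298

/-- The images of the 81 quadruples over `ZMod 3` in matrices over `ZMod 5`. -/
def tab : List (ZMod 5 × ZMod 5 × ZMod 5 × ZMod 5) :=
  [
    (1,0,0,1), (1,0,0,1), (1,0,0,1), (1,0,0,1), (1,0,0,1), (1,0,0,1), (1,0,0,1), (1,0,0,1), (1,0,0,1),
    (1,0,0,1), (1,0,0,1), (1,0,0,1), (1,0,0,1), (1,0,0,1), (1,0,0,1), (3,0,1,2), (2,2,1,4), (0,3,3,4),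
    (1,0,0,1), (1,0,0,1), (1,0,0,1), (2,0,4,3), (0,2,2,1), (3,3,4,1), (1,0,0,1), (1,0,0,1), (1,0,0,1),
    (1,0,0,1), (1,0,0,1), (1,0,0,1), (1,0,0,1), (2,1,3,2), (1,0,0,1), (1,0,0,1), (2,4,2,2), (1,0,0,1),
    (1,0,0,1), (0,1,4,4), (1,0,0,1), (1,0,0,1), (1,0,0,1), (4,1,3,1), (1,3,3,0), (1,0,0,1), (1,0,0,1),
    (1,0,0,1), (4,4,1,0), (1,0,0,1), (4,3,4,2), (1,0,0,1), (1,0,0,1), (1,0,0,1), (1,0,0,1), (2,3,0,3),
    (1,0,0,1), (1,0,0,1), (4,0,0,4), (1,0,0,1), (1,0,0,1), (3,1,3,3), (1,0,0,1), (1,0,0,1), (3,4,2,3),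
    (1,0,0,1), (1,0,0,1), (1,1,4,0), (1,0,0,1), (3,2,0,2), (1,0,0,1), (1,2,1,3), (1,0,0,1), (1,0,0,1),
    (1,0,0,1), (1,0,0,1), (0,4,1,1), (4,2,2,0), (1,0,0,1), (1,0,0,1), (1,0,0,1), (1,4,2,4), (1,0,0,1)]

/-- An embedding of `SL(2,3)` into `SL(2,5)`. -/
def F (a b c d : ZMod 3) : ZMod 5 × ZMod 5 × ZMod 5 × ZMod 5 :=
  tab.getD (27 * a.val + 9 * b.val + 3 * c.val + d.val) (1, 0, 0, 1)

theorem F_mul : ∀ a b c d : ZMod 3, a * d - b * c = 1 → ∀ e f g h : ZMod 3, e * h - f * g = 1 →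
    F (a * e + b * g) (a * f + b * h) (c * e + d * g) (c * f + d * h) =
      ((F a b c d).1 * (F e f g h).1 + (F a b c d).2.1 * (F e f g h).2.2.1,
       (F a b c d).1 * (F e f g h).2.1 + (F a b c d).2.1 * (F e f g h).2.2.2,
       (F a b c d).2.2.1 * (F e f g h).1 + (F a b c d).2.2.2 * (F e f g h).2.2.1,
       (F a b c d).2.2.1 * (F e f g h).2.1 + (F a b c d).2.2.2 * (F e f g h).2.2.2) := by
  decide +kernel

theorem F_fpf : ∀ a b c d : ZMod 3, a * d - b * c = 1 → ¬ (a = 1 ∧ b = 0 ∧ c = 0 ∧ d = 1) →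
    ∀ u v : ZMod 5, (F a b c d).1 * u + (F a b c d).2.1 * v = u →
      (F a b c d).2.2.1 * u + (F a b c d).2.2.2 * v = v → u = 0 ∧ v = 0 := by
  decide +kernel


/-- The group SL(2,3) of order 24 (the binary tetrahedral group) occurs as a Frobenius complement of some finite Frobenius group. -/
theorem result :
    ∃ (L : Type) (_ : Group L) (_ : Finite L) (H : Subgroup L), Cfsg.IsFrobeniusComplement H ∧ Nonempty (H ≃* Matrix.SpecialLinearGroup (Fin 2) (ZMod 3)) := by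
  let act : Matrix.SpecialLinearGroup (Fin 2) (ZMod 3) → ZMod 5 × ZMod 5 → ZMod 5 × ZMod 5 :=
    fun M w =>
      ((F (M.1 0 0) (M.1 0 1) (M.1 1 0) (M.1 1 1)).1 * w.1 + (F (M.1 0 0) (M.1 0 1) (M.1 1 0) (M.1 1 1)).2.1 * w.2,
       (F (M.1 0 0) (M.1 0 1) (M.1 1 0) (M.1 1 1)).2.2.1 * w.1 + (F (M.1 0 0) (M.1 0 1) (M.1 1 0) (M.1 1 1)).2.2.2 * w.2)
  have hdet : ∀ M : Matrix.SpecialLinearGroup (Fin 2) (ZMod 3), M.1 0 0 * M.1 1 1 - M.1 0 1 * M.1 1 0 = 1 :=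
    fun M => by rw [← Matrix.det_fin_two]; exact M.2
  haveI : Fact (1 < 5) := ⟨by norm_num⟩
  haveI : Nontrivial (Matrix.SpecialLinearGroup (Fin 2) (ZMod 3)) := by
    refine ⟨⟨1, ⟨!![1, 1; 0, 1], by simp [Matrix.det_fin_two]⟩, fun h => ?_⟩⟩
    exact absurd (congrArg (fun M : Matrix.SpecialLinearGroup (Fin 2) (ZMod 3) => M.1 0 1) h) (by decide)
  suffices hmain : ∃ (L : Type) (_ : Group L) (_ : Finite L) (C : Subgroup L),
      IsFrobeniusComplement C ∧ Nonempty (Matrix.SpecialLinearGroup (Fin 2) (ZMod 3) ≃* C) by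
    obtain ⟨L, i1, i2, C, hC, ⟨e⟩⟩ := hmain
    exact ⟨L, i1, i2, C, hC, ⟨e.symm⟩⟩
  refine CfsgLib.FrobCompl.exists_isFrobeniusComplement act
    (fun w => ?_) (fun g h w => ?_) (fun h w w' => ?_) (fun h hh w hw => ?_)
  · have h1 : F 1 0 0 1 = (1, 0, 0, 1) := by decide
    simp [act, h1]
  · have h1 := F_mul _ _ _ _ (hdet g) _ _ _ _ (hdet h)
    simp only [act, Matrix.SpecialLinearGroup.coe_mul, Matrix.mul_apply, Fin.sum_univ_two, h1]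
    ext <;> ring
  · ext <;> simp only [act, Prod.fst_add, Prod.snd_add] <;> ring
  · have h1 := F_fpf _ _ _ _ (hdet h) (fun he => hh ?_) w.1 w.2 (congrArg Prod.fst hw) (congrArg Prod.snd hw)
    · exact Prod.ext h1.1 h1.2
    · obtain ⟨ha, hb, hc, hd⟩ := he
      ext i j
      fin_cases i <;> fin_cases j <;> simp [ha, hb, hc, hd]

end Cfsg.Agent.S4298
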