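import Cfsg.Statements.S4300

-- import your own Cfsg.Agent.* helpers here

set_option autoImplicit false
open Cfsg

namespace Cfsg.Agent.S4300

/-- Let G act faithfully and primitively on a set X, and suppose the stabilizer of some point is a simple group. Then either G is simple, or G has a normal subgroup, neither trivial nor the whole group, that acts regularly on X (transitively with trivial point stabilizers). -/
theorem result {G : Type*} [Group G] {X : Type*} [MulAction G X] [FaithfulSMul G X]
    (hprim : MulAction.IsPreprimitive G X) (x : X) (hsimple : IsSimpleGroup (MulAction.stabilizer G x)) :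
    IsSimpleGroup G ∨ ∃ N : Subgroup G, N.Normal ∧ N ≠ ⊥ ∧ N ≠ ⊤ ∧
      MulAction.IsPretransitive N X ∧ ∀ y : X, MulAction.stabilizer N y = ⊥ := by
  classical
  haveI := hprim
  by_cases hG : IsSimpleGroup G
  · exact Or.inl hG
  right
  obtain ⟨w, hw⟩ := (Subgroup.nontrivial_iff_exists_ne_one _).mp hsimple.toNontrivial
  haveI : Nontrivial G := ⟨⟨w, 1, hw.2⟩⟩
  obtain ⟨N, hN, hNbot, hNtop⟩ : ∃ N : Subgroup G, N.Normal ∧ N ≠ ⊥ ∧ N ≠ ⊤ := by
    by_contra hne
    apply hG
    exact ⟨fun H hH => by
      by_contra h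
      rw [not_or] at h
      exact hne ⟨H, hH, h.1, h.2⟩⟩
  haveI := hN
  have hfix : MulAction.fixedPoints N X ≠ Set.univ := by
    intro h
    apply hNbot
    rw [eq_bot_iff]
    intro n hn
    rw [Subgroup.mem_bot]
    apply eq_of_smul_eq_smul (α := X)
    intro y
    have : y ∈ MulAction.fixedPoints N X := h ▸ Set.mem_univ y
    rw [one_smul]
    exact this ⟨n, hn⟩
  have htr : MulAction.IsPretransitive N X := MulAction.IsQuasiPreprimitive.isPretransitive_of_normal hfix
  refine ⟨N, hN, hNbot, hNtop, htr, ?_⟩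
  rcases hsimple.eq_bot_or_eq_top_of_normal (N.subgroupOf (MulAction.stabilizer G x)) inferInstance with h | h
  · intro y
    rw [eq_bot_iff]
    intro n hn
    obtain ⟨k, hk⟩ := MulAction.exists_smul_eq N x y
    have hm : (k⁻¹ * n * k : N) ∈ MulAction.stabilizer N x := by
      rw [MulAction.mem_stabilizer_iff, mul_smul, mul_smul, hk, MulAction.mem_stabilizer_iff.mp hn, ← hk, inv_smul_smul]
    have h1 : (⟨((k⁻¹ * n * k : N) : G), hm⟩ : MulAction.stabilizer G x) ∈ N.subgroupOf (MulAction.stabilizer G x) := (k⁻¹ * n * k : N).2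
    rw [h, Subgroup.mem_bot] at h1
    have h2 : (k⁻¹ * n * k : N) = 1 := Subtype.ext (congrArg Subtype.val h1 :)
    rw [Subgroup.mem_bot]
    calc n = k * (k⁻¹ * n * k) * k⁻¹ := by group
      _ = 1 := by rw [h2]; group
  · exfalso
    apply hNtop
    rw [eq_top_iff]
    intro g _
    obtain ⟨n, hn⟩ := MulAction.exists_smul_eq N x (g • x)
    have hmem : (n : G)⁻¹ * g ∈ MulAction.stabilizer G x := by
      rw [MulAction.mem_stabilizer_iff, mul_smul, ← hn]
      exact inv_smul_smul (n : G) x
    have h1 : (n : G)⁻¹ * g ∈ N := Subgroup.subgroupOf_eq_top.mp h hmem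
    simpa using N.mul_mem n.2 h1

end Cfsg.Agent.S4300
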