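import Cfsg.Statements.S4301
import Mathlib
-- import your own Cfsg.Agent.* helpers here

set_option autoImplicit false
open Cfsg

namespace Cfsg.Agent.S4301

/-- One-point extension of a multiply transitive group. Let X be a set and G a group of permutations of Option X (the set X with one extra point ∗ = none) all of whose elements fix ∗, such that G is k-transitive on the points of X for some k ≥ 2, X having at least k points. Suppose a permutation h of Option X and an element g of G satisfy: h interchanges ∗ with a point x of X and fixes a point y of X; g interchanges x and y; (g h)³ and h² lie in G; and for every f in G fixing x, the product h f h lies in G and fixes x. Then an element of the group generated by G and h fixes ∗ exactly when it lies in G, and that group acts (k+1)-transitively on Option X. -/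
theorem result {X : Type*} (G : Subgroup (Equiv.Perm (Option X))) (hfix : ∀ f ∈ G, f none = none)
    (k : ℕ) (hk : 2 ≤ k) (hkX : Nonempty (Fin k ↪ X))
    (htrans : ∀ a b : Fin k ↪ X, ∃ f ∈ G, ∀ i, f (some (a i)) = some (b i))
    (h g : Equiv.Perm (Option X)) (hg : g ∈ G) (x y : X)
    (h1 : h none = some x) (h2 : h (some x) = none) (h3 : h (some y) = some y)
    (h4 : g (some x) = some y) (h5 : g (some y) = some x)
    (h6 : (g * h) ^ 3 ∈ G) (h7 : h ^ 2 ∈ G)
    (h8 : ∀ f ∈ G, f (some x) = some x → h * f * h ∈ G ∧ (h * f * h) (some x) = some x) :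
    (∀ f ∈ Subgroup.closure ((G : Set (Equiv.Perm (Option X))) ∪ {h}), f none = none ↔ f ∈ G) ∧
      MulAction.IsMultiplyPretransitive (Subgroup.closure ((G : Set (Equiv.Perm (Option X))) ∪ {h})) (Option X) (k + 1) := by
  classical
  obtain ⟨c⟩ := hkX
  let H := Subgroup.closure ((G : Set (Equiv.Perm (Option X))) ∪ {h})
  have hGH : ∀ f ∈ G, f ∈ H := fun f hf => Subgroup.subset_closure (Or.inl hf)
  have hhH : h ∈ H := Subgroup.subset_closure (Or.inr rfl)
  have hxy : x ≠ y := by rintro rfl; rw [h2] at h3; simp at h3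
  let i0 : Fin k := ⟨0, by omega⟩
  let i1 : Fin k := ⟨1, by omega⟩
  have emb1 : ∀ w : X, ∃ a : Fin k ↪ X, a i0 = w := fun w =>
    ⟨c.trans (Equiv.swap (c i0) w).toEmbedding, by simp⟩
  have emb2 : ∀ u w : X, u ≠ w → ∃ a : Fin k ↪ X, a i0 = u ∧ a i1 = w := by
    intro u w huw
    obtain ⟨a, ha⟩ := emb1 u
    have h10 : a i1 ≠ u := fun e => by
      rw [← ha] at e; have := a.injective e; simp [i0, i1, Fin.ext_iff] at this
    exact ⟨a.trans (Equiv.swap (a i1) w).toEmbedding, by
      simp [ha, Equiv.swap_apply_of_ne_of_ne h10.symm huw], by simp⟩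
  let S : Set (Equiv.Perm (Option X)) := {f | f ∈ G ∨ ∃ a ∈ G, ∃ b ∈ G, f = a * h * b}
  have hleft : ∀ a ∈ G, ∀ f ∈ S, a * f ∈ S := by
    rintro a ha f (hf | ⟨c', hc, d, hd, rfl⟩)
    · exact Or.inl (mul_mem ha hf)
    · exact Or.inr ⟨a * c', mul_mem ha hc, d, hd, by group⟩
  have hright : ∀ a ∈ G, ∀ f ∈ S, f * a ∈ S := by
    rintro a ha f (hf | ⟨c', hc, d, hd, rfl⟩)
    · exact Or.inl (mul_mem hf ha)
    · exact Or.inr ⟨c', hc, d * a, mul_mem hd ha, by group⟩
  have hhinv : h⁻¹ ∈ S := Or.inr ⟨(h ^ 2)⁻¹, inv_mem h7, 1, one_mem _, by group⟩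
  have hhgh : h⁻¹ * g * h⁻¹ ∈ S := by
    have e : h * g * h = g⁻¹ * (g * h) ^ 3 * h⁻¹ * g⁻¹ * 1 := by
      simp only [pow_succ, pow_zero, one_mul]; group
    have h' : h * g * h ∈ S := by
      rw [e]
      exact hright 1 (one_mem _) _ (hright _ (inv_mem hg) _
        (hleft _ (mul_mem (inv_mem hg) h6) _ hhinv))
    have := hright _ (inv_mem h7) _ (hleft _ (inv_mem h7) _ h')
    rwa [show (h ^ 2)⁻¹ * (h * g * h) * (h ^ 2)⁻¹ = h⁻¹ * g * h⁻¹ by group] at this
  have hsand : ∀ f ∈ G, h * f * h ∈ S := by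
    intro f hf
    by_cases hfx : f (some x) = some x
    · exact Or.inl (h8 f hf hfx).1
    · obtain ⟨z, hz⟩ : ∃ z, f (some x) = some z := Option.ne_none_iff_exists'.mp fun e => by
        simpa using f.injective (e.trans (hfix f hf).symm)
      have hzx : x ≠ z := fun e => hfx (by rw [hz, e])
      obtain ⟨a, ha0, ha1⟩ := emb2 x y hxy
      obtain ⟨b, hb0, hb1⟩ := emb2 x z hzx
      obtain ⟨u, hu, hu'⟩ := htrans a b
      have hux : u (some x) = some x := by have := hu' i0; rwa [ha0, hb0] at this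
      have huy : u (some y) = some z := by have := hu' i1; rwa [ha1, hb1] at this
      have hv : g⁻¹ * u⁻¹ * f ∈ G := mul_mem (mul_mem (inv_mem hg) (inv_mem hu)) hf
      have hvx : (g⁻¹ * u⁻¹ * f) (some x) = some x := by
        rw [Equiv.Perm.mul_apply, Equiv.Perm.mul_apply, hz, ← huy, show u⁻¹ (u (some y)) = some y from u.symm_apply_apply _,
          Equiv.Perm.inv_eq_iff_eq, h4]
      have := hright _ (h8 _ hv hvx).1 _ (hleft _ (h8 u hu hux).1 _ hhgh)
      rwa [show h * u * h * (h⁻¹ * g * h⁻¹) * (h * (g⁻¹ * u⁻¹ * f) * h) = h * f * h by group] at this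
  have hmul : ∀ f₁ ∈ S, ∀ f₂ ∈ S, f₁ * f₂ ∈ S := by
    rintro f₁ hf₁ f₂ hf₂
    rcases hf₁ with hf₁ | ⟨a, ha, b, hb, rfl⟩
    · exact hleft _ hf₁ _ hf₂
    rcases hf₂ with hf₂ | ⟨c', hc, d, hd, rfl⟩
    · exact hright _ hf₂ _ (Or.inr ⟨a, ha, b, hb, rfl⟩)
    · have := hright d hd _ (hleft a ha _ (hsand _ (mul_mem hb hc)))
      rwa [show a * (h * (b * c') * h) * d = a * h * b * (c' * h * d) by group] at this
  have hHS : ∀ f ∈ H, f ∈ S := by
    let K : Subgroup (Equiv.Perm (Option X)) :=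
      { carrier := S
        mul_mem' := fun {a b} ha hb => hmul a ha b hb
        one_mem' := Or.inl (one_mem G)
        inv_mem' := by
          rintro f (hf | ⟨a, ha, b, hb, rfl⟩)
          · exact Or.inl (inv_mem hf)
          · rw [show (a * h * b)⁻¹ = b⁻¹ * h⁻¹ * a⁻¹ by group]
            exact hright _ (inv_mem ha) _ (hleft _ (inv_mem hb) _ hhinv) }
    exact fun f hf => (Subgroup.closure_le K).mpr (by
      rintro f (hf | rfl)
      · exact Or.inl hf
      · exact Or.inr ⟨1, one_mem _, 1, one_mem _, by group⟩) hf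
  refine ⟨fun f hf => ⟨fun hn => ?_, hfix f⟩, ?_⟩
  · rcases hHS f hf with hf' | ⟨a, ha, b, hb, rfl⟩
    · exact hf'
    · rw [Equiv.Perm.mul_apply, Equiv.Perm.mul_apply, hfix b hb, h1] at hn
      simpa using a.injective (hn.trans (hfix a ha).symm)
  refine ⟨fun a b => ?_⟩
  have key : ∀ a : Fin (k + 1) ↪ Option X, ∃ f ∈ H, f (a 0) = none ∧
      ∀ i : Fin k, f (a i.succ) = some (c i) := by
    intro a
    obtain ⟨f₀, hf₀, hf₀'⟩ : ∃ f ∈ H, f (a 0) = none := by
      cases hw : a 0 with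
      | none => exact ⟨1, one_mem _, rfl⟩
      | some w =>
        obtain ⟨a₁, ha₁⟩ := emb1 w
        obtain ⟨a₂, ha₂⟩ := emb1 x
        obtain ⟨u, hu, hu'⟩ := htrans a₁ a₂
        have := hu' i0
        rw [ha₁, ha₂] at this
        exact ⟨h * u, mul_mem hhH (hGH u hu), by rw [Equiv.Perm.mul_apply, this, h2]⟩
    have hne : ∀ i : Fin k, ∃ w, f₀ (a i.succ) = some w := fun i => Option.ne_none_iff_exists'.mp
      fun e => Fin.succ_ne_zero i (a.injective (f₀.injective (e.trans hf₀'.symm)))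
    choose w hw using hne
    have hwi : Function.Injective w := fun i j e => Fin.succ_injective _
      (a.injective (f₀.injective (by rw [hw, hw, e])))
    obtain ⟨u, hu, hu'⟩ := htrans ⟨w, hwi⟩ c
    refine ⟨u * f₀, mul_mem (hGH u hu) hf₀, by rw [Equiv.Perm.mul_apply, hf₀', hfix u hu], fun i => ?_⟩
    rw [Equiv.Perm.mul_apply, hw]
    exact hu' i
  obtain ⟨fa, hfa, a0, as⟩ := key a
  obtain ⟨fb, hfb, b0, bs⟩ := key b
  refine ⟨⟨fb⁻¹ * fa, mul_mem (inv_mem hfb) hfa⟩, ?_⟩
  ext1 i
  show (fb⁻¹ * fa) (a i) = b i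
  rw [Equiv.Perm.mul_apply, Equiv.Perm.inv_eq_iff_eq]
  refine Fin.cases ?_ ?_ i
  · rw [a0, b0]
  · intro j; rw [as, bs]

end Cfsg.Agent.S4301
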