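import Mathlib
import Cfsg.Statements.S4302
import Cfsg.Agent.Lib.FFPair.Structure
import Cfsg.Agent.Lib.FFPair.Model
import Cfsg.Agent.Lib.Coprime.Generation
import Cfsg.Agent.Lib.Transfer.ThompsonBasics
import Cfsg.Agent.Lib.SL2.Facts
import Cfsg.Agent.Lib.PSolvable.Core

set_option autoImplicit false
set_option linter.style.haveILetI false
set_option linter.unusedVariables false
open scoped MatrixGroups commutatorElement
open Cfsg CfsgLib Cfsg.Agent.FFPair

namespace Cfsg.Agent.S4302

universe u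

section Off

variable {G : Type u} [Group G] [Finite G] {V K H : Subgroup G} [Fact (Nat.Prime 2)]

omit [Finite G] [Fact (Nat.Prime 2)] in
theorem comm_of_abelian {A : Subgroup G} (hA : IsMulCommutative A) {a b : G} (ha : a ∈ A) (hb : b ∈ A) :
    Commute a b :=
  congrArg Subtype.val (hA.is_comm.comm (⟨a, ha⟩ : A) ⟨b, hb⟩)

omit [Finite G] [Fact (Nat.Prime 2)] in
theorem le_centralizer_abelian {A D : Subgroup G} (hA : IsMulCommutative A) (hD : D ≤ A) :
    A ≤ Subgroup.centralizer (D : Set G) := fun a ha => Subgroup.mem_centralizer_iff.mpr fun d hd =>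
  (comm_of_abelian hA (hD hd) ha).eq

/-- A subgroup `D` with cyclic quotient in `A` and `C_K(D)` not centralized by `A`. -/
theorem exists_cyclic_quot (hS : Setting 2 V K H) {A : Subgroup G} (hA : A ≤ H)
    (hAc : IsMulCommutative A) (hAp : IsPGroup 2 A) (hA1 : A ≠ ⊥) :
    ∃ D ≤ A, (¬ K ⊓ Subgroup.centralizer (D : Set G) ≤ Subgroup.centralizer (A : Set G)) ∧
      ∃ a ∈ A, A = D ⊔ Subgroup.zpowers a := by
  classical
  obtain ⟨D, ⟨hDA, hD⟩, hmax⟩ := (Set.toFinite {D : Subgroup G | D ≤ A ∧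
    ¬ K ⊓ Subgroup.centralizer (D : Set G) ≤ Subgroup.centralizer (A : Set G)}).exists_maximal
    ⟨⊥, bot_le, fun h => hA1 (hS.eq_bot_of_centralizes hA hAp (Subgroup.le_centralizer_iff.1
      ((le_inf le_rfl (fun k _ => Subgroup.mem_centralizer_iff.mpr fun x hx => by
        rw [SetLike.mem_coe, Subgroup.mem_bot] at hx; simp [hx])).trans h)))⟩
  refine ⟨D, hDA, hD, ?_⟩
  by_contra hno
  push Not at hno
  apply hD
  set K0 := K ⊓ Subgroup.centralizer (D : Set G) with hK0
  set M := Subgroup.centralizer (D : Set G) with hM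
  have hAM : A ≤ M := le_centralizer_abelian hAc hDA
  have hDM : D ≤ M := hDA.trans hAM
  haveI hDn : (D.subgroupOf M).Normal := ⟨fun d hd m => by
    rw [Subgroup.mem_subgroupOf] at hd ⊢
    show (m : G) * d * (m : G)⁻¹ ∈ D
    rw [show (m : G) * d = d * m from (Subgroup.mem_centralizer_iff.mp m.2 _ hd).symm, mul_inv_cancel_right]
    exact hd⟩
  set f := QuotientGroup.mk' (D.subgroupOf M)
  set Ab := (A.subgroupOf M).map f
  set Kb := (K0.subgroupOf M).map f
  haveI : IsMulCommutative Ab := ⟨⟨fun x y => Subtype.ext (by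
    obtain ⟨a, ha, ea⟩ := x.2
    obtain ⟨b, hb, eb⟩ := y.2
    simp only [Subgroup.coe_mul, ← ea, ← eb, ← map_mul]
    exact congrArg f (Subtype.ext (comm_of_abelian hAc ha hb).eq))⟩⟩
  have hcyc : ¬ IsCyclic Ab := by
    intro h
    obtain ⟨⟨g, a, ha, rfl⟩, hg⟩ := h.exists_generator
    refine hno (a : G) ha (le_antisymm (fun b hb => ?_) (sup_le hDA (Subgroup.zpowers_le.mpr ha)))
    obtain ⟨k, hk⟩ := Subgroup.mem_zpowers_iff.mp (hg ⟨f ⟨b, hAM hb⟩, ⟨b, hAM hb⟩, hb, rfl⟩)
    have h1 : f (a ^ k) = f ⟨b, hAM hb⟩ := by rw [map_zpow]; exact congrArg Subtype.val hk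
    rw [QuotientGroup.mk'_apply, QuotientGroup.mk'_apply, QuotientGroup.eq] at h1
    have h2 : ((a : G) ^ k)⁻¹ * b ∈ D := by simpa [Subgroup.mem_subgroupOf] using h1
    rw [show b = (a : G) ^ k * (((a : G) ^ k)⁻¹ * b) by group]
    exact mul_mem (Subgroup.mem_sup_right (zpow_mem (Subgroup.mem_zpowers _) k)) (Subgroup.mem_sup_left h2)
  have hAN : A ≤ Subgroup.normalizer (K0 : Set G) :=
    Coprime.le_normalizer_inf_of_le (hA.trans hS.knorm)
      (hAM.trans Subgroup.le_normalizer)
  have hcop : (Nat.card Ab).Coprime (Nat.card Kb) := by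
    refine (hS.coprime_of_pgroup hAp).coprime_dvd_left ?_ |>.coprime_dvd_right ?_
    · exact (Subgroup.card_map_dvd _ _).trans (Nat.card_congr (Subgroup.subgroupOfEquivOfLe hAM).toEquiv).dvd
    · refine (Subgroup.card_map_dvd _ _).trans ?_
      rw [Nat.card_congr (Subgroup.subgroupOfEquivOfLe (inf_le_right : K0 ≤ M)).toEquiv]
      exact Subgroup.card_dvd_of_le inf_le_left
  have hN : Ab ≤ Subgroup.normalizer (Kb : Set (M ⧸ D.subgroupOf M)) := by
    refine le_trans ?_ (Subgroup.le_normalizer_map f (H := K0.subgroupOf M))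
    refine Subgroup.map_mono ?_
    intro x hx
    rw [Subgroup.mem_normalizer_iff]
    intro y
    exact Subgroup.mem_normalizer_iff.mp (hAN hx) (y : G)
  have key := Coprime.le_of_centralizer_le hcyc hN hcop
    (Y := ((Subgroup.centralizer (A : Set G)).subgroupOf M ⊓ K0.subgroupOf M).map f) fun g hg hg1 => by
    obtain ⟨a, ha, rfl⟩ := hg
    rintro z ⟨⟨k, hk, rfl⟩, hkc⟩
    refine ⟨k, ⟨?_, hk⟩, rfl⟩
    -- `k` centralizes `a`
    have e := Subgroup.mem_centralizer_iff.mp hkc (f a) rfl
    rw [← map_mul, ← map_mul] at e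
    have hm : ((a * k * (k * a)⁻¹ : M) : G) ∈ D := by
      rw [← Subgroup.mem_subgroupOf, ← QuotientGroup.eq_one_iff, ← QuotientGroup.mk'_apply, map_mul,
        map_inv, show (QuotientGroup.mk' (D.subgroupOf M)) (a * k) = f (k * a) from e, mul_inv_cancel]
    have hm' : ((a * k * (k * a)⁻¹ : M) : G) ∈ K0 := by
      show (a : G) * k * ((k : G) * a)⁻¹ ∈ K0
      rw [show (a : G) * k * ((k : G) * a)⁻¹ = ((a : G) * k * (a : G)⁻¹) * (k : G)⁻¹ by group]
      exact mul_mem ((Subgroup.mem_normalizer_iff.mp (hAN ha) _).mp hk) (inv_mem hk)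
    have hone : ((a * k * (k * a)⁻¹ : M) : G) = 1 := by
      have hd : Nat.card ↥(D ⊓ K0) = 1 := Nat.eq_one_of_dvd_coprimes
        ((hS.coprime_of_pgroup hAp).coprime_dvd_left (Subgroup.card_dvd_of_le hDA)
          |>.coprime_dvd_right (Subgroup.card_dvd_of_le inf_le_left))
        (Subgroup.card_dvd_of_le inf_le_left) (Subgroup.card_dvd_of_le inf_le_right)
      have h0 := Subgroup.eq_bot_of_card_eq _ hd
      exact Subgroup.mem_bot.mp (h0 ▸ Subgroup.mem_inf.mpr ⟨hm, hm'⟩)
    have hak : (a : G) * k = k * a := mul_inv_eq_one.mp (by simpa using hone)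
    set D' := D ⊔ Subgroup.zpowers (a : G)
    by_contra hkA
    have hD' : ¬ K ⊓ Subgroup.centralizer (D' : Set G) ≤ Subgroup.centralizer (A : Set G) := by
      intro h
      refine hkA (Subgroup.mem_subgroupOf.mpr (h ⟨hk.1, ?_⟩))
      have hle : D' ≤ Subgroup.centralizer {(k : G)} := sup_le
        (fun d hd => Subgroup.mem_centralizer_singleton_iff.mpr (Subgroup.mem_centralizer_iff.mp hk.2 d hd))
        (Subgroup.zpowers_le.mpr (Subgroup.mem_centralizer_singleton_iff.mpr hak))
      exact Subgroup.mem_centralizer_iff.mpr fun d hd =>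
        Subgroup.mem_centralizer_singleton_iff.mp (hle hd)
    have := hmax ⟨sup_le hDA (Subgroup.zpowers_le.mpr ha), hD'⟩ le_sup_left
    exact hg1 ((QuotientGroup.eq_one_iff a).mpr
      (Subgroup.mem_subgroupOf.mpr (this (Subgroup.mem_sup_right (Subgroup.mem_zpowers _)))))
  intro k hk
  obtain ⟨k', hk', e⟩ := key ⟨⟨k, hk.2⟩, hk, rfl⟩
  rw [QuotientGroup.mk'_apply, QuotientGroup.mk'_apply, QuotientGroup.eq] at e
  have hm : (k' : G)⁻¹ * k ∈ D := by simpa [Subgroup.mem_subgroupOf] using e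
  rw [show k = (k' : G) * ((k' : G)⁻¹ * k) by group]
  exact mul_mem hk'.1 ((hDA.trans (le_centralizer_abelian hAc le_rfl)) hm)

theorem fix_lt_of_good' (hS : Setting 2 V K H) {A B : Subgroup G} (hA : A ≤ H)
    (hAc : IsMulCommutative A) (hAp : IsPGroup 2 A) (hBA : B ≤ A)
    (hgood : ¬ K ⊓ Subgroup.centralizer (B : Set G) ≤ Subgroup.centralizer (A : Set G)) :
    cfix V A < cfix V B := by
  refine lt_of_le_of_ne (inf_le_inf_left V (Subgroup.centralizer_le hBA)) fun heq => hgood ?_
  set K0 := K ⊓ Subgroup.centralizer (B : Set G) with hK0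
  have hBp : IsPGroup 2 B := hAp.to_le hBA
  have hAN : A ≤ Subgroup.normalizer (K0 : Set G) := by
    refine Coprime.le_normalizer_inf_of_le (hA.trans hS.knorm)
      (Coprime.le_normalizer_centralizer fun a ha => ?_)
    exact Subgroup.centralizer_le_normalizer _ fun b hb => (comm_of_abelian hAc (hBA hb) ha).eq
  set X := ⁅K0, A⁆ with hX
  have hXK : X ≤ K0 := Coprime.commutator_le_left_of_le_normalizer hAN
  have hXV : X ≤ Subgroup.centralizer ((cfix V B : Subgroup G) : Set G) := by
    refine Subgroup.commutator_le.2 fun k hk a ha => Subgroup.mem_centralizer_iff.2 fun v hv => ?_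
    have hva : ∀ u ∈ cfix V B, a * u = u * a := fun u hu => by
      rw [← heq] at hu
      exact hu.2 a ha
    have hkv : k⁻¹ * v * k ∈ cfix V B := by
      refine ⟨?_, fun b hb => ?_⟩
      · simpa using (Subgroup.mem_normalizer_iff.1 (hS.norm (hS.le (inv_mem hk.1))) v).1 hv.1
      · have h1 : b * k = k * b := hk.2 b hb
        have h2 : b * v = v * b := hv.2 b hb
        calc b * (k⁻¹ * v * k) = k⁻¹ * (k * b) * k⁻¹ * v * k := by group
          _ = k⁻¹ * (b * v) * k := by rw [← h1]; group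
          _ = k⁻¹ * v * (b * k) := by rw [h2]; group
          _ = k⁻¹ * v * k * b := by rw [h1]; group
    have hw : a⁻¹ * v * a = v := by
      rw [mul_assoc, ← hva v hv, inv_mul_cancel_left]
    have e1 : a * (k⁻¹ * v * k) * a⁻¹ = k⁻¹ * v * k := by rw [hva _ hkv, mul_inv_cancel_right]
    have e2 : ⁅k, a⁆⁻¹ * v * ⁅k, a⁆ = v := by
      calc ⁅k, a⁆⁻¹ * v * ⁅k, a⁆ = a * k * (a⁻¹ * (k⁻¹ * v * k) * a) * k⁻¹ * a⁻¹ := by
            simp only [commutatorElement_def]; group
        _ = a * k * (a⁻¹ * (a * (k⁻¹ * v * k) * a⁻¹) * a) * k⁻¹ * a⁻¹ := by rw [e1]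
        _ = a * v * a⁻¹ := by group
        _ = v := by rw [hva v hv, mul_inv_cancel_right]
    calc v * ⁅k, a⁆ = ⁅k, a⁆ * (⁅k, a⁆⁻¹ * v * ⁅k, a⁆) := by group
      _ = ⁅k, a⁆ * v := by rw [e2]
  have hXcop : (Nat.card X).Coprime 2 :=
    hS.cop.coprime_dvd_left (Subgroup.card_dvd_of_le (hXK.trans inf_le_left))
  have hBX : B ≤ Subgroup.centralizer (X : Set G) :=
    (Subgroup.le_centralizer_iff.1 inf_le_right).trans (Subgroup.centralizer_le hXK)
  have hXcV := CfsgLib.Coprime.pxq hBp hXcop hBX (isPGroup_of_elem hS.elem)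
    (hBA.trans (hA.trans hS.norm)) (hXK.trans (inf_le_left.trans (hS.le.trans hS.norm)))
    (Subgroup.le_centralizer_iff.1 hXV)
  have hX1 : X = ⊥ := le_bot_iff.1
    ((le_inf (hXK.trans (inf_le_left.trans hS.le)) hXcV).trans hS.faithful.le)
  exact Subgroup.commutator_eq_bot_iff_le_centralizer.1 hX1

/-- The equality case. -/
theorem sq_eq_one (hS : Setting 2 V K H) {A B : Subgroup G} (hA : A ≤ H) (hAc : IsMulCommutative A)
    (hBA : B ≤ A) (hBe : IsElementaryAbelian 2 B) (hB : IsBestOffenderOn 2 V B) {a : G} (ha : a ∈ A)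
    (hz : a ^ 2 ∈ B) : a ^ 2 = 1 := by
  set z := a ^ 2 with hzdef
  have hzA : z ∈ A := hBA hz
  -- `z` acts trivially on every natural module of a line of `B`
  have hline : ∀ L : Subgroup G, L ≤ B → Tv 2 V H L →
      z ∈ Subgroup.centralizer (modl V K L : Set G) := by
    intro L hLB hL
    have D := compData hS hL
    set W := modl V K L with hW
    have hWV : W ≤ V := modl_le hS hL
    have haL : a ∈ Subgroup.normalizer (L : Set G) := Subgroup.centralizer_le_normalizer _
      (le_centralizer_abelian hAc (hLB.trans hBA) ha)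
    have hac : a ∈ Subgroup.normalizer (comp K L : Set G) := by
      have h1 : Subgroup.zpowers a ≤ Subgroup.normalizer ((⁅K, L⁆ : Subgroup G) : Set G) :=
        CfsgLib.Coprime.le_normalizer_commutator (Subgroup.zpowers_le.mpr (hS.knorm (hA ha)))
          (Subgroup.zpowers_le.mpr haL)
      exact Subgroup.normalizer_inf_normalizer_le_normalizer_sup _ _
        (Subgroup.mem_inf.mpr ⟨h1 (Subgroup.mem_zpowers a), haL⟩)
    have haW : a ∈ Subgroup.normalizer (W : Set G) :=
      CfsgLib.Coprime.le_normalizer_commutator (Subgroup.zpowers_le.mpr (hS.norm (hA ha)))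
        (Subgroup.zpowers_le.mpr hac) (Subgroup.mem_zpowers a)
    -- a non-trivial element of L
    obtain ⟨⟨t, ht⟩, ht1⟩ := Subgroup.ne_bot_iff_exists_ne_one.1 hL.ne_bot
    have htc : t ∈ comp K L := Subgroup.mem_sup_right ht
    have htW : t ∈ Subgroup.normalizer (W : Set G) :=
      le_normalizer_of_commutator_le hWV le_rfl htc
    have hat : a * t = t * a := (comm_of_abelian hAc ha (hBA (hLB ht))).eq
    have hex : ∃ w ∈ W, t * w * t⁻¹ ≠ w := by
      by_contra hno
      push Not at hno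
      refine ht1 (Subtype.ext ((Subgroup.eq_bot_iff_forall _).1 D.faithful t ⟨htc, ?_⟩))
      exact Subgroup.mem_centralizer_iff.mpr fun w hw => (mul_inv_eq_iff_eq_mul.mp (hno w hw)).symm
    obtain ⟨w, hw, hne⟩ := hex
    set c := (t * w * t⁻¹) * w with hc
    have hcW : c ∈ W := mul_mem ((Subgroup.mem_normalizer_iff.mp htW w).mp hw) hw
    have hwsq : w * w = 1 := by rw [← pow_two]; exact hS.elem.2 w (hWV hw)
    have hc1 : c ≠ 1 := fun e => hne (by rw [← hwsq] at e; exact mul_right_cancel e)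
    have hwne : w ≠ 1 := fun e => hne (by rw [e]; group)
    have hWcard : Nat.card W = 4 := by rw [D.cardW]; norm_num
    have hWp : ∀ x ∈ W, ∀ y ∈ W, x * y = y * x := fun x hx y hy => commute_of_elem hS.elem (hWV hx) (hWV hy)
    have hcw : c ≠ w := fun e => by
      rw [hc] at e
      have e' : t * w * t⁻¹ = 1 := by simpa using e
      exact hwne (by simpa [mul_assoc] using congrArg (fun x => t⁻¹ * x * t) e')
    -- the elements of W
    have hall : ∀ x ∈ W, x = 1 ∨ x = c ∨ x = w ∨ x = c * w := by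
      classical
      haveI := Fintype.ofFinite W
      set s : Finset W := {1, ⟨c, hcW⟩, ⟨w, hw⟩, ⟨c * w, mul_mem hcW hw⟩}
      have hs : s = Finset.univ := by
        refine Finset.eq_univ_of_card _ ?_
        rw [← Nat.card_eq_fintype_card, hWcard]
        have h1 : (1 : W) ≠ ⟨c, hcW⟩ := fun e => hc1 (congrArg Subtype.val e).symm
        have h2 : (1 : W) ≠ ⟨w, hw⟩ := fun e => hwne (congrArg Subtype.val e).symm
        have h3 : (⟨c, hcW⟩ : W) ≠ ⟨w, hw⟩ := fun e => hcw (congrArg Subtype.val e)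
        have h4 : (1 : W) ≠ ⟨c * w, mul_mem hcW hw⟩ := fun e => hcw (by
          have := (congrArg Subtype.val e).symm
          simp only [OneMemClass.coe_one] at this
          rw [← hwsq] at this
          exact mul_right_cancel this)
        have h5 : (⟨c, hcW⟩ : W) ≠ ⟨c * w, mul_mem hcW hw⟩ := fun e => hwne (by
          simpa using congrArg Subtype.val e)
        have h6 : (⟨w, hw⟩ : W) ≠ ⟨c * w, mul_mem hcW hw⟩ := fun e => hc1 (by
          simpa using congrArg Subtype.val e)
        simp [s, h1, h2, h3, h4, h5, h6]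
      intro x hx
      have := Finset.mem_univ (⟨x, hx⟩ : W)
      rw [← hs] at this
      simpa [s, Subtype.ext_iff] using this
    have htfix : ∀ x ∈ W, t * x * t⁻¹ = x → x = 1 ∨ x = c := by
      intro x hx e
      rcases hall x hx with rfl | rfl | rfl | rfl
      · exact .inl rfl
      · exact .inr rfl
      · exact absurd e hne
      · exfalso
        apply hne
        have hcf : t * c * t⁻¹ = c := by
          have ht2 : t * t = 1 := by
            rw [← pow_two]
            exact (hS.offender_elem hL.le hL.off).2 t ht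
          rw [hc, show t * (t * w * t⁻¹ * w) * t⁻¹ = (t * t) * w * (t * t)⁻¹ * (t * w * t⁻¹) by group,
            ht2, one_mul, inv_one, mul_one]
          exact hWp _ hw _ ((Subgroup.mem_normalizer_iff.mp htW w).mp hw)
        have e2 : (t * c * t⁻¹) * (t * w * t⁻¹) = c * w := by rw [← e]; group
        rw [hcf] at e2
        exact mul_left_cancel e2
    -- `a` commutes with `t`, so it fixes `c`
    set σ : G → G := fun x => a * x * a⁻¹
    have hσW : ∀ x ∈ W, σ x ∈ W := fun x hx => (Subgroup.mem_normalizer_iff.mp haW x).mp hx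
    have hσc : σ c = c := by
      have hcf : t * c * t⁻¹ = c := by
        have ht2 : t * t = 1 := by
          rw [← pow_two]
          exact (hS.offender_elem hL.le hL.off).2 t ht
        rw [hc, show t * (t * w * t⁻¹ * w) * t⁻¹ = (t * t) * w * (t * t)⁻¹ * (t * w * t⁻¹) by group,
          ht2, one_mul, inv_one, mul_one]
        exact hWp _ hw _ ((Subgroup.mem_normalizer_iff.mp htW w).mp hw)
      have e : t * σ c * t⁻¹ = σ c := by
        show t * (a * c * a⁻¹) * t⁻¹ = a * c * a⁻¹
        rw [show t * (a * c * a⁻¹) * t⁻¹ = (t * a) * c * (t * a)⁻¹ by group, ← hat,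
          show a * t * c * (a * t)⁻¹ = a * (t * c * t⁻¹) * a⁻¹ by group, hcf]
      refine (htfix _ (hσW c hcW) e).resolve_left fun e1 => hc1 ?_
      simpa [σ, mul_assoc] using congrArg (fun x => a⁻¹ * x * a) e1
    have hσ1 : σ 1 = 1 := by simp [σ]
    have hσinj : Function.Injective σ := fun x y e => mul_left_cancel (mul_right_cancel e)
    have hσw : σ (σ w) = w := by
      rcases hall _ (hσW w hw) with e | e | e | e
      · exact absurd (hσinj (e.trans hσ1.symm)) hwne
      · exact absurd (hσinj (e.trans hσc.symm)).symm hcw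
      · rw [e, e]
      · have h2 : σ (c * w) = σ c * σ w := by simp [σ, mul_assoc]
        rw [e, h2, hσc, e, ← mul_assoc, show c * c = 1 by rw [← pow_two]; exact hS.elem.2 c (hWV hcW), one_mul]
    rw [Subgroup.mem_centralizer_iff]
    intro x hx
    have e2 : ∀ x, σ (σ x) = z * x * z⁻¹ := fun x => by simp [σ, hzdef, pow_two, mul_assoc]
    have hfix : z * x * z⁻¹ = x := by
      rw [← e2]
      rcases hall x hx with rfl | rfl | rfl | rfl
      · rw [hσ1, hσ1]
      · rw [hσc, hσc]
      · exact hσw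
      · have h2 : ∀ u v, σ (u * v) = σ u * σ v := fun u v => by simp [σ, mul_assoc]
        rw [h2 c w, h2 (σ c) (σ w), hσc, hσc, hσw]
    exact (mul_inv_eq_iff_eq_mul.mp hfix).symm
  by_contra hz1
  have hBH : B ≤ H := hBA.trans hA
  let ι := {L : Subgroup G // L ≤ B ∧ IsBestOffenderOn 2 V L ∧ Nat.card L = 2}
  have hB' : B = ⨆ L : ι, (L : Subgroup G) := hS.eq_iSup_lines hBH hB
  have hTv : ∀ L : ι, Tv 2 V H L.1 := fun L => ⟨L.2.1.trans hBH, L.2.2.1, L.2.2.2⟩
  set X := ⨆ L : ι, ⁅K, (L : Subgroup G)⁆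
  -- z centralizes X
  have hzX : X ≤ Subgroup.centralizer {z} := by
    refine iSup_le fun L => ?_
    have D := compData hS (hTv L)
    intro e he
    have hec : e ∈ comp K L.1 := Subgroup.mem_sup_left he
    have hzn : z ∈ Subgroup.normalizer ((comp K L.1 : Subgroup G) : Set G) := by
      refine Subgroup.normalizer_inf_normalizer_le_normalizer_sup _ _ (Subgroup.mem_inf.mpr ⟨?_, ?_⟩)
      · exact CfsgLib.Coprime.le_normalizer_commutator (A := Subgroup.zpowers z)
          (Subgroup.zpowers_le.mpr (hS.knorm (hA hzA)))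
          (Subgroup.zpowers_le.mpr (Subgroup.centralizer_le_normalizer _
            (le_centralizer_abelian hAc (L.2.1.trans hBA) hzA))) (Subgroup.mem_zpowers z)
      · exact Subgroup.centralizer_le_normalizer _ (le_centralizer_abelian hAc (L.2.1.trans hBA) hzA)
    have hew : e ∈ Subgroup.normalizer (modl V K L.1 : Set G) :=
      le_normalizer_of_commutator_le (modl_le hS (hTv L)) le_rfl hec
    have hmem : ⁅e, z⁆ ∈ comp K L.1 ⊓ Subgroup.centralizer (modl V K L.1 : Set G) := by
      refine Subgroup.mem_inf.mpr ⟨?_, FFPair.commutator_mem_centralizer hew (hline L.1 L.2.1 (hTv L))⟩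
      rw [commutatorElement_def, mul_assoc e z, mul_assoc]
      exact mul_mem hec ((Subgroup.mem_normalizer_iff.mp hzn _).mp (inv_mem hec))
    rw [D.faithful, Subgroup.mem_bot, commutatorElement_eq_one_iff_mul_comm] at hmem
    exact Subgroup.mem_centralizer_singleton_iff.mpr hmem
  -- [K, z] ≤ X
  have hKX : K ≤ Subgroup.normalizer (X : Set G) := by
    intro k0 hk0
    refine Subgroup.mem_normalizer_fintype fun x hx => ?_
    have hle : X ≤ X.comap (MulAut.conj k0).toMonoidHom := iSup_le fun L => by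
      refine Subgroup.commutator_le.mpr fun k hk l hl => ?_
      show k0 * ⁅k, l⁆ * k0⁻¹ ∈ X
      rw [show k0 * ⁅k, l⁆ * k0⁻¹ = ⁅k0 * k, l⁆ * ⁅k0, l⁆⁻¹ by simp only [commutatorElement_def]; group]
      exact mul_mem (le_iSup (fun L : ι => ⁅K, (L : Subgroup G)⁆) L
        (Subgroup.commutator_mem_commutator (mul_mem hk0 hk) hl))
        (inv_mem (le_iSup (fun L : ι => ⁅K, (L : Subgroup G)⁆) L
          (Subgroup.commutator_mem_commutator hk0 hl)))
    exact hle hx
  have hBX : B ≤ Subgroup.normalizer (X : Set G) := by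
    intro b hb
    refine Subgroup.mem_normalizer_fintype fun x hx => ?_
    have hle : X ≤ X.comap (MulAut.conj b).toMonoidHom := iSup_le fun L => by
      intro x hx
      refine le_iSup (fun L : ι => ⁅K, (L : Subgroup G)⁆) L ?_
      exact (Subgroup.mem_normalizer_iff.mp (CfsgLib.Coprime.le_normalizer_commutator
        (A := Subgroup.zpowers b) (Subgroup.zpowers_le.mpr (hS.knorm (hBH hb)))
        (Subgroup.zpowers_le.mpr (Subgroup.centralizer_le_normalizer _
          (le_centralizer_abelian hBe.1 L.2.1 hb))) (Subgroup.mem_zpowers b)) x).mp hx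
    exact hle hx
  have hKz : ∀ k ∈ K, ⁅k, z⁆ ∈ X := by
    have hzsup : z ∈ ⨆ L : ι, (L : Subgroup G) := hB'.le hz
    suffices h : ∀ b ∈ (⨆ L : ι, (L : Subgroup G)), b ∈ B ∧ ∀ k ∈ K, ⁅k, b⁆ ∈ X from (h z hzsup).2
    intro b hb
    induction hb using Subgroup.iSup_induction' with
    | hp L x hx =>
      exact ⟨L.2.1 hx, fun k hk => le_iSup (fun L : ι => ⁅K, (L : Subgroup G)⁆) L
        (Subgroup.commutator_mem_commutator hk hx)⟩
    | h1 => exact ⟨one_mem _, fun k _ => by simp⟩
    | hmul x y _ _ hx hy =>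
      refine ⟨mul_mem hx.1 hy.1, fun k hk => ?_⟩
      rw [show ⁅k, x * y⁆ = ⁅k, x⁆ * (x * ⁅k, y⁆ * x⁻¹) by simp only [commutatorElement_def]; group]
      exact mul_mem (hx.2 k hk) ((Subgroup.mem_normalizer_iff.mp (hBX hx.1) _).mp (hy.2 k hk))
  -- coprime action: z centralizes K
  refine hz1 (Subgroup.mem_bot.mp ?_)
  rw [← hS.eq_bot_of_centralizes (A := Subgroup.zpowers z) (Subgroup.zpowers_le.mpr (hA hzA))
    ((FFPair.isPGroup_of_elem hBe).to_le (Subgroup.zpowers_le.mpr hz)) ?_]
  · exact Subgroup.mem_zpowers z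
  rw [Subgroup.zpowers_le, Subgroup.mem_centralizer_iff]
  intro k hk
  have hc : ⁅k, z⁆ * z = z * ⁅k, z⁆ := Subgroup.mem_centralizer_singleton_iff.mp (hzX (hKz k hk))
  have hz2 : z * z = 1 := by rw [← pow_two]; exact hBe.2 z hz
  set c := ⁅k, z⁆ with hcdef
  have hc2 : c * c = 1 := by
    have e : z * c * z⁻¹ = c⁻¹ := by
      have hzi : z⁻¹ = z := inv_eq_of_mul_eq_one_right hz2
      rw [hcdef, commutatorElement_def]
      simp only [mul_inv_rev, inv_inv, hzi]
      simp only [mul_assoc, hz2, mul_one]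
    rw [← hc, mul_inv_cancel_right] at e
    exact mul_eq_one_iff_eq_inv.mpr e
  have hcK : c ∈ K := CfsgLib.Coprime.commutator_le_left_of_le_normalizer
    (Subgroup.zpowers_le.mpr (hS.knorm (hA hzA)))
    (Subgroup.commutator_mem_commutator hk (Subgroup.mem_zpowers z))
  have hc1 : c = 1 := by
    rw [← orderOf_eq_one_iff]
    refine Nat.eq_one_of_dvd_coprimes hS.cop (Subgroup.orderOf_dvd_natCard _ hcK) ?_
    exact orderOf_dvd_of_pow_eq_one (by rw [pow_two]; exact hc2)
  exact commutatorElement_eq_one_iff_mul_comm.mp hc1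

/-- A hyperplane with more fixed points. -/
theorem exists_hyperplane (hS : Setting 2 V K H) {A : Subgroup G} (hA : A ≤ H)
    (hAc : IsMulCommutative A) (hAp : IsPGroup 2 A) (hA1 : A ≠ ⊥) :
    ∃ B, B < A ∧ B.relIndex A = 2 ∧ 2 * Nat.card (cfix V A) ≤ Nat.card (cfix V B) := by
  obtain ⟨D, hDA, hD, a, ha, hAeq⟩ := exists_cyclic_quot hS hA hAc hAp hA1
  set B := D ⊔ Subgroup.zpowers (a ^ 2) with hB
  have hBA : B ≤ A := sup_le hDA (Subgroup.zpowers_le.mpr (pow_mem ha 2))
  have haB : a ∉ B := by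
    intro h
    have hDB : B = A := le_antisymm hBA (hAeq.le.trans (sup_le le_sup_left (Subgroup.zpowers_le.mpr h)))
    -- `a = d * a ^ (2 k)`, so the odd power `a ^ (2 k - 1)` lies in D
    have hDn : (Subgroup.zpowers (a ^ 2)) ≤ Subgroup.normalizer (D : Set G) :=
      ((Subgroup.zpowers_le.mpr (pow_mem ha 2)).trans (le_centralizer_abelian hAc hDA)).trans
        (Subgroup.centralizer_le_normalizer _)
    rw [hB, ← SetLike.mem_coe, Subgroup.coe_mul_of_right_le_normalizer_left _ _ hDn] at h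
    obtain ⟨d, hd, z, hz, e⟩ := h
    obtain ⟨k, rfl⟩ := Subgroup.mem_zpowers_iff.mp hz
    have hd' : a ^ (1 - 2 * k) ∈ D := by
      rw [zpow_sub, zpow_one, zpow_mul, zpow_ofNat]
      simp only at e
      nth_rw 1 [← e]
      rw [mul_inv_cancel_right]; exact hd
    obtain ⟨n, hn⟩ := IsPGroup.iff_orderOf.mp hAp ⟨a, ha⟩
    rw [Subgroup.orderOf_mk] at hn
    have haD : a ∈ D := by
      have hco : IsCoprime (1 - 2 * k) ((2 : ℤ) ^ n) :=
        IsCoprime.pow_right ⟨1, k, by ring⟩
      obtain ⟨u, v, huv⟩ := hco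
      rw [← zpow_one a, ← huv, zpow_add, mul_comm u, zpow_mul, mul_comm v, zpow_mul]
      refine mul_mem (zpow_mem hd' u) ?_
      rw [show (2 : ℤ) ^ n = ((2 ^ n : ℕ) : ℤ) by norm_num, zpow_natCast, ← hn, pow_orderOf_eq_one, one_zpow]
      exact one_mem _
    exact hD (inf_le_right.trans (Subgroup.centralizer_le
      (hAeq.le.trans (sup_le le_rfl (Subgroup.zpowers_le.mpr haD)))))
  have hlt : B < A := lt_of_le_of_ne hBA fun e => haB (e ▸ ha)
  have hidx : B.relIndex A = 2 := by
    have hA' : A = B ⊔ Subgroup.zpowers a := le_antisymm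
      (hAeq.le.trans (sup_le_sup_right le_sup_left _)) (sup_le hBA (Subgroup.zpowers_le.mpr ha))
    haveI := hAc
    haveI : (B.subgroupOf A).Normal := inferInstance
    have hsur : ∀ z : A ⧸ B.subgroupOf A, z = 1 ∨ z = QuotientGroup.mk ⟨a, ha⟩ := by
      intro z
      induction z using QuotientGroup.induction_on with | _ w => ?_
      have hn : Subgroup.zpowers a ≤ Subgroup.normalizer (B : Set G) :=
        ((Subgroup.zpowers_le.mpr ha).trans (le_centralizer_abelian hAc hBA)).trans
          (Subgroup.centralizer_le_normalizer _)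
      have hw := hA'.le w.2
      rw [← SetLike.mem_coe, Subgroup.coe_mul_of_right_le_normalizer_left _ _ hn] at hw
      obtain ⟨b, hb, c, hc, e⟩ := hw
      obtain ⟨k, rfl⟩ := Subgroup.mem_zpowers_iff.mp hc
      have hsplit : (QuotientGroup.mk w : A ⧸ B.subgroupOf A) = QuotientGroup.mk (⟨a, ha⟩ ^ k) := by
        rw [QuotientGroup.eq, Subgroup.mem_subgroupOf]
        simp only [Subgroup.coe_mul, Subgroup.coe_inv, Subgroup.coe_zpow]
        rw [← e, mul_inv_rev, mul_assoc, (comm_of_abelian hAc (inv_mem (hBA hb)) (zpow_mem ha k)).eq,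
          inv_mul_cancel_left]
        exact inv_mem hb
      rw [hsplit, QuotientGroup.mk_zpow]
      have h2 : (QuotientGroup.mk (⟨a, ha⟩ : A) : A ⧸ B.subgroupOf A) ^ (2 : ℤ) = 1 := by
        rw [← QuotientGroup.mk_zpow, QuotientGroup.eq_one_iff, Subgroup.mem_subgroupOf]
        exact Subgroup.mem_sup_right (by simpa [zpow_ofNat] using Subgroup.mem_zpowers (a ^ 2))
      rcases Int.even_or_odd k with ⟨m, rfl⟩ | ⟨m, rfl⟩
      · left; rw [← two_mul, zpow_mul, h2, one_zpow]
      · right; rw [zpow_add, zpow_mul, h2, one_zpow, one_mul, zpow_one]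
    have h1 : Nat.card (A ⧸ B.subgroupOf A) ≤ 2 := by
      classical
      haveI := Fintype.ofFinite (A ⧸ B.subgroupOf A)
      rw [Nat.card_eq_fintype_card, ← Finset.card_univ]
      refine (Finset.card_le_card (t := {1, QuotientGroup.mk ⟨a, ha⟩}) fun z _ => ?_).trans
        Finset.card_le_two
      rcases hsur z with h | h <;> simp [h]
    have h2 : Nat.card (A ⧸ B.subgroupOf A) ≠ 1 := fun h => haB (by
      have := (Subgroup.index_eq_one.mp (h : (B.subgroupOf A).index = 1))
      exact (Subgroup.subgroupOf_eq_top.mp this) ha)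
    have h3 : 0 < Nat.card (A ⧸ B.subgroupOf A) := Nat.card_pos
    show Nat.card (A ⧸ B.subgroupOf A) = 2
    omega
  refine ⟨B, hlt, hidx, ?_⟩
  set V0 := cfix V D with hV0
  have hVcomm : ∀ x ∈ V, ∀ y ∈ V, x * y = y * x := fun x hx y hy => commute_of_elem hS.elem hx hy
  have haV0 : ∀ v ∈ V0, a * v * a⁻¹ ∈ V0 := fun v hv => by
    refine ⟨(Subgroup.mem_normalizer_iff.mp (hS.norm (hA ha)) v).mp hv.1, fun d hd => ?_⟩
    have h1 : d * a = a * d := (comm_of_abelian hAc (hDA hd) ha).eq
    have h2 : d * v = v * d := hv.2 d hd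
    calc d * (a * v * a⁻¹) = (d * a) * v * a⁻¹ := by group
      _ = a * (d * v) * a⁻¹ := by rw [h1]; group
      _ = a * v * (d * a⁻¹) := by rw [h2]; group
      _ = a * v * (a⁻¹ * d) := by rw [(comm_of_abelian hAc (hDA hd) (inv_mem ha)).eq]
      _ = a * v * a⁻¹ * d := by group
  -- the fixed points of A and B inside V0
  have hfixA : ∀ v ∈ V0, a * v = v * a → v ∈ cfix V A := fun v hv hav => by
    refine ⟨hv.1, ?_⟩
    have : A ≤ Subgroup.centralizer {v} := hAeq.le.trans (sup_le
      (fun d hd => Subgroup.mem_centralizer_singleton_iff.mpr (hv.2 d hd))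
      (Subgroup.zpowers_le.mpr (Subgroup.mem_centralizer_singleton_iff.mpr hav)))
    exact Subgroup.mem_centralizer_iff.mpr fun x hx => Subgroup.mem_centralizer_singleton_iff.mp (this hx)
  have hfixB : ∀ v ∈ V0, a ^ 2 * v = v * a ^ 2 → v ∈ cfix V B := fun v hv hav => by
    refine ⟨hv.1, ?_⟩
    have : B ≤ Subgroup.centralizer {v} := sup_le
      (fun d hd => Subgroup.mem_centralizer_singleton_iff.mpr (hv.2 d hd))
      (Subgroup.zpowers_le.mpr (Subgroup.mem_centralizer_singleton_iff.mpr hav))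
    exact Subgroup.mem_centralizer_iff.mpr fun x hx => Subgroup.mem_centralizer_singleton_iff.mp (this hx)
  have hlt' : cfix V A < cfix V B := by
    refine lt_of_le_of_ne (inf_le_inf_left V (Subgroup.centralizer_le hBA)) fun heq => ?_
    -- the map v ↦ [a, v] on V0 has trivial square-kernel growth, hence A centralizes V0
    have hN : ∀ v ∈ V0, a ^ 2 * v = v * a ^ 2 → a * v = v * a := fun v hv h => by
      exact (heq.ge (hfixB v hv h)).2 a ha
    let T : G → G := fun v => a * v * a⁻¹ * v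
    have hTV : ∀ v ∈ V0, T v ∈ V0 := fun v hv => mul_mem (haV0 v hv) hv
    have hsq : ∀ v ∈ V0, v * v = 1 := fun v hv => by rw [← pow_two]; exact hS.elem.2 v hv.1
    have hit : ∀ (n : ℕ), ∀ v ∈ V0, T^[n] v ∈ V0 := by
      intro n
      induction n with
      | zero => intro v hv; exact hv
      | succ n ih => intro v hv; rw [Function.iterate_succ_apply]; exact ih _ (hTV v hv)
    have hform : ∀ (n : ℕ), ∀ v ∈ V0, T^[2 ^ n] v = a ^ 2 ^ n * v * (a ^ 2 ^ n)⁻¹ * v := by
      intro n
      induction n with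
      | zero => intro v _; simp [T]
      | succ n ih =>
        intro v hv
        rw [pow_succ, mul_two, Function.iterate_add_apply, ih _ (hit _ v hv), ih v hv, pow_add]
        set c := a ^ 2 ^ n
        have hw : c * v * c⁻¹ ∈ V := (Subgroup.mem_normalizer_iff.mp (hS.norm (hA (pow_mem ha _))) v).mp hv.1
        have hw2 : c * v * c⁻¹ * (c * v * c⁻¹) = 1 := by rw [← pow_two]; exact hS.elem.2 _ hw
        calc c * (c * v * c⁻¹ * v) * c⁻¹ * (c * v * c⁻¹ * v)
            = (c * c) * v * (c * c)⁻¹ * ((c * v * c⁻¹) * (c * v * c⁻¹)) * v := by group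
          _ = c * c * v * (c * c)⁻¹ * v := by rw [hw2, mul_one]
    have hmoveOne : ∀ v ∈ V0, T v = 1 ↔ a * v = v * a := fun v hv => by
      show a * v * a⁻¹ * v = 1 ↔ _
      rw [← hsq v hv, mul_left_inj, mul_inv_eq_iff_eq_mul]
    have hT2 : ∀ v ∈ V0, T (T v) = 1 → T v = 1 := by
      intro v hv h
      rw [hmoveOne v hv]
      refine hN v hv ?_
      have h1 := hform 1 v hv
      rw [pow_one, Function.iterate_succ_apply, Function.iterate_one, h] at h1
      rw [← hsq v hv, mul_left_inj, eq_comm, mul_inv_eq_iff_eq_mul] at h1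
      exact h1
    have hall : ∀ m : ℕ, ∀ v ∈ V0, T^[m] v = 1 → T v = 1 := by
      intro m
      induction m with
      | zero =>
        intro v hv h
        rw [Function.iterate_zero, id] at h
        subst h
        show a * 1 * a⁻¹ * 1 = 1
        group
      | succ m ih =>
        intro v hv h
        exact hT2 v hv (ih _ (hTV v hv) (by rwa [Function.iterate_succ_apply] at h))
    obtain ⟨n, hn⟩ := IsPGroup.iff_orderOf.mp hAp ⟨a, ha⟩
    rw [Subgroup.orderOf_mk] at hn
    have hV0A : V0 ≤ cfix V A := fun v hv => hfixA v hv ((hmoveOne v hv).mp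
      (hall (2 ^ n) v hv (by rw [hform n v hv, ← hn, pow_orderOf_eq_one, one_mul, inv_one, mul_one, hsq v hv])))
    exact (fix_lt_of_good' hS hA hAc hAp hDA hD).not_ge hV0A
  obtain ⟨m, hm⟩ := IsPGroup.iff_card.1 ((FFPair.isPGroup_of_elem hS.elem).to_le (inf_le_left : cfix V B ≤ V))
  have h3 := FFPair.Setting.relIndex_mul_card' (cfix V A) (cfix V B) hlt'.le
  obtain ⟨j, -, hj⟩ := (Nat.dvd_prime_pow Nat.prime_two).mp (hm ▸ Subgroup.relIndex_dvd_card (cfix V A) (cfix V B))
  have hj0 : j ≠ 0 := by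
    rintro rfl
    rw [pow_zero, Subgroup.relIndex_eq_one] at hj
    exact hlt'.not_ge hj
  rw [← h3, hj, mul_comm]
  exact Nat.mul_le_mul_left _ (Nat.le_self_pow hj0 2)

/-- The offender bound for abelian subgroups, with the equality case. -/
theorem abelian_bound (hS : Setting 2 V K H) : ∀ {A : Subgroup G}, A ≤ H → IsMulCommutative A →
    IsPGroup 2 A → Nat.card A * Nat.card (cfix V A) ≤ Nat.card V ∧
      (Nat.card V ≤ Nat.card A * Nat.card (cfix V A) → IsElementaryAbelian 2 A) := by
  intro A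
  induction A using WellFoundedLT.induction with
  | ind A IH =>
  intro hA hAc hAp
  rcases eq_or_ne A ⊥ with rfl | hA1
  · exact ⟨by rw [Subgroup.card_bot, one_mul]; exact Subgroup.card_le_of_le inf_le_left,
      fun _ => ⟨hAc, fun a ha => by rw [Subgroup.mem_bot.mp ha, one_pow]⟩⟩
  obtain ⟨B, hBA, hidx, hfix⟩ := exists_hyperplane hS hA hAc hAp hA1
  have hBc : IsMulCommutative B := ⟨⟨fun x y => Subtype.ext (comm_of_abelian hAc (hBA.le x.2) (hBA.le y.2)).eq⟩⟩
  obtain ⟨hB1, hB2⟩ := IH B hBA (hBA.le.trans hA) hBc (hAp.to_le hBA.le)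
  have hcard : Nat.card A = Nat.card B * 2 := by
    rw [← FFPair.Setting.relIndex_mul_card' B A hBA.le, hidx]
  have hineq : Nat.card A * Nat.card (cfix V A) ≤ Nat.card B * Nat.card (cfix V B) := by
    rw [hcard, mul_assoc]; exact Nat.mul_le_mul_left _ hfix
  refine ⟨hineq.trans hB1, fun heq => ⟨hAc, fun a ha => ?_⟩⟩
  have hBe := hB2 (heq.trans hineq)
  have hz : a ^ 2 ∈ B := by
    haveI := hAc
    haveI : (B.subgroupOf A).Normal := inferInstance
    have h2 : (QuotientGroup.mk (⟨a, ha⟩ : A) : A ⧸ B.subgroupOf A) ^ Nat.card (A ⧸ B.subgroupOf A) = 1 :=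
      pow_card_eq_one'
    rw [show Nat.card (A ⧸ B.subgroupOf A) = 2 from hidx, ← QuotientGroup.mk_pow,
      QuotientGroup.eq_one_iff, Subgroup.mem_subgroupOf] at h2
    exact h2
  exact sq_eq_one hS hA hAc (hBA.le) hBe
    (hS.offender_of_eq (hBA.le.trans hA) hBe (le_antisymm hB1 (heq.trans hineq))) ha hz

end Off

theorem sl2_two_equiv : Nonempty (SL(2, ZMod 2) ≃* Equiv.Perm (Fin 3)) := by
  classical
  let vec : Fin 3 → Fin 2 → ZMod 2 := ![![1, 0], ![0, 1], ![1, 1]]
  have hvec : ∀ v : Fin 2 → ZMod 2, v ≠ 0 → ∃ i, vec i = v := by decide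
  have hinj : Function.Injective vec := by decide
  have hne : ∀ i, vec i ≠ 0 := by decide
  have hmul : ∀ (g : SL(2, ZMod 2)) (i : Fin 3), ∃ j, vec j = g.1.mulVec (vec i) := by
    intro g i
    refine hvec _ fun e => hne i ?_
    have := congrArg ((g⁻¹ : SL(2, ZMod 2)).1.mulVec) e
    rwa [Matrix.mulVec_mulVec, Matrix.mulVec_zero, ← Matrix.SpecialLinearGroup.coe_mul, inv_mul_cancel,
      Matrix.SpecialLinearGroup.coe_one, Matrix.one_mulVec] at this
  choose act hact using hmul
  have h1 : ∀ i, act 1 i = i := fun i => hinj (by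
    rw [hact, Matrix.SpecialLinearGroup.coe_one, Matrix.one_mulVec])
  have hmm : ∀ g h i, act (g * h) i = act g (act h i) := fun g h i => hinj (by
    rw [hact, hact, hact, Matrix.SpecialLinearGroup.coe_mul, Matrix.mulVec_mulVec])
  let φ : SL(2, ZMod 2) →* Equiv.Perm (Fin 3) := MonoidHom.mk'
    (fun g => ⟨act g, act g⁻¹, fun i => by rw [← hmm, inv_mul_cancel, h1],
      fun i => by rw [← hmm, mul_inv_cancel, h1]⟩) fun g h => Equiv.ext fun i => hmm g h i
  have hφ : Function.Injective φ := by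
    rw [injective_iff_map_eq_one]
    intro g hg
    have hfix : ∀ i, g.1.mulVec (vec i) = vec i := fun i => by
      rw [← hact g i]
      exact congrArg vec (congrArg (fun σ : Equiv.Perm (Fin 3) => σ i) hg)
    refine Subtype.ext (Matrix.ext fun a b => ?_)
    have h0 := congrFun (hfix 0) a
    have h1' := congrFun (hfix 1) a
    fin_cases b <;> fin_cases a <;> simp [vec, Matrix.mulVec, dotProduct, Fin.sum_univ_two] at h0 h1' ⊢ <;> assumption
  refine ⟨MulEquiv.ofBijective φ ((Nat.bijective_iff_injective_and_card φ).mpr ⟨hφ, ?_⟩)⟩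
  rw [CfsgLib.SL2.card_SL_two', Nat.card_zmod, Nat.card_perm, Nat.card_eq_fintype_card, Fintype.card_fin]
  rfl

section Top

variable {X : Type u} [Group X] [Finite X] [Fact (Nat.Prime 2)]

theorem card_abelian_le {T : Sylow 2 X} {A : Subgroup X}
    (hA : A ∈ CfsgLib.Transfer.maxAbExp 0 (T : Subgroup X)) {B : Subgroup X} (hBc : IsMulCommutative B)
    (hBp : IsPGroup 2 B) : Nat.card B ≤ Nat.card A := by
  obtain ⟨T', hT'⟩ := hBp.exists_le_sylow
  obtain ⟨g, hg⟩ := MulAction.exists_smul_eq X T' T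
  rw [← CfsgLib.Transfer.card_map_of_injOn (MulAut.conj g).toMonoidHom (A := B) (MulAut.conj g).injective.injOn]
  refine hA.2.2 _ ?_ ?_
  · rw [← hg, Sylow.coe_subgroup_smul]
    exact Subgroup.map_mono hT'
  · refine (CfsgLib.Transfer.isAbExp_map_iff 0 _ (MulAut.conj g).injective.injOn).mpr ⟨hBc, fun a ha => ?_⟩
    exact pow_zero a

theorem abelian_sup {A B : Subgroup X} (hA : IsMulCommutative A) (hB : IsMulCommutative B)
    (hc : B ≤ Subgroup.centralizer (A : Set X)) : IsMulCommutative (A ⊔ B : Subgroup X) := by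
  refine Subgroup.le_centralizer_iff_isMulCommutative.mp ?_
  rw [Subgroup.le_centralizer_iff]
  refine sup_le ?_ ?_
  · rw [Subgroup.le_centralizer_iff]
    exact sup_le (Subgroup.le_centralizer_iff_isMulCommutative.mpr hA) hc
  · rw [Subgroup.le_centralizer_iff]
    exact sup_le (Subgroup.le_centralizer_iff.mp hc) (Subgroup.le_centralizer_iff_isMulCommutative.mpr hB)

/-- A maximal abelian subgroup is an offender on a normal abelian 2-subgroup. -/
theorem offender_ineq {T : Sylow 2 X} {A : Subgroup X}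
    (hA : A ∈ CfsgLib.Transfer.maxAbExp 0 (T : Subgroup X)) (W : Subgroup X) [W.Normal]
    (hWc : IsMulCommutative W) (hWp : IsPGroup 2 W) {B : Subgroup X} (hBA : B ≤ A) :
    Nat.card B * Nat.card (cfix W B) ≤ Nat.card A * Nat.card (cfix W A) := by
  have hAc : IsMulCommutative A := hA.2.1.1
  have hBc : IsMulCommutative B := ⟨⟨fun x y => Subtype.ext (comm_of_abelian hAc (hBA x.2) (hBA y.2)).eq⟩⟩
  have hCc : IsMulCommutative (cfix W B) := ⟨⟨fun x y => Subtype.ext (comm_of_abelian hWc x.2.1 y.2.1).eq⟩⟩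
  have hn : cfix W B ≤ Subgroup.centralizer (B : Set X) := inf_le_right
  have hp : IsPGroup 2 (B ⊔ cfix W B : Subgroup X) :=
    IsPGroup.to_sup_of_normal_left' (T.2.to_le (hBA.trans hA.1)) (hWp.to_le inf_le_left)
      (hn.trans (Subgroup.centralizer_le_normalizer _))
  have h1 := card_abelian_le hA (abelian_sup hBc hCc hn) hp
  rw [← CfsgLib.Coprime.card_sup_mul_card_inf (K := B) (S := cfix W B)
    (hn.trans (Subgroup.centralizer_le_normalizer _))]
  refine Nat.mul_le_mul h1 (Subgroup.card_le_of_le fun x hx => ?_)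
  exact ⟨hx.2.1, Subgroup.mem_centralizer_iff.mpr fun a ha => (comm_of_abelian hAc ha (hBA hx.1)).eq⟩

end Top

/-- Let `X` be a finite solvable group whose Fitting subgroup is a 2-group (equivalently `F(X) = O₂(X)`), `T` a Sylow 2-subgroup of `X`, `J(T)` the subgroup generated by the abelian subgroups of `T` of largest order, `C` the largest normal subgroup of `X` centralizing the centre `Z(T)`, and `Y` the normal closure of `J(T)` in `X`. Then `X = C · Y · N_X(J(T))`, and either `Y ≤ C`, or `CY/C` is isomorphic to a direct product of at least one copy of the symmetric group of degree 3. -/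
theorem result {X : Type*} [Group X] [Finite X]
    [Group.IsSolvable X] (hF : Cfsg.fittingSubgroup X = Cfsg.pCore 2 X) (T : Sylow 2 X) :
    ((Subgroup.centralizer (((T : Subgroup X) ⊓ Subgroup.centralizer ((T : Subgroup X) : Set X) : Subgroup X) : Set X)).normalCore
        ⊔ Subgroup.normalClosure (Cfsg.thompsonSubgroupAOf (T : Subgroup X) : Set X)
        ⊔ Subgroup.normalizer (Cfsg.thompsonSubgroupAOf (T : Subgroup X) : Set X) = ⊤) ∧
    (Subgroup.normalClosure (Cfsg.thompsonSubgroupAOf (T : Subgroup X) : Set X)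
        ≤ (Subgroup.centralizer (((T : Subgroup X) ⊓ Subgroup.centralizer ((T : Subgroup X) : Set X) : Subgroup X) : Set X)).normalCore
      ∨ ∃ n : ℕ, 1 ≤ n ∧
        Nonempty (↥(Subgroup.normalClosure (Cfsg.thompsonSubgroupAOf (T : Subgroup X) : Set X)) ⧸
            ((Subgroup.centralizer (((T : Subgroup X) ⊓ Subgroup.centralizer ((T : Subgroup X) : Set X) : Subgroup X) : Set X)).normalCore).subgroupOf
              (Subgroup.normalClosure (Cfsg.thompsonSubgroupAOf (T : Subgroup X) : Set X))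
          ≃* (Fin n → Equiv.Perm (Fin 3)))) := by
  classical
  haveI : Fact (Nat.Prime 2) := ⟨Nat.prime_two⟩
  set Zt : Subgroup X := (T : Subgroup X) ⊓ Subgroup.centralizer ((T : Subgroup X) : Set X)
  set C := (Subgroup.centralizer (Zt : Set X)).normalCore with hC
  set J := Cfsg.thompsonSubgroupAOf (T : Subgroup X) with hJdef
  set Y := Subgroup.normalClosure (J : Set X) with hY
  have hJ : J = CfsgLib.Transfer.thompsonJ 0 (T : Subgroup X) := CfsgLib.Transfer.thompsonSubgroupAOf_eq _
  refine ⟨?_, ?_⟩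
  · -- Frattini argument
    have hJY : J ≤ Y := Subgroup.le_normalClosure
    set U := (T : Subgroup X) ⊓ Y
    have hidx : ¬ 2 ∣ U.relIndex Y := by
      rw [Subgroup.inf_relIndex_right]
      exact fun h => T.not_dvd_index (h.trans (CfsgLib.Fitting.relIndex_dvd_index_of_normal_right _ Y))
    let P : Sylow 2 Y := ((T.2.to_le inf_le_left : IsPGroup 2 U).comap_of_injective Y.subtype
      Y.subtype_injective).toSylow hidx
    have hP : (P : Subgroup Y).map Y.subtype = U :=
      Subgroup.map_subgroupOf_eq_of_le inf_le_right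
    have hsup : Subgroup.normalizer (U : Set X) ⊔ Y = ⊤ := hP ▸ Sylow.normalizer_sup_eq_top P
    have hJT : J ≤ (T : Subgroup X) := hJ.le.trans (CfsgLib.Transfer.thompsonJ_le 0 _)
    have hJU : CfsgLib.Transfer.thompsonJ 0 U = J := by
      rw [hJ]
      exact CfsgLib.Transfer.thompsonJ_eq_of_le (hJ.ge.trans (le_inf hJT hJY)) inf_le_left
    have hNN : Subgroup.normalizer (U : Set X) ≤ Subgroup.normalizer (J : Set X) :=
      (CfsgLib.Transfer.normalizer_le_normalizer_thompsonJ 0 U).trans (le_of_eq (by rw [hJU]))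
    rw [eq_top_iff, ← hsup]
    exact sup_le (hNN.trans le_sup_right) (le_sup_right.trans le_sup_left)
  by_cases hYC : Y ≤ C
  · exact .inl hYC
  right
  haveI hCn : C.Normal := Subgroup.normalCore_normal _
  have hCZ : C ≤ Subgroup.centralizer (Zt : Set X) := Subgroup.normalCore_le _
  haveI hQn : (Cfsg.pCore 2 X).Normal := CfsgLib.Fitting.pCore_normal 2
  set Q := Cfsg.pCore 2 X
  have hQp : IsPGroup 2 Q := CfsgLib.Fitting.pCore_isPGroup 2
  have hcQ : Subgroup.centralizer (Q : Set X) ≤ Q := by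
    have h := CfsgLib.PSolvable.centralizer_fittingSubgroup_le (G := X)
    rwa [hF] at h
  have hQT : Q ≤ (T : Subgroup X) := IsPGroup.le_sylow_of_normal hQp T
  have hZQ : Zt ≤ Subgroup.centralizer (Q : Set X) :=
    inf_le_right.trans (Subgroup.centralizer_le hQT)
  set W := Subgroup.normalClosure (Zt : Set X) with hW
  have hWle : W ≤ Q ⊓ Subgroup.centralizer (Q : Set X) := by
    haveI : (Q ⊓ Subgroup.centralizer (Q : Set X)).Normal := Subgroup.normal_inf_normal _ _
    exact Subgroup.normalClosure_le_normal (le_inf (hZQ.trans hcQ) hZQ)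
  have hWc : IsMulCommutative W := ⟨⟨fun x y => Subtype.ext
    (Subgroup.mem_centralizer_iff.mp (hWle y.2).2 x (hWle x.2).1)⟩⟩
  have hWp : IsPGroup 2 W := hQp.to_le (hWle.trans inf_le_left)
  have hCW : C = Subgroup.centralizer (W : Set X) := by
    refine le_antisymm ?_ ?_
    · rw [Subgroup.le_centralizer_iff]
      exact Subgroup.normalClosure_le_normal (Subgroup.le_centralizer_iff.mp hCZ)
    · rw [hC, Subgroup.normal_le_normalCore]
      exact Subgroup.centralizer_le (Subgroup.le_normalClosure : Zt ≤ W)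
  -- normal subgroups with 2-power index over C
  have hcore : ∀ N : Subgroup X, N.Normal → C ≤ N → (∃ n, C.relIndex N = 2 ^ n) → N = C := by
    intro N hN hCN ⟨n, hn⟩
    refine le_antisymm ?_ hCN
    haveI := hN
    set M := C ⊔ ((T : Subgroup X) ⊓ N)
    have hMN : M ≤ N := sup_le hCN inf_le_right
    have h1 : M.relIndex N ∣ 2 ^ n := hn ▸ Subgroup.relIndex_dvd_of_le_left N le_sup_left
    have h2 : ¬ 2 ∣ M.relIndex N := by
      intro h
      have h3 : ¬ 2 ∣ ((T : Subgroup X) ⊓ N).relIndex N := by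
        rw [Subgroup.inf_relIndex_right]
        exact fun h => T.not_dvd_index (h.trans (CfsgLib.Fitting.relIndex_dvd_index_of_normal_right _ N))
      exact h3 (h.trans (Subgroup.relIndex_dvd_of_le_left N le_sup_right))
    obtain ⟨j, -, hj⟩ := (Nat.dvd_prime_pow Nat.prime_two).mp h1
    have hj0 : j = 0 := by
      by_contra h0
      exact h2 (hj ▸ dvd_pow_self 2 h0)
    rw [hj0, pow_zero, Subgroup.relIndex_eq_one] at hj
    rw [hC, Subgroup.normal_le_normalCore]
    refine hj.trans (sup_le hCZ (inf_le_left.trans ?_))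
    rw [Subgroup.le_centralizer_iff]
    exact inf_le_right
  set V := Cfsg.omegaOne 2 W with hVdef
  have hVW : V ≤ W := CfsgLib.ZJ.omegaOne_le 2 W
  have hV : IsElementaryAbelian 2 V := by
    refine ⟨⟨⟨fun x y => Subtype.ext (comm_of_abelian hWc (hVW x.2) (hVW y.2)).eq⟩⟩, fun x hx => ?_⟩
    refine Subgroup.closure_induction (p := fun x _ => x ^ 2 = 1) (fun x hx => hx.2) (one_pow 2)
      (fun x y hx hy h1 h2 => ?_) (fun x _ h1 => by rw [inv_pow, h1, inv_one]) hx
    rw [(comm_of_abelian hWc (hVW hx) (hVW hy)).mul_pow, h1, h2, one_mul]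
  haveI hWn : W.Normal := Subgroup.normalClosure_normal
  haveI hVn : V.Normal := by
    rw [← Subgroup.normalizer_eq_top_iff, ← top_le_iff, ← Subgroup.normalizer_eq_top W]
    exact CfsgLib.ZJ.normalizer_le_normalizer_omegaOne 2 W
  have hCV : Subgroup.centralizer (V : Set X) = C := by
    refine hcore _ inferInstance (hCW.le.trans (Subgroup.centralizer_le hVW)) ?_
    set D := Subgroup.centralizer (V : Set X) with hD
    refine ⟨(C.relIndex D).primeFactorsList.length, Nat.eq_prime_pow_of_unique_prime_dvd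
      Subgroup.index_ne_zero_of_finite fun {r} hr hd => ?_⟩
    by_contra hr2
    haveI := Fact.mk hr
    obtain ⟨z, hz⟩ := exists_prime_orderOf_dvd_card' (G := D ⧸ C.subgroupOf D) r hd
    obtain ⟨d, rfl⟩ := QuotientGroup.mk_surjective z
    obtain ⟨i, m, -, -, hco, -⟩ := CfsgLib.Transfer.exists_pow_coprime_part (p := 2) (d : X)
    -- an element of odd order fixing V fixes W
    have hfix : ∀ (e : X), e ∈ D → (orderOf e).Coprime 2 → ∀ k : ℕ, ∀ w ∈ W, w ^ 2 ^ k = 1 → e * w * e⁻¹ = w := by
      intro e he heo k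
      induction k with
      | zero => intro w _ h; rw [pow_zero, pow_one] at h; subst h; group
      | succ k ih =>
        intro w hw h
        have h2 := ih (w ^ 2) (pow_mem hw 2) (by rw [← pow_mul]; rwa [pow_succ'] at h)
        set u := e * w * e⁻¹ * w⁻¹ with hu
        have hew : e * w * e⁻¹ ∈ W := hWn.conj_mem w hw e
        have huW : u ∈ W := mul_mem hew (inv_mem hw)
        have hu2 : u ^ 2 = 1 := by
          rw [hu, (comm_of_abelian hWc hew (inv_mem hw)).mul_pow, conj_pow, h2, inv_pow, mul_inv_cancel]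
        have huV : u ∈ V := Subgroup.subset_closure ⟨huW, hu2⟩
        have hue : u * e = e * u := Subgroup.mem_centralizer_iff.mp he u huV
        have hiter : ∀ j : ℕ, e ^ j * w * (e ^ j)⁻¹ = u ^ j * w := by
          intro j
          induction j with
          | zero => simp
          | succ j ihj =>
            rw [pow_succ' e j, show e * e ^ j * w * (e * e ^ j)⁻¹ = e * (e ^ j * w * (e ^ j)⁻¹) * e⁻¹ by group,
              ihj, pow_succ, hu]
            have hc : e * u ^ j = u ^ j * e := (Commute.pow_left (show Commute u e from hue) j).eq.symm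
            calc e * (u ^ j * w) * e⁻¹ = (e * u ^ j) * w * e⁻¹ := by group
              _ = _ := by rw [hc, hu]; group
        have h3 := hiter (orderOf e)
        rw [pow_orderOf_eq_one, one_mul, inv_one, mul_one, right_eq_mul] at h3
        have hu1 : u = 1 := by
          rw [← orderOf_eq_one_iff]
          exact Nat.eq_one_of_dvd_coprimes heo (orderOf_dvd_of_pow_eq_one h3) (orderOf_dvd_of_pow_eq_one hu2)
        exact mul_inv_eq_one.mp (hu ▸ hu1)
    have hdC : (d : X) ^ 2 ^ i ∈ C := by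
      rw [hCW, Subgroup.mem_centralizer_iff]
      intro w hw
      obtain ⟨k, hk⟩ := hWp ⟨w, hw⟩
      exact (mul_inv_eq_iff_eq_mul.mp (hfix _ (pow_mem d.2 _) hco k w hw (congrArg Subtype.val hk))).symm
    have h1 : (QuotientGroup.mk d : D ⧸ C.subgroupOf D) ^ 2 ^ i = 1 := by
      rw [← QuotientGroup.mk_pow, QuotientGroup.eq_one_iff, Subgroup.mem_subgroupOf, Subgroup.coe_pow]
      exact hdC
    have h2 := orderOf_dvd_of_pow_eq_one h1
    rw [hz] at h2
    exact hr2 ((Nat.prime_dvd_prime_iff_eq hr Nat.prime_two).mp (hr.dvd_of_dvd_pow h2))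
  obtain ⟨M, iM, iF, ⟨D⟩⟩ := Cfsg.Agent.FFPair.exists_model V C hCV.ge
  letI := iM
  haveI := iF
  haveI : Y.Normal := Subgroup.normalClosure_normal
  haveI : (Y ⊔ C).Normal := Subgroup.sup_normal _ _
  have hsol : Cfsg.IsPSolvable 2 X := CfsgLib.PSolvable.isPSolvable_of_isSolvable inferInstance
  have hS := D.setting (L := ⊤) (R := Y ⊔ C) hV le_sup_right le_top
    (CfsgLib.PSolvable.isPSolvable_subgroup ⊤ hsol) (inf_le_right.trans hCV.le)
    fun N hN hCN _ h => hcore N hN hCN h
  set H := (Y ⊔ C).map D.hom with hH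
  set K := (Cfsg.pPrimeCore 2 ↥H).map H.subtype with hK
  have hHY : H = Y.map D.hom := by
    rw [hH, Subgroup.map_sup, (Subgroup.map_eq_bot_iff C).mpr D.ker_hom.ge, sup_bot_eq]
  -- the images of the maximal abelian subgroups are offenders
  have hoff : ∀ (S : Sylow 2 X), ∀ A ∈ CfsgLib.Transfer.maxAbExp 0 (S : Subgroup X), A ≤ Y →
      IsBestOffenderOn 2 D.img (A.map D.hom) := by
    intro S A hA hAY
    have hAH : A.map D.hom ≤ H := hHY ▸ Subgroup.map_mono hAY
    have hAc : IsMulCommutative A := hA.2.1.1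
    have hAc' : IsMulCommutative (A.map D.hom) := ⟨⟨fun x y => Subtype.ext (by
      obtain ⟨a, ha, ea⟩ := x.2
      obtain ⟨b, hb, eb⟩ := y.2
      simp only [Subgroup.coe_mul, ← ea, ← eb, ← map_mul, (comm_of_abelian hAc ha hb).eq])⟩⟩
    have hb := abelian_bound hS hAH hAc' ((S.2.to_le hA.1).map _)
    have hineq : Nat.card D.img ≤ Nat.card (A.map D.hom) * Nat.card (cfix D.img (A.map D.hom)) := by
      rw [D.card_cfix, D.card_img]
      have h1 := offender_ineq hA W hWc hWp (B := C ⊓ A) inf_le_right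
      have hfixW : cfix W (C ⊓ A) = W := inf_eq_left.mpr fun w hw =>
        Subgroup.mem_centralizer_iff.mpr fun c hc => (Subgroup.mem_centralizer_iff.mp (hCW.le hc.1) w hw).symm
      rw [hfixW, ← D.card_map A] at h1
      have h2 : Nat.card W ≤ Nat.card (A.map D.hom) * Nat.card (cfix W A) := by
        have hpos : 0 < Nat.card (C ⊓ A : Subgroup X) := Nat.card_pos
        nlinarith [h1]
      have hn : cfix W A ≤ Subgroup.normalizer (V : Set X) := Subgroup.le_normalizer_of_normal
      have h3 := CfsgLib.Coprime.card_sup_mul_card_inf (K := V) (S := cfix W A) hn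
      have h4 : Nat.card (V ⊔ cfix W A : Subgroup X) ≤ Nat.card W :=
        Subgroup.card_le_of_le (sup_le hVW inf_le_left)
      have h5 : Nat.card (V ⊓ cfix W A : Subgroup X) ≤ Nat.card (cfix V A) :=
        Subgroup.card_le_of_le fun x hx => ⟨hx.1, hx.2.2⟩
      refine Nat.le_of_mul_le_mul_right ?_ (Nat.card_pos (α := cfix W A))
      calc Nat.card V * Nat.card (cfix W A)
          = Nat.card (V ⊔ cfix W A : Subgroup X) * Nat.card (V ⊓ cfix W A : Subgroup X) := h3.symm
        _ ≤ Nat.card W * Nat.card (cfix V A) := Nat.mul_le_mul h4 h5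
        _ ≤ (Nat.card (A.map D.hom) * Nat.card (cfix W A)) * Nat.card (cfix V A) := Nat.mul_le_mul_right _ h2
        _ = _ := by ring
    exact hS.offender_of_eq hAH (hb.2 hineq) (le_antisymm hb.1 hineq)
  have hS3 : H = ⨆ A : {A : Subgroup M // A ≤ H ∧ IsBestOffenderOn 2 D.img A}, (A : Subgroup M) := by
    refine le_antisymm ?_ (iSup_le fun A => A.2.1)
    conv_lhs => rw [hHY]
    rw [Subgroup.map_le_iff_le_comap, hY, Subgroup.normalClosure, Subgroup.closure_le]
    intro x hx
    obtain ⟨j, hj, hconj⟩ := Group.mem_conjugatesOfSet_iff.mp hx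
    obtain ⟨g, rfl⟩ := isConj_iff.mp hconj
    have hle : J.map (MulAut.conj g).toMonoidHom ≤ (⨆ A : {A : Subgroup M //
        A ≤ H ∧ IsBestOffenderOn 2 D.img A}, (A : Subgroup M)).comap D.hom := by
      rw [hJ, Subgroup.map_le_iff_le_comap]
      refine sSup_le fun A hA => ?_
      rw [← Subgroup.map_le_iff_le_comap]
      set A' := A.map (MulAut.conj g).toMonoidHom
      have hA' : A' ∈ CfsgLib.Transfer.maxAbExp 0 ((g • T : Sylow 2 X) : Subgroup X) := by
        refine ⟨?_, (CfsgLib.Transfer.isAbExp_map_iff 0 _ (MulAut.conj g).injective.injOn).mpr hA.2.1,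
          fun B hB hBe => ?_⟩
        · rw [Sylow.coe_subgroup_smul]; exact Subgroup.map_mono hA.1
        · rw [CfsgLib.Transfer.card_map_of_injOn _ (MulAut.conj g).injective.injOn]
          exact card_abelian_le hA hBe.1 ((g • T : Sylow 2 X).2.to_le hB)
      have hA'Y : A' ≤ Y := by
        rintro _ ⟨a, ha, rfl⟩
        exact (inferInstance : Y.Normal).conj_mem a (Subgroup.le_normalClosure (hJ.ge (le_sSup hA ha))) g
      rw [← Subgroup.map_le_iff_le_comap]
      exact le_iSup_of_le ⟨A'.map D.hom, hHY ▸ Subgroup.map_mono hA'Y, hoff _ A' hA' hA'Y⟩ le_rfl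
    exact hle ⟨j, hj, rfl⟩
  -- the components
  let ι := {E : Subgroup M // ∃ A, Tv 2 D.img H A ∧ E = comp K A}
  haveI : Fintype ι := Fintype.ofFinite ι
  obtain ⟨hind, hsupE, -⟩ := Cfsg.Agent.FFPair.decomposition hS hS3 (fun e : ι => (e : Subgroup M))
    Subtype.val_injective (fun e => e.2) (fun A hA => ⟨⟨_, A, hA, rfl⟩, rfl⟩)
  have hcomm : Pairwise fun i j : ι => ∀ x y : M, x ∈ (i : Subgroup M) → y ∈ (j : Subgroup M) → Commute x y := by
    rintro ⟨_, A, hA, rfl⟩ ⟨_, B, hB, rfl⟩ hne x y hx hy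
    have h := (comp_eq_or_le_rest hS hA hB).resolve_left fun e => hne (Subtype.ext e)
    have h2 := (direct_factor hS hS3 hA).1
    rw [Subgroup.commutator_eq_bot_iff_le_centralizer] at h2
    exact (Subgroup.mem_centralizer_iff.mp (h2 hx) y (h hy)).symm
  let Φ := Subgroup.noncommPiCoprod hcomm
  have hΦi : Function.Injective Φ := Subgroup.injective_noncommPiCoprod_of_iSupIndep hind
  have hΦr : Φ.range = H := (Subgroup.noncommPiCoprod_range (hcomm := hcomm)).trans hsupE
  let ψ : Y →* H := (D.hom.comp Y.subtype).codRestrict H fun y => hHY ▸ ⟨y, y.2, rfl⟩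
  have hψ : Function.Surjective ψ := fun h => by
    obtain ⟨y, hy, e⟩ := hHY.le h.2
    exact ⟨⟨y, hy⟩, Subtype.ext e⟩
  have hψk : C.subgroupOf Y = ψ.ker := by
    ext x
    rw [Subgroup.mem_subgroupOf, MonoidHom.mem_ker, ← D.mem_ker_iff, Subtype.ext_iff]
    rfl
  obtain ⟨σ⟩ := sl2_two_equiv
  have hι : Nonempty ι := by
    by_contra h
    rw [not_nonempty_iff] at h
    apply hYC
    rw [← sup_eq_left.mpr (le_refl C)]
    have h1 : H = ⊥ := by rw [← hsupE, iSup_of_empty]
    rw [hHY, Subgroup.map_eq_bot_iff, D.ker_hom] at h1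
    exact h1.trans le_sup_left
  refine ⟨Fintype.card ι, Fintype.card_pos, ⟨?_⟩⟩
  let e1 : (Y ⧸ C.subgroupOf Y) ≃* H :=
    (QuotientGroup.quotientMulEquivOfEq hψk).trans (QuotientGroup.quotientKerEquivOfSurjective ψ hψ)
  let e2 : (∀ i : ι, ↥(i : Subgroup M)) ≃* H :=
    (MonoidHom.ofInjective hΦi).trans (MulEquiv.subgroupCongr hΦr)
  have hiso : ∀ i : ι, Nonempty (↥(i : Subgroup M) ≃* Equiv.Perm (Fin 3)) := by
    rintro ⟨E, A, hA, rfl⟩
    obtain ⟨φ⟩ := (compData hS hA).sl2
    exact ⟨φ.trans σ⟩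
  let e3 : (∀ i : ι, ↥(i : Subgroup M)) ≃* (ι → Equiv.Perm (Fin 3)) :=
    MulEquiv.piCongrRight fun i => Classical.choice (hiso i)
  let e4 : (ι → Equiv.Perm (Fin 3)) ≃* (Fin (Fintype.card ι) → Equiv.Perm (Fin 3)) :=
    { Equiv.arrowCongr (Fintype.equivFin ι) (Equiv.refl _) with map_mul' := fun f g => rfl }
  exact e1.trans (e2.symm.trans (e3.trans e4))

end Cfsg.Agent.S4302
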