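import Cfsg.Statements.S4303
import Cfsg.Agent.Lib.SylowNumber.Basic
import Cfsg.Agent.Lib.SylowNumber.Coprime

set_option autoImplicit false
universe u
open Cfsg

namespace Cfsg.Agent.S4303

theorem key : ∀ (k : ℕ) (G : Type u) [Group G] [Finite G] (p : ℕ) [Fact p.Prime], Nat.card G = k →
    ∃ l : List ℕ, l.prod = Nat.card (Sylow p G) ∧
      ∀ m ∈ l, (IsPrimePow m ∧ m % p = 1) ∨
        ∃ (S : Type u) (_ : Group S) (_ : Finite S), IsSimpleGroup S ∧ m = Nat.card (Sylow p S) := by
  intro k
  induction k using Nat.strong_induction_on with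
  | _ k ih =>
    intro G _ _ p _ hk
    rcases subsingleton_or_nontrivial G with hs | hn
    · refine ⟨[], ?_, by simp⟩
      rw [List.prod_nil, CfsgLib.SylowNumber.card_sylow_eq_one_of_isPGroup]
      exact IsPGroup.of_card (n := 0) (by rw [pow_zero, Nat.card_unique])
    by_cases hsimple : IsSimpleGroup G
    · refine ⟨[Nat.card (Sylow p G)], by simp, fun m hm => Or.inr ⟨G, inferInstance, inferInstance, hsimple, ?_⟩⟩
      simpa using hm
    obtain ⟨N, hN, hN1, hN2⟩ : ∃ N : Subgroup G, N.Normal ∧ N ≠ ⊥ ∧ N ≠ ⊤ := by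
      by_contra h
      push Not at h
      exact hsimple ⟨fun H hH => (eq_or_ne H ⊥).imp id fun h1 => h H hH h1⟩
    haveI := hN
    let P : Sylow p G := default
    have hlt : ∀ M : Subgroup G, M ≠ ⊤ → Nat.card M < k := fun M hM =>
      hk ▸ lt_of_le_of_ne (Subgroup.card_le_card_group M) (fun e => hM (Subgroup.card_eq_iff_eq_top M |>.mp e))
    have hquot : ∀ (H : Type u) [Group H] [Finite H] (K : Subgroup H), Nat.card H ≤ k → K ≠ ⊥ →
        Nat.card (H ⧸ K) < k := by
      intro H _ _ K hH hK
      have := Subgroup.card_eq_card_quotient_mul_card_subgroup K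
      have h1 : 1 < Nat.card K := (Subgroup.one_lt_card_iff_ne_bot K).mpr hK
      have h2 : 0 < Nat.card (H ⧸ K) := Nat.card_pos
      nlinarith
    by_cases hM : (P : Subgroup G) ⊔ N = ⊤
    · by_cases hQ : (P : Subgroup G) ⊓ N = ⊥
      · have hNp : ¬ p ∣ Nat.card N := by
          intro h
          have hQ' : (CfsgLib.SylowNumber.infSylow N P : Subgroup N) = ⊥ := by
            rw [CfsgLib.SylowNumber.coe_infSylow, ← Subgroup.inf_subgroupOf_right, hQ,
              Subgroup.bot_subgroupOf]
          have := (CfsgLib.SylowNumber.infSylow N P).not_dvd_index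
          rw [hQ', Subgroup.index_bot] at this
          exact this h
        refine ⟨(Nat.card (Sylow p G)).primeFactors.toList.map
          (fun r => r ^ (Nat.card (Sylow p G)).factorization r), ?_, ?_⟩
        · rw [Finset.prod_map_toList]
          conv_rhs => rw [← Nat.prod_factorization_pow_eq_self (Nat.card_pos : 0 < Nat.card (Sylow p G)).ne']
          rfl
        · intro m hm
          obtain ⟨r, hr, rfl⟩ := List.mem_map.mp hm
          rw [Finset.mem_toList, Nat.mem_primeFactors] at hr
          refine Or.inl ⟨⟨r, _, hr.1.prime, ?_, rfl⟩, CfsgLib.SylowNumber.rpart_card_sylow_mod P N hNp hM r hr.1⟩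
          exact hr.1.factorization_pos_of_dvd Nat.card_pos.ne' hr.2.1
      · set Q : Subgroup G := (P : Subgroup G) ⊓ N
        set NQ : Subgroup G := Subgroup.normalizer (Q : Set G)
        haveI hQn : (Q.subgroupOf NQ).Normal := Subgroup.normal_in_normalizer
        obtain ⟨l₁, hl₁, hm₁⟩ := ih (Nat.card N) (hlt N hN2) N p rfl
        obtain ⟨l₂, hl₂, hm₂⟩ := ih (Nat.card (NQ ⧸ Q.subgroupOf NQ))
          (hquot NQ (Q.subgroupOf NQ) (hk ▸ Subgroup.card_le_card_group NQ) (fun h => hQ (by
            rw [Subgroup.subgroupOf_eq_bot, disjoint_iff, inf_of_le_left Subgroup.le_normalizer] at h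
            exact h))) _ p rfl
        refine ⟨l₁ ++ l₂, ?_, fun m hm => (List.mem_append.mp hm).elim (hm₁ m) (hm₂ m)⟩
        rw [List.prod_append, hl₁, hl₂, CfsgLib.SylowNumber.card_sylow_eq_normal_mul N P,
          CfsgLib.SylowNumber.card_sylow_quotient_of_isPGroup (Q.subgroupOf NQ)
            ((P.2.to_le (inf_le_left : Q ≤ P)).comap_of_injective _ NQ.subtype_injective)]
    · obtain ⟨l₁, hl₁, hm₁⟩ := ih (Nat.card (G ⧸ N)) (hquot G N hk.le hN1) _ p rfl
      obtain ⟨l₂, hl₂, hm₂⟩ := ih (Nat.card ((P : Subgroup G) ⊔ N : Subgroup G)) (hlt _ hM) _ p rfl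
      refine ⟨l₁ ++ l₂, ?_, fun m hm => (List.mem_append.mp hm).elim (hm₁ m) (hm₂ m)⟩
      rw [List.prod_append, hl₁, hl₂, ← CfsgLib.SylowNumber.card_sylow_eq_quotient_mul N P]


/-- For a finite group `G` and a prime `p`, the number of Sylow `p`-subgroups of `G` is a product of natural numbers each of which is either a prime power congruent to 1 modulo `p` or the number of Sylow `p`-subgroups of some finite simple group. -/
theorem result {G : Type u} [Group G] [Finite G]
    (p : ℕ) [Fact p.Prime] :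
    ∃ l : List ℕ, l.prod = Nat.card (Sylow p G) ∧
      ∀ m ∈ l, (IsPrimePow m ∧ m % p = 1) ∨
        ∃ (S : Type u) (_ : Group S) (_ : Finite S), IsSimpleGroup S ∧ m = Nat.card (Sylow p S) := by
  exact key _ G p rfl

end Cfsg.Agent.S4303
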