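import Cfsg.Statements.S4304
import Cfsg.Agent.Lib.SylowNumber.TwoMulAddOneOrder

set_option autoImplicit false
open Cfsg

namespace Cfsg.Agent.S4304

/-- No finite group has exactly 15 Sylow 7-subgroups. -/
theorem result {G : Type*} [Group G] [Finite G] : Nat.card (Sylow 7 G) ≠ 15 := by
  haveI : Fact (Nat.Prime 7) := ⟨by norm_num⟩
  refine CfsgLib.SylowNumber.card_sylow_ne_two_mul_add_one (p := 7) (by norm_num) (fun H _ _ hH => ?_) G
  obtain ⟨k, hodd, hk, hcard⟩ := hH.exists_card_eq
  have hk3 : k = 1 ∨ k = 3 := by
    obtain ⟨j, rfl⟩ := hodd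
    have := Nat.le_of_dvd (by norm_num) hk
    have : j ≤ 2 := by omega
    interval_cases j <;> omega
  rcases hk3 with rfl | rfl
  · refine hH.false_of_prime (r := 5) (m := 21) (by norm_num) hcard (by norm_num) (by norm_num) ?_ ?_
    · intro d hd hd'
      have := Nat.le_of_dvd (by norm_num) hd
      interval_cases d <;> omega
    · intro d hd hd'
      have := Nat.le_of_dvd (by norm_num) hd
      interval_cases d <;> norm_num at *
  · refine hH.false_of_prime (r := 5) (m := 63) (by norm_num) hcard (by norm_num) (by norm_num) ?_ ?_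
    · intro d hd hd'
      have := Nat.le_of_dvd (by norm_num) hd
      interval_cases d <;> omega
    · intro d hd hd'
      have := Nat.le_of_dvd (by norm_num) hd
      interval_cases d <;> norm_num at *

end Cfsg.Agent.S4304
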