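import Cfsg.Statements.S4305
import Cfsg.Agent.Lib.Fpf.SymThreeMain

set_option autoImplicit false
open Cfsg

namespace Cfsg.Agent.S4305

/-- Let the symmetric group of degree 3 act by automorphisms on a finite solvable group `G` of order prime to 6, so that only the identity of `G` is fixed by all of it. Then the derived subgroup of `G` is nilpotent. -/
theorem result {G : Type*} [Group G] [Finite G] [Group.IsSolvable G]
    [MulDistribMulAction (Equiv.Perm (Fin 3)) G] (hcop : (Nat.card G).Coprime 6)
    (hfpf : ∀ g : G, (∀ a : Equiv.Perm (Fin 3), a • g = g) → g = 1) :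
    Group.IsNilpotent ↥(commutator G) := by
  have hr : ∀ a : Equiv.Perm (Fin 3), a = 1 ∨ a = finRotate 3 ∨ a = finRotate 3 * finRotate 3 ∨
      a = Equiv.swap 0 1 ∨ a = finRotate 3 * Equiv.swap 0 1 ∨
      a = finRotate 3 * finRotate 3 * Equiv.swap 0 1 := by decide
  refine CfsgLib.SymThree.derived_isNilpotent _ G rfl hcop
    (MulDistribMulAction.toMulEquiv G (finRotate 3 : Equiv.Perm (Fin 3)))
    (MulDistribMulAction.toMulEquiv G (Equiv.swap 0 1 : Equiv.Perm (Fin 3))) ?_ ?_ ?_ ?_
  · intro g
    simp only [MulDistribMulAction.toMulEquiv_apply, ← mul_smul]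
    rw [show finRotate 3 * (finRotate 3 * finRotate 3) = 1 by decide, one_smul]
  · intro g
    simp only [MulDistribMulAction.toMulEquiv_apply, ← mul_smul]
    rw [Equiv.swap_mul_self, one_smul]
  · intro g
    simp only [MulDistribMulAction.toMulEquiv_apply, ← mul_smul]
    congr 1
    decide
  · intro g h1 h2
    simp only [MulDistribMulAction.toMulEquiv_apply] at h1 h2
    refine hfpf g fun a => ?_
    rcases hr a with rfl | rfl | rfl | rfl | rfl | rfl <;>
      simp only [mul_smul, one_smul, h1, h2]

end Cfsg.Agent.S4305
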