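import Cfsg.Statements.S4314


set_option autoImplicit false
set_option linter.style.haveILetI false
open Cfsg

namespace Cfsg.Agent.S4314

open scoped commutatorElement

variable {G : Type*} [Group G] [Finite G]

theorem commutative_of_mem_center {H : Type*} [Group H] [Finite H] {a : H}
    (ha : a ∈ Subgroup.center H) {r : ℕ} (hr : r.Prime) (hidx : (Subgroup.zpowers a).index = r) :
    ∀ b c : H, b * c = c * b := by
  haveI := Fact.mk hr
  have hle : Subgroup.zpowers a ≤ Subgroup.center H := Subgroup.zpowers_le.mpr ha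
  haveI : (Subgroup.zpowers a).Normal := ⟨fun z hz g => by
    rw [Subgroup.mem_center_iff.mp (hle hz) g, mul_inv_cancel_right]; exact hz⟩
  haveI : IsCyclic (H ⧸ Subgroup.zpowers a) :=
    isCyclic_of_prime_card (p := r) (by rw [← Subgroup.index_eq_card, hidx])
  exact fun b c => ((QuotientGroup.mk' (Subgroup.zpowers a)).isMulCommutative_of_isCyclic_of_ker_le_center
    (by rw [QuotientGroup.ker_mk']; exact hle)).1.1 b c

/-- Let `G` be a finite group every conjugacy class of which has size 1 or a prime. Then either `G` is nilpotent of class at most 2, or `G/Z(G)` is a non-abelian group of order `pq` for distinct primes `p, q` (a Frobenius group of order `pq`). -/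
theorem result {G : Type*} [Group G] [Finite G]
    (h : ∀ x : G, (Subgroup.centralizer ({x} : Set G)).index = 1 ∨ ((Subgroup.centralizer ({x} : Set G)).index).Prime) :
    Subgroup.upperCentralSeries G 2 = ⊤ ∨
      ∃ p q : ℕ, p.Prime ∧ q.Prime ∧ p ≠ q ∧ Nat.card (G ⧸ Subgroup.center G) = p * q ∧ ¬ IsMulCommutative (G ⧸ Subgroup.center G) := by
  classical
  by_cases hall : ∀ x : G, (Subgroup.centralizer ({x} : Set G)).Normal
  · left
    have hle : commutator G ≤ Subgroup.center G := by
      intro c hc
      refine Subgroup.mem_center_iff.mpr fun x => ?_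
      suffices commutator G ≤ Subgroup.centralizer ({x} : Set G) from
        (Subgroup.mem_centralizer_singleton_iff.mp (this hc)).symm
      rcases h x with e | e
      · rw [Subgroup.index_eq_one] at e; rw [e]; exact le_top
      · haveI := hall x
        haveI := Fact.mk e
        haveI : IsCyclic (G ⧸ Subgroup.centralizer ({x} : Set G)) :=
          isCyclic_of_prime_card (p := (Subgroup.centralizer ({x} : Set G)).index) rfl
        rw [commutator_def, Subgroup.commutator_le]
        intro u _ v _
        refine (QuotientGroup.eq_one_iff _).mp ?_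
        rw [← QuotientGroup.mk'_apply, map_commutatorElement, commutatorElement_eq_one_iff_commute]
        exact (IsCyclic.commGroup (α := G ⧸ Subgroup.centralizer ({x} : Set G))).mul_comm _ _
    rw [eq_top_iff]
    intro a _
    rw [Subgroup.mem_upperCentralSeries_succ_iff]
    intro y
    rw [Subgroup.upperCentralSeries_one]
    exact hle (Subgroup.commutator_mem_commutator (Subgroup.mem_top a) (Subgroup.mem_top y))
  right
  push Not at hall
  obtain ⟨x, hx⟩ := hall
  set C := Subgroup.centralizer ({x} : Set G)
  have hp : C.index.Prime := (h x).resolve_left fun e => hx (by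
    rw [show C = ⊤ from Subgroup.index_eq_one.mp e]; infer_instance)
  obtain ⟨p, hpe⟩ : ∃ p, C.index = p := ⟨_, rfl⟩
  rw [hpe] at hp
  haveI := Fact.mk hp
  set K := C.normalCore
  let π := QuotientGroup.mk' K
  have hπ : Function.Surjective π := QuotientGroup.mk'_surjective K
  -- class sizes of the quotient
  have hquot : ∀ w : G, (Subgroup.centralizer ({π w} : Set (G ⧸ K))).index
      ∣ (Subgroup.centralizer ({w} : Set G)).index := by
    intro w
    refine dvd_trans (Subgroup.index_dvd_of_le ?_) (Subgroup.index_map_dvd _ hπ)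
    rintro _ ⟨z, hz, rfl⟩
    refine Subgroup.mem_centralizer_singleton_iff.mpr ?_
    rw [← map_mul, ← map_mul, Subgroup.mem_centralizer_singleton_iff.mp hz]
  have hcardp : p ∣ Nat.card (G ⧸ K) := by
    rw [← Subgroup.index_eq_card, ← hpe]
    exact Subgroup.index_dvd_of_le (Subgroup.normalCore_le C)
  obtain ⟨σ, hσ⟩ := exists_prime_orderOf_dvd_card' p hcardp
  obtain ⟨s, rfl⟩ := hπ σ
  have hker : ∀ w : G, (∀ ω : G ⧸ C, w • ω = ω) → π w = 1 := fun w hw => by
    refine (QuotientGroup.eq_one_iff w).mpr ?_
    show w ∈ C.normalCore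
    rw [Subgroup.normalCore_eq_ker]
    exact Equiv.ext hw
  have hKfix : ∀ w : G, π w = 1 → ∀ ω : G ⧸ C, w • ω = ω := fun w hw ω => by
    have : w ∈ C.normalCore := (QuotientGroup.eq_one_iff w).mp hw
    rw [Subgroup.normalCore_eq_ker] at this
    exact Equiv.ext_iff.mp this ω
  -- the element of order `p` is transitive
  set S := Subgroup.zpowers s with hS
  obtain ⟨ω, hω⟩ : ∃ ω : G ⧸ C, s • ω ≠ ω := by
    by_contra hne
    push Not at hne
    rw [hker s hne, orderOf_one] at hσ
    exact hp.ne_one hσ.symm
  have hsp : ∀ v : G ⧸ C, (s ^ p) • v = v := hKfix _ (by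
    rw [map_pow, ← hσ, pow_orderOf_eq_one])
  have hperiod : Function.minimalPeriod (s • ·) ω = p := by
    have hper : Function.IsPeriodicPt (s • ·) p ω := by
      show (s • ·)^[p] ω = ω
      rw [smul_iterate]; exact hsp ω
    rcases (Nat.dvd_prime hp).mp hper.minimalPeriod_dvd with e | e
    · exact absurd (Function.minimalPeriod_eq_one_iff_isFixedPt.mp e) hω
    · exact e
  have horb : ∀ v : G ⧸ C, ∃ i : ℕ, s ^ i • ω = v := by
    have hinj : Function.Injective fun i : Fin p => s ^ (i : ℕ) • ω := by
      intro i j hij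
      refine Fin.ext ?_
      have hij' : (s • ·)^[(i : ℕ)] ω = (s • ·)^[(j : ℕ)] ω := by rwa [smul_iterate, smul_iterate]
      exact Function.iterate_injOn_Iio_minimalPeriod (by rw [Set.mem_Iio, hperiod]; exact i.2)
        (by rw [Set.mem_Iio, hperiod]; exact j.2) hij'
    have hbij := (Nat.bijective_iff_injective_and_card _).mpr ⟨hinj, by
      rw [Nat.card_fin, ← Subgroup.index_eq_card]; exact hpe.symm⟩
    intro v
    obtain ⟨i, hi⟩ := hbij.2 v
    exact ⟨i, hi⟩
  have hself : Subgroup.centralizer ({π s} : Set (G ⧸ K)) = Subgroup.zpowers (π s) := by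
    refine le_antisymm (fun z hz => ?_) (Subgroup.zpowers_le.mpr
      (Subgroup.mem_centralizer_singleton_iff.mpr rfl))
    obtain ⟨w, rfl⟩ := hπ z
    have hws : Commute (π w) (π s) := Subgroup.mem_centralizer_singleton_iff.mp hz
    obtain ⟨i, hi⟩ := horb (w • ω)
    have hcomm : ∀ j : ℕ, ∀ v : G ⧸ C, w • (s ^ j • v) = s ^ j • (w • v) := by
      intro j v
      have hk : π ((s ^ j * w)⁻¹ * (w * s ^ j)) = 1 := by
        rw [map_mul, map_inv, map_mul, map_mul, map_pow, (hws.pow_right j).eq, inv_mul_cancel]
      have := congrArg ((s ^ j * w) • ·) (hKfix _ hk v)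
      simpa [mul_smul, ← mul_assoc] using this
    refine Subgroup.mem_zpowers_iff.mpr ⟨(i : ℤ), ?_⟩
    rw [zpow_natCast, ← map_pow, eq_comm]
    rw [← mul_inv_eq_one, ← map_inv, ← map_mul]
    refine hker _ fun v => ?_
    obtain ⟨j, hj⟩ := horb v
    rw [← hj, mul_smul]
    have : w • ((s ^ i)⁻¹ • (s ^ j • ω)) = s ^ j • ω := by
      have h1 : (s ^ i)⁻¹ • (s ^ j • ω) = s ^ j • ((s ^ i)⁻¹ • ω) := by
        rw [← mul_smul, ← mul_smul, ((Commute.pow_pow_self s i j).inv_left).eq]
      rw [h1, hcomm]
      have h2 : w • ((s ^ i)⁻¹ • ω) = ω := by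
        have hwi : w • ((s ^ i)⁻¹ • ω) = (s ^ i)⁻¹ • (w • ω) := by
          have h3 := hcomm i ((s ^ i)⁻¹ • ω)
          rw [smul_inv_smul] at h3
          exact eq_inv_smul_iff.mpr h3.symm
        rw [hwi, ← hi, inv_smul_smul]
      rw [h2]
    exact this
  have hord : Nat.card (G ⧸ K) = p * (Subgroup.centralizer ({π s} : Set (G ⧸ K))).index := by
    rw [← (Subgroup.centralizer ({π s} : Set (G ⧸ K))).card_mul_index, hself, Nat.card_zpowers, hσ]
  have hKC : K ≠ C := fun e => hx (e ▸ Subgroup.normalCore_normal C)
  have hq : (Subgroup.centralizer ({s} : Set G)).index.Prime ∧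
      (Subgroup.centralizer ({π s} : Set (G ⧸ K))).index = (Subgroup.centralizer ({s} : Set G)).index := by
    have hd := hquot s
    have hne1 : (Subgroup.centralizer ({π s} : Set (G ⧸ K))).index ≠ 1 := by
      intro e
      rw [e, mul_one, ← Subgroup.index_eq_card, ← hpe] at hord
      refine hKC (Subgroup.eq_of_le_of_card_ge (Subgroup.normalCore_le C) (le_of_eq ?_))
      refine Nat.eq_of_mul_eq_mul_right (m := C.index) (Nat.pos_of_ne_zero Subgroup.index_ne_zero_of_finite) ?_
      rw [C.card_mul_index, ← hord]
      exact K.card_mul_index.symm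
    rcases h s with e | e
    · rw [e, Nat.dvd_one] at hd; exact absurd hd hne1
    · exact ⟨e, ((Nat.dvd_prime e).mp hd).resolve_left hne1⟩
  obtain ⟨hqp, hqe⟩ := hq
  set q := (Subgroup.centralizer ({s} : Set G)).index
  rw [hqe] at hord
  have hne : p ≠ q := by
    intro e
    have h1 : Nat.card (G ⧸ K) ∣ Nat.card (Equiv.Perm (G ⧸ C)) := by
      rw [← Subgroup.index_eq_card]
      show C.normalCore.index ∣ _
      rw [Subgroup.normalCore_eq_ker, Subgroup.index_ker]
      exact Subgroup.card_subgroup_dvd_card _
    rw [Nat.card_perm, hord, ← e, ← Subgroup.index_eq_card, hpe,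
      ← Nat.mul_factorial_pred hp.ne_zero] at h1
    have h2 := (hp.dvd_factorial).mp (Nat.dvd_of_mul_dvd_mul_left hp.pos h1)
    have := hp.pos
    omega
  have hnab : ¬ ∀ a b : G ⧸ K, a * b = b * a := by
    intro hab
    refine hx ⟨fun c hc g => ?_⟩
    have hk : (g * c * g⁻¹) * c⁻¹ ∈ K := by
      refine (QuotientGroup.eq_one_iff _).mp ?_
      show π _ = 1
      simp only [map_mul, map_inv]
      rw [hab (π g) (π c)]; group
    have := mul_mem (Subgroup.normalCore_le C hk) hc
    rwa [inv_mul_cancel_right] at this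
  have hprime_dvd : ∀ m, m ∣ p * q → m ≠ 1 → m ≠ p * q → m = p ∨ m = q := by
    intro m hm h1 h2
    obtain ⟨a, b, ha, hb, he⟩ := Nat.dvd_mul.mp hm
    rcases (Nat.dvd_prime hp).mp ha with e1 | e1
    · rw [e1, one_mul] at he
      rcases (Nat.dvd_prime hqp).mp hb with e2 | e2
      · exact absurd (by rw [← he, e2]) h1
      · exact Or.inr (he.symm.trans e2)
    · rw [e1] at he
      rcases (Nat.dvd_prime hqp).mp hb with e2 | e2
      · exact Or.inl (by rw [← he, e2, mul_one])
      · exact absurd (by rw [← he, e2]) h2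
  -- every element outside `K` centralises `K`
  have hout : ∀ w : G, w ∉ K → K ≤ Subgroup.centralizer ({w} : Set G) := by
    intro w hw
    set D := Subgroup.centralizer ({π w} : Set (G ⧸ K))
    have hwD : Subgroup.zpowers (π w) ≤ D :=
      Subgroup.zpowers_le.mpr (Subgroup.mem_centralizer_singleton_iff.mpr rfl)
    have ho1 : orderOf (π w) ≠ 1 := fun e => hw ((QuotientGroup.eq_one_iff w).mp (orderOf_eq_one_iff.mp e))
    have hDtop : D ≠ ⊤ := by
      intro e
      apply hnab
      have hc : π w ∈ Subgroup.center (G ⧸ K) := Subgroup.mem_center_iff.mpr fun z =>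
        Subgroup.mem_centralizer_singleton_iff.mp (show z ∈ D from e ▸ Subgroup.mem_top z)
      have hmul := (Subgroup.zpowers (π w)).card_mul_index
      rw [hord, Nat.card_zpowers] at hmul
      by_cases hfull : (Subgroup.zpowers (π w)).index = 1
      · rw [Subgroup.index_eq_one] at hfull
        intro a b
        have ha : a ∈ Subgroup.center (G ⧸ K) :=
          Subgroup.zpowers_le.mpr hc (hfull ▸ Subgroup.mem_top a)
        exact (Subgroup.mem_center_iff.mp ha b).symm
      · have hne' : (Subgroup.zpowers (π w)).index ≠ p * q := fun e' => ho1 (by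
          rw [e'] at hmul
          exact Nat.eq_of_mul_eq_mul_right (Nat.mul_pos hp.pos hqp.pos) (by rw [hmul, one_mul]))
        rcases hprime_dvd _ (Dvd.intro_left _ hmul) hfull hne' with e' | e'
        · exact commutative_of_mem_center hc hp e'
        · exact commutative_of_mem_center hc hqp e'
    have hDidx : D.index ≠ 1 := fun e => hDtop (Subgroup.index_eq_one.mp e)
    have hdvd := hquot w
    have hwprime : (Subgroup.centralizer ({w} : Set G)).index.Prime := by
      rcases h w with e | e
      · rw [e, Nat.dvd_one] at hdvd; exact absurd hdvd hDidx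
      · exact e
    have heq := ((Nat.dvd_prime hwprime).mp hdvd).resolve_left hDidx
    have hle : Subgroup.centralizer ({w} : Set G) ≤ D.comap π := fun z hz =>
      Subgroup.mem_centralizer_singleton_iff.mpr (by
        rw [← map_mul, ← map_mul, Subgroup.mem_centralizer_singleton_iff.mp hz])
    have hCD : Subgroup.centralizer ({w} : Set G) = D.comap π := by
      refine Subgroup.eq_of_le_of_card_ge hle (le_of_eq ?_)
      refine Nat.eq_of_mul_eq_mul_right (m := (Subgroup.centralizer ({w} : Set G)).index) (Nat.pos_of_ne_zero Subgroup.index_ne_zero_of_finite) ?_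
      rw [(Subgroup.centralizer ({w} : Set G)).card_mul_index, ← heq,
        ← Subgroup.index_comap_of_surjective D hπ]
      exact (D.comap π).card_mul_index
    intro k hk
    rw [hCD, Subgroup.mem_comap, show π k = 1 from (QuotientGroup.eq_one_iff k).mpr hk]
    exact one_mem D
  have hKZ : K = Subgroup.center G := by
    refine le_antisymm (fun k hk => Subgroup.mem_center_iff.mpr fun g => ?_) ?_
    · by_cases hg : g ∈ K
      · have hs : s ∉ K := fun hs => by
          rw [show π s = 1 from (QuotientGroup.eq_one_iff s).mpr hs, orderOf_one] at hσ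
          exact hp.ne_one hσ.symm
        have hgs : g * s ∉ K := fun h' => hs ((Subgroup.mul_mem_cancel_left K hg).mp h')
        have e1 := Subgroup.mem_centralizer_singleton_iff.mp (hout _ hgs hk)
        have e2 := Subgroup.mem_centralizer_singleton_iff.mp (hout _ hs hk)
        calc g * k = (g * s) * (s⁻¹ * k) := by group
          _ = (g * s) * (k * s⁻¹) := by rw [(Commute.inv_right (show Commute k s from e2)).eq]
          _ = ((g * s) * k) * s⁻¹ := by group
          _ = (k * (g * s)) * s⁻¹ := by rw [← e1]
          _ = k * g := by group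
      · exact (Subgroup.mem_centralizer_singleton_iff.mp (hout g hg hk)).symm
    · refine Subgroup.normal_le_normalCore.mpr fun z hz => ?_
      exact Subgroup.mem_centralizer_singleton_iff.mpr (Subgroup.mem_center_iff.mp hz x).symm
  refine ⟨p, q, hp, hqp, hne, ?_, ?_⟩
  · rw [← hKZ]; exact hord
  · intro hc
    refine hnab fun a b => ?_
    obtain ⟨a, rfl⟩ := hπ a
    obtain ⟨b, rfl⟩ := hπ b
    have h1 : (a * b)⁻¹ * (b * a) ∈ Subgroup.center G :=
      QuotientGroup.eq.mp (hc.1.1 (a : G ⧸ Subgroup.center G) (b : G ⧸ Subgroup.center G))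
    rw [← hKZ] at h1
    exact QuotientGroup.eq.mpr h1
end Cfsg.Agent.S4314
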