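import Cfsg.Statements.S4316
import Cfsg.Agent.Lib.DerivedBound.Rank3
import Cfsg.Agent.Lib.DerivedBound.Assemble
import Mathlib.GroupTheory.SemidirectProduct

set_option autoImplicit false
universe u
open Cfsg
set_option linter.style.haveILetI false

namespace Cfsg.Agent.S4316

/-- There is a function `f` of two natural-number arguments with the following property. Let `q` be a prime and `A` an elementary abelian group of order `q³` acting by automorphisms on a finite group `G` of order prime to `q`, and suppose that for every non-identity `a ∈ A` the derived subgroup of the fixed-point subgroup `C_G(a)` has order at most `m`. Then the derived subgroup of `G` has order at most `f(q, m)`. -/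
theorem result :
    ∃ f : ℕ → ℕ → ℕ, ∀ (q m : ℕ) (A G : Type u) [Group A] [Finite A] [Group G] [Finite G] [MulDistribMulAction A G],
      q.Prime → Nat.card A = q ^ 3 → (∀ a b : A, a * b = b * a) → (∀ a : A, a ^ q = 1) → ¬ q ∣ Nat.card G →
      (∀ a : A, a ≠ 1 → Nat.card ↥(commutator ↥(FixedPoints.subgroup (Subgroup.zpowers a) G)) ≤ m) →
      Nat.card ↥(commutator G) ≤ f q m := by
  classical
  refine ⟨fun q m => CfsgLib.DerivedBound.derivedBound
    (CfsgLib.DerivedBound.ppBound q m ^ (CfsgLib.DerivedBound.ppBound q m + 1)), ?_⟩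
  intro q m A G _ _ _ _ _ hq hAcard hAcomm hAexp hqG hder
  haveI : Fact q.Prime := ⟨hq⟩
  set φ : A →* MulAut G := MulDistribMulAction.toMulAut A G with hφ
  haveI : Finite (G ⋊[φ] A) := Finite.of_equiv _ SemidirectProduct.equivProd.symm
  set K : Subgroup (G ⋊[φ] A) := (SemidirectProduct.inl : G →* G ⋊[φ] A).range with hK
  set A' : Subgroup (G ⋊[φ] A) := (SemidirectProduct.inr : A →* G ⋊[φ] A).range with hA'
  haveI : IsMulCommutative A' := ⟨⟨fun s t => by
    obtain ⟨_, a, rfl⟩ := s
    obtain ⟨_, b, rfl⟩ := t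
    apply Subtype.ext
    show SemidirectProduct.inr a * SemidirectProduct.inr b =
      SemidirectProduct.inr b * SemidirectProduct.inr a
    rw [← map_mul, ← map_mul, hAcomm]⟩⟩
  have hKcard : Nat.card K = Nat.card G :=
    Nat.card_congr (MonoidHom.ofInjective SemidirectProduct.inl_injective).toEquiv.symm
  have hA'card : Nat.card A' = q ^ 3 :=
    (Nat.card_congr (MonoidHom.ofInjective SemidirectProduct.inr_injective).toEquiv.symm).trans hAcard
  have hA'exp : ∀ a ∈ A', a ^ q = 1 := by
    rintro _ ⟨a, rfl⟩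
    rw [← map_pow, hAexp, map_one]
  have hKn : K.Normal := by
    rw [hK, SemidirectProduct.range_inl_eq_ker_rightHom]
    infer_instance
  have hAK : A' ≤ Subgroup.normalizer (K : Set (G ⋊[φ] A)) := by
    rw [(Subgroup.normalizer_eq_top_iff.mpr hKn : Subgroup.normalizer (K : Set (G ⋊[φ] A)) = ⊤)]
    exact le_top
  have hcop : (Nat.card A').Coprime (Nat.card K) := by
    rw [hA'card, hKcard]
    exact Nat.Coprime.pow_left 3 ((Nat.Prime.coprime_iff_not_dvd hq).mpr hqG)
  have hA1 : ∃ a : A, a ≠ 1 := by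
    haveI : Nontrivial A := Finite.one_lt_card_iff_nontrivial.mp
      (hAcard ▸ Nat.one_lt_pow (by norm_num) hq.one_lt)
    exact exists_ne 1
  have hm : 1 ≤ m := by
    obtain ⟨a, ha⟩ := hA1
    exact le_trans Nat.card_pos (hder a ha)
  have hder' : ∀ b ∈ A', b ≠ 1 → Nat.card ↥⁅K ⊓ Subgroup.centralizer ({b} : Set (G ⋊[φ] A)),
      K ⊓ Subgroup.centralizer ({b} : Set (G ⋊[φ] A))⁆ ≤ m := by
    rintro _ ⟨a, rfl⟩ hb
    have ha : a ≠ 1 := fun e => hb (by rw [e, map_one])
    have e : K ⊓ Subgroup.centralizer ({(SemidirectProduct.inr a : G ⋊[φ] A)} : Set (G ⋊[φ] A)) =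
        (FixedPoints.subgroup (Subgroup.zpowers a) G).map SemidirectProduct.inl := by
      apply le_antisymm
      · rintro _ ⟨⟨g, rfl⟩, hg⟩
        refine ⟨g, ?_, rfl⟩
        have h1 : a • g = g := by
          have h := Subgroup.mem_centralizer_singleton_iff.mp hg
          have h2 := SemidirectProduct.inl_aut (φ := φ) a g
          rw [map_inv, ← h, mul_assoc, mul_inv_cancel, mul_one] at h2
          exact SemidirectProduct.inl_injective h2
        rintro ⟨c, hc⟩
        show c • g = g
        obtain ⟨i, rfl⟩ := Subgroup.mem_zpowers_iff.mp hc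
        have : a ∈ MulAction.stabilizer A g := h1
        exact zpow_mem this i
      · rintro _ ⟨g, hg, rfl⟩
        refine Subgroup.mem_inf.mpr ⟨⟨g, rfl⟩, Subgroup.mem_centralizer_singleton_iff.mpr ?_⟩
        have h1 : φ a g = g := hg ⟨a, Subgroup.mem_zpowers a⟩
        have h2 := SemidirectProduct.inl_aut (φ := φ) a g
        rw [h1, map_inv, eq_mul_inv_iff_mul_eq] at h2
        exact h2
    rw [e, ← Subgroup.map_commutator, Subgroup.card_map_of_injective SemidirectProduct.inl_injective]
    have e2 : ⁅FixedPoints.subgroup (Subgroup.zpowers a) G, FixedPoints.subgroup (Subgroup.zpowers a) G⁆ =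
        (commutator ↥(FixedPoints.subgroup (Subgroup.zpowers a) G)).map
          (FixedPoints.subgroup (Subgroup.zpowers a) G).subtype := by
      rw [commutator_def, Subgroup.map_commutator, ← MonoidHom.range_eq_map, Subgroup.range_subtype]
    rw [e2, Subgroup.card_map_of_injective (Subgroup.subtype_injective _)]
    exact hder a ha
  refine CfsgLib.DerivedBound.card_commutator_le _ ?_
  intro g
  refine CfsgLib.DerivedBound.index_centralizer_le
    (M := CfsgLib.DerivedBound.ppBound q m) (Nat.one_le_pow _ _ (Nat.one_le_pow _ _ (Nat.one_le_pow _ _ hm))) ?_ g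
  intro p hp x hx
  haveI : Fact p.Prime := ⟨hp⟩
  obtain ⟨S, hS⟩ := CfsgLib.Coprime.exists_invariant_sylow hAK hcop
    (Or.inl (CfsgLib.Coprime.isSolvable_of_isMulCommutative A')) p
  let e := MonoidHom.ofInjective (f := (SemidirectProduct.inl : G →* G ⋊[φ] A))
    SemidirectProduct.inl_injective
  have hxp : IsPGroup p (Subgroup.zpowers (e x)) := by
    obtain ⟨k, hk⟩ := hx
    refine IsPGroup.of_card (n := k) ?_
    rw [Nat.card_zpowers, MulEquiv.orderOf_eq, hk]
  obtain ⟨T, hT⟩ := hxp.exists_le_sylow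
  obtain ⟨k, hk⟩ := MulAction.exists_smul_eq K T S
  have hmem : k * e x * k⁻¹ ∈ (S : Subgroup K) := by
    rw [← hk]
    exact Subgroup.smul_mem_pointwise_smul _ (MulAut.conj k) _ (hT (Subgroup.mem_zpowers _))
  obtain ⟨z, hz⟩ : ∃ z : G, e z = k := e.surjective k
  rw [← CfsgLib.DerivedBound.index_centralizer_conj x z]
  have hb := CfsgLib.DerivedBound.index_sylow_element_le hA'exp hA'card hAK hcop hm hder'
    (Subgroup.map_subtype_le _) (S.2.map K.subtype) hS (Subgroup.mem_map_of_mem K.subtype hmem)
  refine le_trans (le_of_eq ?_) hb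
  have e3 : ((k * e x * k⁻¹ : K) : G ⋊[φ] A) = SemidirectProduct.inl (z * x * z⁻¹) := by
    rw [← hz]
    show ((e z : G ⋊[φ] A)) * (e x : G ⋊[φ] A) * ((e z : G ⋊[φ] A))⁻¹ = _
    rw [map_mul, map_mul, map_inv]
    rfl
  show _ = (Subgroup.centralizer ({((k * e x * k⁻¹ : K) : G ⋊[φ] A)} : Set (G ⋊[φ] A))).relIndex K
  rw [e3, hK, ← Subgroup.index_comap]
  congr 1
  ext w
  rw [Subgroup.mem_comap, Subgroup.mem_centralizer_singleton_iff, Subgroup.mem_centralizer_singleton_iff,
    ← map_mul, ← map_mul]
  exact ⟨fun h => congrArg _ h, fun h => SemidirectProduct.inl_injective h⟩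

end Cfsg.Agent.S4316
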