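import Cfsg.Statements.S4321
import Cfsg.Agent.Lib.ClassGraph.PSingular

set_option autoImplicit false
open Cfsg

namespace Cfsg.Agent.S4321

/-- Let `G` be a finite group and `p` a prime not dividing the order of the centre of `G`. Consider the primes dividing the size of some conjugacy class of a `p`-singular element (an element of order divisible by `p`), two of them adjacent when their product divides such a class size. Then any two distinct such primes are joined by a path with at most 3 edges (the graph is connected of diameter at most 3). -/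
theorem result {G : Type*} [Group G] [Finite G] (p : ℕ) [Fact p.Prime]
    (hZ : ¬ p ∣ Nat.card ↥(Subgroup.center G)) (r s : ℕ) (hr : (r.Prime ∧ ∃ x : G, p ∣ orderOf x ∧ r ∣ (Subgroup.centralizer ({x} : Set G)).index)) (hs : (s.Prime ∧ ∃ x : G, p ∣ orderOf x ∧ s ∣ (Subgroup.centralizer ({x} : Set G)).index)) (hrs : r ≠ s) :
    (∃ x : G, p ∣ orderOf x ∧ r * s ∣ (Subgroup.centralizer ({x} : Set G)).index) ∨ (∃ t : ℕ, (t.Prime ∧ ∃ x : G, p ∣ orderOf x ∧ t ∣ (Subgroup.centralizer ({x} : Set G)).index) ∧ t ≠ r ∧ t ≠ s ∧ (∃ x : G, p ∣ orderOf x ∧ r * t ∣ (Subgroup.centralizer ({x} : Set G)).index) ∧ (∃ x : G, p ∣ orderOf x ∧ t * s ∣ (Subgroup.centralizer ({x} : Set G)).index)) ∨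
      (∃ t u : ℕ, (t.Prime ∧ ∃ x : G, p ∣ orderOf x ∧ t ∣ (Subgroup.centralizer ({x} : Set G)).index) ∧ (u.Prime ∧ ∃ x : G, p ∣ orderOf x ∧ u ∣ (Subgroup.centralizer ({x} : Set G)).index) ∧ t ≠ r ∧ u ≠ s ∧ t ≠ u ∧ (∃ x : G, p ∣ orderOf x ∧ r * t ∣ (Subgroup.centralizer ({x} : Set G)).index) ∧ (∃ x : G, p ∣ orderOf x ∧ t * u ∣ (Subgroup.centralizer ({x} : Set G)).index) ∧ (∃ x : G, p ∣ orderOf x ∧ u * s ∣ (Subgroup.centralizer ({x} : Set G)).index)) := by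
  obtain ⟨x, hx, hrx⟩ := hr.2
  obtain ⟨y, hy, hsy⟩ := hs.2
  obtain ⟨a, b, ha, hb, g1, g2, g3, h1, h2, h3, hr1, ha1, ha2, hb2, hb3, hs3⟩ :=
    CfsgLib.ClassGraph.PSingular.exists_path hZ hr.1 hs.1 hx hy hrx hsy
  have hmul : ∀ {u v : ℕ} {g : G}, u.Prime → v.Prime → u ≠ v → p ∣ orderOf g →
      u ∣ (Subgroup.centralizer ({g} : Set G)).index →
      v ∣ (Subgroup.centralizer ({g} : Set G)).index →
      ∃ g : G, p ∣ orderOf g ∧ u * v ∣ (Subgroup.centralizer ({g} : Set G)).index :=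
    fun {u v g} hu hv hne hg h h' =>
      ⟨g, hg, ((Nat.coprime_primes hu hv).mpr hne).mul_dvd_of_dvd_of_dvd h h'⟩
  have hr' := hr.1
  have hs' := hs.1
  by_cases has : a = s
  · subst has
    exact Or.inl (hmul hr.1 hs.1 hrs h1 hr1 ha1)
  by_cases hbr : b = r
  · subst hbr
    exact Or.inl (hmul hr.1 hs.1 hrs h3 hb3 hs3)
  by_cases har : a = r
  · subst har
    by_cases hbs : b = s
    · subst hbs
      exact Or.inl (hmul hr.1 hs.1 hrs h2 ha2 hb2)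
    · exact Or.inr (Or.inl ⟨b, ⟨hb, g2, h2, hb2⟩, hbr, hbs, hmul hr.1 hb (Ne.symm hbr) h2 ha2 hb2,
        hmul hb hs.1 hbs h3 hb3 hs3⟩)
  by_cases hbs : b = s
  · subst hbs
    exact Or.inr (Or.inl ⟨a, ⟨ha, g2, h2, ha2⟩, har, has, hmul hr.1 ha (Ne.symm har) h1 hr1 ha1,
      hmul ha hs.1 has h2 ha2 hb2⟩)
  by_cases hab : a = b
  · subst hab
    exact Or.inr (Or.inl ⟨a, ⟨ha, g2, h2, ha2⟩, har, has, hmul hr.1 ha (Ne.symm har) h1 hr1 ha1,
      hmul ha hs.1 has h3 hb3 hs3⟩)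
  exact Or.inr (Or.inr ⟨a, b, ⟨ha, g2, h2, ha2⟩, ⟨hb, g2, h2, hb2⟩, har, hbs, hab,
    hmul hr.1 ha (Ne.symm har) h1 hr1 ha1, hmul ha hb hab h2 ha2 hb2,
    hmul hb hs.1 hbs h3 hb3 hs3⟩)

end Cfsg.Agent.S4321
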