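import Cfsg.Statements.S4323
import Cfsg.Agent.Lib.CoprimePlane.Main
-- import your own Cfsg.Agent.* helpers here

set_option autoImplicit false
open Cfsg

namespace Cfsg.Agent.S4323

/-- Let `q` be a prime and `A` a non-cyclic group of order `q²` acting by automorphisms on a finite group `G` of order prime to `q`, such that the fixed-point subgroup `C_G(a)` is abelian for every non-identity `a ∈ A`. Then `G` is solvable. -/
theorem result {A G : Type*} [Group A] [Finite A]
    [Group G] [Finite G] [MulDistribMulAction A G] (q : ℕ) (hq : q.Prime) (hA : Nat.card A = q ^ 2) (hnc : ¬ IsCyclic A)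
    (hcop : ¬ q ∣ Nat.card G) (h : ∀ a : A, a ≠ 1 → IsMulCommutative ↥(FixedPoints.subgroup (Subgroup.zpowers a) G)) :
    Group.IsSolvable G := by
  haveI : Fact q.Prime := ⟨hq⟩
  have hexp : ∀ a : A, a ^ q = 1 := fun a => by
    obtain ⟨j, hj, e⟩ := (Nat.dvd_prime_pow hq).mp (hA ▸ orderOf_dvd_natCard a)
    rcases Nat.lt_or_ge j 2 with hlt | hge
    · exact orderOf_dvd_iff_pow_eq_one.mp (e ▸ (pow_dvd_pow q (by omega : j ≤ 1)).trans (pow_one q).dvd)
    · exact absurd (isCyclic_of_orderOf_eq_card a (by rw [e, hA, show j = 2 by omega])) hnc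
  have hcomm : ∀ a b : A, a * b = b * a := by
    haveI := IsPGroup.isMulCommutative_of_card_eq_prime_sq (G := A) hA
    exact mul_comm'
  let φ : A →* MulAut G := MulDistribMulAction.toMulAut A G
  haveI : Finite (G ⋊[φ] A) := Finite.of_equiv _ SemidirectProduct.equivProd.symm
  set A' := (SemidirectProduct.inr : A →* G ⋊[φ] A).range
  set G' := (SemidirectProduct.inl : G →* G ⋊[φ] A).range
  have hcard : Nat.card A' = q ^ 2 := by
    rw [← hA]
    exact (Nat.card_congr (MonoidHom.ofInjective SemidirectProduct.inr_injective).toEquiv).symm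
  have hGc : Nat.card G' = Nat.card G :=
    (Nat.card_congr (MonoidHom.ofInjective SemidirectProduct.inl_injective).toEquiv).symm
  haveI := CfsgLib.CoprimePlane.isSolvable_of_plane (A := A') (G := G') hq
    (by rintro _ ⟨a, rfl⟩ _ ⟨b, rfl⟩; rw [← map_mul, ← map_mul, hcomm a b]) hcard
    (by rintro _ ⟨a, rfl⟩; rw [← map_pow, hexp, map_one])
    (fun a ha => by
      obtain ⟨b, rfl⟩ := ha
      exact CfsgLib.CoprimePlane.mem_normalizer_of_conj_le (by
        rintro _ ⟨g, rfl⟩
        exact ⟨φ b g, by rw [SemidirectProduct.inl_aut, map_inv]⟩))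
    (by rw [hGc]; exact (hq.coprime_iff_not_dvd.mpr hcop).symm)
    (by
      rintro _ ⟨a, rfl⟩ ha _ ⟨x, rfl⟩ _ ⟨y, rfl⟩ hx hy
      have ha' : a ≠ 1 := fun e => ha (by rw [e, map_one])
      have hfix : ∀ z : G, (SemidirectProduct.inr a : G ⋊[φ] A) * SemidirectProduct.inl z
          = SemidirectProduct.inl z * SemidirectProduct.inr a →
          z ∈ FixedPoints.subgroup (Subgroup.zpowers a) G := by
        intro z hz
        have h1 : φ a z = z := by
          apply SemidirectProduct.inl_injective (φ := φ)
          rw [SemidirectProduct.inl_aut, hz, map_inv, mul_inv_cancel_right]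
        rw [FixedPoints.mem_subgroup]
        rintro ⟨_, i, rfl⟩
        exact (MulAction.mem_stabilizer_iff (G := A) (a := z)).mp
          (zpow_mem (MulAction.mem_stabilizer_iff.mpr h1) i)
      haveI := h a ha'
      have := congrArg Subtype.val (mul_comm' (⟨x, hfix x hx⟩ : FixedPoints.subgroup (Subgroup.zpowers a) G)
        ⟨y, hfix y hy⟩)
      rw [← map_mul, ← map_mul]
      exact congrArg _ this)
  exact Group.isSolvable_of_surjective
    (f := (MonoidHom.ofInjective (f := (SemidirectProduct.inl : G →* G ⋊[φ] A))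
      SemidirectProduct.inl_injective).symm.toMonoidHom)
    (MonoidHom.ofInjective (f := (SemidirectProduct.inl : G →* G ⋊[φ] A))
      SemidirectProduct.inl_injective).symm.surjective

end Cfsg.Agent.S4323
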