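import Cfsg.Statements.S4325


set_option autoImplicit false
open Cfsg

namespace Cfsg.Agent.S4325

/-- A labelling constant on few edges has many labels. -/
theorem exists_labelling {α : Type*} [Fintype α] [DecidableEq α] : ∀ (m : ℕ) (a b : Fin m → α),
    ∃ f : α → α, (∀ i, f (a i) = f (b i)) ∧ Fintype.card α ≤ (Finset.univ.image f).card + m := by
  intro m
  induction m with
  | zero => exact fun a b => ⟨id, fun i => i.elim0, by simp⟩
  | succ m ih =>
    intro a b
    obtain ⟨f, hf, hc⟩ := ih (fun i => a i.castSucc) (fun i => b i.castSucc)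
    set u := f (a (Fin.last m))
    set v := f (b (Fin.last m))
    refine ⟨fun x => if f x = u then v else f x, fun i => ?_, ?_⟩
    · induction i using Fin.lastCases with
      | last =>
        by_cases h : f (b (Fin.last m)) = u
        · simp [u, v, h]
        · simp only [if_neg h]; simp [u, v]
      | cast i => simp only [hf i]
    · have hsub : (Finset.univ.image f).erase u ⊆ Finset.univ.image (fun x => if f x = u then v else f x) := by
        intro y hy
        obtain ⟨hy1, hy2⟩ := Finset.mem_erase.mp hy
        obtain ⟨x, -, rfl⟩ := Finset.mem_image.mp hy2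
        exact Finset.mem_image.mpr ⟨x, Finset.mem_univ x, if_neg hy1⟩
      have := Finset.card_le_card hsub
      have := Finset.pred_card_le_card_erase (a := u) (s := Finset.univ.image f)
      omega


/-- Let r be a prime and m a natural number with m + 1 < r, and let π be a set of primes containing every prime below r but not r itself. Then in the symmetric group of degree r any m transpositions generate a π-subgroup, while O_π of the symmetric group is trivial. (So no bound on the number of conjugates that works for all π exists in the π-radical analogue of the Baer–Suzuki Theorem.) -/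
theorem result (r m : ℕ) (hr : r.Prime)
    (hm : m + 1 < r) (π : Set ℕ) (hπ : ∀ q : ℕ, q.Prime → q < r → q ∈ π) (hrπ : r ∉ π)
    (t : Fin m → Equiv.Perm (Fin r)) (ht : ∀ i, (t i).IsSwap) :
    Cfsg.IsPiSubgroup π (Subgroup.closure (Set.range t)) ∧ Cfsg.piCore π (Equiv.Perm (Fin r)) = ⊥ := by
  classical
  haveI := Fact.mk hr
  have hrr : Fintype.card (Fin r) = r := Fintype.card_fin r
  refine ⟨fun q hq hqd => hπ q hq ?_, ?_⟩
  · have hqr : q ∣ Nat.factorial r := by
      refine hqd.trans ((Subgroup.card_subgroup_dvd_card _).trans (dvd_of_eq ?_))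
      rw [Nat.card_perm, Nat.card_eq_fintype_card, Fintype.card_fin]
    refine lt_of_le_of_ne ((hq.dvd_factorial).mp hqr) fun hqe => ?_
    rw [hqe] at hqd
    obtain ⟨σ, hσ⟩ := exists_prime_orderOf_dvd_card' r hqd
    rw [← Subgroup.orderOf_coe] at hσ
    choose a b hab ht' using ht
    obtain ⟨f, hf, hc⟩ := exists_labelling m a b
    have hinv : ∀ g ∈ Subgroup.closure (Set.range t), ∀ x, f (g x) = f x := by
      intro g hg
      induction hg using Subgroup.closure_induction with
      | mem g hg =>
        obtain ⟨i, rfl⟩ := hg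
        intro x
        rw [ht' i, Equiv.swap_apply_def]
        split_ifs with h1 h2
        · rw [h1, hf i]
        · rw [h2, hf i]
        · rfl
      | one => simp
      | mul g h _ _ hg hh => intro x; rw [Equiv.Perm.mul_apply, hg, hh]
      | inv g _ hg => intro x; have h := hg (g⁻¹ x); rw [Equiv.Perm.inv_def, Equiv.apply_symm_apply] at h; exact h.symm
    have hcyc : (σ : Equiv.Perm (Fin r)).IsCycle := Equiv.Perm.isCycle_of_prime_order' (hσ.symm ▸ hr) (by
      rw [hσ, hrr]; have := hr.pos; omega)
    have hsup : (σ : Equiv.Perm (Fin r)).support = Finset.univ := by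
      refine Finset.eq_univ_of_card _ ?_
      rw [← hcyc.orderOf, hσ, hrr]
    have hconst : (Finset.univ.image f).card ≤ 1 := by
      refine Finset.card_le_one.mpr fun u hu v hv => ?_
      obtain ⟨x, -, rfl⟩ := Finset.mem_image.mp hu
      obtain ⟨y, -, rfl⟩ := Finset.mem_image.mp hv
      have hx : (σ : Equiv.Perm (Fin r)) x ≠ x := Equiv.Perm.mem_support.mp (hsup ▸ Finset.mem_univ x)
      have hy : (σ : Equiv.Perm (Fin r)) y ≠ y := Equiv.Perm.mem_support.mp (hsup ▸ Finset.mem_univ y)
      obtain ⟨k, hk⟩ := hcyc.exists_zpow_eq hx hy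
      rw [← hk, hinv _ (zpow_mem σ.2 k)]
    omega
  · rw [Cfsg.piCore, sSup_eq_bot]
    rintro N ⟨hN, hNπ⟩
    haveI := hN
    by_contra hne
    obtain ⟨⟨g, hgN⟩, hg⟩ := Subgroup.ne_bot_iff_exists_ne_one.mp hne
    have hg' : g ≠ 1 := fun e => hg (Subtype.ext e)
    obtain ⟨x, hx⟩ : ∃ x, g x ≠ x := not_forall.mp fun h => hg' (Equiv.ext h)
    haveI : MulAction.IsPretransitive (Equiv.Perm (Fin r)) (Fin r) :=
      ⟨fun u v => ⟨Equiv.swap u v, by simp⟩⟩
    have hB : MulAction.IsBlock (Equiv.Perm (Fin r)) (MulAction.orbit N x) := MulAction.IsBlock.orbit_of_normal x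
    have hd := hB.ncard_dvd_card ⟨x, MulAction.mem_orbit_self x⟩
    rw [Nat.card_eq_fintype_card, hrr] at hd
    rcases hr.eq_one_or_self_of_dvd _ hd with h | h
    · obtain ⟨z, hz⟩ := Set.ncard_eq_one.mp h
      have h1 : g x ∈ MulAction.orbit N x := ⟨⟨g, hgN⟩, rfl⟩
      have h2 := MulAction.mem_orbit_self (M := N) x
      rw [hz, Set.mem_singleton_iff] at h1 h2
      exact hx (h1.trans h2.symm)
    · refine hrπ (hNπ r hr ?_)
      refine (dvd_of_eq h.symm).trans ?_
      rw [← Nat.card_coe_set_eq, Nat.card_congr (MulAction.orbitEquivQuotientStabilizer N x)]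
      exact Subgroup.card_quotient_dvd_card _
end Cfsg.Agent.S4325
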