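import Cfsg.Statements.S4326
import Mathlib
import Cfsg.Agent.Lib.Elem.PrimaryParts
import Cfsg.Agent.Lib.Coprime.SchurZassenhaus

set_option autoImplicit false
set_option linter.style.haveILetI false
open Pointwise
open Cfsg

namespace Cfsg.Agent.S4326

/-- Let G be a finite group, p a prime, x an automorphism of G of p-power order and M the subgroup of fixed points of x. Suppose that p divides the index of M and that either M is self-normalizing or M has trivial center. Then some conjugate of M is mapped onto itself by x but is not fixed elementwise by x. -/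
theorem result {G : Type*} [Group G] [Finite G]
    (p : ℕ) [Fact p.Prime] (x : MulAut G) (hx : ∃ k : ℕ, orderOf x = p ^ k) (M : Subgroup G)
    (hM : ∀ g : G, g ∈ M ↔ x g = g) (hp : p ∣ M.index)
    (hself : Subgroup.normalizer (M : Set G) = M ∨ Subgroup.center M = ⊥) :
    ∃ g : G, (∀ y ∈ MulAut.conj g • M, x y ∈ MulAut.conj g • M) ∧ ∃ y ∈ MulAut.conj g • M, x y ≠ y := by
  classical
  obtain ⟨k, hk⟩ := hx
  let e : G ⧸ M ≃ G ⧸ M :=
    Quotient.congr x.toEquiv fun a b => by
      simp only [QuotientGroup.leftRel_apply, MulEquiv.toEquiv_eq_coe, MulEquiv.coe_toEquiv]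
      rw [← map_inv, ← map_mul]
      exact ⟨fun h => by rw [(hM _).mp h]; exact h, fun h => by
        have := (hM _).mp h
        rwa [x.injective this] at h⟩
  have he : ∀ a : G, e (QuotientGroup.mk a) = QuotientGroup.mk (x a) := fun a => rfl
  have hpow : ∀ (n : ℕ) (a : G), (e ^ n : Equiv.Perm _) (QuotientGroup.mk a) = QuotientGroup.mk ((x ^ n) a) := by
    intro n
    induction n with
    | zero => intro a; rfl
    | succ n ih => intro a; rw [pow_succ, Equiv.Perm.mul_apply, he, ih, pow_succ, MulAut.mul_apply]
  haveI := Fintype.ofFinite (G ⧸ M)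
  have heord : (e : Equiv.Perm _) ^ p ^ k = 1 := by
    ext q
    induction q using QuotientGroup.induction_on with
    | _ a =>
      rw [hpow, ← hk, pow_orderOf_eq_one]
      rfl
  have he1 : e (QuotientGroup.mk 1) = QuotientGroup.mk 1 := by rw [he, map_one]
  obtain ⟨q, hq, hq1⟩ := Equiv.Perm.exists_fixed_point_of_prime' (p := p) (n := k)
    (by rw [← Nat.card_eq_fintype_card]; exact hp) heord he1
  obtain ⟨g, rfl⟩ := QuotientGroup.mk_surjective q
  rw [he, eq_comm, QuotientGroup.eq] at hq
  have hgM : g ∉ M := fun h => hq1 (by rw [QuotientGroup.eq]; simpa using M.inv_mem h)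
  set m := g⁻¹ * x g with hm
  have hxg : x g = g * m := by rw [hm, mul_inv_cancel_left]
  have himg : ∀ w ∈ M, x (g * w * g⁻¹) = g * (m * w * m⁻¹) * g⁻¹ := by
    intro w hw
    rw [map_mul, map_mul, map_inv, (hM w).mp hw, hxg]
    group
  refine ⟨g, fun y hy => ?_, ?_⟩
  · rw [CfsgLib.Coprime.mem_conj_smul_iff] at hy ⊢
    have := himg _ hy
    rw [show g * (g⁻¹ * y * g) * g⁻¹ = y by group] at this
    rw [this]
    simp only [show ∀ u : G, g⁻¹ * (g * u * g⁻¹) * g = u from fun u => by group]
    exact M.mul_mem (M.mul_mem hq hy) (M.inv_mem hq)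
  · by_contra hall
    push Not at hall
    have hfix : ∀ w ∈ M, g * w * g⁻¹ ∈ M := fun w hw => (hM _).mpr (hall _ (by
      rw [CfsgLib.Coprime.mem_conj_smul_iff]; rwa [show g⁻¹ * (g * w * g⁻¹) * g = w by group]))
    rcases hself with h | h
    · exact hgM (h ▸ CfsgLib.PrimaryParts.mem_normalizer_of_conj_mem (H := M) (g := g) hfix)
    · refine hgM ((hM g).mpr ?_)
      suffices hm1 : m = 1 by rw [hxg, hm1, mul_one]
      have : (⟨m, hq⟩ : M) ∈ Subgroup.center M := by
        rw [Subgroup.mem_center_iff]
        rintro ⟨w, hw⟩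
        ext
        show w * m = m * w
        have h1 := himg w hw
        rw [(hM _).mp (hfix w hw)] at h1
        have h2 : w = m * w * m⁻¹ := mul_left_cancel (mul_right_cancel h1)
        calc w * m = m * w * m⁻¹ * m := by rw [← h2]
          _ = m * w := by group
      rw [h, Subgroup.mem_bot] at this
      exact congrArg Subtype.val this

end Cfsg.Agent.S4326
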