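import Mathlib
import Cfsg.Statements.S4330
import Cfsg.Agent.Lib.Fitting.Basic
import Cfsg.Agent.Lib.Layer.Radical
import Cfsg.Agent.Lib.Coprime.Generation
import Cfsg.Agent.Lib.Coprime.Action
import Cfsg.Agent.Lib.PSolvable.Core

/-!
A subgroup of `O_p` acting coprimely on an abelian group, `p` odd: some vector is fixed by no
conjugate of a given element acting nontrivially.
-/

set_option autoImplicit false
set_option linter.unusedVariables false
set_option linter.unusedSectionVars false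
open Pointwise
open scoped commutatorElement
open Cfsg CfsgLib

namespace Cfsg.Agent.S4330

universe u v

section Colour

variable {P : Type*} [Group P] [Finite P] {p : ℕ} [hp : Fact p.Prime] {X : Type*} [MulAction P X]

/-- Two-colourings with trivial setwise stabilizer for `p`-groups, `p` odd. -/
theorem exists_colouring_aux (hp2 : p ≠ 2) (hP : IsPGroup p P) : ∀ (n : ℕ) (M : Subgroup P) (s : Finset X),
    s.card ≤ n → (∀ m ∈ M, ∀ x ∈ s, m • x ∈ s) →
    ∃ f : X → Bool, ∀ g ∈ M, (∀ x ∈ s, f (g • x) = f x) → ∀ x ∈ s, g • x = x := by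
  classical
  intro n
  induction n with
  | zero => intro M s hs _; exact ⟨fun _ => true, fun g _ _ x hx => by simp [Finset.card_eq_zero.mp (Nat.le_zero.mp hs)] at hx⟩
  | succ n IH =>
  intro M s hs hinv
  by_cases hsn : s.card ≤ n
  · exact IH M s hsn hinv
  obtain ⟨x0, hx0⟩ := Finset.card_pos.mp (by omega : 0 < s.card)
  by_cases hintr : ∃ y ∈ s, ∀ m ∈ M, m • x0 ≠ y
  · -- intransitive
    obtain ⟨y, hy, hne⟩ := hintr
    set s1 := s.filter (fun x => ∃ m ∈ M, m • x0 = x) with hs1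
    set s2 := s.filter (fun x => ¬ ∃ m ∈ M, m • x0 = x) with hs2
    have h1 : s1.card < s.card := Finset.card_lt_card ⟨Finset.filter_subset _ _, fun h => by
      obtain ⟨-, m, hm, e⟩ := Finset.mem_filter.mp (h hy); exact hne m hm e⟩
    have h2 : s2.card < s.card := Finset.card_lt_card ⟨Finset.filter_subset _ _, fun h =>
      (Finset.mem_filter.mp (h hx0)).2 ⟨1, one_mem M, one_smul _ _⟩⟩
    have hi1 : ∀ m ∈ M, ∀ x ∈ s1, m • x ∈ s1 := by
      intro m hm x hx
      obtain ⟨hxs, k, hk, e⟩ := Finset.mem_filter.mp hx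
      exact Finset.mem_filter.mpr ⟨hinv m hm x hxs, m * k, mul_mem hm hk, by rw [mul_smul, e]⟩
    have hi2 : ∀ m ∈ M, ∀ x ∈ s2, m • x ∈ s2 := by
      intro m hm x hx
      obtain ⟨hxs, hk⟩ := Finset.mem_filter.mp hx
      refine Finset.mem_filter.mpr ⟨hinv m hm x hxs, fun ⟨k, hk', e⟩ => hk ⟨m⁻¹ * k, mul_mem (inv_mem hm) hk', ?_⟩⟩
      rw [mul_smul, e, inv_smul_smul]
    obtain ⟨f1, hf1⟩ := IH M s1 (by omega) hi1
    obtain ⟨f2, hf2⟩ := IH M s2 (by omega) hi2
    refine ⟨fun x => if x ∈ s1 then f1 x else f2 x, fun g hg hf x hx => ?_⟩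
    by_cases hx1 : x ∈ s1
    · refine hf1 g hg (fun z hz => ?_) x hx1
      have := hf z (Finset.mem_filter.mp hz).1
      simp only at this
      rwa [if_pos (hi1 g hg z hz), if_pos hz] at this
    · have hnot : ∀ z ∈ s2, z ∉ s1 := fun z hz h => (Finset.mem_filter.mp hz).2 (Finset.mem_filter.mp h).2
      refine hf2 g hg (fun z hz => ?_) x (Finset.mem_filter.mpr ⟨hx, fun h => hx1 (Finset.mem_filter.mpr ⟨hx, h⟩)⟩)
      have := hf z (Finset.mem_filter.mp hz).1
      simp only at this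
      rwa [if_neg (hnot _ (hi2 g hg z hz)), if_neg (hnot z hz)] at this
  push Not at hintr
  by_cases hone : ∀ x ∈ s, x = x0
  · exact ⟨fun _ => true, fun g hg _ x hx => (hone _ (hinv g hg x hx)).trans (hone x hx).symm⟩
  push Not at hone
  obtain ⟨y, hy, hyne⟩ := hone
  set K := (MulAction.stabilizer P x0).subgroupOf M with hK
  obtain ⟨K1, hK1, hKK1⟩ : ∃ K1 : Subgroup M, IsCoatom K1 ∧ K ≤ K1 := by
    rcases eq_top_or_exists_le_coatom K with h | h
    · exfalso
      obtain ⟨m, hm, rfl⟩ := hintr y hy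
      have : (⟨m, hm⟩ : M) ∈ K := h ▸ Subgroup.mem_top _
      exact hyne (by simpa [hK, Subgroup.mem_subgroupOf] using this)
    · exact h
  haveI : Group.IsNilpotent M := (hP.to_subgroup M).isNilpotent
  haveI hK1n : K1.Normal := Subgroup.NormalizerCondition.normal_of_coatom K1 Group.normalizerCondition_of_isNilpotent hK1
  set M1 := K1.map M.subtype with hM1
  have hM1M : M1 ≤ M := Subgroup.map_subtype_le _
  have hstab : ∀ m ∈ M, m • x0 = x0 → m ∈ M1 := fun m hm e =>
    ⟨⟨m, hm⟩, hKK1 (by simpa [hK, Subgroup.mem_subgroupOf] using e), rfl⟩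
  have hnorm : ∀ m ∈ M, ∀ k ∈ M1, m * k * m⁻¹ ∈ M1 := by
    rintro m hm _ ⟨k, hk, rfl⟩
    exact ⟨_, hK1n.conj_mem k hk ⟨m, hm⟩, rfl⟩
  -- the block of a point
  let blk : X → Finset X := fun x => s.filter (fun z => ∃ k ∈ M1, k • x = z)
  set O := blk x0 with hO
  have hOs : O ⊆ s := Finset.filter_subset _ _
  have hOlt : O.card < s.card := by
    refine Finset.card_lt_card ⟨hOs, fun h => hK1.1 (top_le_iff.mp fun m _ => ?_)⟩
    obtain ⟨-, k, hk, e⟩ := Finset.mem_filter.mp (h (hinv m m.2 x0 hx0))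
    obtain ⟨k', hk', hk'e⟩ := hk
    have h1 : (m : P)⁻¹ * k ∈ M1 := hstab _ (mul_mem (inv_mem m.2) (hk'e ▸ k'.2))
      (by rw [mul_smul, e, inv_smul_smul])
    have h2 : (m : P) ∈ M1 := by
      have := mul_mem (⟨k', hk', hk'e⟩ : k ∈ M1) (inv_mem h1)
      rwa [mul_inv_rev, inv_inv, ← mul_assoc, mul_inv_cancel, one_mul] at this
    obtain ⟨m', hm', e'⟩ := h2
    exact Subtype.ext e' ▸ hm'
  have hOinv : ∀ m ∈ M1, ∀ x ∈ O, m • x ∈ O := by
    intro m hm x hx
    obtain ⟨hxs, k, hk, e⟩ := Finset.mem_filter.mp hx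
    exact Finset.mem_filter.mpr ⟨hinv m (hM1M hm) x hxs, m * k, mul_mem hm hk, by rw [mul_smul, e]⟩
  obtain ⟨f0, hf0⟩ := IH M1 O (by omega) hOinv
  let rep : Finset X → P := fun B => Classical.epsilon (fun m => m ∈ M ∧ m • x0 ∈ B)
  have hblk_eq : ∀ x, ∀ z ∈ blk x, x ∈ s → blk z = blk x := by
    intro x z hz hx
    obtain ⟨-, k, hk, rfl⟩ := Finset.mem_filter.mp hz
    refine Finset.ext fun w => ?_
    simp only [blk, Finset.mem_filter, and_congr_right_iff]
    intro _
    constructor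
    · rintro ⟨j, hj, rfl⟩; exact ⟨j * k, mul_mem hj hk, mul_smul _ _ _⟩
    · rintro ⟨j, hj, rfl⟩; exact ⟨j * k⁻¹, mul_mem hj (inv_mem hk), by rw [mul_smul, inv_smul_smul]⟩
  have hrep : ∀ x ∈ s, rep (blk x) ∈ M ∧ rep (blk x) • x0 ∈ blk x := fun x hx => by
    obtain ⟨m, hm, e⟩ := hintr x hx
    exact Classical.epsilon_spec (p := fun m => m ∈ M ∧ m • x0 ∈ blk x)
      ⟨m, hm, by subst e; exact Finset.mem_filter.mpr ⟨hx, 1, one_mem _, one_smul _ _⟩⟩
  have hback : ∀ x ∈ s, (rep (blk x))⁻¹ • x ∈ O := by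
    intro x hx
    obtain ⟨hr, hr0⟩ := hrep x hx
    obtain ⟨-, k, hk, e⟩ := Finset.mem_filter.mp hr0
    refine Finset.mem_filter.mpr ⟨hinv _ (inv_mem hr) x hx, (rep (blk x))⁻¹ * k⁻¹ * rep (blk x), ?_, ?_⟩
    · simpa using hnorm _ (inv_mem hr) _ (inv_mem hk)
    · rw [mul_smul, mul_smul, ← e, inv_smul_smul]
  let f : X → Bool := fun x =>
    xor (decide (x ∈ O)) (f0 ((rep (blk x))⁻¹ • x))
  -- counting
  have hcnt : ∀ x ∈ s, x ∉ O → ((blk x).filter (fun z => f z = true)).card =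
      (O.filter (fun z => f0 z = true)).card := by
    intro x hx hxO
    obtain ⟨hr, hr0⟩ := hrep x hx
    refine Finset.card_bij' (fun z _ => (rep (blk x))⁻¹ • z) (fun z _ => rep (blk x) • z) ?_ ?_
      (fun z _ => smul_inv_smul _ _) (fun z _ => inv_smul_smul _ _)
    · intro z hz
      obtain ⟨hzb, hzf⟩ := Finset.mem_filter.mp hz
      have hzs : z ∈ s := (Finset.mem_filter.mp hzb).1
      have hzO : z ∉ O := fun h => hxO (by
        have e1 := hblk_eq x z hzb hx
        have e2 := hblk_eq x0 z h hx0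
        show x ∈ blk x0
        rw [← e2, e1]
        exact Finset.mem_filter.mpr ⟨hx, 1, one_mem _, one_smul _ _⟩)
      refine Finset.mem_filter.mpr ⟨?_, ?_⟩
      · have := hback z hzs; rwa [hblk_eq x z hzb hx] at this
      · simp only [f, hzO, decide_false, Bool.false_xor, hblk_eq x z hzb hx] at hzf
        exact hzf
    · intro z hz
      obtain ⟨hzO, hzf⟩ := Finset.mem_filter.mp hz
      obtain ⟨hzs, k, hk, rfl⟩ := Finset.mem_filter.mp hzO
      obtain ⟨-, j, hj, e⟩ := Finset.mem_filter.mp hr0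
      have hzb : rep (blk x) • k • x0 ∈ blk x := by
        refine Finset.mem_filter.mpr ⟨hinv _ hr _ hzs, rep (blk x) * k * (rep (blk x))⁻¹ * j, mul_mem (hnorm _ hr _ hk) hj, ?_⟩
        rw [mul_smul, e, mul_smul, mul_smul, inv_smul_smul]
      have hnO : rep (blk x) • k • x0 ∉ O := fun h => hxO (by
        have e1 := hblk_eq x _ hzb hx
        have e2 := hblk_eq x0 _ h hx0
        show x ∈ blk x0
        rw [← e2, e1]
        exact Finset.mem_filter.mpr ⟨hx, 1, one_mem _, one_smul _ _⟩)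
      refine Finset.mem_filter.mpr ⟨hzb, ?_⟩
      simp only [f, hnO, decide_false, Bool.false_xor, hblk_eq x _ hzb hx, inv_smul_smul]
      exact hzf
  -- the base block
  set r0 := rep O with hr0def
  have hr0O : ∀ z ∈ O, r0⁻¹ • z ∈ O := fun z hz => by
    have := hback z (hOs hz); rwa [hblk_eq x0 z hz hx0] at this
  have hr0O' : ∀ z ∈ O, r0 • z ∈ O := fun z hz => by
    obtain ⟨hr, hr0⟩ := hrep x0 hx0
    obtain ⟨-, k, hk, e⟩ := Finset.mem_filter.mp hr0
    obtain ⟨hzs, j, hj, rfl⟩ := Finset.mem_filter.mp hz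
    refine Finset.mem_filter.mpr ⟨hinv _ hr _ hzs, r0 * j * r0⁻¹ * k, mul_mem (hnorm _ hr _ hj) hk, ?_⟩
    rw [mul_smul, e, mul_smul, mul_smul]
    exact congrArg (fun w => r0 • j • w) (inv_smul_smul r0 x0)
  have hcntO : (O.filter (fun z => f z = true)).card + (O.filter (fun z => f0 z = true)).card = O.card := by
    have e1 : (O.filter (fun z => f z = true)).card = (O.filter (fun z => ¬ f0 z = true)).card := by
      refine Finset.card_bij' (fun z _ => r0⁻¹ • z) (fun z _ => r0 • z) ?_ ?_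
        (fun z _ => smul_inv_smul _ _) (fun z _ => inv_smul_smul _ _)
      · intro z hz
        obtain ⟨hzO, hzf⟩ := Finset.mem_filter.mp hz
        refine Finset.mem_filter.mpr ⟨hr0O z hzO, ?_⟩
        simp only [f, hzO, decide_true, hblk_eq x0 z hzO hx0, Bool.true_xor] at hzf
        show ¬ f0 (r0⁻¹ • z) = true
        simpa [hr0def, hO] using hzf
      · intro z hz
        obtain ⟨hzO, hzf⟩ := Finset.mem_filter.mp hz
        refine Finset.mem_filter.mpr ⟨hr0O' z hzO, ?_⟩
        simp only [f, hr0O' z hzO, decide_true, hblk_eq x0 _ (hr0O' z hzO) hx0]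
        simpa [hO, hr0def] using hzf
    rw [e1, add_comm]
    exact Finset.card_filter_add_card_filter_not _
  have hodd : Odd O.card := by
    have h1 : O.card ∣ Nat.card M1 := by
      have h2 : O.card = Nat.card (MulAction.orbit M1 x0) := by
        rw [← Nat.card_eq_finsetCard]
        refine Nat.card_congr (Equiv.subtypeEquivRight fun z => ?_)
        constructor
        · intro hz
          obtain ⟨-, k, hk, e⟩ := Finset.mem_filter.mp hz
          exact ⟨⟨k, hk⟩, e⟩
        · rintro ⟨⟨k, hk⟩, e⟩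
          exact Finset.mem_filter.mpr ⟨e ▸ hinv k (hM1M hk) x0 hx0, k, hk, e⟩
      rw [h2, Nat.card_coe_set_eq, ← MulAction.index_stabilizer]
      exact Subgroup.index_dvd_card _
    obtain ⟨e, he⟩ := IsPGroup.iff_card.mp (hP.to_subgroup M1)
    exact ((hp.out.eq_two_or_odd'.resolve_left hp2).pow).of_dvd_nat (he ▸ h1)
  refine ⟨f, fun g hg hfg x hx => ?_⟩
  -- g fixes the base block
  have hgblk : ∀ z ∈ s, (blk z).image (g • ·) = blk (g • z) := by
    intro z hz
    ext w
    simp only [blk, Finset.mem_image, Finset.mem_filter]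
    constructor
    · rintro ⟨w, ⟨hws, k, hk, rfl⟩, rfl⟩
      exact ⟨hinv g hg _ hws, g * k * g⁻¹, hnorm g hg k hk, by simp [mul_smul]⟩
    · rintro ⟨hws, k, hk, rfl⟩
      refine ⟨(g⁻¹ * k * g) • z, ⟨hinv _ (mul_mem (mul_mem (inv_mem hg) (hM1M hk)) hg) z hz, _,
        by simpa using hnorm g⁻¹ (inv_mem hg) k hk, rfl⟩, by simp [mul_smul]⟩
  have hgM1 : g ∈ M1 := by
    have hgx0 : g • x0 ∈ O := by
      by_contra hno
      have e1 : ((blk (g • x0)).filter (fun z => f z = true)).card = (O.filter (fun z => f z = true)).card := by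
        rw [← hgblk x0 hx0, Finset.filter_image, Finset.card_image_of_injective _ (MulAction.injective g)]
        exact congrArg Finset.card (Finset.filter_congr fun z hz => by rw [hfg z (Finset.mem_filter.mp hz).1])
      rw [hcnt _ (hinv g hg x0 hx0) hno] at e1
      obtain ⟨c, hc⟩ := hodd
      omega
    obtain ⟨-, k, hk, e⟩ := Finset.mem_filter.mp hgx0
    have h1 : k⁻¹ * g ∈ M1 := hstab _ (mul_mem (inv_mem (hM1M hk)) hg)
      (by rw [mul_smul, ← e, inv_smul_smul])
    simpa using mul_mem hk h1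
  -- g fixes everything
  obtain ⟨hr, -⟩ := hrep x hx
  set r := rep (blk x) with hrdef
  have hg' : r⁻¹ * g * r ∈ M1 := by simpa using hnorm r⁻¹ (inv_mem hr) g hgM1
  have hrs : ∀ z ∈ O, r • z ∈ blk x := by
    intro z hz
    obtain ⟨hzs, k, hk, rfl⟩ := Finset.mem_filter.mp hz
    obtain ⟨-, j, hj, e⟩ := Finset.mem_filter.mp (hrep x hx).2
    refine Finset.mem_filter.mpr ⟨hinv _ hr _ hzs, r * k * r⁻¹ * j, mul_mem (hnorm _ hr _ hk) hj, ?_⟩
    rw [mul_smul, e, mul_smul, mul_smul]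
    exact congrArg (fun w => r • k • w) (inv_smul_smul r x0)
  have key := hf0 _ hg' (fun z hz => ?_) ((rep (blk x))⁻¹ • x) (hback x hx)
  · rw [mul_smul, mul_smul, smul_inv_smul] at key
    exact MulAction.injective r⁻¹ key
  · have hz1 : r • z ∈ blk x := hrs z hz
    have hzs : r • z ∈ s := (Finset.mem_filter.mp hz1).1
    have hz2 : g • r • z ∈ blk (r • z) := Finset.mem_filter.mpr ⟨hinv g hg _ hzs, g, hgM1, rfl⟩
    have e := hfg _ hzs
    have eb1 : blk (r • z) = blk x := hblk_eq x _ hz1 hx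
    have eb2 : blk (g • r • z) = blk x := (hblk_eq _ _ hz2 hzs).trans eb1
    have eo : (g • r • z ∈ O) ↔ (r • z ∈ O) := by
      constructor
      · intro h
        have := hOinv g⁻¹ (inv_mem hgM1) _ h
        rwa [inv_smul_smul] at this
      · exact hOinv g hgM1 _
    simp only [f, eb1, eb2, eo, ← hrdef, inv_smul_smul] at e
    rw [mul_smul, mul_smul]
    exact Bool.xor_right_inj.mp e

theorem exists_colouring [Finite X] (hp2 : p ≠ 2) (hP : IsPGroup p P) :
    ∃ f : X → Bool, ∀ g : P, (∀ x, f (g • x) = f x) → ∀ x : X, g • x = x := by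
  haveI := Fintype.ofFinite X
  obtain ⟨f, hf⟩ := exists_colouring_aux (X := X) hp2 hP _ ⊤ Finset.univ le_rfl (fun _ _ _ _ => Finset.mem_univ _)
  exact ⟨f, fun g hg x => hf g (Subgroup.mem_top g) (fun y _ => hg y) x (Finset.mem_univ x)⟩

end Colour

section Act

variable {H : Type*} [Group H] [Finite H] {W : Type v} [CommGroup W] [Finite W]

/-- The common fixed points of a subgroup. -/
def fixd (φ : H →* MulAut W) (K : Subgroup H) : Subgroup W where
  carrier := {w | ∀ k ∈ K, φ k w = w}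
  one_mem' := fun k _ => map_one _
  mul_mem' := fun ha hb k hk => by rw [map_mul, ha k hk, hb k hk]
  inv_mem' := fun ha k hk => by rw [map_inv, ha k hk]

theorem mem_fixd {φ : H →* MulAut W} {K : Subgroup H} {w : W} :
    w ∈ fixd φ K ↔ ∀ k ∈ K, φ k w = w := Iff.rfl

theorem fixd_sup {φ : H →* MulAut W} {K L : Subgroup H} {w : W} (h1 : w ∈ fixd φ K) (h2 : w ∈ fixd φ L) :
    w ∈ fixd φ (K ⊔ L) := by
  let S : Subgroup H :=
    { carrier := {h | φ h w = w}
      one_mem' := by simp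
      mul_mem' := fun {a b} ha hb => by
        show φ (a * b) w = w
        rw [map_mul, MulAut.mul_apply, show φ b w = w from hb]; exact ha
      inv_mem' := fun {a} ha => by
        show φ a⁻¹ w = w
        rw [map_inv, MulAut.inv_apply]
        exact (φ a).symm_apply_eq.mpr (show φ a w = w from ha).symm }
  exact fun k hk => (sup_le (show K ≤ S from h1) (show L ≤ S from h2)) hk

theorem map_fixd (φ : H →* MulAut W) (K : Subgroup H) (h : H) :
    (fixd φ K).map (φ h).toMonoidHom = fixd φ (MulAut.conj h • K) := by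
  ext w
  constructor
  · rintro ⟨u, hu, rfl⟩ _ ⟨k, hk, rfl⟩
    show φ (h * k * h⁻¹) (φ h u) = φ h u
    rw [← MulAut.mul_apply, ← map_mul, inv_mul_cancel_right, map_mul, MulAut.mul_apply, hu k hk]
  · intro hw
    refine ⟨φ h⁻¹ w, fun k hk => ?_, by
      show φ h (φ h⁻¹ w) = w
      rw [← MulAut.mul_apply, ← map_mul, mul_inv_cancel, map_one]; rfl⟩
    have := hw _ ⟨k, hk, rfl⟩
    change φ (h * k * h⁻¹) w = w at this
    conv_rhs => rw [← this]
    rw [← MulAut.mul_apply, ← MulAut.mul_apply, ← map_mul, ← map_mul]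
    group

variable {p : ℕ} [hp : Fact p.Prime]

theorem eq_one_of_pow (hW : (Nat.card W).Coprime p) {n : ℕ} {w : W} (h : w ^ p ^ n = 1) : w = 1 := by
  rw [← orderOf_eq_one_iff]
  exact Nat.eq_one_of_dvd_coprimes (hW.pow_right n) (orderOf_dvd_natCard w) (orderOf_dvd_of_pow_eq_one h)

theorem fixes_zpowers (φ : H →* MulAut W) {x : H} {w : W} (h : φ x w = w) :
    ∀ k ∈ Subgroup.zpowers x, φ k w = w := by
  intro k hk
  let S : Subgroup H :=
    { carrier := {h | φ h w = w}
      one_mem' := by simp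
      mul_mem' := fun {a b} ha hb => by
        show φ (a * b) w = w
        rw [map_mul, MulAut.mul_apply, show φ b w = w from hb]; exact ha
      inv_mem' := fun {a} ha => by
        show φ a⁻¹ w = w
        rw [map_inv, MulAut.inv_apply]
        exact (φ a).symm_apply_eq.mpr (show φ a w = w from ha).symm }
  exact Subgroup.zpowers_le.mpr (show x ∈ S from h) hk

theorem norm_fixed (φ : H →* MulAut W) {x : H} (hx : x ^ p = 1) (v : W) :
    (∏ i ∈ Finset.range p, φ (x ^ i) v) ∈ fixd φ (Subgroup.zpowers x) := by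
  have h1 : φ x (∏ i ∈ Finset.range p, φ (x ^ i) v) = ∏ i ∈ Finset.range p, φ (x ^ i) v := by
    rw [map_prod]
    simp_rw [← MulAut.mul_apply, ← map_mul, ← pow_succ']
    have e1 := Finset.prod_range_succ' (fun i => φ (x ^ i) v) p
    rw [Finset.prod_range_succ, hx, pow_zero] at e1
    exact mul_right_cancel e1.symm
  exact fun k hk => fixes_zpowers φ h1 k hk


/-- An elementary abelian group without fixed points has a subgroup `K` with fixed points whose
proper overgroups in it are everything. -/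
theorem exists_hyperplane (φ : H →* MulAut W) (hW : (Nat.card W).Coprime p) [Nontrivial W] {A : Subgroup H}
    (hAc : ∀ x ∈ A, ∀ y ∈ A, x * y = y * x) (hAe : ∀ x ∈ A, x ^ p = 1) (hfix : fixd φ A = ⊥) :
    ∃ K ≤ A, fixd φ K ≠ ⊥ ∧ K ≠ A ∧ ∀ x ∈ A, x ∉ K → K ⊔ Subgroup.zpowers x = A := by
  classical
  obtain ⟨K, ⟨hKA, hK⟩, hmax⟩ := (Set.toFinite {K : Subgroup H | K ≤ A ∧ fixd φ K ≠ ⊥}).exists_maximal
    ⟨⊥, bot_le, fun h => by
      obtain ⟨w, hw⟩ := exists_ne (1 : W)
      refine hw ((Subgroup.eq_bot_iff_forall _).mp h w (fun k hk => ?_))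
      rw [Subgroup.mem_bot] at hk; simp [hk]⟩
  refine ⟨K, hKA, hK, fun e => hK (e ▸ hfix), fun x hx hxK => ?_⟩
  by_contra hne
  obtain ⟨b, hbA, hb⟩ : ∃ b ∈ A, b ∉ K ⊔ Subgroup.zpowers x := by
    by_contra! h
    exact hne (le_antisymm (sup_le hKA (Subgroup.zpowers_le.mpr hx)) h)
  have hbig : ∀ z ∈ A, z ∉ K → fixd φ (K ⊔ Subgroup.zpowers z) = ⊥ := by
    intro z hz hzK
    by_contra h
    exact hzK (hmax ⟨sup_le hKA (Subgroup.zpowers_le.mpr hz), h⟩ le_sup_left
      (Subgroup.mem_sup_right (Subgroup.mem_zpowers z)))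
  obtain ⟨u, hu, hu1⟩ : ∃ u ∈ fixd φ K, u ≠ 1 := by
    by_contra! h
    exact hK ((Subgroup.eq_bot_iff_forall _).mpr h)
  have hmove : ∀ z ∈ A, ∀ w ∈ fixd φ K, φ z w ∈ fixd φ K := fun z hz w hw k hk => by
    rw [← MulAut.mul_apply, ← map_mul, hAc k (hKA hk) z hz, map_mul, MulAut.mul_apply, hw k hk]
  have hnorm : ∀ z ∈ A, z ∉ K → ∀ w ∈ fixd φ K, (∏ i ∈ Finset.range p, φ (z ^ i) w) = 1 := by
    intro z hz hzK w hw
    have h1 : (∏ i ∈ Finset.range p, φ (z ^ i) w) ∈ fixd φ K :=
      Subgroup.prod_mem _ fun i _ => hmove _ (pow_mem hz i) w hw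
    exact (Subgroup.eq_bot_iff_forall _).mp (hbig z hz hzK) _ (fixd_sup h1 (norm_fixed φ (hAe z hz) w))
  have hbK : ∀ j : ℕ, ¬ p ∣ j → ∀ c ∈ A, c ∈ K ⊔ Subgroup.zpowers x → b ^ j * c ∉ K ⊔ Subgroup.zpowers x := by
    intro j hj c _ hc h
    have hbj : b ^ j ∈ K ⊔ Subgroup.zpowers x := by simpa using mul_mem h (inv_mem hc)
    have hcop : (orderOf b).Coprime j :=
      ((hp.out.coprime_iff_not_dvd).mpr hj).coprime_dvd_left (orderOf_dvd_of_pow_eq_one (hAe b hbA))
    obtain ⟨m, hm⟩ := exists_pow_eq_self_of_coprime hcop.symm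
    exact hb (hm ▸ pow_mem hbj m)
  have hb' : ∀ i : ℕ, x * b ^ i ∉ K := by
    intro i h
    by_cases hi : p ∣ i
    · obtain ⟨c, rfl⟩ := hi
      rw [pow_mul, hAe b hbA, one_pow, mul_one] at h
      exact hxK h
    · refine hbK i hi x hx (Subgroup.mem_sup_right (Subgroup.mem_zpowers x)) ?_
      rw [← hAc x hx _ (pow_mem hbA i)]
      exact Subgroup.mem_sup_left h
  have key : ∏ j ∈ Finset.range p, ∏ i ∈ Finset.range p, φ ((x * b ^ i) ^ j) u = 1 := by
    rw [Finset.prod_comm]
    exact Finset.prod_eq_one fun i _ => hnorm _ (mul_mem hx (pow_mem hbA i)) (hb' i) u hu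
  obtain ⟨n, hn⟩ : ∃ n, p = n + 1 := ⟨p - 1, by have := hp.out.pos; omega⟩
  have hrest : ∀ j ∈ Finset.range p, j ≠ 0 → ∏ i ∈ Finset.range p, φ ((x * b ^ i) ^ j) u = 1 := by
    intro j hj hj0
    have hjp : ¬ p ∣ j := fun h => hj0 (Nat.eq_zero_of_dvd_of_lt h (Finset.mem_range.mp hj))
    have hjK : b ^ j ∉ K := fun h => by
      refine hbK j hjp 1 (one_mem A) (one_mem _) ?_
      rw [mul_one]; exact Subgroup.mem_sup_left h
    have h1 := hnorm _ (pow_mem hbA j) hjK (φ (x ^ j) u) (hmove _ (pow_mem hx j) u hu)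
    rw [← h1]
    refine Finset.prod_congr rfl fun i _ => ?_
    rw [← MulAut.mul_apply, ← map_mul, Commute.mul_pow (hAc x hx _ (pow_mem hbA i)),
      ← pow_mul b i j, ← pow_mul b j i, mul_comm i j, hAc (x ^ j) (pow_mem hx j) _ (pow_mem hbA _)]
  rw [Finset.prod_eq_single_of_mem 0 (Finset.mem_range.mpr hp.out.pos) fun j hj hj0 => hrest j hj hj0] at key
  simp only [pow_zero, map_one, MulAut.one_apply, Finset.prod_const, Finset.card_range] at key
  exact hu1 (eq_one_of_pow hW (n := 1) (by rwa [pow_one]))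


section Comp

variable {ι : Type*} [Fintype ι] {φ : H →* MulAut W} {A : Subgroup H} {K : ι → Subgroup H}

/-- Uniqueness of components in fixed spaces of hyperplanes. -/
theorem components_unique (hW : (Nat.card W).Coprime p) (hA : IsPGroup p A)
    (hAc : ∀ x ∈ A, ∀ y ∈ A, x * y = y * x) (hKA : ∀ i, K i ≤ A)
    (hsup : ∀ i j, i ≠ j → K i ⊔ K j = A) (hfix : fixd φ A = ⊥)
    {v v' : ι → W} (hv : ∀ i, v i ∈ fixd φ (K i)) (hv' : ∀ i, v' i ∈ fixd φ (K i))
    (h : ∏ i, v i = ∏ i, v' i) : v = v' := by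
  classical
  funext i
  haveI := Fintype.ofFinite (K i)
  let π : W →* W :=
    { toFun := fun w => ∏ k : K i, φ k w
      map_one' := by simp
      map_mul' := fun a b => by simp [Finset.prod_mul_distrib] }
  have h0 : ∀ w : ι → W, (∀ j, w j ∈ fixd φ (K j)) → π (∏ j, w j) = w i ^ Nat.card (K i) := by
    intro w hw
    rw [map_prod, Finset.prod_eq_single_of_mem i (Finset.mem_univ i)]
    · show ∏ k : K i, φ k (w i) = _
      rw [Finset.prod_congr rfl fun (k : K i) _ => hw i k k.2, Finset.prod_const, Finset.card_univ,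
        Nat.card_eq_fintype_card]
    · intro j _ hj
      have h1 : π (w j) ∈ fixd φ (K i) := fun k hk => by
        show φ k (∏ m : K i, φ m (w j)) = ∏ m : K i, φ m (w j)
        rw [map_prod]
        refine Fintype.prod_equiv (Equiv.mulLeft ⟨k, hk⟩) _ _ fun m => ?_
        simp [MulAut.mul_apply]
      have h2 : π (w j) ∈ fixd φ (K j) := Subgroup.prod_mem _ fun m _ => fun k hk => by
        rw [← MulAut.mul_apply, ← map_mul, hAc k (hKA j hk) m (hKA i m.2), map_mul, MulAut.mul_apply,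
          hw j k hk]
      have h3 := fixd_sup h1 h2
      rw [hsup i j (Ne.symm hj)] at h3
      exact (Subgroup.eq_bot_iff_forall _).mp hfix _ h3
  obtain ⟨n, hn⟩ := IsPGroup.iff_card.mp (hA.to_le (hKA i))
  have h1 := congrArg π h
  rw [h0 v hv, h0 v' hv', hn] at h1
  exact mul_inv_eq_one.mp (eq_one_of_pow hW (n := n) (by rw [mul_pow, inv_pow, h1, mul_inv_cancel]))

/-- An element fixing a sum of components permutes them. -/
theorem components_perm (hW : (Nat.card W).Coprime p) (hA : IsPGroup p A)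
    (hAc : ∀ x ∈ A, ∀ y ∈ A, x * y = y * x) (hKA : ∀ i, K i ≤ A)
    (hsup : ∀ i j, i ≠ j → K i ⊔ K j = A) (hfix : fixd φ A = ⊥)
    {v : ι → W} (hv : ∀ i, v i ∈ fixd φ (K i)) {g : H} (σ : ι ≃ ι)
    (hσ : ∀ i, K (σ i) = MulAut.conj g • K i) (hg : φ g (∏ i, v i) = ∏ i, v i) (i : ι) :
    φ g (v i) = v (σ i) := by
  have h := components_unique hW hA hAc hKA hsup hfix (v := fun j => φ g (v (σ.symm j))) (v' := v)
    (fun j => by
      have := map_fixd φ (K (σ.symm j)) g
      rw [← hσ, σ.apply_symm_apply] at this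
      rw [← this]
      exact ⟨_, hv _, rfl⟩) hv
    (by rw [Equiv.prod_comp σ.symm (fun j => φ g (v j)), ← map_prod, hg])
  simpa using congrFun h (σ i)

end Comp

/-- The restriction of an action to an invariant subgroup. -/
def resAct (φ : H →* MulAut W) (U : Subgroup W) (hU : ∀ h, ∀ u ∈ U, φ h u ∈ U) : H →* MulAut U where
  toFun h :=
    { toFun := fun u => ⟨φ h u, hU h u u.2⟩
      invFun := fun u => ⟨φ h⁻¹ u, hU h⁻¹ u u.2⟩
      left_inv := fun u => Subtype.ext (by simp)
      right_inv := fun u => Subtype.ext (by simp)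
      map_mul' := fun a b => Subtype.ext (map_mul _ _ _) }
  map_one' := MulEquiv.ext fun u => Subtype.ext (by simp)
  map_mul' a b := MulEquiv.ext fun u => Subtype.ext (by simp)

theorem invariant_map (φ : H →* MulAut W) (U : Subgroup W) (hU : ∀ h, ∀ u ∈ U, φ h u ∈ U) (h : H) :
    U.map ((φ h : W ≃* W) : W →* W) = U := by
  refine le_antisymm ?_ fun u hu => ⟨φ h⁻¹ u, hU _ u hu, by simp⟩
  rintro _ ⟨u, hu, rfl⟩
  exact hU h u hu

/-- The action on the quotient by an invariant subgroup. -/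
def quotAct (φ : H →* MulAut W) (U : Subgroup W) (hU : ∀ h, ∀ u ∈ U, φ h u ∈ U) : H →* MulAut (W ⧸ U) where
  toFun h := QuotientGroup.congr U U (φ h) (invariant_map φ U hU h)
  map_one' := MulEquiv.ext fun x => by
    induction x using QuotientGroup.induction_on with
    | _ w => simp
  map_mul' a b := MulEquiv.ext fun x => by
    induction x using QuotientGroup.induction_on with
    | _ w => simp

end Act

section Struct

variable {H : Type*} [Group H] [Finite H] {p : ℕ} [hp : Fact p.Prime]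

theorem conj_pow_formula {b x y c : H} (h1 : b * x * b⁻¹ = y * x) (h2 : b * y * b⁻¹ = c * y)
    (h3 : b * c * b⁻¹ = c) (h4 : y * c = c * y) (i : ℕ) :
    b ^ i * x * (b ^ i)⁻¹ = c ^ i.choose 2 * y ^ i * x := by
  induction i with
  | zero => simp
  | succ i ih =>
    have hcy : Commute c y := h4.symm
    calc b ^ (i + 1) * x * (b ^ (i + 1))⁻¹ = b * (b ^ i * x * (b ^ i)⁻¹) * b⁻¹ := by rw [pow_succ']; group
      _ = (b * c * b⁻¹) ^ i.choose 2 * (b * y * b⁻¹) ^ i * (b * x * b⁻¹) := by rw [ih, conj_pow, conj_pow]; group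
      _ = _ := by
        rw [h1, h2, h3, hcy.mul_pow, Nat.choose_succ_succ, Nat.choose_one_right, ← mul_assoc (c ^ _) (c ^ i),
          ← pow_add, pow_succ y i, add_comm i]
        simp only [mul_assoc]

theorem choose_two_dvd (hp2 : p ≠ 2) : p ∣ p.choose 2 :=
  hp.out.dvd_choose_self (by norm_num) (lt_of_le_of_ne hp.out.two_le (Ne.symm hp2))

theorem mul_pow_class_two {x y c : H} (h : y * x = c * (x * y)) (hx : c * x = x * c) (hy : c * y = y * c)
    (n : ℕ) : (x * y) ^ n = c ^ n.choose 2 * (x ^ n * y ^ n) := by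
  have hk : ∀ k : ℕ, y ^ k * x = c ^ k * (x * y ^ k) := by
    intro k
    induction k with
    | zero => simp
    | succ k ih =>
      calc y ^ (k + 1) * x = y * (y ^ k * x) := by rw [pow_succ', mul_assoc]
        _ = y * c ^ k * (x * y ^ k) := by rw [ih, mul_assoc]
        _ = c ^ k * (y * x) * y ^ k := by rw [(Commute.pow_left (show Commute c y from hy) k).eq.symm]; group
        _ = _ := by rw [h, pow_succ c k, pow_succ' y k]; group
  induction n with
  | zero => simp
  | succ n ih =>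
    have hcx : Commute (c ^ n) (x ^ n) := (show Commute c x from hx).pow_pow n n
    calc (x * y) ^ (n + 1) = c ^ n.choose 2 * (x ^ n * (y ^ n * x) * y) := by rw [pow_succ, ih]; group
      _ = c ^ n.choose 2 * c ^ n * (x ^ n * x * (y ^ n * y)) := by rw [hk, ← mul_assoc (x ^ n) (c ^ n), hcx.eq.symm]; group
      _ = _ := by rw [← pow_add, Nat.choose_succ_succ, Nat.choose_one_right, add_comm, pow_succ, pow_succ]

/-- A normal `p`-subgroup generated by a class of elements of order `p`, without noncyclic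
normal elementary subgroups of the whole group, has exponent `p` and centre of order `p`. -/
theorem extraspecial_shape (hp2 : p ≠ 2) {a : H} (ha : a ^ p = 1) {P : Subgroup H}
    (hP : P = Subgroup.normalClosure ({a} : Set H)) (hPp : IsPGroup p P) (ha1 : a ≠ 1)
    (hno : ∀ A : Subgroup H, A.Normal → A ≤ P → (∀ x ∈ A, ∀ y ∈ A, x * y = y * x) → (∀ x ∈ A, x ^ p = 1) →
      Nat.card A ≤ p) :
    (∀ x ∈ P, x ^ p = 1) ∧ Nat.card (P ⊓ Subgroup.centralizer (P : Set H) : Subgroup H) = p ∧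
      ∀ x ∈ P, ∀ y ∈ P, ⁅x, y⁆ ∈ P ⊓ Subgroup.centralizer (P : Set H) := by
  classical
  haveI hPn : P.Normal := hP ▸ Subgroup.normalClosure_normal
  set C := P ⊓ Subgroup.centralizer (P : Set H) with hC
  haveI hCn : C.Normal := Subgroup.normal_inf_normal _ _
  have hCc : ∀ c ∈ C, ∀ x ∈ P, c * x = x * c := fun c hc x hx =>
    (Subgroup.mem_centralizer_iff.mp hc.2 x hx).symm
  let Z0 : Subgroup H :=
    { carrier := {c | c ∈ C ∧ c ^ p = 1}
      one_mem' := ⟨one_mem C, one_pow p⟩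
      mul_mem' := fun {a b} ha hb => ⟨mul_mem ha.1 hb.1, by
        rw [Commute.mul_pow (hCc a ha.1 b hb.1.1), ha.2, hb.2, one_mul]⟩
      inv_mem' := fun {a} ha => ⟨inv_mem ha.1, by rw [inv_pow, ha.2, inv_one]⟩ }
  have hZ0C : Z0 ≤ C := fun c hc => hc.1
  haveI hZ0n : Z0.Normal := ⟨fun c hc g => ⟨hCn.conj_mem c hc.1 g, by rw [conj_pow, hc.2]; group⟩⟩
  have hP1 : a ∈ P := hP ▸ Subgroup.subset_normalClosure rfl
  have hCne : C ≠ ⊥ := by
    haveI : Nontrivial P := ⟨⟨⟨a, hP1⟩, 1, fun h => ha1 (congrArg Subtype.val h)⟩⟩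
    haveI := hPp.center_nontrivial
    obtain ⟨z, hz⟩ := exists_ne (1 : Subgroup.center P)
    intro h
    refine hz (Subtype.ext (Subtype.ext ((Subgroup.eq_bot_iff_forall _).mp h _ ⟨(z : P).2, ?_⟩)))
    exact Subgroup.mem_centralizer_iff.mpr fun x hx => congrArg Subtype.val (Subgroup.mem_center_iff.mp z.2 ⟨x, hx⟩)
  have hZ0card : Nat.card Z0 = p := by
    obtain ⟨m, hm⟩ := IsPGroup.iff_card.mp (hPp.to_le (inf_le_left : C ≤ P))
    have h1 : Nat.card C ≠ 1 := fun h => hCne (Subgroup.eq_bot_of_card_eq _ h)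
    have hdvd : p ∣ Nat.card C := hm ▸ dvd_pow_self p (fun h => h1 (by rw [hm, h, pow_zero]))
    obtain ⟨z, hz⟩ := exists_prime_orderOf_dvd_card' p hdvd
    have hzo : orderOf (z : H) = p := by rw [Subgroup.orderOf_coe, hz]
    refine le_antisymm (hno Z0 hZ0n (hZ0C.trans inf_le_left) (fun x hx y hy => hCc x hx.1 y hy.1.1) fun x hx => hx.2) ?_
    rw [← hzo, ← Nat.card_zpowers]
    exact Subgroup.card_le_of_le (Subgroup.zpowers_le.mpr ⟨z.2, hzo ▸ pow_orderOf_eq_one _⟩)
  have hab : ∀ A : Subgroup H, A.Normal → A ≤ P → (∀ x ∈ A, ∀ y ∈ A, x * y = y * x) →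
      ∀ x ∈ A, x ^ p = 1 → x ∈ Z0 := by
    intro A hA hAP hAc x hx hxp
    let E : Subgroup H :=
      { carrier := {w | ∃ y z, (y ∈ A ∧ y ^ p = 1) ∧ z ∈ Z0 ∧ y * z = w}
        one_mem' := ⟨1, 1, ⟨one_mem A, one_pow p⟩, one_mem Z0, one_mul 1⟩
        mul_mem' := by
          rintro _ _ ⟨y, z, ⟨hy, hyp⟩, hz, rfl⟩ ⟨y', z', ⟨hy', hyp'⟩, hz', rfl⟩
          refine ⟨y * y', z * z', ⟨mul_mem hy hy', by rw [Commute.mul_pow (hAc y hy y' hy'), hyp, hyp', one_mul]⟩,
            mul_mem hz hz', ?_⟩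
          rw [mul_assoc, ← mul_assoc y' z, ← hCc z hz.1 y' (hAP hy')]; simp only [mul_assoc]
        inv_mem' := by
          rintro _ ⟨y, z, ⟨hy, hyp⟩, hz, rfl⟩
          exact ⟨y⁻¹, z⁻¹, ⟨inv_mem hy, by rw [inv_pow, hyp, inv_one]⟩, inv_mem hz, by
            rw [mul_inv_rev, ← hCc z⁻¹ (inv_mem hz.1) y⁻¹ (inv_mem (hAP hy))]⟩ }
    have hEn : E.Normal := ⟨by
      rintro _ ⟨y, z, ⟨hy, hyp⟩, hz, rfl⟩ g
      exact ⟨g * y * g⁻¹, g * z * g⁻¹, ⟨hA.conj_mem y hy g, by rw [conj_pow, hyp]; group⟩, hZ0n.conj_mem z hz g, by group⟩⟩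
    have hEle : E ≤ P := by
      rintro _ ⟨y, z, ⟨hy, -⟩, hz, rfl⟩; exact mul_mem (hAP hy) hz.1.1
    have hEc : ∀ u ∈ E, ∀ v ∈ E, u * v = v * u := by
      rintro _ ⟨y, z, ⟨hy, -⟩, hz, rfl⟩ _ ⟨y', z', ⟨hy', -⟩, hz', rfl⟩
      have e1 : Commute y y' := hAc y hy y' hy'
      have e2 : Commute z y' := hCc z hz.1 y' (hAP hy')
      have e3 : Commute z' y := hCc z' hz'.1 y (hAP hy)
      have e4 : Commute z z' := hCc z hz.1 z' hz'.1.1
      exact ((e1.mul_right e3.symm).mul_left (e2.mul_right e4)).eq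
    have hEe : ∀ u ∈ E, u ^ p = 1 := by
      rintro _ ⟨y, z, ⟨hy, hyp⟩, hz, rfl⟩
      rw [Commute.mul_pow (hCc z hz.1 y (hAP hy)).symm, hyp, hz.2, one_mul]
    have hle : Z0 ≤ E := fun z hz => ⟨1, z, ⟨one_mem A, one_pow p⟩, hz, one_mul z⟩
    rw [Subgroup.eq_of_le_of_card_ge hle (hZ0card.symm ▸ hno E hEn hEle hEc hEe)]
    exact ⟨x, 1, ⟨hx, hxp⟩, one_mem _, mul_one x⟩
  -- the subgroup of elements with commutators in `Z0`
  have hkey : ∀ M : Subgroup H, M.Normal → M ≤ P → (∀ x ∈ M, ∀ b : H, b ∈ P → b ^ p = 1 → ⁅b, x⁆ ∈ Z0) →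
      ⁅P, M⁆ ≤ Z0 := by
    intro M hM hMP h
    let T : Subgroup H :=
      { carrier := {g | ∀ x ∈ M, ⁅g, x⁆ ∈ Z0}
        one_mem' := fun x hx => by simp
        mul_mem' := fun {g g'} hg hg' x hx => by
          rw [show ⁅g * g', x⁆ = g * ⁅g', x⁆ * g⁻¹ * ⁅g, x⁆ by simp only [commutatorElement_def]; group]
          exact mul_mem (hZ0n.conj_mem _ (hg' x hx) g) (hg x hx)
        inv_mem' := fun {g} hg x hx => by
          rw [show ⁅g⁻¹, x⁆ = g⁻¹ * ⁅g, x⁆⁻¹ * g⁻¹⁻¹ by simp only [commutatorElement_def]; group]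
          exact hZ0n.conj_mem _ (inv_mem (hg x hx)) _ }
    have hT : P ≤ T := by
      conv_lhs => rw [hP]
      rw [Subgroup.normalClosure, Subgroup.closure_le]
      intro g hg x hx
      obtain ⟨j, hj, hconj⟩ := Group.mem_conjugatesOfSet_iff.mp hg
      rw [Set.mem_singleton_iff] at hj; subst hj
      obtain ⟨t, rfl⟩ := isConj_iff.mp hconj
      exact h x hx _ (hPn.conj_mem _ hP1 t) (by rw [conj_pow, ha]; group)
    exact Subgroup.commutator_le.mpr fun g hg x hx => hT hg x hx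
  -- class at most two
  have hcl : ⁅P, P⁆ ≤ C := by
    by_contra hno'
    obtain ⟨M, hMmem, hmin⟩ := (Set.toFinite {M : Subgroup H | M.Normal ∧ M ≤ P ∧ ¬ ⁅P, M⁆ ≤ C}).exists_minimal
      ⟨P, hPn, le_rfl, hno'⟩
    obtain ⟨hMn, hMP, hM⟩ := hMmem
    haveI := hMn
    set N := ⁅P, M⁆ with hN
    haveI : Group.IsNilpotent P := hPp.isNilpotent
    have hNn : N.Normal := Subgroup.commutator_normal P M
    have hNP : N ≤ P := Subgroup.commutator_le_left P M
    have hNM : N < M := by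
      rw [hN, Subgroup.commutator_comm]
      exact Coprime.commutator_lt_of_isNilpotent hMP le_rfl Subgroup.le_normalizer_of_normal
        (fun h => hM (by show ⁅P, M⁆ ≤ C; rw [h, Subgroup.commutator_bot_right]; exact bot_le))
    have hNC : ⁅P, N⁆ ≤ C := by
      by_contra h
      exact hNM.not_ge (hmin ⟨hNn, hNP, h⟩ hNM.le)
    have h1 : ⁅⁅P, N⁆, P⁆ = ⊥ := by
      rw [eq_bot_iff, Subgroup.commutator_le]
      intro c hc x hx
      rw [Subgroup.mem_bot, commutatorElement_eq_one_iff_commute]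
      exact hCc c (hNC hc) x hx
    have h2 : ⁅⁅P, P⁆, N⁆ = ⊥ :=
      Subgroup.commutator_commutator_eq_bot_of_rotate h1 (by rw [Subgroup.commutator_comm N P]; exact h1)
    have hNc : ∀ x ∈ N, ∀ y ∈ N, x * y = y * x := fun x hx y hy => by
      have : ⁅x, y⁆ ∈ (⊥ : Subgroup H) := h2 ▸ Subgroup.commutator_mem_commutator (Subgroup.commutator_mono le_rfl hMP hx) hy
      exact (commutatorElement_eq_one_iff_commute.mp (Subgroup.mem_bot.mp this)).eq
    refine hM ((hkey M hMn hMP fun x hx b hb hbp => hab N hNn hNP hNc _ (Subgroup.commutator_mem_commutator hb hx) ?_).trans hZ0C)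
    set y := ⁅b, x⁆ with hy
    have hyN : y ∈ N := Subgroup.commutator_mem_commutator hb hx
    set c := ⁅b, y⁆ with hcdef
    have hcC : c ∈ C := hNC (Subgroup.commutator_mem_commutator hb hyN)
    have e1 : b * x * b⁻¹ = y * x := by rw [hy, commutatorElement_def]; group
    have e2 : b * y * b⁻¹ = c * y := by rw [hcdef, commutatorElement_def]; group
    have e3 : b * c * b⁻¹ = c := by rw [← hCc c hcC b hb, mul_inv_cancel_right]
    have e4 : y * c = c * y := (hCc c hcC y (hNP hyN)).symm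
    have e5 := conj_pow_formula e1 e2 e3 e4 p
    rw [hbp, one_mul, inv_one, mul_one, right_eq_mul, mul_eq_one_iff_inv_eq] at e5
    have hyC : y ^ p ∈ C := e5 ▸ inv_mem (pow_mem hcC _)
    have h6 : b * y ^ p * b⁻¹ = y ^ p := by rw [← hCc _ hyC b hb, mul_inv_cancel_right]
    have h7 : b * y ^ p * b⁻¹ = (c * y) ^ p := by rw [← conj_pow, e2]
    rw [h6, Commute.mul_pow (show Commute c y from e4.symm)] at h7
    have hcp : c ^ p = 1 := mul_eq_right.mp h7.symm
    obtain ⟨t, ht⟩ := choose_two_dvd (p := p) hp2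
    rw [← e5, ht, pow_mul, hcp, one_pow, inv_one]
  have hPP : ⁅P, P⁆ ≤ Z0 := hkey P hPn le_rfl fun x hx b hb hbp => by
    have hyC : ⁅b, x⁆ ∈ C := hcl (Subgroup.commutator_mem_commutator hb hx)
    refine ⟨hyC, ?_⟩
    set y := ⁅b, x⁆ with hy
    have e1 : b * x * b⁻¹ = y * x := by rw [hy, commutatorElement_def]; group
    have e2 : b * y * b⁻¹ = 1 * y := by rw [← hCc y hyC b hb, mul_inv_cancel_right, one_mul]
    have e5 := conj_pow_formula e1 e2 (by group) (by simp) p
    rwa [hbp, one_mul, inv_one, mul_one, one_pow, one_mul, right_eq_mul] at e5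
  -- exponent
  have hexp : ∀ x ∈ P, x ^ p = 1 := by
    let T : Subgroup H :=
      { carrier := {x | x ∈ P ∧ x ^ p = 1}
        one_mem' := ⟨one_mem P, one_pow p⟩
        inv_mem' := fun {x} hx => ⟨inv_mem hx.1, by rw [inv_pow, hx.2, inv_one]⟩
        mul_mem' := fun {x y} hx hy => ⟨mul_mem hx.1 hy.1, by
          have hc : ⁅y, x⁆ ∈ Z0 := hPP (Subgroup.commutator_mem_commutator hy.1 hx.1)
          obtain ⟨t, ht⟩ := choose_two_dvd (p := p) hp2
          rw [mul_pow_class_two (c := ⁅y, x⁆) (by rw [commutatorElement_def]; group) (hCc _ hc.1 x hx.1) (hCc _ hc.1 y hy.1) p,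
            hx.2, hy.2, ht, pow_mul, hc.2, one_pow, one_mul, one_mul]⟩ }
    intro x hx
    have : P ≤ T := by
      conv_lhs => rw [hP]
      rw [Subgroup.normalClosure, Subgroup.closure_le]
      intro g hg
      obtain ⟨j, hj, hconj⟩ := Group.mem_conjugatesOfSet_iff.mp hg
      rw [Set.mem_singleton_iff] at hj; subst hj
      obtain ⟨t, rfl⟩ := isConj_iff.mp hconj
      exact ⟨hPn.conj_mem _ hP1 t, by rw [conj_pow, ha]; group⟩
    exact (this hx).2
  refine ⟨hexp, ?_, fun x hx y hy => hZ0C (hPP (Subgroup.commutator_mem_commutator hx hy))⟩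
  rw [← hZ0card]
  exact congrArg _ (congrArg _ (le_antisymm (fun c hc => ⟨hc, hexp c hc.1⟩) hZ0C))

end Struct


section Avoid

variable {p : ℕ} [hp : Fact p.Prime]

theorem stab_iff_of_orbit {H : Type*} [Group H] {K : Subgroup H} {g x : H} :
    MulAut.conj g • (MulAut.conj x • K) = MulAut.conj x • K ↔ MulAut.conj (x⁻¹ * g * x) • K = K := by
  constructor
  · intro h
    have := congrArg (fun L => MulAut.conj x⁻¹ • L) h
    simp only [← mul_smul, ← map_mul] at this
    rw [inv_mul_cancel, map_one, one_smul] at this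
    simpa [mul_assoc] using this
  · intro h
    conv_rhs => rw [← h]
    simp only [← mul_smul, ← map_mul]
    group

/-- The final case: the group acting is (nearly) extraspecial of exponent `p`. -/
theorem avoid_extraspecial {H : Type*} [Group H] [Finite H] {W : Type v} [CommGroup W] [Finite W]
    (φ : H →* MulAut W) (hp2 : p ≠ 2) (hW : (Nat.card W).Coprime p) [Nontrivial W]
    {P : Subgroup H} (hexp : ∀ x ∈ P, x ^ p = 1)
    (hZcard : Nat.card (P ⊓ Subgroup.centralizer (P : Set H) : Subgroup H) = p)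
    (hPP : ∀ x ∈ P, ∀ y ∈ P, ⁅x, y⁆ ∈ P ⊓ Subgroup.centralizer (P : Set H))
    (hfix : fixd φ (P ⊓ Subgroup.centralizer (P : Set H)) = ⊥) :
    ∃ w : W, ∀ g ∈ P, φ g w = w → g = 1 := by
  classical
  set Z := P ⊓ Subgroup.centralizer (P : Set H) with hZ
  haveI : Fact (Nat.card Z).Prime := ⟨hZcard.symm ▸ hp.out⟩
  have hZc : ∀ c ∈ Z, ∀ x ∈ P, c * x = x * c := fun c hc x hx =>
    (Subgroup.mem_centralizer_iff.mp hc.2 x hx).symm
  have hmeet : ∀ L : Subgroup H, fixd φ L ≠ ⊥ → ∀ c ∈ Z, c ∈ L → c = 1 := by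
    intro L hL c hc hcL
    by_contra h1
    apply hL
    rw [← le_bot_iff, ← hfix]
    intro w hw k hk
    have := mem_zpowers_of_prime_card (G := Z) (p := p) hZcard (g := ⟨c, hc⟩) (g' := ⟨k, hk⟩)
      (fun e => h1 (congrArg Subtype.val e))
    obtain ⟨j, hj⟩ := Subgroup.mem_zpowers_iff.mp this
    exact hw k (by
      have e : c ^ j = k := congrArg Subtype.val hj
      rw [← e]; exact zpow_mem hcL j)
  obtain ⟨M, ⟨hZM, hMP, hMc⟩, hmax⟩ := (Set.toFinite {M : Subgroup H | Z ≤ M ∧ M ≤ P ∧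
    ∀ x ∈ M, ∀ y ∈ M, x * y = y * x}).exists_maximal ⟨Z, le_rfl, inf_le_left, fun x hx y hy => hZc x hx y hy.1⟩
  have hself : ∀ g ∈ P, (∀ m ∈ M, g * m = m * g) → g ∈ M := by
    intro g hg hgc
    by_contra hgM
    let M' : Subgroup H := Subgroup.closure ((M : Set H) ∪ {g})
    have hle : M' ≤ P := (Subgroup.closure_le P).mpr (Set.union_subset hMP (Set.singleton_subset_iff.mpr hg))
    haveI hM'c : IsMulCommutative M' := Subgroup.isMulCommutative_closure (by
      rintro x (hx | hx) y (hy | hy)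
      · exact hMc x hx y hy
      · rw [Set.mem_singleton_iff] at hy; subst hy; exact (hgc x hx).symm
      · rw [Set.mem_singleton_iff] at hx; subst hx; exact hgc y hy
      · rw [Set.mem_singleton_iff] at hx hy; rw [hx, hy])
    exact hgM (hmax ⟨hZM.trans (Set.subset_union_left.trans Subgroup.subset_closure), hle,
      fun x hx y hy => congrArg Subtype.val (hM'c.is_comm.comm (⟨x, hx⟩ : M') ⟨y, hy⟩)⟩
      (Set.subset_union_left.trans Subgroup.subset_closure) (Subgroup.subset_closure (Or.inr rfl)))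
  have hMn : ∀ y ∈ P, ∀ m ∈ M, y * m * y⁻¹ ∈ M := fun y hy m hm => by
    rw [show y * m * y⁻¹ = ⁅y, m⁆ * m by rw [commutatorElement_def]; group]
    exact mul_mem (hZM (hPP y hy m (hMP hm))) hm
  have hMsmul : ∀ y ∈ P, MulAut.conj y • M = M := fun y hy => by
    refine le_antisymm ?_ fun m hm => ?_
    · rintro _ ⟨m, hm, rfl⟩; exact hMn y hy m hm
    · refine ⟨y⁻¹ * m * y, by simpa using hMn y⁻¹ (inv_mem hy) m hm, ?_⟩
      show y * (y⁻¹ * m * y) * y⁻¹ = m
      group
  have hfixM : fixd φ M = ⊥ := le_bot_iff.mp (hfix ▸ fun w hw k hk => hw k (hZM hk))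
  by_cases hPM : P ≤ M
  · obtain ⟨w, hw⟩ := exists_ne (1 : W)
    refine ⟨w, fun g hg hgw => ?_⟩
    refine hmeet (Subgroup.zpowers g) (fun h => hw ((Subgroup.eq_bot_iff_forall _).mp h w
      (fixes_zpowers φ hgw))) g ⟨hg, ?_⟩ (Subgroup.mem_zpowers g)
    exact Subgroup.mem_centralizer_iff.mpr fun x hx => hMc x (hPM hx) g (hPM hg)
  obtain ⟨y0, hy0, hy0M⟩ := SetLike.not_le_iff_exists.mp hPM
  obtain ⟨K0, hK0M, hK0, hK0ne, hmx⟩ := exists_hyperplane φ hW hMc (fun x hx => hexp x (hMP hx)) hfixM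
  obtain ⟨z, hz, hz1⟩ : ∃ z ∈ Z, z ≠ 1 := by
    by_contra! h
    have := hZcard
    rw [(Subgroup.eq_bot_iff_forall _).mpr h, Subgroup.card_bot] at this
    exact hp.out.one_lt.ne this
  have hK0z : K0 ⊔ Subgroup.zpowers z = M := hmx z (hZM hz) (fun h => hz1 (hmeet K0 hK0 z hz h))
  -- stabilizer of `K0`
  have hnormK : ∀ x ∈ P, MulAut.conj x • K0 = K0 ↔ x ∈ M := by
    intro x hx
    constructor
    · intro h
      refine hself x hx fun m hm => ?_
      have hle : K0 ⊔ Subgroup.zpowers z ≤ Subgroup.centralizer ({x} : Set H) := by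
        refine sup_le (fun k hk => ?_) (Subgroup.zpowers_le.mpr ?_)
        · have hk' : x * k * x⁻¹ ∈ K0 := h ▸ ⟨k, hk, rfl⟩
          have hc : ⁅x, k⁆ ∈ K0 := by rw [commutatorElement_def]; exact mul_mem hk' (inv_mem hk)
          have hc1 := hmeet K0 hK0 _ (hPP x hx k (hMP (hK0M hk))) hc
          rw [Subgroup.mem_centralizer_singleton_iff]
          exact ((commutatorElement_eq_one_iff_commute.mp hc1).eq).symm
        · rw [Subgroup.mem_centralizer_singleton_iff]; exact hZc z hz x hx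
      exact (Subgroup.mem_centralizer_singleton_iff.mp (hle (hK0z.ge hm))).symm
    · intro hxM
      refine le_antisymm ?_ fun k hk => ?_
      · rintro _ ⟨k, hk, rfl⟩
        show x * k * x⁻¹ ∈ K0
        rwa [hMc x hxM k (hK0M hk), mul_inv_cancel_right]
      · exact ⟨k, hk, by show x * k * x⁻¹ = k; rw [hMc x hxM k (hK0M hk), mul_inv_cancel_right]⟩
  let ι := {K : Subgroup H // ∃ x ∈ P, K = MulAut.conj x • K0}
  haveI : Fintype ι := Fintype.ofFinite ι
  choose r hrP hr using fun i : ι => i.2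
  have hiM : ∀ i : ι, (i : Subgroup H) ≤ M := fun i => by
    rw [hr i, ← hMsmul _ (hrP i)]
    exact Subgroup.pointwise_smul_le_pointwise_smul_iff.mpr hK0M
  have hifix : ∀ i : ι, fixd φ (i : Subgroup H) ≠ ⊥ := fun i h => hK0 (by
    rw [hr i, ← map_fixd] at h
    exact (Subgroup.map_eq_bot_iff_of_injective _ (φ (r i)).injective).mp h)
  have himax : ∀ i : ι, ∀ x ∈ M, x ∉ (i : Subgroup H) → (i : Subgroup H) ⊔ Subgroup.zpowers x = M := by
    intro i x hx hxi
    have hx' : (r i)⁻¹ * x * r i ∈ M := by simpa using hMn _ (inv_mem (hrP i)) x hx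
    have h1 := hmx _ hx' fun h => hxi (by
      rw [hr i]; exact ⟨_, h, by show r i * ((r i)⁻¹ * x * r i) * (r i)⁻¹ = x; group⟩)
    have h2 := congrArg (fun L => MulAut.conj (r i) • L) h1
    simp only [Subgroup.smul_sup, hMsmul _ (hrP i)] at h2
    rw [← hr i] at h2
    convert h2 using 2
    show Subgroup.zpowers x = (Subgroup.zpowers _).map _
    conv_lhs => rw [show x = r i * ((r i)⁻¹ * x * r i) * (r i)⁻¹ by group]
    exact (MonoidHom.map_zpowers (MulAut.conj (r i)).toMonoidHom _).symm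
  have hisup : ∀ i j : ι, i ≠ j → (i : Subgroup H) ⊔ j = M := by
    intro i j hij
    obtain ⟨x, hxj, hxi⟩ : ∃ x ∈ (j : Subgroup H), x ∉ (i : Subgroup H) := by
      by_contra! h
      refine hij (Subtype.ext (Subgroup.eq_of_le_of_card_ge h (le_of_eq ?_)).symm)
      rw [hr i, hr j]
      exact (Nat.card_congr (Subgroup.equivSMul _ K0).toEquiv).symm.trans (Nat.card_congr (Subgroup.equivSMul _ K0).toEquiv)
    refine le_antisymm (sup_le (hiM i) (hiM j)) ?_
    rw [← himax i x (hiM j hxj) hxi]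
    exact sup_le_sup_left (Subgroup.zpowers_le.mpr hxj) _
  let base : ι := ⟨K0, 1, one_mem P, by rw [map_one, one_smul]⟩
  obtain ⟨u0, hu0, hu01⟩ : ∃ u ∈ fixd φ K0, u ≠ 1 := by
    by_contra! h
    exact hK0 ((Subgroup.eq_bot_iff_forall _).mpr h)
  let v : ι → W := fun i => if i = base then 1 else φ (r i) u0
  have hv : ∀ i : ι, v i ∈ fixd φ (i : Subgroup H) := fun i => by
    simp only [v]
    split_ifs
    · exact one_mem _
    · rw [hr i, ← map_fixd]; exact ⟨u0, hu0, rfl⟩
  have hv1 : ∀ i : ι, i ≠ base → v i ≠ 1 := fun i hi h => by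
    simp only [v, if_neg hi] at h
    exact hu01 ((φ (r i)).injective (by rw [h, map_one]))
  refine ⟨∏ i, v i, fun g hg hgw => ?_⟩
  have hclosed : ∀ y ∈ P, ∀ i : ι, ∃ x ∈ P, MulAut.conj y • (i : Subgroup H) = MulAut.conj x • K0 :=
    fun y hy i => ⟨y * r i, mul_mem hy (hrP i), by rw [map_mul, mul_smul, ← hr i]⟩
  let σ : ι ≃ ι :=
    { toFun := fun i => ⟨MulAut.conj g • (i : Subgroup H), hclosed g hg i⟩
      invFun := fun i => ⟨MulAut.conj g⁻¹ • (i : Subgroup H), hclosed _ (inv_mem hg) i⟩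
      left_inv := fun i => Subtype.ext (by simp [← mul_smul])
      right_inv := fun i => Subtype.ext (by simp [← mul_smul]) }
  have hMp : IsPGroup p M := fun m => ⟨1, Subtype.ext (by rw [pow_one]; exact hexp _ (hMP m.2))⟩
  have hperm := components_perm (φ := φ) (K := fun i : ι => (i : Subgroup H)) hW hMp hMc hiM hisup hfixM hv σ
    (fun i => rfl) hgw
  have hbase : σ base = base := by
    by_contra h
    have h1 := hperm base
    simp only [v, if_pos trivial, map_one] at h1
    exact hv1 _ h (by simp only [v]; exact h1.symm)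
  have hgM : g ∈ M := (hnormK g hg).mp (congrArg Subtype.val hbase)
  have hgi : ∀ i : ι, i ≠ base → g ∈ (i : Subgroup H) := by
    intro i hi
    have hσi : σ i = i := by
      refine Subtype.ext ?_
      show MulAut.conj g • (i : Subgroup H) = i
      rw [hr i, stab_iff_of_orbit, hnormK _ (mul_mem (mul_mem (inv_mem (hrP i)) hg) (hrP i))]
      simpa using hMn _ (inv_mem (hrP i)) g hgM
    have h1 := hperm i
    rw [hσi] at h1
    by_contra hni
    refine hv1 i hi ((Subgroup.eq_bot_iff_forall _).mp hfixM _ ?_)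
    rw [← himax i g hgM hni]
    exact fixd_sup (hv i) (fixes_zpowers φ h1)
  have hcomm : ∀ y ∈ P, y ∉ M → g * y = y * g := by
    intro y hy hyM
    have hy2 : y ^ 2 ∉ M := fun h => hyM (by
      have hcop : Nat.Coprime 2 (orderOf y) :=
        ((Nat.coprime_primes Nat.prime_two hp.out).mpr (Ne.symm hp2)).coprime_dvd_right
          (orderOf_dvd_of_pow_eq_one (hexp y hy))
      obtain ⟨m, hm⟩ := exists_pow_eq_self_of_coprime hcop
      exact hm ▸ pow_mem h m)
    let i1 : ι := ⟨MulAut.conj y • K0, y, hy, rfl⟩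
    let i2 : ι := ⟨MulAut.conj (y ^ 2) • K0, y ^ 2, pow_mem hy 2, rfl⟩
    have h1 := hgi i1 (fun h => hyM ((hnormK y hy).mp (congrArg Subtype.val h)))
    have h2 := hgi i2 (fun h => hy2 ((hnormK _ (pow_mem hy 2)).mp (congrArg Subtype.val h)))
    obtain ⟨k, hk, hke⟩ := h1
    have h3 : y * g * y⁻¹ ∈ (i2 : Subgroup H) := ⟨k, hk, by
      show y ^ 2 * k * (y ^ 2)⁻¹ = y * g * y⁻¹
      rw [← hke, pow_two]
      show _ = y * (y * k * y⁻¹) * y⁻¹
      group⟩
    have h4 : ⁅y, g⁆ ∈ (i2 : Subgroup H) := by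
      rw [commutatorElement_def]; exact mul_mem h3 (inv_mem h2)
    exact ((commutatorElement_eq_one_iff_commute.mp (hmeet _ (hifix i2) _ (hPP y hy g hg) h4)).eq).symm
  have hgZ : g ∈ Z := by
    refine ⟨hg, Subgroup.mem_centralizer_iff.mpr fun x hx => ?_⟩
    by_cases hxM : x ∈ M
    · exact hMc x hxM g hgM
    · exact (hcomm x hx hxM).symm
  let i1 : ι := ⟨MulAut.conj y0 • K0, y0, hy0, rfl⟩
  exact hmeet _ (hifix i1) g hgZ (hgi i1 (fun h => hy0M ((hnormK y0 hy0).mp (congrArg Subtype.val h))))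

/-- Some vector is fixed by no conjugate of `a`. -/
theorem exists_avoiding (hp2 : p ≠ 2) : ∀ (n : ℕ) (W : Type v) [CommGroup W] [Finite W] (H : Type v) [Group H]
    [Finite H] (φ : H →* MulAut W), Nat.card W ≤ n → (Nat.card W).Coprime p → ∀ a ∈ Cfsg.pCore p H,
    φ a ≠ 1 → ∃ w : W, ∀ h : H, φ (h * a * h⁻¹) w ≠ w := by
  intro n
  induction n with
  | zero => intro W _ _ H _ _ φ h; exact absurd h (Nat.not_le.mpr Nat.card_pos)
  | succ n IH =>
  intro W _ _ H _ _ φ hn hW a haO hφa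
  classical
  -- an invariant proper subgroup
  by_cases hred : ∃ U : Subgroup W, (∀ h, ∀ u ∈ U, φ h u ∈ U) ∧ U ≠ ⊥ ∧ U ≠ ⊤
  · obtain ⟨U, hU, hUb, hUt⟩ := hred
    have hlt : Nat.card U < Nat.card W := lt_of_le_of_ne (Subgroup.card_le_card_group U) fun h =>
      hUt (Subgroup.eq_top_of_card_eq U h)
    by_cases haU : resAct φ U hU a = 1
    · have hqlt : Nat.card (W ⧸ U) < Nat.card W := by
        have h1 := Subgroup.card_eq_card_quotient_mul_card_subgroup U
        have h2 : 1 < Nat.card U := Subgroup.one_lt_card_iff_ne_bot U |>.mpr hUb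
        have h3 : 0 < Nat.card (W ⧸ U) := Nat.card_pos
        nlinarith
      have haQ : quotAct φ U hU a ≠ 1 := by
        intro h
        apply hφa
        refine MulEquiv.ext fun w => ?_
        obtain ⟨k, hk⟩ := Fitting.pCore_isPGroup p ⟨a, haO⟩
        have hk' : a ^ p ^ k = 1 := congrArg Subtype.val hk
        have h1 : (QuotientGroup.mk (φ a w) : W ⧸ U) = QuotientGroup.mk w := DFunLike.congr_fun h (QuotientGroup.mk w)
        rw [QuotientGroup.eq] at h1
        set c := (φ a w)⁻¹ * w with hc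
        have hac : φ a c = c := congrArg Subtype.val (DFunLike.congr_fun haU (⟨c, h1⟩ : U))
        have e1 : φ a w = w * c⁻¹ := by rw [hc]; simp
        have e2 : ∀ i : ℕ, φ (a ^ i) w = w * c⁻¹ ^ i := by
          intro i
          induction i with
          | zero => simp
          | succ i ih => rw [pow_succ', map_mul, MulAut.mul_apply, ih, map_mul, map_pow, map_inv (φ a) c, hac, e1, pow_succ']; rw [mul_assoc]
        have e3 := e2 (p ^ k)
        rw [hk', map_one, MulAut.one_apply, left_eq_mul] at e3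
        show φ a w = w
        rw [e1, eq_one_of_pow hW e3, mul_one]
      obtain ⟨x, hx⟩ := IH (W ⧸ U) H (quotAct φ U hU) (by omega)
        (hW.coprime_dvd_left (Subgroup.card_quotient_dvd_card U)) a haO haQ
      obtain ⟨w, rfl⟩ := QuotientGroup.mk_surjective x
      exact ⟨w, fun h e => hx h (congrArg QuotientGroup.mk e)⟩
    · obtain ⟨w, hw⟩ := IH U H (resAct φ U hU) (by omega) (hW.coprime_dvd_left (Subgroup.card_subgroup_dvd_card U))
        a haO haU
      exact ⟨w, fun h e => hw h (Subtype.ext e)⟩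
  push Not at hred
  haveI : Nontrivial W := by
    by_contra h
    rw [not_nontrivial_iff_subsingleton] at h
    exact hφa (MulEquiv.ext fun w => Subsingleton.elim _ _)
  -- make the action faithful, `a` of order `p`
  suffices key : ∀ (H : Type v) [Group H] [Finite H] (φ : H →* MulAut W), Function.Injective φ →
      (∀ U : Subgroup W, (∀ h, ∀ u ∈ U, φ h u ∈ U) → U ≠ ⊥ → U = ⊤) → ∀ a ∈ Cfsg.pCore p H,
      a ^ p = 1 → a ≠ 1 → ∃ w : W, ∀ h : H, φ (h * a * h⁻¹) w ≠ w by
    set R := φ.range with hR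
    haveI : Finite (MulAut W) := Finite.of_injective _ DFunLike.coe_injective
    set a' : R := φ.rangeRestrict a with ha'
    have ha'O : a' ∈ Cfsg.pCore p R := by
      refine Fitting.le_pCore ((Fitting.pCore_normal p).map _ φ.rangeRestrict_surjective)
        ((Fitting.pCore_isPGroup p).map _) ⟨a, haO, rfl⟩
    obtain ⟨k, hk⟩ := Fitting.pCore_isPGroup p (⟨a', ha'O⟩ : Cfsg.pCore p R)
    have hk' : a' ^ p ^ k = 1 := congrArg Subtype.val hk
    obtain ⟨j, -, hj⟩ := (Nat.dvd_prime_pow hp.out).mp (orderOf_dvd_of_pow_eq_one hk')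
    have hj0 : j ≠ 0 := fun h => hφa (by
      rw [h, pow_zero, orderOf_eq_one_iff] at hj
      exact congrArg Subtype.val hj)
    obtain ⟨i, rfl⟩ := Nat.exists_eq_succ_of_ne_zero hj0
    obtain ⟨w, hw⟩ := key R R.subtype R.subtype_injective
      (fun U hU => hred U fun h u hu => hU ⟨φ h, h, rfl⟩ u hu) (a' ^ p ^ i) (pow_mem ha'O _)
      (by rw [← pow_mul, ← pow_succ, ← hj, pow_orderOf_eq_one])
      (fun h => by
        have h1 := orderOf_dvd_of_pow_eq_one h
        rw [hj] at h1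
        exact absurd ((Nat.pow_dvd_pow_iff_le_right hp.out.one_lt).mp h1) (by omega))
    refine ⟨w, fun h e => hw (φ.rangeRestrict h) ?_⟩
    show (φ.rangeRestrict h * a' ^ p ^ i * (φ.rangeRestrict h)⁻¹ : R).1 w = w
    rw [← conj_pow, ha', ← map_inv, ← map_mul, ← map_mul, ← map_pow]
    exact fixes_zpowers φ e _ (pow_mem (Subgroup.mem_zpowers _) _)
  intro H _ _ φ hinj hirr a haO hap ha1
  set P := Subgroup.normalClosure ({a} : Set H) with hP
  haveI hPn : P.Normal := Subgroup.normalClosure_normal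
  have hPO : P ≤ Cfsg.pCore p H := by
    haveI := Fitting.pCore_normal (G := H) p
    exact Subgroup.normalClosure_le_normal (Set.singleton_subset_iff.mpr haO)
  have hPp : IsPGroup p P := (Fitting.pCore_isPGroup p).to_le hPO
  have haP : a ∈ P := Subgroup.subset_normalClosure rfl
  -- normal subgroups have no fixed points
  have hfixN : ∀ A : Subgroup H, A.Normal → A ≠ ⊥ → fixd φ A = ⊥ := by
    intro A hA hA1
    by_contra h
    have h1 := hirr (fixd φ A) (fun h u hu => by
      have := map_fixd φ A h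
      rw [Subgroup.Normal.conj_smul_eq_self h A] at this
      rw [← this]; exact ⟨u, hu, rfl⟩) h
    refine hA1 ((Subgroup.eq_bot_iff_forall _).mpr fun x hx => hinj ?_)
    rw [map_one]
    exact MulEquiv.ext fun w => (h1 ▸ Subgroup.mem_top w : w ∈ fixd φ A) x hx
  by_cases hA : ∃ A : Subgroup H, A.Normal ∧ A ≤ P ∧ (∀ x ∈ A, ∀ y ∈ A, x * y = y * x) ∧
      (∀ x ∈ A, x ^ p = 1) ∧ p < Nat.card A
  swap
  · push Not at hA
    obtain ⟨hexp, hZc, hPP⟩ := extraspecial_shape hp2 hap hP hPp ha1 hA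
    haveI : (P ⊓ Subgroup.centralizer (P : Set H)).Normal := Subgroup.normal_inf_normal _ _
    obtain ⟨w, hw⟩ := avoid_extraspecial φ hp2 hW hexp hZc hPP (hfixN _ inferInstance fun h => by
      rw [h, Subgroup.card_bot] at hZc; exact hp.out.one_lt.ne hZc)
    refine ⟨w, fun h e => ha1 ?_⟩
    exact conj_eq_one_iff.mp (hw _ (hPn.conj_mem a haP h) e)
  obtain ⟨A, hAn, hAP, hAc, hAe, hAcard⟩ := hA
  haveI := hAn
  have hA1 : A ≠ ⊥ := fun h => by rw [h, Subgroup.card_bot] at hAcard; exact absurd hp.out.one_lt (by omega)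
  have hfixA := hfixN A hAn hA1
  have hAp : IsPGroup p A := hPp.to_le hAP
  obtain ⟨K1, hK1A, hK1, hK1ne, hmx⟩ := exists_hyperplane φ hW hAc hAe hfixA
  let ι := {K : Subgroup H // ∃ x : H, K = MulAut.conj x • K1}
  haveI : Fintype ι := Fintype.ofFinite ι
  choose r hr using fun i : ι => i.2
  have hAs : ∀ x : H, MulAut.conj x • A = A := fun x => Subgroup.Normal.conj_smul_eq_self x A
  have hiA : ∀ i : ι, (i : Subgroup H) ≤ A := fun i => by
    rw [hr i, ← hAs (r i)]
    exact Subgroup.pointwise_smul_le_pointwise_smul_iff.mpr hK1A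
  have himax : ∀ i : ι, ∀ x ∈ A, x ∉ (i : Subgroup H) → (i : Subgroup H) ⊔ Subgroup.zpowers x = A := by
    intro i x hx hxi
    have hx' : (r i)⁻¹ * x * r i ∈ A := by simpa using hAn.conj_mem x hx (r i)⁻¹
    have h1 := hmx _ hx' fun h => hxi (by
      rw [hr i]; exact ⟨_, h, by show r i * ((r i)⁻¹ * x * r i) * (r i)⁻¹ = x; group⟩)
    have h2 := congrArg (fun L => MulAut.conj (r i) • L) h1
    simp only [Subgroup.smul_sup, hAs] at h2
    rw [← hr i] at h2
    convert h2 using 2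
    show Subgroup.zpowers x = (Subgroup.zpowers _).map _
    conv_lhs => rw [show x = r i * ((r i)⁻¹ * x * r i) * (r i)⁻¹ by group]
    exact (MonoidHom.map_zpowers (MulAut.conj (r i)).toMonoidHom _).symm
  have hisup : ∀ i j : ι, i ≠ j → (i : Subgroup H) ⊔ j = A := by
    intro i j hij
    obtain ⟨x, hxj, hxi⟩ : ∃ x ∈ (j : Subgroup H), x ∉ (i : Subgroup H) := by
      by_contra! h
      refine hij (Subtype.ext (Subgroup.eq_of_le_of_card_ge h (le_of_eq ?_)).symm)
      rw [hr i, hr j]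
      exact (Nat.card_congr (Subgroup.equivSMul _ K1).toEquiv).symm.trans (Nat.card_congr (Subgroup.equivSMul _ K1).toEquiv)
    refine le_antisymm (sup_le (hiA i) (hiA j)) ?_
    rw [← himax i x (hiA j hxj) hxi]
    exact sup_le_sup_left (Subgroup.zpowers_le.mpr hxj) _
  have hicl : ∀ (y : H) (i : ι), ∃ x : H, MulAut.conj y • (i : Subgroup H) = MulAut.conj x • K1 :=
    fun y i => ⟨y * r i, by rw [map_mul, mul_smul, ← hr i]⟩
  let σ : H → ι ≃ ι := fun g =>
    { toFun := fun i => ⟨MulAut.conj g • (i : Subgroup H), hicl g i⟩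
      invFun := fun i => ⟨MulAut.conj g⁻¹ • (i : Subgroup H), hicl g⁻¹ i⟩
      left_inv := fun i => Subtype.ext (by simp [← mul_smul])
      right_inv := fun i => Subtype.ext (by simp [← mul_smul]) }
  have hifix : ∀ i : ι, fixd φ (i : Subgroup H) ≠ ⊥ := fun i h => hK1 (by
    rw [hr i, ← map_fixd] at h
    exact (Subgroup.map_eq_bot_iff_of_injective _ (φ (r i)).injective).mp h)
  choose u hu hu1 using fun i : ι => (show ∃ u ∈ fixd φ (i : Subgroup H), u ≠ 1 by
    by_contra! h
    exact hifix i ((Subgroup.eq_bot_iff_forall _).mpr h))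
  by_cases htriv : ∀ g ∈ P, ∀ i : ι, σ g i = i
  swap
  · letI : MulAction P ι :=
      { smul := fun g i => σ g i
        one_smul := fun i => Subtype.ext (show MulAut.conj ((1 : P) : H) • _ = _ by simp)
        mul_smul := fun a b i => Subtype.ext (show MulAut.conj ((a * b : P) : H) • _ = MulAut.conj (a : H) • MulAut.conj (b : H) • _ by simp [mul_smul]) }
    obtain ⟨f, hf⟩ := exists_colouring (X := ι) hp2 hPp
    let v : ι → W := fun i => if f i then u i else 1
    have hv : ∀ i : ι, v i ∈ fixd φ (i : Subgroup H) := fun i => by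
      simp only [v]; split_ifs
      exacts [hu i, one_mem _]
    refine ⟨∏ i, v i, fun h e => htriv fun g hg => ?_⟩
    have hperm := components_perm (φ := φ) (K := fun i : ι => (i : Subgroup H)) hW hAp hAc hiA hisup hfixA hv
      (σ (h * a * h⁻¹)) (fun i => rfl) e
    have hfpres : ∀ i, f (σ (h * a * h⁻¹) i) = f i := fun i => by
      have h1 := hperm i
      simp only [v] at h1
      by_cases c1 : f i = true <;> by_cases c2 : f (σ (h * a * h⁻¹) i) = true
      · rw [c1, c2]
      · rw [if_pos c1, if_neg c2] at h1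
        exact absurd ((φ _).injective (h1.trans (map_one _).symm)) (hu1 i)
      · rw [if_neg c1, if_pos c2, map_one] at h1
        exact absurd h1.symm (hu1 _)
      · rw [Bool.not_eq_true] at c1 c2; rw [c1, c2]
    have hgfix := hf ⟨_, hPn.conj_mem a haP h⟩ hfpres
    -- the kernel is normal
    let R : Subgroup H :=
      { carrier := {x | ∀ i : ι, σ x i = i}
        one_mem' := fun i => Subtype.ext (show MulAut.conj (1 : H) • _ = _ by simp)
        mul_mem' := fun {a b} ha hb i => Subtype.ext (by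
          show MulAut.conj (a * b) • (i : Subgroup H) = i
          rw [map_mul, mul_smul, congrArg Subtype.val (hb i) |> fun e => (e : MulAut.conj b • (i : Subgroup H) = i)]
          exact congrArg Subtype.val (ha i))
        inv_mem' := fun {a} ha i => Subtype.ext (by
          show MulAut.conj a⁻¹ • (i : Subgroup H) = i
          rw [map_inv, inv_smul_eq_iff]
          exact (congrArg Subtype.val (ha i)).symm) }
    have hRn : R.Normal := ⟨fun x hx y i => Subtype.ext (by
      have h1 := congrArg Subtype.val (hx (σ y⁻¹ i))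
      show MulAut.conj (y * x * y⁻¹) • (i : Subgroup H) = i
      rw [map_mul, map_mul, mul_smul, mul_smul]
      exact (congrArg (MulAut.conj y • ·) h1).trans (by
        show MulAut.conj y • MulAut.conj y⁻¹ • (i : Subgroup H) = i
        simp [← mul_smul]))⟩
    have haR : a ∈ R := by
      have := hRn.conj_mem _ (show h * a * h⁻¹ ∈ R from hgfix) h⁻¹
      simpa [mul_assoc] using this
    exact (Subgroup.normalClosure_le_normal (N := R) (Set.singleton_subset_iff.mpr haR)) hg
  -- every component is invariant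
  have hex : ∃ i : ι, ∃ w ∈ fixd φ (i : Subgroup H), φ a w ≠ w := by
    by_contra! h
    let T := ⨆ i : ι, fixd φ (i : Subgroup H)
    have hT : T = ⊤ := hirr T (fun y u hu => by
      have h1 : T.map (φ y).toMonoidHom ≤ T := by
        rw [Subgroup.map_iSup]
        refine iSup_le fun i => ?_
        rw [map_fixd]
        exact le_iSup (fun j : ι => fixd φ (j : Subgroup H)) (σ y i)
      exact h1 ⟨u, hu, rfl⟩) fun hb =>
        hifix ⟨K1, 1, by rw [map_one, one_smul]⟩ (le_bot_iff.mp ((le_iSup (fun j : ι => fixd φ (j : Subgroup H)) _).trans hb.le))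
    refine ha1 (hinj ?_)
    rw [map_one]
    refine MulEquiv.ext fun w => ?_
    have hle : T ≤ (φ a).toMonoidHom.eqLocus (MonoidHom.id W) := iSup_le fun i w hw => h i w hw
    exact hle (hT ▸ Subgroup.mem_top w)
  obtain ⟨i0, w0, hw0, hw0a⟩ := hex
  set U := fixd φ (i0 : Subgroup H)
  let S : Subgroup H :=
    { carrier := {x | MulAut.conj x • (i0 : Subgroup H) = i0}
      one_mem' := by simp
      mul_mem' := fun {a b} ha hb => by
        show MulAut.conj (a * b) • _ = _
        rw [map_mul, mul_smul, show MulAut.conj b • (i0 : Subgroup H) = i0 from hb]; exact ha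
      inv_mem' := fun {a} ha => by
        show MulAut.conj a⁻¹ • _ = _
        rw [map_inv, inv_smul_eq_iff]; exact ha.symm }
  have hPS : P ≤ S := fun g hg => congrArg Subtype.val (htriv g hg i0)
  have hS : ∀ s : S, ∀ w ∈ U, φ s w ∈ U := fun s w hw => by
    have := map_fixd φ (i0 : Subgroup H) (s : H)
    rw [show MulAut.conj (s : H) • (i0 : Subgroup H) = i0 from s.2] at this
    show _ ∈ fixd φ (i0 : Subgroup H)
    rw [← this]; exact ⟨w, hw, rfl⟩
  have hUlt : Nat.card U < Nat.card W := by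
    refine lt_of_le_of_ne (Subgroup.card_le_card_group U) fun h => ?_
    have hUtop : U = ⊤ := Subgroup.eq_top_of_card_eq U h
    have hibot : (i0 : Subgroup H) = ⊥ := (Subgroup.eq_bot_iff_forall _).mpr fun x hx => hinj (by
      rw [map_one]; exact MulEquiv.ext fun w => (hUtop ▸ Subgroup.mem_top w : w ∈ U) x hx)
    obtain ⟨x, hxA, hx1⟩ := SetLike.not_le_iff_exists.mp (show ¬ A ≤ ⊥ from fun h => hA1 (le_bot_iff.mp h))
    have h2 := himax i0 x hxA (fun h => hx1 (hibot ▸ h))
    rw [hibot, bot_sup_eq] at h2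
    rw [← h2, Nat.card_zpowers] at hAcard
    exact absurd hAcard (Nat.not_lt.mpr (Nat.le_of_dvd hp.out.pos (orderOf_dvd_of_pow_eq_one (hAe x hxA))))
  have haS : (⟨a, hPS haP⟩ : S) ∈ Cfsg.pCore p S :=
    Fitting.le_pCore (hPn.subgroupOf S) (hPp.comap_of_injective S.subtype S.subtype_injective) haP
  obtain ⟨⟨u0, hu0⟩, hu0a⟩ := IH U S (resAct (φ.comp S.subtype) U hS) (by omega)
    (hW.coprime_dvd_left (Subgroup.card_subgroup_dvd_card U)) _ haS
    (fun h => hw0a (congrArg Subtype.val (DFunLike.congr_fun h (⟨w0, hw0⟩ : U))))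
  choose q hq using fun i : ι => (show ∃ x : H, (i : Subgroup H) = MulAut.conj x • (i0 : Subgroup H) from
    ⟨r i * (r i0)⁻¹, by
      rw [map_mul, mul_smul, map_inv, hr i0, inv_smul_smul]; exact hr i⟩)
  let v : ι → W := fun i => φ (q i) u0
  have hv : ∀ i : ι, v i ∈ fixd φ (i : Subgroup H) := fun i => by
    rw [hq i, ← map_fixd]; exact ⟨u0, hu0, rfl⟩
  refine ⟨∏ i, v i, fun h e => ?_⟩
  have hperm := components_perm (φ := φ) (K := fun i : ι => (i : Subgroup H)) hW hAp hAc hiA hisup hfixA hv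
    (σ (h * a * h⁻¹)) (fun i => rfl) e (σ h i0)
  rw [htriv _ (hPn.conj_mem a haP h)] at hperm
  -- pull back to the stabilizer
  set m := h⁻¹ * q (σ h i0) with hm
  have hmS : m ∈ S := by
    show MulAut.conj (h⁻¹ * q (σ h i0)) • (i0 : Subgroup H) = i0
    rw [map_mul, mul_smul, ← hq, map_inv]
    exact inv_smul_smul _ _
  refine hu0a (⟨m, hmS⟩⁻¹ : S) (Subtype.ext ?_)
  show φ (m⁻¹ * a * m⁻¹⁻¹) u0 = u0
  have h1 : φ (h * a * h⁻¹) (φ (q (σ h i0)) u0) = φ (q (σ h i0)) u0 := hperm
  apply (φ (q (σ h i0))).injective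
  conv_rhs => rw [← h1]
  rw [← MulAut.mul_apply, ← map_mul, ← MulAut.mul_apply, ← map_mul, hm]
  congr 2
  group

end Avoid

theorem exists_abelian_normal' {H : Type*} [Group H] [Finite H] [Nontrivial H] (hs : Group.IsSolvable H) :
    ∃ M : Subgroup H, M.Normal ∧ M ≠ ⊥ ∧ ∀ a ∈ M, ∀ b ∈ M, Commute a b := by
  classical
  have hex : ∃ n, derivedSeries H n = ⊥ := hs.solvable
  rcases Nat.eq_zero_or_pos (Nat.find hex) with h0 | h0
  · have := Nat.find_spec hex
    rw [h0, derivedSeries_zero] at this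
    exact absurd this top_ne_bot
  · refine ⟨derivedSeries H (Nat.find hex - 1), derivedSeries_normal H _,
      Nat.find_min hex (by omega), fun a ha b hb => ?_⟩
    have h1 : ⁅a, b⁆ ∈ derivedSeries H (Nat.find hex - 1 + 1) := by
      rw [derivedSeries_succ]
      exact Subgroup.commutator_mem_commutator ha hb
    rw [show Nat.find hex - 1 + 1 = Nat.find hex by omega, Nat.find_spec hex, Subgroup.mem_bot] at h1
    exact commutatorElement_eq_one_iff_commute.1 h1

theorem result_aux {p : ℕ} [Fact p.Prime] (hp : p ≠ 2) : ∀ (n : ℕ) (G : Type u) [Group G] [Finite G],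
    Nat.card G ≤ n → Group.IsSolvable G → ∀ A : Subgroup G, IsPGroup p A →
    (∀ c : G, ∃ g : G, IsConj c g ∧ (A.subgroupOf (A ⊔ MulAut.conj g • A)).IsSubnormal) →
    A ≤ Cfsg.pCore p G := by
  intro n
  induction n with
  | zero => intro G _ _ h; exact absurd h (Nat.not_le.mpr Nat.card_pos)
  | succ n IH =>
  intro G _ _ hn hG A hA h
  classical
  haveI hOn : (Cfsg.pCore p G).Normal := Fitting.pCore_normal p
  set O := Cfsg.pCore p G with hO
  by_cases hO1 : O ≠ ⊥
  · set π := QuotientGroup.mk' O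
    have hlt : Nat.card (G ⧸ O) ≤ n := by
      have h1 := Subgroup.card_eq_card_quotient_mul_card_subgroup O
      have h2 : 1 < Nat.card O := Subgroup.one_lt_card_iff_ne_bot O |>.mpr hO1
      have h3 : 0 < Nat.card (G ⧸ O) := Nat.card_pos
      nlinarith
    haveI := hG
    have hle := IH (G ⧸ O) hlt (Group.isSolvable_of_surjective (QuotientGroup.mk'_surjective O)) (A.map π)
      (hA.map π) (fun c => by
      obtain ⟨c, rfl⟩ := QuotientGroup.mk'_surjective O c
      obtain ⟨g, hcg, hsn⟩ := h c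
      refine ⟨π g, π.map_isConj hcg, ?_⟩
      set J := A ⊔ MulAut.conj g • A
      have hJ : J.map π = A.map π ⊔ MulAut.conj (π g) • A.map π := by
        rw [Subgroup.map_sup]
        congr 1
        ext x
        constructor
        · rintro ⟨_, ⟨a, ha, rfl⟩, rfl⟩
          exact ⟨π a, ⟨a, ha, rfl⟩, by show π g * π a * (π g)⁻¹ = π (g * a * g⁻¹); simp⟩
        · rintro ⟨_, ⟨a, ha, rfl⟩, rfl⟩
          exact ⟨g * a * g⁻¹, ⟨a, ha, rfl⟩, by show π (g * a * g⁻¹) = π g * π a * (π g)⁻¹; simp⟩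
      rw [← hJ]
      have h1 := hsn.map (f := π.subgroupMap J) (π.subgroupMap_surjective J)
      convert h1 using 1
      ext ⟨x, hx⟩
      constructor
      · rintro ⟨a, ha, e⟩
        exact ⟨⟨a, (le_sup_left : A ≤ J) ha⟩, ha, Subtype.ext e⟩
      · rintro ⟨⟨a, hJa⟩, ha, e⟩
        exact ⟨a, ha, congrArg Subtype.val e⟩)
    have hbot : (Cfsg.pCore p (G ⧸ O)).comap π ≤ O := by
      refine Fitting.le_pCore ((Fitting.pCore_normal p).comap π) ((Fitting.pCore_isPGroup p).comap_of_ker_isPGroup π ?_)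
      rw [QuotientGroup.ker_mk']
      exact Fitting.pCore_isPGroup p
    exact (Subgroup.map_le_iff_le_comap.mp hle).trans hbot
  rw [not_not] at hO1
  intro a0 ha0
  rw [hO1, Subgroup.mem_bot]
  by_contra ha01
  haveI : Nontrivial G := ⟨⟨a0, 1, ha01⟩⟩
  obtain ⟨V, hVn, hV1, hVc⟩ := exists_abelian_normal' hG
  haveI := hVn
  have hVcop : (Nat.card V).Coprime p := by
    refine Nat.Coprime.symm ((Fact.out : p.Prime).coprime_iff_not_dvd.mpr fun hdvd => ?_)
    obtain ⟨z, hz⟩ := exists_prime_orderOf_dvd_card' p hdvd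
    let T : Subgroup G :=
      { carrier := {v | v ∈ V ∧ v ^ p = 1}
        one_mem' := ⟨one_mem V, one_pow p⟩
        mul_mem' := fun {a b} ha hb => ⟨mul_mem ha.1 hb.1, by rw [(hVc a ha.1 b hb.1).mul_pow, ha.2, hb.2, one_mul]⟩
        inv_mem' := fun {a} ha => ⟨inv_mem ha.1, by rw [inv_pow, ha.2, inv_one]⟩ }
    have hTn : T.Normal := ⟨fun v hv g => ⟨hVn.conj_mem v hv.1 g, by rw [conj_pow, hv.2]; group⟩⟩
    have hTp : IsPGroup p T := fun t => ⟨1, Subtype.ext (by rw [pow_one]; exact t.2.2)⟩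
    have : (z : G) ∈ O := Fitting.le_pCore hTn hTp ⟨z.2, by
      rw [← hz, ← Subgroup.orderOf_coe]; exact pow_orderOf_eq_one _⟩
    rw [hO1, Subgroup.mem_bot] at this
    rw [← Subgroup.orderOf_coe, this, orderOf_one] at hz
    exact (Fact.out : p.Prime).one_lt.ne hz
  letI : CommGroup V := { (inferInstance : Group V) with mul_comm := fun a b => Subtype.ext (hVc a a.2 b b.2).eq }
  -- the induction hypothesis for the quotient
  set π := QuotientGroup.mk' V
  have hlt : Nat.card (G ⧸ V) ≤ n := by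
    have h1 := Subgroup.card_eq_card_quotient_mul_card_subgroup V
    have h2 : 1 < Nat.card V := Subgroup.one_lt_card_iff_ne_bot V |>.mpr hV1
    have h3 : 0 < Nat.card (G ⧸ V) := Nat.card_pos
    nlinarith
  haveI := hG
  have hquot : A.map π ≤ Cfsg.pCore p (G ⧸ V) := IH (G ⧸ V) hlt (Group.isSolvable_of_surjective (QuotientGroup.mk'_surjective V))
      (A.map π) (hA.map π) (fun c => by
      obtain ⟨c, rfl⟩ := QuotientGroup.mk'_surjective V c
      obtain ⟨g, hcg, hsn⟩ := h c
      refine ⟨π g, π.map_isConj hcg, ?_⟩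
      set J := A ⊔ MulAut.conj g • A
      have hJ : J.map π = A.map π ⊔ MulAut.conj (π g) • A.map π := by
        rw [Subgroup.map_sup]
        congr 1
        ext x
        constructor
        · rintro ⟨_, ⟨a, ha, rfl⟩, rfl⟩
          exact ⟨π a, ⟨a, ha, rfl⟩, by show π g * π a * (π g)⁻¹ = π (g * a * g⁻¹); simp⟩
        · rintro ⟨_, ⟨a, ha, rfl⟩, rfl⟩
          exact ⟨g * a * g⁻¹, ⟨a, ha, rfl⟩, by show π (g * a * g⁻¹) = π g * π a * (π g)⁻¹; simp⟩
      rw [← hJ]
      have h1 := hsn.map (f := π.subgroupMap J) (π.subgroupMap_surjective J)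
      convert h1 using 1
      ext ⟨x, hx⟩
      constructor
      · rintro ⟨a, ha, e⟩
        exact ⟨⟨a, (le_sup_left : A ≤ J) ha⟩, ha, Subtype.ext e⟩
      · rintro ⟨⟨a, hJa⟩, ha, e⟩
        exact ⟨a, ha, congrArg Subtype.val e⟩)
  -- the action of `G / V` on `V`
  have hker : V ≤ (MulAut.conjNormal : G →* MulAut V).ker := fun v hv => MulEquiv.ext fun w => Subtype.ext (by
    show v * (w : G) * v⁻¹ = w
    rw [(hVc v hv w w.2).eq, mul_inv_cancel_right])
  let φ : G ⧸ V →* MulAut V := QuotientGroup.lift V MulAut.conjNormal hker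
  -- some element of `A` acts nontrivially
  obtain ⟨a, haA, hφa⟩ : ∃ a ∈ A, φ (π a) ≠ 1 := by
    by_contra! hall
    set P := (Cfsg.pCore p (G ⧸ V)).comap π
    set C := P ⊓ Subgroup.centralizer (V : Set G) with hC
    haveI : P.Normal := (Fitting.pCore_normal p).comap π
    haveI hCn : C.Normal := Subgroup.normal_inf_normal _ _
    have hAC : A ≤ C := fun a ha => ⟨hquot ⟨a, ha, rfl⟩, Subgroup.mem_centralizer_iff.mpr fun v hv => by
      have := congrArg Subtype.val (DFunLike.congr_fun (hall a ha) ⟨v, hv⟩)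
      change a * v * a⁻¹ = v at this
      exact (mul_inv_eq_iff_eq_mul.mp this).symm⟩
    haveI : Group.IsNilpotent (π.comp C.subtype).range :=
      ((Fitting.pCore_isPGroup p).to_le (by rintro _ ⟨c, rfl⟩; exact c.2.1)).isNilpotent
    haveI : Group.IsNilpotent C := Subgroup.isNilpotent_of_ker_le_center (π.comp C.subtype).rangeRestrict (by
      intro c hc
      rw [MonoidHom.mem_ker, Subtype.ext_iff] at hc
      have hcV : (c : G) ∈ V := (QuotientGroup.eq_one_iff _).mp hc
      rw [Subgroup.mem_center_iff]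
      exact fun d => Subtype.ext (Subgroup.mem_centralizer_iff.mp d.2.2 c hcV).symm)
    obtain ⟨S, hS⟩ := IsPGroup.exists_le_sylow (hA.comap_of_injective C.subtype C.subtype_injective)
    have h1 : (Cfsg.pCore p C).map C.subtype ≤ O := PSolvable.map_pCore_le C
    have h2 : a0 ∈ O := h1 ⟨⟨a0, hAC ha0⟩, Fitting.le_pCore inferInstance S.2 (hS ha0), rfl⟩
    rw [hO1, Subgroup.mem_bot] at h2
    exact ha01 h2
  obtain ⟨w, hw⟩ := exists_avoiding hp (Nat.card V) V (G ⧸ V) φ le_rfl hVcop (π a) (hquot ⟨a, haA, rfl⟩) hφa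
  obtain ⟨g, hcg, hsn⟩ := h w
  obtain ⟨t, ht⟩ := isConj_iff.mp hcg
  set u := g with hu
  have huV : u ∈ V := ht ▸ hVn.conj_mem _ w.2 t
  set J := A ⊔ MulAut.conj u • A with hJdef
  -- `J` is a `p`-group
  set OJ := Cfsg.pCore p J
  haveI : OJ.Normal := Fitting.pCore_normal p
  have hAO : A.subgroupOf J ≤ OJ := Layer.le_pCore_of_isSubnormal hsn
    (hA.comap_of_injective J.subtype J.subtype_injective)
  have hBp : IsPGroup p ↥((MulAut.conj u • A).subgroupOf J) :=
    (hA.map (MulAut.conj u).toMonoidHom).comap_of_injective J.subtype J.subtype_injective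
  have htop : OJ ⊔ (MulAut.conj u • A).subgroupOf J = ⊤ := by
    rw [eq_top_iff]
    refine le_trans ?_ (sup_le_sup_right hAO _)
    rw [← Subgroup.subgroupOf_sup (le_sup_left : A ≤ J) (le_sup_right : MulAut.conj u • A ≤ J)]
    exact (Subgroup.subgroupOf_self J).ge
  have hJp : IsPGroup p (⊤ : Subgroup J) := htop ▸ IsPGroup.to_sup_of_normal_left (Fitting.pCore_isPGroup p) hBp
  have haJ : a ∈ J := (le_sup_left : A ≤ J) haA
  have hbJ : u * a * u⁻¹ ∈ J := (le_sup_right : MulAut.conj u • A ≤ J) ⟨a, haA, rfl⟩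
  have hcV : u * a * u⁻¹ * a⁻¹ ∈ V := by
    rw [show u * a * u⁻¹ * a⁻¹ = u * (a * u⁻¹ * a⁻¹) by group]
    exact mul_mem huV (hVn.conj_mem _ (inv_mem huV) a)
  obtain ⟨k, hk⟩ := hJp ⟨⟨_, mul_mem hbJ (inv_mem haJ)⟩, Subgroup.mem_top _⟩
  have hk' : (u * a * u⁻¹ * a⁻¹) ^ p ^ k = 1 := congrArg Subtype.val (congrArg Subtype.val hk)
  have h1 : (⟨_, hcV⟩ : V) = 1 := eq_one_of_pow hVcop (Subtype.ext hk')
  have h2 : u * a = a * u := by
    have := congrArg Subtype.val h1
    simp only [Subgroup.coe_one, mul_inv_eq_one] at this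
    exact mul_inv_eq_iff_eq_mul.mp this
  refine hw (π t⁻¹) (Subtype.ext ?_)
  have e : (π t⁻¹ * π a * (π t⁻¹)⁻¹) = π (t⁻¹ * a * t) := by simp
  rw [e]
  show (t⁻¹ * a * t) * (w : G) * (t⁻¹ * a * t)⁻¹ = w
  rw [show (t⁻¹ * a * t) * (w : G) * (t⁻¹ * a * t)⁻¹ = t⁻¹ * (a * (t * (w : G) * t⁻¹) * a⁻¹) * t by group, ht, ← h2]
  rw [← ht]
  group

/-- Let G be a finite solvable group, p an odd prime and A a p-subgroup of G such that every conjugacy class of G contains an element g for which A is subnormal in the subgroup generated by A and its conjugate by g. Then A is contained in O_p(G). (The hypothesis that p is odd is needed.) -/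
theorem result {G : Type*} [Group G] [Finite G]
    (hG : Group.IsSolvable G) (p : ℕ) [Fact p.Prime] (hp : p ≠ 2) (A : Subgroup G) (hA : IsPGroup p A)
    (h : ∀ c : G, ∃ g : G, IsConj c g ∧ (A.subgroupOf (A ⊔ MulAut.conj g • A)).IsSubnormal) :
    A ≤ Cfsg.pCore p G :=
  result_aux hp _ G le_rfl hG A hA h

end Cfsg.Agent.S4330
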