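import Cfsg.Statements.S4331
import Cfsg.Agent.Lib.Subnormal.Basic
import Cfsg.Agent.Lib.Fitting.Basic
import Cfsg.Agent.Lib.Transfer.Sylow
-- import your own Cfsg.Agent.* helpers here

set_option autoImplicit false
open Cfsg

namespace Cfsg.Agent.S4331

/-- The additive group of the field with nine elements. -/
abbrev V9 : Type := Multiplicative (ZMod 3 × ZMod 3)

/-- Multiplication by a square root of `-1`. -/
def J (v : V9) : V9 := Multiplicative.ofAdd (-(Multiplicative.toAdd v).2, (Multiplicative.toAdd v).1)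

theorem J_inv : ∀ v : V9, J v⁻¹ = (J v)⁻¹ := by decide

/-- `z ↦ (a + bi) * z` for `s = 1`, and `z ↦ (a + bi) * conj z` for `s = -1`. -/
def lin (a b s : ZMod 3) (v : V9) : V9 :=
  Multiplicative.ofAdd (a * (Multiplicative.toAdd v).1 - s * b * (Multiplicative.toAdd v).2,
    b * (Multiplicative.toAdd v).1 + s * a * (Multiplicative.toAdd v).2)

/-- The semilinear group `ΓL(1,9)`. -/
def SD : Subgroup (MulAut V9) where
  carrier := {f | (∀ v, f (J v) = J (f v)) ∨ (∀ v, f (J v) = (J (f v))⁻¹)}
  one_mem' := Or.inl fun v => rfl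
  mul_mem' := by
    rintro f g (hf | hf) (hg | hg)
    · exact Or.inl fun v => by simp [MulAut.mul_apply, hg, hf]
    · exact Or.inr fun v => by simp [MulAut.mul_apply, hg, hf]
    · exact Or.inr fun v => by simp [MulAut.mul_apply, hg, hf]
    · exact Or.inl fun v => by simp [MulAut.mul_apply, hg, hf]
  inv_mem' := by
    rintro f (hf | hf)
    · refine Or.inl fun v => f.injective ?_
      rw [MulAut.apply_inv_self, hf, MulAut.apply_inv_self]
    · refine Or.inr fun v => f.injective ?_
      rw [MulAut.apply_inv_self, map_inv, hf, MulAut.apply_inv_self, inv_inv]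

theorem split_vec : ∀ v : V9, v = Multiplicative.ofAdd ((1, 0) : ZMod 3 × ZMod 3) ^ (Multiplicative.toAdd v).1.val *
    J (Multiplicative.ofAdd ((1, 0) : ZMod 3 × ZMod 3)) ^ (Multiplicative.toAdd v).2.val := by decide

theorem lin_split : ∀ (a b : ZMod 3) (v : V9),
    (Multiplicative.ofAdd (a, b) : V9) ^ (Multiplicative.toAdd v).1.val *
      J (Multiplicative.ofAdd (a, b)) ^ (Multiplicative.toAdd v).2.val = lin a b 1 v ∧
    (Multiplicative.ofAdd (a, b) : V9) ^ (Multiplicative.toAdd v).1.val *
      (J (Multiplicative.ofAdd (a, b)))⁻¹ ^ (Multiplicative.toAdd v).2.val = lin a b (-1) v := by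
  decide

theorem exists_lin {f : MulAut V9} (hf : f ∈ SD) :
    ∃ a b s : ZMod 3, (a ≠ 0 ∨ b ≠ 0) ∧ (s = 1 ∨ s = -1) ∧ ∀ v, f v = lin a b s v := by
  obtain ⟨⟨a, b⟩, hab⟩ : ∃ p : ZMod 3 × ZMod 3, f (Multiplicative.ofAdd ((1, 0) : ZMod 3 × ZMod 3)) = Multiplicative.ofAdd p :=
    ⟨_, (ofAdd_toAdd _).symm⟩
  have hne : a ≠ 0 ∨ b ≠ 0 := by
    by_contra h
    push Not at h
    rw [h.1, h.2] at hab
    have := f.injective (hab.trans (map_one f).symm)
    exact absurd this (by decide)
  rcases hf with hf | hf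
  · refine ⟨a, b, 1, hne, Or.inl rfl, fun v => ?_⟩
    conv_lhs => rw [split_vec v]
    rw [map_mul, map_pow, map_pow, hf, hab]
    exact (lin_split a b v).1
  · refine ⟨a, b, -1, hne, Or.inr rfl, fun v => ?_⟩
    conv_lhs => rw [split_vec v]
    rw [map_mul, map_pow, map_pow, hf, hab]
    exact (lin_split a b v).2

set_option maxRecDepth 10000 in
theorem lin_iterate : ∀ a b s : ZMod 3, (a ≠ 0 ∨ b ≠ 0) → (s = 1 ∨ s = -1) →
    ∀ v : V9, (lin a b s)^[16] v = v := by
  decide +kernel

theorem pow_sixteen (f : SD) : f ^ 16 = 1 := by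
  obtain ⟨a, b, s, hne, hs, hv⟩ := exists_lin f.2
  have key : ∀ (n : ℕ) (v : V9), ((f : MulAut V9) ^ n) v = (lin a b s)^[n] v := by
    intro n
    induction n with
    | zero => intro v; rfl
    | succ n ih =>
      intro v
      rw [pow_succ', MulAut.mul_apply, ih, hv, Function.iterate_succ_apply']
  refine Subtype.ext (MulEquiv.ext fun v => ?_)
  rw [SubmonoidClass.coe_pow, key, lin_iterate a b s hne hs]
  rfl

theorem SD_isPGroup : IsPGroup 2 SD := fun f => ⟨4, by simpa using pow_sixteen f⟩

theorem lin_mul : ∀ (a b : ZMod 3) (u v : V9), lin a b 1 (u * v) = lin a b 1 u * lin a b 1 v := by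
  decide

theorem lin_left_inv : ∀ (a b : ZMod 3) (v : V9), (a ≠ 0 ∨ b ≠ 0) →
    lin (a * (a * a + b * b)) (-b * (a * a + b * b)) 1 (lin a b 1 v) = v ∧
    lin a b 1 (lin (a * (a * a + b * b)) (-b * (a * a + b * b)) 1 v) = v := by
  decide

theorem lin_J : ∀ (a b : ZMod 3) (v : V9), lin a b 1 (J v) = J (lin a b 1 v) := by decide

/-- Multiplication by a nonzero scalar of the field with nine elements. -/
def mulBy (a b : ZMod 3) (h : a ≠ 0 ∨ b ≠ 0) : SD :=
  ⟨{  toFun := lin a b 1
      invFun := lin (a * (a * a + b * b)) (-b * (a * a + b * b)) 1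
      left_inv := fun v => (lin_left_inv a b v h).1
      right_inv := fun v => (lin_left_inv a b v h).2
      map_mul' := lin_mul a b }, Or.inl fun v => lin_J a b v⟩

theorem conj_props : (∀ u v : V9, lin 1 0 (-1) (u * v) = lin 1 0 (-1) u * lin 1 0 (-1) v) ∧
    (∀ v : V9, lin 1 0 (-1) (lin 1 0 (-1) v) = v) ∧
    (∀ v : V9, lin 1 0 (-1) (J v) = (J (lin 1 0 (-1) v))⁻¹) := by
  decide

/-- Field conjugation. -/
def tt : SD :=
  ⟨{  toFun := lin 1 0 (-1)
      invFun := lin 1 0 (-1)
      left_inv := conj_props.2.1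
      right_inv := conj_props.2.1
      map_mul' := conj_props.1 }, Or.inr fun v => conj_props.2.2 v⟩

theorem norm_fixed : ∀ a b : ZMod 3, lin 1 0 (-1) (lin a (-b) 1 (Multiplicative.ofAdd (a, b))) =
    lin a (-b) 1 (Multiplicative.ofAdd (a, b)) := by decide

theorem exists_move (w : V9) : ∃ h : SD, (tt : MulAut V9) ((h : MulAut V9) w) = (h : MulAut V9) w := by
  by_cases hw : w = 1
  · subst hw; exact ⟨1, by simp⟩
  · obtain ⟨⟨a, b⟩, hab⟩ : ∃ p : ZMod 3 × ZMod 3, w = Multiplicative.ofAdd p :=
      ⟨_, (ofAdd_toAdd _).symm⟩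
    subst hab
    have hne : a ≠ 0 ∨ -b ≠ 0 := by
      by_contra h
      push Not at h
      exact hw (by rw [h.1, neg_eq_zero.mp h.2]; rfl)
    exact ⟨mulBy a (-b) hne, norm_fixed a b⟩

/-- The group `AΓL(1,9)`. -/
abbrev Grp : Type := SemidirectProduct V9 SD SD.subtype

instance : Finite SD := Finite.of_injective (fun f : SD => ((f : MulAut V9) : V9 → V9))
  (fun _ _ h => Subtype.ext (MulEquiv.ext (congrFun h)))

instance : Finite Grp := Finite.of_equiv _ SemidirectProduct.equivProd.symm

theorem isNilpotent_of_le {G : Type*} [Group G] {H K : Subgroup G} [Group.IsNilpotent K]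
    (h : H ≤ K) : Group.IsNilpotent H :=
  Group.nilpotent_of_mulEquiv (Subgroup.subgroupOfEquivOfLe h)

theorem subnormal_sup {w : V9} {x : SD} (hx : (x : MulAut V9) w = w)
    (ht : (tt : MulAut V9) w = w) :
    ((Subgroup.zpowers (SemidirectProduct.inr tt : Grp)).subgroupOf
      (Subgroup.zpowers (SemidirectProduct.inr tt) ⊔
        Subgroup.zpowers (SemidirectProduct.inl w * SemidirectProduct.inr x : Grp))).IsSubnormal := by
  let S : Subgroup SD :=
    { carrier := {s | (s : MulAut V9) w = w}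
      one_mem' := by simp
      mul_mem' := fun {a b} ha hb => by
        change ((a * b : SD) : MulAut V9) w = w
        rw [Subgroup.coe_mul, MulAut.mul_apply, hb, ha]
      inv_mem' := fun {a} ha => by
        change ((a⁻¹ : SD) : MulAut V9) w = w
        rw [Subgroup.coe_inv]
        exact ((a : MulAut V9).injective (by rw [MulAut.apply_inv_self]; exact ha.symm)) }
  let f1 : Subgroup.zpowers w →* Grp := SemidirectProduct.inl.comp (Subgroup.zpowers w).subtype
  let f2 : S →* Grp := SemidirectProduct.inr.comp S.subtype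
  have hcomm : ∀ (z : Subgroup.zpowers w) (s : S), Commute (f1 z) (f2 s) := by
    rintro ⟨z, hz⟩ ⟨s, hs⟩
    obtain ⟨k, rfl⟩ := Subgroup.mem_zpowers_iff.mp hz
    have h1 : (SD.subtype s) (w ^ k) = w ^ k := by
      rw [map_zpow]; exact congrArg (· ^ k) hs
    refine SemidirectProduct.ext ?_ ?_
    · simp only [f1, f2, MonoidHom.comp_apply, SemidirectProduct.mul_left,
        SemidirectProduct.left_inl, SemidirectProduct.right_inl, SemidirectProduct.left_inr,
        SemidirectProduct.right_inr, map_one, mul_one, one_mul, Subgroup.coe_subtype]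
      exact h1.symm
    · simp only [f1, f2, MonoidHom.comp_apply, SemidirectProduct.mul_right, SemidirectProduct.right_inl, SemidirectProduct.right_inr, Subgroup.coe_subtype, mul_one, one_mul]
  haveI : Group.IsNilpotent S := (SD_isPGroup.to_subgroup S).isNilpotent
  haveI hK : Group.IsNilpotent (MonoidHom.noncommCoprod f1 f2 hcomm).range :=
    Group.nilpotent_of_surjective _ (MonoidHom.rangeRestrict_surjective _)
  have hle : Subgroup.zpowers (SemidirectProduct.inr tt : Grp) ⊔
      Subgroup.zpowers (SemidirectProduct.inl w * SemidirectProduct.inr x : Grp) ≤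
      (MonoidHom.noncommCoprod f1 f2 hcomm).range := by
    rw [sup_le_iff, Subgroup.zpowers_le, Subgroup.zpowers_le]
    refine ⟨⟨(1, ⟨tt, ht⟩), by simp [f1, f2]⟩,
      ⟨(⟨w, Subgroup.mem_zpowers w⟩, ⟨x, hx⟩), by simp [f1, f2]⟩⟩
  haveI := isNilpotent_of_le hle
  exact CfsgLib.Subnormal.isSubnormal_of_isNilpotent _


/-- There is a finite solvable group G with a subgroup A of order 2 such that every conjugacy class of G contains an element g for which A is subnormal in the subgroup generated by A and g, and yet A is not contained in O_2(G). (So the corresponding criteria for odd primes fail at the prime 2, even for solvable groups.) -/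
theorem result :
    ∃ (G : Type) (_ : Group G) (_ : Finite G) (A : Subgroup G), Group.IsSolvable G ∧ Nat.card A = 2 ∧
      (∀ c : G, ∃ g : G, IsConj c g ∧ (A.subgroupOf (A ⊔ Subgroup.zpowers g)).IsSubnormal) ∧
      ¬ A ≤ Cfsg.pCore 2 G := by
  haveI : Fact (Nat.Prime 2) := ⟨Nat.prime_two⟩
  haveI hSDsol : Group.IsSolvable SD := by
    haveI := SD_isPGroup.isNilpotent
    infer_instance
  have hsol : Group.IsSolvable Grp :=
    Group.isSolvable_of_ker_le_range (SemidirectProduct.inl : V9 →* Grp)
      (SemidirectProduct.rightHom : Grp →* SD) SemidirectProduct.range_inl_eq_ker_rightHom.ge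
  have htt : (tt : SD) ≠ 1 := by
    intro h
    have := DFunLike.congr_fun (congrArg Subtype.val h) (Multiplicative.ofAdd ((0, 1) : ZMod 3 × ZMod 3))
    exact absurd this (show lin 1 0 (-1) (Multiplicative.ofAdd ((0, 1) : ZMod 3 × ZMod 3)) ≠
      Multiplicative.ofAdd ((0, 1) : ZMod 3 × ZMod 3) by decide)
  have htt2 : tt ^ 2 = (1 : SD) := by
    refine Subtype.ext (MulEquiv.ext fun v => ?_)
    rw [SubmonoidClass.coe_pow, pow_two, MulAut.mul_apply]
    exact conj_props.2.1 v
  refine ⟨Grp, inferInstance, inferInstance, Subgroup.zpowers (SemidirectProduct.inr tt), hsol,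
    ?_, fun c => ?_, ?_⟩
  · rw [Nat.card_zpowers, orderOf_injective _ SemidirectProduct.inr_injective]
    exact orderOf_eq_prime htt2 htt
  · -- decompose `c`
    obtain ⟨v, hv⟩ : ∃ v : V9, (SemidirectProduct.inl v : Grp) = c ^ 16 := by
      have : c ^ 16 ∈ (SemidirectProduct.rightHom : Grp →* SD).ker := by
        rw [MonoidHom.mem_ker, map_pow, pow_sixteen]
      rwa [← SemidirectProduct.range_inl_eq_ker_rightHom] at this
    have hv3 : ∀ v : V9, v ^ 3 = 1 := by decide
    have h48 : c ^ 48 = 1 := by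
      rw [show 48 = 16 * 3 from rfl, pow_mul, ← hv, ← map_pow, hv3, map_one]
    set R : Subgroup Grp := (SemidirectProduct.inr : SD →* Grp).range with hR
    have hRp : IsPGroup 2 R := SD_isPGroup.of_surjective _ (MonoidHom.rangeRestrict_surjective _)
    have hRidx : ¬ 2 ∣ R.index := by
      have h1 := R.card_mul_index
      rw [hR, ← Nat.card_congr (MonoidHom.ofInjective
        (SemidirectProduct.inr_injective (φ := SD.subtype))).toEquiv,
        Nat.card_congr (SemidirectProduct.equivProd (φ := SD.subtype)), Nat.card_prod,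
        mul_comm (Nat.card V9)] at h1
      rw [hR, Nat.eq_of_mul_eq_mul_left Nat.card_pos h1]
      simp [Nat.card_eq_fintype_card]
    have hy : IsPGroup 2 (Subgroup.zpowers (c ^ 33)) := by
      rintro ⟨g, hg⟩
      refine ⟨4, Subtype.ext ?_⟩
      obtain ⟨k, rfl⟩ := Subgroup.mem_zpowers_iff.mp hg
      rw [SubmonoidClass.coe_pow, ← zpow_natCast, ← zpow_mul, mul_comm, zpow_mul, zpow_natCast,
        ← pow_mul, show 33 * 2 ^ 4 = 48 * 11 from rfl, pow_mul, h48]
      simp
    obtain ⟨u, hu⟩ := CfsgLib.Transfer.exists_map_conj_le_sylow hy (hRp.toSylow hRidx)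
    obtain ⟨x, hx⟩ : u * c ^ 33 * u⁻¹ ∈ R :=
      hu ⟨_, Subgroup.mem_zpowers _, rfl⟩
    obtain ⟨w, hw⟩ : ∃ w : V9, (SemidirectProduct.inl w : Grp) = u * c ^ 16 * u⁻¹ := by
      have h2 : u * c ^ 16 * u⁻¹ ∈ (SemidirectProduct.rightHom : Grp →* SD).ker := by
        rw [MonoidHom.mem_ker, map_mul, map_mul, map_pow, pow_sixteen, mul_one, map_inv, mul_inv_cancel]
      rwa [← SemidirectProduct.range_inl_eq_ker_rightHom] at h2
    have hfix : (x : MulAut V9) w = w := by
      apply SemidirectProduct.inl_injective (φ := SD.subtype)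
      change SemidirectProduct.inl (SD.subtype x w) = _
      rw [SemidirectProduct.inl_aut, map_inv, hx, hw]
      group
    obtain ⟨h, hh⟩ := exists_move w
    refine ⟨SemidirectProduct.inl ((h : MulAut V9) w) * SemidirectProduct.inr (h * x * h⁻¹), ?_,
      subnormal_sup ?_ hh⟩
    · rw [isConj_iff]
      refine ⟨SemidirectProduct.inr h * u, ?_⟩
      change _ = SemidirectProduct.inl (SD.subtype h w) * _
      rw [SemidirectProduct.inl_aut, hw]
      simp only [map_mul, map_inv, hx]
      calc SemidirectProduct.inr h * u * c * (SemidirectProduct.inr h * u)⁻¹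
          = SemidirectProduct.inr h * u * (c ^ 16 * c ^ 33) * u⁻¹ * (SemidirectProduct.inr h)⁻¹ := by
            rw [← pow_add, show 16 + 33 = 48 + 1 from rfl, pow_add, h48, one_mul, pow_one]; group
        _ = _ := by group
    · rw [Subgroup.coe_mul, Subgroup.coe_mul, Subgroup.coe_inv, MulAut.mul_apply, MulAut.mul_apply,
        MulAut.inv_apply_self, hfix]
  · intro hle
    have htmem : (SemidirectProduct.inr tt : Grp) ∈ Cfsg.pCore 2 Grp := hle (Subgroup.mem_zpowers _)
    haveI := CfsgLib.Fitting.pCore_normal (G := Grp) 2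
    set e : V9 := Multiplicative.ofAdd ((0, 1) : ZMod 3 × ZMod 3)
    have hcomm : (SemidirectProduct.inl (SD.subtype tt e * e⁻¹) : Grp) ∈ Cfsg.pCore 2 Grp := by
      rw [map_mul, SemidirectProduct.inl_aut, map_inv, map_inv, mul_assoc, mul_assoc]
      refine Subgroup.mul_mem _ htmem ?_
      rw [← mul_assoc]
      exact Subgroup.Normal.conj_mem inferInstance _ (Subgroup.inv_mem _ htmem) _
    obtain ⟨k, hk⟩ := CfsgLib.Fitting.pCore_isPGroup (G := Grp) 2 ⟨_, hcomm⟩
    have hk' := congrArg Subtype.val hk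
    rw [SubmonoidClass.coe_pow, ← map_pow, Subgroup.coe_one, ← (SemidirectProduct.inl (φ := SD.subtype)).map_one,
      SemidirectProduct.inl_inj] at hk'
    have hq : SD.subtype tt e * e⁻¹ = e := by
      change lin 1 0 (-1) e * e⁻¹ = e
      decide
    rw [hq] at hk'
    have he : orderOf e = 3 := orderOf_eq_prime (by decide) (by decide)
    have h3 : 3 ∣ 2 ^ k := he ▸ orderOf_dvd_of_pow_eq_one hk'
    exact absurd (Nat.prime_three.dvd_of_dvd_pow h3) (by norm_num)

end Cfsg.Agent.S4331
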