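import Cfsg.Statements.S4332
import Mathlib
import Cfsg.Prelude.Def_Solvable
import Cfsg.Agent.Lib.Fitting.Basic

set_option autoImplicit false
set_option linter.style.haveILetI false
open Pointwise
open Cfsg

namespace Cfsg.Agent.S4332

/-- A set of three points that `g` fixes pointwise or maps away from itself. -/
theorem exists_triple (g : Equiv.Perm (Fin 8)) :
    ∃ T : Finset (Fin 8), T.card = 3 ∧ ((∀ x ∈ T, g x ∈ T) ∨ ∀ x ∈ T, g x ∉ T) := by
  classical
  set M := Finset.univ.filter (fun x => g x ≠ x) with hM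
  by_cases hm : M.card ≤ 5
  · obtain ⟨T, hT, hTc⟩ := Finset.exists_subset_card_eq (s := Mᶜ) (n := 3)
      (by rw [Finset.card_compl, Fintype.card_fin]; omega)
    refine ⟨T, hTc, Or.inl fun x hx => ?_⟩
    rw [show g x = x by simpa [hM] using hT hx]
    exact hx
  · have mem : ∀ x, x ∈ M ↔ g x ≠ x := fun x => by simp [hM]
    have pick : ∀ E : Finset (Fin 8), E.card ≤ 5 → ∃ z ∈ M, z ∉ E := fun E hE =>
      Finset.exists_mem_notMem_of_card_lt_card (by omega)
    obtain ⟨x, hx, -⟩ := pick ∅ (by simp)
    rw [mem] at hx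
    by_cases h3 : g (g (g x)) = x ∧ g (g x) ≠ x
    · refine ⟨{x, g x, g (g x)}, ?_, Or.inl ?_⟩
      · rw [Finset.card_eq_three]
        exact ⟨x, g x, g (g x), hx.symm, h3.2.symm, fun h => hx (g.injective h).symm, rfl⟩
      · simp [h3.1]
    obtain ⟨y, hy, hyx, hyg, hgy, E, hE, hEmem⟩ : ∃ y, g y ≠ y ∧ y ≠ x ∧ g x ≠ y ∧ g y ≠ x ∧
        ∃ E : Finset (Fin 8), E.card ≤ 5 ∧ x ∈ E ∧ y ∈ E ∧ g x ∈ E ∧ g y ∈ E ∧ g.symm x ∈ E ∧ g.symm y ∈ E := by
      by_cases h2 : g (g x) = x
      · obtain ⟨y, hy, hyE⟩ := pick {x, g x} ((Finset.card_le_two).trans (by norm_num))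
        rw [mem] at hy
        simp only [Finset.mem_insert, Finset.mem_singleton, not_or] at hyE
        refine ⟨y, hy, hyE.1, Ne.symm hyE.2, fun h => hyE.2 (g.injective (h.trans h2.symm)),
          {x, g x, y, g y, g.symm y}, Finset.card_le_five, ?_⟩
        have : g.symm x = g x := by rw [g.symm_apply_eq, h2]
        simp [this]
      · refine ⟨g (g x), fun h => hx (g.injective (g.injective h)), h2, fun h => hx (g.injective h).symm,
            fun h => h3 ⟨h, h2⟩,
            {x, g x, g (g x), g (g (g x)), g.symm x}, Finset.card_le_five, ?_⟩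
        simp
    obtain ⟨z, hz, hzE⟩ := pick E hE
    rw [mem] at hz
    obtain ⟨e1, e2, e3, e4, e5, e6⟩ := hEmem
    have nz : ∀ w ∈ E, z ≠ w := fun w hw h => hzE (h ▸ hw)
    refine ⟨{x, y, z}, ?_, Or.inr ?_⟩
    · rw [Finset.card_eq_three]
      exact ⟨x, y, z, hyx.symm, (nz x e1).symm, (nz y e2).symm, rfl⟩
    · intro w hw
      simp only [Finset.mem_insert, Finset.mem_singleton] at hw ⊢
      rintro (h | h | h) <;> rcases hw with rfl | rfl | rfl
      · exact hx h
      · exact hgy h
      · exact nz _ e5 (g.injective (by rw [g.apply_symm_apply]; exact h))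
      · exact hyg h
      · exact hy h
      · exact nz _ e6 (g.injective (by rw [g.apply_symm_apply]; exact h))
      · exact nz _ e3 h.symm
      · exact nz _ e4 h.symm
      · exact hz h

/-- In the symmetric group of degree 8, let A be the subgroup generated by a 3-cycle. Then every conjugacy class contains an element g for which A is subnormal in the subgroup generated by A and its conjugate by g, although O_3 of the symmetric group of degree 8 is trivial. -/
theorem result
    (σ : Equiv.Perm (Fin 8)) (hσ : σ.IsThreeCycle) :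
    (∀ c : Equiv.Perm (Fin 8), ∃ g : Equiv.Perm (Fin 8), IsConj c g ∧
      ((Subgroup.zpowers σ).subgroupOf (Subgroup.zpowers σ ⊔ MulAut.conj g • Subgroup.zpowers σ)).IsSubnormal) ∧
    Cfsg.pCore 3 (Equiv.Perm (Fin 8)) = ⊥ := by
  classical
  refine ⟨fun c => ?_, ?_⟩
  · obtain ⟨T, hT, hcase⟩ := exists_triple c
    have hcard : Fintype.card {x // x ∈ T} = Fintype.card {x // x ∈ σ.support} := by
      rw [Fintype.card_coe, Fintype.card_coe, hT, hσ.card_support]
    set h := (Fintype.equivOfCardEq hcard).extendSubtype with hh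
    have hmem : ∀ x, h x ∈ σ.support ↔ x ∈ T := by
      intro x
      by_cases hx : x ∈ T
      · simp only [hx, iff_true]; exact Equiv.extendSubtype_mem _ x hx
      · simp only [hx, iff_false]; exact Equiv.extendSubtype_not_mem _ x hx
    refine ⟨h * c * h⁻¹, isConj_iff.mpr ⟨h, rfl⟩, ?_⟩
    set g := h * c * h⁻¹ with hg
    have hcomm : Commute σ (g * σ * g⁻¹) := by
      rcases hcase with hfix | haway
      · have hfwd : ∀ x, x ∈ σ.support → g x ∈ σ.support := by
          intro x hx
          obtain ⟨y, rfl⟩ := h.surjective x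
          rw [hg, Equiv.Perm.mul_apply, Equiv.Perm.mul_apply, show h⁻¹ (h y) = y from h.symm_apply_apply y, hmem]
          exact hfix y ((hmem y).mp hx)
        have hinv : ∀ x, g x ∈ σ.support ↔ x ∈ σ.support := by
          intro x
          refine ⟨fun hx => ?_, hfwd x⟩
          have himg : σ.support.image g = σ.support := Finset.eq_of_subset_of_card_le
            (Finset.image_subset_iff.mpr hfwd) (by rw [Finset.card_image_of_injective _ g.injective])
          rw [← himg, Finset.mem_image] at hx
          obtain ⟨z, hz, e⟩ := hx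
          exact g.injective e ▸ hz
        have hσinv : ∀ x, σ x ∈ σ.support ↔ x ∈ σ.support := fun x => Equiv.Perm.apply_mem_support
        set g0 := g.subtypePerm hinv
        set σ0 := σ.subtypePerm hσinv
        have hσ0 : Equiv.Perm.ofSubtype σ0 = σ :=
          Equiv.Perm.ofSubtype_subtypePerm hσinv (fun x hx => Equiv.Perm.mem_support.mpr hx)
        have hd : Equiv.Perm.Disjoint ((Equiv.Perm.ofSubtype g0)⁻¹ * g) σ := by
          intro x
          by_cases hx : x ∈ σ.support
          · left
            rw [Equiv.Perm.mul_apply]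
            have e : Equiv.Perm.ofSubtype g0 x = g x := by
              rw [Equiv.Perm.ofSubtype_apply_of_mem _ hx]
              rfl
            rw [← e]
            exact (Equiv.Perm.ofSubtype g0).symm_apply_apply x
          · right; exact Equiv.Perm.notMem_support.mp hx
        have e1 : g * σ * g⁻¹ = Equiv.Perm.ofSubtype (g0 * σ0 * g0⁻¹) := by
          rw [map_mul, map_mul, map_inv, hσ0]
          calc g * σ * g⁻¹ = Equiv.Perm.ofSubtype g0 * (((Equiv.Perm.ofSubtype g0)⁻¹ * g) * σ) * g⁻¹ := by group
            _ = Equiv.Perm.ofSubtype g0 * (σ * ((Equiv.Perm.ofSubtype g0)⁻¹ * g)) * g⁻¹ := by rw [hd.commute.eq]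
            _ = Equiv.Perm.ofSubtype g0 * σ * (Equiv.Perm.ofSubtype g0)⁻¹ := by group
        have e3 : ∀ s t : Equiv.Perm (Fin 3), Equiv.Perm.sign s = 1 → s * (t * s * t⁻¹) = (t * s * t⁻¹) * s := by
          decide
        let E := (Fintype.equivFinOfCardEq (α := {x // x ∈ σ.support}) (n := 3) (by rw [Fintype.card_coe, hσ.card_support])).permCongrHom
        have hsgn : Equiv.Perm.sign (E σ0) = 1 := by
          show Equiv.Perm.sign ((Fintype.equivFinOfCardEq _).permCongr σ0) = 1
          rw [Equiv.Perm.sign_permCongr, ← Equiv.Perm.sign_ofSubtype, hσ0, hσ.sign]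
        have e4 : Commute σ0 (g0 * σ0 * g0⁻¹) := by
          apply E.injective
          simp only [map_mul, map_inv]
          exact e3 _ _ hsgn
        rw [e1]
        conv => arg 1; rw [← hσ0]
        exact e4.map Equiv.Perm.ofSubtype
      · refine Equiv.Perm.Disjoint.commute fun x => ?_
        by_cases hx : x ∈ σ.support
        · right
          obtain ⟨y, rfl⟩ := h.surjective x
          have hy := (hmem y).mp hx
          have h1 : g⁻¹ (h y) ∉ σ.support := by
            have e : g⁻¹ (h y) = h (c.symm y) := by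
              rw [hg]
              show (h * c * h⁻¹)⁻¹ (h y) = h (c⁻¹ y)
              rw [show (h * c * h⁻¹)⁻¹ = h * c⁻¹ * h⁻¹ by group, Equiv.Perm.mul_apply, Equiv.Perm.mul_apply,
                show h⁻¹ (h y) = y from h.symm_apply_apply y]
            rw [e, hmem]
            exact fun hc => haway _ hc (by rw [c.apply_symm_apply]; exact hy)
          rw [Equiv.Perm.mul_apply, Equiv.Perm.mul_apply, Equiv.Perm.notMem_support.mp h1]
          exact g.apply_symm_apply _
        · left; exact Equiv.Perm.notMem_support.mp hx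
    refine Subgroup.Normal.isSubnormal ?_
    refine (Subgroup.normal_subgroupOf_iff_le_normalizer le_sup_left).mpr (sup_le Subgroup.le_normalizer ?_)
    refine le_trans ?_ (Subgroup.centralizer_le_normalizer _)
    rintro _ ⟨_, ⟨j, rfl⟩, rfl⟩
    rw [Subgroup.mem_centralizer_iff]
    rintro _ ⟨i, rfl⟩
    show σ ^ i * MulAut.conj g (σ ^ j) = MulAut.conj g (σ ^ j) * σ ^ i
    rw [map_zpow, MulAut.conj_apply]
    exact (hcomm.zpow_zpow i j).eq
  · rw [eq_bot_iff]
    intro x hx
    rw [Subgroup.mem_bot]
    haveI := Fact.mk Nat.prime_three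
    haveI hn := CfsgLib.Fitting.pCore_normal (G := Equiv.Perm (Fin 8)) 3
    have hp := CfsgLib.Fitting.pCore_isPGroup (G := Equiv.Perm (Fin 8)) 3
    obtain ⟨k, hk⟩ := hp ⟨x, hx⟩
    have hk' : x ^ 3 ^ k = 1 := congrArg Subtype.val hk
    have hxA : x ∈ alternatingGroup (Fin 8) := by
      rw [Equiv.Perm.mem_alternatingGroup]
      have h1 := congrArg Equiv.Perm.sign hk'
      rw [map_pow, map_one] at h1
      rcases Int.units_eq_one_or (Equiv.Perm.sign x) with h | h
      · exact h
      · rw [h, Odd.neg_one_pow (Odd.pow (by decide))] at h1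
        exact h1 ▸ h
    haveI : IsSimpleGroup (alternatingGroup (Fin 8)) := alternatingGroup.isSimpleGroup (by simp)
    haveI : ((Cfsg.pCore 3 (Equiv.Perm (Fin 8))).subgroupOf (alternatingGroup (Fin 8))).Normal := hn.comap _
    rcases ‹((Cfsg.pCore 3 (Equiv.Perm (Fin 8))).subgroupOf (alternatingGroup (Fin 8))).Normal›.eq_bot_or_eq_top with h | h
    · have : (⟨x, hxA⟩ : alternatingGroup (Fin 8)) ∈ (Cfsg.pCore 3 (Equiv.Perm (Fin 8))).subgroupOf (alternatingGroup (Fin 8)) := hx
      rw [h, Subgroup.mem_bot] at this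
      exact congrArg Subtype.val this
    · exfalso
      have hle := Subgroup.subgroupOf_eq_top.mp h
      have hs : Equiv.swap (0 : Fin 8) 1 * Equiv.swap (2 : Fin 8) 3 ∈ alternatingGroup (Fin 8) := by
        rw [Equiv.Perm.mem_alternatingGroup, map_mul, Equiv.Perm.sign_swap (by decide), Equiv.Perm.sign_swap (by decide)]
        decide
      obtain ⟨j, hj⟩ := hp ⟨_, hle hs⟩
      have hj' : (Equiv.swap (0 : Fin 8) 1 * Equiv.swap (2 : Fin 8) 3) ^ 3 ^ j = 1 := congrArg Subtype.val hj
      have h2 : (Equiv.swap (0 : Fin 8) 1 * Equiv.swap (2 : Fin 8) 3) ^ 2 = 1 := by decide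
      have := pow_gcd_eq_one.mpr (And.intro h2 hj')
      rw [Nat.Coprime.gcd_eq_one ((by norm_num : Nat.Coprime 2 3).pow_right j), pow_one] at this
      have h0 := Equiv.Perm.ext_iff.mp this 0
      simp [Equiv.swap_apply_def] at h0

end Cfsg.Agent.S4332
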