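import Cfsg.Statements.S4333
import Cfsg.Agent.S0066

set_option autoImplicit false
open Pointwise
open Cfsg

namespace Cfsg.Agent.S4333

open scoped Pointwise
open Cfsg.Agent.S0066 (mem_conj_smul zipper)

universe u

theorem criterion (n : ℕ) : ∀ (G : Type u) [Group G] [Finite G], Nat.card G < n → ∀ A : Subgroup G,
    (∀ a ∈ A, ∀ g : G, (A.subgroupOf (A ⊔ MulAut.conj (g⁻¹ * a * g) • A)).IsSubnormal) →
      A.IsSubnormal := by
  induction n with
  | zero => exact fun G _ _ h => absurd h (Nat.not_lt_zero _)
  | succ n ih =>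
    intro G _ _ hn A h
    by_contra hA
    have hsn : ∀ M : Subgroup G, A ≤ M → M ≠ ⊤ → (A.subgroupOf M).IsSubnormal := by
      intro M hAM hM
      have hlt : Nat.card M < Nat.card G := lt_of_le_of_ne (Subgroup.card_le_card_group M) fun e => hM (Subgroup.eq_top_of_card_eq M e)
      refine ih M (by omega) (A.subgroupOf M) fun a ha g => ?_
      set c := g⁻¹ * a * g with hc
      set B := A.subgroupOf M ⊔ MulAut.conj c • A.subgroupOf M with hB
      have hle : B.map M.subtype ≤ A ⊔ MulAut.conj (c : G) • A := by
        rw [Subgroup.map_le_iff_le_comap, hB]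
        refine sup_le (fun x hx => Subgroup.mem_sup_left hx) fun x hx => ?_
        rw [mem_conj_smul, Subgroup.mem_subgroupOf] at hx
        exact Subgroup.mem_sup_right (mem_conj_smul.mpr (by simpa using hx))
      exact (h a ha g).comap (⟨⟨fun x => ⟨((x : M) : G), hle (Subgroup.mem_map_of_mem _ x.2)⟩, rfl⟩, fun _ _ => rfl⟩ :
        B →* (A ⊔ MulAut.conj (c : G) • A : Subgroup G))
    by_cases hAtop : A = ⊤
    · exact hA (hAtop ▸ Subgroup.IsSubnormal.top)
    obtain ⟨M, hM, hAM⟩ := (eq_top_or_exists_le_coatom A).resolve_left hAtop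
    have huniq := zipper A hsn hA
    by_cases hMn : M.Normal
    · exact hA (Subgroup.IsSubnormal.trans hAM (hsn M hAM hM.1) (Subgroup.Normal.isSubnormal hMn))
    have hNM : Subgroup.normalizer (M : Set G) = M :=
      (hM.le_iff.mp Subgroup.le_normalizer).resolve_left
        fun e => hMn (Subgroup.normalizer_eq_top_iff.mp e)
    have hconj : ∀ a ∈ A, ∀ g : G, g⁻¹ * a * g ∈ M := by
      intro a ha g
      set c := g⁻¹ * a * g with hc
      rcases eq_top_or_exists_le_coatom (A ⊔ MulAut.conj c • A) with e | ⟨N, hN, hle⟩
      · exfalso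
        refine hA (Subgroup.IsSubnormal.trans le_sup_left (h a ha g) ?_)
        rw [e]; exact Subgroup.IsSubnormal.top
      · have h1 : MulAut.conj c • A ≤ M := huniq M N hM hN hAM (le_sup_left.trans hle) ▸ le_sup_right.trans hle
        have hco : IsCoatom (MulAut.conj c⁻¹ • M) :=
          ((MulAut.conj c⁻¹).mapSubgroup.isCoatom_iff M).mpr hM
        have h2 : A ≤ MulAut.conj c⁻¹ • M := fun x hx => mem_conj_smul.mpr (by
          have := h1 (Subgroup.smul_mem_pointwise_smul x (MulAut.conj c) A hx)
          simpa using this)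
        have h3 := huniq M _ hM hco hAM h2
        rw [← hNM]
        refine Subgroup.mem_normalizer_iff.mpr fun y => ?_
        have h4 := SetLike.ext_iff.mp h3 y
        rw [mem_conj_smul] at h4
        simpa using h4
    have hW : Subgroup.normalClosure (A : Set G) ≤ M := by
      rw [Subgroup.normalClosure, Subgroup.closure_le]
      intro x hx
      obtain ⟨a, ha, hax⟩ := Group.mem_conjugatesOfSet_iff.mp hx
      obtain ⟨c, rfl⟩ := isConj_iff.mp hax
      simpa using hconj a ha c⁻¹
    refine hA (Subgroup.IsSubnormal.trans (Subgroup.subset_normalClosure (s := (A : Set G))) ?_ (Subgroup.Normal.isSubnormal inferInstance))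
    exact hsn _ Subgroup.subset_normalClosure fun e => hM.1 (top_le_iff.mp (e ▸ hW))

/-- Let A be a subgroup of a finite group G. If A is subnormal in the subgroup generated by A and its conjugate by g⁻¹ a g, for every a ∈ A and every g ∈ G, then A is subnormal in G. (A sharpening of Wielandt's subnormality criterion: only conjugates of A by conjugates of elements of A are needed.) -/
theorem result {G : Type*} [Group G] [Finite G]
    (A : Subgroup G)
    (h : ∀ a ∈ A, ∀ g : G, (A.subgroupOf (A ⊔ MulAut.conj (g⁻¹ * a * g) • A)).IsSubnormal) :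
    A.IsSubnormal := by
  exact criterion _ G (Nat.lt_succ_self _) A h
end Cfsg.Agent.S4333
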