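import Cfsg.Statements.S4334
import Cfsg.Agent.S0581
import Cfsg.Agent.Lib.Transfer.Frobenius
-- import your own Cfsg.Agent.* helpers here

set_option autoImplicit false
open Cfsg

namespace Cfsg.Agent.S4334

theorem card_of_commuting {G : Type*} [Group G] [Finite G] {A B : Subgroup G}
    (hc : ∀ a ∈ A, ∀ b ∈ B, a * b = b * a) (hcop : (Nat.card A).Coprime (Nat.card B)) :
    Nat.card ↥(A ⊔ B) = Nat.card A * Nat.card B := by
  have hcomm : ∀ (a : A) (b : B), Commute (A.subtype a) (B.subtype b) :=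
    fun a b => hc a a.2 b b.2
  have hinj : Function.Injective (A.subtype.noncommCoprod B.subtype hcomm) := by
    rw [MonoidHom.noncommCoprod_injective]
    refine ⟨A.subtype_injective, B.subtype_injective, ?_⟩
    rw [A.range_subtype, B.range_subtype, disjoint_iff]
    exact Subgroup.inf_eq_bot_of_coprime hcop
  have h := Nat.card_congr (MonoidHom.ofInjective hinj).toEquiv
  rw [Nat.card_prod, MonoidHom.noncommCoprod_range, A.range_subtype, B.range_subtype] at h
  exact h.symm

theorem map_isPi {G : Type*} [Group G] {π : Set ℕ} {A : Subgroup G} (h : Cfsg.IsPiSubgroup π A)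
    (g : G) : Cfsg.IsPiSubgroup π (A.map (MulAut.conj g).toMonoidHom) := by
  intro r hr hd
  rw [Subgroup.card_map_of_injective (MulAut.conj g).injective] at hd
  exact h r hr hd

section
variable {G : Type*} [Group G] [Finite G] {σ τ π : Set ℕ} {H Hs Ht : Subgroup G}

theorem coprime_st (hd : Disjoint σ τ) (hs : Cfsg.IsPiSubgroup σ Hs) (ht : Cfsg.IsPiSubgroup τ Ht) :
    (Nat.card Hs).Coprime (Nat.card Ht) :=
  Nat.coprime_of_dvd fun r hr h1 h2 => Set.disjoint_left.mp hd (hs r hr h1) (ht r hr h2)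

/-- For a prime of `σ` (or `τ`), the corresponding factor carries the full prime part. -/
theorem full_part (hπ : π = σ ∪ τ) (hd : Disjoint σ τ) (hH : Cfsg.IsPiHall π H)
    (hs : Cfsg.IsPiSubgroup σ Hs) (ht : Cfsg.IsPiSubgroup τ Ht) (hjoin : Hs ⊔ Ht = H)
    (hcomm : ∀ a ∈ Hs, ∀ b ∈ Ht, a * b = b * a) {r : ℕ} (hr : r.Prime) :
    (r ∈ σ → ∀ k, r ^ k ∣ Nat.card G → r ^ k ∣ Nat.card Hs) ∧
    (r ∈ τ → ∀ k, r ^ k ∣ Nat.card G → r ^ k ∣ Nat.card Ht) := by
  have hc : Nat.card H = Nat.card Hs * Nat.card Ht := by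
    rw [← hjoin]; exact card_of_commuting hcomm (coprime_st hd hs ht)
  have key : r ∈ π → ∀ k, r ^ k ∣ Nat.card G → r ^ k ∣ Nat.card Hs * Nat.card Ht := by
    intro hrπ k hk
    rw [← H.card_mul_index, hc] at hk
    exact ((hr.coprime_iff_not_dvd.mpr (hH.2 r hr hrπ)).pow_left k).dvd_of_dvd_mul_right hk
  refine ⟨fun h k hk => ?_, fun h k hk => ?_⟩
  · exact ((hr.coprime_iff_not_dvd.mpr fun hd2 => Set.disjoint_left.mp hd h (ht r hr hd2)).pow_left
      k).dvd_of_dvd_mul_right (key (hπ ▸ Or.inl h) k hk)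
  · exact ((hr.coprime_iff_not_dvd.mpr fun hd2 => Set.disjoint_left.mp hd (hs r hr hd2) h).pow_left
      k).dvd_of_dvd_mul_left (key (hπ ▸ Or.inr h) k hk)

/-- `π`-elements of order prime to `p ∈ σ` normalizing a `p`-subgroup centralize it. -/
theorem pAutomizer_pi (hπ : π = σ ∪ τ) (hd : Disjoint σ τ) (hH : Cfsg.IsPiHall π H)
    (hs : Cfsg.IsPiSubgroup σ Hs) (ht : Cfsg.IsPiSubgroup τ Ht) (hsn : Group.IsNilpotent Hs)
    (hjoin : Hs ⊔ Ht = H) (hcomm : ∀ a ∈ Hs, ∀ b ∈ Ht, a * b = b * a)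
    {p : ℕ} [Fact p.Prime] (hp : p ∈ σ) {U : Subgroup G} (hU : IsPGroup p U) {g : G}
    (hg : g ∈ Subgroup.normalizer (U : Set G)) (hgp : (orderOf g).Coprime p)
    (hgπ : ∀ r : ℕ, r.Prime → r ∣ orderOf g → r ∈ π) :
    g ∈ Subgroup.centralizer (U : Set G) := by
  haveI := hsn
  obtain ⟨P0⟩ := (inferInstance : Nonempty (Sylow p Hs))
  have hPn : (P0 : Subgroup Hs).Normal :=
    P0.normal_of_normalizerCondition Group.normalizerCondition_of_isNilpotent
  set P1 := (P0 : Subgroup Hs).map Hs.subtype with hP1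
  have hP1G : IsPGroup p P1 := P0.2.map _
  obtain ⟨m, hm⟩ := hP1G.exists_card_eq
  have hPfull : ¬ p ∣ P1.index := by
    intro hdv
    have h1 : p ^ (m + 1) ∣ Nat.card G := by
      rw [← P1.card_mul_index, hm, pow_succ]; exact mul_dvd_mul_left _ hdv
    have h2 := (full_part hπ hd hH hs ht hjoin hcomm Fact.out).1 hp _ h1
    have h3 := P0.pow_dvd_card_of_pow_dvd_card h2
    rw [← Subgroup.card_map_of_injective Hs.subtype_injective (K := (P0 : Subgroup Hs)), ← hP1, hm] at h3
    have h4 := Nat.le_of_dvd (pow_pos (Fact.out : p.Prime).pos _) h3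
    exact absurd h4 (not_le.mpr (Nat.pow_lt_pow_right (Fact.out : p.Prime).one_lt (Nat.lt_succ_self m)))
  obtain ⟨k, hk⟩ := CfsgLib.Transfer.exists_map_conj_le_sylow hU (hP1G.toSylow hPfull)
  -- the centralizer of `U` has full `r`-part for every `r ∈ π` other than `p`
  have hC : ∀ r : ℕ, r.Prime → r ∈ π → r ≠ p → ∀ n : ℕ, r ^ n ∣ Nat.card G →
      r ^ n ∣ Nat.card (Subgroup.centralizer (U : Set G)) := by
    intro r hr hrπ hrp n hn
    haveI := Fact.mk hr
    have hex : ∃ R : Subgroup G, Nat.card R = r ^ n ∧ ∀ x ∈ R, ∀ y ∈ P1, y * x = x * y := by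
      rw [hπ] at hrπ
      rcases hrπ with hσ | hτ
      · obtain ⟨R, hR⟩ := Sylow.exists_subgroup_card_pow_prime r
          ((full_part hπ hd hH hs ht hjoin hcomm hr).1 hσ n hn)
        refine ⟨R.map Hs.subtype, by rw [Subgroup.card_map_of_injective Hs.subtype_injective, hR],
          ?_⟩
        obtain ⟨R0, hR0⟩ := (IsPGroup.of_card hR).exists_le_sylow
        have hRn : (R0 : Subgroup Hs).Normal :=
          R0.normal_of_normalizerCondition Group.normalizerCondition_of_isNilpotent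
        have hdis := IsPGroup.disjoint_of_ne r p hrp _ _ R0.2 P0.2
        rintro _ ⟨x, hx, rfl⟩ _ ⟨y, hy, rfl⟩
        exact congrArg Subtype.val
          ((Subgroup.commute_of_normal_of_disjoint _ _ hRn hPn hdis x y (hR0 hx) hy).symm.eq)
      · obtain ⟨R, hR⟩ := Sylow.exists_subgroup_card_pow_prime r
          ((full_part hπ hd hH hs ht hjoin hcomm hr).2 hτ n hn)
        refine ⟨R.map Ht.subtype, by rw [Subgroup.card_map_of_injective Ht.subtype_injective, hR],
          ?_⟩
        rintro _ ⟨x, -, rfl⟩ _ ⟨y, -, rfl⟩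
        exact hcomm _ y.2 _ x.2
    obtain ⟨R, hR, hRc⟩ := hex
    have hle : R.map (MulAut.conj k⁻¹).toMonoidHom ≤ Subgroup.centralizer (U : Set G) := by
      rintro _ ⟨x, hx, rfl⟩
      rw [Subgroup.mem_centralizer_iff]
      intro u hu
      have h1 : k * u * k⁻¹ ∈ P1 := by
        have := hk (Subgroup.mem_map_of_mem _ hu)
        simpa using this
      have h2 := hRc x hx _ h1
      simp only [MulEquiv.coe_toMonoidHom, MulAut.conj_apply, inv_inv]
      calc u * (k⁻¹ * x * k) = k⁻¹ * (k * u * k⁻¹ * x) * k := by group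
        _ = k⁻¹ * (x * (k * u * k⁻¹)) * k := by rw [h2]
        _ = k⁻¹ * x * k * u := by group
    have h3 := Subgroup.card_dvd_of_le hle
    rwa [Subgroup.card_map_of_injective (MulAut.conj k⁻¹).injective, hR] at h3
  -- the image of `g` in `N(U)/C(U)` is trivial
  set N := Subgroup.normalizer (U : Set G) with hN
  set C := (Subgroup.centralizer (U : Set G)).subgroupOf N with hCdef
  haveI hCn : C.Normal := by
    constructor
    intro c hc n
    rw [hCdef, Subgroup.mem_subgroupOf] at hc ⊢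
    rw [Subgroup.mem_centralizer_iff] at hc ⊢
    intro u hu
    have hu' : (n : G)⁻¹ * u * (n : G) ∈ U := by
      have := (Subgroup.mem_normalizer_iff.mp (N.inv_mem n.2) u).mp hu
      simpa using this
    have h1 := hc _ hu'
    push_cast
    calc u * ((n : G) * c * (n : G)⁻¹) = n * ((n : G)⁻¹ * u * n * c) * (n : G)⁻¹ := by group
      _ = n * (c * ((n : G)⁻¹ * u * n)) * (n : G)⁻¹ := by rw [h1]
      _ = (n : G) * c * (n : G)⁻¹ * u := by group
  have himg : QuotientGroup.mk' C ⟨g, hg⟩ = 1 := by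
    rw [← orderOf_eq_one_iff]
    by_contra hne
    obtain ⟨r, hr, hrd⟩ := Nat.exists_prime_and_dvd hne
    have h1 : r ∣ orderOf g := by
      have := hrd.trans (orderOf_map_dvd (QuotientGroup.mk' C) ⟨g, hg⟩)
      rwa [← Subgroup.orderOf_coe] at this
    have hrp : r ≠ p := by
      rintro rfl
      exact hr.ne_one (Nat.eq_one_of_dvd_coprimes hgp h1 dvd_rfl)
    haveI := Fact.mk hr
    have h2 : r ∣ C.index := hrd.trans (orderOf_dvd_natCard _)
    set v := (Nat.card G).factorization r with hv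
    have h4 : r ^ v ∣ Nat.card C := by
      rw [hCdef, Nat.card_congr (Subgroup.subgroupOfEquivOfLe (Subgroup.centralizer_le_normalizer _)).toEquiv]
      exact hC r hr (hgπ r hr h1) hrp v (Nat.ordProj_dvd _ _)
    have h5 : r ^ (v + 1) ∣ Nat.card G := by
      rw [pow_succ]
      exact ((mul_dvd_mul h4 h2).trans C.card_mul_index.dvd).trans N.card_subgroup_dvd_card
    exact Nat.pow_succ_factorization_not_dvd Nat.card_pos.ne' hr h5
  exact Subgroup.mem_subgroupOf.mp ((QuotientGroup.eq_one_iff _).mp himg)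

theorem pi_le_conj (hπ : π = σ ∪ τ) (hd : Disjoint σ τ) (hH : Cfsg.IsPiHall π H)
    (hs : Cfsg.IsPiSubgroup σ Hs) (ht : Cfsg.IsPiSubgroup τ Ht) (hsn : Group.IsNilpotent Hs)
    (hjoin : Hs ⊔ Ht = H) (hcomm : ∀ a ∈ Hs, ∀ b ∈ Ht, a * b = b * a) (hD : Cfsg.IsDPiGroup τ G)
    (K : Subgroup G) (hK : Cfsg.IsPiSubgroup π K) :
    ∃ g : G, K ≤ H.map (MulAut.conj g).toMonoidHom := by
  -- the normal Hall τ-subgroup of K
  set R : Subgroup K := ⨅ p : {p : ℕ // p.Prime ∧ p ∈ σ}, Cfsg.pResidual (p : ℕ) K with hR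
  haveI hRn : R.Normal := Subgroup.normal_iInf_normal fun p => CfsgLib.Transfer.pResidual_normal _ _
  have hRτ : ∀ r : ℕ, r.Prime → r ∣ Nat.card R → r ∈ τ := by
    intro r hr hrR
    have hrπ := hK r hr (hrR.trans R.card_subgroup_dvd_card)
    rw [hπ] at hrπ
    rcases hrπ with hσ | hτ
    · exfalso
      haveI := Fact.mk hr
      have hA : CfsgLib.Transfer.PAutomizers r K := by
        intro U hU g hg hgc
        have h1 := pAutomizer_pi hπ hd hH hs ht hsn hjoin hcomm hσ (hU.map K.subtype) (g := (g : G))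
          (Subgroup.le_normalizer_map K.subtype (Subgroup.mem_map_of_mem _ hg))
          (by rwa [Subgroup.orderOf_coe])
          (fun q hq hqd => hK q hq (hqd.trans (by
            rw [Subgroup.orderOf_coe]; exact orderOf_dvd_natCard g)))
        rw [Subgroup.mem_centralizer_iff] at h1 ⊢
        intro q hq
        exact Subtype.ext (h1 q (Subgroup.mem_map_of_mem _ hq))
      have h2 := CfsgLib.Transfer.hasNormalPComplement_iff_pResidual.mp
        (CfsgLib.Transfer.hasNormalPComplement_of_pAutomizers hA)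
      exact h2 (hrR.trans (Subgroup.card_dvd_of_le (iInf_le (fun p : {p : ℕ // p.Prime ∧ p ∈ σ} =>
        Cfsg.pResidual (p : ℕ) K) ⟨r, hr, hσ⟩)))
    · exact hτ
  have hRidx : ∀ r : ℕ, r.Prime → r ∣ R.index → r ∈ σ := by
    intro r hr hri
    have hrπ := hK r hr (hri.trans R.index_dvd_card)
    rw [hπ] at hrπ
    rcases hrπ with hσ | hτ
    · exact hσ
    · exfalso
      haveI := Fact.mk hr
      obtain ⟨S⟩ := (inferInstance : Nonempty (Sylow r K))
      have hSR : (S : Subgroup K) ≤ R := by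
        intro x hx
        rw [hR, Subgroup.mem_iInf]
        rintro ⟨q, hq, hqσ⟩
        haveI := Fact.mk hq
        refine CfsgLib.Transfer.mem_pResidual_of_coprime ?_
        obtain ⟨j, hj⟩ := IsPGroup.iff_orderOf.mp S.2 ⟨x, hx⟩
        rw [← Subgroup.orderOf_coe] at hj
        simp only [] at hj ⊢
        rw [hj]
        exact ((Nat.coprime_primes hr hq).mpr
          (by rintro rfl; exact Set.disjoint_left.mp hd hqσ hτ)).pow_left j
      exact S.not_dvd_index (hri.trans (Subgroup.index_dvd_of_le hSR))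
  have hcop : (Nat.card R).Coprime R.index :=
    Nat.coprime_of_dvd fun r hr h1 h2 => Set.disjoint_left.mp hd (hRidx r hr h2) (hRτ r hr h1)
  obtain ⟨L, hL⟩ := Subgroup.exists_right_complement'_of_coprime hcop
  set R' := R.map K.subtype with hR'
  set L' := L.map K.subtype with hL'
  have hRt : Cfsg.IsPiSubgroup τ R' := fun r hr hdv => hRτ r hr (by
    rwa [hR', Subgroup.card_map_of_injective K.subtype_injective] at hdv)
  have hHtmax : Maximal (Cfsg.IsPiSubgroup τ) Ht := by
    refine ⟨ht, fun M hM hle => ?_⟩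
    have hdvd : Nat.card M ∣ Nat.card Ht := by
      rw [Nat.dvd_iff_prime_pow_dvd_dvd]
      intro r k hr hrk
      rcases Nat.eq_zero_or_pos k with rfl | hk
      · simp
      · exact (full_part hπ hd hH hs ht hjoin hcomm hr).2
          (hM r hr ((dvd_pow_self r hk.ne').trans hrk)) k (hrk.trans M.card_subgroup_dvd_card)
    exact (Subgroup.eq_of_le_of_card_ge hle (Nat.le_of_dvd Nat.card_pos hdvd)).ge
  obtain ⟨M, hRM, hM⟩ := Finite.exists_le_maximal (p := Cfsg.IsPiSubgroup τ) hRt
  obtain ⟨g, hg⟩ := hD Ht M hHtmax hM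
  set Hs' := Hs.map (MulAut.conj g).toMonoidHom with hHs'
  set N := Subgroup.normalizer (R' : Set G) with hN
  have hsN : Hs' ≤ N := by
    refine le_trans ?_ (Subgroup.centralizer_le_normalizer _)
    rintro _ ⟨a, ha, rfl⟩
    rw [Subgroup.mem_centralizer_iff]
    intro r hr
    obtain ⟨b, hb, rfl⟩ : r ∈ Ht.map (MulAut.conj g).toMonoidHom := hg ▸ hRM hr
    rw [← map_mul, ← map_mul, hcomm a ha b hb]
  have hLN : L' ≤ N := by
    have h1 : (Subgroup.normalizer (R : Set K)).map K.subtype ≤ N := Subgroup.le_normalizer_map K.subtype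
    rw [Subgroup.normalizer_eq_top] at h1
    exact le_trans (Subgroup.map_mono le_top) h1
  haveI := hsn
  haveI : Group.IsNilpotent ↥(Hs'.subgroupOf N) :=
    Group.nilpotent_of_mulEquiv ((Hs.equivMapOfInjective (MulAut.conj g).toMonoidHom
      (MulAut.conj g).injective).trans (Subgroup.subgroupOfEquivOfLe hsN).symm)
  have hcardN : Nat.card ↥(Hs'.subgroupOf N) = Nat.card Hs := by
    rw [Nat.card_congr (Subgroup.subgroupOfEquivOfLe hsN).toEquiv, hHs',
      Subgroup.card_map_of_injective (MulAut.conj g).injective]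
  obtain ⟨x, hx⟩ := Cfsg.Agent.S0581.result (Hs'.subgroupOf N) (L'.subgroupOf N) inferInstance
    (Nat.coprime_of_dvd fun r hr h1 h2 => by
      haveI := Fact.mk hr
      rw [hcardN] at h1
      set v := (Nat.card G).factorization r
      have h3 : r ^ (v + 1) ∣ Nat.card G := by
        rw [pow_succ]
        refine ((mul_dvd_mul ?_ h2).trans (Subgroup.card_mul_index _).dvd).trans N.card_subgroup_dvd_card
        rw [hcardN]
        exact (full_part hπ hd hH hs ht hjoin hcomm hr).1 (hs r hr h1) v (Nat.ordProj_dvd _ _)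
      exact Nat.pow_succ_factorization_not_dvd Nat.card_pos.ne' hr h3)
    (fun r hr hdv => by
      rw [Nat.card_congr (Subgroup.subgroupOfEquivOfLe hLN).toEquiv, hL',
        Subgroup.card_map_of_injective K.subtype_injective, ← hL.symm.index_eq_card] at hdv
      rw [hcardN]
      have hrσ := hRidx r hr hdv
      have := (full_part hπ hd hH hs ht hjoin hcomm hr).1 hrσ 1 (by
        rw [pow_one]; exact hdv.trans (R.index_dvd_card.trans K.card_subgroup_dvd_card))
      rwa [pow_one] at this)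
  refine ⟨(x : G) * g, ?_⟩
  have hRle : R' ≤ H.map (MulAut.conj ((x : G) * g)).toMonoidHom := by
    intro r hr
    have hr' : (x : G)⁻¹ * r * (x : G) ∈ R' := by
      have := (Subgroup.mem_normalizer_iff.mp (N.inv_mem x.2) r).mp hr
      simpa using this
    obtain ⟨b, hb, hbe⟩ : (x : G)⁻¹ * r * (x : G) ∈ Ht.map (MulAut.conj g).toMonoidHom :=
      hg ▸ hRM hr'
    refine ⟨b, hjoin ▸ Subgroup.mem_sup_right hb, ?_⟩
    simp only [MulEquiv.coe_toMonoidHom, MulAut.conj_apply] at hbe ⊢
    calc (x : G) * g * b * ((x : G) * g)⁻¹ = x * (g * b * g⁻¹) * (x : G)⁻¹ := by group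
      _ = x * ((x : G)⁻¹ * r * x) * (x : G)⁻¹ := by rw [hbe]
      _ = r := by group
  have hLle : L' ≤ H.map (MulAut.conj ((x : G) * g)).toMonoidHom := by
    intro l hl
    obtain ⟨y, hy, hye⟩ := hx (show (⟨l, hLN hl⟩ : N) ∈ L'.subgroupOf N from hl)
    obtain ⟨a, ha, hae⟩ : (y : G) ∈ Hs.map (MulAut.conj g).toMonoidHom := hy
    refine ⟨a, hjoin ▸ Subgroup.mem_sup_left ha, ?_⟩
    have hye' := congrArg Subtype.val hye
    simp only [MulDistribMulAction.toMonoidEnd_apply, MulDistribMulAction.toMonoidHom_apply,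
      MulAut.smul_def, MulAut.conj_apply] at hye'
    push_cast at hye'
    simp only [MulEquiv.coe_toMonoidHom, MulAut.conj_apply] at hae ⊢
    rw [← hye', ← hae]
    group
  intro k hk
  have hktop : (⟨k, hk⟩ : K) ∈ R ⊔ L := by rw [hL.sup_eq_top]; trivial
  have := Subgroup.mem_map_of_mem K.subtype hktop
  rw [Subgroup.map_sup] at this
  exact sup_le hRle hLle this

end


/-- Let σ and τ be disjoint sets of primes with union π. Suppose a finite group G has a Hall π-subgroup H which is the direct product of a nilpotent σ-subgroup and a τ-subgroup (two elementwise-commuting subgroups generating H), and that the maximal τ-subgroups of G are pairwise conjugate. Then the maximal π-subgroups of G are pairwise conjugate. -/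
theorem result {G : Type*} [Group G] [Finite G]
    (σ τ π : Set ℕ) (hπ : π = σ ∪ τ) (hd : Disjoint σ τ) (H Hs Ht : Subgroup G) (hH : Cfsg.IsPiHall π H)
    (hs : Cfsg.IsPiSubgroup σ Hs) (ht : Cfsg.IsPiSubgroup τ Ht) (hsn : Group.IsNilpotent Hs)
    (hjoin : Hs ⊔ Ht = H) (hcomm : ∀ a ∈ Hs, ∀ b ∈ Ht, a * b = b * a) (hD : Cfsg.IsDPiGroup τ G) :
    Cfsg.IsDPiGroup π G := by
  intro A B hA hB
  have hHpi : Cfsg.IsPiSubgroup π H := hH.1
  obtain ⟨a, ha⟩ := pi_le_conj hπ hd hH hs ht hsn hjoin hcomm hD A hA.1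
  obtain ⟨b, hb⟩ := pi_le_conj hπ hd hH hs ht hsn hjoin hcomm hD B hB.1
  have hAe : H.map (MulAut.conj a).toMonoidHom = A := le_antisymm (hA.2 (map_isPi hHpi a) ha) ha
  have hBe : H.map (MulAut.conj b).toMonoidHom = B := le_antisymm (hB.2 (map_isPi hHpi b) hb) hb
  refine ⟨b * a⁻¹, ?_⟩
  rw [← hAe, ← hBe, Subgroup.map_map]
  congr 1
  ext h
  simp [mul_assoc]

end Cfsg.Agent.S4334
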