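import Cfsg.Statements.S4341
import Cfsg.Agent.Lib.SylowNumber.Basic

set_option autoImplicit false
open Cfsg

namespace Cfsg.Agent.S4341

/-- Let K be a normal subgroup of a finite group G, p a prime and P a Sylow p-subgroup of G; let N be the normalizer of P ∩ K inside the subgroup PK. Then the number of Sylow p-subgroups of G equals the product of the numbers of Sylow p-subgroups of G/K, of K, and of N/(P ∩ K). (The normality of P ∩ K in N, which always holds, is assumed as a hypothesis so that the quotient can be formed.) -/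
theorem result {G : Type*} [Group G] [Finite G]
    (p : ℕ) [Fact p.Prime] (K : Subgroup G) [K.Normal] (P : Sylow p G) (N : Subgroup G)
    (hN : N = ((P : Subgroup G) ⊔ K) ⊓ Subgroup.normalizer (((P : Subgroup G) ⊓ K : Subgroup G) : Set G))
    [hn : (((P : Subgroup G) ⊓ K).subgroupOf N).Normal] :
    Nat.card (Sylow p G) =
      Nat.card (Sylow p (G ⧸ K)) * Nat.card (Sylow p K) * Nat.card (Sylow p (N ⧸ ((P : Subgroup G) ⊓ K).subgroupOf N)) := by
  subst hN
  set M : Subgroup G := (P : Subgroup G) ⊔ K with hM
  have hPM : (P : Subgroup G) ≤ M := le_sup_left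
  have hKM : K ≤ M := le_sup_right
  have h1 := CfsgLib.SylowNumber.card_sylow_eq_quotient_mul K P
  have h2 := CfsgLib.SylowNumber.card_sylow_eq_normal_mul (K.subgroupOf M) (P.subtype hPM)
  have h3 : Nat.card (Sylow p (K.subgroupOf M)) = Nat.card (Sylow p K) :=
    CfsgLib.SylowNumber.card_sylow_congr (Subgroup.subgroupOfEquivOfLe hKM)
  have h4 : Subgroup.normalizer (((P.subtype hPM : Subgroup M) ⊓ K.subgroupOf M : Subgroup M) : Set M) =
      (Subgroup.normalizer (((P : Subgroup G) ⊓ K : Subgroup G) : Set G)).subgroupOf M := by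
    rw [Subgroup.subgroupOf_normalizer_eq (inf_le_right.trans hKM), Sylow.coe_subtype,
      Subgroup.subgroupOf, Subgroup.subgroupOf, ← Subgroup.comap_inf]
    rfl
  have h5 : Nat.card (Sylow p (M ⊓ Subgroup.normalizer (((P : Subgroup G) ⊓ K : Subgroup G) : Set G) : Subgroup G)) =
      Nat.card (Sylow p (Subgroup.normalizer
        (((P.subtype hPM : Subgroup M) ⊓ K.subgroupOf M : Subgroup M) : Set M))) := by
    rw [h4]
    refine CfsgLib.SylowNumber.card_sylow_congr ?_
    exact (Subgroup.subgroupOfEquivOfLe (inf_le_left : M ⊓ _ ≤ M)).symm.trans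
      (MulEquiv.subgroupCongr (by rw [inf_comm, Subgroup.inf_subgroupOf_right]))
  rw [h3, ← h5] at h2
  rw [h1, h2, mul_assoc]
  congr 2
  symm
  apply CfsgLib.SylowNumber.card_sylow_quotient_of_isPGroup
  exact (P.2.to_le inf_le_left).comap_of_injective _ (Subgroup.subtype_injective _)

end Cfsg.Agent.S4341
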