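import Cfsg.Statements.S4343
import Cfsg.Agent.Lib.PSolvable.Omega
import Cfsg.Agent.S0060

set_option autoImplicit false
set_option linter.style.haveILetI false
open Cfsg

namespace Cfsg.Agent.S4343

open scoped commutatorElement Pointwise

/-- Let S be a finite non-abelian simple group and p a prime dividing its order. If S has fewer than p² Sylow p-subgroups, then its Sylow p-subgroups have order p. -/
theorem result {S : Type*} [Group S] [Finite S]
    [IsSimpleGroup S] (hS : ¬ IsMulCommutative S) (p : ℕ) [Fact p.Prime] (hp : p ∣ Nat.card S)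
    (hn : Nat.card (Sylow p S) < p ^ 2) (P : Sylow p S) : Nat.card P = p := by
  have hpp : p.Prime := Fact.out
  have hOp : Cfsg.pCore p S = ⊥ := by
    haveI := CfsgLib.Fitting.pCore_normal (G := S) p
    rcases (CfsgLib.Fitting.pCore_normal (G := S) p).eq_bot_or_eq_top with h | h
    · exact h
    · exfalso
      have hSp : IsPGroup p S := by
        have := CfsgLib.Fitting.pCore_isPGroup (G := S) p
        rw [h] at this
        exact this.of_equiv Subgroup.topEquiv
      haveI := hSp.center_nontrivial
      haveI : (Subgroup.center S).Normal := inferInstance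
      rcases (inferInstance : (Subgroup.center S).Normal).eq_bot_or_eq_top with hc | hc
      · exact (Subgroup.nontrivial_iff_ne_bot _).mp inferInstance hc
      · exact hS ⟨⟨fun a b => (Subgroup.mem_center_iff.mp (hc ▸ Subgroup.mem_top a) b).symm⟩⟩
  -- every orbit of `P` on Sylow subgroups has size at most `p`
  have horb : ∀ Q : Sylow p S, Nat.card (MulAction.orbit (P : Subgroup S) Q) = 1 ∨
      Nat.card (MulAction.orbit (P : Subgroup S) Q) = p := by
    intro Q
    obtain ⟨k, hk⟩ := P.isPGroup'.card_orbit Q
    have hle : p ^ k < p ^ 2 := hk ▸ lt_of_le_of_lt (Finite.card_subtype_le _) hn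
    have := (Nat.pow_lt_pow_iff_right hpp.one_lt).mp hle
    interval_cases k
    · exact Or.inl (hk.trans (pow_zero p))
    · exact Or.inr (hk.trans (pow_one p))
  have hidx : ∀ Q : Sylow p S, (MulAction.stabilizer (P : Subgroup S) Q).index =
      Nat.card (MulAction.orbit (P : Subgroup S) Q) := fun Q => by
    rw [MulAction.index_stabilizer, Nat.card_coe_set_eq]
  have hmemQ : ∀ (Q : Sylow p S) (x : (P : Subgroup S)), x • Q = Q → (x : S) ∈ (Q : Subgroup S) := by
    intro Q x hx
    have h1 : (x : S) ∈ (P : Subgroup S) ⊓ Subgroup.normalizer ((Q : Subgroup S) : Set S) :=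
      Subgroup.mem_inf.mpr ⟨x.2, Sylow.smul_eq_iff_mem_normalizer.mp hx⟩
    exact (Subgroup.mem_inf.mp ((SetLike.ext_iff.mp (P.isPGroup'.inf_normalizer_sylow Q) (x : S)).mp h1)).2
  have hΦ : frattini (P : Subgroup S) = ⊥ := by
    rw [Subgroup.eq_bot_iff_forall]
    intro x hx
    refine Subtype.ext ?_
    have hmem : (x : S) ∈ Cfsg.pCore p S := by
      refine CfsgLib.Fitting.mem_pCore_iff_forall_sylow.mpr fun Q => hmemQ Q x ?_
      rcases horb Q with h | h
      · rw [← hidx Q, Subgroup.index_eq_one] at h
        exact MulAction.mem_stabilizer_iff.mp (h ▸ Subgroup.mem_top x)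
      · have hpr : (MulAction.stabilizer (P : Subgroup S) Q).index.Prime := by rw [hidx Q, h]; exact hpp
        refine MulAction.mem_stabilizer_iff.mp (frattini_le_coatom ?_ hx)
        refine ⟨fun e => hpr.ne_one (Subgroup.index_eq_one.mpr e), fun L hL => ?_⟩
        have h2 := Subgroup.relIndex_mul_index hL.le
        rcases hpr.eq_one_or_self_of_dvd _ (Dvd.intro_left _ h2) with h3 | h3
        · exact Subgroup.index_eq_one.mp h3
        · rw [h3] at h2
          have h4 : (MulAction.stabilizer (P : Subgroup S) Q).relIndex L = 1 := by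
            have := hpr.pos
            nlinarith
          exact absurd (Subgroup.relIndex_eq_one.mp h4) hL.not_ge
    rwa [hOp, Subgroup.mem_bot] at hmem
  have hab : IsMulCommutative P := by
    refine ⟨⟨fun a b => ?_⟩⟩
    have h1 := (CfsgLib.PSolvable.commutator_le_frattini P.isPGroup').1
      (Subgroup.commutator_mem_commutator (Subgroup.mem_top a) (Subgroup.mem_top b))
    rw [hΦ, Subgroup.mem_bot] at h1
    exact commutatorElement_eq_one_iff_mul_comm.mp h1
  obtain ⟨g, hg⟩ := Cfsg.Agent.S0060.result p P hab hOp
  have hstab : MulAction.stabilizer (P : Subgroup S) (g • P) = ⊥ := by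
    rw [Subgroup.eq_bot_iff_forall]
    intro x hx
    have h1 : (x : S) ∈ (P : Subgroup S) ⊓ MulAut.conj g • (P : Subgroup S) :=
      Subgroup.mem_inf.mpr ⟨x.2, by
        rw [← Sylow.coe_subgroup_smul]
        exact hmemQ _ x (MulAction.mem_stabilizer_iff.mp hx)⟩
    rw [hg, Subgroup.mem_bot] at h1
    exact Subtype.ext h1
  have h := hidx (g • P)
  rw [hstab, Subgroup.index_bot] at h
  rcases horb (g • P) with e | e
  · exfalso
    have h2 : p ∣ Nat.card (P : Subgroup S) := P.dvd_card_of_dvd_card hp
    exact hpp.not_dvd_one ((h.trans e) ▸ h2)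
  · exact h.trans e
end Cfsg.Agent.S4343
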