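import Cfsg.Statements.S4344
import Mathlib
import Cfsg.Agent.Lib.Coprime.SchurZassenhaus

set_option autoImplicit false
set_option linter.style.haveILetI false
open Cfsg

namespace Cfsg.Agent.S4344

/-- Let S be a finite non-abelian simple group, M a maximal subgroup of S and C a cyclic normal subgroup of M. If a Sylow p-subgroup P of S (for a prime p dividing the order of S) is contained in C, then the number of Sylow p-subgroups of S equals the index of M. -/
theorem result {S : Type*} [Group S] [Finite S]
    [IsSimpleGroup S] (hS : ¬ IsMulCommutative S) (p : ℕ) [Fact p.Prime] (hp : p ∣ Nat.card S)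
    (M : Subgroup S) (hM : IsCoatom M) (C : Subgroup S) (hCM : C ≤ M) (hCn : (C.subgroupOf M).Normal)
    (hC : IsCyclic C) (P : Sylow p S) (hP : (P : Subgroup S) ≤ C) :
    Nat.card (Sylow p S) = M.index := by
  classical
  haveI := hC
  set N := Subgroup.normalizer ((P : Subgroup S) : Set S)
  haveI hU : Subsingleton (Sylow p C) := Nat.card_eq_one_iff_unique.mp (by
    obtain ⟨R⟩ := (inferInstance : Nonempty (Sylow p C))
    letI := IsCyclic.commGroup (α := C)
    haveI : (R : Subgroup C).Normal := Subgroup.normal_of_comm _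
    exact (Sylow.card_eq_index_normalizer R).trans (Subgroup.index_eq_one.mpr (Subgroup.normalizer_eq_top_iff.mpr inferInstance))) |>.1
  have hMN : M ≤ N := by
    intro m hm
    rw [CfsgLib.Coprime.mem_normalizer_iff_conj_smul, ← Sylow.coe_subgroup_smul]
    have hle : ((m • P : Sylow p S) : Subgroup S) ≤ C := by
      intro y hy
      rw [Sylow.coe_subgroup_smul, CfsgLib.Coprime.mem_conj_smul_iff] at hy
      have h1 := hCn.conj_mem ⟨m⁻¹ * y * m, hCM (hP hy)⟩ (hP hy) ⟨m, hm⟩
      have h2 : m * (m⁻¹ * y * m) * m⁻¹ ∈ C := h1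
      rwa [show m * (m⁻¹ * y * m) * m⁻¹ = y by group] at h2
    have h3 : (m • P).subtype hle = P.subtype hP := Subsingleton.elim _ _
    exact congrArg Sylow.toSubgroup (Sylow.subtype_injective (hP := hle) (hQ := hP) h3)
  have hN : N ≠ ⊤ := by
    intro h
    rcases (Subgroup.normalizer_eq_top_iff.mp h).eq_bot_or_eq_top with h1 | h1
    · exact P.ne_bot_of_dvd_card hp h1
    · exact hM.1 (top_le_iff.mp (h1 ▸ hP.trans hCM))
  have hMeq : M = N := by
    by_contra hne
    exact hN (hM.2 N (lt_of_le_of_ne hMN hne))
  rw [Sylow.card_eq_index_normalizer P, hMeq]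
  rfl

end Cfsg.Agent.S4344
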