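import Cfsg.Statements.S4347
import Mathlib

set_option autoImplicit false
set_option linter.style.haveILetI false
open Cfsg

namespace Cfsg.Agent.S4347

/-- Let G be a finite group and p a prime. Say a Sylow p-subgroup Q is redundant when every element of p-power order lies in some Sylow p-subgroup other than Q. Then G has no redundant Sylow p-subgroup if and only if some element of p-power order lies in exactly one Sylow p-subgroup. -/
theorem result {G : Type*} [Group G] [Finite G]
    (p : ℕ) [Fact p.Prime] :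
    (¬ ∃ Q : Sylow p G, ∀ x : G, (∃ k : ℕ, orderOf x = p ^ k) → ∃ P : Sylow p G, P ≠ Q ∧ x ∈ P) ↔
      ∃ x : G, (∃ k : ℕ, orderOf x = p ^ k) ∧ ∃! P : Sylow p G, x ∈ P := by
  constructor
  · intro h
    obtain ⟨Q⟩ : Nonempty (Sylow p G) := inferInstance
    by_contra hno
    refine h ⟨Q, fun x hx => ?_⟩
    by_contra hall
    push Not at hall
    have hxp : IsPGroup p (Subgroup.zpowers x) := by
      obtain ⟨k, hk⟩ := hx
      exact IsPGroup.of_card (n := k) (by rw [Nat.card_zpowers, hk])
    obtain ⟨P, hP⟩ := hxp.exists_le_sylow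
    have hxP : x ∈ P := hP (Subgroup.mem_zpowers x)
    have hPQ : P = Q := by
      by_contra hne
      exact hall P hne hxP
    refine hno ⟨x, hx, P, hxP, fun R hR => ?_⟩
    rw [hPQ]
    by_contra hne
    exact hall R hne hR
  · rintro ⟨x, ⟨k, hk⟩, P0, hxP, huniq⟩ ⟨Q, hQ⟩
    obtain ⟨g, rfl⟩ := MulAction.exists_smul_eq G P0 Q
    obtain ⟨R, hRne, hR⟩ := hQ (g * x * g⁻¹) ⟨k, by
      rw [← hk]; exact orderOf_injective (MulAut.conj g).toMonoidHom (MulAut.conj g).injective x⟩
    refine hRne ?_
    have h1 : x ∈ g⁻¹ • R := by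
      show x ∈ ((g⁻¹ • R : Sylow p G) : Subgroup G)
      rw [Sylow.coe_subgroup_smul]
      refine ⟨g * x * g⁻¹, hR, ?_⟩
      simp [mul_assoc]
    rw [← huniq _ h1, smul_inv_smul]

end Cfsg.Agent.S4347
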