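import Cfsg.Statements.S4348
import Cfsg.Agent.Lib.Fitting.Basic

-- import your own Cfsg.Agent.* helpers here

set_option autoImplicit false
open Cfsg

namespace Cfsg.Agent.S4348

/-- Let G be a finite group, p a prime and P a Sylow p-subgroup of G, and let O_p(G) be the largest normal p-subgroup of G. If P/O_p(G) is cyclic, then some element of p-power order of G lies in exactly one Sylow p-subgroup. -/
theorem result {G : Type*} [Group G] [Finite G]
    (p : ℕ) [Fact p.Prime] (P : Sylow p G)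
    [hn : ((Cfsg.pCore p G).subgroupOf (P : Subgroup G)).Normal]
    (hc : IsCyclic ((P : Subgroup G) ⧸ (Cfsg.pCore p G).subgroupOf (P : Subgroup G))) :
    ∃ x : G, (∃ k : ℕ, orderOf x = p ^ k) ∧ ∃! Q : Sylow p G, x ∈ Q := by
  set O := Cfsg.pCore p G
  obtain ⟨c, hc'⟩ := hc.exists_zpow_surjective
  obtain ⟨x, rfl⟩ := QuotientGroup.mk'_surjective _ c
  obtain ⟨k, hk⟩ := IsPGroup.iff_orderOf.mp P.isPGroup' x
  refine ⟨x, ⟨k, by rw [Subgroup.orderOf_coe]; exact hk⟩, P, x.2, fun Q hQ => ?_⟩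
  haveI : O.Normal := CfsgLib.Fitting.pCore_normal p
  have hOp : IsPGroup p O := CfsgLib.Fitting.pCore_isPGroup p
  have hOQ : O ≤ Q := by
    have h := Q.is_maximal' (Q.isPGroup'.to_sup_of_normal_right hOp) le_sup_left
    exact h ▸ le_sup_right
  have hle : (P : Subgroup G) ≤ Q := by
    intro y hy
    obtain ⟨j, hj⟩ := hc' (QuotientGroup.mk' _ (⟨y, hy⟩ : (P : Subgroup G)))
    simp only at hj
    rw [← map_zpow, QuotientGroup.mk'_eq_mk'] at hj
    obtain ⟨z, hz, hzy⟩ := hj
    have h : (x : G) ^ j * (z : G) = y := congrArg Subtype.val hzy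
    rw [← h]
    exact mul_mem (zpow_mem hQ j) (hOQ hz)
  exact Sylow.ext (P.is_maximal' Q.isPGroup' hle)

end Cfsg.Agent.S4348
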