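import Cfsg.Statements.S4349
import Cfsg.Agent.Lib.SylowTwoSym.Unique
-- import your own Cfsg.Agent.* helpers here

set_option autoImplicit false
open Cfsg

namespace Cfsg.Agent.S4349


/-- Let n ≥ 2 and let x be an element of 2-power order of the symmetric group of degree n. Then x lies in exactly one Sylow 2-subgroup if and only if x has at most two fixed points and the nontrivial cycles of x have pairwise different lengths. -/
theorem result (n : ℕ) (hn : 2 ≤ n)
    (x : Equiv.Perm (Fin n)) (hx : ∃ k : ℕ, orderOf x = 2 ^ k) :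
    (∃! P : Sylow 2 (Equiv.Perm (Fin n)), x ∈ P) ↔ (n ≤ x.support.card + 2 ∧ x.cycleType.Nodup) := by
  classical
  obtain ⟨k, hk⟩ := hx
  have hx' : ∃ k, x ^ 2 ^ k = 1 := ⟨k, by rw [← hk, pow_orderOf_eq_one]⟩
  have hgood : CfsgLib.SylowTwoSym.Unique.Good x ↔ n ≤ x.support.card + 2 ∧ x.cycleType.Nodup := by
    rw [CfsgLib.SylowTwoSym.Unique.good_iff, Fintype.card_fin]
  rw [← hgood]
  constructor
  · rintro ⟨P, hP, huniq⟩
    exact CfsgLib.SylowTwoSym.Unique.good_of_unique hx' fun Q R hQ hR => (huniq Q hQ).trans (huniq R hR).symm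
  · intro hG
    obtain ⟨P, hP⟩ := (IsPGroup.of_card ((Nat.card_zpowers x).trans hk)).exists_le_sylow
    exact ⟨P, hP (Subgroup.mem_zpowers x), fun Q hQ =>
      CfsgLib.SylowTwoSym.Unique.unique_of_good n (by simp) x hx' hG Q P hQ (hP (Subgroup.mem_zpowers x))⟩

end Cfsg.Agent.S4349
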