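import Cfsg.Statements.S4354
import Cfsg.Agent.Lib.ClassSize.PPrime
import Cfsg.Agent.Lib.Coprime.Action

set_option autoImplicit false
open Cfsg

namespace Cfsg.Agent.S4354

/-- Let G be a finite group and p a prime such that the Sylow p-subgroups of G are non-abelian while every element of p-power order has conjugacy class size prime to p, and suppose no nontrivial proper normal subgroup N of G has this property and no quotient G/N by such an N has it. Then G is simple. -/
theorem result {G : Type*} [Group G] [Finite G]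
    (p : ℕ) [Fact p.Prime] (h : ((∃ P : Sylow p G, ¬ IsMulCommutative P) ∧ ∀ x : G, (∃ k : ℕ, orderOf x = p ^ k) → ¬ p ∣ (Subgroup.centralizer ({x} : Set G)).index))
    (hmin : ∀ (N : Subgroup G) [N.Normal], N ≠ ⊥ → N ≠ ⊤ →
      ¬ ((∃ P : Sylow p N, ¬ IsMulCommutative P) ∧ ∀ x : N, (∃ k : ℕ, orderOf x = p ^ k) → ¬ p ∣ (Subgroup.centralizer ({x} : Set N)).index) ∧
      ¬ ((∃ P : Sylow p (G ⧸ N), ¬ IsMulCommutative P) ∧ ∀ x : (G ⧸ N), (∃ k : ℕ, orderOf x = p ^ k) → ¬ p ∣ (Subgroup.centralizer ({x} : Set (G ⧸ N))).index)) :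
    IsSimpleGroup G := by
  classical
  obtain ⟨⟨P₁, hP₁⟩, hcl⟩ := h
  have hnc : ∀ Q : Sylow p G, ¬ IsMulCommutative (Q : Subgroup G) := by
    intro Q hQ
    obtain ⟨g, hg⟩ := MulAction.exists_smul_eq G Q P₁
    apply hP₁
    have : ∀ a ∈ (P₁ : Subgroup G), g⁻¹ * a * g ∈ (Q : Subgroup G) := by
      intro a ha
      rwa [← hg, Sylow.coe_subgroup_smul, Subgroup.mem_pointwise_smul_iff_inv_smul_mem, ← map_inv,
        MulAut.smul_def, MulAut.conj_apply, inv_inv] at ha
    refine ⟨⟨fun a b => Subtype.ext ?_⟩⟩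
    have h1 := congrArg Subtype.val (mul_comm' (⟨_, this a a.2⟩ : (Q : Subgroup G)) ⟨_, this b b.2⟩)
    simp only [Subgroup.coe_mul] at h1
    calc (a : G) * b = g * (g⁻¹ * a * g * (g⁻¹ * b * g)) * g⁻¹ := by group
      _ = g * (g⁻¹ * b * g * (g⁻¹ * a * g)) * g⁻¹ := by rw [h1]
      _ = (b : G) * a := by group
  have : Nontrivial G := by
    by_contra hnt
    rw [not_nontrivial_iff_subsingleton] at hnt
    exact hP₁ ⟨⟨fun a b => Subtype.ext (Subsingleton.elim _ _)⟩⟩
  refine ⟨fun N hN => ?_⟩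
  by_contra hcon
  push Not at hcon
  obtain ⟨hbot, htop⟩ := hcon
  obtain ⟨hXN, hXQ⟩ := hmin N hbot htop
  have hclN : CfsgLib.ClassSize.PClasses p N := CfsgLib.ClassSize.PClasses.subgroup hcl N
  have hclQ : CfsgLib.ClassSize.PClasses p (G ⧸ N) := CfsgLib.ClassSize.PClasses.quotient hcl N
  have hNab : ∀ S : Sylow p N, IsMulCommutative (S : Subgroup N) := fun S => by
    by_contra hS; exact hXN ⟨⟨S, hS⟩, hclN⟩
  have hQab : ∀ S : Sylow p (G ⧸ N), IsMulCommutative (S : Subgroup (G ⧸ N)) := fun S => by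
    by_contra hS; exact hXQ ⟨⟨S, hS⟩, hclQ⟩
  -- the elements of `p`-power order generate `G`
  have hgen : Subgroup.closure {x : G | ∃ k : ℕ, orderOf x = p ^ k} = ⊤ := by
    by_contra hL
    set L := Subgroup.closure {x : G | ∃ k : ℕ, orderOf x = p ^ k} with hLdef
    have hLn : L.Normal := by
      refine ⟨fun a ha g => ?_⟩
      induction ha using Subgroup.closure_induction with
      | mem a ha => exact Subgroup.subset_closure (by
          obtain ⟨k, hk⟩ := ha
          exact ⟨k, by rw [show g * a * g⁻¹ = MulAut.conj g a from rfl, MulEquiv.orderOf_eq, hk]⟩)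
      | one => simp
      | mul a b _ _ iha ihb =>
        rw [show g * (a * b) * g⁻¹ = (g * a * g⁻¹) * (g * b * g⁻¹) by group]
        exact mul_mem iha ihb
      | inv a _ iha =>
        rw [show g * a⁻¹ * g⁻¹ = (g * a * g⁻¹)⁻¹ by group]
        exact inv_mem iha
    have hPL : (P₁ : Subgroup G) ≤ L := by
      intro a ha
      obtain ⟨k, hk⟩ := P₁.isPGroup' ⟨a, ha⟩
      obtain ⟨i, -, hi⟩ := (Nat.dvd_prime_pow Fact.out).mp
        (orderOf_dvd_of_pow_eq_one (congrArg Subtype.val hk))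
      exact Subgroup.subset_closure ⟨i, hi⟩
    have hLbot : L ≠ ⊥ := fun hb => hP₁ ⟨⟨fun a b => Subtype.ext (by
      have ha : (a : G) = 1 := Subgroup.mem_bot.mp (hb.le (hPL a.2))
      have hb' : (b : G) = 1 := Subgroup.mem_bot.mp (hb.le (hPL b.2))
      rw [Subgroup.coe_mul, Subgroup.coe_mul, ha, hb'])⟩⟩
    refine (hmin L hLbot hL).1 ⟨⟨P₁.subtype hPL, fun hc => hP₁ ⟨⟨fun a b => Subtype.ext ?_⟩⟩⟩,
      CfsgLib.ClassSize.PClasses.subgroup hcl L⟩
    have := congrArg (fun t : (P₁.subtype hPL : Subgroup L) => ((t : L) : G))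
      (mul_comm' (M := (P₁.subtype hPL : Subgroup L)) ⟨⟨a, hPL a.2⟩, a.2⟩ ⟨⟨b, hPL b.2⟩, b.2⟩)
    exact this
  let P₀ : Sylow p G := P₁
  set A := (P₀ : Subgroup G) ⊓ N with hA
  have hAcomm : ∀ a ∈ A, ∀ b ∈ A, a * b = b * a := by
    intro a ha b hb
    have := hNab (CfsgLib.SylowNumber.infSylow N P₀)
    exact congrArg (fun t : (CfsgLib.SylowNumber.infSylow N P₀ : Subgroup N) => ((t : N) : G))
      (mul_comm' (M := (CfsgLib.SylowNumber.infSylow N P₀ : Subgroup N))
        ⟨⟨a, ha.2⟩, by rw [CfsgLib.SylowNumber.coe_infSylow]; exact ha.1⟩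
        ⟨⟨b, hb.2⟩, by rw [CfsgLib.SylowNumber.coe_infSylow]; exact hb.1⟩)
  set C := Subgroup.centralizer (A : Set G) with hC
  have hAC : A ≤ C := fun a ha => Subgroup.mem_centralizer_iff.mpr fun b hb => hAcomm b hb a ha
  have hCN : C ⊔ N = ⊤ := by
    have hfr : Subgroup.normalizer (A : Set G) ⊔ N = ⊤ := by
      have h1 := Sylow.normalizer_sup_eq_top (CfsgLib.SylowNumber.infSylow N P₀)
      rwa [CfsgLib.SylowNumber.coe_infSylow, Subgroup.subgroupOf_map_subtype, ← hA] at h1
    have hn : (C ⊔ N).Normal := by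
      rw [← Subgroup.normalizer_eq_top_iff, eq_top_iff, ← hfr]
      refine sup_le (fun g hg => ?_) (fun g hg => ?_)
      · have hgC : g ∈ Subgroup.normalizer (C : Set G) := by
          rw [Subgroup.mem_normalizer_iff]
          have key : ∀ g ∈ Subgroup.normalizer (A : Set G), ∀ c ∈ C, g * c * g⁻¹ ∈ C := by
            intro g hg c hc
            rw [hC, Subgroup.mem_centralizer_iff] at hc ⊢
            intro a ha
            have ha' : g⁻¹ * a * g ∈ A := by
              have := (Subgroup.mem_normalizer_iff.mp (Subgroup.inv_mem _ hg) a).mp ha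
              rwa [inv_inv] at this
            calc a * (g * c * g⁻¹) = g * ((g⁻¹ * a * g) * c) * g⁻¹ := by group
              _ = g * (c * (g⁻¹ * a * g)) * g⁻¹ := by rw [hc _ ha']
              _ = _ := by group
          exact fun c => ⟨key g hg c, fun hh => by
            have := key g⁻¹ (Subgroup.inv_mem _ hg) _ hh
            rwa [show g⁻¹ * (g * c * g⁻¹) * g⁻¹⁻¹ = c by group] at this⟩
        rw [Subgroup.mem_normalizer_iff]
        intro a
        have key : ∀ g ∈ Subgroup.normalizer (C : Set G), ∀ a ∈ C ⊔ N, g * a * g⁻¹ ∈ C ⊔ N := by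
          intro g hg a ha
          obtain ⟨c, hc, d, hd, rfl⟩ := (Subgroup.mem_sup_of_normal_right (t := N)).mp ha
          rw [show g * (c * d) * g⁻¹ = (g * c * g⁻¹) * (g * d * g⁻¹) by group]
          exact mul_mem (Subgroup.mem_sup_left ((Subgroup.mem_normalizer_iff.mp hg c).mp hc))
            (Subgroup.mem_sup_right (hN.conj_mem d hd g))
        exact ⟨key g hgC a, fun hh => by
          have := key g⁻¹ (Subgroup.inv_mem _ hgC) _ hh
          rwa [show g⁻¹ * (g * a * g⁻¹) * g⁻¹⁻¹ = a by group] at this⟩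
      · exact Subgroup.le_normalizer (Subgroup.mem_sup_right hg)
    rw [eq_top_iff, ← hgen, Subgroup.closure_le]
    intro x hx
    obtain ⟨T, hT⟩ := CfsgLib.ClassSize.exists_sylow_le _ (hcl x hx) default
    obtain ⟨g, hg⟩ := MulAction.exists_smul_eq G T P₀
    have hmem : g * x * g⁻¹ ∈ C := by
      rw [hC, Subgroup.mem_centralizer_iff]
      intro a ha
      have haP : a ∈ (P₀ : Subgroup G) := ha.1
      rw [← hg, Sylow.coe_subgroup_smul, Subgroup.mem_pointwise_smul_iff_inv_smul_mem, ← map_inv,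
        MulAut.smul_def, MulAut.conj_apply, inv_inv, hT] at haP
      have h2 := Subgroup.mem_centralizer_singleton_iff.mp (Subgroup.map_subtype_le _ haP)
      calc a * (g * x * g⁻¹) = g * ((g⁻¹ * a * g) * x) * g⁻¹ := by group
        _ = g * (x * (g⁻¹ * a * g)) * g⁻¹ := by rw [h2]
        _ = _ := by group
    have := hn.conj_mem _ (Subgroup.mem_sup_left hmem) g⁻¹
    rwa [show g⁻¹ * (g * x * g⁻¹) * g⁻¹⁻¹ = x by group] at this
  have hidx : ¬ p ∣ C.index := by
    intro hd
    have h1 : C.index ∣ A.relIndex N := by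
      have e1 : C.index = C.relIndex N := by
        have h3 := CfsgLib.Coprime.card_sup_mul_card_inf (K := N) (S := C)
          (by rw [Subgroup.normalizer_eq_top]; exact le_top)
        rw [sup_comm, hCN, Subgroup.card_top, ← CfsgLib.Coprime.relIndex_mul_card_inf C N,
          ← C.card_mul_index, inf_comm N C] at h3
        have hpos : 0 < Nat.card C * Nat.card ↥(C ⊓ N) := Nat.mul_pos Nat.card_pos Nat.card_pos
        exact Nat.eq_of_mul_eq_mul_left hpos (by linarith)
      rw [e1]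
      exact Subgroup.relIndex_dvd_of_le_left N hAC
    have h2 : A.relIndex N = (CfsgLib.SylowNumber.infSylow N P₀ : Subgroup N).index := by
      rw [CfsgLib.SylowNumber.coe_infSylow, hA, Subgroup.inf_relIndex_right]; rfl
    exact (CfsgLib.SylowNumber.infSylow N P₀).not_dvd_index (h2 ▸ hd.trans h1)
  obtain ⟨S₀, hS₀⟩ : ∃ S : Sylow p C, A.subgroupOf C ≤ S :=
    ((P₀.isPGroup'.to_le inf_le_left).comap_of_injective C.subtype C.subtype_injective).exists_le_sylow
  obtain ⟨P, hP⟩ := CfsgLib.ClassSize.exists_sylow_le C hidx S₀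
  have hAP : A ≤ (P : Subgroup G) := fun a ha => by
    rw [hP]; exact ⟨⟨a, hAC ha⟩, hS₀ (show (⟨a, hAC ha⟩ : C) ∈ A.subgroupOf C from ha), rfl⟩
  have hPC : (P : Subgroup G) ≤ C := hP ▸ Subgroup.map_subtype_le _
  refine hnc P (CfsgLib.ClassSize.isMulCommutative_of_central_inf hcl N P hQab ?_)
  have heq : A = (P : Subgroup G) ⊓ N := by
    refine Subgroup.eq_of_le_of_card_ge (le_inf hAP inf_le_right) (le_of_eq ?_)
    have h1 : ∀ Q : Sylow p G, Nat.card ↥((Q : Subgroup G) ⊓ N) =
        Nat.card (CfsgLib.SylowNumber.infSylow N Q : Subgroup N) := fun Q => by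
      rw [CfsgLib.SylowNumber.coe_infSylow, ← Subgroup.inf_subgroupOf_right]
      exact (Nat.card_congr (Subgroup.subgroupOfEquivOfLe inf_le_right).toEquiv).symm
    rw [hA, h1, h1, Sylow.card_eq_multiplicity, Sylow.card_eq_multiplicity]
  intro a ha haN b hb
  have haA : a ∈ A := heq ▸ Subgroup.mem_inf.mpr ⟨ha, haN⟩
  exact Subgroup.mem_centralizer_iff.mp (hPC hb) a haA

end Cfsg.Agent.S4354
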