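import Cfsg.Statements.S4358
import Mathlib
import Cfsg.Agent.Lib.Classical.SylowLargePrime

set_option autoImplicit false
open Cfsg

namespace Cfsg.Agent.S4358

open Matrix

section

variable {F : Type*} [Field F] {p : ℕ} [hp : Fact p.Prime]

/-- The monomial matrix of a cyclic permutation. -/
def M (a : ZMod p → F) (j : ZMod p) : Matrix (ZMod p) (ZMod p) F :=
  Matrix.of fun i k => if k = i + j then a i else 0

theorem M_mul (a b : ZMod p → F) (j l : ZMod p) :
    M a j * M b l = M (fun i => a i * b (i + j)) (j + l) := by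
  ext i k
  rw [Matrix.mul_apply, Fintype.sum_eq_single (i + j)]
  · simp [M, add_assoc]
  · intro t ht; simp [M, ht]

theorem M_one : M (fun _ => (1 : F)) (0 : ZMod p) = 1 := by
  ext i k
  simp [M, Matrix.one_apply, eq_comm]

theorem M_pow (a : ZMod p → F) (j : ZMod p) (m : ℕ) :
    M a j ^ m = M (fun i => ∏ t ∈ Finset.range m, a (i + (t : ZMod p) * j)) ((m : ZMod p) * j) := by
  induction m with
  | zero => simp [M_one]
  | succ m ih =>
    rw [pow_succ, ih, M_mul]
    congr 1
    · funext i; rw [Finset.prod_range_succ]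
    · push_cast; ring

variable (F p) in
/-- The monomial Sylow subgroup. -/
def H [Finite F] : Subgroup (GL (ZMod p) F) where
  carrier := {g | ∃ (a : ZMod p → F) (j : ZMod p), (∀ i, a i ^ p = 1) ∧
    (g : Matrix (ZMod p) (ZMod p) F) = M a j}
  one_mem' := ⟨fun _ => 1, 0, fun _ => one_pow _, M_one.symm⟩
  mul_mem' := by
    rintro g h ⟨a, j, ha, hg⟩ ⟨b, l, hb, hh⟩
    exact ⟨fun i => a i * b (i + j), j + l, fun i => by rw [mul_pow, ha, hb, one_mul],
      by rw [Units.val_mul, hg, hh, M_mul]⟩
  inv_mem' := by
    rintro g ⟨a, j, ha, hg⟩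
    have hfin : IsOfFinOrder g := isOfFinOrder_of_finite g
    have hinv : g⁻¹ = g ^ (orderOf g - 1) := by
      refine inv_eq_of_mul_eq_one_right ?_
      rw [← pow_succ', Nat.sub_add_cancel hfin.orderOf_pos, pow_orderOf_eq_one]
    refine ⟨_, _, fun i => ?_, by rw [hinv, Units.val_pow_eq_pow_val, hg, M_pow]⟩
    rw [← Finset.prod_pow]
    exact Finset.prod_eq_one fun t _ => ha _

theorem mono_of_mem [Finite F] {g : GL (ZMod p) F} (hg : g ∈ H F p) (i k l : ZMod p)
    (hk : (g : Matrix (ZMod p) (ZMod p) F) i k ≠ 0) (hl : (g : Matrix (ZMod p) (ZMod p) F) i l ≠ 0) :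
    k = l := by
  obtain ⟨a, j, -, hg⟩ := hg
  rw [hg] at hk hl
  simp only [M, Matrix.of_apply, ne_eq, ite_eq_right_iff, not_forall] at hk hl
  exact hk.1.trans hl.1.symm

theorem isUnit_M {a : ZMod p → F} {j : ZMod p} (ha : ∀ i, a i ≠ 0) : IsUnit (M a j) := by
  refine IsUnit.of_mul_eq_one (M (fun i => (a (i - j))⁻¹) (-j)) ?_
  rw [M_mul, add_neg_cancel, ← M_one]
  congr 1
  funext i
  simp [ha]

variable [Fintype F]

theorem ne_zero_of_pow {x : F} (h : x ^ p = 1) : x ≠ 0 := fun h0 => by
  rw [h0, zero_pow hp.out.ne_zero] at h; exact zero_ne_one h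

theorem exists_mem {a : ZMod p → F} {j : ZMod p} (ha : ∀ i, a i ^ p = 1) :
    ∃ g ∈ H F p, (g : Matrix (ZMod p) (ZMod p) F) = M a j :=
  ⟨(isUnit_M (j := j) fun i => ne_zero_of_pow (ha i)).unit, ⟨a, j, ha, rfl⟩, rfl⟩

variable {ω : F} (hω : IsPrimitiveRoot ω p)
include hω

omit [Fintype F] in
theorem pow_val_add (x y : ZMod p) : ω ^ x.val * ω ^ y.val = ω ^ (x + y).val :=
  ((AddChar.zmodChar p hω.pow_eq_one).map_add_eq_mul x y).symm

theorem card_H : Nat.card (H F p) = p ^ (p + 1) := by
  classical
  have hμ : Nat.card {x : F // x ^ p = 1} = p := by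
    rw [Nat.card_eq_fintype_card, Fintype.card_subtype]
    conv_rhs => rw [← hω.card_nthRootsFinset]
    congr 1
    ext x
    simp [Polynomial.mem_nthRootsFinset hp.out.pos]
  let f : (ZMod p → {x : F // x ^ p = 1}) × ZMod p → H F p := fun z =>
    ⟨(exists_mem (j := z.2) (fun i => (z.1 i).2)).choose,
      (exists_mem (j := z.2) (fun i => (z.1 i).2)).choose_spec.1⟩
  have hf : ∀ z, ((f z : GL (ZMod p) F) : Matrix (ZMod p) (ZMod p) F) =
      M (fun i => (z.1 i : F)) z.2 := fun z =>
    (exists_mem (j := z.2) (fun i => (z.1 i).2)).choose_spec.2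
  have hbij : Function.Bijective f := by
    constructor
    · rintro ⟨a, j⟩ ⟨b, l⟩ h
      have h1 : M (fun i => (a i : F)) j = M (fun i => (b i : F)) l := by
        rw [← hf (a, j), ← hf (b, l), h]
      have hjl : j = l := by
        have h2 := congrFun (congrFun h1 0) j
        simp [M] at h2
        by_contra hne
        rw [if_neg hne] at h2
        exact ne_zero_of_pow (a 0).2 h2
      subst hjl
      refine Prod.ext (funext fun i => Subtype.ext ?_) rfl
      simpa [M] using congrFun (congrFun h1 i) (i + j)
    · rintro ⟨g, a, j, ha, hg⟩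
      exact ⟨(fun i => ⟨a i, ha i⟩, j), Subtype.ext (Units.ext (by rw [hf, hg]))⟩
  rw [← Nat.card_eq_of_bijective f hbij, Nat.card_prod, Nat.card_fun, hμ, Nat.card_zmod, pow_succ]

/-- The Fourier matrix of a bijection. -/
theorem exists_fourier (π : ZMod p → ZMod p) (hπ : Function.Bijective π) (hpF : (p : F) ≠ 0) :
    ∃ g : GL (ZMod p) F, (∀ i k, (g : Matrix (ZMod p) (ZMod p) F) i k = ω ^ (π i * k).val) ∧
      ∀ i k, ((g⁻¹ : GL (ZMod p) F) : Matrix (ZMod p) (ZMod p) F) i k = (p : F)⁻¹ * ω ^ (-(i * π k)).val := by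
  classical
  have hωp : ω ^ p = 1 := hω.pow_eq_one
  let χ : AddChar (ZMod p) F := AddChar.zmodChar p hωp
  have hχ : χ.IsPrimitive := AddChar.zmodChar_primitive_of_primitive_root p hω
  let A : Matrix (ZMod p) (ZMod p) F := Matrix.of fun i k => χ (π i * k)
  let B : Matrix (ZMod p) (ZMod p) F := Matrix.of fun i k => (p : F)⁻¹ * χ (-(i * π k))
  have hAB : A * B = 1 := by
    ext i k
    rw [Matrix.mul_apply]
    have : ∀ t, A i t * B t k = (p : F)⁻¹ * χ (t * (π i - π k)) := fun t => by
      simp only [A, B, Matrix.of_apply]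
      rw [mul_left_comm, ← AddChar.map_add_eq_mul]
      congr 2
      ring
    simp only [this, ← Finset.mul_sum, AddChar.sum_mulShift _ hχ, sub_eq_zero, hπ.1.eq_iff,
      Matrix.one_apply]
    split_ifs <;> simp [hpF]
  exact ⟨⟨A, B, hAB, mul_eq_one_comm.mp hAB⟩, fun i k => rfl, fun i k => rfl⟩

/-- A conjugate of the standard subgroup that contains `x` and differs from it. -/
theorem exists_conj (hp2 : p ≠ 2) (hpF : (p : F) ≠ 0) (x : GL (ZMod p) F) (hx : x ∈ H F p) :
    ∃ g : GL (ZMod p) F, g⁻¹ * x * g ∈ H F p ∧ ∃ y ∈ H F p, g * y * g⁻¹ ∉ H F p := by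
  classical
  have hp3 : 3 ≤ p := by have := hp.out.two_le; omega
  have hω1 : ω ≠ 1 := hω.ne_one hp.out.one_lt
  have hωp : ω ^ p = 1 := hω.pow_eq_one
  have two_ne : (2 : ZMod p) ≠ 0 := by
    intro h
    have h2 : ((2 : ℕ) : ZMod p) = 0 := by simpa using h
    rw [ZMod.natCast_eq_zero_iff] at h2
    have := Nat.le_of_dvd two_pos h2
    omega
  let δ : ZMod p → ZMod p → F := fun i₀ k => if k = i₀ then ω else 1
  have hδ : ∀ i₀ k, δ i₀ k ^ p = 1 := fun i₀ k => by
    simp only [δ]; split_ifs <;> simp [hωp]
  obtain ⟨a, j, ha, hxa⟩ := hx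
  -- conjugation by a diagonal times a Fourier matrix is not monomial
  have hfour : ∀ (π : ZMod p → ZMod p) (hπ : Function.Bijective π) (D g : GL (ZMod p) F) (d : ZMod p → F),
      (∀ i, d i ^ p = 1) → (D : Matrix (ZMod p) (ZMod p) F) = M d 0 →
      (∀ i k, (g : Matrix (ZMod p) (ZMod p) F) i k = ω ^ (π i * k).val) →
      (∀ i k, ((g⁻¹ : GL (ZMod p) F) : Matrix (ZMod p) (ZMod p) F) i k = (p : F)⁻¹ * ω ^ (-(i * π k)).val) →
      ∃ y ∈ H F p, D * g * y * (D * g)⁻¹ ∉ H F p := by
    intro π hπ D g d hd hD hg hgi
    obtain ⟨y, hy, hyv⟩ := exists_mem (j := 0) (hδ 0)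
    refine ⟨y, hy, fun hmem => ?_⟩
    have hDi : ((D⁻¹ : GL (ZMod p) F) : Matrix (ZMod p) (ZMod p) F) = M (fun i => (d i)⁻¹) 0 := by
      refine Units.inv_eq_of_mul_eq_one_right ?_
      rw [hD, M_mul, add_zero, ← M_one]
      congr 1
      funext i
      simp [ne_zero_of_pow (hd i)]
    have hent : ∀ i k : ZMod p, i ≠ k →
        ((D * g * y * (D * g)⁻¹ : GL (ZMod p) F) : Matrix (ZMod p) (ZMod p) F) i k ≠ 0 := by
      intro i k hik
      rw [_root_.mul_inv_rev, ← mul_assoc, Units.val_mul, Units.val_mul, Units.val_mul, Units.val_mul,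
        hD, hDi, mul_assoc (M d 0), mul_assoc (M d 0)]
      have hy1 : (y : Matrix (ZMod p) (ZMod p) F) = 1 + Matrix.single 0 0 (ω - 1) := by
        rw [hyv]
        ext r s
        by_cases hrs : r = s
        · subst hrs
          by_cases hr : r = 0
          · subst hr; simp [M, δ]
          · simp [M, δ, hr, Ne.symm hr]
        · simp [M, Matrix.one_apply_ne hrs, Matrix.single_apply, Ne.symm hrs]
          rintro rfl rfl
          exact absurd rfl hrs
      have hmid : ((g : Matrix (ZMod p) (ZMod p) F) * y * ((g⁻¹ : GL (ZMod p) F) :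
          Matrix (ZMod p) (ZMod p) F)) i k = (ω - 1) * (p : F)⁻¹ := by
        rw [hy1, Matrix.mul_add, Matrix.add_mul, mul_one, ← Units.val_mul, mul_inv_cancel,
          Units.val_one, Matrix.add_apply, Matrix.one_apply_ne hik, zero_add, Matrix.mul_apply,
          Fintype.sum_eq_single 0]
        · rw [Matrix.mul_apply, Fintype.sum_eq_single 0]
          · simp [hg, hgi]
          · intro t ht; simp [Matrix.single_apply, Ne.symm ht]
        · intro t ht
          rw [Matrix.mul_apply, Finset.sum_eq_zero, zero_mul]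
          intro s _
          simp [Matrix.single_apply, Ne.symm ht]
      rw [Matrix.mul_apply, Fintype.sum_eq_single k]
      · rw [Matrix.mul_apply, Fintype.sum_eq_single i]
        · rw [hmid]
          simp [M, hpF, sub_ne_zero.mpr hω1, ne_zero_of_pow (hd i), ne_zero_of_pow (hd k)]
        · intro t ht; simp [M, ht]
      · intro t ht; simp [M, Ne.symm ht]
    have h12 : (1 : ZMod p) ≠ 2 := by
      intro h
      have : (1 : ZMod p) = 0 := by linear_combination -h
      exact one_ne_zero this
    exact h12 (mono_of_mem hmem 0 1 2 (hent 0 1 zero_ne_one) (hent 0 2 (Ne.symm two_ne)))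
  by_cases hj : j = 0
  · subst hj
    by_cases hinj : Function.Injective a
    · -- distinct eigenvalues
      have hroot : ∀ i, ∃ t : ZMod p, a i = ω ^ t.val := fun i => by
        obtain ⟨t, ht, e⟩ := hω.eq_pow_of_pow_eq_one (ha i)
        exact ⟨(t : ZMod p), by rw [ZMod.val_cast_of_lt ht, e]⟩
      choose π hπ using hroot
      have hπb : Function.Bijective π := Finite.injective_iff_bijective.mp fun i k h =>
        hinj (by rw [hπ i, hπ k, h])
      obtain ⟨g, hg, hgi⟩ := exists_fourier hω π hπb hpF
      obtain ⟨s, hs, hsv⟩ := exists_mem (F := F) (p := p) (a := fun _ => 1) (j := -1) fun _ => one_pow _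
      have hxg : x * g = g * s := by
        refine Units.ext ?_
        rw [Units.val_mul, Units.val_mul, hxa, hsv]
        ext i k
        rw [Matrix.mul_apply, Matrix.mul_apply, Fintype.sum_eq_single i,
          Fintype.sum_eq_single (k + 1)]
        · simp only [M, Matrix.of_apply, add_zero, add_neg_cancel_right, ↓reduceIte, mul_one, hg, hπ i]
          rw [pow_val_add hω, mul_add, mul_one, add_comm]
        · intro t ht; simp [M, show ¬ k = t + -1 from fun h => ht (by rw [h]; ring)]
        · intro t ht; simp [M, ht]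
      refine ⟨g, ?_, ?_⟩
      · rwa [mul_assoc, hxg, inv_mul_cancel_left]
      · have h := hfour π hπb 1 g (fun _ => 1) (fun _ => one_pow _) (by rw [Units.val_one, M_one]) hg hgi
        simpa using h
    · -- a repeated eigenvalue
      simp only [Function.Injective, not_forall] at hinj
      obtain ⟨i, k, hik, hne⟩ := hinj
      let u : GL (ZMod p) F := ⟨Matrix.transvection i k (1 : F), Matrix.transvection i k (-1 : F),
        by rw [Matrix.transvection_mul_transvection_same _ _ hne, add_neg_cancel, Matrix.transvection_zero],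
        by rw [Matrix.transvection_mul_transvection_same _ _ hne, neg_add_cancel, Matrix.transvection_zero]⟩
      have hcomm : Commute x u := by
        refine Units.ext ?_
        show (x : Matrix (ZMod p) (ZMod p) F) * Matrix.transvection i k (1 : F) = Matrix.transvection i k (1 : F) * x
        rw [hxa, Matrix.transvection, mul_add, add_mul, mul_one, one_mul]
        congr 1
        ext r s
        by_cases hr : r = i
        · subst hr
          by_cases hs : s = k
          · subst hs; simp [M, Matrix.mul_apply, Matrix.single_apply, hik, eq_comm]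
          · simp [M, Matrix.mul_apply, Matrix.single_apply, Ne.symm hs, eq_comm]
        · simp [M, Matrix.mul_apply, Matrix.single_apply, Ne.symm hr, eq_comm]
          refine (Finset.sum_eq_zero fun t _ => ?_).symm
          split_ifs with h1 h2 <;> first | rfl | exact absurd (h2.trans h1.1.symm) hr
      obtain ⟨y, hy, hyv⟩ := exists_mem (j := 0) (hδ i)
      refine ⟨u, ?_, y, hy, fun hmem => hne ?_⟩
      · rw [mul_assoc, hcomm.eq, inv_mul_cancel_left]
        exact ⟨a, 0, ha, hxa⟩
      have hv : ∀ s, ((u * y * u⁻¹ : GL (ZMod p) F) : Matrix (ZMod p) (ZMod p) F) i s =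
          if s = i then ω else if s = k then 1 - ω else 0 := by
        intro s
        show (Matrix.transvection i k (1 : F) * (y : Matrix (ZMod p) (ZMod p) F) *
          Matrix.transvection i k (-1 : F)) i s = _
        rw [hyv]
        by_cases hs : s = k
        · subst hs
          simp [Matrix.mul_transvection_apply_same, M, δ, hne, Ne.symm hne, sub_eq_add_neg]
        · rw [Matrix.mul_transvection_apply_of_ne _ _ _ _ hs, Matrix.transvection_mul_apply_same]
          by_cases hsi : s = i
          · subst hsi; simp [M, δ, hne]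
          · simp [M, hs, hsi, Ne.symm hs, Ne.symm hsi]
      exact mono_of_mem hmem i i k (by rw [hv, if_pos rfl]; exact ne_zero_of_pow hωp)
        (by rw [hv, if_neg (Ne.symm hne), if_pos rfl]; exact sub_ne_zero.mpr (Ne.symm hω1))
  · set c := ∏ t : ZMod p, a t with hc
    have hcp : c ^ p = 1 := by rw [hc, ← Finset.prod_pow]; exact Finset.prod_eq_one fun t _ => ha t
    by_cases hc1 : c = 1
    · -- conjugate to a permutation matrix
      let d : ZMod p → F := fun i => (∏ t ∈ Finset.range (i * j⁻¹).val, a ((t : ZMod p) * j))⁻¹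
      have hd : ∀ i, d i ^ p = 1 := fun i => by
        rw [inv_pow, ← Finset.prod_pow, Finset.prod_eq_one fun t _ => ha _, inv_one]
      have hrec : ∀ i, d i = a i * d (i + j) := by
        intro i
        set m := (i * j⁻¹).val with hm
        have hval : ((i + j) * j⁻¹).val = if m + 1 < p then m + 1 else 0 := by
          have h1 : (i + j) * j⁻¹ = ((m + 1 : ℕ) : ZMod p) := by
            rw [add_mul, mul_inv_cancel₀ hj, Nat.cast_add, hm, ZMod.natCast_zmod_val, Nat.cast_one]
          rw [h1, ZMod.val_natCast]
          have : m < p := ZMod.val_lt _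
          split_ifs with h
          · exact Nat.mod_eq_of_lt h
          · rw [show m + 1 = p by omega, Nat.mod_self]
        have hi : (m : ZMod p) * j = i := by
          rw [hm, ZMod.natCast_zmod_val, mul_assoc, inv_mul_cancel₀ hj, mul_one]
        simp only [d, hval, ← hm]
        split_ifs with h
        · rw [Finset.prod_range_succ, hi, mul_inv, mul_comm, mul_assoc,
            inv_mul_cancel₀ (ne_zero_of_pow (ha i)), mul_one]
        · have hmp : m + 1 = p := by have : m < p := ZMod.val_lt _; omega
          have hall : ∏ t ∈ Finset.range (m + 1), a ((t : ZMod p) * j) = c := by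
            rw [hmp, hc]
            refine Finset.prod_bij (fun t _ => (t : ZMod p) * j) (fun t _ => Finset.mem_univ _) ?_ ?_
              (fun t _ => rfl)
            · intro t ht s hs he
              have := congrArg ZMod.val (mul_right_cancel₀ hj he)
              rwa [ZMod.val_cast_of_lt (Finset.mem_range.mp ht),
                ZMod.val_cast_of_lt (Finset.mem_range.mp hs)] at this
            · intro b _
              exact ⟨(b * j⁻¹).val, Finset.mem_range.mpr (ZMod.val_lt _),
                by rw [ZMod.natCast_zmod_val, mul_assoc, inv_mul_cancel₀ hj, mul_one]⟩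
          rw [Finset.prod_range_succ, hi, hc1] at hall
          rw [Finset.range_zero, Finset.prod_empty, inv_one, mul_one]
          exact (eq_inv_of_mul_eq_one_right hall).symm
      obtain ⟨D, hD, hDv⟩ := exists_mem (j := 0) hd
      obtain ⟨g, hg, hgi⟩ := exists_fourier hω id Function.bijective_id hpF
      obtain ⟨E, hE, hEv⟩ := exists_mem (F := F) (p := p) (a := fun k => ω ^ (j * k).val) (j := 0)
        (fun k => by rw [← pow_mul, mul_comm, pow_mul, hωp, one_pow])
      have hxg : x * (D * g) = D * g * E := by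
        refine Units.ext ?_
        simp only [Units.val_mul, hxa, hDv, hEv]
        rw [← mul_assoc, M_mul, add_zero]
        ext i k
        rw [Matrix.mul_apply, Matrix.mul_apply, Fintype.sum_eq_single (i + j),
          Fintype.sum_eq_single k]
        · rw [Matrix.mul_apply, Fintype.sum_eq_single i]
          · simp only [M, Matrix.of_apply, add_zero, ↓reduceIte, hg, id, ← hrec i]
            rw [mul_assoc, pow_val_add hω, add_mul]
          · intro t ht; simp [M, ht]
        · intro t ht; simp [M, Ne.symm ht]
        · intro t ht; simp [M, ht]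
      refine ⟨D * g, ?_, hfour id Function.bijective_id D g d hd hDv hg hgi⟩
      rwa [mul_assoc, hxg, inv_mul_cancel_left]
    · -- the irreducible case
      have hxp : (x : Matrix (ZMod p) (ZMod p) F) ^ p = c • 1 := by
        rw [hxa, M_pow, ZMod.natCast_self, zero_mul]
        ext i k
        by_cases hik : i = k
        · subst hik
          simp only [M, Matrix.of_apply, add_zero, ↓reduceIte, Matrix.smul_apply, Matrix.one_apply_eq,
            smul_eq_mul, mul_one, hc]
          refine Finset.prod_bij (fun t _ => i + (t : ZMod p) * j) (fun t _ => Finset.mem_univ _) ?_ ?_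
            (fun t _ => rfl)
          · intro t ht s hs he
            have := congrArg ZMod.val (mul_right_cancel₀ hj (add_left_cancel he))
            rwa [ZMod.val_cast_of_lt (Finset.mem_range.mp ht),
              ZMod.val_cast_of_lt (Finset.mem_range.mp hs)] at this
          · intro b _
            exact ⟨((b - i) * j⁻¹).val, Finset.mem_range.mpr (ZMod.val_lt _),
              by rw [ZMod.natCast_zmod_val, mul_assoc, inv_mul_cancel₀ hj, mul_one]; ring⟩
        · simp [M, Matrix.one_apply_ne hik, Ne.symm hik]
      have hunit : IsUnit (1 + (x : Matrix (ZMod p) (ZMod p) F)) := by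
        rw [Matrix.isUnit_iff_isUnit_det, isUnit_iff_ne_zero]
        intro hdet
        obtain ⟨v, hv0, hv⟩ := Matrix.exists_mulVec_eq_zero_iff.mpr hdet
        have hxv : (x : Matrix (ZMod p) (ZMod p) F) *ᵥ v = (-1 : F) • v := by
          rw [Matrix.add_mulVec, Matrix.one_mulVec] at hv
          rw [neg_one_smul]
          exact eq_neg_of_add_eq_zero_right hv
        have hpow : ∀ m : ℕ, (x : Matrix (ZMod p) (ZMod p) F) ^ m *ᵥ v = (-1 : F) ^ m • v := by
          intro m
          induction m with
          | zero => simp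
          | succ m ih => rw [pow_succ, ← Matrix.mulVec_mulVec, hxv, Matrix.mulVec_smul, ih, smul_smul,
              ← pow_succ']
        have h1 := hpow p
        rw [hxp, Matrix.smul_mulVec, Matrix.one_mulVec, (hp.out.odd_of_ne_two hp2).neg_one_pow] at h1
        have h2 : c = -1 := by
          by_contra hne
          have : (c - (-1)) • v = 0 := by rw [sub_smul, h1, sub_self]
          exact hv0 ((smul_eq_zero.mp this).resolve_left (sub_ne_zero.mpr hne))
        rw [h2, (hp.out.odd_of_ne_two hp2).neg_one_pow] at hcp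
        exact hc1 (h2.trans hcp)
      obtain ⟨g, hg⟩ := hunit
      obtain ⟨y, hy, hyv⟩ := exists_mem (j := 0) (hδ 0)
      refine ⟨g, ?_, y, hy, fun hmem => hω1 ?_⟩
      · have hcomm : Commute x g := by
          refine Units.ext ?_
          show (x : Matrix (ZMod p) (ZMod p) F) * g = g * x
          rw [hg, mul_add, add_mul, mul_one, one_mul]
        rw [mul_assoc, hcomm.eq, inv_mul_cancel_left]
        exact ⟨a, j, ha, hxa⟩
      obtain ⟨b, l, hb, hm⟩ := hmem
      have heq : (g : Matrix (ZMod p) (ZMod p) F) * y = M b l * g := by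
        rw [← hm, ← Units.val_mul, ← Units.val_mul, inv_mul_cancel_right]
      have he : ∀ r s, (g : Matrix (ZMod p) (ZMod p) F) r s * δ 0 s =
          b r * (g : Matrix (ZMod p) (ZMod p) F) (r + l) s := by
        intro r s
        have := congrFun (congrFun heq r) s
        rw [hyv, Matrix.mul_apply, Matrix.mul_apply, Fintype.sum_eq_single s,
          Fintype.sum_eq_single (r + l)] at this
        · simpa [M] using this
        · intro t ht; simp [M, ht]
        · intro t ht; simp [M, Ne.symm ht]
      have hgv : ∀ r s, (g : Matrix (ZMod p) (ZMod p) F) r s =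
          if s = r then 1 else if s = r + j then a r else 0 := by
        intro r s
        rw [hg, hxa, Matrix.add_apply]
        by_cases hrs : s = r
        · subst hrs; simp [M, hj]
        · simp [M, hrs, Matrix.one_apply_ne (Ne.symm hrs)]
      have hb0 : ∀ r, b r ≠ 0 := fun r => ne_zero_of_pow (hb r)
      have hd0 : ∀ s, δ 0 s ≠ 0 := fun s => ne_zero_of_pow (hδ 0 s)
      have hl : l = 0 := by
        have e1 := he 0 0
        have e2 := he 0 j
        rw [hgv, hgv, if_pos rfl, zero_add] at e1
        rw [hgv, hgv, if_neg hj, if_pos (zero_add j).symm, zero_add] at e2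
        by_contra hl
        rw [if_neg (Ne.symm hl)] at e1
        split_ifs at e1 with h1
        · have hlj : j ≠ l := fun h => by
            have : (2 : ZMod p) * j = 0 := by linear_combination -h1 + h
            exact hj ((mul_eq_zero.mp this).resolve_left two_ne)
          rw [if_neg hlj, if_neg fun h => hl (by linear_combination -h)] at e2
          simp [ne_zero_of_pow (ha 0), hd0] at e2
        · simp [hd0] at e1
      subst hl
      have e1 := he 0 0
      have e2 := he 0 j
      simp only [hgv, add_zero, zero_add, hj, ↓reduceIte, δ] at e1 e2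
      have h3 : a 0 = a 0 * b 0 := by simpa [mul_comm] using e2
      have h4 : b 0 = 1 := mul_left_cancel₀ (ne_zero_of_pow (ha 0)) (by rw [mul_one]; exact h3.symm)
      simpa [h4] using e1

end

open scoped Pointwise in
/-- Let p be an odd prime and F a finite field with q elements such that p divides q - 1 but p² does not. Then GL(p, F) has a Sylow p-subgroup Q such that every element of p-power order lies in some Sylow p-subgroup other than Q (a redundant Sylow p-subgroup). -/
theorem result {F : Type*} [Field F] [Fintype F] (p : ℕ) [Fact p.Prime]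
    (hp : p ≠ 2) (h1 : p ∣ Fintype.card F - 1) (h2 : ¬ p ^ 2 ∣ Fintype.card F - 1) :
    ∃ Q : Sylow p (Matrix.GeneralLinearGroup (Fin p) F), ∀ x : Matrix.GeneralLinearGroup (Fin p) F,
      (∃ k : ℕ, orderOf x = p ^ k) → ∃ P : Sylow p (Matrix.GeneralLinearGroup (Fin p) F), P ≠ Q ∧ x ∈ P := by
  classical
  have hpp := (Fact.out : p.Prime)
  set q := Fintype.card F with hq
  have hq2 : 2 ≤ q := Fintype.one_lt_card
  have hpq : ¬ p ∣ q := fun h => hpp.not_dvd_one (by
    have := Nat.dvd_sub h h1
    rwa [show q - (q - 1) = 1 by omega] at this)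
  have hpF : (p : F) ≠ 0 := fun h0 => by
    obtain ⟨c, hc⟩ := CharP.exists F
    have hcp : c.Prime := CharP.char_is_prime F c
    have hcd : c = p := (Nat.prime_dvd_prime_iff_eq hcp hpp).mp ((CharP.cast_eq_zero_iff F c p).mp h0)
    exact hpq (hcd ▸ (CharP.cast_eq_zero_iff F c q).mp (FiniteField.cast_card_eq_zero F))
  obtain ⟨w, hw⟩ := CfsgLib.Classical.SylowLargePrime.exists_cyclic_hom (G := Fˣ) (N := p)
    (by rwa [Nat.card_units, Nat.card_eq_fintype_card])
  have hω : IsPrimitiveRoot ((w (Multiplicative.ofAdd 1) : Fˣ) : F) p := by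
    have ho : orderOf ((w (Multiplicative.ofAdd 1) : Fˣ) : F) = p := by
      rw [orderOf_units, orderOf_injective w hw, orderOf_ofAdd_eq_addOrderOf, ZMod.addOrderOf_one]
    have h := IsPrimitiveRoot.orderOf ((w (Multiplicative.ofAdd 1) : Fˣ) : F)
    rwa [ho] at h
  -- the power of `p` in the order of the group
  have hd : orderOf (q : ZMod p) = 1 := by
    rw [← Nat.dvd_one, ← CfsgLib.Classical.SylowLargePrime.dvd_pow_sub_one_iff (by omega), pow_one]
    exact h1
  have hv1 : (q - 1).factorization p = 1 := by
    have ha := (hpp.pow_dvd_iff_le_factorization (k := 1) (by omega : q - 1 ≠ 0)).mp (by simpa using h1)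
    have hb : ¬ 2 ≤ (q - 1).factorization p := fun h =>
      h2 ((hpp.pow_dvd_iff_le_factorization (by omega)).mpr h)
    omega
  let e : ZMod p ≃ Fin p := Fintype.equivFinOfCardEq (ZMod.card p)
  let E : GL (ZMod p) F ≃* GL (Fin p) F := Units.mapEquiv (Matrix.reindexAlgEquiv F F e).toMulEquiv
  have hfac : (Nat.card (GL (Fin p) F)).factorization p = p + 1 := by
    have hne : ∀ i < p, q ^ p - q ^ i ≠ 0 := fun i hi => by
      have := Nat.pow_lt_pow_right (by omega : 1 < q) hi
      omega
    have hterm : ∀ i < p, (q ^ p - q ^ i).factorization p = 1 + if i = 0 then 1 else 0 := by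
      intro i hi
      have h3 := hne i hi
      rw [show q ^ p - q ^ i = q ^ i * (q ^ (p - i) - 1) by
        rw [Nat.mul_sub, mul_one, ← pow_add, Nat.add_sub_cancel' hi.le]] at h3 ⊢
      rw [Nat.factorization_mul (pow_ne_zero _ (by omega)) (right_ne_zero_of_mul h3), Finsupp.add_apply,
        Nat.factorization_eq_zero_of_not_dvd (fun h => hpq (hpp.dvd_of_dvd_pow h)), zero_add]
      rcases Nat.eq_zero_or_pos i with rfl | hi0
      · rw [Nat.sub_zero, Nat.factorization_def _ hpp,
          show q ^ p - 1 = q ^ p - 1 ^ p by rw [one_pow],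
          padicValNat.pow_sub_pow (hpp.odd_of_ne_two hp) (by omega) h1 hpq hpp.ne_zero,
          padicValNat.self hpp.one_lt, ← Nat.factorization_def _ hpp, hv1]
        simp
      · rw [CfsgLib.Classical.SylowLargePrime.factorization_q_pow_sub_one (by omega) (by omega)
          (fun m hm hdv => ?_), hd, if_pos (one_dvd _), pow_one, hv1, if_neg hi0.ne']
        rw [hd, one_mul] at hm
        have := Nat.le_of_dvd (by omega) hdv
        omega
    rw [CfsgLib.Classical.card_GL_fin, Nat.factorization_prod (fun (i : Fin p) _ => hne i i.2),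
      Finsupp.finsetSum_apply, Fin.sum_univ_eq_sum_range (fun i => (q ^ p - q ^ i).factorization p),
      Finset.sum_congr rfl fun i hi => hterm i (Finset.mem_range.mp hi), Finset.sum_add_distrib,
      Finset.sum_const, Finset.card_range, Finset.sum_ite_eq', if_pos (Finset.mem_range.mpr hpp.pos),
      smul_eq_mul, mul_one]
  let Q : Sylow p (GL (Fin p) F) := Sylow.ofCard ((H F p).map E.toMonoidHom) (by
    rw [Subgroup.card_map_of_injective (K := H F p) (f := E.toMonoidHom) E.injective, card_H hω, hfac])
  refine ⟨Q, fun x hx => ?_⟩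
  obtain ⟨k, hk⟩ := hx
  by_cases hxQ : x ∈ Q
  · obtain ⟨x', hx', rfl⟩ := Subgroup.mem_map.mp (show x ∈ (H F p).map E.toMonoidHom from hxQ)
    obtain ⟨g, hg, y, hy, hgy⟩ := exists_conj hω hp hpF x' hx'
    have hmem : ∀ z, z ∈ (MulAut.conj (E g)) • Q ↔ (E g)⁻¹ * z * E g ∈ (H F p).map E.toMonoidHom := by
      intro z
      show z ∈ MulAut.conj (E g) • ((H F p).map E.toMonoidHom) ↔ _
      rw [Subgroup.mem_pointwise_smul_iff_inv_smul_mem, MulAut.smul_def, MulAut.inv_def,
        MulAut.conj_symm_apply]
    refine ⟨MulAut.conj (E g) • Q, fun heq => hgy ?_, ?_⟩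
    · have h3 : E (g * y * g⁻¹) ∈ MulAut.conj (E g) • Q := by
        rw [hmem]
        refine ⟨y, hy, ?_⟩
        simp [mul_assoc]
      rw [heq] at h3
      obtain ⟨z, hz, hze⟩ := Subgroup.mem_map.mp (show E (g * y * g⁻¹) ∈ (H F p).map E.toMonoidHom from h3)
      exact E.injective hze ▸ hz
    · rw [hmem]
      exact ⟨_, hg, by simp [mul_assoc]⟩
  · obtain ⟨P, hP⟩ := (IsPGroup.of_card (G := Subgroup.zpowers x) (by rw [Nat.card_zpowers, hk])).exists_le_sylow
    exact ⟨P, fun h => hxQ (h ▸ hP (Subgroup.mem_zpowers x)), hP (Subgroup.mem_zpowers x)⟩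

end Cfsg.Agent.S4358
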