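import Cfsg.Statements.S4363
import Cfsg.Agent.Lib.FitTuran.Main

set_option autoImplicit false
open Cfsg

namespace Cfsg.Agent.S4363

/-- Let G be a finite solvable group and σ an automorphism of G of prime order r not dividing the order of G, with fixed-point subgroup C. Then the Fitting height of G exceeds that of C by at most 2: if C has a chain of normal subgroups 1 = C₀ ≤ ⋯ ≤ Cₙ = C with nilpotent factors, then G has such a chain of length n + 2. -/
theorem result {G : Type*} [Group G] [Finite G]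
    (hG : Group.IsSolvable G) (σ : MulAut G) (r : ℕ) (hr : r.Prime) (hσ : orderOf σ = r) (hcop : ¬ r ∣ Nat.card G)
    (C : Subgroup G) (hC : ∀ g : G, g ∈ C ↔ σ g = g) (n : ℕ) (hn : (∃ F : Fin (n + 1) → Subgroup ↥C, F 0 = ⊥ ∧ F (Fin.last n) = ⊤ ∧ Monotone F ∧ (∀ i, (F i).Normal) ∧ ∀ i : Fin n, ∃ k : ℕ, (F i.succ).lowerCentralSeries k ≤ F i.castSucc)) :
    (∃ F : Fin ((n + 2) + 1) → Subgroup G, F 0 = ⊥ ∧ F (Fin.last (n + 2)) = ⊤ ∧ Monotone F ∧ (∀ i, (F i).Normal) ∧ ∀ i : Fin (n + 2), ∃ k : ℕ, (F i.succ).lowerCentralSeries k ≤ F i.castSucc) := by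
  classical
  rw [CfsgLib.FitLen.exists_chain_iff] at hn ⊢
  let φ : Subgroup.zpowers σ →* MulAut G := (Subgroup.zpowers σ).subtype
  haveI : Finite (G ⋊[φ] Subgroup.zpowers σ) := Finite.of_equiv _ SemidirectProduct.equivProd.symm
  let inl : G →* G ⋊[φ] Subgroup.zpowers σ := SemidirectProduct.inl
  set s : G ⋊[φ] Subgroup.zpowers σ :=
    SemidirectProduct.inr ⟨σ, Subgroup.mem_zpowers σ⟩ with hs
  have hconj : ∀ g : G, s * inl g * s⁻¹ = inl (σ g) := fun g => by
    rw [hs, ← map_inv]
    exact (SemidirectProduct.inl_aut (φ := φ) ⟨σ, Subgroup.mem_zpowers σ⟩ g).symm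
  haveI := hG
  have c : CfsgLib.FitTuran.Ctx inl.range s r :=
    { hG := by
        rw [SemidirectProduct.range_inl_eq_ker_rightHom]
        exact MonoidHom.normal_ker _
      hr := hr
      hsr := by
        rw [hs, ← map_pow]
        convert map_one (SemidirectProduct.inr (φ := φ)) using 2
        exact Subtype.ext (by simpa [← hσ] using pow_orderOf_eq_one σ)
      hsol := by
        have h := CfsgLib.Coprime.isSolvable_map inl (H := (⊤ : Subgroup G))
          inferInstance
        rwa [← MonoidHom.range_eq_map] at h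
      hcop := by
        rw [MonoidHom.range_eq_map, Subgroup.card_map_of_injective SemidirectProduct.inl_injective,
          Subgroup.card_top]
        exact hr.coprime_iff_not_dvd.2 hcop }
  by_contra hne
  have h1 : CfsgLib.FitLen.iterResid (n + 2) inl.range ≠ ⊥ := by
    rw [MonoidHom.range_eq_map, ← CfsgLib.FitLen.iterResid_map, Ne,
      Subgroup.map_eq_bot_iff_of_injective _ SemidirectProduct.inl_injective]
    exact hne
  refine CfsgLib.FitTuran.iterResid_fixed_ne_bot c n h1 ?_
  have hCmap : inl.range ⊓ Subgroup.centralizer ({s} : Set (G ⋊[φ] Subgroup.zpowers σ)) =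
      (⊤ : Subgroup C).map (inl.comp C.subtype) := by
    ext x
    rw [Subgroup.mem_inf, Subgroup.mem_centralizer_singleton_iff]
    constructor
    · rintro ⟨⟨g, rfl⟩, hg⟩
      refine ⟨⟨g, (hC g).2 (SemidirectProduct.inl_injective (φ := φ) ?_)⟩, Subgroup.mem_top _, rfl⟩
      show inl (σ g) = inl g
      rw [← hconj, ← hg, mul_inv_cancel_right]
    · rintro ⟨g, -, rfl⟩
      refine ⟨⟨g, rfl⟩, ?_⟩
      have h2 := hconj (g : G)
      rw [(hC _).1 g.2, mul_inv_eq_iff_eq_mul] at h2
      exact h2.symm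
  rw [hCmap, ← CfsgLib.FitLen.iterResid_map, hn, Subgroup.map_bot]

end Cfsg.Agent.S4363
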