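import Cfsg.Statements.S4365


set_option autoImplicit false
set_option linter.style.haveILetI false
open Cfsg

namespace Cfsg.Agent.S4365

open scoped commutatorElement

variable {P : Type*} [Group P]

theorem conj_pow_eq {y g : P} (hy : ⁅g, y⁆ ∈ Subgroup.center P) (n : ℕ) :
    ⁅g, y ^ n⁆ = ⁅g, y⁆ ^ n ∧ ⁅g ^ n, y⁆ = ⁅g, y⁆ ^ n := by
  have hc : ∀ z, z * ⁅g, y⁆ = ⁅g, y⁆ * z := Subgroup.mem_center_iff.mp hy
  constructor
  · induction n with
    | zero => simp
    | succ n ih =>
      have : ⁅g, y ^ (n + 1)⁆ = ⁅g, y ^ n⁆ * (y ^ n * ⁅g, y⁆ * (y ^ n)⁻¹) := by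
        simp only [commutatorElement_def, pow_succ]; group
      rw [this, ih, hc (y ^ n), mul_inv_cancel_right, ← pow_succ]
  · induction n with
    | zero => simp
    | succ n ih =>
      have : ⁅g ^ (n + 1), y⁆ = g ^ n * ⁅g, y⁆ * (g ^ n)⁻¹ * ⁅g ^ n, y⁆ := by
        simp only [commutatorElement_def, pow_succ]; group
      rw [this, ih, hc (g ^ n), mul_inv_cancel_right, ← pow_succ']

open scoped IsMulCommutative in
theorem mul_conj_pow (A : Subgroup P) [IsMulCommutative A] (a e : P) (n : ℕ)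
    (h : ∀ i : ℕ, e ^ i * a * (e ^ i)⁻¹ ∈ A) :
    (a * e) ^ n = ((∏ i ∈ Finset.range n, (⟨_, h i⟩ : A) : A) : P) * e ^ n := by
  induction n with
  | zero => simp
  | succ n ih =>
    rw [pow_succ, ih, Finset.prod_range_succ, Subgroup.coe_mul, pow_succ]
    group

open scoped IsMulCommutative in
theorem contra [Finite P] {p : ℕ} [Fact p.Prime] (C A : Subgroup P) [C.Normal] [A.Normal]
    [IsMulCommutative A] (hAC : A ≤ C) (hCA : ∀ c ∈ C, ∀ a ∈ A, c * a = a * c)
    (hab : ∀ u v : P, (u * v)⁻¹ * (v * u) ∈ C) (hexp : ∀ u : P, u ^ p ∈ C)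
    (hout : ∀ u : P, u ∉ C → u ^ p ∈ Subgroup.center P)
    {g h : P} (hg : g ∉ C) (hh : h ∉ C) (hgh : ∀ s : ℕ, g * h ^ s ∉ C) {x : P} (hx : x ∈ A) :
    x ^ p ∈ Subgroup.center P := by
  classical
  have hp : p.Prime := Fact.out
  let Z := (Subgroup.center P).subgroupOf A
  haveI : Z.Normal := Subgroup.Normal.subgroupOf inferInstance A
  let π := QuotientGroup.mk' (C : Subgroup P)
  let q : A →* A ⧸ Z := QuotientGroup.mk' Z
  have hAn : ∀ a ∈ A, ∀ v : P, v * a * v⁻¹ ∈ A := fun a ha v =>
    Subgroup.Normal.conj_mem inferInstance a ha v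
  let c : P → P → A ⧸ Z := fun v a => if ha : v * a * v⁻¹ ∈ A then q ⟨_, ha⟩ else 1
  have hcA : ∀ v a, ∀ ha : a ∈ A, c v a = q ⟨_, hAn a ha v⟩ := fun v a ha => dif_pos (hAn a ha v)
  have hcongr : ∀ u v : P, π u = π v → ∀ a ∈ A, c u a = c v a := by
    intro u v huv a ha
    rw [hcA u a ha, hcA v a ha]
    congr 1
    refine Subtype.ext ?_
    have h1 : u⁻¹ * v ∈ C := QuotientGroup.eq.mp huv
    show u * a * u⁻¹ = v * a * v⁻¹
    calc u * a * u⁻¹ = u * ((a * (u⁻¹ * v)) * (u⁻¹ * v)⁻¹) * u⁻¹ := by group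
      _ = u * (((u⁻¹ * v) * a) * (u⁻¹ * v)⁻¹) * u⁻¹ := by rw [hCA _ h1 a ha]
      _ = v * a * v⁻¹ := by group
  have hline : ∀ e : P, e ∉ C → ∀ a ∈ A, ∏ i ∈ Finset.range p, c (e ^ i) a = 1 := by
    intro e he a ha
    rw [Finset.prod_congr rfl fun i _ => hcA (e ^ i) a ha, ← map_prod]
    refine (QuotientGroup.eq_one_iff _).mpr (Subgroup.mem_subgroupOf.mpr ?_)
    have h1 := mul_conj_pow A a e p fun i => hAn a ha (e ^ i)
    have h2 : a * e ∉ C := fun hae => he ((Subgroup.mul_mem_cancel_left C (hAC ha)).mp hae)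
    have h3 := mul_mem (hout _ h2) (inv_mem (hout e he))
    rwa [h1, mul_inv_cancel_right] at h3
  have hpowmod : ∀ (u : P) (m : ℕ), π u ^ (m % p) = π u ^ m := by
    intro u m
    refine (pow_eq_pow_mod m ?_).symm
    rw [← map_pow]
    exact (QuotientGroup.eq_one_iff _).mpr (hexp u)
  have hcomm : Commute (π g) (π h) := by
    show π g * π h = π h * π g
    rw [← map_mul, ← map_mul]
    exact QuotientGroup.eq.mpr (hab g h)
  have e1 : ∏ s ∈ Finset.range p, ∏ i ∈ Finset.range p, c ((g * h ^ s) ^ i) x = 1 :=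
    Finset.prod_eq_one fun s _ => hline _ (hgh s) x hx
  rw [Finset.prod_comm, Finset.prod_eq_single 0 ?_ ?_] at e1
  · simp only [pow_zero, hcA 1 x hx] at e1
    rw [Finset.prod_const, Finset.card_range, ← map_pow] at e1
    have h4 := Subgroup.mem_subgroupOf.mp ((QuotientGroup.eq_one_iff _).mp e1)
    rw [SubgroupClass.coe_pow] at h4
    simpa using h4
  · intro i hi hi0
    have hi' : i < p := Finset.mem_range.mp hi
    have hcop : i.Coprime p := by
      rw [Nat.coprime_comm]
      exact hp.coprime_iff_not_dvd.mpr fun hd => hi0 (Nat.eq_zero_of_dvd_of_lt hd hi')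
    have hx' : g ^ i * x * (g ^ i)⁻¹ ∈ A := hAn x hx _
    rw [← hline h hh _ hx']
    refine Finset.prod_bij (fun s _ => i * s % p) (fun s _ => Finset.mem_range.mpr (Nat.mod_lt _ hp.pos))
      ?_ ?_ ?_
    · intro s hs t ht hst
      have h5 : s % p = t % p := Nat.ModEq.cancel_left_of_coprime (c := i) hcop.symm hst
      rwa [Nat.mod_eq_of_lt (Finset.mem_range.mp hs), Nat.mod_eq_of_lt (Finset.mem_range.mp ht)] at h5
    · intro t ht
      have hinj : Set.InjOn (fun s => i * s % p) (Finset.range p : Set ℕ) := by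
        intro s hs t ht hst
        have h5 : s % p = t % p := Nat.ModEq.cancel_left_of_coprime (c := i) hcop.symm hst
        rwa [Nat.mod_eq_of_lt (Finset.mem_range.mp hs), Nat.mod_eq_of_lt (Finset.mem_range.mp ht)] at h5
      obtain ⟨s, hs, hst⟩ := Finset.surj_on_of_inj_on_of_card_le (fun s _ => i * s % p)
        (fun s _ => Finset.mem_range.mpr (Nat.mod_lt _ hp.pos)) (fun s t hs ht he => hinj hs ht he)
        le_rfl t ht
      exact ⟨s, hs, hst.symm⟩
    · intro s _
      have h6 : π ((g * h ^ s) ^ i) = π (h ^ (i * s % p) * g ^ i) := by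
        simp only [map_pow, map_mul]
        rw [(hcomm.pow_right s).mul_pow, ← pow_mul, mul_comm s i, hpowmod, (hcomm.pow_pow i (i * s)).eq]
      rw [hcongr _ _ h6 x hx, hcA _ x hx, hcA _ _ hx']
      congr 1
      exact Subtype.ext (show h ^ (i * s % p) * g ^ i * x * (h ^ (i * s % p) * g ^ i)⁻¹
        = h ^ (i * s % p) * (g ^ i * x * (g ^ i)⁻¹) * (h ^ (i * s % p))⁻¹ by group)
  · intro hh0; exact absurd (Finset.mem_range.mpr hp.pos) hh0

/-- Let P be a finite p-group whose conjugacy class sizes are exactly 1 and pᵃ for some a ≥ 1. Then every element of P has its p-th power in the center of P (P/Z(P) has exponent p). -/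
theorem result {P : Type*} [Group P] [Finite P] (p : ℕ) [Fact p.Prime]
    (hP : IsPGroup p P) (a : ℕ) (ha : 1 ≤ a)
    (hcs : {k : ℕ | ∃ x : P, (Subgroup.centralizer ({x} : Set P)).index = k} = {1, p ^ a}) (x : P) :
    x ^ p ∈ Subgroup.center P := by
  have hp : p.Prime := Fact.out
  set Z := Subgroup.center P
  have hidx : ∀ u : P, u ∉ Z → (Subgroup.centralizer ({u} : Set P)).index = p ^ a := by
    intro u hu
    have h1 : (Subgroup.centralizer ({u} : Set P)).index ∈ ({1, p ^ a} : Set ℕ) := hcs ▸ ⟨u, rfl⟩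
    refine h1.resolve_left fun e => hu (Subgroup.mem_center_iff.mpr fun v => ?_)
    exact Subgroup.mem_centralizer_singleton_iff.mp
      (show v ∈ Subgroup.centralizer ({u} : Set P) by rw [Subgroup.index_eq_one.mp e]; exact Subgroup.mem_top v)
  have hmax : ∀ u v : P, u ∉ Z → v ∉ Z →
      Subgroup.centralizer ({u} : Set P) ≤ Subgroup.centralizer ({v} : Set P) →
      Subgroup.centralizer ({u} : Set P) = Subgroup.centralizer ({v} : Set P) := by
    intro u v hu hv hle
    refine Subgroup.eq_of_le_of_card_ge hle (le_of_eq ?_)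
    refine Nat.eq_of_mul_eq_mul_right (pow_pos hp.pos a) ?_
    calc Nat.card _ * p ^ a = Nat.card P := by rw [← hidx v hv]; exact Subgroup.card_mul_index _
      _ = Nat.card (Subgroup.centralizer ({u} : Set P)) * p ^ a := by
        rw [← hidx u hu]; exact (Subgroup.card_mul_index _).symm
  have hpow : ∀ u : P, Subgroup.centralizer ({u} : Set P) ≤ Subgroup.centralizer ({u ^ p} : Set P) :=
    fun u v hv => Subgroup.mem_centralizer_singleton_iff.mpr
      ((Commute.pow_right (Subgroup.mem_centralizer_singleton_iff.mp hv) p).eq)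
  by_contra hxp
  have hxZ : x ∉ Z := fun h => hxp (pow_mem h p)
  set C := Subgroup.centralizer ({x} : Set P) with hC
  have hCx : Subgroup.centralizer ({x ^ p} : Set P) = C := (hmax x _ hxZ hxp (hpow x)).symm
  -- an element of order `p` in the second centre
  obtain ⟨y, hyZ, hyp, hy2⟩ : ∃ y : P, y ∉ Z ∧ y ^ p ∈ Z ∧ ∀ u, ⁅u, y⁆ ∈ Z := by
    haveI : Nontrivial (P ⧸ Z) := ⟨⟨QuotientGroup.mk x, 1, fun e => hxZ ((QuotientGroup.eq_one_iff x).mp e)⟩⟩
    haveI := (hP.to_quotient Z).center_nontrivial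
    obtain ⟨w, hw⟩ := exists_prime_orderOf_dvd_card' (G := Subgroup.center (P ⧸ Z)) p (by
      obtain ⟨k, hk⟩ := IsPGroup.iff_card.mp ((hP.to_quotient Z).to_subgroup (Subgroup.center (P ⧸ Z)))
      rcases k with _ | k
      · have := Finite.one_lt_card (α := Subgroup.center (P ⧸ Z))
        rw [hk, pow_zero] at this; exact absurd this (lt_irrefl 1)
      · exact hk ▸ dvd_pow_self p k.succ_ne_zero)
    obtain ⟨y, hy⟩ := QuotientGroup.mk_surjective (w : P ⧸ Z)
    refine ⟨y, fun h => ?_, ?_, fun u => ?_⟩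
    · have h7 : (w : P ⧸ Z) = 1 := hy.symm.trans ((QuotientGroup.eq_one_iff y).mpr h)
      rw [show w = 1 from Subtype.ext h7, orderOf_one] at hw
      exact hp.ne_one hw.symm
    · refine (QuotientGroup.eq_one_iff _).mp ?_
      rw [QuotientGroup.mk_pow, hy, ← SubgroupClass.coe_pow, ← hw, pow_orderOf_eq_one]; rfl
    · refine (QuotientGroup.eq_one_iff _).mp ?_
      rw [← QuotientGroup.mk'_apply, map_commutatorElement, commutatorElement_eq_one_iff_commute,
        QuotientGroup.mk'_apply, QuotientGroup.mk'_apply, hy]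
      exact Subgroup.mem_center_iff.mp w.2 _
  have hkill : ∀ u : P, ⁅u ^ p, y⁆ = 1 := fun u => by
    rw [(conj_pow_eq (hy2 u) p).2, ← (conj_pow_eq (hy2 u) p).1, commutatorElement_eq_one_iff_commute]
    exact Subgroup.mem_center_iff.mp hyp u
  have hyC : y ∈ C := by
    rw [← hCx]
    exact Subgroup.mem_centralizer_singleton_iff.mpr
      (commutatorElement_eq_one_iff_commute.mp (hkill x)).eq.symm
  have hxy : Commute x y := (Subgroup.mem_centralizer_singleton_iff.mp hyC).symm
  have hxyp : (x * y) ^ p ∉ Z := fun h => hxp (by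
    rw [hxy.mul_pow] at h
    exact (Subgroup.mul_mem_cancel_right Z hyp).mp h)
  have hCxy : Subgroup.centralizer ({x * y} : Set P) = C := by
    rw [hmax _ _ (fun h => hxyp (pow_mem h p)) hxyp (hpow _), ← hCx]
    ext v
    rw [hxy.mul_pow, Subgroup.mem_centralizer_singleton_iff, Subgroup.mem_centralizer_singleton_iff,
      ← mul_assoc, mul_assoc (x ^ p), ← Subgroup.mem_center_iff.mp hyp v, ← mul_assoc (x ^ p)]
    exact mul_left_inj (y ^ p)
  have hCy : Subgroup.centralizer ({y} : Set P) = C := by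
    refine (hmax x y hxZ hyZ fun v hv => Subgroup.mem_centralizer_singleton_iff.mpr ?_).symm
    have h8 : v * (x * y) = x * y * v :=
      Subgroup.mem_centralizer_singleton_iff.mp (show v ∈ Subgroup.centralizer ({x * y} : Set P) by rw [hCxy]; exact hv)
    rw [← mul_assoc, Subgroup.mem_centralizer_singleton_iff.mp hv, mul_assoc, mul_assoc] at h8
    exact mul_left_cancel h8
  have hmemC : ∀ u : P, ⁅u, y⁆ = 1 → u ∈ C := fun u hu => hCy ▸
    Subgroup.mem_centralizer_singleton_iff.mpr (commutatorElement_eq_one_iff_commute.mp hu).eq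
  have hab : ∀ u v : P, (u * v)⁻¹ * (v * u) ∈ C := by
    intro u v
    let f : P →* Z := MonoidHom.mk' (fun w => ⟨⁅w, y⁆, hy2 w⟩) fun w w' => Subtype.ext (by
      show ⁅w * w', y⁆ = ⁅w, y⁆ * ⁅w', y⁆
      have : ⁅w * w', y⁆ = w * ⁅w', y⁆ * w⁻¹ * ⁅w, y⁆ := by simp only [commutatorElement_def]; group
      rw [this, Subgroup.mem_center_iff.mp (hy2 w') w, mul_inv_cancel_right,
        Subgroup.mem_center_iff.mp (hy2 w) ⁅w', y⁆])
    refine hmemC _ (congrArg Subtype.val (show f ((u * v)⁻¹ * (v * u)) = 1 from ?_))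
    have hcomm : f u * f v = f v * f u :=
      Subtype.ext (Subgroup.mem_center_iff.mp (f v).2 (f u))
    rw [map_mul, map_inv, map_mul, map_mul, hcomm, inv_mul_cancel]
  haveI hCn : C.Normal := ⟨fun w hw g => by
    have h11 := hab w g⁻¹
    have h12 : g * w⁻¹ * g⁻¹ * w ∈ C := by simpa [mul_assoc] using h11
    have h13 := mul_mem h12 (inv_mem hw)
    rw [mul_inv_cancel_right] at h13
    simpa [mul_assoc] using inv_mem h13⟩
  have hexp : ∀ u : P, u ^ p ∈ C := fun u => hmemC _ (hkill u)
  have hout : ∀ u : P, u ∉ C → u ^ p ∈ Z := by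
    intro u hu
    by_contra hup
    have hu' : u ∉ Z := fun h => hup (pow_mem h p)
    refine hu (hmemC u (commutatorElement_eq_one_iff_commute.mpr ?_))
    have h14 : y ∈ Subgroup.centralizer ({u ^ p} : Set P) :=
      Subgroup.mem_centralizer_singleton_iff.mpr (commutatorElement_eq_one_iff_commute.mp (hkill u)).eq.symm
    rw [← hmax u _ hu' hup (hpow u)] at h14
    exact (Subgroup.mem_centralizer_singleton_iff.mp h14).symm
  by_cases ha1 : a = 1
  · -- every centraliser has index `p`
    subst ha1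
    have hnormal : ∀ u : P, (Subgroup.centralizer ({u} : Set P)).Normal := by
      intro u
      by_cases hu : u ∈ Z
      · rw [Subgroup.centralizer_eq_top_iff_subset.mpr (Set.singleton_subset_iff.mpr hu)]
        infer_instance
      · haveI : Group.IsNilpotent P := hP.isNilpotent
        refine Subgroup.normal_of_index_eq_minFac_card ?_
        have h15 := hidx u hu
        rw [pow_one] at h15
        obtain ⟨k, hk⟩ := IsPGroup.iff_card.mp hP
        rw [h15, hk]
        rcases k with _ | k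
        · exfalso
          have h16 := (Subgroup.centralizer ({u} : Set P)).index_dvd_card
          rw [h15, hk, pow_zero, Nat.dvd_one] at h16
          exact hp.ne_one h16
        · rw [Nat.pow_minFac (Nat.succ_ne_zero k), hp.minFac_eq]
    have hcen : ∀ u v : P, ⁅u, v⁆ ∈ Z := by
      intro u v
      refine Subgroup.mem_center_iff.mpr fun w => ?_
      by_cases hw : w ∈ Z
      · exact (Subgroup.mem_center_iff.mp hw _).symm
      haveI := hnormal w
      haveI : IsCyclic (P ⧸ Subgroup.centralizer ({w} : Set P)) :=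
        isCyclic_of_prime_card (p := p) (by rw [← Subgroup.index_eq_card, hidx w hw, pow_one])
      refine (Subgroup.mem_centralizer_singleton_iff.mp ((QuotientGroup.eq_one_iff _).mp ?_)).symm
      rw [← QuotientGroup.mk'_apply, map_commutatorElement, commutatorElement_eq_one_iff_commute]
      exact (IsCyclic.commGroup (α := P ⧸ Subgroup.centralizer ({w} : Set P))).mul_comm _ _
    apply hxp
    refine Subgroup.mem_center_iff.mpr fun u => ?_
    refine (commutatorElement_eq_one_iff_commute.mp ?_ : Commute u (x ^ p))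
    rw [(conj_pow_eq (hcen u x) p).1, ← (conj_pow_eq (hcen u x) p).2, commutatorElement_eq_one_iff_commute]
    exact Subgroup.mem_centralizer_singleton_iff.mp (hexp u)
  have hcard : p ^ 2 ≤ C.index := hidx x hxZ ▸ Nat.pow_le_pow_right hp.pos (by omega)
  obtain ⟨g, hg⟩ : ∃ g : P, g ∉ C := by
    by_contra hne
    push Not at hne
    rw [Subgroup.index_eq_one.mpr (eq_top_iff.mpr fun u _ => hne u)] at hcard
    have := Nat.one_lt_pow (show 2 ≠ 0 by omega) hp.one_lt
    omega
  obtain ⟨h, hh⟩ : ∃ h : P, h ∉ C ⊔ Subgroup.zpowers g := by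
    by_contra hne
    push Not at hne
    have hto : ∀ v : P ⧸ C, v ∈ Subgroup.zpowers (QuotientGroup.mk g : P ⧸ C) := by
      intro v
      obtain ⟨u, rfl⟩ := QuotientGroup.mk_surjective v
      have hle : C ⊔ Subgroup.zpowers g ≤ (Subgroup.zpowers (QuotientGroup.mk g : P ⧸ C)).comap (QuotientGroup.mk' C) :=
        sup_le (fun w hw => by
          rw [Subgroup.mem_comap, QuotientGroup.mk'_apply, (QuotientGroup.eq_one_iff w).mpr hw]
          exact one_mem _) (Subgroup.zpowers_le.mpr (Subgroup.mem_zpowers _))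
      exact hle (hne u)
    have h17 : orderOf (QuotientGroup.mk g : P ⧸ C) ∣ p :=
      orderOf_dvd_of_pow_eq_one ((QuotientGroup.mk_pow _ _ _).symm.trans ((QuotientGroup.eq_one_iff _).mpr (hexp g)))
    rw [← Nat.card_zpowers, (Subgroup.eq_top_iff' _).mpr hto, Subgroup.card_top, ← Subgroup.index_eq_card] at h17
    have := Nat.le_of_dvd hp.pos h17
    have := hp.two_le
    nlinarith
  have hhC : h ∉ C := fun e => hh (Subgroup.mem_sup_left e)
  have hgh : ∀ s : ℕ, g * h ^ s ∉ C := by
    intro s hs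
    by_cases hps : p ∣ s
    · obtain ⟨t, rfl⟩ := hps
      rw [pow_mul] at hs
      exact hg ((Subgroup.mul_mem_cancel_right C (pow_mem (hexp h) t)).mp hs)
    · apply hh
      obtain ⟨t, ht⟩ := Nat.exists_mul_mod_eq_one_of_coprime (Nat.coprime_comm.mp (hp.coprime_iff_not_dvd.mpr hps)) hp.one_lt
      have h18 : h ^ s ∈ C ⊔ Subgroup.zpowers g := by
        have := mul_mem (inv_mem (Subgroup.mem_sup_right (S := C) (Subgroup.mem_zpowers g)))
          (Subgroup.mem_sup_left (T := Subgroup.zpowers g) hs)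
        simpa using this
      have h19 : h = h ^ (s * t) * ((h ^ p) ^ (s * t / p))⁻¹ := by
        rw [eq_mul_inv_iff_mul_eq, ← pow_mul, ← pow_succ']
        congr 1
        have := Nat.div_add_mod (s * t) p
        omega
      rw [h19, pow_mul]
      exact mul_mem (pow_mem h18 t) (inv_mem (Subgroup.mem_sup_left (pow_mem (hexp h) _)))
  haveI : (C ⊓ Subgroup.centralizer (C : Set P)).Normal := Subgroup.normal_inf_normal _ _
  haveI : IsMulCommutative ↥(C ⊓ Subgroup.centralizer (C : Set P)) :=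
    ⟨⟨fun u v => Subtype.ext ((Subgroup.mem_inf.mp v.2).2 _ (Subgroup.mem_inf.mp u.2).1)⟩⟩
  exact hxp (contra C (C ⊓ Subgroup.centralizer (C : Set P)) inf_le_left
    (fun c hc u hu => (Subgroup.mem_inf.mp hu).2 c hc) hab hexp hout hg hhC hgh
    (Subgroup.mem_inf.mpr ⟨Subgroup.mem_centralizer_singleton_iff.mpr rfl,
      fun c hc => Subgroup.mem_centralizer_singleton_iff.mp hc⟩))
end Cfsg.Agent.S4365
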