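import Cfsg.Statements.S4370
import Cfsg.Agent.Lib.Hall.Carter
import Cfsg.Agent.Lib.ZStar.Recognize

set_option autoImplicit false
set_option linter.style.haveILetI false
open Cfsg

namespace Cfsg.Agent.S4370

theorem eq_of_card_eq_of_cyclic {C : Type*} [Group C] [Finite C] [IsCyclic C] {H K : Subgroup C}
    (h : Nat.card H = Nat.card K) : H = K := by
  classical
  haveI := Fintype.ofFinite C
  have key : ∀ L : Subgroup C, Nat.card L = Nat.card H → ∀ x : C, x ^ Nat.card H = 1 → x ∈ L := by
    intro L hL x hx
    have hs : (Finset.univ.filter fun y : C => y ∈ L) = (Finset.univ.filter fun y : C => y ^ Nat.card H = 1) := by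
      refine Finset.eq_of_subset_of_card_le (fun y hy => ?_) ?_
      · simp only [Finset.mem_filter, Finset.mem_univ, true_and] at hy ⊢
        rw [← hL]
        exact congrArg Subtype.val (pow_card_eq_one' (x := (⟨y, hy⟩ : L)))
      · refine (IsCyclic.card_pow_eq_one_le (Nat.card_pos (α := H))).trans (le_of_eq ?_)
        rw [← hL, Nat.card_eq_fintype_card, Fintype.card_subtype]
    have hx' : x ∈ (Finset.univ.filter fun y : C => y ^ Nat.card H = 1) := Finset.mem_filter.mpr ⟨Finset.mem_univ x, hx⟩
    rw [← hs] at hx'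
    simpa using hx'
  exact le_antisymm (fun x hx => key K h.symm x (congrArg Subtype.val (pow_card_eq_one' (x := (⟨x, hx⟩ : H)))))
    (fun x hx => key H rfl x (by rw [h]; exact congrArg Subtype.val (pow_card_eq_one' (x := (⟨x, hx⟩ : K)))))

theorem quaternion_centralizer_cyclic {n : ℕ} [NeZero n] (q : QuaternionGroup n)
    (hq : q ∉ Subgroup.center (QuaternionGroup n)) :
    ∃ g : QuaternionGroup n, ∀ y : QuaternionGroup n, Commute y q → y ∈ Subgroup.zpowers g := by
  have hdbl : ∀ t : ZMod (2 * n), t + t = 0 → t = 0 ∨ t = (n : ZMod (2 * n)) := by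
    intro t ht
    have hv : ((t.val + t.val : ℕ) : ZMod (2 * n)) = 0 := by rw [Nat.cast_add, ZMod.natCast_zmod_val, ht]
    obtain ⟨c, hc⟩ := (ZMod.natCast_eq_zero_iff _ _).mp hv
    have hlt := t.val_lt
    have h2 : c < 2 := by nlinarith
    rcases (show c = 0 ∨ c = 1 by omega) with rfl | rfl
    · left; rw [← ZMod.natCast_zmod_val t, show t.val = 0 by omega, Nat.cast_zero]
    · right; rw [← ZMod.natCast_zmod_val t, show t.val = n by omega]
  rcases q with i | i
  · refine ⟨QuaternionGroup.a 1, fun y hy => ?_⟩
    rcases y with j | j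
    · refine ⟨(j.val : ℤ), ?_⟩
      simp only
      rw [zpow_natCast, QuaternionGroup.a_one_pow, ZMod.natCast_zmod_val]
    · exfalso
      have h := hy.eq
      rw [QuaternionGroup.xa_mul_a, QuaternionGroup.a_mul_xa] at h
      injection h with h
      have h2 : i + i = 0 := by linear_combination h
      refine hq (Subgroup.mem_center_iff.mpr fun w => ?_)
      rcases w with l | l
      · rw [QuaternionGroup.a_mul_a, QuaternionGroup.a_mul_a, add_comm]
      · rw [QuaternionGroup.xa_mul_a, QuaternionGroup.a_mul_xa]
        congr 1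
        linear_combination h2
  · refine ⟨QuaternionGroup.xa i, fun y hy => ?_⟩
    have hxx : QuaternionGroup.xa i * QuaternionGroup.xa i = QuaternionGroup.a (n : ZMod (2 * n)) := by
      rw [QuaternionGroup.xa_mul_xa, add_sub_cancel_right]
    have hn : QuaternionGroup.a (n : ZMod (2 * n)) ∈ Subgroup.zpowers (QuaternionGroup.xa i) :=
      hxx ▸ mul_mem (Subgroup.mem_zpowers _) (Subgroup.mem_zpowers _)
    rcases y with j | j
    · have h := hy.eq
      rw [QuaternionGroup.xa_mul_a, QuaternionGroup.a_mul_xa] at h
      injection h with h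
      rcases hdbl j (by linear_combination -h) with rfl | rfl
      · exact QuaternionGroup.a_zero ▸ one_mem _
      · exact hn
    · have h := hy.eq
      rw [QuaternionGroup.xa_mul_xa, QuaternionGroup.xa_mul_xa] at h
      injection h with h
      rcases hdbl (j - i) (by linear_combination -h) with e | e
      · rw [sub_eq_zero.mp e]; exact Subgroup.mem_zpowers _
      · have := mul_mem (Subgroup.mem_zpowers (QuaternionGroup.xa i)) hn
        rwa [QuaternionGroup.xa_mul_a, show i + (n : ZMod (2 * n)) = j by linear_combination -e] at this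

/-- Let G be a finite non-abelian nilpotent group. Then the centralizer of every non-central element of G is cyclic if and only if G is isomorphic to the direct product of a generalized quaternion group and a cyclic group of odd order. -/
theorem result {G : Type*} [Group G] [Finite G] (hG : Group.IsNilpotent G)
    (hna : ¬ IsMulCommutative G) :
    (∀ x : G, x ∉ Subgroup.center G → IsCyclic (Subgroup.centralizer ({x} : Set G))) ↔
      ∃ (k m : ℕ), 1 ≤ k ∧ Odd m ∧ Nonempty (G ≃* QuaternionGroup (2 ^ k) × Multiplicative (ZMod m)) := by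
  haveI := hG
  constructor
  · intro h
    have hcomm : ∀ (p : ℕ) [Fact p.Prime] (P : Sylow p G) (x : G), x ∈ (P : Subgroup G) →
        ∀ y : G, (orderOf y).Coprime p → x * y = y * x := by
      intro p _ P x hx y hy
      obtain ⟨k, hk⟩ := IsPGroup.iff_orderOf.mp P.2 ⟨x, hx⟩
      rw [Subgroup.orderOf_mk] at hk
      exact CfsgLib.Hall.commute_of_coprime_orderOf (j := k) hk.dvd hy
    have hmemP : ∀ (p : ℕ) [Fact p.Prime] (P : Sylow p G) (y : G) (k : ℕ), orderOf y = p ^ k →
        y ∈ (P : Subgroup G) := by
      intro p hp P y k hy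
      have hPn : (P : Subgroup G).Normal :=
        (((Group.isNilpotent_of_finite_tfae (G := G)).out 0 3 rfl rfl :
          Group.IsNilpotent G ↔ ∀ (p : ℕ) (_hp : Fact p.Prime) (P : Sylow p G), (↑P : Subgroup G).Normal).mp hG) p hp P
      have hz : IsPGroup p (Subgroup.zpowers y) := IsPGroup.of_card (by rw [Nat.card_zpowers, hy])
      obtain ⟨R, hR⟩ := hz.exists_le_sylow
      haveI := Sylow.unique_of_normal P hPn
      rw [Subsingleton.elim P R]
      exact hR (Subgroup.mem_zpowers y)
    -- a noncentral Sylow subgroup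
    obtain ⟨p, hpr, P, x, hxP, hxZ⟩ : ∃ (p : ℕ) (_ : Fact p.Prime) (P : Sylow p G) (x : G),
        x ∈ (P : Subgroup G) ∧ x ∉ Subgroup.center G := by
      by_contra hne
      push Not at hne
      refine hna ?_
      have htop : Subgroup.center G = ⊤ := by
        refine Subgroup.index_eq_one.mp ?_
        by_contra hi
        obtain ⟨r, hr, hrd⟩ := Nat.exists_prime_and_dvd hi
        haveI : Fact r.Prime := ⟨hr⟩
        obtain ⟨R⟩ : Nonempty (Sylow r G) := inferInstance
        exact R.not_dvd_index (hrd.trans (Subgroup.index_dvd_of_le fun g hg => hne r ⟨hr⟩ R g hg))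
      exact ⟨⟨fun a b => (Subgroup.mem_center_iff.mp (htop ▸ Subgroup.mem_top a) b).symm⟩⟩
    haveI := hpr
    have hp : p.Prime := Fact.out
    haveI hCc := h x hxZ
    have hxC : x ∈ Subgroup.centralizer ({x} : Set G) := Subgroup.mem_centralizer_singleton_iff.mpr rfl
    have hcen : ∀ y : G, orderOf y = p → y ∈ Subgroup.center G := by
      intro y hy
      by_contra hyc
      haveI := h y hyc
      have hyP : y ∈ (P : Subgroup G) := hmemP p P y 1 (by rw [hy, pow_one])
      -- a central element of order `p`
      obtain ⟨z, hzZ, hzo⟩ : ∃ z ∈ Subgroup.center G, orderOf z = p := by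
        haveI : Nontrivial (P : Subgroup G) := ⟨⟨⟨y, hyP⟩, 1, fun e => hp.ne_one (by rw [← hy, show y = 1 from congrArg Subtype.val e, orderOf_one])⟩⟩
        haveI := P.2.center_nontrivial
        have hd : p ∣ Nat.card (Subgroup.center (P : Subgroup G)) := by
          obtain ⟨k, hk⟩ := IsPGroup.iff_card.mp (P.2.to_subgroup (Subgroup.center (P : Subgroup G)))
          rw [hk]
          refine dvd_pow_self p ?_
          rintro rfl
          have h1 : 1 < Nat.card (Subgroup.center (P : Subgroup G)) := Finite.one_lt_card_iff_nontrivial.mpr inferInstance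
          simp [hk] at h1
        obtain ⟨z, hz⟩ := exists_prime_orderOf_dvd_card' p hd
        refine ⟨((z : (P : Subgroup G)) : G), ?_, by rw [Subgroup.orderOf_coe, Subgroup.orderOf_coe, hz]⟩
        have hle : ⊤ ≤ Subgroup.centralizer ({((z : (P : Subgroup G)) : G)} : Set G) := by
          rw [top_le_iff]
          refine Subgroup.index_eq_one.mp ?_
          by_contra hi
          obtain ⟨r, hr, hrd⟩ := Nat.exists_prime_and_dvd hi
          haveI : Fact r.Prime := ⟨hr⟩
          obtain ⟨R⟩ : Nonempty (Sylow r G) := inferInstance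
          refine R.not_dvd_index (hrd.trans (Subgroup.index_dvd_of_le fun g hg => ?_))
          rw [Subgroup.mem_centralizer_singleton_iff]
          obtain ⟨k, hk⟩ := IsPGroup.iff_orderOf.mp R.2 ⟨g, hg⟩
          rw [Subgroup.orderOf_mk] at hk
          by_cases hrp : r = p
          · subst hrp
            have hgP : g ∈ (P : Subgroup G) := hmemP r P g k hk
            exact congrArg Subtype.val (Subgroup.mem_center_iff.mp z.2 ⟨g, hgP⟩)
          · exact (hcomm p P _ (z : (P : Subgroup G)).2 g (hk ▸ ((Nat.coprime_primes hr hp).mpr hrp).pow_left k)).symm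
        exact Subgroup.mem_center_iff.mpr fun g => Subgroup.mem_centralizer_singleton_iff.mp (hle (Subgroup.mem_top g))
      refine hyc ?_
      have hzC : z ∈ Subgroup.centralizer ({y} : Set G) :=
        Subgroup.mem_centralizer_singleton_iff.mpr (Subgroup.mem_center_iff.mp hzZ y).symm
      have hyC : y ∈ Subgroup.centralizer ({y} : Set G) := Subgroup.mem_centralizer_singleton_iff.mpr rfl
      by_contra hyc'
      have hsub : Subgroup.zpowers (⟨y, hyC⟩ : Subgroup.centralizer ({y} : Set G)) =
          Subgroup.zpowers (⟨z, hzC⟩ : Subgroup.centralizer ({y} : Set G)) := by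
        refine eq_of_card_eq_of_cyclic ?_
        rw [Nat.card_zpowers, Nat.card_zpowers, Subgroup.orderOf_mk, Subgroup.orderOf_mk, hy, hzo]
      obtain ⟨i, hi⟩ : (⟨y, hyC⟩ : Subgroup.centralizer ({y} : Set G)) ∈
          Subgroup.zpowers (⟨z, hzC⟩ : Subgroup.centralizer ({y} : Set G)) := hsub ▸ Subgroup.mem_zpowers _
      have hi' : z ^ i = y := congrArg Subtype.val hi
      exact hyc' (hi' ▸ zpow_mem hzZ i)
    have hPncyc : ¬ IsCyclic (P : Subgroup G) := fun hc => by
      haveI := IsCyclic.isMulCommutative (α := (P : Subgroup G))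
      refine hxZ (Subgroup.mem_center_iff.mpr fun g => ?_)
      have hle : Subgroup.centralizer ({x} : Set G) = ⊤ := by
        refine Subgroup.index_eq_one.mp ?_
        by_contra hi
        obtain ⟨r, hr, hrd⟩ := Nat.exists_prime_and_dvd hi
        haveI : Fact r.Prime := ⟨hr⟩
        obtain ⟨R⟩ : Nonempty (Sylow r G) := inferInstance
        refine R.not_dvd_index (hrd.trans (Subgroup.index_dvd_of_le fun g hg => ?_))
        rw [Subgroup.mem_centralizer_singleton_iff]
        obtain ⟨k, hk⟩ := IsPGroup.iff_orderOf.mp R.2 ⟨g, hg⟩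
        rw [Subgroup.orderOf_mk] at hk
        by_cases hrp : r = p
        · subst hrp
          have hgP : g ∈ (P : Subgroup G) := hmemP r P g k hk
          exact congrArg Subtype.val (mul_comm' (⟨g, hgP⟩ : (P : Subgroup G)) ⟨x, hxP⟩)
        · exact (hcomm p P x hxP g (hk ▸ ((Nat.coprime_primes hr hp).mpr hrp).pow_left k)).symm
      exact Subgroup.mem_centralizer_singleton_iff.mp (hle ▸ Subgroup.mem_top g)
    have huniq : ∀ a b : (P : Subgroup G), orderOf a = p → orderOf b = p → Subgroup.zpowers a = Subgroup.zpowers b := by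
      intro a b ha hb
      have hmem : ∀ c : (P : Subgroup G), orderOf c = p → (c : G) ∈ Subgroup.centralizer ({x} : Set G) := fun c hc =>
        Subgroup.mem_centralizer_singleton_iff.mpr
          (Subgroup.mem_center_iff.mp (hcen c (by rw [Subgroup.orderOf_coe, hc])) x).symm
      have hsub : Subgroup.zpowers (⟨(a : G), hmem a ha⟩ : Subgroup.centralizer ({x} : Set G)) =
          Subgroup.zpowers (⟨(b : G), hmem b hb⟩ : Subgroup.centralizer ({x} : Set G)) := by
        refine eq_of_card_eq_of_cyclic ?_
        rw [Nat.card_zpowers, Nat.card_zpowers, Subgroup.orderOf_mk, Subgroup.orderOf_mk, Subgroup.orderOf_coe,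
          Subgroup.orderOf_coe, ha, hb]
      obtain ⟨i, hi⟩ : (⟨(a : G), hmem a ha⟩ : Subgroup.centralizer ({x} : Set G)) ∈
          Subgroup.zpowers (⟨(b : G), hmem b hb⟩ : Subgroup.centralizer ({x} : Set G)) := hsub ▸ Subgroup.mem_zpowers _
      have hi' : (b : G) ^ i = (a : G) := congrArg Subtype.val hi
      refine Subgroup.eq_of_le_of_card_ge (Subgroup.zpowers_le.mpr ⟨i, Subtype.ext (by simpa using hi')⟩) ?_
      rw [Nat.card_zpowers, Nat.card_zpowers, ha, hb]
    by_cases hp2 : p = 2
    · subst hp2
      rcases CfsgLib.ZStar.cyclic_or_quaternion P.2 (fun a b ha hb => by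
          obtain ⟨i, hi⟩ : a ∈ Subgroup.zpowers b := huniq a b ha hb ▸ Subgroup.mem_zpowers a
          simp only at hi
          have hb2 : b ^ (2 : ℤ) = 1 := by rw [zpow_ofNat]; exact orderOf_dvd_iff_pow_eq_one.mp hb.dvd
          rcases Int.even_or_odd i with ⟨j, rfl⟩ | ⟨j, rfl⟩
          · rw [← two_mul, zpow_mul, hb2, one_zpow] at hi
            rw [← hi, orderOf_one] at ha
            omega
          · rw [zpow_add, zpow_mul, hb2, one_zpow, one_mul, zpow_one] at hi
            exact hi.symm) with hc | ⟨k, ⟨e⟩⟩
      · exact absurd hc hPncyc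
      have hk : 1 ≤ k := by
        by_contra hk0
        obtain rfl : k = 0 := by omega
        refine hPncyc (isCyclic_of_orderOf_eq_card (e.symm (QuaternionGroup.xa 0)) ?_)
        rw [MulEquiv.orderOf_eq, QuaternionGroup.orderOf_xa, Nat.card_congr e.toEquiv,
          Nat.card_eq_fintype_card, QuaternionGroup.card]
        norm_num
      haveI hPn : (P : Subgroup G).Normal :=
        (((Group.isNilpotent_of_finite_tfae (G := G)).out 0 3 rfl rfl :
          Group.IsNilpotent G ↔ ∀ (p : ℕ) (_hp : Fact p.Prime) (P : Sylow p G), (↑P : Subgroup G).Normal).mp hG) 2 inferInstance P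
      obtain ⟨O, hO⟩ := Subgroup.exists_right_complement'_of_coprime P.card_coprime_index
      have hOodd : Odd (Nat.card O) := by
        rw [← hO.symm.index_eq_card, ← Nat.not_even_iff_odd, even_iff_two_dvd]
        exact P.not_dvd_index
      have hco : ∀ g ∈ O, (orderOf g).Coprime 2 := fun g hg =>
        (Nat.coprime_two_right.mpr (Odd.of_dvd_nat hOodd ((Subgroup.orderOf_mk g hg) ▸ orderOf_dvd_natCard (⟨g, hg⟩ : O))))
      have hOC : O ≤ Subgroup.centralizer ({x} : Set G) := fun g hg =>
        Subgroup.mem_centralizer_singleton_iff.mpr (hcomm 2 P x hxP g (hco g hg)).symm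
      haveI : IsCyclic O := isCyclic_of_injective _ (Subgroup.inclusion_injective hOC)
      let f : ↥(P : Subgroup G) × ↥O →* G :=
        MonoidHom.noncommCoprod (P : Subgroup G).subtype O.subtype fun a b => hcomm 2 P a a.2 b (hco b b.2)
      have hf : Function.Bijective f := hO
      refine ⟨k, Nat.card O, hk, hOodd, ⟨(MulEquiv.ofBijective f hf).symm.trans (MulEquiv.prodCongr e ?_)⟩⟩
      exact (zmodCyclicMulEquiv inferInstance).symm
    · refine absurd (CfsgLib.ZStar.cyclic_of_unique_subgroup hp2 P.2 fun H K hH hK => ?_) hPncyc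
      haveI : IsCyclic H := isCyclic_of_prime_card hH
      haveI : IsCyclic K := isCyclic_of_prime_card hK
      obtain ⟨a, ha⟩ := IsCyclic.exists_ofOrder_eq_natCard (α := H)
      obtain ⟨b, hb⟩ := IsCyclic.exists_ofOrder_eq_natCard (α := K)
      rw [hH, ← Subgroup.orderOf_coe] at ha
      rw [hK, ← Subgroup.orderOf_coe] at hb
      have e1 : H = Subgroup.zpowers (a : (P : Subgroup G)) :=
        (Subgroup.eq_of_le_of_card_ge (Subgroup.zpowers_le.mpr a.2) (by rw [Nat.card_zpowers, ha, hH])).symm
      have e2 : K = Subgroup.zpowers (b : (P : Subgroup G)) :=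
        (Subgroup.eq_of_le_of_card_ge (Subgroup.zpowers_le.mpr b.2) (by rw [Nat.card_zpowers, hb, hK])).symm
      rw [e1, e2]
      exact huniq _ _ ha hb
  · rintro ⟨k, m, -, hm, ⟨e⟩⟩ x hx
    haveI : NeZero (2 ^ k) := ⟨by positivity⟩
    haveI : NeZero m := ⟨by rintro rfl; simp at hm⟩
    have hq : (e x).1 ∉ Subgroup.center (QuaternionGroup (2 ^ k)) := fun hc => by
      refine hx (Subgroup.mem_center_iff.mpr fun g => e.injective ?_)
      rw [map_mul, map_mul]
      exact Prod.ext (Subgroup.mem_center_iff.mp hc _) (mul_comm _ _)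
    obtain ⟨q, hq'⟩ := quaternion_centralizer_cyclic (e x).1 hq
    haveI : IsCyclic (Subgroup.zpowers q × Multiplicative (ZMod m)) := by
      refine Group.isCyclic_prod_iff.mpr ⟨inferInstance, inferInstance, ?_⟩
      have hd : orderOf q ∣ 2 ^ (k + 2) := by
        have h := orderOf_dvd_natCard q
        rw [Nat.card_eq_fintype_card, QuaternionGroup.card] at h
        rwa [show 2 ^ (k + 2) = 4 * 2 ^ k by ring]
      rw [Nat.card_zpowers, Nat.card_congr Multiplicative.toAdd, Nat.card_zmod]
      exact ((Nat.coprime_two_left.mpr hm).pow_left (k + 2)).coprime_dvd_left hd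
    let f : Subgroup.centralizer ({x} : Set G) →* Subgroup.zpowers q × Multiplicative (ZMod m) :=
      MonoidHom.prod
        (((MonoidHom.fst _ _).comp (e.toMonoidHom.comp (Subgroup.subtype _))).codRestrict _ fun y => hq' _ (by
          show (e (y : G)).1 * (e x).1 = (e x).1 * (e (y : G)).1
          rw [← Prod.fst_mul, ← Prod.fst_mul, ← map_mul, ← map_mul, Subgroup.mem_centralizer_singleton_iff.mp y.2]))
        ((MonoidHom.snd _ _).comp (e.toMonoidHom.comp (Subgroup.subtype _)))
    refine isCyclic_of_injective f fun a b hab => Subtype.ext (e.injective ?_)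
    exact Prod.ext (congrArg Subtype.val (congrArg Prod.fst hab)) (congrArg Prod.snd hab :)
end Cfsg.Agent.S4370
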