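import Cfsg.Statements.S4373
import Cfsg.Agent.Lib.CoprimeBase.Pairs
import Cfsg.Agent.Lib.BG.PiHall
import Cfsg.Agent.Lib.OddConseq.Hall
import Cfsg.Agent.S1886

set_option autoImplicit false
open Pointwise
open Cfsg

namespace Cfsg.Agent.S4373


theorem relIndex_inf_dvd {X : Type*} [Group X] {M M' C : Subgroup X} [M.Normal] (h : M ≤ M') :
    (M ⊓ C).relIndex (M' ⊓ C) ∣ M.relIndex M' := by
  have h0 : (M ⊓ C).relIndex (M' ⊓ C) = M.relIndex (M' ⊓ C) := by
    rw [← Subgroup.inf_relIndex_right (M ⊓ C), inf_assoc, inf_eq_right.mpr (inf_le_right : M' ⊓ C ≤ C),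
      Subgroup.inf_relIndex_right]
  rw [h0, ← Subgroup.relIndex_sup_right]
  exact Dvd.intro _ (Subgroup.relIndex_mul_relIndex M ((M' ⊓ C) ⊔ M) M' le_sup_right
    (sup_le inf_le_left h))

theorem isSolvable_of_relIndex {X : Type*} [Group X] [Finite X] {L L' : Subgroup X} (hle : L ≤ L')
    [hn : (L.subgroupOf L').Normal] (hL : Group.IsSolvable L) {p k : ℕ} (hp : p.Prime)
    (hk : L.relIndex L' = p ^ k) : Group.IsSolvable L' := by
  haveI := Fact.mk hp
  haveI := hL
  have hq : IsPGroup p (L' ⧸ L.subgroupOf L') := IsPGroup.of_card (n := k) hk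
  haveI := hq.isNilpotent
  refine Group.isSolvable_of_ker_le_range (Subgroup.inclusion hle)
    (QuotientGroup.mk' (L.subgroupOf L')) ?_
  rw [QuotientGroup.ker_mk', Subgroup.inclusion_range]

/-- In a group with trivial `π`-core a normal subgroup over a central `π'`-subgroup with `p`-power index
is that subgroup, for `p ∈ π`. -/
theorem eq_of_central_of_relIndex {X : Type*} [Group X] [Finite X] {π : Set ℕ}
    (hX : Cfsg.piCore π X = ⊥) {L M : Subgroup X} [M.Normal] (hle : L ≤ M)
    (hc : ∀ l ∈ L, ∀ m ∈ M, m * l = l * m) {p k : ℕ} (hp : p.Prime) (hπ : p ∈ π)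
    (hk : L.relIndex M = p ^ k) : M ≤ L := by
  haveI := Fact.mk hp
  have hcen : L.subgroupOf M ≤ Subgroup.center M := fun l hl =>
    Subgroup.mem_center_iff.mpr fun m => Subtype.ext (hc l hl m m.2)
  haveI : (L.subgroupOf M).Normal :=
    ⟨fun l hl m => by rwa [Subgroup.mem_center_iff.mp (hcen hl) m, mul_inv_cancel_right]⟩
  have hq : IsPGroup p (M ⧸ L.subgroupOf M) := IsPGroup.of_card (n := k) hk
  haveI := hq.isNilpotent
  haveI : Group.IsNilpotent M :=
    Subgroup.isNilpotent_of_ker_le_center (QuotientGroup.mk' (L.subgroupOf M))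
      (by rw [QuotientGroup.ker_mk']; exact hcen)
  let P : Sylow p M := default
  have hPn : (P : Subgroup M).Normal := Sylow.normal_of_normalizerCondition Group.normalizerCondition_of_isNilpotent P
  haveI := P.characteristic_of_normal hPn
  have h1 : (P : Subgroup M).map M.subtype ≤ Cfsg.piCore π X :=
    le_sSup ⟨CfsgLib.PSolvable.normal_map_of_characteristic _ _, fun q hq hd => by
      rw [Subgroup.card_map_of_injective M.subtype_injective, P.card_eq_multiplicity] at hd
      rw [(Nat.prime_dvd_prime_iff_eq hq hp).mp (hq.dvd_of_dvd_pow hd)]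
      exact hπ⟩
  rw [hX, le_bot_iff, Subgroup.map_eq_bot_iff, Subgroup.ker_subtype, le_bot_iff] at h1
  rw [← Subgroup.relIndex_eq_one, hk]
  by_contra hne
  refine P.not_dvd_index ?_
  rw [show (P : Subgroup M) = ⊥ from h1, Subgroup.index_bot]
  exact (dvd_pow_self p (fun h => hne (by rw [h, pow_zero]))).trans
    (hk ▸ Subgroup.relIndex_dvd_card L M)

theorem meet_trivial {X : Type*} [Group X] [Finite X] {π : Set ℕ} {n : ℕ}
    (N : Fin (n + 1) → Subgroup X) (h0 : N 0 = ⊥) (hlast : N (Fin.last n) = ⊤) (hmono : Monotone N)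
    (hnorm : ∀ i, (N i).Normal)
    (hfac : ∀ i : Fin n, (∃ p ∈ π, p.Prime ∧ ∃ k : ℕ, (N i.castSucc).relIndex (N i.succ) ∣ p ^ k) ∨
      (∀ q : ℕ, q.Prime → q ∣ (N i.castSucc).relIndex (N i.succ) → q ∉ π))
    (hX : Cfsg.piCore π X = ⊥) (H : Subgroup X) (hH : ∀ q : ℕ, q.Prime → q ∣ Nat.card H → q ∈ π) :
    ∃ x y : X, H ⊓ MulAut.conj x • H ⊓ MulAut.conj y • H = ⊥ := by
  set K := Cfsg.piCore πᶜ X with hKdef
  have hKpi := Cfsg.Agent.S1886.piCore_isPi (X := X) πᶜ
  set C := Subgroup.centralizer (K : Set X) with hC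
  haveI : C.Normal := Subgroup.normal_centralizer
  have hself : C ≤ K := by
    have key : ∀ i, N i ⊓ C ≤ K := by
      intro i
      induction i using Fin.induction with
      | zero => rw [h0, bot_inf_eq]; exact bot_le
      | succ i ih =>
        haveI := hnorm i.castSucc
        haveI := hnorm i.succ
        have hle : N i.castSucc ⊓ C ≤ N i.succ ⊓ C :=
          inf_le_inf_right _ (hmono (Fin.castSucc_le_succ i))
        have hd := relIndex_inf_dvd (C := C) (hmono (Fin.castSucc_le_succ i))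
        rcases hfac i with ⟨p, hpπ, hp, k, hk⟩ | hπ'
        · obtain ⟨j, -, hj⟩ := (Nat.dvd_prime_pow hp).mp (hd.trans hk)
          exact (eq_of_central_of_relIndex hX hle (fun l hl m hm =>
            (Subgroup.mem_centralizer_iff.mp hm.2 l (ih hl)).symm) hp hpπ hj).trans ih
        · refine le_sSup ⟨inferInstance, fun q hq hd' hqπ => ?_⟩
          rw [← Subgroup.relIndex_bot_left,
            ← Subgroup.relIndex_mul_relIndex ⊥ _ _ bot_le hle, Subgroup.relIndex_bot_left] at hd'
          rcases hq.dvd_mul.mp hd' with h | h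
          · exact hKpi q hq (h.trans (Subgroup.card_dvd_of_le ih)) hqπ
          · exact hπ' q hq (h.trans hd) hqπ
    simpa [hlast] using key (Fin.last n)
  have hsolv : Group.IsSolvable H := by
    have key : ∀ i, Group.IsSolvable (N i ⊓ H : Subgroup X) := by
      intro i
      induction i using Fin.induction with
      | zero =>
        refine Group.isSolvable_of_comm fun a b => Subtype.ext ?_
        have ha : (a : X) = 1 := Subgroup.mem_bot.mp (h0 ▸ a.2.1)
        have hb : (b : X) = 1 := Subgroup.mem_bot.mp (h0 ▸ b.2.1)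
        simp [ha, hb]
      | succ i ih =>
        haveI := hnorm i.castSucc
        have hle : N i.castSucc ⊓ H ≤ N i.succ ⊓ H :=
          inf_le_inf_right _ (hmono (Fin.castSucc_le_succ i))
        have hd := relIndex_inf_dvd (C := H) (hmono (Fin.castSucc_le_succ i))
        rcases hfac i with ⟨p, hpπ, hp, k, hk⟩ | hπ'
        · obtain ⟨j, -, hj⟩ := (Nat.dvd_prime_pow hp).mp (hd.trans hk)
          haveI : ((N i.castSucc ⊓ H).subgroupOf (N i.succ ⊓ H)).Normal := by
            refine ⟨fun a ha b => ?_⟩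
            rw [Subgroup.mem_subgroupOf] at ha ⊢
            exact ⟨(hnorm i.castSucc).conj_mem _ ha.1 _,
              H.mul_mem (H.mul_mem b.2.2 ha.2) (H.inv_mem b.2.2)⟩
          exact isSolvable_of_relIndex hle ih hp hj
        · have h1 : (N i.castSucc ⊓ H).relIndex (N i.succ ⊓ H) = 1 :=
            CfsgLib.BG.eq_one_of_pi_and_compl (π := π) (fun q hq h => hH q hq
              ((h.trans (Subgroup.relIndex_dvd_card _ _)).trans (Subgroup.card_dvd_of_le inf_le_right)))
              (fun q hq h => hπ' q hq (h.trans hd))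
          rwa [le_antisymm (Subgroup.relIndex_eq_one.mp h1) hle]
    have h1 := key (Fin.last n)
    rwa [hlast, top_inf_eq] at h1
  have hdisj : ∀ a, a ∈ H → a ∈ K → a = 1 := fun a ha ha' => by
    rw [← orderOf_eq_one_iff]
    refine CfsgLib.BG.eq_one_of_pi_and_compl (π := π) (fun q hq h => hH q hq (h.trans ?_))
      (fun q hq h => hKpi q hq (h.trans ?_))
    · exact Subgroup.orderOf_dvd_natCard _ ha
    · exact Subgroup.orderOf_dvd_natCard _ ha'
  have hKn : K.Normal := Cfsg.piCore_normal πᶜ X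
  obtain ⟨x, hx, y, hy, hxy⟩ := CfsgLib.CoprimeBase.exists_pair (A := H) (K := K)
    (by rw [Subgroup.normalizer_eq_top_iff.mpr hKn]; exact le_top)
    (Nat.coprime_of_dvd fun q hq h1 h2 => hKpi q hq h2 (hH q hq h1)) hsolv
  have hcomm : ∀ x ∈ K, ∀ a ∈ H, a ∈ MulAut.conj x • H → a * x = x * a := fun x hx a ha hax => by
    rw [CfsgLib.Coprime.mem_conj_smul_iff] at hax
    have h1 : a⁻¹ * (x⁻¹ * a * x) = 1 := hdisj _ (H.mul_mem (H.inv_mem ha) hax) (by
      rw [show a⁻¹ * (x⁻¹ * a * x) = (a⁻¹ * x⁻¹ * a⁻¹⁻¹) * x by group]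
      exact K.mul_mem (hKn.conj_mem _ (K.inv_mem hx) _) hx)
    rw [inv_mul_eq_one] at h1
    conv_rhs => rw [h1]
    group
  refine ⟨x, y, (Subgroup.eq_bot_iff_forall _).mpr fun a ha => ?_⟩
  exact hdisj a ha.1.1 (hself (hxy a ha.1.1 (hcomm x hx a ha.1.1 ha.1.2) (hcomm y hy a ha.1.1 ha.2)))

/-- Let π be a set of primes and G a finite π-solvable group: G has a chain of normal subgroups from 1 to G in which each successive index is a power of a prime in π or is divisible by no prime in π. Let H be a Hall π-subgroup of G. Then there are x, y ∈ G with H ∩ xHx⁻¹ ∩ yHy⁻¹ = O_π(G), the largest normal π-subgroup. -/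
theorem result {G : Type*} [Group G] [Finite G] (π : Set ℕ)
    (hsolv : (∃ (n : ℕ) (N : Fin (n + 1) → Subgroup G), N 0 = ⊥ ∧ N (Fin.last n) = ⊤ ∧ Monotone N ∧ (∀ i, (N i).Normal) ∧
      ∀ i : Fin n, (∃ p ∈ π, p.Prime ∧ ∃ k : ℕ, (N i.castSucc).relIndex (N i.succ) = p ^ k) ∨
        (∀ q : ℕ, q.Prime → q ∣ (N i.castSucc).relIndex (N i.succ) → q ∉ π))) (H : Subgroup G) (hH : Cfsg.IsPiHall π H) :
    ∃ x y : G, H ⊓ MulAut.conj x • H ⊓ MulAut.conj y • H = Cfsg.piCore π G := by
  obtain ⟨n, N, h0, hlast, hmono, hnorm, hfac⟩ := hsolv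
  set R := Cfsg.piCore π G with hR
  have hRn : R.Normal := Cfsg.piCore_normal π G
  have hRH : R ≤ H :=
    CfsgLib.BG.le_piHall_of_normal hH hRn (Cfsg.Agent.S1886.piCore_isPi π)
  have hsurj := QuotientGroup.mk'_surjective R
  obtain ⟨x', y', h⟩ := meet_trivial (π := π) (fun i => (N i).map (QuotientGroup.mk' R))
    (by simp [h0]) (by rw [hlast]; exact Subgroup.map_top_of_surjective _ hsurj)
    (fun i j hij => Subgroup.map_mono (hmono hij)) (fun i => (hnorm i).map _ hsurj)
    (fun i => (hfac i).imp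
      (fun ⟨p, hpπ, hp, k, hk⟩ => ⟨p, hpπ, hp, k, hk ▸ CfsgLib.OddConseq.relIndex_map_dvd _ _ _⟩)
      fun hq q hqp hd => hq q hqp (hd.trans (CfsgLib.OddConseq.relIndex_map_dvd _ _ _)))
    (Cfsg.Agent.S1886.result π).1 (H.map (QuotientGroup.mk' R))
    (fun q hq hd => hH.1 q hq (hd.trans (Subgroup.card_map_dvd H _)))
  obtain ⟨x, rfl⟩ := hsurj x'
  obtain ⟨y, rfl⟩ := hsurj y'
  refine ⟨x, y, le_antisymm (fun a ha => ?_) (le_inf (le_inf hRH ?_) ?_)⟩
  · have hm : ∀ z, a ∈ MulAut.conj z • H →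
        QuotientGroup.mk' R a ∈ MulAut.conj (QuotientGroup.mk' R z) • H.map (QuotientGroup.mk' R) :=
      fun z hz => by
        rw [CfsgLib.Coprime.mem_conj_smul_iff] at hz ⊢
        rw [← map_inv, ← map_mul, ← map_mul]
        exact Subgroup.mem_map_of_mem _ hz
    refine (QuotientGroup.eq_one_iff a).mp (Subgroup.mem_bot.mp (h ▸ ?_))
    exact ⟨⟨Subgroup.mem_map_of_mem _ ha.1.1, hm x ha.1.2⟩, hm y ha.2⟩
  all_goals
    intro a ha
    rw [CfsgLib.Coprime.mem_conj_smul_iff]
    refine hRH ?_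
    simpa using hRn.conj_mem a ha _⁻¹

end Cfsg.Agent.S4373
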