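import Cfsg.Statements.S4374
import Cfsg.Agent.Lib.SolBase.Main

set_option autoImplicit false
open Cfsg

namespace Cfsg.Agent.S4374

/-- Let the finite solvable group A act faithfully on the finite additive group V by group automorphisms, completely reducibly (every A-invariant subgroup has an A-invariant complement). Then there are v₁, v₂, v₃ ∈ V such that only the identity of A fixes all three. -/
theorem result {A V : Type*} [Group A] [Finite A]
    [AddCommGroup V] [Finite V] [DistribMulAction A V] [FaithfulSMul A V] (hA : Group.IsSolvable A)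
    (hcr : (∀ U : AddSubgroup V, (∀ a : A, ∀ v ∈ U, a • v ∈ U) → ∃ W : AddSubgroup V, (∀ a : A, ∀ w ∈ W, a • w ∈ W) ∧ U ⊓ W = ⊥ ∧ U ⊔ W = ⊤)) :
    ∃ v₁ v₂ v₃ : V, ∀ a : A, a • v₁ = v₁ → a • v₂ = v₂ → a • v₃ = v₃ → a = 1 := by
  let φ : A →* AddMonoid.End V :=
    { toFun := fun a => DistribSMul.toAddMonoidHom V a
      map_one' := CfsgLib.OddBase.ext_end fun v => one_smul A v
      map_mul' := fun a b => CfsgLib.OddBase.ext_end fun v => mul_smul a b v }
  haveI : Finite (AddMonoid.End V) :=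
    Finite.of_injective (fun f => (f : V → V)) DFunLike.coe_injective
  let G := φ.toHomUnits.range
  haveI := hA
  have hG : Group.IsSolvable G :=
    Group.isSolvable_of_surjective φ.toHomUnits.rangeRestrict_surjective
  let ρ : G →* AddMonoid.End V := (Units.coeHom _).comp G.subtype
  have hρ : ∀ (a : A) (v : V), ρ ⟨φ.toHomUnits a, a, rfl⟩ v = a • v := fun a v => rfl
  have hc : CfsgLib.OddBase.CR ρ := fun U hU => by
    obtain ⟨W, hW, h1, h2⟩ := hcr U fun a v hv => by
      rw [← hρ]; exact hU _ v hv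
    refine ⟨W, ?_, h1, h2⟩
    rintro ⟨g, a, rfl⟩ v hv
    exact hW a v hv
  obtain ⟨v₁, v₂, v₃, h⟩ :=
    CfsgLib.SolBase.smallBase3 (Nat.card V + 1) G hG V (Nat.lt_succ_self _) ρ hc
  refine ⟨v₁, v₂, v₃, fun a h1 h2 h3 => eq_of_smul_eq_smul (α := V) fun x => ?_⟩
  have e := h ⟨φ.toHomUnits a, a, rfl⟩ h1 h2 h3
  rw [one_smul, ← hρ, e]
  rfl

end Cfsg.Agent.S4374
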