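import Cfsg.Statements.S4378
import Cfsg.Agent.Lib.Hall.Basic
import Cfsg.Agent.Lib.PSolvable.Core
import Cfsg.Agent.S4270

set_option autoImplicit false
set_option linter.style.haveILetI false
open Cfsg

namespace Cfsg.Agent.S4378

open scoped Pointwise

open Cfsg.Agent.S4022 (cj cj_mul card_cj cj_normal cj_mono cj_smul)
open Cfsg.Agent.S4270 (cj_cancel mem_normalizer_of_cj)

universe u

/-- The hypothesis on maximal subgroups. -/
def Hyp (G : Type u) [Group G] : Prop :=
  ∀ M : Subgroup G, IsCoatom M → (∃ K : Subgroup ↥M, K.Normal ∧ ¬ 2 ∣ Nat.card K ∧ ∃ k : ℕ, K.index = 2 ^ k) ∨ (M.index).Prime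

theorem Hyp.quotient {G : Type u} [Group G] [Finite G] (h : Hyp G) (N : Subgroup G) [N.Normal] : Hyp (G ⧸ N) := by
  intro M hM
  let π := QuotientGroup.mk' N
  have hπ := QuotientGroup.mk'_surjective N
  have hker : N ≤ M.comap π := fun x hx => by
    rw [Subgroup.mem_comap, show π x = 1 from (QuotientGroup.eq_one_iff x).mpr hx]
    exact one_mem _
  have hM' : IsCoatom (M.comap π) := by
    refine ⟨fun e => hM.1 ?_, fun X hX => ?_⟩
    · rw [← Subgroup.map_comap_eq_self_of_surjective hπ M, e, Subgroup.map_top_of_surjective π hπ]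
    · have hNX : N ≤ X := hker.trans hX.le
      have hcm : (X.map π).comap π = X := by rw [Subgroup.comap_map_eq, QuotientGroup.ker_mk', sup_eq_left.mpr hNX]
      have h1 : M < X.map π := lt_of_le_of_ne
        ((Subgroup.map_comap_eq_self_of_surjective hπ M).ge.trans (Subgroup.map_mono hX.le))
        fun e => hX.ne (by rw [e, hcm])
      rw [← hcm, hM.2 _ h1, Subgroup.comap_top]
  rcases h _ hM' with ⟨K, hK, hKodd, k, hk⟩ | hp
  · left
    let f : ↥(M.comap π) →* M := π.subgroupComap M
    have hf : Function.Surjective f := MonoidHom.subgroupComap_surjective_of_surjective π M hπ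
    obtain ⟨j, -, hj⟩ := (Nat.dvd_prime_pow Nat.prime_two).mp (hk ▸ Subgroup.index_map_dvd K hf)
    exact ⟨K.map f, hK.map f hf, fun hd => hKodd (hd.trans (Subgroup.card_map_dvd K f)), j, hj⟩
  · right
    rwa [Subgroup.index_comap_of_surjective M hπ] at hp

/-- The conclusion. -/
def Chain (G : Type u) [Group G] : Prop :=
  ∃ A B C : Subgroup G, A.Normal ∧ B.Normal ∧ C.Normal ∧ A ≤ B ∧ B ≤ C ∧ Odd (Nat.card A) ∧
      (∃ k : ℕ, A.relIndex B = 2 ^ k) ∧ Odd (B.relIndex C) ∧ ∃ k : ℕ, C.index = 2 ^ k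

theorem main (n : ℕ) : ∀ (G : Type u) [Group G] [Finite G] [Group.IsSolvable G], Nat.card G = n → Hyp G → Chain G := by
  induction n using Nat.strong_induction_on with
  | _ n ih =>
    intro G _ _ _ hn hyp
    classical
    rcases subsingleton_or_nontrivial G with hs | hs
    · refine ⟨⊥, ⊥, ⊥, inferInstance, inferInstance, inferInstance, le_rfl, le_rfl, ?_, ⟨0, ?_⟩, ?_, 0, ?_⟩
      · simp
      · simp
      · simp
      · rw [pow_zero, Subgroup.index_eq_one]; exact Subsingleton.elim _ _
    have hrec : ∀ (N : Subgroup G) [N.Normal], N ≠ ⊥ → Chain (G ⧸ N) := by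
      intro N _ hN
      haveI : Group.IsSolvable (G ⧸ N) := solvable_of_surjective (QuotientGroup.mk'_surjective N)
      refine ih (Nat.card (G ⧸ N)) ?_ (G ⧸ N) rfl (hyp.quotient N)
      rw [← hn, N.card_eq_card_quotient_mul_card_subgroup]
      exact lt_mul_of_one_lt_right Nat.card_pos (N.one_lt_card_iff_ne_bot.mpr hN)
    have hlift : ∀ (N : Subgroup G) [N.Normal] (A B : Subgroup (G ⧸ N)),
        (A.comap (QuotientGroup.mk' N)).relIndex (B.comap (QuotientGroup.mk' N)) = A.relIndex B := fun N _ A B => by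
      rw [Subgroup.relIndex_comap, Subgroup.map_comap_eq_self_of_surjective (QuotientGroup.mk'_surjective N)]
    have hcardA : ∀ (N : Subgroup G) [N.Normal] (A : Subgroup (G ⧸ N)),
        Nat.card (A.comap (QuotientGroup.mk' N)) = Nat.card A * Nat.card N := fun N _ A => by
      rw [CfsgLib.PSolvable.card_comap_of_surjective (QuotientGroup.mk'_surjective N), QuotientGroup.ker_mk']
      first | rfl | exact mul_comm _ _
    by_cases hodd : ∃ N : Subgroup G, N.Normal ∧ N ≠ ⊥ ∧ Odd (Nat.card N)
    · obtain ⟨N, hNn, hN1, hNodd⟩ := hodd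
      haveI := hNn
      obtain ⟨A, B, C, hA, hB, hC, hAB, hBC, hAo, ⟨k, hk⟩, hBCo, l, hl⟩ := hrec N hN1
      refine ⟨A.comap (QuotientGroup.mk' N), B.comap (QuotientGroup.mk' N), C.comap (QuotientGroup.mk' N), hA.comap _,
        hB.comap _, hC.comap _, Subgroup.comap_mono hAB, Subgroup.comap_mono hBC, ?_, ⟨k, by rw [hlift, hk]⟩,
        by rwa [hlift], l, by rw [Subgroup.index_comap_of_surjective C (QuotientGroup.mk'_surjective N), hl]⟩
      rw [hcardA]; exact hAo.mul hNodd
    push Not at hodd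
    -- a minimal abelian normal `2`-subgroup
    obtain ⟨p, hp, N₀, hN₀n, hN₀1, hN₀p, hN₀ab⟩ := CfsgLib.Hall.exists_normal_pgroup_ne_bot (G := G)
    haveI := Fact.mk hp
    have hp2 : p = 2 := by
      by_contra hne
      obtain ⟨j, hj⟩ := IsPGroup.iff_card.mp hN₀p
      exact hodd N₀ hN₀n hN₀1 (hj ▸ (hp.odd_of_ne_two hne).pow)
    subst hp2
    obtain ⟨V, hVmin⟩ := (Set.toFinite {M : Subgroup G | M.Normal ∧ M ≠ ⊥ ∧ IsPGroup 2 M ∧ IsMulCommutative M}).exists_minimal
      ⟨N₀, hN₀n, hN₀1, hN₀p, hN₀ab⟩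
    obtain ⟨hVn, hV1, hVp, hVab⟩ := hVmin.prop
    haveI := hVn
    obtain ⟨e, he⟩ := IsPGroup.iff_card.mp hVp
    let π := QuotientGroup.mk' V
    have hVle : ∀ X : Subgroup (G ⧸ V), V ≤ X.comap π := fun X x hx => by
      rw [Subgroup.mem_comap, show π x = 1 from (QuotientGroup.eq_one_iff x).mpr hx]
      exact one_mem _
    obtain ⟨A, B, C, hA, hB, hC, hAB, hBC, hAo, ⟨k, hk⟩, hBCo, l, hl⟩ := hrec V hV1
    haveI := hA
    by_cases hA1 : A = ⊥
    · subst hA1
      refine ⟨⊥, B.comap π, C.comap π, inferInstance, hB.comap _, hC.comap _, bot_le, Subgroup.comap_mono hBC,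
        by simp, ⟨k + e, ?_⟩, by rwa [hlift], l, by rw [Subgroup.index_comap_of_surjective C (QuotientGroup.mk'_surjective V), hl]⟩
      rw [Subgroup.relIndex_bot_left] at hk
      rw [Subgroup.relIndex_bot_left, hcardA, hk, he, pow_add]
    -- a complement of `V` in the preimage of `A`
    set A1 := A.comap π
    have hcop : (Nat.card (V.subgroupOf A1)).Coprime (V.subgroupOf A1).index := by
      have h1 := (V.subgroupOf A1).index_mul_card
      rw [Nat.card_congr (Subgroup.subgroupOfEquivOfLe (hVle A)).toEquiv, hcardA] at h1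
      rw [Nat.card_congr (Subgroup.subgroupOfEquivOfLe (hVle A)).toEquiv, he,
        Nat.eq_of_mul_eq_mul_right Nat.card_pos h1]
      exact (Nat.coprime_two_left.mpr hAo).pow_left e
    obtain ⟨A0, hA0⟩ := Subgroup.exists_right_complement'_of_coprime hcop
    set A0' := A0.map A1.subtype with hA0'
    have hA0c : Nat.card A0' = Nat.card A := by
      have h1 := hA0.card_mul
      rw [Nat.card_congr (Subgroup.subgroupOfEquivOfLe (hVle A)).toEquiv, hcardA, mul_comm (Nat.card A)] at h1
      rw [Subgroup.card_map_of_injective A1.subtype_injective]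
      exact Nat.eq_of_mul_eq_mul_left Nat.card_pos h1
    have hcopV : (Nat.card V).Coprime (Nat.card A0') := by
      rw [hA0c, he]; exact (Nat.coprime_two_left.mpr hAo).pow_left e
    have hsupA : V ⊔ A0' = A1 := by
      have h := congrArg (Subgroup.map A1.subtype) hA0.sup_eq_top
      rwa [Subgroup.map_sup, Subgroup.map_subgroupOf_eq_of_le (hVle A), ← MonoidHom.range_eq_map,
        Subgroup.range_subtype] at h
    set N := Subgroup.normalizer (A0' : Set G)
    have hVN : V ⊔ N = ⊤ := by
      rw [eq_top_iff]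
      intro g _
      have hle : cj g A0' ≤ V ⊔ A0' := by
        rw [hsupA]
        exact (cj_mono g (Subgroup.map_subtype_le A0)).trans (cj_normal g A1).le
      obtain ⟨x, hxV, hx⟩ := CfsgLib.Hall.exists_conj_le_of_complement (inferInstance : Group.IsSolvable V) hcopV
        (by rw [card_cj]; exact hcopV) hle
      rw [cj_smul] at hx
      have heq : cj g A0' = cj x A0' := Subgroup.eq_of_le_of_card_ge hx (by rw [card_cj, card_cj])
      have h2 : x⁻¹ * g ∈ N := mem_normalizer_of_cj (by rw [cj_mul, heq, cj_cancel])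
      simpa using Subgroup.mul_mem _ (Subgroup.mem_sup_left (T := N) hxV) (Subgroup.mem_sup_right h2)
    have hNtop : N ≠ ⊤ := fun h => hodd A0' (Subgroup.normalizer_eq_top_iff.mp h)
      (fun h' => hA1 (Subgroup.card_eq_one.mp (by rw [← hA0c, h', Subgroup.card_bot])))
      (hA0c ▸ hAo)
    obtain ⟨M, hM, hNM⟩ := (IsCoatomic.eq_top_or_exists_le_coatom N).resolve_left hNtop
    have hVM : V ⊔ M = ⊤ := top_le_iff.mp (hVN ▸ sup_le_sup_left hNM V)
    have hdis : V ⊓ M = ⊥ := by
      by_contra hne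
      have hn : (V ⊓ M).Normal := by
        refine Subgroup.normalizer_eq_top_iff.mp (top_le_iff.mp (hVM ▸ sup_le (fun v hv => ?_) fun x hx => ?_))
        · refine Subgroup.centralizer_le_normalizer _ (Subgroup.mem_centralizer_iff.mpr fun y hy => ?_)
          exact congrArg Subtype.val (hVab.is_comm.comm (⟨y, hy.1⟩ : V) ⟨v, hv⟩)
        · refine mem_normalizer_of_cj ?_
          show cj x (V ⊓ M) = V ⊓ M
          rw [cj, Subgroup.map_inf _ _ _ (MulAut.conj x).injective]
          exact congrArg₂ _ (cj_normal x V) (Cfsg.Agent.S4270.cj_self hx)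
      haveI := hVab
      haveI hc : IsMulCommutative (V ⊓ M : Subgroup G) := ⟨⟨fun a b => by
        have h := congrArg Subtype.val (hVab.is_comm.comm (⟨(a : G), a.2.1⟩ : V) ⟨(b : G), b.2.1⟩)
        exact Subtype.ext h⟩⟩
      have h := hVmin.le_of_le ⟨hn, hne, hVp.to_le inf_le_left, hc⟩ inf_le_left
      exact hM.1 (hVM ▸ (sup_eq_right.mpr (h.trans inf_le_right)).symm)
    have hcomp : Subgroup.IsComplement' V M := Subgroup.isComplement'_of_disjoint_and_mul_eq_univ
      (disjoint_iff.mpr hdis) (by rw [← Subgroup.normal_mul, hVM]; rfl)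
    have hMi : M.index = Nat.card V := hcomp.index_eq_card
    rcases hyp M hM with ⟨K, hK, hKodd, j, hj⟩ | hprime
    · set K' := K.map M.subtype
      have hKn : M ≤ Subgroup.normalizer (K' : Set G) := fun x hx => mem_normalizer_of_cj (by
        refine Subgroup.eq_of_le_of_card_ge ?_ (card_cj _ _).ge
        rintro _ ⟨_, ⟨y, hy, rfl⟩, rfl⟩
        exact ⟨_, hK.conj_mem y hy ⟨x, hx⟩, rfl⟩)
      have hCn : (V ⊔ K').Normal := by
        refine Subgroup.normalizer_eq_top_iff.mp (top_le_iff.mp (hVM ▸ sup_le (le_sup_left.trans Subgroup.le_normalizer) fun x hx => ?_))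
        refine mem_normalizer_of_cj ?_
        rw [Cfsg.Agent.S4022.cj_sup, cj_normal]
        exact congrArg _ (Cfsg.Agent.S4270.cj_of_mem_normalizer (hKn hx))
      refine ⟨⊥, V, V ⊔ K', inferInstance, hVn, hCn, bot_le, le_sup_left, by simp,
        ⟨e, by rw [Subgroup.relIndex_bot_left, he]⟩, ?_, ?_⟩
      · rw [Subgroup.relIndex_sup_left]
        exact Nat.Coprime.odd_of_left (Nat.prime_two.coprime_iff_not_dvd.mpr fun hd => hKodd ((hd.trans
          (V.relIndex_dvd_card K')).trans (dvd_of_eq (Subgroup.card_map_of_injective M.subtype_injective))))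
      · have h1 : (V ⊔ K').index ∣ 2 ^ (j + e) := by
          refine (Subgroup.index_dvd_of_le le_sup_right).trans (dvd_of_eq ?_)
          rw [Subgroup.index_map_subtype, hj, hMi, he, pow_add]
        obtain ⟨t, -, ht⟩ := (Nat.dvd_prime_pow Nat.prime_two).mp h1
        exact ⟨t, ht⟩
    · exfalso
      rw [hMi, he] at hprime
      have he1 : e = 1 := by
        rcases e with _ | _ | e
        · exact absurd (pow_zero 2) (fun h => Nat.not_prime_one (h ▸ hprime))
        · rfl
        · exact absurd hprime (Nat.Prime.not_prime_pow (by omega))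
      -- a normal subgroup of order two is central
      have hcent : V ≤ N := fun v hv => Subgroup.centralizer_le_normalizer _ (Subgroup.mem_centralizer_iff.mpr fun y _ => by
        obtain ⟨w, hw, hwu⟩ := Nat.card_eq_two_iff' (1 : V) |>.mp (by rw [he, he1, pow_one])
        by_cases hv1 : v = 1
        · rw [hv1, mul_one, one_mul]
        · have hv' : (⟨v, hv⟩ : V) = w := hwu _ fun e => hv1 (congrArg Subtype.val e)
          have hyv : y * v * y⁻¹ ∈ V := hVn.conj_mem v hv y
          have h2 : (⟨_, hyv⟩ : V) = w := hwu _ fun e => hv1 (by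
            have := congrArg Subtype.val e
            exact conj_eq_one_iff.mp this)
          exact mul_inv_eq_iff_eq_mul.mp (congrArg Subtype.val (h2.trans hv'.symm)))
      exact hNtop (top_le_iff.mp (hVN ▸ sup_le hcent le_rfl))


/-- Let G be a finite solvable group in which every maximal subgroup either has a normal 2-complement or has prime index. Then G has a chain of normal subgroups 1 ≤ A ≤ B ≤ C ≤ G in which A and C/B have odd order and B/A and G/C are 2-groups (so the 2-length of G is at most 2). -/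
theorem result {G : Type*} [Group G] [Finite G]
    (hG : Group.IsSolvable G)
    (hmax : ∀ M : Subgroup G, IsCoatom M → (∃ K : Subgroup ↥M, K.Normal ∧ ¬ 2 ∣ Nat.card K ∧ ∃ k : ℕ, K.index = 2 ^ k) ∨ (M.index).Prime) :
    ∃ A B C : Subgroup G, A.Normal ∧ B.Normal ∧ C.Normal ∧ A ≤ B ∧ B ≤ C ∧ Odd (Nat.card A) ∧
      (∃ k : ℕ, A.relIndex B = 2 ^ k) ∧ Odd (B.relIndex C) ∧ ∃ k : ℕ, C.index = 2 ^ k := by
  haveI := hG
  exact main _ G rfl hmax
end Cfsg.Agent.S4378
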