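import Cfsg.Statements.S4381
import Cfsg.Agent.Lib.Coprime.Action
import Cfsg.Agent.Lib.Coprime.Generation
import Cfsg.Agent.Lib.PSolvable.Omega

set_option autoImplicit false
set_option linter.style.haveILetI false
open Pointwise
open Cfsg

namespace Cfsg.Agent.S4381

open scoped commutatorElement Pointwise

variable {A G : Type*} [Group A] [Finite A] [Group G] [Finite G] [MulDistribMulAction A G]

/-- stable under the action -/
def Inv (A : Type*) {G : Type*} [Group A] [Group G] [MulDistribMulAction A G] (S : Subgroup G) : Prop :=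
  ∀ a : A, ∀ x ∈ S, a • x ∈ S

omit [Finite A] [Finite G] in
theorem inv_sup {S T : Subgroup G} (hS : Inv A S) (hT : Inv A T) : Inv A (S ⊔ T) := by
  intro a x hx
  have h : (S ⊔ T).map (MulDistribMulAction.toMonoidHom G a) ≤ S ⊔ T := by
    rw [Subgroup.map_sup]
    refine sup_le_sup ?_ ?_
    · rintro _ ⟨y, hy, rfl⟩; exact hS a y hy
    · rintro _ ⟨y, hy, rfl⟩; exact hT a y hy
  exact h ⟨x, hx, rfl⟩

omit [Finite A] [Finite G] in
theorem inv_frattini : Inv A (frattini G) := by
  intro a x hx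
  have h := Subgroup.characteristic_iff_map_le.mp (frattini_characteristic (G := G)) (MulDistribMulAction.toMulAut A G a)
  exact h ⟨x, hx, rfl⟩

omit [Finite A] [Finite G] in
theorem normalizer_iff (S : Subgroup G) :
    (SemidirectProduct.inr : A →* G ⋊[MulDistribMulAction.toMulAut A G] A).range ≤
      Subgroup.normalizer ((S.map SemidirectProduct.inl : Subgroup (G ⋊[MulDistribMulAction.toMulAut A G] A)) : Set _) ↔
    Inv A S := by
  set φ := MulDistribMulAction.toMulAut A G
  have key : ∀ (a : A) (x : G), (SemidirectProduct.inr a : G ⋊[φ] A) * SemidirectProduct.inl x * (SemidirectProduct.inr a)⁻¹ =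
      SemidirectProduct.inl (a • x) := fun a x => by
    have h := SemidirectProduct.inl_aut (φ := φ) a x
    rw [map_inv] at h
    exact h.symm
  constructor
  · intro h a x hx
    have h1 := (Subgroup.mem_normalizer_iff.mp (h ⟨a, rfl⟩) (SemidirectProduct.inl x)).mp ⟨x, hx, rfl⟩
    rw [key] at h1
    obtain ⟨y, hy, e⟩ := h1
    rwa [← SemidirectProduct.inl_injective e]
  · rintro h _ ⟨a, rfl⟩
    refine Subgroup.mem_normalizer_iff.mpr fun z => ⟨?_, ?_⟩
    · rintro ⟨x, hx, rfl⟩
      rw [key]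
      exact ⟨a • x, h a x hx, rfl⟩
    · rintro ⟨x, hx, e⟩
      refine ⟨a⁻¹ • x, h a⁻¹ x hx, ?_⟩
      rw [← key a⁻¹ x, e, map_inv]
      group

omit [Finite G] in
theorem exists_inv_sylow [Finite G] (hcop : (Nat.card A).Coprime (Nat.card G))
    (hsol : Group.IsSolvable A ∨ Group.IsSolvable G) (r : ℕ) [Fact r.Prime] :
    ∃ S : Subgroup G, Inv A S ∧ Nat.card S = r ^ (Nat.card G).factorization r := by
  set φ := MulDistribMulAction.toMulAut A G
  haveI : Finite (G ⋊[φ] A) := Finite.of_injective (fun x => (x.left, x.right)) fun x y h =>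
    SemidirectProduct.ext (congrArg Prod.fst h) (congrArg Prod.snd h)
  set K := (SemidirectProduct.inl : G →* G ⋊[φ] A).range
  set B := (SemidirectProduct.inr : A →* G ⋊[φ] A).range
  have hK : Nat.card K = Nat.card G :=
    (Nat.card_congr (MonoidHom.ofInjective SemidirectProduct.inl_injective).toEquiv).symm
  have hB : Nat.card B = Nat.card A :=
    (Nat.card_congr (MonoidHom.ofInjective SemidirectProduct.inr_injective).toEquiv).symm
  have hBK : B ≤ Subgroup.normalizer (K : Set (G ⋊[φ] A)) := by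
    haveI : K.Normal := by
      rw [show K = (SemidirectProduct.rightHom : G ⋊[φ] A →* A).ker from SemidirectProduct.range_inl_eq_ker_rightHom]
      infer_instance
    exact le_top.trans (Subgroup.normalizer_eq_top K).ge
  have hsol' : Group.IsSolvable B ∨ Group.IsSolvable K := hsol.imp
    (fun h => by haveI := h; exact Group.isSolvable_of_surjective (f := (MonoidHom.ofInjective SemidirectProduct.inr_injective).toMonoidHom) (MulEquiv.surjective _))
    (fun h => by haveI := h; exact Group.isSolvable_of_surjective (f := (MonoidHom.ofInjective SemidirectProduct.inl_injective).toMonoidHom) (MulEquiv.surjective _))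
  obtain ⟨P, hP⟩ := CfsgLib.Coprime.exists_invariant_sylow hBK (by rw [hB, hK]; exact hcop) hsol' r
  set P' := (P : Subgroup K).map K.subtype
  have hP'K : P' ≤ K := Subgroup.map_subtype_le _
  refine ⟨P'.comap SemidirectProduct.inl, (normalizer_iff _).mp ?_, ?_⟩
  · rw [Subgroup.map_comap_eq_self hP'K]
    exact hP
  · rw [← Subgroup.card_map_of_injective (SemidirectProduct.inl_injective (φ := φ)), Subgroup.map_comap_eq_self hP'K,
      Subgroup.card_map_of_injective K.subtype_injective, P.card_eq_multiplicity, hK]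

omit [Finite A] in
theorem exists_maximal_ge {S : Subgroup G} (hS : Inv A S) (hne : S ≠ ⊤) :
    ∃ M : Subgroup G, S ≤ M ∧ (M ≠ ⊤ ∧ Inv A M ∧ ∀ L : Subgroup G, M < L → Inv A L → L = ⊤) := by
  obtain ⟨M, hSM, hM⟩ := Finite.exists_le_maximal (p := fun W : Subgroup G => W ≠ ⊤ ∧ Inv A W) (a := S) ⟨hne, hS⟩
  refine ⟨M, hSM, hM.prop.1, hM.prop.2, fun L hlt hL => ?_⟩
  by_contra hLt
  exact hlt.not_ge (hM.2 ⟨hLt, hL⟩ hlt.le)

theorem exists_compl {X : Type*} [Group X] [Finite X] {p : ℕ} (hp : p.Prime) {U V : Subgroup X}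
    [IsMulCommutative V] (hUV : U ≤ V) (hpow : ∀ v ∈ V, v ^ p = 1) :
    ∃ W : Subgroup X, W ≤ V ∧ U ⊓ W = ⊥ ∧ U ⊔ W = V := by
  obtain ⟨W, -, hW⟩ := Finite.exists_le_maximal (p := fun W : Subgroup X => W ≤ V ∧ U ⊓ W = ⊥) (a := ⊥)
    ⟨bot_le, inf_bot_eq U⟩
  obtain ⟨hWV, hUW⟩ := hW.prop
  refine ⟨W, hWV, hUW, le_antisymm (sup_le hUV hWV) fun v hv => ?_⟩
  by_contra hnot
  have hle : W ⊔ Subgroup.zpowers v ≤ V := sup_le hWV (Subgroup.zpowers_le.mpr hv)
  have hbot : U ⊓ (W ⊔ Subgroup.zpowers v) = ⊥ := by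
    rw [Subgroup.eq_bot_iff_forall]
    intro u hu
    obtain ⟨huU, hu2⟩ := Subgroup.mem_inf.mp hu
    have hWn : Subgroup.zpowers v ≤ Subgroup.normalizer (W : Set X) := by
      refine Subgroup.zpowers_le.mpr (Subgroup.mem_normalizer_iff.mpr fun w => ?_)
      constructor
      · intro hw
        have hc : v * w = w * v := congrArg Subtype.val (mul_comm' (⟨v, hv⟩ : V) ⟨w, hWV hw⟩)
        rw [hc, mul_inv_cancel_right]; exact hw
      · intro hw
        have hwV : w ∈ V := by
          have := mul_mem (mul_mem (inv_mem hv) (hWV hw)) hv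
          simpa [mul_assoc] using this
        have hc : v * w = w * v := congrArg Subtype.val (mul_comm' (⟨v, hv⟩ : V) ⟨w, hwV⟩)
        rwa [hc, mul_inv_cancel_right] at hw
    rw [← SetLike.mem_coe, Subgroup.coe_mul_of_right_le_normalizer_left W (Subgroup.zpowers v) hWn] at hu2
    obtain ⟨w, hw, z, hz, rfl⟩ := hu2
    obtain ⟨i, rfl⟩ := hz
    simp only at huU ⊢
    by_cases hi : (p : ℤ) ∣ i
    · obtain ⟨c, rfl⟩ := hi
      rw [zpow_mul, zpow_natCast, hpow v hv, one_zpow, mul_one] at huU ⊢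
      rw [← Subgroup.mem_bot, ← hUW]
      exact Subgroup.mem_inf.mpr ⟨huU, hw⟩
    · exfalso
      obtain ⟨s, t, hst⟩ : IsCoprime i (p : ℤ) :=
        ((Nat.prime_iff_prime_int.mp hp).coprime_iff_not_dvd.mpr hi).symm
      have h1 : v ^ i ∈ U ⊔ W := by
        have := mul_mem (inv_mem (Subgroup.mem_sup_right (S := U) hw)) (Subgroup.mem_sup_left (T := W) huU)
        rwa [inv_mul_cancel_left] at this
      refine hnot ?_
      have e : v = (v ^ i) ^ s := by
        have h0 : v ^ (p : ℤ) = 1 := by rw [zpow_natCast, hpow v hv]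
        calc v = v ^ (s * i + t * p) := by rw [hst, zpow_one]
          _ = (v ^ i) ^ s := by
            rw [zpow_add, mul_comm t, zpow_mul v (p : ℤ) t, h0, one_zpow, mul_one, mul_comm s, zpow_mul]
      rw [e]
      exact zpow_mem h1 s
  exact hnot (Subgroup.mem_sup_right (hW.2 ⟨hle, hbot⟩ le_sup_left (Subgroup.mem_sup_right (Subgroup.mem_zpowers v))))

theorem irreducible (hcop : (Nat.card A).Coprime (Nat.card G)) {p : ℕ} [Fact p.Prime] (hG : IsPGroup p G)
    {M : Subgroup G} (hMt : M ≠ ⊤) (hMi : Inv A M) (hΦ : frattini G < M) :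
    ∃ W : Subgroup G, Inv A W ∧ W ≠ ⊤ ∧ ¬ W ≤ M := by
  have hp : p.Prime := Fact.out
  obtain ⟨hcomm, hpowΦ⟩ := CfsgLib.PSolvable.commutator_le_frattini hG
  set φ := MulDistribMulAction.toMulAut A G
  haveI : Finite (G ⋊[φ] A) := Finite.of_injective (fun x => (x.left, x.right)) fun x y h =>
    SemidirectProduct.ext (congrArg Prod.fst h) (congrArg Prod.snd h)
  let inl : G →* G ⋊[φ] A := SemidirectProduct.inl
  set K := inl.range with hKd
  set B := (SemidirectProduct.inr : A →* G ⋊[φ] A).range with hBd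
  set N := (frattini G).map inl with hNd
  have hinj : Function.Injective inl := SemidirectProduct.inl_injective
  haveI : N.Normal := by
    rw [← Subgroup.normalizer_eq_top_iff]
    refine le_antisymm le_top ?_
    have h1 : B ≤ Subgroup.normalizer (N : Set (G ⋊[φ] A)) := (normalizer_iff _).mpr inv_frattini
    have h2 : K ≤ Subgroup.normalizer (N : Set (G ⋊[φ] A)) := by
      have := Subgroup.le_normalizer_map inl (H := frattini G)
      rw [Subgroup.normalizer_eq_top, ← MonoidHom.range_eq_map] at this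
      exact this
    intro x _
    rw [← SemidirectProduct.inl_left_mul_inr_right x]
    exact mul_mem (h2 ⟨_, rfl⟩) (h1 ⟨_, rfl⟩)
  set f := QuotientGroup.mk' N with hf
  set g : G →* (G ⋊[φ] A) ⧸ N := f.comp inl with hg
  have hkerg : g.ker = frattini G := by
    rw [hg, ← MonoidHom.comap_ker, hf, QuotientGroup.ker_mk', hNd, Subgroup.comap_map_eq_self_of_injective hinj]
  set V := (⊤ : Subgroup G).map g with hV
  haveI : IsMulCommutative V := by
    refine ⟨⟨?_⟩⟩
    rintro ⟨_, x, -, rfl⟩ ⟨_, y, -, rfl⟩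
    refine Subtype.ext ?_
    show g x * g y = g y * g x
    rw [← commutatorElement_eq_one_iff_mul_comm, ← map_commutatorElement, ← MonoidHom.mem_ker, hkerg]
    exact hcomm (Subgroup.commutator_mem_commutator (Subgroup.mem_top x) (Subgroup.mem_top y))
  have hpowV : ∀ v ∈ V, v ^ p = 1 := by
    rintro _ ⟨x, -, rfl⟩
    rw [← map_pow, ← MonoidHom.mem_ker, hkerg]
    exact hpowΦ x
  set U := M.map g with hU
  have hUV : U ≤ V := Subgroup.map_mono le_top
  obtain ⟨W₀, hW₀V, hUW₀, hsup⟩ := exists_compl hp hUV hpowV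
  have hnorm : ∀ S : Subgroup G, Inv A S → B.map f ≤ Subgroup.normalizer ((S.map g : Subgroup _) : Set _) := by
    intro S hS
    have h1 := (Subgroup.map_mono ((normalizer_iff S).mpr hS)).trans (Subgroup.le_normalizer_map f)
    rwa [Subgroup.map_map] at h1
  have hcopV : (Nat.card ↥(B.map f)).Coprime (Nat.card V) := by
    refine (hcop.coprime_dvd_left ?_).coprime_dvd_right ?_
    · refine (B.card_map_dvd f).trans (dvd_of_eq ?_)
      exact (Nat.card_congr (MonoidHom.ofInjective SemidirectProduct.inr_injective).toEquiv).symm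
    · exact ((⊤ : Subgroup G).card_map_dvd g).trans (dvd_of_eq Subgroup.card_top)
  obtain ⟨W', hW'V, hW'n, hUW', hsup'⟩ := CfsgLib.Coprime.exists_invariant_complement (hnorm ⊤ fun a x _ => trivial)
    hcopV hUV (hnorm M hMi) hW₀V hUW₀ hsup
  refine ⟨W'.comap g, fun a x hx => ?_, fun ht => ?_, fun hle => ?_⟩
  · rw [Subgroup.mem_comap] at hx ⊢
    have hb : f (SemidirectProduct.inr a) ∈ B.map f := Subgroup.mem_map_of_mem f ⟨a, rfl⟩
    have h1 := (Subgroup.mem_normalizer_iff.mp (hW'n hb) (g x)).mp hx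
    have h := SemidirectProduct.inl_aut (φ := φ) a x
    rw [map_inv] at h
    show f (SemidirectProduct.inl (φ a x)) ∈ W'
    rw [h, map_mul, map_mul, map_inv]
    exact h1
  · refine hΦ.not_ge fun x hx => ?_
    rw [← hkerg, MonoidHom.mem_ker, ← Subgroup.mem_bot, ← hUW']
    exact Subgroup.mem_inf.mpr ⟨Subgroup.mem_map_of_mem g hx, Subgroup.mem_comap.mp (ht ▸ Subgroup.mem_top x)⟩
  · refine hMt (eq_top_iff.mpr fun x _ => ?_)
    have hW'U : W' ≤ U := fun y hy => by
      obtain ⟨z, -, rfl⟩ := hW'V hy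
      exact Subgroup.mem_map_of_mem g (hle hy)
    have : g x ∈ U := by
      rw [sup_eq_left.mpr hW'U] at hsup'
      rw [hsup']
      exact Subgroup.mem_map_of_mem g (Subgroup.mem_top x)
    obtain ⟨m, hm, e⟩ := this
    have hk : m⁻¹ * x ∈ g.ker := by rw [MonoidHom.mem_ker, map_mul, map_inv, e, inv_mul_cancel]
    rw [hkerg] at hk
    have := mul_mem hm (hΦ.le hk)
    rwa [mul_inv_cancel_left] at this

omit [Finite A] in
theorem maximal_eq_frattini
    (hirr : ∀ L : Subgroup G, frattini G < L → Inv A L → L = ⊤) {M : Subgroup G}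
    (hM : M ≠ ⊤ ∧ Inv A M ∧ ∀ L : Subgroup G, M < L → Inv A L → L = ⊤) : M = frattini G := by
  have hle : frattini G ≤ M := by
    by_contra hn
    have h := hM.2.2 (M ⊔ frattini G) (left_lt_sup.mpr hn) (inv_sup hM.2.1 inv_frattini)
    exact hM.1 (frattini_nongenerating h)
  rcases eq_or_lt_of_le hle with h | h
  · exact h.symm
  · exact absurd (hirr M h hM.2.1) hM.1

/-- Let the finite group A act by automorphisms on the finite group G with the orders of A and G coprime, and assume that A or G is solvable. Call a proper A-invariant subgroup of G maximal A-invariant when no A-invariant subgroup lies strictly between it and G. Then all maximal A-invariant subgroups of G are conjugate under elements of the fixed-point subgroup C_G(A) if and only if G is a p-group for some prime p and A leaves invariant no subgroup strictly between the Frattini subgroup of G and G. In that case, if G is nontrivial, the Frattini subgroup is the only maximal A-invariant subgroup (a trivial G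 has none). -/
theorem result {A G : Type*} [Group A] [Finite A]
    [Group G] [Finite G] [MulDistribMulAction A G] (hcop : (Nat.card A).Coprime (Nat.card G)) (hsol : Group.IsSolvable A ∨ Group.IsSolvable G) :
    ((∀ M N : Subgroup G, (M ≠ ⊤ ∧ (∀ a : A, ∀ x ∈ M, a • x ∈ M) ∧ ∀ L : Subgroup G, M < L → (∀ a : A, ∀ x ∈ L, a • x ∈ L) → L = ⊤) → (N ≠ ⊤ ∧ (∀ a : A, ∀ x ∈ N, a • x ∈ N) ∧ ∀ L : Subgroup G, N < L → (∀ a : A, ∀ x ∈ L, a • x ∈ L) → L = ⊤) →
        ∃ c : G, (∀ a : A, a • c = c) ∧ N = MulAut.conj c • M) ↔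
      ((∃ p : ℕ, p.Prime ∧ IsPGroup p G) ∧ ∀ L : Subgroup G, frattini G < L → (∀ a : A, ∀ x ∈ L, a • x ∈ L) → L = ⊤)) ∧
    (((∃ p : ℕ, p.Prime ∧ IsPGroup p G) ∧ ∀ L : Subgroup G, frattini G < L → (∀ a : A, ∀ x ∈ L, a • x ∈ L) → L = ⊤) →
      ∀ M : Subgroup G, (M ≠ ⊤ ∧ (∀ a : A, ∀ x ∈ M, a • x ∈ M) ∧ ∀ L : Subgroup G, M < L → (∀ a : A, ∀ x ∈ L, a • x ∈ L) → L = ⊤) ↔ (M = frattini G ∧ M ≠ ⊤)) := by
  refine ⟨⟨fun h => ?_, fun hR M N hM hN => ?_⟩, fun hR M => ⟨fun hM => ⟨maximal_eq_frattini hR.2 hM, hM.1⟩, ?_⟩⟩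
  · have hcard : ∀ M N : Subgroup G, (M ≠ ⊤ ∧ Inv A M ∧ ∀ L : Subgroup G, M < L → Inv A L → L = ⊤) →
        (N ≠ ⊤ ∧ Inv A N ∧ ∀ L : Subgroup G, N < L → Inv A L → L = ⊤) → Nat.card N = Nat.card M := by
      intro M N hM hN
      obtain ⟨c, -, rfl⟩ := h M N hM hN
      exact CfsgLib.Coprime.card_conj_smul c M
    obtain ⟨p, hp, hpG⟩ : ∃ p : ℕ, p.Prime ∧ IsPGroup p G := by
      rcases eq_or_ne (Nat.card G) 1 with h1 | h1
      · exact ⟨2, Nat.prime_two, IsPGroup.of_card (n := 0) h1⟩
      by_contra hno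
      push Not at hno
      have hne : ∀ r : ℕ, r.Prime → ∀ S : Subgroup G, Nat.card S = r ^ (Nat.card G).factorization r → S ≠ ⊤ := by
        intro r hr S hS e
        rw [e, Subgroup.card_top] at hS
        exact hno r hr (IsPGroup.of_card hS)
      haveI : Fact (Nat.card G).minFac.Prime := ⟨Nat.minFac_prime h1⟩
      obtain ⟨S₀, hS₀, hS₀c⟩ := exists_inv_sylow (A := A) hcop hsol (Nat.card G).minFac
      obtain ⟨M, -, hM⟩ := exists_maximal_ge hS₀ (hne _ (Nat.minFac_prime h1) S₀ hS₀c)
      refine hM.1 (Subgroup.eq_top_of_card_eq M (Nat.dvd_antisymm M.card_subgroup_dvd_card ?_))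
      rw [← Nat.factorization_le_iff_dvd Nat.card_pos.ne' Nat.card_pos.ne']
      intro r
      by_cases hr : r.Prime
      · haveI := Fact.mk hr
        obtain ⟨S, hS, hSc⟩ := exists_inv_sylow (A := A) hcop hsol r
        obtain ⟨N, hSN, hN⟩ := exists_maximal_ge hS (hne r hr S hSc)
        refine (hr.pow_dvd_iff_le_factorization Nat.card_pos.ne').mp ?_
        rw [← hcard M N hM hN, ← hSc]
        exact Subgroup.card_dvd_of_le hSN
      · simp [Nat.factorization_eq_zero_of_not_prime _ hr]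
    refine ⟨⟨p, hp, hpG⟩, fun L hL hLi => ?_⟩
    haveI := Fact.mk hp
    by_contra hLt
    obtain ⟨M, hLM, hM⟩ := exists_maximal_ge hLi hLt
    have hΦM : frattini G < M := lt_of_lt_of_le hL hLM
    obtain ⟨W, hWi, hWt, hWM⟩ := irreducible hcop hpG hM.1 hM.2.1 hΦM
    obtain ⟨M', hWM', hM'⟩ := exists_maximal_ge hWi hWt
    obtain ⟨c, -, hc⟩ := h M M' hM hM'
    haveI : M.Normal := Subgroup.commutator_top_left_le_iff.mp ((Subgroup.commutator_mono le_top le_top).trans
      ((CfsgLib.PSolvable.commutator_le_frattini hpG).1.trans hΦM.le))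
    rw [CfsgLib.Coprime.conj_smul_eq_self_of_mem_normalizer ((Subgroup.normalizer_eq_top M).symm ▸ Subgroup.mem_top c)] at hc
    exact hWM (hWM'.trans hc.le)
  · have h1 := maximal_eq_frattini hR.2 hM
    have h2 := maximal_eq_frattini hR.2 hN
    exact ⟨1, fun a => smul_one a, by rw [map_one, one_smul, h1, h2]⟩
  · rintro ⟨rfl, hne⟩
    exact ⟨hne, inv_frattini, fun L hL hLi => hR.2 L hL hLi⟩
end Cfsg.Agent.S4381
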