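import Cfsg.Statements.S4385
import Cfsg.Agent.Lib.PushDihedral.One
import Cfsg.Agent.Lib.Amalgam.CubicTwoSmall
import Cfsg.Agent.Lib.Groups.SelfCentPrime
import Cfsg.Agent.Lib.Fitting.Basic

set_option autoImplicit false
set_option linter.style.haveILetI false
set_option linter.unusedSectionVars false

open Pointwise
open Cfsg

namespace Cfsg.Agent.S4385

open CfsgLib CfsgLib.PushDihedral

variable {G : Type*} [Group G] [Finite G]

theorem conj_smul_eq_cj (g : G) (X : Subgroup G) : MulAut.conj g • X = cj g X := by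
  ext x
  rw [Subgroup.mem_pointwise_smul_iff_inv_smul_mem, mem_cj]
  simp [mul_assoc]

/-- A dihedral quotient by the largest normal 2-subgroup has twice odd order. -/
theorem odd_n {X : Type*} [Group X] [Finite X] (n : ℕ) (hn : 2 ≤ n) (π : X →* DihedralGroup n)
    (hπ : Function.Surjective π) (hker : π.ker = Cfsg.pCore 2 X) : Odd n := by
  by_contra hev
  rw [Nat.not_odd_iff_even] at hev
  obtain ⟨m, hm⟩ := hev
  haveI : NeZero n := ⟨by omega⟩
  haveI : Fact (Nat.Prime 2) := ⟨Nat.prime_two⟩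
  have hmm : (m : ZMod n) + m = 0 := by rw [← Nat.cast_add, ← hm, ZMod.natCast_self]
  set d : DihedralGroup n := DihedralGroup.r (m : ZMod n) with hd
  have hd2 : d * d = 1 := by rw [hd, DihedralGroup.r_mul_r, hmm, DihedralGroup.r_zero]
  have hdc : d ∈ Subgroup.center (DihedralGroup n) := by
    rw [Subgroup.mem_center_iff]
    rintro (k | k)
    · rw [hd, DihedralGroup.r_mul_r, DihedralGroup.r_mul_r, add_comm]
    · rw [hd, DihedralGroup.sr_mul_r, DihedralGroup.r_mul_sr]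
      congr 1
      linear_combination hmm
  have hdd : ∀ e ∈ Subgroup.zpowers d, e * e = 1 := by
    rintro _ ⟨k, rfl⟩
    simp only
    rw [← (Commute.refl d).mul_zpow, hd2, one_zpow]
  set N := (Subgroup.zpowers d).comap π with hN
  haveI : N.Normal := by
    refine ⟨fun x hx g => ?_⟩
    rw [hN, Subgroup.mem_comap] at hx ⊢
    have hc : π x ∈ Subgroup.center (DihedralGroup n) := Subgroup.zpowers_le.2 hdc hx
    rw [map_mul, map_mul, map_inv, Subgroup.mem_center_iff.1 hc (π g), mul_inv_cancel_right]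
    exact hx
  have hp : IsPGroup 2 N := by
    intro x
    have h1 : (x : X) * x ∈ Cfsg.pCore 2 X := by
      rw [← hker, MonoidHom.mem_ker, map_mul]
      exact hdd _ x.2
    obtain ⟨k, hk⟩ := Fitting.pCore_isPGroup (G := X) 2 ⟨_, h1⟩
    refine ⟨k + 1, Subtype.ext ?_⟩
    have hk' := congrArg Subtype.val hk
    simp only [SubgroupClass.coe_pow, OneMemClass.coe_one] at hk' ⊢
    rw [pow_succ', pow_mul, pow_two, hk']
  obtain ⟨x, hx⟩ := hπ d
  have h1 : x ∈ π.ker := by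
    rw [hker]
    exact Fitting.le_pCore inferInstance hp (by rw [hN, Subgroup.mem_comap, hx]; exact Subgroup.mem_zpowers d)
  rw [MonoidHom.mem_ker, hx, hd, DihedralGroup.one_def] at h1
  have h2 : (m : ZMod n) = 0 := DihedralGroup.r.inj h1
  rw [ZMod.natCast_eq_zero_iff] at h2
  have := Nat.le_of_dvd (by omega) h2
  omega

/-- The setup. -/
theorem exists_setup (H : Subgroup G) (hO : Cfsg.pCore 2 ↥H ≠ ⊥) (n : ℕ) (hn : 2 ≤ n)
    (hdih : Nonempty (↥H ⧸ Cfsg.pCore 2 ↥H ≃* DihedralGroup n))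
    (P : Subgroup G) (hPH : P ≤ H) (hP : IsPGroup 2 P) (hPsyl : ¬ 2 ∣ P.relIndex H) (y : G)
    (hy2 : y ^ 2 ∈ P ⊔ Subgroup.centralizer (P : Set G)) (hyN : MulAut.conj y • P = P)
    (hyQ : ∀ Q : Subgroup G, Q ≤ P → (Q.subgroupOf H).Normal → MulAut.conj y • Q = Q → Q = ⊥) :
    ∃ (Q : Subgroup G) (π : H →* DihedralGroup n), Setup H P Q y n π := by
  haveI : Fact (Nat.Prime 2) := ⟨Nat.prime_two⟩
  haveI : (Cfsg.pCore 2 ↥H).Normal := Fitting.pCore_normal 2
  haveI : NeZero n := ⟨by omega⟩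
  obtain ⟨e⟩ := hdih
  set π : H →* DihedralGroup n := e.toMonoidHom.comp (QuotientGroup.mk' (Cfsg.pCore 2 ↥H)) with hπ
  have hker : π.ker = Cfsg.pCore 2 ↥H := by
    ext x
    simp [hπ]
  have hsurj : Function.Surjective π := e.surjective.comp (QuotientGroup.mk'_surjective _)
  have hodd := odd_n n hn π hsurj hker
  set Q := (Cfsg.pCore 2 ↥H).map H.subtype with hQ
  have hkerQ : ∀ h : H, π h = 1 ↔ (h : G) ∈ Q := fun h => by
    rw [← MonoidHom.mem_ker, hker, hQ]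
    exact (Subgroup.mem_map_iff_mem (Subgroup.subtype_injective H)).symm
  have hQP : Q ≤ P := by
    have hpP : IsPGroup 2 (P.subgroupOf H) := hP.comap_of_injective H.subtype (Subgroup.subtype_injective H)
    rintro _ ⟨x, hx, rfl⟩
    exact (Fitting.mem_pCore_iff_forall_sylow.1 hx (hpP.toSylow hPsyl) :)
  refine ⟨Q, π, hkerQ, hsurj, hodd, by obtain ⟨k, hk⟩ := hodd; omega, hQP, hPH, hP, ?_, ?_,
    by rw [← conj_smul_eq_cj, hyN], hy2, ?_, ?_⟩
  · by_contra hn'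
    push Not at hn'
    have h1 : Q.relIndex H ∣ P.relIndex H := Subgroup.relIndex_dvd_of_le_left H hn'
    have h2 : Q.relIndex H = 2 * n := by
      rw [Subgroup.relIndex, hQ, Subgroup.subgroupOf, Subgroup.comap_map_eq_self_of_injective
        (Subgroup.subtype_injective H), Subgroup.index, Nat.card_congr e.toEquiv, DihedralGroup.nat_card]
    exact hPsyl (Dvd.dvd.trans (h2 ▸ dvd_mul_right 2 n) h1)
  · intro a ha haQ b hb hbQ
    have hrot : ∀ x (hx : x ∈ P) i, π ⟨x, hPH hx⟩ = DihedralGroup.r i → x ∈ Q := by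
      intro x hx i hi
      refine (hkerQ ⟨x, hPH hx⟩).1 ?_
      obtain ⟨k, hk⟩ := hP ⟨x, hx⟩
      have h1 : π ⟨x, hPH hx⟩ ^ 2 ^ k = 1 := by
        rw [← map_pow, show (⟨x, hPH hx⟩ : H) ^ 2 ^ k = 1 from Subtype.ext (by
          simpa using congrArg Subtype.val hk), map_one]
      rw [hi, DihedralGroup.r_pow, DihedralGroup.one_def] at h1
      have h2 := DihedralGroup.r.inj h1
      have hu : IsUnit ((2 ^ k : ℕ) : ZMod n) := by
        simpa using ((ZMod.unitOfCoprime 2 (Nat.coprime_two_left.2 hodd)).isUnit).pow k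
      rw [hi, hu.mul_left_eq_zero.1 h2, DihedralGroup.r_zero]
    rcases ha' : π ⟨a, hPH ha⟩ with i | i
    · exact absurd (hrot a ha i ha') haQ
    rcases hb' : π ⟨b, hPH hb⟩ with j | j
    · exact absurd (hrot b hb j hb') hbQ
    refine ⟨i, rfl, ?_⟩
    have h1 : π ⟨a * b, hPH (mul_mem ha hb)⟩ = DihedralGroup.r (j - i) := by
      rw [show (⟨a * b, hPH (mul_mem ha hb)⟩ : H) = ⟨a, hPH ha⟩ * ⟨b, hPH hb⟩ from rfl, map_mul,
        ha', hb', DihedralGroup.sr_mul_sr]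
    have h2 := (hkerQ ⟨a * b, hPH (mul_mem ha hb)⟩).2 (hrot (a * b) (mul_mem ha hb) _ h1)
    rw [h1, DihedralGroup.one_def] at h2
    rw [sub_eq_zero.1 (DihedralGroup.r.inj h2)]
  · intro h
    exact hO ((Subgroup.map_eq_bot_iff_of_injective _ (Subgroup.subtype_injective H)).1 h)
  · intro X hXQ hXH hXy
    refine hyQ X (hXQ.trans hQP) ⟨fun x hx g => ?_⟩ (by rw [conj_smul_eq_cj, hXy])
    rw [Subgroup.mem_subgroupOf] at hx ⊢
    have := conj_mem_cj (g := (g : G)) hx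
    rwa [hXH _ g.2] at this

variable {H P Q : Subgroup G} {y : G} {n : ℕ} {π : H →* DihedralGroup n}

theorem card_P (s : Setup H P Q y n π) {a : G} (ha : a ∈ P) (haQ : a ∉ Q) :
    Nat.card P = 2 * Nat.card Q := by
  have h : Q.relIndex P = 2 := by
    rw [Subgroup.relIndex, Subgroup.index_eq_two_iff]
    refine ⟨⟨a, ha⟩, fun b => ?_⟩
    rw [Subgroup.mem_subgroupOf, Subgroup.mem_subgroupOf]
    by_cases hb : (b : G) ∈ Q
    · refine Or.inr ⟨hb, fun h => haQ ?_⟩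
      have := mul_mem (inv_mem hb) h
      simpa using this
    · exact Or.inl ⟨s.mul_mem_Q b.2 hb ha haQ, hb⟩
  rw [← h, ← Subgroup.relIndex_bot_left P, ← Subgroup.relIndex_bot_left Q,
    ← Subgroup.relIndex_mul_relIndex ⊥ Q P bot_le s.QP, mul_comm]

theorem odd_orderOf_core {x : H} (hx : x ∈ Cfsg.oddCore ↥H) : Odd (orderOf x) := by
  have h1 := Nat.Coprime.coprime_dvd_left (Subgroup.orderOf_dvd_natCard _ hx)
    (SelfCent.pPrimeCore_coprime (G := ↥H) 2)
  exact Nat.coprime_two_right.1 h1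

theorem core_inf (s : Setup H P Q y n π) {x : H} (hx : x ∈ Cfsg.oddCore ↥H) (hxQ : (x : G) ∈ Q) :
    x = 1 := by
  obtain ⟨k, hk⟩ := (IsPGroup.iff_orderOf.1 (s.two.to_le s.QP)) ⟨_, hxQ⟩
  have h1 := odd_orderOf_core hx
  rw [← Subgroup.orderOf_coe, show orderOf (x : G) = 2 ^ k by rw [← hk, ← Subgroup.orderOf_coe]] at h1
  rcases Nat.eq_zero_or_pos k with rfl | hk0
  · rw [pow_zero, orderOf_eq_one_iff] at hk
    exact Subtype.ext (congrArg Subtype.val hk :)
  · exact absurd h1 (Nat.not_odd_iff_even.2 (Nat.even_pow.2 ⟨even_two, hk0.ne'⟩))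

/-- Powers of an inverted rotation centralising `Q` lie in the odd core. -/
theorem mem_core (s : Setup H P Q y n π) {g x a : G} (hg : s.Gen g) (hodd : Odd (orderOf g))
    (ha : a ∈ P) (haQ : a ∉ Q) (hinv : a * g * a⁻¹ = g⁻¹) {k : ℕ} (hx : x = g ^ k)
    (hc : ∀ q ∈ Q, x * q = q * x) : (⟨x, hx ▸ pow_mem hg.1 k⟩ : H) ∈ Cfsg.oddCore ↥H := by
  have hHN : H ≤ Subgroup.normalizer (Subgroup.zpowers x : Set G) := by
    have hQN : Q ≤ Subgroup.normalizer (Subgroup.zpowers x : Set G) := fun q hq =>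
      Subgroup.centralizer_le_normalizer _ (Subgroup.mem_centralizer_iff.2 (by
        rintro _ ⟨i, rfl⟩
        exact ((show Commute x q from hc q hq).zpow_left i).eq))
    obtain ⟨hgH, i, hi, e⟩ := hg
    refine s.H_le _ hQN ha haQ ?_ hgH hi e ?_
    · refine Subgroup.mem_normalizer_fintype ?_
      rintro _ ⟨i, rfl⟩
      refine ⟨-i, ?_⟩
      show x ^ (-i) = a * x ^ i * a⁻¹
      rw [← conj_zpow, show a * x * a⁻¹ = x⁻¹ by rw [hx, ← conj_pow, hinv, inv_pow], inv_zpow, zpow_neg]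
    · refine Subgroup.centralizer_le_normalizer _ (Subgroup.mem_centralizer_iff.2 ?_)
      rintro _ ⟨i, rfl⟩
      rw [hx]
      exact ((Commute.pow_self g k).zpow_left i).eq
  have hxH : x ∈ H := hx ▸ pow_mem hg.1 k
  set X := (Subgroup.zpowers x).subgroupOf H with hX
  haveI : X.Normal :=
    (Subgroup.normal_subgroupOf_iff_le_normalizer (Subgroup.zpowers_le.2 hxH)).2 hHN
  refine SelfCent.le_pPrimeCore (N := X) inferInstance ?_
    (Subgroup.mem_subgroupOf.2 (Subgroup.mem_zpowers x))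
  rw [Nat.card_congr (Subgroup.subgroupOfEquivOfLe (Subgroup.zpowers_le.2 hxH)).toEquiv,
    Nat.card_zpowers, hx, Nat.coprime_two_right]
  exact hodd.of_dvd_nat (orderOf_pow_dvd k)

/-- When an element outside `Q` centralises `Q`. -/
theorem caseA (s : Setup H P Q y n π) (hA : ¬ Faithful P Q) :
    Nat.card P = 4 ∧
      Nonempty (↥H ⧸ Cfsg.oddCore ↥H ≃* Multiplicative (ZMod 2) × Multiplicative (ZMod 2)) := by
  haveI : Fact (Nat.Prime 2) := ⟨Nat.prime_two⟩
  simp only [Faithful, not_forall, not_exists, not_and, not_not] at hA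
  obtain ⟨t, ht, htQ, htc⟩ := hA
  obtain ⟨g₁, hg₁, -⟩ := s.exists_gen_odd
  set R := Q ⊓ cj y Q with hR
  have hPR : P ≤ stab R := fun p hp => stab_of_le fun x hx => by
    have hx' : p⁻¹ * x * p ∈ Q ⊓ cj y Q := hx
    have e : x = p * (p⁻¹ * x * p) * p⁻¹ := by group
    refine Subgroup.mem_inf.2 ⟨?_, ?_⟩
    · rw [e]; exact s.conj_Q (s.PH hp) hx'.1
    · rw [e, ← s.stab_U hp]; exact conj_mem_cj hx'.2
  obtain ⟨hm, i, hi, eπ⟩ := s.gen_mul_conj hg₁ ht htQ
  have hcR : g₁ * t * g₁⁻¹ ∈ stab R := stab_of_le fun x hx => by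
    have hx' : (g₁ * t * g₁⁻¹)⁻¹ * x * (g₁ * t * g₁⁻¹) ∈ R := hx
    set u := (g₁ * t * g₁⁻¹)⁻¹ * x * (g₁ * t * g₁⁻¹) with hu
    have hu' : g₁⁻¹ * u * g₁⁻¹⁻¹ ∈ Q := s.conj_Q (inv_mem hg₁.1) hx'.1
    have h2 := htc _ hu'
    have e : x = u := by
      calc x = g₁ * (t * (g₁⁻¹ * u * g₁⁻¹⁻¹)) * t⁻¹ * g₁⁻¹ := by rw [hu]; group
        _ = u := by rw [h2]; group
    rwa [e]
  have hRn : H ≤ stab R := s.H_le _ (s.QP.trans hPR) ht htQ (hPR ht) hm hi eπ (mul_mem (hPR ht) hcR)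
  have hR1 : R = ⊥ := by
    refine s.nonormal R inf_le_left (fun h hh => hRn hh) (stab_of_le (le_inf ?_ (cj_mono y inf_le_left)))
    exact (cj_mono y inf_le_right).trans s.y_U.le
  have hnU : ∀ q ∈ Q, q ∈ cj y Q → q = 1 := fun q hq hqU => by
    have : q ∈ (⊥ : Subgroup G) := hR1 ▸ Subgroup.mem_inf.2 ⟨hq, hqU⟩
    simpa using this
  have hsq : ∀ x ∈ P, x * x ∈ cj y Q := fun x hx => by
    rw [mem_cj]
    have := s.sq_mem_Q (s.yPX' hx)
    simpa [mul_assoc] using this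
  have hq2 : ∀ q ∈ Q, q * q = 1 := fun q hq => hnU _ (mul_mem hq hq) (hsq q (s.QP hq))
  have heq : ∀ q ∈ Q, ∀ q' ∈ Q, q ≠ 1 → q' ≠ 1 → q = q' := by
    intro q hq q' hq' h h'
    have h2 : q * q' = 1 := hnU _ (mul_mem hq hq') (by
      rw [mem_cj]
      have := s.mul_mem_Q (s.yPX' (s.QP hq)) (fun hc => h (hnU q hq hc)) (s.yPX' (s.QP hq'))
        (fun hc => h' (hnU q' hq' hc))
      simpa [mul_assoc] using this)
    rw [eq_inv_of_mul_eq_one_left h2, inv_eq_of_mul_eq_one_right (hq2 q' hq')]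
  obtain ⟨c, hc, hc1⟩ := (Subgroup.ne_bot_iff_exists_ne_one.1 s.Qne) |>.elim fun c hc =>
    (⟨c.1, c.2, fun e => hc (Subtype.ext e)⟩ : ∃ c, c ∈ Q ∧ c ≠ 1)
  have hcQ : Nat.card Q = 2 := by
    haveI := Fintype.ofFinite Q
    refine Nat.card_eq_two_iff.2 ⟨1, ⟨c, hc⟩, fun e => hc1 (congrArg Subtype.val e).symm, ?_⟩
    refine Set.eq_univ_of_forall fun q => ?_
    by_cases h : (q : G) = 1
    · exact Or.inl (Subtype.ext h)
    · exact Or.inr (Subtype.ext (heq _ q.2 _ hc h hc1))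
  have hcent : ∀ q ∈ Q, H ≤ fixer q := by
    intro q hq h hh
    rw [mem_fixer_iff_conj]
    by_cases h1 : q = 1
    · simp [h1]
    · exact heq _ (s.conj_Q hh hq) q hq (by simpa using h1) h1
  obtain ⟨u, huU, huQ⟩ := SetLike.not_le_iff_exists.1 s.U_not_le
  have huP := s.U_le_P huU
  have hu2 : u * u = 1 := by
    calc u * u = y * ((y⁻¹ * u * y) * (y⁻¹ * u * y)) * y⁻¹ := by group
      _ = 1 := by rw [hq2 _ huU]; group
  obtain ⟨g, hg, hodd, hinv⟩ := s.exists_inverted huP huQ hu2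
  have hgO : (⟨g, hg.1⟩ : H) ∈ Cfsg.oddCore ↥H := by
    have := mem_core s hg hodd huP huQ hinv (x := g) (k := 1) (pow_one g).symm
      fun q hq => mem_fixer.1 (hcent q hq hg.1)
    exact this
  refine ⟨by rw [card_P s huP huQ, hcQ], ?_⟩
  haveI : (Cfsg.oddCore ↥H).Normal := SelfCent.pPrimeCore_normal' 2
  set φ := QuotientGroup.mk' (Cfsg.oddCore ↥H) with hφ
  have hφg : φ ⟨g, hg.1⟩ = 1 := (QuotientGroup.eq_one_iff _).2 hgO
  set f : P →* ↥H ⧸ Cfsg.oddCore ↥H := φ.comp (Subgroup.inclusion s.PH) with hf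
  have hinj : Function.Injective f := by
    rw [injective_iff_map_eq_one]
    intro p hp
    have h1 : Subgroup.inclusion s.PH p ∈ Cfsg.oddCore ↥H := (QuotientGroup.eq_one_iff _).1 hp
    obtain ⟨k, hk⟩ := IsPGroup.iff_orderOf.1 s.two p
    have h2 := odd_orderOf_core h1
    rw [orderOf_injective _ (Subgroup.inclusion_injective s.PH), hk] at h2
    rcases Nat.eq_zero_or_pos k with rfl | hk0
    · rwa [pow_zero, orderOf_eq_one_iff] at hk
    · exact absurd h2 (Nat.not_odd_iff_even.2 (Nat.even_pow.2 ⟨even_two, hk0.ne'⟩))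
  have hsurj : Function.Surjective f := by
    intro z
    obtain ⟨⟨h, hh⟩, rfl⟩ := QuotientGroup.mk'_surjective _ z
    obtain ⟨q, hq, m, e | e⟩ := s.decomp hg huP huQ hh
    · refine ⟨⟨q, s.QP hq⟩, ?_⟩
      rw [show (⟨h, hh⟩ : H) = ⟨q, s.QH hq⟩ * ⟨g, hg.1⟩ ^ m from Subtype.ext (by simpa using e),
        map_mul, map_pow, hφg, one_pow, mul_one]
      rfl
    · refine ⟨⟨q, s.QP hq⟩ * ⟨u, huP⟩, ?_⟩
      rw [show (⟨h, hh⟩ : H) = ⟨q, s.QH hq⟩ * ⟨g, hg.1⟩ ^ m * ⟨u, s.PH huP⟩ from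
        Subtype.ext (by simpa using e)]
      simp only [map_mul, map_pow, ← hφ, hφg, one_pow, mul_one]
      rfl
  have hexp : ∀ p : P, p * p = 1 := by
    intro p
    by_cases hp : (p : G) ∈ Q
    · exact Subtype.ext (hq2 _ hp)
    · have hw := s.inv_mul_mem_Q huP huQ p.2 hp
      have hw' := mem_fixer.1 (hcent _ hw (s.PH huP))
      refine Subtype.ext ?_
      calc (p : G) * p = u * ((u⁻¹ * p) * u) * (u⁻¹ * p) := by group
        _ = u * (u * (u⁻¹ * p)) * (u⁻¹ * p) := by rw [hw']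
        _ = (u * u) * ((u⁻¹ * p) * (u⁻¹ * p)) := by group
        _ = 1 := by rw [hu2, hq2 _ hw, one_mul]
  have h4 : Nat.card P = 4 := by rw [card_P s huP huQ, hcQ]
  haveI : IsKleinFour P := by
    refine ⟨h4, ?_⟩
    have hd : Monoid.exponent P ∣ 2 :=
      Monoid.exponent_dvd_of_forall_pow_eq_one fun p => by rw [pow_two]; exact hexp p
    rcases (Nat.dvd_prime Nat.prime_two).1 hd with h | h
    · haveI := Monoid.exp_eq_one_iff.1 h
      rw [Nat.card_unique] at h4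
      omega
    · exact h
  obtain ⟨e₀⟩ := IsKleinFour.nonempty_mulEquiv (G₁ := P) (G₂ := Multiplicative (ZMod 2 × ZMod 2))
  let e := e₀.trans (MulEquiv.prodMultiplicative (ZMod 2) (ZMod 2))
  exact ⟨(MulEquiv.ofBijective f ⟨hinj, hsurj⟩).symm.trans e⟩

/-- When `H` acts faithfully on `Q`. -/
theorem caseB (s : Setup H P Q y n π) (hF : Faithful P Q) :
    (Nat.card P = 8 ∨ Nat.card P = 16) ∧
      (Nonempty (↥H ⧸ Cfsg.oddCore ↥H ≃* Equiv.Perm (Fin 4)) ∨
        Nonempty (↥H ⧸ Cfsg.oddCore ↥H ≃* Equiv.Perm (Fin 4) × Multiplicative (ZMod 2))) := by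
  obtain ⟨C, g, a, z, S⟩ := s.exists_shape hF
  set z' := g * z * g⁻¹ with hz'
  have hz'Q : z' ∈ Q := s.conj_Q S.gen.1 S.zQ
  have hQcomm := S.Q_comm
  have hQsq := S.Q_sq
  -- the four-group meets `C` trivially
  have hz'1 : z' ≠ 1 := fun h => S.z_ne (by
    calc z = g⁻¹ * z' * g := by rw [hz']; group
      _ = 1 := by rw [h]; group)
  have hzz'1 : z * z' ≠ 1 := fun h => S.gz (by
    exact (inv_eq_of_mul_eq_one_right h).symm.trans (inv_eq_of_mul_eq_one_right S.z2))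
  have hgzz : g * (z * z') * g⁻¹ = z := by
    calc g * (z * z') * g⁻¹ = (g * z * g⁻¹) * (g * z' * g⁻¹) := by group
      _ = z' * (z * z') := by rw [S.ggz]
      _ = z' * (z' * z) := by rw [hQcomm z S.zQ z' hz'Q]
      _ = z := by rw [← mul_assoc, hQsq z' hz'Q, one_mul]
  have hzC : z ∉ C := fun h => S.gz (mem_fixer_iff_conj.1 (S.C_central z h S.gen.1))
  have hz'C : z' ∉ C := fun h => hzC (by
    have e := mem_fixer_iff_conj.1 (S.C_central z' h (inv_mem S.gen.1))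
    rw [hz'] at e
    have : z = g * z * g⁻¹ := by
      calc z = g⁻¹ * (g * z * g⁻¹) * g⁻¹⁻¹ := by group
        _ = g * z * g⁻¹ := e
    rwa [this])
  have hzz'C : z * z' ∉ C := fun h => hzC (by
    have e := mem_fixer_iff_conj.1 (S.C_central _ h S.gen.1)
    rw [hgzz] at e
    rwa [e])
  let el : Bool → Bool → G := fun i j => cond i z 1 * cond j z' 1
  have hel : ∀ i j, el i j ∈ Q := fun i j => by
    refine mul_mem ?_ ?_ <;> [cases i; cases j] <;> simp [S.zQ, hz'Q, one_mem]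
  have helC : ∀ i j, el i j ∈ C → i = false ∧ j = false := by
    intro i j h
    cases i <;> cases j <;> simp [el, hzC, hz'C, hzz'C] at h ⊢
  have hcardQ : Nat.card Q = 4 * Nat.card C := by
    let F : C × Bool × Bool → Q := fun x => ⟨x.1 * el x.2.1 x.2.2, mul_mem (S.C_le x.1.2) (hel _ _)⟩
    have hF' : Function.Bijective F := by
      constructor
      · rintro ⟨c, i, j⟩ ⟨c', i', j'⟩ h
        have h' : (c : G) * el i j = c' * el i' j' := congrArg Subtype.val h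
        have h2 : el i j * el i' j' ∈ C := by
          have e : el i j * el i' j' = (c : G)⁻¹ * c' := by
            calc el i j * el i' j' = (c : G)⁻¹ * (c * el i j) * el i' j' := by group
              _ = (c : G)⁻¹ * c' * (el i' j' * el i' j') := by rw [h']; group
              _ = (c : G)⁻¹ * c' := by rw [hQsq _ (hel _ _), mul_one]
          rw [e]
          exact mul_mem (inv_mem c.2) c'.2
        have e2 : el i j * el i' j' = el (xor i i') (xor j j') := by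
          have h3 := hQcomm (cond j z' 1) (by cases j <;> simp [hz'Q, one_mem]) (cond i' z 1)
            (by cases i' <;> simp [S.zQ, one_mem])
          calc el i j * el i' j' = cond i z 1 * (cond j z' 1 * cond i' z 1) * cond j' z' 1 := by
                simp [el, mul_assoc]
            _ = (cond i z 1 * cond i' z 1) * (cond j z' 1 * cond j' z' 1) := by
                rw [h3]; simp [mul_assoc]
            _ = el (xor i i') (xor j j') := by
                cases i <;> cases i' <;> cases j <;> cases j' <;>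
                  simp [el, S.z2, hQsq z' hz'Q]
        rw [e2] at h2
        obtain ⟨hi, hj⟩ := helC _ _ h2
        have hii : i = i' := by cases i <;> cases i' <;> simp at hi ⊢
        have hjj : j = j' := by cases j <;> cases j' <;> simp at hj ⊢
        subst hii hjj
        exact Prod.ext (Subtype.ext (mul_right_cancel h')) rfl
      · rintro ⟨q, hq⟩
        obtain ⟨c, hc, e | e | e | e⟩ := S.split q hq
        · exact ⟨(⟨c, hc⟩, false, false), Subtype.ext (by simp [F, el, e])⟩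
        · exact ⟨(⟨c, hc⟩, true, false), Subtype.ext (by simp [F, el, e])⟩
        · exact ⟨(⟨c, hc⟩, false, true), Subtype.ext (by simp [F, el, e, hz'])⟩
        · exact ⟨(⟨c, hc⟩, true, true), Subtype.ext (by simp [F, el, e, hz'])⟩
    rw [← Nat.card_eq_of_bijective F hF']
    simp [Nat.card_eq_fintype_card, mul_comm]
  have hC12 : Nat.card C = 1 ∨ Nat.card C = 2 := by
    have h1 := S.C_card
    have h2 : 0 < Nat.card C := Nat.card_pos
    omega
  -- the quotient by the odd core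
  haveI : (Cfsg.oddCore ↥H).Normal := SelfCent.pPrimeCore_normal' 2
  set φ := QuotientGroup.mk' (Cfsg.oddCore ↥H) with hφ
  set A := (Q.subgroupOf H).map φ with hA
  haveI : (Q.subgroupOf H).Normal := ⟨fun x hx h => s.conj_Q h.2 hx⟩
  haveI : A.Normal := Subgroup.Normal.map inferInstance φ (QuotientGroup.mk'_surjective _)
  have φinj : ∀ q q' : H, (q : G) ∈ Q → (q' : G) ∈ Q → φ q = φ q' → q = q' := by
    intro q q' hq hq' e
    have h1 : q⁻¹ * q' ∈ Cfsg.oddCore ↥H := QuotientGroup.eq.1 e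
    exact inv_mul_eq_one.1 (core_inf s h1 (mul_mem (inv_mem hq) hq'))
  have memA : ∀ x ∈ A, ∃ q : H, (q : G) ∈ Q ∧ φ q = x := fun x ⟨q, hq, e⟩ => ⟨q, hq, e⟩
  have Acomm : ∀ x ∈ A, ∀ x' ∈ A, x * x' = x' * x := by
    intro x hx x' hx'
    obtain ⟨q, hq, rfl⟩ := memA x hx
    obtain ⟨q', hq', rfl⟩ := memA x' hx'
    rw [← map_mul, ← map_mul]
    exact congrArg φ (Subtype.ext (hQcomm _ hq _ hq'))
  set gb := φ ⟨g, S.gen.1⟩ with hgb
  set ab := φ ⟨a, s.PH S.aP⟩ with hab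
  set Z := φ ⟨z, s.QH S.zQ⟩ with hZ
  set Z1 := φ ⟨z', s.QH hz'Q⟩ with hZ1
  set Z2 := φ ⟨z * z', s.QH (mul_mem S.zQ hz'Q)⟩ with hZ2
  have hZA : Z ∈ A := ⟨_, S.zQ, rfl⟩
  have hZ1A : Z1 ∈ A := ⟨_, hz'Q, rfl⟩
  have hzzQ : z * z' ∈ Q := mul_mem S.zQ hz'Q
  have hZ2A : Z2 ∈ A := ⟨⟨z * z', s.QH hzzQ⟩, hzzQ, rfl⟩
  have lift : ∀ (x u v : H), (x : G) * u * (x : G)⁻¹ = v → φ x * φ u * (φ x)⁻¹ = φ v := by
    intro x u v e
    rw [← map_inv, ← map_mul, ← map_mul]
    exact congrArg φ (Subtype.ext (by simpa using e))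
  have gZ : gb * Z * gb⁻¹ = Z1 := lift _ _ _ rfl
  have gZ1 : gb * Z1 * gb⁻¹ = Z2 := lift _ _ _ S.ggz
  have gZ2 : gb * Z2 * gb⁻¹ = Z := lift _ _ _ hgzz
  have aZ : ab * Z * ab⁻¹ = Z := lift _ _ _ S.az
  have aZ1 : ab * Z1 * ab⁻¹ = Z2 := lift _ _ _ S.az'
  have aZ2 : ab * Z2 * ab⁻¹ = Z1 := lift _ _ _ (by
    calc a * (z * z') * a⁻¹ = (a * z * a⁻¹) * (a * z' * a⁻¹) := by group
      _ = z * (z * z') := by rw [S.az, S.az']
      _ = z' := by rw [← mul_assoc, S.z2, one_mul])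
  have ne01 : Z ≠ Z1 := fun e => S.gz (congrArg Subtype.val (φinj _ _ S.zQ hz'Q e)).symm
  have ne02 : Z ≠ Z2 := fun e => hz'1 (by
    have := congrArg Subtype.val (φinj _ _ S.zQ (mul_mem S.zQ hz'Q) e)
    simpa using this.symm)
  have ne12 : Z1 ≠ Z2 := fun e => S.z_ne (by
    have := congrArg Subtype.val (φinj _ _ hz'Q (mul_mem S.zQ hz'Q) e)
    simpa using this.symm)
  have g3 : gb ^ 3 = 1 := by
    rw [hgb, ← map_pow]
    exact (QuotientGroup.eq_one_iff _).2 (mem_core s S.gen S.godd S.aP S.aQ S.inv (x := g ^ 3) rfl S.g3)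
  -- elements are sorted by their action on the three involutions
  have sort : ∀ k, ∃ x ∈ A, k = x ∨ k = x * gb ∨ k = x * (gb * gb) ∨
      k = x * ab ∨ k = x * (gb * ab) ∨ k = x * (gb * gb * ab) := by
    intro k
    obtain ⟨⟨h, hh⟩, rfl⟩ := QuotientGroup.mk'_surjective _ k
    obtain ⟨q, hq, m, e | e⟩ := s.decomp S.gen S.aP S.aQ hh
    · refine ⟨φ ⟨q, s.QH hq⟩, ⟨_, hq, rfl⟩, ?_⟩
      have e' : φ ⟨h, hh⟩ = φ ⟨q, s.QH hq⟩ * gb ^ (m % 3) := by
        rw [show (⟨h, hh⟩ : H) = ⟨q, s.QH hq⟩ * ⟨g, S.gen.1⟩ ^ m from Subtype.ext (by simpa using e),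
          map_mul, map_pow, ← pow_eq_pow_mod m g3]
      rw [e']
      obtain h3 | h3 | h3 : m % 3 = 0 ∨ m % 3 = 1 ∨ m % 3 = 2 := by omega
      · exact Or.inl (by rw [h3, pow_zero, mul_one])
      · exact Or.inr (Or.inl (by rw [h3, pow_one]))
      · exact Or.inr (Or.inr (Or.inl (by rw [h3, pow_two])))
    · refine ⟨φ ⟨q, s.QH hq⟩, ⟨_, hq, rfl⟩, ?_⟩
      have e' : φ ⟨h, hh⟩ = φ ⟨q, s.QH hq⟩ * (gb ^ (m % 3) * ab) := by
        rw [show (⟨h, hh⟩ : H) = ⟨q, s.QH hq⟩ * ⟨g, S.gen.1⟩ ^ m * ⟨a, s.PH S.aP⟩ from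
          Subtype.ext (by simpa using e), map_mul, map_mul, map_pow, ← pow_eq_pow_mod m g3, mul_assoc]
      rw [e']
      obtain h3 | h3 | h3 : m % 3 = 0 ∨ m % 3 = 1 ∨ m % 3 = 2 := by omega
      · exact Or.inr (Or.inr (Or.inr (Or.inl (by rw [h3, pow_zero, one_mul]))))
      · exact Or.inr (Or.inr (Or.inr (Or.inr (Or.inl (by rw [h3, pow_one])))))
      · exact Or.inr (Or.inr (Or.inr (Or.inr (Or.inr (by rw [h3, pow_two])))))
  let ev : (↥H ⧸ Cfsg.oddCore ↥H) → (↥H ⧸ Cfsg.oddCore ↥H) × (↥H ⧸ Cfsg.oddCore ↥H) :=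
    fun k => (k * Z * k⁻¹, k * Z1 * k⁻¹)
  have evA : ∀ x ∈ A, ∀ w ∈ A, x * w * x⁻¹ = w := fun x hx w hw => by
    rw [Acomm x hx w hw, mul_inv_cancel_right]
  have cnj : ∀ x ∈ A, ∀ k w w', w' ∈ A → k * w * k⁻¹ = w' → (x * k) * w * (x * k)⁻¹ = w' := by
    intro x hx k w w' hw' e
    rw [show (x * k) * w * (x * k)⁻¹ = x * (k * w * k⁻¹) * x⁻¹ by group, e, evA x hx w' hw']
  have two : ∀ k l w w' w'', l * w * l⁻¹ = w' → k * w' * k⁻¹ = w'' →
      ((k : ↥H ⧸ Cfsg.oddCore ↥H) * l) * w * (k * l)⁻¹ = w'' := by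
    intro k l w w' w'' h1 h2
    rw [show (k * l) * w * (k * l)⁻¹ = k * (l * w * l⁻¹) * k⁻¹ by group, h1, h2]
  have one1 : ∀ x ∈ A, ev x = (Z, Z1) := fun x hx => Prod.ext (evA x hx Z hZA) (evA x hx Z1 hZ1A)
  have one2 : ∀ x ∈ A, ev (x * gb) = (Z1, Z2) := fun x hx =>
    Prod.ext (cnj x hx _ _ _ hZ1A gZ) (cnj x hx _ _ _ hZ2A gZ1)
  have one3 : ∀ x ∈ A, ev (x * (gb * gb)) = (Z2, Z) := fun x hx =>
    Prod.ext (cnj x hx _ _ _ hZ2A (two _ _ _ _ _ gZ gZ1)) (cnj x hx _ _ _ hZA (two _ _ _ _ _ gZ1 gZ2))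
  have one4 : ∀ x ∈ A, ev (x * ab) = (Z, Z2) := fun x hx =>
    Prod.ext (cnj x hx _ _ _ hZA aZ) (cnj x hx _ _ _ hZ2A aZ1)
  have one5 : ∀ x ∈ A, ev (x * (gb * ab)) = (Z1, Z) := fun x hx =>
    Prod.ext (cnj x hx _ _ _ hZ1A (two _ _ _ _ _ aZ gZ)) (cnj x hx _ _ _ hZA (two _ _ _ _ _ aZ1 gZ2))
  have one6 : ∀ x ∈ A, ev (x * (gb * gb * ab)) = (Z2, Z1) := fun x hx =>
    Prod.ext (cnj x hx _ _ _ hZ2A (two _ _ _ _ _ aZ (two _ _ _ _ _ gZ gZ1)))
      (cnj x hx _ _ _ hZ1A (two _ _ _ _ _ aZ1 (two _ _ _ _ _ gZ2 gZ)))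
  let rep : Fin 6 → (↥H ⧸ Cfsg.oddCore ↥H) := ![1, gb, gb * gb, ab, gb * ab, gb * gb * ab]
  let img : Fin 6 → (↥H ⧸ Cfsg.oddCore ↥H) × (↥H ⧸ Cfsg.oddCore ↥H) :=
    ![(Z, Z1), (Z1, Z2), (Z2, Z), (Z, Z2), (Z1, Z), (Z2, Z1)]
  have hev : ∀ x ∈ A, ∀ i, ev (x * rep i) = img i := by
    intro x hx i
    fin_cases i
    · show ev (x * 1) = (Z, Z1)
      rw [mul_one]; exact one1 x hx
    · exact one2 x hx
    · exact one3 x hx
    · exact one4 x hx
    · exact one5 x hx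
    · exact one6 x hx
  have himg : Function.Injective img := by
    intro i j e
    fin_cases i <;> fin_cases j <;>
      simp [img, ne01, ne02, ne12, ne01.symm, ne02.symm, ne12.symm] at e ⊢
  have hbij : Function.Bijective (fun x : A × Fin 6 => (x.1 : ↥H ⧸ Cfsg.oddCore ↥H) * rep x.2) := by
    constructor
    · rintro ⟨x, i⟩ ⟨x', i'⟩ e
      simp only at e
      have hi : i = i' := himg (by rw [← hev x x.2, ← hev x' x'.2, e])
      subst hi
      exact Prod.ext (Subtype.ext (mul_right_cancel e)) rfl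
    · intro k
      obtain ⟨x, hx, e⟩ := sort k
      rcases e with e | e | e | e | e | e <;>
        [refine ⟨(⟨x, hx⟩, 0), ?_⟩; refine ⟨(⟨x, hx⟩, 1), ?_⟩; refine ⟨(⟨x, hx⟩, 2), ?_⟩;
         refine ⟨(⟨x, hx⟩, 3), ?_⟩; refine ⟨(⟨x, hx⟩, 4), ?_⟩; refine ⟨(⟨x, hx⟩, 5), ?_⟩] <;>
        simp [rep, e]
  have hcard : Nat.card (↥H ⧸ Cfsg.oddCore ↥H) = 6 * Nat.card A := by
    rw [← Nat.card_eq_of_bijective _ hbij]
    simp [mul_comm]
  have hcardA : Nat.card A = Nat.card Q := by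
    symm
    refine Nat.card_eq_of_bijective (fun q : Q => (⟨φ ⟨q, s.QH q.2⟩, ⟨_, q.2, rfl⟩⟩ : A))
      ⟨fun q q' e => Subtype.ext (congrArg (fun h : H => (h : G)) (φinj _ _ q.2 q'.2 (congrArg Subtype.val e))) , ?_⟩
    rintro ⟨x, hx⟩
    obtain ⟨q, hq, rfl⟩ := memA x hx
    exact ⟨⟨q, hq⟩, rfl⟩
  have hC' : ∀ x ∈ A, gb * x * gb⁻¹ = x → ∃ c, ∃ hc : c ∈ C, φ ⟨c, s.QH (S.C_le hc)⟩ = x := by
    intro x hx e
    obtain ⟨q, hq, rfl⟩ := memA x hx
    obtain ⟨c, hc, hcq⟩ := S.split q hq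
    have hfix : g * (q : G) * g⁻¹ = q := by
      rw [hgb, ← map_inv, ← map_mul, ← map_mul] at e
      simpa using congrArg Subtype.val (φinj _ _ (by simpa using s.conj_Q S.gen.1 hq) hq e)
    have hcg := mem_fixer_iff_conj.1 (S.C_central c hc S.gen.1)
    rcases hcq with h | h | h | h
    · exact ⟨c, hc, congrArg φ (Subtype.ext h.symm)⟩
    · exfalso
      rw [h, show g * (c * z) * g⁻¹ = (g * c * g⁻¹) * (g * z * g⁻¹) by group, hcg] at hfix
      exact S.gz (mul_left_cancel hfix)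
    · exfalso
      rw [h, show g * (c * z') * g⁻¹ = (g * c * g⁻¹) * (g * z' * g⁻¹) by group, hcg, S.ggz] at hfix
      exact S.z_ne (mul_eq_right.1 (mul_left_cancel hfix))
    · exfalso
      rw [h, show g * (c * (z * z')) * g⁻¹ = (g * c * g⁻¹) * (g * (z * z') * g⁻¹) by group, hcg,
        hgzz] at hfix
      exact hz'1 (mul_eq_left.1 (mul_left_cancel hfix).symm)
  have hCc : ∀ c, ∀ hc : c ∈ C,
      φ ⟨c, s.QH (S.C_le hc)⟩ ∈ A ⊓ Subgroup.center (↥H ⧸ Cfsg.oddCore ↥H) := by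
    intro c hc
    refine Subgroup.mem_inf.2 ⟨⟨_, S.C_le hc, rfl⟩, Subgroup.mem_center_iff.2 fun k => ?_⟩
    obtain ⟨⟨h, hh⟩, rfl⟩ := QuotientGroup.mk'_surjective _ k
    rw [← map_mul, ← map_mul]
    exact congrArg φ (Subtype.ext (mem_fixer.1 (S.C_central c hc hh)))
  have hcardC : Nat.card ↥(A ⊓ Subgroup.center (↥H ⧸ Cfsg.oddCore ↥H)) = Nat.card C := by
    symm
    refine Nat.card_eq_of_bijective (fun c : C => (⟨_, hCc c c.2⟩ :
      ↥(A ⊓ Subgroup.center (↥H ⧸ Cfsg.oddCore ↥H)))) ⟨fun c c' e => ?_, ?_⟩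
    · exact Subtype.ext (congrArg (fun h : H => (h : G)) (φinj _ _ (S.C_le c.2) (S.C_le c'.2) (congrArg Subtype.val e)))
    · rintro ⟨x, hx⟩
      obtain ⟨c, hc, e⟩ := hC' x hx.1 (by
        rw [Subgroup.mem_center_iff.1 hx.2 gb, mul_inv_cancel_right])
      exact ⟨⟨c, hc⟩, Subtype.ext e⟩
  have hab2 : ab * ab = 1 := by
    rw [hab, ← map_mul, show (⟨a, s.PH S.aP⟩ : H) * ⟨a, s.PH S.aP⟩ = 1 from Subtype.ext S.a2, map_one]
  have habA : ab ∉ A := fun h => ne12 (by rw [← aZ1, evA ab h Z1 hZ1A])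
  have hst := Amalgam.Cubic.structure_of_six A
    (fun x hx => by
      obtain ⟨q, hq, rfl⟩ := memA x hx
      rw [← map_mul, show q * q = 1 from Subtype.ext (hQsq _ hq), map_one])
    (fun k hk => by
      obtain ⟨⟨x, i⟩, rfl⟩ := hbij.2 k
      have e : ev ((x : ↥H ⧸ Cfsg.oddCore ↥H) * rep i) = (Z, Z1) := Prod.ext
        (mul_inv_eq_iff_eq_mul.2 ((Subgroup.mem_centralizer_iff.1 hk) Z hZA).symm)
        (mul_inv_eq_iff_eq_mul.2 ((Subgroup.mem_centralizer_iff.1 hk) Z1 hZ1A).symm)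
      rw [hev x x.2] at e
      have hi : i = 0 := himg e
      subst hi
      show (x : ↥H ⧸ Cfsg.oddCore ↥H) * 1 ∈ A
      rw [mul_one]; exact x.2)
    hcard
    (by rw [hcardA, hcardC, hcardQ])
    (fun d hd w hw hdw => by
      obtain ⟨⟨x, i⟩, rfl⟩ := hbij.2 d
      simp only at hd hdw
      set d := (x : ↥H ⧸ Cfsg.oddCore ↥H) * rep i with hdef
      have hd3 : d * (d * d) = 1 := by
        have h := pow_orderOf_eq_one d
        rw [hd] at h
        simpa [pow_succ, mul_assoc] using h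
      have cube : ∀ w w₁ w₂ w₃, d * w * d⁻¹ = w₁ → d * w₁ * d⁻¹ = w₂ → d * w₂ * d⁻¹ = w₃ → w₃ = w := by
        intro w w₁ w₂ w₃ h1 h2 h3
        rw [← two d (d * d) w w₂ w₃ (two d d w w₁ w₂ h1 h2) h3, hd3]
        simp
      have e1 : d * Z * d⁻¹ = (img i).1 := congrArg Prod.fst (hev x x.2 i)
      have e2 : d * Z1 * d⁻¹ = (img i).2 := congrArg Prod.snd (hev x x.2 i)
      have e3 : d * Z2 * d⁻¹ = (img i).1 * (img i).2 := by
        rw [← e1, ← e2, show Z2 = Z * Z1 from map_mul φ ⟨z, s.QH S.zQ⟩ ⟨z', s.QH hz'Q⟩]; group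
      have p01 : Z * Z1 = Z2 := (map_mul φ ⟨z, s.QH S.zQ⟩ ⟨z', s.QH hz'Q⟩).symm
      have sq : ∀ v ∈ A, v * v = 1 := fun v hv => by
        obtain ⟨q, hq, rfl⟩ := memA v hv
        rw [← map_mul, show q * q = 1 from Subtype.ext (hQsq _ hq), map_one]
      have p10 : Z1 * Z = Z2 := by rw [Acomm Z1 hZ1A Z hZA, p01]
      have p02 : Z * Z2 = Z1 := by rw [← p01, ← mul_assoc, sq Z hZA, one_mul]
      have p20 : Z2 * Z = Z1 := by rw [Acomm Z2 hZ2A Z hZA, p02]
      have p12 : Z1 * Z2 = Z := by rw [← p10, ← mul_assoc, sq Z1 hZ1A, one_mul]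
      have p21 : Z2 * Z1 = Z := by rw [Acomm Z2 hZ2A Z1 hZ1A, p12]
      obtain hi | hi | hi | hi | hi | hi : i = 0 ∨ i = 1 ∨ i = 2 ∨ i = 3 ∨ i = 4 ∨ i = 5 := by
        fin_cases i <;> simp
      · exfalso
        subst hi
        have hdA : d ∈ A := by
          show (x : ↥H ⧸ Cfsg.oddCore ↥H) * 1 ∈ A
          rw [mul_one]; exact x.2
        rw [sq d hdA, mul_one] at hd3
        rw [hd3, orderOf_one] at hd
        omega
      rotate_left 2
      · exfalso
        subst hi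
        rw [show (img 3).1 = Z from rfl] at e1
        rw [show (img 3).2 = Z2 from rfl] at e2
        rw [show (img 3).1 * (img 3).2 = Z1 from p02] at e3
        exact ne12 (cube Z1 Z2 Z1 Z2 e2 e3 e2).symm
      · exfalso
        subst hi
        rw [show (img 4).1 = Z1 from rfl] at e1
        rw [show (img 4).2 = Z from rfl] at e2
        exact ne01 (cube Z Z1 Z Z1 e1 e2 e1).symm
      · exfalso
        subst hi
        rw [show (img 5).1 = Z2 from rfl] at e1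
        rw [show (img 5).1 * (img 5).2 = Z from p21] at e3
        exact ne02 (cube Z Z2 Z Z2 e1 e3 e1).symm
      all_goals
        have hdw' : d * w * d⁻¹ = w := mul_inv_eq_iff_eq_mul.2 hdw
        obtain ⟨q, hq, rfl⟩ := memA w hw
        obtain ⟨c, hc, hcq⟩ := S.split q hq
        have hcc := hCc c hc
        have hcd : d * φ ⟨c, s.QH (S.C_le hc)⟩ * d⁻¹ = φ ⟨c, s.QH (S.C_le hc)⟩ := by
          rw [Subgroup.mem_center_iff.1 hcc.2 d, mul_inv_cancel_right]
        subst hi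
        have key : ∀ v : H, (q : G) = c * v → d * φ v * d⁻¹ = φ v := by
          intro v hv
          have e : φ q = φ ⟨c, s.QH (S.C_le hc)⟩ * φ v := by
            rw [← map_mul]; exact congrArg φ (Subtype.ext hv)
          rw [e] at hdw'
          refine mul_left_cancel (a := φ ⟨c, s.QH (S.C_le hc)⟩) ?_
          calc φ ⟨c, s.QH (S.C_le hc)⟩ * (d * φ v * d⁻¹)
              = (d * φ ⟨c, s.QH (S.C_le hc)⟩ * d⁻¹) * (d * φ v * d⁻¹) := by rw [hcd]
            _ = d * (φ ⟨c, s.QH (S.C_le hc)⟩ * φ v) * d⁻¹ := by group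
            _ = _ := hdw'
        rcases hcq with h | h | h | h
        · rw [show φ q = φ ⟨c, s.QH (S.C_le hc)⟩ from congrArg φ (Subtype.ext h)]
          exact hcc.2
        · exfalso
          have := e1.symm.trans (key ⟨z, s.QH S.zQ⟩ h)
          simp [img, ← hZ, ne01.symm, ne02.symm] at this
        · exfalso
          have := e2.symm.trans (key ⟨z', s.QH hz'Q⟩ h)
          simp [img, ← hZ1, ne01, ne12.symm] at this
        · exfalso
          have := e3.symm.trans (key ⟨z * z', s.QH (mul_mem S.zQ hz'Q)⟩ h)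
          simp [img, ← hZ2, p12, p20, ne02, ne12] at this)
    ⟨ab, habA, hab2⟩
  refine ⟨?_, ?_⟩
  · rcases hC12 with h | h
    · exact Or.inl (by rw [card_P s S.aP S.aQ, hcardQ, h])
    · exact Or.inr (by rw [card_P s S.aP S.aQ, hcardQ, h])
  · rcases hC12 with h | h
    · exact Or.inl (hst.1 (by rw [hcardC, h]))
    · obtain ⟨e⟩ := hst.2 (by rw [hcardC, h])
      exact Or.inr ⟨e.trans MulEquiv.prodComm⟩

/-- Let H be a subgroup of a finite group G whose largest normal 2-subgroup O_2(H) is nontrivial and such that H/O_2(H) is a dihedral group of order at least 4. Let P be a Sylow 2-subgroup of H and S a Sylow 2-subgroup of G containing P. Suppose y ∈ S lies outside P, normalizes P, has y² in the product of P with the centralizer of P in G, and normalizes no non-identity normal subgroup of H contained in P. Then P has order 4, 8 or 16, and H modulo its largest normal subgroup of odd order is isomorphic to the four-group,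 to the symmetric group of degree 4, or to the direct product of the symmetric group of degree 4 with a group of order 2. -/
theorem result {G : Type*} [Group G] [Finite G]
    (H : Subgroup G) (hO : Cfsg.pCore 2 ↥H ≠ ⊥) (n : ℕ) (hn : 2 ≤ n) (hdih : Nonempty (↥H ⧸ Cfsg.pCore 2 ↥H ≃* DihedralGroup n))
    (P : Subgroup G) (hPH : P ≤ H) (hP : IsPGroup 2 P) (hPsyl : ¬ 2 ∣ P.relIndex H)
    (S : Sylow 2 G) (hPS : P ≤ (S : Subgroup G)) (y : G) (hyS : y ∈ (S : Subgroup G)) (hyP : y ∉ P)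
    (hy2 : y ^ 2 ∈ P ⊔ Subgroup.centralizer (P : Set G)) (hyN : MulAut.conj y • P = P)
    (hyQ : ∀ Q : Subgroup G, Q ≤ P → (Q.subgroupOf H).Normal → MulAut.conj y • Q = Q → Q = ⊥) :
    (Nat.card P = 4 ∨ Nat.card P = 8 ∨ Nat.card P = 16) ∧
    (Nonempty (↥H ⧸ Cfsg.oddCore ↥H ≃* Multiplicative (ZMod 2) × Multiplicative (ZMod 2)) ∨
     Nonempty (↥H ⧸ Cfsg.oddCore ↥H ≃* Equiv.Perm (Fin 4)) ∨
     Nonempty (↥H ⧸ Cfsg.oddCore ↥H ≃* Equiv.Perm (Fin 4) × Multiplicative (ZMod 2))) := by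
  obtain ⟨Q, π, s⟩ := exists_setup H hO n hn hdih P hPH hP hPsyl y hy2 hyN hyQ
  by_cases hF : Faithful P Q
  · obtain ⟨h1, h2⟩ := caseB s hF
    exact ⟨Or.inr h1, Or.inr h2⟩
  · obtain ⟨h1, h2⟩ := caseA s hF
    exact ⟨Or.inl h1, Or.inl h2⟩

end Cfsg.Agent.S4385
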