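import Cfsg.Statements.S4387
import Mathlib

set_option autoImplicit false
open Pointwise
open Cfsg

namespace Cfsg.Agent.S4387

/-- Let G be a non-trivial finite group in which any two maximal subgroups are conjugate. Then G is cyclic of prime-power order. -/
theorem result {G : Type*} [Group G] [Finite G] [Nontrivial G]
    (h : ∀ M N : Subgroup G, IsCoatom M → IsCoatom N → ∃ g : G, N = MulAut.conj g • M) :
    IsCyclic G ∧ IsPrimePow (Nat.card G) := by
  obtain ⟨M, hM, -⟩ := (eq_top_or_exists_le_coatom (⊥ : Subgroup G)).resolve_left bot_ne_top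
  have hidx : 1 < M.index := by
    rcases Nat.lt_or_ge 1 M.index with h | h
    · exact h
    · have : M.index ≠ 0 := Subgroup.index_ne_zero_of_finite
      exact absurd (Subgroup.index_eq_one.mp (by omega)) hM.1
  obtain ⟨p, hp, hpd⟩ := Nat.exists_prime_and_dvd hidx.ne'
  haveI := Fact.mk hp
  obtain ⟨P⟩ : Nonempty (Sylow p G) := inferInstance
  have hPtop : (P : Subgroup G) = ⊤ := by
    by_contra hne
    obtain ⟨M', hM', hle⟩ := (eq_top_or_exists_le_coatom (P : Subgroup G)).resolve_left hne
    obtain ⟨g, hg⟩ := h M M' hM hM'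
    have hi : M'.index = M.index := by rw [hg]; exact Subgroup.index_map_equiv M (MulAut.conj g)
    exact P.not_dvd_index ((hi ▸ hpd).trans (Subgroup.index_dvd_of_le hle))
  have hG : IsPGroup p G := fun x => by
    obtain ⟨k, hk⟩ := P.2 ⟨x, hPtop ▸ Subgroup.mem_top x⟩
    exact ⟨k, congrArg Subtype.val hk⟩
  haveI := hG.isNilpotent
  haveI hn : M.Normal := Subgroup.NormalizerCondition.normal_of_coatom M
    Group.normalizerCondition_of_isNilpotent hM
  have huniq : ∀ N : Subgroup G, IsCoatom N → N = M := fun N hN => by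
    obtain ⟨g, hg⟩ := h M N hM hN
    rw [hg]
    exact Subgroup.Normal.conjAct hn (ConjAct.toConjAct g)
  obtain ⟨g, hg⟩ : ∃ g, g ∉ M := by
    by_contra hh
    exact hM.1 (eq_top_iff.mpr fun x _ => by_contra fun hx => hh ⟨x, hx⟩)
  refine ⟨⟨g, fun x => ?_⟩, ?_⟩
  · have : Subgroup.zpowers g = ⊤ := by
      by_contra hne
      obtain ⟨N, hN, hle⟩ := (eq_top_or_exists_le_coatom (Subgroup.zpowers g)).resolve_left hne
      exact hg (huniq N hN ▸ hle (Subgroup.mem_zpowers g))
    exact Subgroup.mem_zpowers_iff.mp (this ▸ Subgroup.mem_top x)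
  · obtain ⟨k, hk⟩ := hG.exists_card_eq
    refine ⟨p, k, hp.prime, Nat.pos_of_ne_zero fun h0 => ?_, hk.symm⟩
    rw [h0, pow_zero] at hk
    exact absurd (Finite.one_lt_card (α := G)) (by omega)

end Cfsg.Agent.S4387
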