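import Cfsg.Statements.S4395
import Cfsg.Agent.Lib.Schmidt.Model
import Cfsg.Agent.Lib.Schmidt.Universal

set_option autoImplicit false
universe u
open Cfsg

namespace Cfsg.Agent.S4395

/-- Let p ≠ q be primes, r ≥ 1, a the multiplicative order of p modulo q, and a₀ = a when a is odd, a₀ = 3a/2 when a is even. Call a finite group minimal non-p-nilpotent when it has no normal p-complement but every proper subgroup has one. Then there is a minimal non-p-nilpotent group G₀ of order p^a₀ · q^r such that every minimal non-p-nilpotent group of order p^t · q^r (any t) is a quotient of G₀ by a central subgroup. -/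
theorem result (p q r : ℕ) [Fact p.Prime] [Fact q.Prime] (hpq : p ≠ q) (hr : 1 ≤ r) (a a₀ : ℕ)
    (ha : a = orderOf (p : ZMod q)) (ha₀ : a₀ = if a % 2 = 1 then a else 3 * a / 2) :
    ∃ (G₀ : Type u) (_ : Group G₀) (_ : Finite G₀),
      (¬ Cfsg.HasNormalPComplement p G₀ ∧ ∀ K : Subgroup G₀, K ≠ ⊤ → Cfsg.HasNormalPComplement p ↥K) ∧ Nat.card G₀ = p ^ a₀ * q ^ r ∧
      ∀ (X : Type u) [Group X] [Finite X], (¬ Cfsg.HasNormalPComplement p X ∧ ∀ K : Subgroup X, K ≠ ⊤ → Cfsg.HasNormalPComplement p ↥K) →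
        (∃ t : ℕ, Nat.card X = p ^ t * q ^ r) → ∃ φ : G₀ →* X, Function.Surjective φ ∧ φ.ker ≤ Subgroup.center G₀ := by
  subst ha₀
  have hp := (Fact.out : p.Prime)
  have hq := (Fact.out : q.Prime)
  have hqp : q.Coprime p := (Nat.coprime_primes hq hp).2 (Ne.symm hpq)
  have ha0 : a ≠ 0 := by
    rw [ha]
    refine (orderOf_pos_iff.2 (isOfFinOrder_iff_pow_eq_one.2 ⟨q - 1, Nat.sub_pos_of_lt hq.one_lt,
      ZMod.pow_card_sub_one_eq_one fun e => ?_⟩)).ne'
    rw [ZMod.natCast_eq_zero_iff] at e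
    exact hpq ((Nat.prime_dvd_prime_iff_eq hq hp).1 e).symm
  haveI : Fintype (GaloisField p a) := Fintype.ofFinite _
  have hdvd : q ∣ Nat.card (GaloisField p a)ˣ := by
    rw [Nat.card_units, GaloisField.card p a ha0, ← ZMod.natCast_eq_zero_iff,
      Nat.cast_sub (Nat.one_le_pow _ _ hp.pos), Nat.cast_pow, ha, pow_orderOf_eq_one, Nat.cast_one, sub_self]
  obtain ⟨u, hu⟩ := exists_prime_orderOf_dvd_card' q hdvd
  have hR : CfsgLib.SchmidtCover.RootData p q a (GaloisField p a) (u : GaloisField p a) :=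
    ⟨hq, hpq, ha, GaloisField.card p a ha0, by rw [orderOf_units, hu]⟩
  obtain ⟨D, _, _, θ, π, hD, hθq, hDcard⟩ := CfsgLib.SchmidtCover.exists_cover hR
  haveI : NeZero (q ^ r) := ⟨pow_ne_zero r hq.ne_zero⟩
  have hθn : θ ^ q ^ r = 1 := by
    obtain ⟨k, hk⟩ := dvd_pow_self q (show r ≠ 0 by omega)
    rw [hk, pow_mul, hθq, one_pow]
  obtain ⟨φ, hφ⟩ := CfsgLib.SchmidtCover.exists_act (n := q ^ r) hθn
  obtain ⟨hnot, hsub⟩ := CfsgLib.SchmidtCover.minimal_nonnilpotent hR hD hθq hr rfl φ hφ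
  haveI : Finite (D ⋊[φ] Multiplicative (ZMod (q ^ r))) :=
    Finite.of_injective (fun g => (g.left, g.right)) fun _ _ e =>
      SemidirectProduct.ext (congrArg Prod.fst e) (congrArg Prod.snd e)
  let E : ULift.{u} (D ⋊[φ] Multiplicative (ZMod (q ^ r))) ≃* D ⋊[φ] Multiplicative (ZMod (q ^ r)) :=
    MulEquiv.ulift
  refine ⟨ULift.{u} (D ⋊[φ] Multiplicative (ZMod (q ^ r))), inferInstance, inferInstance,
    ⟨fun h => hnot ((CfsgLib.Transfer.hasNormalPComplement_congr E).1 h), fun K hK => ?_⟩, ?_, ?_⟩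
  · refine (CfsgLib.Transfer.hasNormalPComplement_congr (E.subgroupMap K)).2 (hsub _ fun e => hK ?_)
    rw [← Subgroup.comap_map_eq_self_of_injective (f := E.toMonoidHom) E.injective K]
    exact (congrArg (Subgroup.comap E.toMonoidHom) e).trans (Subgroup.comap_top _)
  · rw [Nat.card_congr E.toEquiv, SemidirectProduct.card, hDcard,
      Nat.card_congr Multiplicative.toAdd, Nat.card_zmod]
    congr 1
    split_ifs with h
    · rw [mul_one]
    · rw [← pow_add]; congr 1; omega
  · intro X _ _ hX ⟨t, ht⟩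
    obtain ⟨P, θ', ψ, b, hP, hb, hbo, hgen⟩ :=
      CfsgLib.SchmidtCover.exists_cover_of_minimal hR hX.1 hX.2 hr ht
    obtain ⟨χ, hχs, hχe, hχk⟩ := CfsgLib.SchmidtCover.exists_surjection hR hD hDcard hP
    have hbn : b ^ q ^ r = 1 := hbo ▸ pow_orderOf_eq_one b
    let fg : Multiplicative (ZMod (q ^ r)) →* X := MonoidHom.mk' (fun c => b ^ c.toAdd.val) fun c c' => by
      rw [toAdd_mul, ZMod.val_add, ← pow_eq_pow_mod _ hbn, pow_add]
    have hit : ∀ (i : ℕ) (d : D), (χ ((θ ^ i) d) : X) = b ^ i * χ d * (b ^ i)⁻¹ := by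
      intro i
      induction i with
      | zero => intro d; simp
      | succ i ih =>
        intro d
        rw [pow_succ, MulAut.mul_apply, ih, hχe, hb, pow_succ]
        group
    let Φ : D ⋊[φ] Multiplicative (ZMod (q ^ r)) →* X :=
      SemidirectProduct.lift (P.subtype.comp χ) fg fun c => MonoidHom.ext fun d => by
        show (χ (φ c d) : X) = b ^ c.toAdd.val * χ d * (b ^ c.toAdd.val)⁻¹
        rw [hφ, hit]
    refine ⟨Φ.comp E.toMonoidHom, ?_, ?_⟩
    · rw [MonoidHom.coe_comp]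
      refine Function.Surjective.comp (g := ⇑Φ) ?_ E.surjective
      refine MonoidHom.range_eq_top.1 (top_le_iff.1 (hgen ▸ sup_le (fun m hm => ?_) ?_))
      · obtain ⟨d, hd⟩ := hχs ⟨m, hm⟩
        exact ⟨SemidirectProduct.inl d, (SemidirectProduct.lift_inl _ _ _ _).trans (congrArg Subtype.val hd)⟩
      · rw [Subgroup.zpowers_le]
        haveI : Fact (1 < q ^ r) := ⟨Nat.one_lt_pow (by omega) hq.one_lt⟩
        refine ⟨SemidirectProduct.inr (Multiplicative.ofAdd 1), (SemidirectProduct.lift_inr _ _ _ _).trans ?_⟩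
        show b ^ (1 : ZMod (q ^ r)).val = b
        rw [ZMod.val_one, pow_one]
    · intro x hx
      rw [MonoidHom.mem_ker, MonoidHom.comp_apply] at hx
      have hx' : (χ (E x).left : X) * b ^ (E x).right.toAdd.val = 1 := hx
      have hbP : b ^ (E x).right.toAdd.val = 1 := by
        have hmem : b ^ (E x).right.toAdd.val ∈ P := by
          rw [eq_inv_of_mul_eq_one_right hx']; exact P.inv_mem (χ _).2
        obtain ⟨k, hk⟩ := hP.pgrp ⟨_, hmem⟩
        have hk' : (b ^ (E x).right.toAdd.val) ^ p ^ k = 1 := congrArg Subtype.val hk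
        rw [← orderOf_eq_one_iff]
        exact Nat.eq_one_of_dvd_coprimes (Nat.Coprime.pow k r hqp.symm) (orderOf_dvd_of_pow_eq_one hk')
          (orderOf_dvd_of_pow_eq_one (by rw [← pow_mul, mul_comm, pow_mul, hbn, one_pow]))
      rw [hbP, mul_one] at hx'
      have hv : (E x).right = 1 := by
        apply Multiplicative.toAdd.injective
        rw [toAdd_one, ← ZMod.val_eq_zero]
        exact Nat.eq_zero_of_dvd_of_lt (hbo.symm.dvd.trans (orderOf_dvd_of_pow_eq_one hbP)) (ZMod.val_lt _)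
      have hl : (E x).left ∈ π.ker := hχk (MonoidHom.mem_ker.2 (Subtype.ext hx'))
      have hfix : ∀ i : ℕ, (θ ^ i) (E x).left = (E x).left := fun i => by
        induction i with
        | zero => rfl
        | succ i ih => rw [pow_succ, MulAut.mul_apply, hD.fixed _ hl, ih]
      refine Subgroup.mem_center_iff.2 fun g => E.injective ?_
      rw [map_mul, map_mul]
      apply SemidirectProduct.ext
      · rw [SemidirectProduct.mul_left, SemidirectProduct.mul_left, hv, map_one, MulAut.one_apply, hφ, hfix]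
        exact Subgroup.mem_center_iff.1 (hD.central hl) _
      · rw [SemidirectProduct.mul_right, SemidirectProduct.mul_right, hv, mul_one, one_mul]

end Cfsg.Agent.S4395
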