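import Cfsg.Statements.S4396
import Cfsg.Agent.Lib.Frobenius.KernelFree

set_option autoImplicit false
open Cfsg
open scoped Pointwise

namespace Cfsg.Agent.S4396

/-- Let the finite group A act faithfully and linearly on a finite-dimensional vector space V over a field k, and suppose A is a Frobenius group with nilpotent kernel F (every Frobenius kernel is nilpotent) and complement H such that F fixes no nonzero vector. Then V is free as a module for H: there is a subspace W with V the direct sum of the translates hW, h ∈ H. (No assumption on the characteristic of k.) -/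
theorem result {k V A : Type*} [Field k] [AddCommGroup V] [Module k V] [FiniteDimensional k V] [Group A] [Finite A] [DecidableEq A]
    (ρ : Representation k A V) (hρ : Function.Injective ρ)
    (Fk Hc : Subgroup A) [Fk.Normal] (hHc : Cfsg.IsFrobeniusComplement Hc) (hker : Cfsg.frobeniusKernel Hc = (Fk : Set A)) (hnil : Group.IsNilpotent ↥Fk)
    (hCF : ∀ v : V, (∀ f ∈ Fk, ρ f v = v) → v = 0) :
    ∃ W : Submodule k V, DirectSum.IsInternal (fun h : ↥Hc => W.map (ρ (h : A))) := by
  classical
  haveI := Fintype.ofFinite Hc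
  haveI := hnil
  have hfpf : ∀ h ∈ Hc, h ≠ 1 → ∀ z ∈ Fk, h * z * h⁻¹ = z → z = 1 := by
    intro h hh hne z hz he
    by_contra hz1
    have hzH : z ∉ Hc := by
      intro hzH
      rw [← SetLike.mem_coe, ← hker] at hz
      rcases hz with hz | hz
      · exact hz1 hz
      · exact hz 1 (by rw [map_one, one_smul]; exact hzH)
    have hc : MulAut.conj z h = h := by
      rw [MulAut.conj_apply, mul_inv_eq_iff_eq_mul]
      exact (mul_inv_eq_iff_eq_mul.mp he).symm
    have h1 : h ∈ Hc ⊓ MulAut.conj z • Hc :=
      ⟨hh, Subgroup.mem_pointwise_smul_iff_inv_smul_mem.mpr (by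
        rw [show (MulAut.conj z)⁻¹ • h = h by
          rw [inv_smul_eq_iff, MulAut.smul_def, hc]]
        exact hh)⟩
    rw [hHc.2.2 z hzH, Subgroup.mem_bot] at h1
    exact hne h1
  obtain ⟨W, -, hWs, hWu⟩ := CfsgLib.FrobeniusFree.freeOn_of_nilpotent ρ Fk Hc
    (by rw [Submodule.eq_bot_iff]; exact hCF) hfpf
  refine ⟨W, (DirectSum.isInternal_submodule_iff_iSupIndep_and_iSup_eq_top _).mpr ⟨?_, ?_⟩⟩
  · rw [iSupIndep_iff_finsetSum_eq_zero_imp_eq_zero]
    intro s v hv hsum i hi
    choose x hx hxv using fun h : s => Submodule.mem_map.mp (hv h.1 h.2)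
    have key := hWu (fun h => if hm : h ∈ s then x ⟨h, hm⟩ else 0) (fun h => by
      beta_reduce
      split_ifs with hm
      · exact hx _
      · exact W.zero_mem) (by
      rw [← Finset.sum_subset (Finset.subset_univ s) (fun h _ hm => by
        rw [dif_neg hm, map_zero])]
      refine Eq.trans (Finset.sum_congr rfl fun h hm => ?_) hsum
      rw [dif_pos hm]
      exact hxv ⟨h, hm⟩) i
    rw [dif_pos hi] at key
    rw [← hxv ⟨i, hi⟩, key, map_zero]
  · rw [eq_top_iff]
    intro v _
    obtain ⟨w, hw, rfl⟩ := hWs v trivial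
    exact Submodule.sum_mem _ fun h _ =>
      Submodule.mem_iSup_of_mem h (Submodule.mem_map_of_mem (hw h))

end Cfsg.Agent.S4396
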