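import Cfsg.Statements.S4397
import Cfsg.Agent.Lib.PGroup.TwoMaximalClass
import Cfsg.Agent.Lib.PSolvable.Omega

set_option autoImplicit false
set_option linter.style.haveILetI false
open Cfsg

namespace Cfsg.Agent.S4397

universe u

/-- Three independent commuting involutions contradict sectional rank two. -/
theorem no_three {S : Type u} [Group S] [Finite S] (hr : Cfsg.SectionalPRankLE 2 2 S) {u v w : S}
    (hu : u * u = 1) (hv : v * v = 1) (hw : w * w = 1) (huv : u * v = v * u) (huw : u * w = w * u)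
    (hvw : v * w = w * v) (hu1 : u ≠ 1) (hv1 : v ≠ 1) (hvu : v ≠ u) (hw1 : w ≠ 1) (hwu : w ≠ u)
    (hwv : w ≠ v) (hwuv : w ≠ u * v) : False := by
  set E := Subgroup.closure ({u, v, w} : Set S) with hE
  have huE : u ∈ E := Subgroup.subset_closure (by simp)
  have hvE : v ∈ E := Subgroup.subset_closure (by simp)
  have hwE : w ∈ E := Subgroup.subset_closure (by simp)
  haveI hEc : IsMulCommutative E := by
    apply Subgroup.isMulCommutative_closure
    simp only [Set.mem_insert_iff, Set.mem_singleton_iff]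
    rintro x (rfl | rfl | rfl) y (rfl | rfl | rfl)
    all_goals first | rfl | assumption | exact huv.symm | exact huw.symm | exact hvw.symm
  have hexp : ∀ x ∈ E, x * x = 1 := by
    intro x hx
    induction hx using Subgroup.closure_induction with
    | mem x hx =>
      simp only [Set.mem_insert_iff, Set.mem_singleton_iff] at hx
      rcases hx with rfl | rfl | rfl <;> assumption
    | one => rw [one_mul]
    | mul x y hx hy hx' hy' =>
      have e : x * y = y * x := congrArg Subtype.val (hEc.is_comm.comm ⟨x, hx⟩ ⟨y, hy⟩)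
      rw [mul_assoc, ← mul_assoc y, ← e, mul_assoc x y y, hy', mul_one, hx']
    | inv x _ hx' => rw [inv_eq_of_mul_eq_one_right hx', hx']
  let π : E →* E ⧸ (⊥ : Subgroup E) := QuotientGroup.mk' ⊥
  have h := hr E ⊥ ⊤ ⟨⟨fun a b => Subtype.ext (by
    obtain ⟨x, hx⟩ := QuotientGroup.mk'_surjective _ (a : E ⧸ (⊥ : Subgroup E))
    obtain ⟨y, hy⟩ := QuotientGroup.mk'_surjective _ (b : E ⧸ (⊥ : Subgroup E))
    show (a : E ⧸ (⊥ : Subgroup E)) * b = b * a
    rw [← hx, ← hy, ← map_mul, ← map_mul, hEc.is_comm.comm])⟩⟩ (fun a _ => by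
    obtain ⟨x, rfl⟩ := QuotientGroup.mk'_surjective _ a
    rw [← map_pow, pow_two, show x * x = 1 from Subtype.ext (hexp x x.2), map_one])
  rw [Subgroup.card_top, Nat.card_congr QuotientGroup.quotientBot.toEquiv] at h
  let f : Fin 5 → E := ![1, ⟨u, huE⟩, ⟨v, hvE⟩, ⟨w, hwE⟩, ⟨u * v, E.mul_mem huE hvE⟩]
  have hf : Function.Injective f := by
    have h1 : u * v ≠ 1 := fun e => hvu ((eq_inv_of_mul_eq_one_right e).trans (inv_eq_of_mul_eq_one_right hu))
    have h2 : u * v ≠ u := fun e => hv1 (mul_eq_left.mp e)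
    have h3 : u * v ≠ v := fun e => hu1 (mul_eq_right.mp e)
    intro i j hij
    have e := congrArg Subtype.val hij
    fin_cases i <;> fin_cases j <;>
      first
        | rfl
        | exact absurd e hu1 | exact absurd e.symm hu1
        | exact absurd e hv1 | exact absurd e.symm hv1
        | exact absurd e hw1 | exact absurd e.symm hw1
        | exact absurd e hvu | exact absurd e.symm hvu
        | exact absurd e hwu | exact absurd e.symm hwu
        | exact absurd e hwv | exact absurd e.symm hwv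
        | exact absurd e hwuv | exact absurd e.symm hwuv
        | exact absurd e h1 | exact absurd e.symm h1
        | exact absurd e h2 | exact absurd e.symm h2
        | exact absurd e h3 | exact absurd e.symm h3
  have h5 := Nat.card_le_card_of_injective f hf
  rw [Nat.card_fin] at h5
  norm_num at h
  omega

/-- The involution in a cyclic `2`-group, and the order bookkeeping. -/
theorem top_involution {S : Type u} [Group S] [Finite S] (h2 : IsPGroup 2 S) {a : S} (ha : a ≠ 1) :
    ∃ k : ℕ, orderOf a = 2 ^ (k + 1) ∧ a ^ 2 ^ k ≠ 1 ∧ a ^ 2 ^ k * a ^ 2 ^ k = 1 := by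
  haveI := Fact.mk Nat.prime_two
  obtain ⟨m, hm⟩ := IsPGroup.iff_orderOf.mp h2 a
  rcases m with _ | k
  · exact absurd (orderOf_eq_one_iff.mp hm) ha
  refine ⟨k, hm, fun h => ?_, ?_⟩
  · have h1 := Nat.le_of_dvd (pow_pos two_pos k) (orderOf_dvd_of_pow_eq_one h)
    rw [hm, pow_succ] at h1
    have := Nat.two_pow_pos k
    omega
  · rw [← pow_add, ← two_mul, ← pow_succ', ← hm, pow_orderOf_eq_one]

/-- Generated by `a`, `b` with central commutator involution in `⟨a⟩`. -/
theorem metacyclic_of_mem {S : Type u} [Group S] [Finite S] {a b z : S} (hgen : Subgroup.closure ({a, b} : Set S) = ⊤)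
    (hab : b * a * b⁻¹ = z * a) (hz : z ∈ Subgroup.zpowers a) : Cfsg.IsMetacyclic S := by
  set N := Subgroup.zpowers a
  have hba : b * a * b⁻¹ ∈ N := hab ▸ N.mul_mem hz (Subgroup.mem_zpowers a)
  haveI hN : N.Normal := by
    refine Subgroup.normalizer_eq_top_iff.mp (eq_top_iff.mpr (hgen ▸ (Subgroup.closure_le _).mpr ?_))
    rintro x (rfl | rfl)
    · exact Subgroup.le_normalizer (Subgroup.mem_zpowers x)
    · refine Subgroup.mem_normalizer_fintype ?_
      intro y hy
      obtain ⟨i, rfl⟩ := Subgroup.mem_zpowers_iff.mp hy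
      show x * a ^ i * x⁻¹ ∈ N
      rw [← conj_zpow]
      exact zpow_mem hba i
  refine ⟨N, hN, inferInstance, isCyclic_iff_exists_zpowers_eq_top.mpr ⟨QuotientGroup.mk' N b, ?_⟩⟩
  rw [← MonoidHom.map_zpowers, eq_top_iff]
  intro q _
  obtain ⟨x, rfl⟩ := QuotientGroup.mk'_surjective N q
  have : Subgroup.closure ({a, b} : Set S) ≤ ((Subgroup.zpowers b).map (QuotientGroup.mk' N)).comap (QuotientGroup.mk' N) := by
    rw [Subgroup.closure_le]
    rintro y (rfl | rfl)
    · exact ⟨1, one_mem _, by rw [map_one]; exact ((QuotientGroup.eq_one_iff y).mpr (Subgroup.mem_zpowers y)).symm⟩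
    · exact ⟨y, Subgroup.mem_zpowers y, rfl⟩
  exact this (hgen.ge (Subgroup.mem_top x))

/-- Class two, two generators, commutator an involution. -/
theorem class_two {S : Type u} [Group S] [Finite S] (h2 : IsPGroup 2 S) (hr : Cfsg.SectionalPRankLE 2 2 S)
    {z : S} (hz2 : z * z = 1) (hz1 : z ≠ 1) (hzc : ∀ x : S, x * z = z * x) :
    ∀ (n : ℕ) (a b : S), orderOf a + orderOf b = n → Subgroup.closure ({a, b} : Set S) = ⊤ →
      b * a * b⁻¹ = z * a → Cfsg.IsMetacyclic S := by
  intro n
  induction n using Nat.strong_induction_on with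
  | _ n IH =>
  intro a b hn hgen hab
  have hba : a * b * a⁻¹ = z * b := by
    calc a * b * a⁻¹ = z⁻¹ * (z * a) * b * a⁻¹ := by group
      _ = z⁻¹ * (b * a * b⁻¹) * b * a⁻¹ := by rw [hab]
      _ = z⁻¹ * b := by group
      _ = z * b := by rw [inv_eq_of_mul_eq_one_right hz2]
  have hgen' : Subgroup.closure ({b, a} : Set S) = ⊤ := by rw [Set.pair_comm]; exact hgen
  by_cases hza : z ∈ Subgroup.zpowers a
  · exact metacyclic_of_mem hgen hab hza
  by_cases hzb : z ∈ Subgroup.zpowers b
  · exact metacyclic_of_mem hgen' hba hzb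
  have hsq : ∀ x y : S, y * x * y⁻¹ = z * x → Commute y (x * x) := fun x y h => by
    refine mul_inv_eq_iff_eq_mul.mp ?_
    calc y * (x * x) * y⁻¹ = (y * x * y⁻¹) * (y * x * y⁻¹) := by group
      _ = z * x * (z * x) := by rw [h]
      _ = z * (x * z) * x := by group
      _ = x * x := by rw [hzc x, ← mul_assoc, hz2, one_mul]
  have hcent : ∀ x : S, Commute x (a * a) ∧ Commute x (b * b) := by
    intro x
    have h : Subgroup.closure ({a, b} : Set S) ≤ Subgroup.centralizer ({a * a, b * b} : Set S) := by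
      rw [Subgroup.closure_le]
      rintro y hy
      refine Subgroup.mem_centralizer_iff.mpr ?_
      rintro t (rfl | rfl) <;> rcases hy with rfl | rfl
      · group
      · exact (hsq a y hab).eq.symm
      · exact (hsq b y hba).eq.symm
      · group
    have hx := Subgroup.mem_centralizer_iff.mp (h (hgen.ge (Subgroup.mem_top x)))
    exact ⟨(hx _ (Or.inl rfl)).symm, (hx _ (Or.inr rfl)).symm⟩
  have hne : ∀ x y : S, y * x * y⁻¹ = z * x → x ≠ 1 ∧ ¬ (∀ t : S, t * x = x * t) := fun x y h =>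
    ⟨fun e => hz1 (by rw [e, mul_one, mul_one, mul_inv_cancel] at h; exact h.symm),
      fun hc => hz1 (mul_eq_right.mp (h.symm.trans (by rw [hc y, mul_inv_cancel_right])))⟩
  obtain ⟨k, hk, hka1, hka2⟩ := top_involution h2 (hne a b hab).1
  obtain ⟨l, hl, hlb1, hlb2⟩ := top_involution h2 (hne b a hba).1
  -- a generator of order two
  have two : ∀ (x y : S) (m : ℕ), Subgroup.closure ({x, y} : Set S) = ⊤ → y * x * y⁻¹ = z * x → x * x = 1 →
      z ∉ Subgroup.zpowers y → (∀ t, Commute t (y * y)) → orderOf y = 2 ^ (m + 1) → y ^ 2 ^ m ≠ 1 →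
      y ^ 2 ^ m * y ^ 2 ^ m = 1 → Cfsg.IsMetacyclic S := by
    intro x y m hg hxy hx hzy hyc hm hy1 hy2
    rcases m with _ | m
    · -- dihedral of order eight
      have hyy : y * y = 1 := by simpa using hy2
      refine metacyclic_of_mem (a := y * x) (b := x) ?_ ?_ ?_ (z := z)
      · rw [eq_top_iff, ← hg, Subgroup.closure_le]
        have h1 : x ∈ Subgroup.closure ({y * x, x} : Set S) := Subgroup.subset_closure (by simp)
        rintro t (rfl | rfl)
        · exact h1
        · have := Subgroup.mul_mem _ (Subgroup.subset_closure (show t * x ∈ ({t * x, x} : Set S) by simp)) (Subgroup.inv_mem _ h1)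
          rwa [mul_inv_cancel_right] at this
      · rw [inv_eq_of_mul_eq_one_right hx]
        calc x * (y * x) * x = x * y * (x * x) := by group
          _ = x * y := by rw [hx, mul_one]
          _ = z * (z * x) * y := by rw [← mul_assoc z, hz2, one_mul]
          _ = z * (y * x * y⁻¹) * y := by rw [hxy]
          _ = _ := by group
      · refine ⟨2, ?_⟩
        show (y * x) ^ (2 : ℤ) = z
        rw [zpow_two]
        calc y * x * (y * x) = (y * x * y⁻¹) * (y * y) * x := by group
          _ = z := by rw [hxy, hyy, mul_one, mul_assoc, hx, mul_one]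
    · exfalso
      have hc : ∀ t, Commute t (y ^ 2 ^ (m + 1)) := fun t => by
        rw [pow_succ', pow_mul, pow_two]
        exact (hyc t).pow_right _
      have hzy' : y ^ 2 ^ (m + 1) ≠ z := fun e => hzy (e ▸ Subgroup.pow_mem _ (Subgroup.mem_zpowers y) _)
      have hzcomm : ∀ t, Commute t z := hzc
      refine no_three hr hz2 hy2 hx (hzcomm _).symm (hzcomm _).symm ((hc x).symm) hz1 hy1 hzy' ?_ ?_ ?_ ?_
      · exact (hne x y hxy).1
      · exact fun e => (hne x y hxy).2 fun t => by rw [e]; exact hzc t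
      · exact fun e => (hne x y hxy).2 fun t => by rw [e]; exact hc t
      · exact fun e => (hne x y hxy).2 fun t => by rw [e]; exact (hzcomm t).mul_right (hc t)
  rcases k with _ | k
  · exact two a b l hgen hab (by simpa using hka2) hzb (fun t => (hcent t).2) hl hlb1 hlb2
  rcases l with _ | l
  · exact two b a (k + 1) hgen' hba (by simpa using hlb2) hza (fun t => (hcent t).1) hk hka1 hka2
  have hca : ∀ t, Commute t (a ^ 2 ^ (k + 1)) := fun t => by
    rw [pow_succ', pow_mul, pow_two]; exact (hcent t).1.pow_right _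
  have hcb : ∀ t, Commute t (b ^ 2 ^ (l + 1)) := fun t => by
    rw [pow_succ', pow_mul, pow_two]; exact (hcent t).2.pow_right _
  -- one of them can be shortened
  have key : ∀ (x y : S) (i j : ℕ), i ≤ j → orderOf x = 2 ^ (i + 2) → orderOf y = 2 ^ (j + 2) →
      orderOf x + orderOf y = n → Subgroup.closure ({x, y} : Set S) = ⊤ → y * x * y⁻¹ = z * x →
      (∀ t, Commute t (y * y)) →
      (x ^ 2 ^ (i + 1) = y ^ 2 ^ (j + 1) ∨ x ^ 2 ^ (i + 1) = y ^ 2 ^ (j + 1) * z) → Cfsg.IsMetacyclic S := by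
    intro x y i j hij hx hy hsum hg hxy hyc hcases
    set e := 2 ^ (j - i) with he
    set w := x * (y ^ e)⁻¹ with hw
    have hg' : Subgroup.closure ({w, y} : Set S) = ⊤ := by
      rw [eq_top_iff, ← hg, Subgroup.closure_le]
      have h1 : y ∈ Subgroup.closure ({w, y} : Set S) := Subgroup.subset_closure (by simp)
      rintro t (rfl | rfl)
      · have := Subgroup.mul_mem _ (Subgroup.subset_closure (show w ∈ ({w, y} : Set S) by simp))
          (Subgroup.pow_mem _ h1 e)
        rwa [hw, inv_mul_cancel_right] at this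
      · exact h1
    have hwy : y * w * y⁻¹ = z * w := by
      calc y * w * y⁻¹ = (y * x * y⁻¹) * (y ^ e)⁻¹ := by rw [hw]; group
        _ = _ := by rw [hxy, hw, mul_assoc]
    by_cases hzw : z ∈ Subgroup.zpowers w
    · exact metacyclic_of_mem hg' hwy hzw
    -- `w²` is `x² (y^e)⁻²` up to `z`
    have hww : w * w = x * x * ((y ^ e)⁻¹ * (y ^ e)⁻¹) ∨ w * w = x * x * ((y ^ e)⁻¹ * (y ^ e)⁻¹) * z := by
      rcases Nat.even_or_odd e with ⟨r, hr'⟩ | ⟨r, hr'⟩
      · left
        have hc : Commute x (y ^ e)⁻¹ := by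
          rw [hr', ← two_mul, pow_mul, pow_two]
          exact ((hyc x).pow_right r).inv_right
        rw [hw, hc.symm.mul_mul_mul_comm]
      · right
        have hye : y ^ e = (y * y) ^ r * y := by rw [hr', pow_succ, pow_mul, pow_two]
        have h1 : (y ^ e)⁻¹ * x * y ^ e = z * x := by
          rw [hye]
          calc ((y * y) ^ r * y)⁻¹ * x * ((y * y) ^ r * y)
              = y⁻¹ * (((y * y) ^ r)⁻¹ * (x * (y * y) ^ r)) * y := by group
            _ = y⁻¹ * (((y * y) ^ r)⁻¹ * ((y * y) ^ r * x)) * y := by rw [((hyc x).pow_right r).eq]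
            _ = y⁻¹ * x * y := by group
            _ = y⁻¹ * (z * (z * x)) * y := by rw [← mul_assoc z, hz2, one_mul]
            _ = y⁻¹ * (z * (y * x * y⁻¹)) * y := by rw [hxy]
            _ = y⁻¹ * z * y * x := by group
            _ = z * x := by rw [hzc y⁻¹, inv_mul_cancel_right]
        calc w * w = x * ((y ^ e)⁻¹ * x * y ^ e) * ((y ^ e)⁻¹ * (y ^ e)⁻¹) := by rw [hw]; group
          _ = x * (x * z) * ((y ^ e)⁻¹ * (y ^ e)⁻¹) := by rw [h1, ← hzc x]
          _ = x * x * (z * ((y ^ e)⁻¹ * (y ^ e)⁻¹)) := by group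
          _ = _ := by rw [← hzc ((y ^ e)⁻¹ * (y ^ e)⁻¹), ← mul_assoc]
    have hcyy : Commute (x * x) ((y ^ e)⁻¹ * (y ^ e)⁻¹) := by
      rw [← mul_inv_rev, ← pow_add, ← two_mul, pow_mul, pow_two]
      exact ((hyc (x * x)).pow_right e).inv_right
    have hwp : w ^ 2 ^ (i + 1) ∈ Subgroup.zpowers z := by
      have hP : (x * x * ((y ^ e)⁻¹ * (y ^ e)⁻¹)) ^ 2 ^ i = x ^ 2 ^ (i + 1) * (y ^ 2 ^ (j + 1))⁻¹ := by
        rw [hcyy.mul_pow, ← pow_two x, ← pow_mul, ← pow_succ', ← pow_two, inv_pow, inv_pow, ← pow_mul, ← pow_mul, he,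
          ← pow_succ', ← pow_add]
        congr 3
        congr 1
        omega
      have hP' : x ^ 2 ^ (i + 1) * (y ^ 2 ^ (j + 1))⁻¹ ∈ Subgroup.zpowers z := by
        rcases hcases with h | h
        · rw [h, mul_inv_cancel]; exact one_mem _
        · rw [h, hzc, mul_inv_cancel_right]; exact Subgroup.mem_zpowers z
      rw [pow_succ', pow_mul, pow_two]
      rcases hww with h | h <;> rw [h]
      · rw [hP]; exact hP'
      · rw [(show Commute (x * x * ((y ^ e)⁻¹ * (y ^ e)⁻¹)) z from hzc _).mul_pow, hP]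
        exact mul_mem hP' (Subgroup.pow_mem _ (Subgroup.mem_zpowers z) _)
    have hwp1 : w ^ 2 ^ (i + 1) = 1 := by
      obtain ⟨t, ht⟩ := Subgroup.mem_zpowers_iff.mp hwp
      rcases Int.even_or_odd' t with ⟨s, rfl | rfl⟩
      · rw [← ht, zpow_mul, zpow_two, hz2, one_zpow]
      · exfalso
        apply hzw
        rw [zpow_add, zpow_mul, zpow_two, hz2, one_zpow, one_mul, zpow_one] at ht
        rw [ht]
        exact Subgroup.pow_mem _ (Subgroup.mem_zpowers w) _
    refine IH (orderOf w + orderOf y) ?_ w y rfl hg' hwy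
    rw [← hsum]
    refine Nat.add_lt_add_right (lt_of_le_of_lt (Nat.le_of_dvd (pow_pos two_pos _) (orderOf_dvd_of_pow_eq_one hwp1)) ?_) _
    rw [hx]
    exact Nat.pow_lt_pow_right (by norm_num) (by omega)
  have hcases : a ^ 2 ^ (k + 1) = b ^ 2 ^ (l + 1) ∨ a ^ 2 ^ (k + 1) = b ^ 2 ^ (l + 1) * z := by
    by_contra hno
    push Not at hno
    exact no_three hr hlb2 hz2 hka2 (hzc _) (hca _).eq (hca _).eq
      hlb1 hz1 (fun e => hzb (e ▸ Subgroup.pow_mem _ (Subgroup.mem_zpowers b) _)) hka1 hno.1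
      (fun e => hza (e ▸ Subgroup.pow_mem _ (Subgroup.mem_zpowers a) _)) hno.2
  rcases le_total k l with h | h
  · exact key a b k l h hk hl hn hgen hab (fun t => (hcent t).2) hcases
  · refine key b a l k h hl hk (by rw [add_comm]; exact hn) hgen' hba (fun t => (hcent t).1) ?_
    rcases hcases with e | e
    · exact Or.inl e.symm
    · exact Or.inr (by rw [e, mul_assoc, hz2, mul_one])

/-- Sections of a quotient are sections. -/
theorem rank_quotient {S : Type u} [Group S] [Finite S] (hr : Cfsg.SectionalPRankLE 2 2 S) (Z : Subgroup S)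
    [Z.Normal] : Cfsg.SectionalPRankLE 2 2 (S ⧸ Z) := by
  intro H N hN A hAc hAp
  set π := QuotientGroup.mk' Z
  let f : H.comap π →* H ⧸ N := (QuotientGroup.mk' N).comp (π.subgroupComap H)
  have hf : Function.Surjective f := (QuotientGroup.mk'_surjective N).comp
    (MonoidHom.subgroupComap_surjective_of_surjective π H (QuotientGroup.mk'_surjective Z))
  let e := QuotientGroup.quotientKerEquivOfSurjective f hf
  have h := hr (H.comap π) f.ker (A.map e.symm.toMonoidHom) ?_ ?_
  · rwa [Subgroup.card_map_of_injective e.symm.injective] at h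
  · constructor
    constructor
    rintro ⟨_, x, hx, rfl⟩ ⟨_, y, hy, rfl⟩
    refine Subtype.ext ?_
    show e.symm x * e.symm y = e.symm y * e.symm x
    rw [← map_mul, ← map_mul]
    exact congrArg e.symm (congrArg Subtype.val (hAc.is_comm.comm ⟨x, hx⟩ ⟨y, hy⟩))
  · rintro _ ⟨x, hx, rfl⟩
    show e.symm x ^ 2 = 1
    rw [← map_pow, hAp x hx, map_one]

/-- Two generators. -/
theorem exists_generators {S : Type u} [Group S] [Finite S] (h2 : IsPGroup 2 S) (hr : Cfsg.SectionalPRankLE 2 2 S) :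
    ∃ a b : S, Subgroup.closure ({a, b} : Set S) = ⊤ := by
  haveI := Fact.mk Nat.prime_two
  haveI : Group.IsNilpotent S := h2.isNilpotent
  set π := QuotientGroup.mk' (frattini S)
  have hle : Nat.card (S ⧸ frattini S) ≤ 4 := by
    have hr' := rank_quotient hr (frattini S)
    have hexp : ∀ q : S ⧸ frattini S, q * q = 1 := by
      intro q
      obtain ⟨x, rfl⟩ := QuotientGroup.mk'_surjective _ q
      rw [← map_mul, QuotientGroup.mk'_apply, QuotientGroup.eq_one_iff, ← pow_two]
      exact (CfsgLib.PSolvable.commutator_le_frattini h2).2 x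
    have hc : ∀ u v : S ⧸ frattini S, u * v = v * u := fun u v => by
      have hi : ∀ w : S ⧸ frattini S, w⁻¹ = w := fun w => inv_eq_of_mul_eq_one_right (hexp w)
      rw [← hi (u * v), mul_inv_rev, hi, hi]
    have h := hr' ⊤ ⊥ ⊤ ⟨⟨fun a b => Subtype.ext (by
      obtain ⟨x, hx⟩ := QuotientGroup.mk'_surjective _ (a : (⊤ : Subgroup (S ⧸ frattini S)) ⧸ ⊥)
      obtain ⟨y, hy⟩ := QuotientGroup.mk'_surjective _ (b : (⊤ : Subgroup (S ⧸ frattini S)) ⧸ ⊥)
      show a.1 * b.1 = b.1 * a.1
      rw [← hx, ← hy, ← map_mul, ← map_mul, show x * y = y * x from Subtype.ext (hc x y)])⟩⟩ (fun a _ => by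
      obtain ⟨x, rfl⟩ := QuotientGroup.mk'_surjective _ a
      rw [← map_pow, pow_two, show x * x = 1 from Subtype.ext (hexp x), map_one])
    rw [Subgroup.card_top, Nat.card_congr QuotientGroup.quotientBot.toEquiv, Subgroup.card_top] at h
    simpa using h
  obtain ⟨a, ha⟩ : ∃ a : S, ∀ b : S, b ∉ frattini S → a ∉ frattini S := by
    by_cases h : ∃ a : S, a ∉ frattini S
    · exact ⟨h.choose, fun _ _ => h.choose_spec⟩
    · exact ⟨1, fun b hb => absurd ⟨b, hb⟩ h⟩
  obtain ⟨b, hb⟩ : ∃ b : S, ∀ x : S, x ∉ Subgroup.zpowers a ⊔ frattini S →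
      b ∉ Subgroup.zpowers a ⊔ frattini S := by
    by_cases h : ∃ b : S, b ∉ Subgroup.zpowers a ⊔ frattini S
    · exact ⟨h.choose, fun _ _ => h.choose_spec⟩
    · exact ⟨1, fun x hx => absurd ⟨x, hx⟩ h⟩
  refine ⟨a, b, frattini_nongenerating (eq_top_iff.mpr fun x _ => ?_)⟩
  set K := Subgroup.closure ({a, b} : Set S) ⊔ frattini S
  have haK : Subgroup.zpowers a ⊔ frattini S ≤ K :=
    sup_le_sup_right (Subgroup.zpowers_le.mpr (Subgroup.subset_closure (by simp))) _
  by_contra hx
  have hxa : x ∉ Subgroup.zpowers a ⊔ frattini S := fun h => hx (haK h)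
  have hb' := hb x hxa
  have ha' := ha x fun h => hxa (Subgroup.mem_sup_right h)
  -- a chain of four subgroups
  have hlt1 : frattini S < Subgroup.zpowers a ⊔ frattini S :=
    lt_of_le_of_ne le_sup_right fun e => ha' (e.ge (Subgroup.mem_sup_left (Subgroup.mem_zpowers a)))
  have hlt2 : Subgroup.zpowers a ⊔ frattini S < K :=
    lt_of_le_of_ne haK fun e => hb' (e.ge (Subgroup.mem_sup_left (Subgroup.subset_closure (by simp))))
  have hlt3 : K < ⊤ := lt_top_iff_ne_top.mpr fun e => hx (e.ge (Subgroup.mem_top x))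
  have hstep : ∀ A B : Subgroup S, A < B → 2 * B.index ≤ A.index := fun A B h => by
    rw [← Subgroup.relIndex_mul_index h.le]
    refine Nat.mul_le_mul_right _ ?_
    have h1 : A.relIndex B ≠ 1 := fun e => absurd (Subgroup.relIndex_eq_one.mp e) (not_le_of_gt h)
    have h0 : A.relIndex B ≠ 0 := Nat.card_pos.ne'
    omega
  have h1 := hstep _ _ hlt1
  have h2' := hstep _ _ hlt2
  have h3 := hstep _ _ hlt3
  rw [Subgroup.index_top] at h3
  rw [← Subgroup.index_eq_card] at hle
  omega

theorem main (n : ℕ) : ∀ (S : Type u) [Group S] [Finite S], Nat.card S = n → IsPGroup 2 S →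
    Cfsg.SectionalPRankLE 2 2 S → Cfsg.IsMetacyclic S := by
  induction n using Nat.strong_induction_on with
  | _ n IH =>
  intro S _ _ hn h2 hr
  classical
  haveI := Fact.mk Nat.prime_two
  haveI : Group.IsNilpotent S := h2.isNilpotent
  obtain ⟨a, b, hgen⟩ := exists_generators h2 hr
  by_cases hcom : commutator S = ⊥
  · have hab : b * a * b⁻¹ = a := mul_inv_eq_iff_eq_mul.mpr (CfsgLib.MaxClass.comm_eq_of_commutator_eq_bot hcom b a)
    exact metacyclic_of_mem (z := 1) hgen (by rw [hab, one_mul]) (one_mem _)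
  obtain ⟨⟨x, hxC, hxZ⟩, hx1⟩ := (Subgroup.bot_or_exists_ne_one _).resolve_left
    (CfsgLib.Critical.inf_center_ne_bot (commutator S) hcom) |> fun ⟨x, hx, hx1⟩ =>
    (⟨⟨x, hx⟩, hx1⟩ : ∃ x : ↥(commutator S ⊓ Subgroup.center S), (x : S) ≠ 1)
  obtain ⟨k, -, hz1, hz2⟩ := top_involution h2 (hx1 : x ≠ 1)
  set z := x ^ 2 ^ k
  have hzC : z ∈ commutator S := pow_mem hxC _
  have hzc : ∀ t : S, t * z = z * t := fun t => Subgroup.mem_center_iff.mp (pow_mem hxZ _) t
  set Z := Subgroup.zpowers z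
  haveI hZn : Z.Normal := ⟨fun y hy t => by
    obtain ⟨i, rfl⟩ := Subgroup.mem_zpowers_iff.mp hy
    rw [← conj_zpow, hzc t, mul_inv_cancel_right]
    exact zpow_mem (Subgroup.mem_zpowers z) i⟩
  have hZ2 : ∀ y ∈ Z, y = 1 ∨ y = z := by
    intro y hy
    obtain ⟨i, rfl⟩ := Subgroup.mem_zpowers_iff.mp hy
    rcases Int.even_or_odd' i with ⟨s, rfl | rfl⟩
    · exact Or.inl (by rw [zpow_mul, zpow_two, hz2, one_zpow])
    · exact Or.inr (by rw [zpow_add, zpow_mul, zpow_two, hz2, one_zpow, one_mul, zpow_one])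
  have hlt : Nat.card (S ⧸ Z) < n := by
    rw [← hn, Subgroup.card_eq_card_quotient_mul_card_subgroup Z]
    refine lt_mul_of_one_lt_right Nat.card_pos (Z.one_lt_card_iff_ne_bot.mpr fun e => hz1 ?_)
    exact Subgroup.mem_bot.mp (e ▸ Subgroup.mem_zpowers z)
  obtain ⟨Nb, hNb, hNc, hQc⟩ := IH _ hlt (S ⧸ Z) rfl (h2.to_quotient Z) (rank_quotient hr Z)
  set π := QuotientGroup.mk' Z with hπ
  have hπs : Function.Surjective π := QuotientGroup.mk'_surjective Z
  haveI := hNb
  haveI := hQc
  set N := Nb.comap π with hN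
  obtain ⟨⟨q, hq⟩, hgenN⟩ := IsCyclic.exists_generator (α := Nb)
  obtain ⟨c, rfl⟩ := hπs q
  have hcN : c ∈ N := hq
  have hNmem : ∀ y ∈ N, ∃ i : ℤ, y = c ^ i ∨ y = z * c ^ i := by
    intro y hy
    obtain ⟨i, hi⟩ := hgenN ⟨π y, hy⟩
    refine ⟨i, ?_⟩
    have h1 : π (y * (c ^ i)⁻¹) = 1 := by
      rw [map_mul, map_inv, map_zpow, mul_inv_eq_one]
      exact (congrArg Subtype.val hi).symm
    rcases hZ2 _ ((QuotientGroup.eq_one_iff _).mp h1) with e | e
    · exact Or.inl (mul_inv_eq_one.mp e)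
    · exact Or.inr (mul_inv_eq_iff_eq_mul.mp e)
  obtain ⟨r, hr'⟩ := IsCyclic.exists_generator (α := (S ⧸ Z) ⧸ Nb)
  obtain ⟨r', rfl⟩ := QuotientGroup.mk'_surjective Nb r
  obtain ⟨d, rfl⟩ := hπs r'
  have hgen2 : Subgroup.closure ({c, d} : Set S) = ⊤ := by
    refine frattini_nongenerating (eq_top_iff.mpr fun y _ => ?_)
    obtain ⟨i, hi⟩ := hr' (QuotientGroup.mk' Nb (π y))
    set K := Subgroup.closure ({c, d} : Set S) ⊔ frattini S
    have hzK : z ∈ K := Subgroup.mem_sup_right ((CfsgLib.PSolvable.commutator_le_frattini h2).1 hzC)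
    have hyN : (d ^ i)⁻¹ * y ∈ N := by
      show π ((d ^ i)⁻¹ * y) ∈ Nb
      rw [← QuotientGroup.eq_one_iff, ← QuotientGroup.mk'_apply, map_mul, map_mul, map_inv, map_inv, map_zpow,
        map_zpow, inv_mul_eq_one]
      exact hi
    have hcK : c ∈ K := Subgroup.mem_sup_left (Subgroup.subset_closure (by simp))
    have hdK : d ∈ K := Subgroup.mem_sup_left (Subgroup.subset_closure (by simp))
    obtain ⟨j, hj | hj⟩ := hNmem _ hyN
    · rw [show y = d ^ i * c ^ j by rw [← hj, mul_inv_cancel_left]]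
      exact mul_mem (zpow_mem hdK i) (zpow_mem hcK j)
    · rw [show y = d ^ i * (z * c ^ j) by rw [← hj, mul_inv_cancel_left]]
      exact mul_mem (zpow_mem hdK i) (mul_mem hzK (zpow_mem hcK j))
  by_cases hzc' : z ∈ Subgroup.zpowers c
  · -- the preimage is cyclic
    obtain ⟨m, hm⟩ := hNmem _ ((inferInstance : N.Normal).conj_mem c hcN d)
    refine metacyclic_of_mem (z := d * c * d⁻¹ * c⁻¹) hgen2 (by group) ?_
    refine Subgroup.mul_mem _ ?_ (Subgroup.inv_mem _ (Subgroup.mem_zpowers c))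
    rcases hm with e | e <;> rw [e]
    · exact Subgroup.zpow_mem _ (Subgroup.mem_zpowers c) m
    · exact Subgroup.mul_mem _ hzc' (Subgroup.zpow_mem _ (Subgroup.mem_zpowers c) m)
  -- the commutator is `z`
  set e := d * c * d⁻¹ * c⁻¹ with he
  obtain ⟨m, hm⟩ : ∃ m : ℤ, e = c ^ m ∨ e = z * c ^ m := hNmem _
    (N.mul_mem ((inferInstance : N.Normal).conj_mem c hcN d) (N.inv_mem hcN))
  have hece : Commute e c := by
    rcases hm with h | h <;> rw [h]
    · exact (Commute.refl c).zpow_left m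
    · exact Commute.mul_left (hzc c).symm ((Commute.refl c).zpow_left m)
  have hdc : d * c * d⁻¹ = e * c := by rw [he, inv_mul_cancel_right]
  have hde : d * e * d⁻¹ ∈ Subgroup.zpowers e := by
    refine ⟨m + 1, ?_⟩
    show e ^ (m + 1) = _
    have h1 : d * c ^ m * d⁻¹ = e ^ m * c ^ m := by rw [← conj_zpow, hdc, hece.mul_zpow]
    rcases hm with h | h
    · calc e ^ (m + 1) = e ^ m * e := zpow_add_one e m
        _ = e ^ m * c ^ m := by rw [← h]
        _ = d * e * d⁻¹ := by rw [← h1, ← h]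
    · calc e ^ (m + 1) = e ^ m * e := zpow_add_one e m
        _ = e ^ m * (z * c ^ m) := by rw [← h]
        _ = z * (e ^ m * c ^ m) := by rw [← mul_assoc, hzc, mul_assoc]
        _ = z * (d * c ^ m * d⁻¹) := by rw [h1]
        _ = d * (z * c ^ m) * d⁻¹ := by rw [← mul_assoc d z, hzc d]; group
        _ = d * e * d⁻¹ := by rw [← h]
  haveI hEn : (Subgroup.zpowers e).Normal := by
    refine Subgroup.normalizer_eq_top_iff.mp (eq_top_iff.mpr (hgen2 ▸ (Subgroup.closure_le _).mpr ?_))
    rintro t (rfl | rfl)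
    · refine Subgroup.mem_normalizer_fintype fun y hy => ?_
      obtain ⟨i, rfl⟩ := Subgroup.mem_zpowers_iff.mp hy
      show t * e ^ i * t⁻¹ ∈ _
      rw [← conj_zpow, hece.eq.symm, mul_inv_cancel_right]
      exact Subgroup.zpow_mem _ (Subgroup.mem_zpowers e) i
    · refine Subgroup.mem_normalizer_fintype fun y hy => ?_
      obtain ⟨i, rfl⟩ := Subgroup.mem_zpowers_iff.mp hy
      show t * e ^ i * t⁻¹ ∈ _
      rw [← conj_zpow]
      exact Subgroup.zpow_mem _ hde i
  have hScomm : commutator S ≤ Subgroup.zpowers e := by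
    set ρ := QuotientGroup.mk' (Subgroup.zpowers e)
    have hcd : Commute (ρ c) (ρ d) := by
      have h1 : ρ (d * c * d⁻¹ * c⁻¹) = 1 := (QuotientGroup.eq_one_iff e).mpr (Subgroup.mem_zpowers e)
      rw [map_mul, map_mul, map_mul, map_inv, map_inv, mul_inv_eq_one, mul_inv_eq_iff_eq_mul] at h1
      exact h1.symm
    haveI : IsMulCommutative ((Subgroup.closure ({c, d} : Set S)).map ρ) := by
      rw [MonoidHom.map_closure]
      apply Subgroup.isMulCommutative_closure
      simp only [Set.image_pair, Set.mem_insert_iff, Set.mem_singleton_iff]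
      rintro u (rfl | rfl) v (rfl | rfl)
      exacts [rfl, hcd.eq, hcd.eq.symm, rfl]
    rw [← QuotientGroup.ker_mk' (Subgroup.zpowers e), commutator_def, Subgroup.commutator_le]
    intro u _ v _
    rw [MonoidHom.mem_ker, map_commutatorElement, commutatorElement_eq_one_iff_mul_comm]
    exact congrArg Subtype.val (mul_comm' (⟨ρ u, ⟨u, hgen2.ge (Subgroup.mem_top u), rfl⟩⟩ :
      (Subgroup.closure ({c, d} : Set S)).map ρ) ⟨ρ v, ⟨v, hgen2.ge (Subgroup.mem_top v), rfl⟩⟩)
  have hez : e = z := by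
    obtain ⟨i, hi⟩ := Subgroup.mem_zpowers_iff.mp (hScomm hzC)
    rcases hm with h | h
    · exact absurd (hi ▸ h ▸ Subgroup.zpow_mem _ (Subgroup.zpow_mem _ (Subgroup.mem_zpowers c) m) i) hzc'
    · rw [h, (show Commute z (c ^ m) from (hzc _).symm).mul_zpow] at hi
      rcases Int.even_or_odd' i with ⟨s, rfl | rfl⟩
      · rw [zpow_mul z, zpow_two, hz2, one_zpow, one_mul] at hi
        exact absurd (hi ▸ Subgroup.zpow_mem _ (Subgroup.zpow_mem _ (Subgroup.mem_zpowers c) m) _) hzc'
      · rw [zpow_add z, zpow_mul z, zpow_two, hz2, one_zpow, one_mul, zpow_one, mul_eq_left] at hi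
        obtain ⟨t, ht⟩ := h2 (c ^ m)
        have h3 : IsCoprime (2 * s + 1) ((2 : ℤ) ^ t) := IsCoprime.pow_right ⟨1, -s, by ring⟩
        obtain ⟨u, v, huv⟩ := h3
        have h4 : c ^ m = 1 := by
          rw [show c ^ m = (c ^ m) ^ (u * (2 * s + 1) + v * 2 ^ t : ℤ) by rw [huv, zpow_one], zpow_add,
            mul_comm u, zpow_mul, hi, one_zpow, one_mul, mul_comm v, zpow_mul,
            show ((2 : ℤ) ^ t) = ((2 ^ t : ℕ) : ℤ) by push_cast; rfl, zpow_natCast, ht, one_zpow]
        rw [h, h4, mul_one]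
  exact class_two h2 hr hz2 hz1 hzc _ c d rfl hgen2 (by rw [hdc, hez])

/-- A finite 2-group of sectional 2-rank at most 2 (every section has no elementary abelian subgroup of order 8) is metacyclic: it has a cyclic normal subgroup with cyclic quotient. -/
theorem result {S : Type*} [Group S] [Finite S] (h2 : IsPGroup 2 S) (hr : Cfsg.SectionalPRankLE 2 2 S) : Cfsg.IsMetacyclic S := by
  exact main _ S rfl h2 hr

end Cfsg.Agent.S4397
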