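import Cfsg.Statements.S4398
import Cfsg.Agent.Lib.PGroup.SuzukiMaximalClass

set_option autoImplicit false
set_option linter.style.haveILetI false
open Cfsg
open scoped commutatorElement

namespace Cfsg.Agent.S4398

/-- Let S be a finite 2-group of sectional 2-rank at most 2 that contains a subgroup isomorphic to the dihedral group of order 8 or to the quaternion group of order 8. Then S is dihedral of order at least 8, semidihedral of order at least 16 (order 2^(k+4) with an element a of order 2^(k+3) and an involution b with b a b⁻¹ = a^(2^(k+2)−1)), or generalized quaternion of order at least 8. -/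
theorem result {S : Type*} [Group S] [Finite S] (h2 : IsPGroup 2 S) (hr : Cfsg.SectionalPRankLE 2 2 S)
    (hsub : ∃ H : Subgroup S, Nonempty (↥H ≃* DihedralGroup 4) ∨ Nonempty (↥H ≃* QuaternionGroup 2)) :
    ((∃ k : ℕ, Nonempty (S ≃* DihedralGroup (2 ^ (k + 2)))) ∨
      (∃ k : ℕ, Nat.card S = 2 ^ (k + 4) ∧ ∃ a b : S, orderOf a = 2 ^ (k + 3) ∧ orderOf b = 2 ∧ b * a * b⁻¹ = a ^ (2 ^ (k + 2) - 1)) ∨
      (∃ k : ℕ, Nonempty (S ≃* QuaternionGroup (2 ^ (k + 1))))) := by
  classical
  haveI := Fact.mk Nat.prime_two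
  obtain ⟨H, hH⟩ := hsub
  have h8 : Nat.card H = 8 := by
    rcases hH with ⟨⟨e⟩⟩ | ⟨⟨e⟩⟩
    · rw [Nat.card_congr e.toEquiv, DihedralGroup.nat_card]
    · rw [Nat.card_congr e.toEquiv, Nat.card_eq_fintype_card, QuaternionGroup.card]
  have hna : ¬ IsMulCommutative H := by
    intro hc
    rcases hH with ⟨⟨e⟩⟩ | ⟨⟨e⟩⟩
    · have h := hc.is_comm.comm (e.symm (DihedralGroup.r 1)) (e.symm (DihedralGroup.sr 0))
      rw [← map_mul, ← map_mul, e.symm.injective.eq_iff] at h
      exact absurd h (by decide)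
    · have h := hc.is_comm.comm (e.symm (QuaternionGroup.a 1)) (e.symm (QuaternionGroup.xa 0))
      rw [← map_mul, ← map_mul, e.symm.injective.eq_iff] at h
      exact absurd h (by decide)
  obtain ⟨hZ2, hsq, hcm⟩ := CfsgLib.MaxClass.eight_facts h8 hna
  have hC : Subgroup.centralizer (H : Set S) ≤ H := by
    intro x hx
    by_contra hxH
    -- an element of `C(H)` outside `H` with square inside
    obtain ⟨y, hy, hyH, hy2⟩ : ∃ y ∈ Subgroup.centralizer (H : Set S), y ∉ H ∧ y * y ∈ H := by
      obtain ⟨k, hk⟩ := h2 x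
      have hex : ∃ i, x ^ 2 ^ i ∈ H := ⟨k, hk ▸ H.one_mem⟩
      have hpos : Nat.find hex ≠ 0 := fun h0 => hxH (by
        have := Nat.find_spec hex
        rwa [h0, pow_zero, pow_one] at this)
      refine ⟨x ^ 2 ^ (Nat.find hex - 1), pow_mem hx _, Nat.find_min hex (by omega), ?_⟩
      rw [← pow_add, ← two_mul, ← pow_succ', Nat.sub_add_cancel (Nat.one_le_iff_ne_zero.mpr hpos)]
      exact Nat.find_spec hex
    set X := H ⊔ Subgroup.zpowers y with hX
    set Z := (Subgroup.center H).map H.subtype with hZ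
    have hHX : H ≤ X := le_sup_left
    have hyX : y ∈ X := Subgroup.mem_sup_right (Subgroup.mem_zpowers y)
    have hyc : ∀ h ∈ H, h * y = y * h := fun h hh => Subgroup.mem_centralizer_iff.mp hy h hh
    have hXc : X ≤ Subgroup.centralizer (Z : Set S) := by
      refine sup_le (fun h hh => Subgroup.mem_centralizer_iff.mpr ?_) (Subgroup.zpowers_le.mpr (Subgroup.mem_centralizer_iff.mpr ?_))
      · rintro _ ⟨w, hw, rfl⟩
        exact (congrArg Subtype.val (Subgroup.mem_center_iff.mp hw ⟨h, hh⟩)).symm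
      · rintro _ ⟨w, hw, rfl⟩
        exact hyc _ w.2
    haveI : (Z.subgroupOf X).Normal := ⟨fun n hn g => by
      rw [Subgroup.mem_subgroupOf] at hn ⊢
      rw [Subgroup.coe_mul, Subgroup.coe_mul, Subgroup.coe_inv, ← Subgroup.mem_centralizer_iff.mp (hXc g.2) _ hn,
        mul_inv_cancel_right]
      exact hn⟩
    set π := QuotientGroup.mk' (Z.subgroupOf X)
    have hπ : ∀ v : X, (v : S) ∈ Z → π v = 1 := fun v hv =>
      (QuotientGroup.eq_one_iff v).mpr (Subgroup.mem_subgroupOf.mpr hv)
    -- generators have order two and commute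
    have hgen : X ≤ (Subgroup.closure ({g : X | (g : S) ∈ H ∨ (g : S) = y})).map X.subtype := by
      refine sup_le (fun h hh => ⟨⟨h, hHX hh⟩, Subgroup.subset_closure (Or.inl hh), rfl⟩)
        (Subgroup.zpowers_le.mpr ⟨⟨y, hyX⟩, Subgroup.subset_closure (Or.inr rfl), rfl⟩)
    have htop : Subgroup.closure {g : X | (g : S) ∈ H ∨ (g : S) = y} = ⊤ := by
      rw [Subgroup.eq_top_iff']
      intro g
      obtain ⟨g', hg', e⟩ := hgen g.2
      rwa [show g' = g from Subtype.ext e] at hg'
    have hy2Z : y * y ∈ Z := ⟨⟨y * y, hy2⟩, Subgroup.mem_center_iff.mpr fun h => Subtype.ext (by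
      show (h : S) * (y * y) = y * y * h
      rw [← mul_assoc, hyc h h.2, mul_assoc, hyc h h.2, mul_assoc]), rfl⟩
    have hcom : ∀ u v : X, ((u : S) ∈ H ∨ (u : S) = y) → ((v : S) ∈ H ∨ (v : S) = y) → π u * π v = π v * π u := by
      intro u v hu hv
      rw [← commutatorElement_eq_one_iff_mul_comm, ← map_commutatorElement]
      refine hπ _ ?_
      show (u : S) * v * (u : S)⁻¹ * (v : S)⁻¹ ∈ Z
      rcases hu with hu | hu <;> rcases hv with hv | hv
      · exact ⟨_, hcm ⟨u, hu⟩ ⟨v, hv⟩, rfl⟩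
      · rw [hv, hyc _ hu, mul_inv_cancel_right, mul_inv_cancel]; exact one_mem _
      · rw [hu, ← hyc _ hv, mul_inv_cancel_right, mul_inv_cancel]; exact one_mem _
      · rw [hu, hv, mul_inv_cancel_right, mul_inv_cancel]; exact one_mem _
    have hcomm : ∀ u v : X, π u * π v = π v * π u := by
      intro u v
      have h1 : ∀ u ∈ ({g : X | (g : S) ∈ H ∨ (g : S) = y} : Set X), ∀ v : X, π u * π v = π v * π u := by
        intro u hu v
        have hle : Subgroup.closure {g : X | (g : S) ∈ H ∨ (g : S) = y} ≤ (Subgroup.centralizer ({π u} : Set _)).comap π :=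
          (Subgroup.closure_le _).mpr fun v hv => Subgroup.mem_centralizer_singleton_iff.mpr (hcom v u hv hu)
        exact (Subgroup.mem_centralizer_singleton_iff.mp (hle (htop.ge (Subgroup.mem_top v)))).symm
      have hle : Subgroup.closure {g : X | (g : S) ∈ H ∨ (g : S) = y} ≤ (Subgroup.centralizer ({π v} : Set _)).comap π :=
        (Subgroup.closure_le _).mpr fun u hu => Subgroup.mem_centralizer_singleton_iff.mpr (h1 u hu v)
      exact Subgroup.mem_centralizer_singleton_iff.mp (hle (htop.ge (Subgroup.mem_top u)))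
    have hexp : ∀ u : X, π u ^ 2 = 1 := by
      intro u
      have h1 := htop.ge (Subgroup.mem_top u)
      induction h1 using Subgroup.closure_induction with
      | mem u hu =>
        rw [← map_pow]
        refine hπ _ ?_
        rcases hu with hu | hu
        · exact ⟨_, hsq ⟨u, hu⟩, rfl⟩
        · show (u : S) ^ 2 ∈ Z
          rw [hu, pow_two]; exact hy2Z
      | one => rw [map_one, one_pow]
      | mul a b _ _ ha hb => rw [map_mul, (show Commute (π a) (π b) from hcomm a b).mul_pow, ha, hb, one_mul]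
      | inv a _ ha => rw [map_inv, inv_pow, ha, inv_one]
    have hle := hr X (Z.subgroupOf X) ⊤ ⟨⟨fun a b => Subtype.ext (by
      obtain ⟨u, hu⟩ := QuotientGroup.mk'_surjective _ (a : X ⧸ Z.subgroupOf X)
      obtain ⟨v, hv⟩ := QuotientGroup.mk'_surjective _ (b : X ⧸ Z.subgroupOf X)
      show (a : X ⧸ Z.subgroupOf X) * b = b * a
      rw [← hu, ← hv]; exact hcomm u v)⟩⟩ (fun a _ => by
        obtain ⟨u, rfl⟩ := QuotientGroup.mk'_surjective _ a
        exact hexp u)
    rw [Subgroup.card_top] at hle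
    have hZX : Z ≤ X := (Subgroup.map_subtype_le _).trans hHX
    have h1 := Subgroup.card_eq_card_quotient_mul_card_subgroup (Z.subgroupOf X)
    rw [Nat.card_congr (Subgroup.subgroupOfEquivOfLe hZX).toEquiv, hZ,
      Subgroup.card_map_of_injective H.subtype_injective, hZ2] at h1
    have hlt : Nat.card H < Nat.card X := by
      by_contra hle'
      exact hxH (absurd ((Subgroup.eq_of_le_of_card_ge hHX (not_lt.mp hle')).ge hyX) hyH)
    obtain ⟨c, hc⟩ := Subgroup.card_dvd_of_le hHX
    rw [h8] at hlt hc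
    norm_num at hle
    rw [← hZ] at h1
    omega
  have hS' := CfsgLib.MaxClass.four_mul_card_commutator h2 H h8 hna hC
  obtain ⟨n, hn⟩ := IsPGroup.iff_card.mp h2
  have hn3 : 3 ≤ n := by
    have h := Subgroup.card_le_card_group H
    rw [h8, hn] at h
    by_contra hlt
    have := Nat.pow_le_pow_right two_pos (show n ≤ 2 by omega)
    omega
  obtain ⟨q, rfl⟩ : ∃ q, n = q + 3 := ⟨n - 3, by omega⟩
  rcases CfsgLib.MaxClass.classify hn3 hn (by
    rw [hn, pow_add] at hS'
    rw [show q + 3 - 2 = q + 1 from rfl, pow_succ]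
    omega) with h | h | ⟨h4, a, b, ha, hb, hab⟩
  · exact Or.inl ⟨q, h⟩
  · exact Or.inr (Or.inr ⟨q, h⟩)
  · obtain ⟨k, rfl⟩ : ∃ k, q = k + 1 := ⟨q - 1, by omega⟩
    exact Or.inr (Or.inl ⟨k, hn, a, b, ha, hb, hab⟩)

end Cfsg.Agent.S4398
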