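import Cfsg.Statements.S4402
import Cfsg.Agent.Lib.TwoRank.DEightWreath

set_option autoImplicit false
open Cfsg

namespace Cfsg.Agent.S4402

/-- Let S be a finite 2-group of sectional 2-rank at most 4 and P a proper subgroup isomorphic to the wreath product of the dihedral group of order 8 by a group of order 2 (equivalently, to a Sylow 2-subgroup of the symmetric group of degree 8; order 128). Then Z(S) = Z(P) has order 2, P has index 2 in its normalizer N_S(P), N_S(P)/Z(S) is again isomorphic to that wreath product, and every elementary abelian subgroup V of order 16 that is normal in P satisfies N_S(V) = P. -/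
theorem result {S : Type*} [Group S] [Finite S] (h2 : IsPGroup 2 S) (hr : Cfsg.SectionalPRankLE 2 4 S)
    (P : Subgroup S) (hPlt : P ≠ ⊤) (hP : ∃ T : Sylow 2 (Equiv.Perm (Fin 8)), Nonempty (↥P ≃* ↥(T : Subgroup (Equiv.Perm (Fin 8))))) :
    Subgroup.center S = (Subgroup.center ↥P).map P.subtype ∧ Nat.card ↥(Subgroup.center S) = 2 ∧
    P.relIndex (Subgroup.normalizer (P : Set S)) = 2 ∧
    (∃ (_ : ((Subgroup.center S).subgroupOf (Subgroup.normalizer (P : Set S))).Normal) (T : Sylow 2 (Equiv.Perm (Fin 8))),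
      Nonempty (↥(Subgroup.normalizer (P : Set S)) ⧸ (Subgroup.center S).subgroupOf (Subgroup.normalizer (P : Set S)) ≃*
        ↥(T : Subgroup (Equiv.Perm (Fin 8))))) ∧
    ∀ V : Subgroup S, V ≤ P → (∀ g ∈ P, ∀ v ∈ V, g * v * g⁻¹ ∈ V) → Cfsg.IsElementaryAbelian 2 V → Nat.card ↥V = 16 →
      Subgroup.normalizer (V : Set S) = P := by
  obtain ⟨T, ⟨e⟩⟩ := hP
  obtain ⟨e'⟩ := CfsgLib.SylowWreathFour.perm_eight T
  let g : CfsgLib.DEightWreath.M ≃* ↥P := e'.trans e.symm
  let f : CfsgLib.DEightWreath.M →* S := P.subtype.comp g.toMonoidHom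
  have hf : Function.Injective f := P.subtype_injective.comp g.injective
  have hrange : f.range = P := by
    rw [MonoidHom.range_comp, MonoidHom.range_eq_top.mpr (show Function.Surjective g.toMonoidHom from g.surjective),
      ← MonoidHom.range_eq_map, Subgroup.range_subtype]
  have hcen := CfsgLib.DEightWreath.center_eq h2 hr hf
  obtain ⟨hidx, hn, ⟨iso⟩⟩ := CfsgLib.DEightWreath.structure_normalizer h2 hr hf (hrange ▸ hPlt)
  rw [hrange] at hidx
  refine ⟨?_, ?_, hidx, ?_, ?_⟩
  · rw [hcen]
    refine le_antisymm (Subgroup.zpowers_le.mpr ⟨g CfsgLib.DEightWreath.Z, ?_, rfl⟩) ?_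
    · refine Subgroup.mem_center_iff.mpr fun q => ?_
      obtain ⟨m, rfl⟩ := g.surjective q
      rw [← map_mul, ← map_mul, CfsgLib.DEightWreath.Z_central]
    · rintro _ ⟨q, hq, rfl⟩
      obtain ⟨m, rfl⟩ := g.surjective q
      have hm : ∀ x, m * x = x * m := fun x => g.injective (by
        rw [map_mul, map_mul]; exact (Subgroup.mem_center_iff.mp hq (g x)).symm)
      rcases CfsgLib.DEightWreath.centre m (hm _) (hm _) (hm _) with rfl | rfl
      · rw [map_one, map_one]; exact one_mem _
      · exact Subgroup.mem_zpowers _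
  · rw [hcen, Nat.card_zpowers]
    haveI : Fact (Nat.Prime 2) := ⟨Nat.prime_two⟩
    exact orderOf_eq_prime (by rw [pow_two, ← map_mul, CfsgLib.DEightWreath.Z_ne.2, map_one])
      (fun h => CfsgLib.DEightWreath.Z_ne.1 (hf (h.trans (map_one f).symm)))
  · have key : ∀ Q : Subgroup S, f.range = Q →
        ∃ (_ : ((Subgroup.center S).subgroupOf (Subgroup.normalizer (Q : Set S))).Normal) (T : Sylow 2 (Equiv.Perm (Fin 8))),
          Nonempty (↥(Subgroup.normalizer (Q : Set S)) ⧸ (Subgroup.center S).subgroupOf (Subgroup.normalizer (Q : Set S)) ≃*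
            ↥(T : Subgroup (Equiv.Perm (Fin 8)))) := by
      rintro Q rfl
      exact ⟨hn, T, ⟨iso.trans e'⟩⟩
    exact key P hrange
  · intro V hVP hVn hV hV16
    obtain ⟨hVc, hVp⟩ := hV
    have hmap : (V.comap f).map f = V := Subgroup.map_comap_eq_self (hrange.symm ▸ hVP)
    have hmem : ∀ m, f m ∈ P := fun m => (g m).2
    rcases CfsgLib.DEightWreath.normal_sixteen (V.comap f)
        (fun x v hv => by
          show f (x * v * x⁻¹) ∈ V
          rw [map_mul, map_mul, map_inv]
          exact hVn _ (hmem x) _ hv)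
        (fun x hx y hy => hf (by
          rw [map_mul, map_mul]
          exact congrArg Subtype.val (hVc.is_comm.comm (⟨f x, hx⟩ : V) ⟨f y, hy⟩)))
        (fun x hx => hf (by rw [map_mul, map_one, ← pow_two]; exact hVp _ hx))
        (by rw [← hmap, Subgroup.card_map_of_injective hf] at hV16; exact hV16) with h | h
    · rw [← hmap, h, CfsgLib.DEightWreath.normalizer_V₁ h2 hr hf, hrange]
    · rw [← hmap, h, CfsgLib.DEightWreath.normalizer_V₂ h2 hr hf, hrange]

end Cfsg.Agent.S4402
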