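import Cfsg.Statements.S4403
import Cfsg.Agent.Lib.Layer.Characteristic
import Cfsg.Agent.Lib.Transfer.Basic

set_option autoImplicit false
set_option linter.style.haveILetI false
open Cfsg

namespace Cfsg.Agent.S4403

universe u

/-- Without a normal `p`-complement some element normalizing a cyclic Sylow subgroup `T` moves it so
much that every subgroup containing all `⁅n, t⁆` for one `t ∈ T` contains `t`. -/
theorem exists_mover {H : Type u} [Group H] [Finite H] {p : ℕ} [Fact p.Prime] (T : Sylow p H)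
    (hT : IsCyclic (T : Subgroup H)) (hn : ¬ Cfsg.HasNormalPComplement p H) :
    ∃ n : H, ∀ M : Subgroup H, ∀ t ∈ (T : Subgroup H), n * t * n⁻¹ * t⁻¹ ∈ M → t ∈ M := by
  classical
  have hp := (Fact.out : p.Prime)
  set N := Subgroup.normalizer ((T : Subgroup H) : Set H) with hN
  have hab : ∀ a ∈ (T : Subgroup H), ∀ b ∈ (T : Subgroup H), a * b = b * a := fun a ha b hb => by
    letI := hT.commGroup
    exact congrArg Subtype.val (mul_comm (⟨a, ha⟩ : (T : Subgroup H)) ⟨b, hb⟩)
  obtain ⟨n, hnN, hnc, hnC⟩ : ∃ n, n ∈ N ∧ (orderOf n).Coprime p ∧ n ∉ Subgroup.centralizer ((T : Subgroup H) : Set H) := by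
    by_contra hcon
    push Not at hcon
    refine hn (CfsgLib.Transfer.hasNormalPComplement_of_normalizer_le_centralizer T fun x hx => ?_)
    obtain ⟨a, m, hm, hxe, hc1, hc2⟩ := CfsgLib.Transfer.exists_pow_coprime_part (p := p) x
    have h1 := hcon _ (pow_mem hx (p ^ a)) hc1
    have h2 : x ^ m ∈ Subgroup.centralizer ((T : Subgroup H) : Set H) := by
      have hTp : IsPGroup p (Subgroup.zpowers (x ^ m)) := IsPGroup.of_card (n := a) (by rw [Nat.card_zpowers, hc2])
      have hmem : x ^ m ∈ (T : Subgroup H) :=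
        (T.3 (T.2.to_sup_of_normal_left' hTp (Subgroup.zpowers_le.mpr (pow_mem hx m))) le_sup_left).le
          (Subgroup.mem_sup_right (Subgroup.mem_zpowers _))
      exact Subgroup.mem_centralizer_iff.mpr fun b hb => hab b hb _ hmem
    have hcop : Nat.Coprime (p ^ a) m := ((hp.coprime_iff_not_dvd).mpr hm).pow_left a
    have hb := Nat.gcd_eq_gcd_ab (p ^ a) m
    rw [hcop.gcd_eq_one, Nat.cast_one] at hb
    have := mul_mem (Subgroup.zpow_mem _ h1 (Nat.gcdA (p ^ a) m)) (Subgroup.zpow_mem _ h2 (Nat.gcdB (p ^ a) m))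
    rwa [← zpow_natCast x (p ^ a), ← zpow_natCast x m, ← zpow_mul, ← zpow_mul, ← zpow_add, ← hb, zpow_one] at this
  obtain ⟨g, hg⟩ := hT.exists_generator
  have hconj : ∀ t ∈ (T : Subgroup H), n * t * n⁻¹ ∈ (T : Subgroup H) := fun t ht =>
    (Subgroup.mem_normalizer_iff.mp hnN t).mp ht
  obtain ⟨k, hk⟩ := Subgroup.mem_zpowers_iff.mp (hg ⟨n * (g : H) * n⁻¹, hconj g g.2⟩)
  have hk' : n * (g : H) * n⁻¹ = (g : H) ^ k := by rw [← Subgroup.coe_zpow, hk]
  obtain ⟨e, he⟩ := IsPGroup.iff_card.mp T.2
  have hge : (g : H) ^ ((p : ℤ) ^ e) = 1 := by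
    rw [← Nat.cast_pow, zpow_natCast, ← he, ← Subgroup.coe_pow, pow_card_eq_one', Subgroup.coe_one]
  have hmul : ∀ (j : ℕ), n ^ j * (g : H) * (n ^ j)⁻¹ = (g : H) ^ (k ^ j) := by
    intro j
    induction j with
    | zero => simp
    | succ j ih =>
      calc n ^ (j + 1) * (g : H) * (n ^ (j + 1))⁻¹ = n * (n ^ j * (g : H) * (n ^ j)⁻¹) * n⁻¹ := by
            rw [pow_succ']; group
        _ = (n * (g : H) * n⁻¹) ^ (k ^ j) := by rw [ih, conj_zpow]
        _ = (g : H) ^ (k ^ (j + 1)) := by rw [hk', ← zpow_mul, pow_succ']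
  have hkp : ¬ (p : ℤ) ∣ k - 1 := by
    intro hd
    obtain ⟨c, hc⟩ := dvd_sub_pow_of_dvd_sub hd e
    rw [one_pow] at hc
    have hc' : k ^ p ^ e = 1 + (p : ℤ) ^ e * ((p : ℤ) * c) := by linear_combination hc
    have hcg := hmul (p ^ e)
    rw [hc', zpow_add, zpow_one, zpow_mul, hge, one_zpow, mul_one] at hcg
    have hcz : n ^ p ^ e ∈ Subgroup.centralizer ((T : Subgroup H) : Set H) := by
      refine Subgroup.mem_centralizer_iff.mpr fun t ht => ?_
      obtain ⟨i, hi⟩ := Subgroup.mem_zpowers_iff.mp (hg ⟨t, ht⟩)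
      have : t = (g : H) ^ i := by rw [← Subgroup.coe_zpow, hi]
      subst this
      exact ((show Commute (n ^ p ^ e) (g : H) from mul_inv_eq_iff_eq_mul.mp hcg).zpow_right i).eq.symm
    refine hnC ?_
    obtain ⟨m, hm⟩ := exists_pow_eq_self_of_coprime (hnc.symm.pow_left e)
    rw [← hm]
    exact pow_mem hcz m
  refine ⟨n, fun M t ht hM => ?_⟩
  obtain ⟨i, hi⟩ := Subgroup.mem_zpowers_iff.mp (hg ⟨t, ht⟩)
  have hti : t = (g : H) ^ i := by rw [← Subgroup.coe_zpow, hi]
  subst hti
  rw [← conj_zpow, hk', ← zpow_mul, ← zpow_neg, ← zpow_add] at hM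
  obtain ⟨u, v, huv⟩ := ((Nat.prime_iff_prime_int.mp hp).coprime_iff_not_dvd.mpr hkp).pow_left (m := e)
  have := Subgroup.zpow_mem M hM v
  rw [← zpow_mul] at this
  have h2 : (g : H) ^ i = (g : H) ^ ((k * i + -i) * v) * ((g : H) ^ ((p : ℤ) ^ e)) ^ (u * i) := by
    rw [← zpow_mul, ← zpow_add]
    congr 1
    linear_combination -i * huv
  rw [h2, hge, one_zpow, mul_one]
  exact this

/-- A perfect group of order divisible by `p` has no normal `p`-complement. -/
theorem not_npc_of_perfect {H : Type u} [Group H] [Finite H] {p : ℕ} [Fact p.Prime] [Group.IsPerfect H]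
    (hp : p ∣ Nat.card H) : ¬ Cfsg.HasNormalPComplement p H := by
  rintro ⟨P, N, hN, hc⟩
  haveI := hN
  have hq : IsPGroup p (H ⧸ N) := by
    obtain ⟨k, hk⟩ := IsPGroup.iff_card.mp P.2
    exact IsPGroup.of_card (n := k) (hc.symm.index_eq_card.trans hk)
  haveI := hq.isNilpotent
  haveI : Group.IsPerfect (H ⧸ N) := Group.IsPerfect.ofSurjective (QuotientGroup.mk'_surjective N)
  haveI : Subsingleton (H ⧸ N) := by
    by_contra hns
    rw [not_subsingleton_iff_nontrivial] at hns
    exact Group.IsPerfect.not_isSolvable (H ⧸ N) inferInstance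
  have h1 : N.index = 1 := Nat.card_eq_one_iff_unique.mpr ⟨inferInstance, inferInstance⟩
  rw [hc.symm.index_eq_card] at h1
  exact P.ne_bot_of_dvd_card hp (Subgroup.card_eq_one.mp h1)


/-- Let K be a finite group, p a prime dividing its order with O_{p'}(K) = 1 (no nontrivial normal subgroup of order prime to p), and P a cyclic Sylow p-subgroup of K. Then either P is normal and self-centralizing in K with K/P cyclic of order dividing p − 1 (so K is the semidirect product of P by a group of automorphisms of P of order dividing p − 1), or the generalized Fitting subgroup F*(K) is a non-abelian simple group and p does not divide the index of F*(K) in K. -/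
theorem result {K : Type*} [Group K] [Finite K] (p : ℕ) [Fact p.Prime] (hp : p ∣ Nat.card K) (hO : Cfsg.pPrimeCore p K = ⊥)
    (P : Sylow p K) (hP : IsCyclic ↥(P : Subgroup K)) :
    ((P : Subgroup K).Normal ∧ Subgroup.centralizer ((P : Subgroup K) : Set K) = (P : Subgroup K) ∧
      (∀ (_ : (P : Subgroup K).Normal), IsCyclic (K ⧸ (P : Subgroup K))) ∧ (P : Subgroup K).index ∣ p - 1) ∨
    (IsSimpleGroup ↥(Cfsg.generalizedFittingSubgroup K) ∧ ¬ IsMulCommutative ↥(Cfsg.generalizedFittingSubgroup K) ∧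
      ¬ p ∣ (Cfsg.generalizedFittingSubgroup K).index) := by
  classical
  have hpp := (Fact.out : p.Prime)
  -- two subgroups of order `p` in a common `p`-subgroup coincide
  have huniq : ∀ T : Subgroup K, IsPGroup p T → ∀ a ∈ T, ∀ b ∈ T, orderOf a = p → orderOf b = p →
      b ∈ Subgroup.zpowers a := by
    intro T hT a ha b hb hoa hob
    obtain ⟨S, hS⟩ := hT.exists_le_sylow
    haveI : IsCyclic (S : Subgroup K) := isCyclic_of_surjective (S.equiv P).symm.toMonoidHom (S.equiv P).symm.surjective
    haveI : Fintype (S : Subgroup K) := Fintype.ofFinite _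
    set a' : (S : Subgroup K) := ⟨a, hS ha⟩ with ha'
    set b' : (S : Subgroup K) := ⟨b, hS hb⟩ with hb'
    have hsub : (Subgroup.zpowers a' : Set (S : Subgroup K)).toFinset ⊆ Finset.univ.filter fun x => x ^ p = 1 := by
      intro x hx
      rw [Set.mem_toFinset] at hx
      obtain ⟨i, rfl⟩ := Subgroup.mem_zpowers_iff.mp hx
      have : a' ^ p = 1 := orderOf_dvd_iff_pow_eq_one.mp (dvd_of_eq (by rw [← Subgroup.orderOf_coe]; exact hoa))
      simp only [Finset.mem_filter, Finset.mem_univ, true_and]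
      rw [← zpow_natCast, ← zpow_mul, mul_comm i, zpow_mul, zpow_natCast, this, one_zpow]
    have hc : (Finset.univ.filter fun x : (S : Subgroup K) => x ^ p = 1).card ≤
        (Subgroup.zpowers a' : Set (S : Subgroup K)).toFinset.card := by
      refine (IsCyclic.card_pow_eq_one_le hpp.pos).trans (le_of_eq ?_)
      rw [← Set.ncard_eq_toFinset_card', ← Nat.card_coe_set_eq]
      show p = Nat.card (Subgroup.zpowers a')
      rw [Nat.card_zpowers, ← Subgroup.orderOf_coe, hoa]
    have hb2 : b' ∈ Finset.univ.filter fun x : (S : Subgroup K) => x ^ p = 1 := by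
      simp only [Finset.mem_filter, Finset.mem_univ, true_and]
      exact orderOf_dvd_iff_pow_eq_one.mp (dvd_of_eq (by rw [← Subgroup.orderOf_coe]; exact hob))
    rw [← Finset.eq_of_subset_of_card_le hsub hc, Set.mem_toFinset] at hb2
    obtain ⟨i, hi⟩ := Subgroup.mem_zpowers_iff.mp hb2
    exact Subgroup.mem_zpowers_iff.mpr ⟨i, congrArg Subtype.val hi⟩
  by_cases hlayer : Cfsg.layer K = ⊥
  · left
    have hCF := CfsgLib.Layer.centralizer_pCore_le_iff.mpr ⟨hlayer, hO⟩
    have hab : ∀ a ∈ (P : Subgroup K), ∀ b ∈ (P : Subgroup K), a * b = b * a := fun a ha b hb => by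
      letI := hP.commGroup
      exact congrArg Subtype.val (mul_comm (⟨a, ha⟩ : (P : Subgroup K)) ⟨b, hb⟩)
    haveI := CfsgLib.Fitting.pCore_normal (G := K) p
    have hFP : Cfsg.pCore p K ≤ (P : Subgroup K) :=
      le_sup_right.trans (P.3 (P.2.to_sup_of_normal_right (CfsgLib.Fitting.pCore_isPGroup p)) le_sup_left).le
    have hPF : (P : Subgroup K) = Cfsg.pCore p K :=
      le_antisymm (fun a ha => hCF (Subgroup.mem_centralizer_iff.mpr fun b hb => hab b (hFP hb) a ha)) hFP
    have hPn : (P : Subgroup K).Normal := hPF ▸ inferInstance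
    have hCP : Subgroup.centralizer ((P : Subgroup K) : Set K) = (P : Subgroup K) := by
      refine le_antisymm ?_ fun a ha => Subgroup.mem_centralizer_iff.mpr fun b hb => hab b hb a ha
      rw [hPF]; exact hCF
    haveI := hPn
    let φ : K →* MulAut (P : Subgroup K) := MulAut.conjNormal
    have hker : φ.ker = (P : Subgroup K) := by
      refine le_antisymm (fun x hx => hCP.le (Subgroup.mem_centralizer_iff.mpr fun b hb => ?_)) fun x hx => ?_
      · have := congrArg (fun ψ : MulAut (P : Subgroup K) => ((ψ ⟨b, hb⟩ : (P : Subgroup K)) : K)) hx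
        exact (mul_inv_eq_iff_eq_mul.mp this).symm
      · refine MulEquiv.ext fun b => Subtype.ext ?_
        show x * (b : K) * x⁻¹ = b
        rw [hab x hx b b.2, mul_inv_cancel_right]
    let ψ : K ⧸ (P : Subgroup K) →* MulAut (P : Subgroup K) := QuotientGroup.lift _ φ hker.ge
    have hψ : Function.Injective ψ := by
      rw [injective_iff_map_eq_one]
      intro q hq
      obtain ⟨x, rfl⟩ := QuotientGroup.mk_surjective q
      exact (QuotientGroup.eq_one_iff x).mpr (hker.le hq)
    obtain ⟨e, he⟩ := IsPGroup.iff_card.mp P.2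
    have he1 : 0 < e := by
      rcases Nat.eq_zero_or_pos e with rfl | h
      · exact absurd (Subgroup.card_eq_one.mp he) (P.ne_bot_of_dvd_card hp)
      · exact h
    haveI := hP
    have hdvd : (P : Subgroup K).index ∣ p - 1 := by
      have h1 : (P : Subgroup K).index ∣ Nat.card (MulAut (P : Subgroup K)) := Subgroup.card_dvd_of_injective ψ hψ
      rw [Nat.card_congr (IsCyclic.mulAutMulEquiv (P : Subgroup K)).toEquiv, Nat.card_eq_fintype_card,
        ZMod.card_units_eq_totient, he, Nat.totient_prime_pow hpp he1] at h1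
      exact ((hpp.coprime_iff_not_dvd.mpr P.not_dvd_index).symm.pow_right _).dvd_of_dvd_mul_left h1
    refine ⟨hPn, hCP, fun _ => ?_, hdvd⟩
    by_cases hp2 : p = 2
    · subst hp2
      have : Subsingleton (K ⧸ (P : Subgroup K)) := (Nat.card_eq_one_iff_unique.mp (Nat.dvd_one.mp hdvd)).1
      exact isCyclic_of_subsingleton
    · haveI : IsCyclic (MulAut (P : Subgroup K)) := by
        haveI : IsCyclic (ZMod (Nat.card (P : Subgroup K)))ˣ := by
          rw [he]; exact ZMod.isCyclic_units_of_prime_pow p hpp hp2 e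
        exact isCyclic_of_surjective (IsCyclic.mulAutMulEquiv (P : Subgroup K)).symm.toMonoidHom
          (IsCyclic.mulAutMulEquiv (P : Subgroup K)).symm.surjective
      exact isCyclic_of_injective ψ hψ
  right
  obtain ⟨L, hL⟩ : ∃ L : Subgroup K, Cfsg.IsComponent L :=
    not_forall_not.mp fun h => hlayer (CfsgLib.Layer.layer_eq_bot_iff.mpr h)
  -- in a component, no element of order `p` is central
  have hmover : ∀ M : Subgroup K, Cfsg.IsComponent M → p ∣ Nat.card M ∧ ∃ t ∈ M, orderOf t = p ∧ ∃ n ∈ M, n * t ≠ t * n := by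
    intro M hM
    have hd : p ∣ Nat.card M := by
      by_contra hnd
      have h := CfsgLib.Layer.le_pPrimeCore_of_isSubnormal (p := p) hM.1 (hpp.coprime_iff_not_dvd.mpr hnd).symm
      rw [hO, le_bot_iff] at h
      exact CfsgLib.Layer.ne_bot_of_isComponent hM h
    refine ⟨hd, ?_⟩
    obtain ⟨T⟩ := (inferInstance : Nonempty (Sylow p M))
    obtain ⟨S, hS⟩ := (T.2.map M.subtype).exists_le_sylow
    haveI : IsCyclic (S : Subgroup K) := isCyclic_of_surjective (S.equiv P).symm.toMonoidHom (S.equiv P).symm.surjective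
    have hTc : IsCyclic (T : Subgroup M) := isCyclic_of_injective
      ((M.subtype.comp (T : Subgroup M).subtype).codRestrict (S : Subgroup K) fun x => hS ⟨x, x.2, rfl⟩)
      fun x y h => Subtype.ext (Subtype.ext (congrArg Subtype.val h :))
    haveI := hM.2.1
    obtain ⟨n, hn⟩ := exists_mover T hTc (not_npc_of_perfect hd)
    obtain ⟨t, ht⟩ := exists_prime_orderOf_dvd_card' (G := (T : Subgroup M)) p (by
      obtain ⟨j, hj⟩ := IsPGroup.iff_card.mp T.2
      rcases j with _ | j
      · exact absurd (Subgroup.card_eq_one.mp hj) (T.ne_bot_of_dvd_card hd)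
      · exact hj ▸ dvd_pow_self p j.succ_ne_zero)
    rw [← Subgroup.orderOf_coe, ← Subgroup.orderOf_coe] at ht
    refine ⟨_, (t : M).2, ht, n, n.2, fun h => ?_⟩
    have h' : n * (t : M) = (t : M) * n := Subtype.ext h
    have := hn ⊥ t t.2 (by rw [h', mul_inv_cancel_right, mul_inv_cancel]; exact one_mem _)
    rw [Subgroup.mem_bot] at this
    rw [this, Subgroup.coe_one, orderOf_one] at ht
    exact hpp.ne_one ht.symm
  -- the core is trivial
  have hpc : Cfsg.pCore p K = ⊥ := by
    by_contra hne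
    haveI := CfsgLib.Fitting.pCore_normal (G := K) p
    obtain ⟨-, t, htL, ht, n, hnL, hnt⟩ := hmover L hL
    haveI : Nontrivial (Cfsg.pCore p K) := (Subgroup.nontrivial_iff_ne_bot _).mpr hne
    obtain ⟨z, hz⟩ := exists_prime_orderOf_dvd_card' (G := Cfsg.pCore p K) p
      ((CfsgLib.Fitting.pCore_isPGroup p).card_eq_or_dvd.resolve_left Finite.one_lt_card.ne')
    rw [← Subgroup.orderOf_coe] at hz
    have hzt : t ∈ Cfsg.pCore p K := by
      have htp : IsPGroup p (Subgroup.zpowers t) := IsPGroup.of_card (n := 1) (by rw [Nat.card_zpowers, ht, pow_one])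
      exact Subgroup.zpowers_le.mpr z.2 (huniq _ ((CfsgLib.Fitting.pCore_isPGroup p).to_sup_of_normal_left htp)
        _ (Subgroup.mem_sup_left z.2) t (Subgroup.mem_sup_right (Subgroup.mem_zpowers t)) hz ht)
    haveI := (CfsgLib.Fitting.pCore_isPGroup (G := K) p).isNilpotent
    have h1 := Subgroup.commutator_eq_bot_iff_le_centralizer.mp
      (CfsgLib.Layer.commutator_eq_bot_of_isSolvable hL (inferInstance : Group.IsSolvable (Cfsg.pCore p K))
        Subgroup.le_normalizer_of_normal) hnL
    exact hnt (Subgroup.mem_centralizer_iff.mp h1 t hzt).symm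
  have hF : Cfsg.fittingSubgroup K = ⊥ := (CfsgLib.Layer.fittingSubgroup_eq_pCore hO).trans hpc
  have hone : ∀ M, Cfsg.IsComponent M → M = L := by
    intro M hM
    by_contra hne
    obtain ⟨-, t, htL, ht, n, hnL, hnt⟩ := hmover L hL
    obtain ⟨-, u, huM, hu, -⟩ := hmover M hM
    have hLM := Subgroup.commutator_eq_bot_iff_le_centralizer.mp (CfsgLib.Layer.commutator_eq_bot_of_ne hL hM (Ne.symm hne))
    have htu : Commute t u := (Subgroup.mem_centralizer_iff.mp (hLM htL) u huM).symm
    have hzp : ∀ v : K, orderOf v = p → IsPGroup p (Subgroup.zpowers v) := fun v hv =>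
      IsPGroup.of_card (n := 1) (by rw [Nat.card_zpowers, hv, pow_one])
    have hnorm : Subgroup.zpowers u ≤ Subgroup.normalizer ((Subgroup.zpowers t : Subgroup K) : Set K) := by
      rw [Subgroup.zpowers_le, Subgroup.mem_normalizer_iff_map_conj_eq, MonoidHom.map_zpowers]
      show Subgroup.zpowers (u * t * u⁻¹) = _
      rw [htu.eq.symm, mul_inv_cancel_right]
    have htM : t ∈ M := Subgroup.zpowers_le.mpr huM (huniq _ ((hzp t ht).to_sup_of_normal_left' (hzp u hu) hnorm) u
      (Subgroup.mem_sup_right (Subgroup.mem_zpowers u)) t (Subgroup.mem_sup_left (Subgroup.mem_zpowers t)) hu ht)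
    exact hnt (Subgroup.mem_centralizer_iff.mp (hLM hnL) t htM).symm
  have hFL : Cfsg.generalizedFittingSubgroup K = L := by
    show Cfsg.layer K ⊔ Cfsg.fittingSubgroup K = L
    rw [hF, sup_bot_eq]
    exact le_antisymm (sSup_le fun M hM => (hone M hM).le) (CfsgLib.Layer.isComponent_le_layer hL)
  haveI hLn : L.Normal := hFL ▸ CfsgLib.Layer.generalizedFitting_normal
  rw [hFL]
  have hZ : Subgroup.center L = ⊥ := by
    have hle : (Subgroup.center L).map L.subtype ≤ Cfsg.fittingSubgroup K := le_sSup ⟨inferInstance, by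
      haveI : IsMulCommutative ((Subgroup.center L).map L.subtype) := inferInstance
      letI : CommGroup ((Subgroup.center L).map L.subtype) :=
        { (inferInstance : Group ((Subgroup.center L).map L.subtype)) with mul_comm := mul_comm' }
      exact inferInstance⟩
    rwa [hF, le_bot_iff, Subgroup.map_eq_bot_iff_of_injective _ L.subtype_injective] at hle
  refine ⟨?_, fun h => CfsgLib.Layer.not_isSolvable_of_isComponent hL
    (Group.isSolvable_of_comm fun a b => h.1.comm a b), ?_⟩
  · haveI := hL.2.2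
    exact ((QuotientGroup.quotientMulEquivOfEq hZ).trans QuotientGroup.quotientBot).symm.isSimpleGroup
  · intro hd
    set H := L ⊔ (P : Subgroup K) with hH
    haveI : IsCyclic (P.subtype (le_sup_right : (P : Subgroup K) ≤ H) : Subgroup H) := by
      rw [Sylow.coe_subtype]
      exact isCyclic_of_surjective (Subgroup.subgroupOfEquivOfLe (le_sup_right : (P : Subgroup K) ≤ H)).symm.toMonoidHom
        (Subgroup.subgroupOfEquivOfLe (le_sup_right : (P : Subgroup K) ≤ H)).symm.surjective
    obtain ⟨n, hn⟩ := exists_mover (P.subtype (le_sup_right : (P : Subgroup K) ≤ H)) inferInstance (fun h => by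
      haveI := hL.2.1
      have hh := CfsgLib.Transfer.hasNormalPComplement_subgroup (L.subgroupOf H) h
      rw [CfsgLib.Transfer.hasNormalPComplement_congr (Subgroup.subgroupOfEquivOfLe le_sup_left)] at hh
      exact not_npc_of_perfect (hmover L hL).1 hh)
    have hPL : (P : Subgroup K) ≤ L := by
      intro a ha
      refine hn (L.subgroupOf H) ⟨a, Subgroup.mem_sup_right ha⟩ ha ?_
      show (n : K) * a * (n : K)⁻¹ * a⁻¹ ∈ L
      obtain ⟨l, hl, b, hb, hlb⟩ := Subgroup.mem_sup_of_normal_left.mp n.2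
      rw [← hlb, show l * b * a * (l * b)⁻¹ * a⁻¹ = l * (b * a * b⁻¹) * l⁻¹ * a⁻¹ by group]
      have hba : b * a * b⁻¹ = a := by
        letI := hP.commGroup
        rw [show b * a = a * b from congrArg Subtype.val (mul_comm (⟨b, hb⟩ : (P : Subgroup K)) ⟨a, ha⟩), mul_inv_cancel_right]
      rw [hba, show l * a * l⁻¹ * a⁻¹ = l * (a * l⁻¹ * a⁻¹) by group]
      exact mul_mem hl (hLn.conj_mem _ (inv_mem hl) a)
    exact P.not_dvd_index (hd.trans (Subgroup.index_dvd_of_le hPL))
end Cfsg.Agent.S4403
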