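import Cfsg.Statements.S4405
import Cfsg.Agent.Lib.PSolvable.Core
import Cfsg.Agent.Lib.PSolvable.Omega
-- import your own Cfsg.Agent.* helpers here

set_option autoImplicit false
set_option linter.style.haveILetI false
open Cfsg
open scoped commutatorElement

namespace Cfsg.Agent.S4405


theorem card_mul_relIndex_eq {G : Type*} [Group G] {H K : Subgroup G} (h : H ≤ K) :
    Nat.card H * H.relIndex K = Nat.card K := by
  have := (H.subgroupOf K).card_mul_index
  rwa [Nat.card_congr (Subgroup.subgroupOfEquivOfLe h).toEquiv] at this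

/-- The elements of `Q` fixed by conjugation with `g` modulo the central subgroup `Z`. -/
def fixMod {G : Type*} [Group G] (Q Z : Subgroup G) (hZ : ∀ c ∈ Z, ∀ q ∈ Q, q * c = c * q)
    (g : G) : Subgroup G where
  carrier := {q | q ∈ Q ∧ g * q * g⁻¹ * q⁻¹ ∈ Z}
  one_mem' := ⟨Q.one_mem, by simp⟩
  mul_mem' := by
    rintro a b ⟨ha, ha'⟩ ⟨hb, hb'⟩
    refine ⟨Q.mul_mem ha hb, ?_⟩
    have h := hZ _ hb' a ha
    rw [show g * (a * b) * g⁻¹ * (a * b)⁻¹ =
      (g * a * g⁻¹ * a⁻¹) * ((a * (g * b * g⁻¹ * b⁻¹)) * a⁻¹) by group, h, mul_inv_cancel_right]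
    exact Z.mul_mem ha' hb'
  inv_mem' := by
    rintro a ⟨ha, ha'⟩
    refine ⟨Q.inv_mem ha, ?_⟩
    have h := hZ _ (Z.inv_mem ha') a⁻¹ (Q.inv_mem ha)
    rw [show g * a⁻¹ * g⁻¹ * a⁻¹⁻¹ = (a⁻¹ * (g * a * g⁻¹ * a⁻¹)⁻¹) * a⁻¹⁻¹ by group, h,
      mul_inv_cancel_right]
    exact Z.inv_mem ha'

/-- The elements fixing `q` modulo a normal subgroup. -/
def stabMod {G : Type*} [Group G] (Z : Subgroup G) (hZ : Z.Normal) (q : G) : Subgroup G where
  carrier := {g | g * q * g⁻¹ * q⁻¹ ∈ Z}
  one_mem' := by simp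
  mul_mem' := by
    intro a b ha hb
    show a * b * q * (a * b)⁻¹ * q⁻¹ ∈ Z
    rw [show a * b * q * (a * b)⁻¹ * q⁻¹ =
      (a * (b * q * b⁻¹ * q⁻¹) * a⁻¹) * (a * q * a⁻¹ * q⁻¹) by group]
    exact Z.mul_mem (hZ.conj_mem _ hb a) ha
  inv_mem' := by
    intro a ha
    show a⁻¹ * q * a⁻¹⁻¹ * q⁻¹ ∈ Z
    rw [show a⁻¹ * q * a⁻¹⁻¹ * q⁻¹ = a⁻¹ * (a * q * a⁻¹ * q⁻¹)⁻¹ * a⁻¹⁻¹ by group]
    exact hZ.conj_mem _ (Z.inv_mem ha) _

/-- Let G be a finite group of order 320 = 64·5 whose largest normal 2-subgroup H = O₂(G) equals the Fitting subgroup F(G) and is extraspecial of order 32 containing no elementary abelian subgroup of order 8 (so H is the central product of a quaternion group and a dihedral group of order 8). If T is an involution of G outside H whose centralizer in H contains an elementary abelian subgroup of order 4, then C_H(T) itself is elementary abelian of order 4. -/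
theorem result {G : Type*} [Group G] [Finite G]
    (hG : Nat.card G = 320) (hHF : Cfsg.pCore 2 G = Cfsg.fittingSubgroup G)
    (hex : Cfsg.IsExtraspecial 2 ↥(Cfsg.pCore 2 G)) (h32 : Nat.card ↥(Cfsg.pCore 2 G) = 32)
    (hminus : ∀ A : Subgroup G, A ≤ Cfsg.pCore 2 G → Cfsg.IsElementaryAbelian 2 A → Nat.card ↥A ≤ 4)
    (T : G) (hT : orderOf T = 2) (hTH : T ∉ Cfsg.pCore 2 G)
    (V : Subgroup G) (hV : V ≤ Cfsg.pCore 2 G ⊓ Subgroup.centralizer ({T} : Set G)) (hV4 : Nat.card ↥V = 4) (hVe : Cfsg.IsElementaryAbelian 2 V) :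
    Nat.card ↥(Cfsg.pCore 2 G ⊓ Subgroup.centralizer ({T} : Set G)) = 4 ∧
      Cfsg.IsElementaryAbelian 2 (Cfsg.pCore 2 G ⊓ Subgroup.centralizer ({T} : Set G)) := by
  haveI hQn := CfsgLib.Fitting.pCore_normal (G := G) 2
  have hQp := CfsgLib.Fitting.pCore_isPGroup (G := G) 2
  have hQmax : ∀ N : Subgroup G, N.Normal → IsPGroup 2 N → N ≤ Cfsg.pCore 2 G :=
    fun N hn hp => CfsgLib.Fitting.le_pCore hn hp
  haveI : Fact (Nat.Prime 2) := ⟨Nat.prime_two⟩
  haveI h5 : Fact (Nat.Prime 5) := ⟨by norm_num⟩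
  set Q := Cfsg.pCore 2 G with hQdef
  have hC8 : ∀ A : Subgroup G, A ≤ Q → (∀ a ∈ A, a * a = 1) → Nat.card A ≤ 4 := by
    intro A hA ha
    refine hminus A hA ⟨⟨⟨fun a b => Subtype.ext ?_⟩⟩, fun a h => by rw [pow_two]; exact ha a h⟩
    show (a : G) * b = b * a
    have hai : ∀ u ∈ A, u⁻¹ = u := fun u hu => inv_eq_of_mul_eq_one_right (ha u hu)
    conv_rhs => rw [← hai _ a.2, ← hai _ b.2, ← mul_inv_rev, hai _ (A.mul_mem a.2 b.2)]
  -- the centre of `Q`
  set Z := (Subgroup.center ↥Q).map Q.subtype with hZdef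
  have hZQ : Z ≤ Q := Subgroup.map_subtype_le _
  have hZc : ∀ c ∈ Z, ∀ q ∈ Q, q * c = c * q := by
    rintro _ ⟨c, hc, rfl⟩ q hq
    exact congrArg Subtype.val (Subgroup.mem_center_iff.1 hc ⟨q, hq⟩)
  have hmemZ : ∀ c ∈ Q, (∀ q ∈ Q, q * c = c * q) → c ∈ Z := fun c hc h =>
    ⟨⟨c, hc⟩, Subgroup.mem_center_iff.2 fun q => Subtype.ext (h q q.2), rfl⟩
  have hZn : Z.Normal := ⟨fun c hc g => by
    refine hmemZ _ (hQn.conj_mem _ (hZQ hc) g) fun q hq => ?_
    have h := hZc c hc _ (hQn.conj_mem q hq g⁻¹)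
    rw [inv_inv] at h
    calc q * (g * c * g⁻¹) = g * ((g⁻¹ * q * g) * c) * g⁻¹ := by group
      _ = g * (c * (g⁻¹ * q * g)) * g⁻¹ := by rw [h]
      _ = g * c * g⁻¹ * q := by group⟩
  have hZ2 : Nat.card Z = 2 := by
    rw [hZdef, Subgroup.card_map_of_injective (Subgroup.subtype_injective Q)]
    exact hex.2
  have hZsq : ∀ c ∈ Z, c * c = 1 := by
    intro c hc
    have h := pow_card_eq_one' (G := Z) (x := ⟨c, hc⟩)
    rw [hZ2, pow_two] at h
    exact congrArg Subtype.val h
  have hfr := CfsgLib.PSolvable.commutator_le_frattini (K := ↥Q) hQp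
  have hsq : ∀ q ∈ Q, q * q ∈ Z := fun q hq =>
    ⟨⟨q, hq⟩ * ⟨q, hq⟩, by rw [← pow_two, ← hex.1.2.1]; exact hfr.2 _, rfl⟩
  have hcom : ∀ a ∈ Q, ∀ b ∈ Q, a * b * a⁻¹ * b⁻¹ ∈ Z := fun a ha b hb =>
    ⟨⁅(⟨a, ha⟩ : ↥Q), ⟨b, hb⟩⁆, by
      rw [← hex.1.2.2, commutator_def]
      exact Subgroup.commutator_mem_commutator (Subgroup.mem_top _) (Subgroup.mem_top _), rfl⟩
  have hTT : T * T = 1 := by rw [← pow_two, ← hT, pow_orderOf_eq_one]
  have hTi : T⁻¹ = T := inv_eq_of_mul_eq_one_right hTT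
  obtain ⟨x, hx⟩ := exists_prime_orderOf_dvd_card' 5 (show 5 ∣ Nat.card G by rw [hG]; norm_num)
  have hx5 : x ^ 5 = 1 := hx ▸ pow_orderOf_eq_one x
  have hxQ : x ∉ Q := fun h => by
    have := Subgroup.orderOf_dvd_natCard Q h
    rw [hx, h32] at this
    norm_num at this
  -- `T` inverts `x` modulo `Q`
  set π := QuotientGroup.mk' Q with hπ
  have hGQ : Nat.card (G ⧸ Q) = 10 := by
    have := Subgroup.card_eq_card_quotient_mul_card_subgroup Q
    rw [hG, h32] at this
    omega
  have hπx : orderOf (π x) = 5 := orderOf_eq_prime (by rw [← map_pow, hx5, map_one])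
    (fun h => hxQ ((QuotientGroup.eq_one_iff x).1 h))
  have hπT : orderOf (π T) = 2 := orderOf_eq_prime (by rw [← map_pow, pow_two, hTT, map_one])
    (fun h => hTH ((QuotientGroup.eq_one_iff T).1 h))
  have hq0 : T * x * T⁻¹ * x ∈ Q := by
    haveI : (Subgroup.zpowers (π x)).Normal := Subgroup.normal_of_index_eq_two (by
      have := (Subgroup.zpowers (π x)).card_mul_index
      rw [Nat.card_zpowers, hπx, hGQ] at this
      omega)
    obtain ⟨a, ha⟩ := Subgroup.mem_zpowers_iff.1
      ((inferInstance : (Subgroup.zpowers (π x)).Normal).conj_mem _ (Subgroup.mem_zpowers (π x)) (π T))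
    have haa : π x ^ (a * a) = π x := by
      rw [_root_.zpow_mul, ha, conj_zpow, ha, ← map_inv, hTi]
      calc π T * (π T * π x * π T) * π T = π (T * T) * π x * π (T * T) := by
            rw [map_mul]; group
        _ = π x := by rw [hTT, map_one, one_mul, mul_one]
    have hd : (5 : ℤ) ∣ (a - 1) * (a + 1) := by
      have h := orderOf_dvd_iff_zpow_eq_one (i := (a - 1) * (a + 1)).2 (show
        π x ^ ((a - 1) * (a + 1)) = 1 by
          rw [show (a - 1) * (a + 1) = a * a - 1 by ring, zpow_sub, haa, zpow_one, mul_inv_cancel])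
      rw [hπx] at h
      exact_mod_cast h
    rcases (Nat.prime_iff_prime_int.1 h5.out).dvd_mul.1 hd with h | h
    · exfalso
      -- then `T` would be central modulo `Q`
      have hc : π T * π x = π x * π T := by
        have h1 : π x ^ (a - 1) = 1 := orderOf_dvd_iff_zpow_eq_one.1 (by rw [hπx]; exact_mod_cast h)
        rw [zpow_sub, zpow_one, mul_inv_eq_one, ha] at h1
        exact mul_inv_eq_iff_eq_mul.1 h1
      have htop : Subgroup.centralizer ({π T} : Set (G ⧸ Q)) = ⊤ := by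
        refine Subgroup.eq_top_of_card_eq _ (Nat.dvd_antisymm (Subgroup.card_subgroup_dvd_card _) ?_)
        have h2 := Subgroup.orderOf_dvd_natCard (Subgroup.centralizer ({π T} : Set (G ⧸ Q)))
          (Subgroup.mem_centralizer_singleton_iff.2 (rfl : π T * π T = π T * π T))
        have h3 := Subgroup.orderOf_dvd_natCard (Subgroup.centralizer ({π T} : Set (G ⧸ Q)))
          (Subgroup.mem_centralizer_singleton_iff.2 hc.symm)
        rw [hπT] at h2
        rw [hπx] at h3
        rw [hGQ]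
        exact Nat.Coprime.mul_dvd_of_dvd_of_dvd (by norm_num) h2 h3
      haveI hn : (Subgroup.zpowers (π T)).Normal := by
        refine ⟨fun u hu g => ?_⟩
        obtain ⟨m, rfl⟩ := Subgroup.mem_zpowers_iff.1 hu
        have hg : g ∈ Subgroup.centralizer ({π T} : Set (G ⧸ Q)) := htop ▸ Subgroup.mem_top g
        rw [((Commute.zpow_right (Subgroup.mem_centralizer_singleton_iff.1 hg) m) :
          Commute g (π T ^ m)).eq, mul_inv_cancel_right]
        exact Subgroup.zpow_mem _ (Subgroup.mem_zpowers _) m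
      set N := (Subgroup.zpowers (π T)).comap π with hN
      refine hTH (hQmax N inferInstance (IsPGroup.of_card (n := 6) ?_) (Subgroup.mem_zpowers _))
      have h1 : N.index = 5 := by
        rw [hN, Subgroup.index_comap_of_surjective _ (QuotientGroup.mk'_surjective Q)]
        have := (Subgroup.zpowers (π T)).card_mul_index
        rw [Nat.card_zpowers, hπT, hGQ] at this
        omega
      have := N.card_mul_index
      rw [h1, hG] at this
      omega
    · have h1 : π x ^ (a + 1) = 1 := orderOf_dvd_iff_zpow_eq_one.1 (by rw [hπx]; exact_mod_cast h)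
      rw [zpow_add, zpow_one, ha] at h1
      refine (QuotientGroup.eq_one_iff _).1 ?_
      show π (T * x * T⁻¹ * x) = 1
      rw [map_mul, map_mul, map_mul, map_inv]
      exact h1
  -- `x` fixes nothing outside the centre
  set Y := Q ⊓ Subgroup.centralizer ({x} : Set G) with hY
  have hfixY : ∀ q ∈ Q, x * q * x⁻¹ * q⁻¹ ∈ Z → q ∈ Y := by
    intro q hq hc
    set c := x * q * x⁻¹ * q⁻¹ with hcdef
    have hstep : ∀ k : ℕ, x ^ k * q * (x ^ k)⁻¹ = c ^ k * q := by
      intro k
      induction k with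
      | zero => simp
      | succ k ih =>
        have hxc : x * c * x⁻¹ = c := by
          have hmem := hZn.conj_mem c hc x
          have h2 : ∀ u ∈ Z, u ≠ 1 → u = c ∨ c = 1 := fun u hu hu1 => by
            by_contra hne
            push Not at hne
            have h3 : ({1, u, c} : Set G) ⊆ Z := by
              rintro _ (rfl | rfl | rfl)
              exacts [Z.one_mem, hu, hc]
            have h4 := Set.ncard_le_ncard h3
            rw [Set.ncard_eq_three.2 ⟨1, u, c, Ne.symm hu1, Ne.symm hne.2, hne.1, rfl⟩,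
              ← Nat.card_coe_set_eq] at h4
            simp only [SetLike.coe_sort_coe, hZ2] at h4
            omega
          by_cases hc1 : c = 1
          · simp [hc1]
          · exact (h2 _ hmem (fun h => hc1 (conj_eq_one_iff.1 h))).resolve_right hc1
        calc x ^ (k + 1) * q * (x ^ (k + 1))⁻¹ = x * (x ^ k * q * (x ^ k)⁻¹) * x⁻¹ := by
              rw [pow_succ']; group
          _ = (x * c * x⁻¹) ^ k * (x * q * x⁻¹) := by rw [ih, conj_pow]; group
          _ = c ^ k * (c * q) := by rw [hxc, hcdef]; group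
          _ = c ^ (k + 1) * q := by rw [pow_succ]; group
    have h := hstep 5
    rw [hx5, one_mul, inv_one, mul_one, eq_comm, mul_eq_right,
      show c ^ 5 = (c * c) * (c * c) * c by simp only [pow_succ, pow_zero, one_mul, mul_assoc], hZsq c hc, one_mul, one_mul] at h
    refine ⟨hq, Subgroup.mem_centralizer_singleton_iff.2 ?_⟩
    rw [hcdef, mul_inv_eq_one, mul_inv_eq_iff_eq_mul] at h
    exact h.symm
  have hYZ : Y ≤ Z := by
    have hZY : Z ≤ Y := fun c hc => hfixY c (hZQ hc) (Z.mul_mem (hZn.conj_mem c hc x) (Z.inv_mem hc))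
    letI : MulAction ↥(Subgroup.zpowers x) ↥Q := MulAction.compHom _
      ((MulAut.conjNormal (H := Q)).comp (Subgroup.zpowers x).subtype)
    have hP : IsPGroup 5 ↥(Subgroup.zpowers x) :=
      IsPGroup.of_card (n := 1) (by rw [Nat.card_zpowers, hx, pow_one])
    have hsmul : ∀ (g : ↥(Subgroup.zpowers x)) (q : ↥Q),
        ((g • q : ↥Q) : G) = (g : G) * q * (g : G)⁻¹ := fun g q => rfl
    have hfp : Nat.card (MulAction.fixedPoints ↥(Subgroup.zpowers x) ↥Q) = Nat.card Y := by
      refine Nat.card_congr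
        { toFun := fun q => ⟨q.1, q.1.2, Subgroup.mem_centralizer_singleton_iff.2 ?_⟩
          invFun := fun q => ⟨⟨q, q.2.1⟩, fun g => Subtype.ext ?_⟩
          left_inv := fun q => rfl
          right_inv := fun q => rfl }
      · have h := congrArg Subtype.val (q.2 ⟨x, Subgroup.mem_zpowers x⟩)
        rw [hsmul] at h
        exact (mul_inv_eq_iff_eq_mul.1 h).symm
      · rw [hsmul]
        obtain ⟨m, hm⟩ := Subgroup.mem_zpowers_iff.1 g.2
        have hcm : Commute x (q : G) := (Subgroup.mem_centralizer_singleton_iff.1 q.2.2).symm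
        rw [← hm, (hcm.zpow_left m).eq, mul_inv_cancel_right]
    have hmod := hP.card_modEq_card_fixedPoints ↥Q
    rw [hfp, h32] at hmod
    have hd : Nat.card Y ∣ 2 ^ 5 := by
      have := Subgroup.card_dvd_of_le (inf_le_left : Y ≤ Q)
      rwa [h32] at this
    obtain ⟨i, hi, hYi⟩ := (Nat.dvd_prime_pow Nat.prime_two).1 hd
    have hcases : i = 1 ∨ i = 5 := by
      have h1 : 2 ≤ Nat.card Y := hZ2 ▸ Subgroup.card_le_of_le hZY
      rw [hYi] at hmod h1
      interval_cases i
      all_goals first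
        | exact Or.inl rfl
        | exact Or.inr rfl
        | (norm_num [Nat.ModEq] at hmod)
    rcases hcases with rfl | rfl
    · exact (Subgroup.eq_of_le_of_card_ge hZY (by rw [hYi, hZ2]; norm_num)).ge
    · exfalso
      apply hxQ
      haveI : Group.IsSolvable G := by
        haveI : Group.IsSolvable ↥Q := by
          haveI := hQp.isNilpotent
          infer_instance
        haveI : Group.IsSolvable (G ⧸ Q) := by
          haveI : (Subgroup.zpowers (π x)).Normal := Subgroup.normal_of_index_eq_two (by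
            have := (Subgroup.zpowers (π x)).card_mul_index
            rw [Nat.card_zpowers, hπx, hGQ] at this
            omega)
          haveI : IsCyclic ((G ⧸ Q) ⧸ Subgroup.zpowers (π x)) := by
            haveI : Fact (Nat.Prime 2) := ⟨Nat.prime_two⟩
            refine isCyclic_of_prime_card (p := 2) ?_
            have := Subgroup.card_eq_card_quotient_mul_card_subgroup (Subgroup.zpowers (π x))
            rw [Nat.card_zpowers, hπx, hGQ] at this
            omega
          letI := IsCyclic.commGroup (α := (G ⧸ Q) ⧸ Subgroup.zpowers (π x))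
          exact Group.isSolvable_of_ker_le_range (Subgroup.zpowers (π x)).subtype
            (QuotientGroup.mk' (Subgroup.zpowers (π x)))
            (by rw [QuotientGroup.ker_mk', Subgroup.range_subtype])
        exact Group.isSolvable_of_ker_le_range Q.subtype π
          (by rw [QuotientGroup.ker_mk', Subgroup.range_subtype])
      rw [hHF]
      refine CfsgLib.PSolvable.centralizer_fittingSubgroup_le ?_
      rw [← hHF, Subgroup.mem_centralizer_iff]
      intro q hq
      have : q ∈ Y := (Subgroup.eq_of_le_of_card_ge (inf_le_left : Y ≤ Q)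
        (by rw [hYi, h32]; norm_num)).ge hq
      exact Subgroup.mem_centralizer_singleton_iff.1 this.2
  -- fixed points of `T` modulo the centre
  set W := fixMod Q Z hZc T with hW
  have hWQ : W ≤ Q := fun q hq => hq.1
  have hZW : Z ≤ W := fun c hc => ⟨hZQ hc, Z.mul_mem (hZn.conj_mem c hc T) (Z.inv_mem hc)⟩
  have hWcard : Nat.card W ≤ 8 := by
    set W' := W.map (MulAut.conj x⁻¹).toMonoidHom with hW'
    have hW'Q : W' ≤ Q := by
      rintro _ ⟨q, hq, rfl⟩
      exact hQn.conj_mem q (hWQ hq) x⁻¹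
    have hinf : W ⊓ W' ≤ Z := by
      rintro q ⟨hq, r, hr, hrq⟩
      have hrq' : r = x * q * x⁻¹ := by
        rw [← hrq]; simp [mul_assoc]
      set S' := stabMod Z hZn q with hS'
      have hTS : T ∈ S' := hq.2
      have hqS : ∀ u ∈ Q, u ∈ S' := fun u hu => hcom u hu q hq.1
      have hTxS : x⁻¹ * T * x ∈ S' := by
        show x⁻¹ * T * x * q * (x⁻¹ * T * x)⁻¹ * q⁻¹ ∈ Z
        have h := hZn.conj_mem _ hr.2 x⁻¹
        convert h using 1
        rw [hrq']
        group
      have h1 : (x * (T * x * T⁻¹ * x)⁻¹ * x⁻¹)⁻¹ * (T * (x⁻¹ * T * x)) = x ^ 2 := by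
        rw [show T * (x⁻¹ * T * x) = T * (x⁻¹ * T⁻¹ * x) by rw [hTi], pow_two]
        group
      have h2 : x ^ 2 ∈ S' := h1 ▸ S'.mul_mem
        (S'.inv_mem (hqS _ (hQn.conj_mem _ (Q.inv_mem hq0) x))) (S'.mul_mem hTS hTxS)
      have h3 : x ∈ S' := by
        have h4 := S'.pow_mem h2 3
        rwa [← pow_mul, show 2 * 3 = 5 + 1 by norm_num, pow_succ, hx5, one_mul] at h4
      exact hYZ (hfixY q hq.1 h3)
    have h1 : W'.relIndex W ≤ W'.relIndex Q := Subgroup.relIndex_le_of_le_right hWQ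
      (by rw [Subgroup.relIndex]; exact Subgroup.index_ne_zero_of_finite)
    have h2 : Nat.card ↥(W ⊓ W') * W'.relIndex W = Nat.card W := by
      rw [← Subgroup.inf_relIndex_left]
      exact card_mul_relIndex_eq inf_le_left
    have h3 : Nat.card W' * W'.relIndex Q = 32 := h32 ▸ card_mul_relIndex_eq hW'Q
    have h4 : Nat.card ↥(W ⊓ W') ≤ 2 := hZ2 ▸ Subgroup.card_le_of_le hinf
    have h5 : Nat.card W' = Nat.card W :=
      Subgroup.card_map_of_injective (MulAut.conj x⁻¹).injective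
    rw [h5] at h3
    nlinarith [Nat.mul_le_mul h4 h1]
  set C := Q ⊓ Subgroup.centralizer ({T} : Set G) with hC
  have hCW : C ≤ W := fun q hq => ⟨hq.1, by
    rw [← Subgroup.mem_centralizer_singleton_iff.1 hq.2, mul_inv_cancel_right, mul_inv_cancel]
    exact Z.one_mem⟩
  have hVC : V ≤ C := hV
  have h4 : 4 ≤ Nat.card C := hV4 ▸ Subgroup.card_le_of_le hVC
  have hle : Nat.card C ≤ 4 := by
    by_contra hgt
    obtain ⟨i, -, hCi⟩ := (Nat.dvd_prime_pow Nat.prime_two).1
      (show Nat.card C ∣ 2 ^ 5 by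
        have := Subgroup.card_dvd_of_le (inf_le_left : C ≤ Q); rwa [h32] at this)
    have h8 : 8 ≤ Nat.card C := by
      rw [hCi] at hgt ⊢
      have : 3 ≤ i := by
        by_contra h
        interval_cases i <;> norm_num at hgt
      exact le_trans (by norm_num) (Nat.pow_le_pow_right two_pos this)
    have hCW' : C = W := Subgroup.eq_of_le_of_card_ge hCW (hWcard.trans h8)
    refine absurd (hC8 C inf_le_left fun c hc => ?_) hgt
    -- every coset of `Z` in `W` contains an involution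
    have hw : ∀ q ∈ Q, q⁻¹ * (T * q * T⁻¹) ∈ W := by
      intro q hq
      refine ⟨Q.mul_mem (Q.inv_mem hq) (hQn.conj_mem q hq T), ?_⟩
      have h := hsq _ (Q.inv_mem (Q.mul_mem (Q.inv_mem hq) (hQn.conj_mem q hq T)))
      convert h using 1
      rw [hTi]
      calc T * (q⁻¹ * (T * q * T)) * T * (q⁻¹ * (T * q * T))⁻¹
          = (T * q⁻¹ * T) * q * (T * T) * (q⁻¹ * (T * q * T))⁻¹ := by group
        _ = (T⁻¹ * q⁻¹ * T⁻¹) * q * (q⁻¹ * (T * q * T))⁻¹ := by rw [hTT, mul_one, hTi]
        _ = _ := by group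
    let θ : ↥Q ⧸ W.subgroupOf Q → ↥W ⧸ Z.subgroupOf W := fun k =>
      QuotientGroup.mk ⟨(k.out : G)⁻¹ * (T * (k.out : G) * T⁻¹), hw _ k.out.2⟩
    have hθ : Function.Injective θ := by
      intro k l hkl
      rw [← QuotientGroup.out_eq' k, ← QuotientGroup.out_eq' l, QuotientGroup.eq]
      have h := QuotientGroup.eq.1 hkl
      rw [Subgroup.mem_subgroupOf] at h ⊢
      set a := (k.out : G) with ha
      set b := (l.out : G) with hb
      have haQ : a ∈ Q := k.out.2
      have hbQ : b ∈ Q := l.out.2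
      have hu : b * a⁻¹ ∈ W := by
        refine ⟨Q.mul_mem hbQ (Q.inv_mem haQ), ?_⟩
        have h1 : T * (b * a⁻¹) * T⁻¹ * (b * a⁻¹)⁻¹ =
            b * ((b⁻¹ * (T * b * T⁻¹)) * (a⁻¹ * (T * a * T⁻¹))⁻¹) * b⁻¹ := by group
        rw [h1]
        refine hZn.conj_mem _ ?_ b
        have h2 : (a⁻¹ * (T * a * T⁻¹))⁻¹ * (b⁻¹ * (T * b * T⁻¹)) ∈ Z := h
        have h3 := hZn.conj_mem _ h2 (a⁻¹ * (T * a * T⁻¹))
        rwa [mul_inv_cancel_left] at h3
      have h4 : a⁻¹ * b = (b * a⁻¹) * ((b * a⁻¹)⁻¹ * a⁻¹ * (b * a⁻¹) * a) := by group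
      show (a⁻¹ * b : G) ∈ W
      rw [h4]
      refine W.mul_mem hu (hZW ?_)
      have h5 := hcom (b * a⁻¹)⁻¹ (Q.inv_mem (Q.mul_mem hbQ (Q.inv_mem haQ))) a⁻¹ (Q.inv_mem haQ)
      simpa only [inv_inv] using h5
    have hc8 : Nat.card W = 8 := le_antisymm hWcard (hCW' ▸ h8)
    have hq1 : Nat.card (↥Q ⧸ W.subgroupOf Q) = 4 := by
      have := Subgroup.card_eq_card_quotient_mul_card_subgroup (W.subgroupOf Q)
      rw [h32, Nat.card_congr (Subgroup.subgroupOfEquivOfLe hWQ).toEquiv, hc8] at this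
      omega
    have hq2 : Nat.card (↥W ⧸ Z.subgroupOf W) = 4 := by
      have := Subgroup.card_eq_card_quotient_mul_card_subgroup (Z.subgroupOf W)
      rw [hc8, Nat.card_congr (Subgroup.subgroupOfEquivOfLe hZW).toEquiv, hZ2] at this
      omega
    have hsurj := ((Nat.bijective_iff_injective_and_card θ).2 ⟨hθ, hq1.trans hq2.symm⟩).2
    obtain ⟨k, hk⟩ := hsurj (QuotientGroup.mk ⟨c, hCW hc⟩)
    have hz := QuotientGroup.eq.1 hk
    rw [Subgroup.mem_subgroupOf] at hz
    set w := (k.out : G)⁻¹ * (T * (k.out : G) * T⁻¹) with hwdef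
    have hwC : w ∈ C := hCW'.ge (hw _ k.out.2)
    have hww : w * w = 1 := by
      have h1 : T * w * T⁻¹ = w := by
        rw [← Subgroup.mem_centralizer_singleton_iff.1 hwC.2, mul_inv_cancel_right]
      have h2 : T * w * T⁻¹ = w⁻¹ := by
        rw [hwdef, hTi]
        calc T * ((k.out : G)⁻¹ * (T * (k.out : G) * T)) * T
            = (T * (k.out : G)⁻¹ * T) * (k.out : G) * (T * T) := by group
          _ = (T⁻¹ * (k.out : G)⁻¹ * T⁻¹) * (k.out : G) := by rw [hTT, mul_one, hTi]
          _ = _ := by group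
      calc w * w = w⁻¹ * w := by rw [← h2, h1]
        _ = 1 := inv_mul_cancel w
    have hz' : w⁻¹ * c ∈ Z := hz
    calc c * c = (w * (w⁻¹ * c)) * (w * (w⁻¹ * c)) := by group
      _ = w * ((w⁻¹ * c) * w) * (w⁻¹ * c) := by group
      _ = w * (w * (w⁻¹ * c)) * (w⁻¹ * c) := by rw [← hZc _ hz' w hwC.1]
      _ = (w * w) * ((w⁻¹ * c) * (w⁻¹ * c)) := by group
      _ = 1 := by rw [hww, hZsq _ hz', one_mul]
  have hcard : Nat.card C = 4 := le_antisymm hle h4
  exact ⟨hcard, (Subgroup.eq_of_le_of_card_ge hVC (by rw [hcard, hV4])) ▸ hVe⟩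

end Cfsg.Agent.S4405
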