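import Cfsg.Statements.S4406
import Mathlib
-- import your own Cfsg.Agent.* helpers here

set_option autoImplicit false
open Cfsg

namespace Cfsg.Agent.S4406

set_option maxRecDepth 100000 in
set_option maxHeartbeats 4000000 in
set_option synthInstance.maxSize 4000 in
theorem three_cycle_involutions_aux : ∀ q : ↥(alternatingGroup (Fin 4)), (q ≠ 1 ∧ q * q * q = 1) →
    ∀ u : ↥(alternatingGroup (Fin 4)), (u ≠ 1 ∧ u * u = 1) →
    ∀ v : ↥(alternatingGroup (Fin 4)), (v ≠ 1 ∧ v * v = 1 ∧ u ≠ v) →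
    (q * u * q⁻¹ = v ∧ q * v * q⁻¹ = u * v ∧ q⁻¹ * u * q = u * v ∧ q⁻¹ * v * q = u) ∨
      (q * u * q⁻¹ = u * v ∧ q * v * q⁻¹ = u ∧ q⁻¹ * u * q = v ∧ q⁻¹ * v * q = u * v) := by
  decide +kernel

theorem three_cycle_involutions (q u v : ↥(alternatingGroup (Fin 4))) (h1 : q ≠ 1) (h2 : q * q * q = 1)
    (h3 : u ≠ 1) (h4 : u * u = 1) (h5 : v ≠ 1) (h6 : v * v = 1) (h7 : u ≠ v) :
    (q * u * q⁻¹ = v ∧ q * v * q⁻¹ = u * v ∧ q⁻¹ * u * q = u * v ∧ q⁻¹ * v * q = u) ∨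
      (q * u * q⁻¹ = u * v ∧ q * v * q⁻¹ = u ∧ q⁻¹ * u * q = v ∧ q⁻¹ * v * q = u * v) :=
  three_cycle_involutions_aux q ⟨h1, h2⟩ u ⟨h3, h4⟩ v ⟨h5, h6, h7⟩


/-- In the direct product P = A₄ × A₄, let X be the Sylow 2-subgroup, X₁ and X₂ its intersections with the two direct factors, Q a Sylow 3-subgroup and Q₁, Q₂ its intersections with the two factors. Then every subgroup B of X of order 4 either meets X₁ or X₂ nontrivially, or is normalized by one of the two subgroups of Q of order 3 other than Q₁ and Q₂. -/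
theorem result
    (X : Sylow 2 (↥(alternatingGroup (Fin 4)) × ↥(alternatingGroup (Fin 4))))
    (Q : Sylow 3 (↥(alternatingGroup (Fin 4)) × ↥(alternatingGroup (Fin 4))))
    (B : Subgroup (↥(alternatingGroup (Fin 4)) × ↥(alternatingGroup (Fin 4)))) (hBX : B ≤ (X : Subgroup _)) (hB4 : Nat.card ↥B = 4) :
    B ⊓ ((X : Subgroup _) ⊓ Subgroup.prod ⊤ ⊥) ≠ ⊥ ∨ B ⊓ ((X : Subgroup _) ⊓ Subgroup.prod ⊥ ⊤) ≠ ⊥ ∨
      ∃ R : Subgroup (↥(alternatingGroup (Fin 4)) × ↥(alternatingGroup (Fin 4))), R ≤ (Q : Subgroup _) ∧ Nat.card ↥R = 3 ∧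
        R ≠ (Q : Subgroup _) ⊓ Subgroup.prod ⊤ ⊥ ∧ R ≠ (Q : Subgroup _) ⊓ Subgroup.prod ⊥ ⊤ ∧ R ≤ Subgroup.normalizer (B : Set _) := by
  classical
  let A := ↥(alternatingGroup (Fin 4))
  have hcard : Nat.card (A × A) = 144 := by
    rw [Nat.card_prod, Nat.card_eq_fintype_card]; rfl
  have : Fact (Nat.Prime 2) := ⟨Nat.prime_two⟩
  have : Fact (Nat.Prime 3) := ⟨Nat.prime_three⟩
  have hf2 : ∀ x : A, x * x * x * x = 1 → x * x = 1 := by decide +kernel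
  have hB : ∀ b ∈ B, b * b = 1 := fun b hb => by
    have h4 : b ^ 4 = 1 := by
      have := pow_card_eq_one' (G := B) (x := ⟨b, hb⟩)
      rw [hB4] at this
      exact congrArg Subtype.val this
    simp only [pow_succ, pow_zero, one_mul] at h4
    exact Prod.ext (hf2 _ (congrArg Prod.fst h4)) (hf2 _ (congrArg Prod.snd h4))
  by_contra hno
  push Not at hno
  obtain ⟨h1, h2, h3⟩ := hno
  have hn1 : ∀ b ∈ B, b.2 = 1 → b = 1 := fun b hb h => (Subgroup.mem_bot).mp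
    (h1 ▸ ⟨hb, hBX hb, ⟨Subgroup.mem_top _, Subgroup.mem_bot.mpr h⟩⟩)
  have hn2 : ∀ b ∈ B, b.1 = 1 → b = 1 := fun b hb h => (Subgroup.mem_bot).mp
    (h2 ▸ ⟨hb, hBX hb, ⟨Subgroup.mem_bot.mpr h, Subgroup.mem_top _⟩⟩)
  obtain ⟨b, hb, hb1⟩ : ∃ b ∈ B, b ≠ 1 := by
    have : Nontrivial B := Finite.one_lt_card_iff_nontrivial.mp (by rw [hB4]; norm_num)
    obtain ⟨⟨b, hb⟩, hne⟩ := exists_ne (1 : B)
    exact ⟨b, hb, fun h => hne (Subtype.ext h)⟩
  obtain ⟨c, hc, hc1, hcb⟩ : ∃ c ∈ B, c ≠ 1 ∧ c ≠ b := by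
    by_contra! h
    have hle : Nat.card B ≤ 2 := by
      rw [← SetLike.coe_sort_coe, Nat.card_coe_set_eq]
      refine (Set.ncard_le_ncard (t := {1, b}) (fun x hx => ?_) (Set.toFinite _)).trans (Set.ncard_insert_le _ _ |>.trans (by simp))
      by_cases hx1 : x = 1
      · exact Or.inl hx1
      · exact Or.inr (h x hx hx1)
    omega
  have hbne : b.1 ≠ 1 ∧ b.2 ≠ 1 := ⟨fun h => hb1 (hn2 b hb h), fun h => hb1 (hn1 b hb h)⟩
  have hcne : c.1 ≠ 1 ∧ c.2 ≠ 1 := ⟨fun h => hc1 (hn2 c hc h), fun h => hc1 (hn1 c hc h)⟩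
  have hne : b.1 ≠ c.1 ∧ b.2 ≠ c.2 := by
    constructor
    · intro h
      have := hn2 _ (mul_mem hb hc) (by rw [Prod.fst_mul, ← h]; exact congrArg Prod.fst (hB b hb))
      exact hcb (mul_left_cancel (this.trans (hB b hb).symm))
    · intro h
      have := hn1 _ (mul_mem hb hc) (by rw [Prod.snd_mul, ← h]; exact congrArg Prod.snd (hB b hb))
      exact hcb (mul_left_cancel (this.trans (hB b hb).symm))
  obtain ⟨q₁, q₂, hq, hq₁, hq₂⟩ : ∃ q₁ q₂ : A, ((q₁, 1) ∈ (Q : Subgroup (A × A)) ∧ (1, q₂) ∈ (Q : Subgroup (A × A))) ∧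
      (q₁ ≠ 1 ∧ q₁ * q₁ * q₁ = 1) ∧ (q₂ ≠ 1 ∧ q₂ * q₂ * q₂ = 1) := by
    have hQ : Nat.card (Q : Subgroup (A × A)) = 9 := by
      rw [Q.card_eq_multiplicity, hcard, show (144 : ℕ) = 16 * 3 ^ 2 by norm_num,
        Nat.factorization_mul (by norm_num) (by norm_num), Nat.prime_three.factorization_pow, Finsupp.add_apply,
        Nat.factorization_eq_zero_of_not_dvd (by norm_num : ¬ 3 ∣ 16), Finsupp.single_eq_same]
      norm_num
    let P1 := (Q : Subgroup (A × A)).map (MonoidHom.fst A A)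
    let P2 := (Q : Subgroup (A × A)).map (MonoidHom.snd A A)
    have hdiv : ∀ H : Subgroup A, Nat.card H ∣ 9 → Nat.card H ≤ 3 := fun H h => by
      have h12 := H.card_subgroup_dvd_card
      rw [show Nat.card A = 12 by rw [Nat.card_eq_fintype_card]; rfl] at h12
      exact Nat.le_of_dvd (by norm_num) ((Nat.dvd_gcd h h12).trans (by norm_num))
    have hd1 : Nat.card P1 ≤ 3 := hdiv _ (hQ ▸ Subgroup.card_map_dvd _ _)
    have hd2 : Nat.card P2 ≤ 3 := hdiv _ (hQ ▸ Subgroup.card_map_dvd _ _)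
    have hle : (Q : Subgroup (A × A)) ≤ P1.prod P2 := fun x hx =>
      ⟨⟨x, hx, rfl⟩, ⟨x, hx, rfl⟩⟩
    have hc : Nat.card (P1.prod P2) = Nat.card P1 * Nat.card P2 := by
      rw [← Nat.card_prod]; exact Nat.card_congr (Subgroup.prodEquiv P1 P2).toEquiv
    have h9 := Subgroup.card_le_of_le hle
    rw [hQ, hc] at h9
    have h31 : Nat.card P1 = 3 := by nlinarith
    have h32 : Nat.card P2 = 3 := by nlinarith
    have heq := Subgroup.eq_of_le_of_card_ge hle (by rw [hQ, hc, h31, h32])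
    obtain ⟨x, hx⟩ := exists_prime_orderOf_dvd_card' (G := P1) 3 (by rw [h31])
    obtain ⟨y, hy⟩ := exists_prime_orderOf_dvd_card' (G := P2) 3 (by rw [h32])
    refine ⟨x, y, ⟨heq ▸ ⟨x.2, one_mem _⟩, heq ▸ ⟨one_mem _, y.2⟩⟩, ⟨?_, ?_⟩, ?_, ?_⟩
    · rintro h; rw [OneMemClass.coe_eq_one.mp h, orderOf_one] at hx; norm_num at hx
    · have := congrArg Subtype.val (orderOf_dvd_iff_pow_eq_one.mp (dvd_of_eq hx))
      simpa [pow_succ] using this
    · rintro h; rw [OneMemClass.coe_eq_one.mp h, orderOf_one] at hy; norm_num at hy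
    · have := congrArg Subtype.val (orderOf_dvd_iff_pow_eq_one.mp (dvd_of_eq hy))
      simpa [pow_succ] using this
  have finish : ∀ q : A × A, q ∈ (Q : Subgroup (A × A)) → q.1 ≠ 1 → q.2 ≠ 1 → q * q * q = 1 →
      q * b * q⁻¹ ∈ B → q * c * q⁻¹ ∈ B → False := by
    intro q hqQ hqa hqb hq3 hqb' hqc'
    have ho : orderOf q = 3 := orderOf_eq_prime (by simpa [pow_succ] using hq3)
      (fun h => hqa (congrArg Prod.fst h))
    have hB' : B = Subgroup.closure {b, c} := by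
      refine (Subgroup.eq_of_le_of_card_ge ((Subgroup.closure_le _).mpr ?_) ?_).symm
      · rintro x (rfl | rfl); exacts [hb, hc]
      · rw [hB4]
        have hbc : b * c ≠ 1 ∧ b * c ≠ b ∧ b * c ≠ c := ⟨fun h => hcb (mul_left_cancel (h.trans (hB b hb).symm)),
          fun h => hc1 (mul_eq_left.mp h), fun h => hb1 (mul_eq_right.mp h)⟩
        rw [← SetLike.coe_sort_coe, Nat.card_coe_set_eq]
        refine le_trans ?_ (Set.ncard_le_ncard (s := {1, b, c, b * c}) ?_ (Set.toFinite _))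
        · rw [Set.ncard_insert_of_notMem, Set.ncard_insert_of_notMem, Set.ncard_pair] <;>
            simp [hbc.1.symm, hbc.2.1.symm, hbc.2.2.symm, hb1.symm, hc1.symm, hcb.symm]
        · rintro x (rfl | rfl | rfl | rfl)
          · exact one_mem _
          · exact Subgroup.subset_closure (by simp)
          · exact Subgroup.subset_closure (by simp)
          · exact mul_mem (Subgroup.subset_closure (by simp)) (Subgroup.subset_closure (by simp))
    refine h3 (Subgroup.zpowers q) (Subgroup.zpowers_le.mpr hqQ) (by rw [Nat.card_zpowers, ho]) ?_ ?_ ?_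
    · exact fun h => hqb (Subgroup.mem_bot.mp (show q ∈ (Q : Subgroup (A × A)) ⊓ Subgroup.prod ⊤ ⊥ from h ▸ Subgroup.mem_zpowers q).2.2)
    · exact fun h => hqa (Subgroup.mem_bot.mp (show q ∈ (Q : Subgroup (A × A)) ⊓ Subgroup.prod ⊥ ⊤ from h ▸ Subgroup.mem_zpowers q).2.1)
    · rw [Subgroup.zpowers_le, Subgroup.mem_normalizer_iff_map_conj_eq]
      refine Subgroup.eq_of_le_of_card_ge ?_ (by rw [Subgroup.card_map_of_injective (MulAut.conj q).injective])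
      rw [hB', MonoidHom.map_closure, Subgroup.closure_le, ← hB']
      rintro _ ⟨x, (rfl | rfl), rfl⟩
      exacts [hqb', hqc']
  have l1 := three_cycle_involutions q₁ b.1 c.1 hq₁.1 hq₁.2 hbne.1 (congrArg Prod.fst (hB b hb)) hcne.1
    (congrArg Prod.fst (hB c hc)) hne.1
  have l2 := three_cycle_involutions q₂ b.2 c.2 hq₂.1 hq₂.2 hbne.2 (congrArg Prod.snd (hB b hb)) hcne.2
    (congrArg Prod.snd (hB c hc)) hne.2
  have hP : ((q₁, q₂) : A × A) ∈ (Q : Subgroup (A × A)) := by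
    have := mul_mem hq.1 hq.2
    simpa using this
  have hP' : ((q₁, q₂⁻¹) : A × A) ∈ (Q : Subgroup (A × A)) := by
    have := mul_mem hq.1 (inv_mem hq.2)
    simpa using this
  have h3' : q₂⁻¹ * q₂⁻¹ * q₂⁻¹ = 1 := by
    rw [← mul_inv_rev, ← mul_inv_rev, ← mul_assoc, hq₂.2, inv_one]
  have mk : ∀ (q r : A) (x : A × A) (y : A × A), q * x.1 * q⁻¹ = y.1 → r * x.2 * r⁻¹ = y.2 →
      y ∈ B → ((q, r) : A × A) * x * (q, r)⁻¹ ∈ B := fun q r x y e1 e2 hy => by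
    rwa [show ((q, r) : A × A) * x * (q, r)⁻¹ = y from Prod.ext e1 e2]
  rcases l1 with ⟨a1, a2, -, -⟩ | ⟨a1, a2, -, -⟩ <;>
    rcases l2 with ⟨d1, d2, d3, d4⟩ | ⟨d1, d2, d3, d4⟩
  · exact finish _ hP hq₁.1 hq₂.1 (Prod.ext hq₁.2 hq₂.2) (mk _ _ b c a1 d1 hc) (mk _ _ c (b * c) a2 d2 (mul_mem hb hc))
  · exact finish _ hP' hq₁.1 (show (q₂⁻¹ : A) ≠ 1 from inv_ne_one.mpr hq₂.1) (Prod.ext hq₁.2 h3') (mk _ _ b c a1 (by rw [inv_inv]; exact d3) hc)
      (mk _ _ c (b * c) a2 (by rw [inv_inv]; exact d4) (mul_mem hb hc))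
  · exact finish _ hP' hq₁.1 (show (q₂⁻¹ : A) ≠ 1 from inv_ne_one.mpr hq₂.1) (Prod.ext hq₁.2 h3') (mk _ _ b (b * c) a1 (by rw [inv_inv]; exact d3) (mul_mem hb hc))
      (mk _ _ c b a2 (by rw [inv_inv]; exact d4) hb)
  · exact finish _ hP hq₁.1 hq₂.1 (Prod.ext hq₁.2 hq₂.2) (mk _ _ b (b * c) a1 d1 (mul_mem hb hc)) (mk _ _ c b a2 d2 hb)

end Cfsg.Agent.S4406
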