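import Cfsg.Statements.S4407
import Cfsg.Agent.Lib.NineDihedral.Module

set_option autoImplicit false
open Cfsg

namespace Cfsg.Agent.S4407

/-- Let S be a finite group with a normal elementary abelian subgroup A of order 9 that is self-centralizing (C_S(A) = A), and a dihedral subgroup X of order 8 with S = AX. Let M be a finite-dimensional module for S over the field with two elements that is faithful and irreducible. Then M has 16 elements, and X contains exactly one subgroup B of order 4 and exponent 2 whose fixed points on M form a subspace with exactly 2 elements (equivalently, M is free of rank one over the group algebra of B). -/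
theorem result {S : Type*} [Group S] [Finite S]
    (A : Subgroup S) [A.Normal] (hA : Cfsg.IsElementaryAbelian 3 A) (hA9 : Nat.card ↥A = 9)
    (hAC : Subgroup.centralizer (A : Set S) = A) (X : Subgroup S) (hX : Nonempty (↥X ≃* DihedralGroup 4)) (hAX : A ⊔ X = ⊤)
    {M : Type*} [AddCommGroup M] [Module (ZMod 2) M] [Finite M] (ρ : Representation (ZMod 2) S M)
    (hfaith : Function.Injective ρ)
    (hirr : ∀ N : Submodule (ZMod 2) M, (∀ s : S, ∀ m ∈ N, ρ s m ∈ N) → N = ⊥ ∨ N = ⊤) (hM : Nontrivial M) :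
    Nat.card M = 16 ∧
      ∃! B : Subgroup S, B ≤ X ∧ Nat.card ↥B = 4 ∧ (∀ b ∈ B, b ^ 2 = 1) ∧
        Nat.card {m : M // ∀ b ∈ B, ρ b m = m} = 2 := by
  classical
  have hcomm : ∀ a ∈ A, ∀ b ∈ A, a * b = b * a := fun a ha b hb =>
    congrArg Subtype.val (hA.1.is_comm.comm ⟨a, ha⟩ ⟨b, hb⟩)
  have h3 := hA.2
  have hC : ∀ x : S, (∀ a ∈ A, MulAut.conj x a = a) → x ∈ A := fun x hx => by
    have : x ∈ Subgroup.centralizer (A : Set S) :=
      Subgroup.mem_centralizer_iff.2 fun a ha => (CfsgLib.NineDihedral.conj_eq (hx a ha)).symm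
    rwa [hAC] at this
  obtain ⟨e⟩ := hX
  let ψ : DihedralGroup 4 →* S := X.subtype.comp e.symm.toMonoidHom
  have hψX : ∀ y, ψ y ∈ X := fun y => (e.symm y).2
  have hψinj : Function.Injective ψ := Subtype.val_injective.comp e.symm.injective
  have hψsurj : ∀ x ∈ X, ∃ y, ψ y = x := fun x hx => ⟨e ⟨x, hx⟩, congrArg Subtype.val (e.symm_apply_apply _)⟩
  have hXA : ∀ y, ψ y ∈ A → y = 1 := fun y hy => by
    have h1 : orderOf y ∣ 3 := by
      refine orderOf_dvd_of_pow_eq_one (hψinj ?_)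
      rw [map_pow, map_one]; exact h3 _ hy
    have h2 : orderOf y ∣ 8 := by
      have := orderOf_dvd_natCard y
      rwa [DihedralGroup.nat_card] at this
    exact orderOf_eq_one_iff.1 (Nat.eq_one_of_dvd_coprimes (by norm_num : Nat.Coprime 3 8) h1 h2)
  set t := ψ (DihedralGroup.sr 0) with htdef
  set u := ψ (DihedralGroup.sr 1) with hudef
  set z := ψ (DihedralGroup.r 2) with hzdef
  have hz1 : u * t * (u * t) = z := by
    rw [htdef, hudef, hzdef, ← map_mul, ← map_mul]; exact congrArg ψ (by decide)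
  have hz2 : t * u * (t * u) = z := by
    rw [htdef, hudef, hzdef, ← map_mul, ← map_mul]; exact congrArg ψ (by decide)
  have hzz : z * z = 1 := by
    rw [hzdef, ← map_mul, ← map_one ψ]; exact congrArg ψ (by decide)
  have ht2 : t * t = 1 := by rw [htdef, ← map_mul, ← map_one ψ]; exact congrArg ψ (by decide)
  have hu2 : u * u = 1 := by rw [hudef, ← map_mul, ← map_one ψ]; exact congrArg ψ (by decide)
  have htA : t ∉ A := fun h => absurd (hXA _ h) (by decide)
  have hzA : z ∉ A := fun h => absurd (hXA _ h) (by decide)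
  obtain ⟨a₁, a₂, F⟩ := CfsgLib.NineDihedral.exists_frame A hcomm h3 hA9 hC ht2 hu2
    (by rw [hz1, hzz]) htA (by rwa [hz1])
  -- generation
  have hgen0 : ∀ p q b₁ b₂ : S, (∀ a ∈ A, a ∈ Subgroup.closure ({b₁, b₂} : Set S)) →
      (p = t ∧ q = u ∨ p = u ∧ q = t) →
      Subgroup.closure ({b₁, b₂, p, q} : Set S) = ⊤ := by
    intro p q b₁ b₂ hb hpq
    have hsub : ({b₁, b₂} : Set S) ⊆ {b₁, b₂, p, q} := by
      intro x hx
      simp only [Set.mem_insert_iff, Set.mem_singleton_iff] at hx ⊢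
      tauto
    rw [eq_top_iff, ← hAX, sup_le_iff]
    refine ⟨fun a ha => Subgroup.closure_mono hsub (hb a ha), fun x hx => ?_⟩
    set C := Subgroup.closure ({b₁, b₂, p, q} : Set S) with hCdef
    have ht' : t ∈ C ∧ u ∈ C := by
      have hp : p ∈ C := Subgroup.subset_closure (by simp)
      have hq : q ∈ C := Subgroup.subset_closure (by simp)
      rcases hpq with ⟨rfl, rfl⟩ | ⟨rfl, rfl⟩
      · exact ⟨hp, hq⟩
      · exact ⟨hq, hp⟩
    obtain ⟨y, rfl⟩ := hψsurj x hx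
    have hr : ψ (DihedralGroup.r 1) ∈ C := by
      rw [show ψ (DihedralGroup.r 1) = t * u by rw [htdef, hudef, ← map_mul]; exact congrArg ψ (by decide)]
      exact mul_mem ht'.1 ht'.2
    rcases y with i | i
    · obtain ⟨n, rfl⟩ : ∃ n : ℕ, (n : ZMod 4) = i := ⟨i.val, ZMod.natCast_zmod_val i⟩
      rw [← DihedralGroup.r_one_pow, map_pow]
      exact pow_mem hr n
    · obtain ⟨n, rfl⟩ : ∃ n : ℕ, (n : ZMod 4) = i := ⟨i.val, ZMod.natCast_zmod_val i⟩
      rw [show DihedralGroup.sr ((n : ℕ) : ZMod 4) = DihedralGroup.sr 0 * DihedralGroup.r 1 ^ n by simp,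
        map_mul, map_pow]
      exact mul_mem ht'.1 (pow_mem hr n)
  -- the second frame
  have F' : CfsgLib.NineDihedral.Frame A u t (a₁ * a₂) (a₁ * a₂⁻¹) := by
    refine ⟨hu2, ht2, mul_mem F.mem₁ F.mem₂, mul_mem F.mem₁ (inv_mem F.mem₂), fun h => ?_, ?_, ?_, ?_, ?_,
      fun a ha => ?_⟩
    · have h2 : a₂ = a₂⁻¹ := mul_left_cancel h
      have h3' := h3 a₂ F.mem₂
      have h22 : a₂ * a₂ = 1 := by nth_rewrite 2 [h2]; exact mul_inv_cancel a₂
      rw [pow_succ, pow_two, h22, one_mul] at h3'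
      have h1 : a₁ = 1 := by rw [← F.swap₂, h3', map_one]
      exact F.ne (h1.trans h3'.symm)
    · rw [map_mul, F.swap₁, F.swap₂, hcomm _ F.mem₂ _ F.mem₁]
    · rw [map_mul, map_inv, F.swap₁, F.swap₂, mul_inv_rev, inv_inv]
    · rw [map_mul, F.fix, F.inv]
    · rw [map_mul, map_inv, F.fix, F.inv, inv_inv]
    · refine (Subgroup.closure_le _).2 ?_ (F.gen a ha)
      have hb₁ : a₁ * a₂ ∈ Subgroup.closure ({a₁ * a₂, a₁ * a₂⁻¹} : Set S) := Subgroup.subset_closure (by simp)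
      have hb₂ : a₁ * a₂⁻¹ ∈ Subgroup.closure ({a₁ * a₂, a₁ * a₂⁻¹} : Set S) := Subgroup.subset_closure (by simp)
      have c := hcomm _ F.mem₁ _ F.mem₂
      have e1 : a₁ = ((a₁ * a₂) * (a₁ * a₂⁻¹))⁻¹ := by
        rw [show (a₁ * a₂) * (a₁ * a₂⁻¹) = a₁ * a₁ by
          rw [c, mul_assoc, ← mul_assoc a₁ a₁, ← mul_assoc, ← hcomm _ (mul_mem F.mem₁ F.mem₁) _ F.mem₂]
          group]
        exact (inv_eq_of_mul_eq_one_right (by rw [← pow_two, ← pow_succ]; exact h3 _ F.mem₁)).symm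
      have m1 : a₁ ∈ Subgroup.closure ({a₁ * a₂, a₁ * a₂⁻¹} : Set S) := by
        have h := inv_mem (mul_mem hb₁ hb₂)
        rwa [← e1] at h
      rintro x (rfl | rfl)
      · exact m1
      · show x ∈ Subgroup.closure _
        have h := mul_mem (inv_mem m1) hb₁
        rwa [inv_mul_cancel_left] at h
  -- some line has a fixed vector
  obtain ⟨v, hv, hcase⟩ : ∃ v : M, v ≠ 0 ∧ (ρ a₁ v = v ∨ ρ (a₁ * a₂) v = v) := by
    by_contra h
    push Not at h
    have hq : ∀ b ∈ A, (∀ v : M, v ≠ 0 → ρ b v ≠ v) → ∀ m, ρ b (ρ b m) = m + ρ b m := by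
      intro b hb hne m
      refine CfsgLib.NineDihedral.eq_of_add_eq_zero ?_
      by_contra h0
      refine hne _ h0 ?_
      have hb3 : ρ b (ρ b (ρ b m)) = m := by
        rw [← CfsgLib.NineDihedral.rho_mul, ← CfsgLib.NineDihedral.rho_mul, ← pow_two, ← pow_succ, h3 b hb,
          map_one]
        rfl
      rw [map_add, map_add, hb3]; abel
    have h2 : ∀ v : M, v ≠ 0 → ρ a₂ v ≠ v := fun v hv he => by
      refine (h (ρ u v) (fun h0 => hv ?_)).1 ?_
      · have := congrArg (ρ u) h0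
        rwa [← CfsgLib.NineDihedral.rho_mul, hu2, map_one, map_zero] at this
      · rw [← CfsgLib.NineDihedral.rho_mul, ← CfsgLib.NineDihedral.conj_eq F.swap₂,
          CfsgLib.NineDihedral.rho_mul, he]
    have q1 := hq a₁ F.mem₁ fun v hv => (h v hv).1
    have q2 := hq a₂ F.mem₂ h2
    have q3 := hq (a₁ * a₂) (mul_mem F.mem₁ F.mem₂) fun v hv => (h v hv).2
    refine F.ne (hfaith (LinearMap.ext fun m => ?_))
    have h12 : ∀ x, ρ a₂ (ρ a₁ x) = ρ a₁ (ρ a₂ x) := fun x => by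
      rw [← CfsgLib.NineDihedral.rho_mul, ← CfsgLib.NineDihedral.rho_mul, hcomm _ F.mem₁ _ F.mem₂]
    have := q3 m
    simp only [CfsgLib.NineDihedral.rho_mul, h12, q2, map_add, q1] at this
    refine CfsgLib.NineDihedral.eq_of_add_eq_zero ?_
    have h5 : (m + ρ a₁ m + (ρ a₁ (ρ a₂ m) + (m + ρ a₁ m))) = ρ a₁ (ρ a₂ m) + (m + m) + (ρ a₁ m + ρ a₁ m) := by abel
    abel_nf at this
    simp [CfsgLib.NineDihedral.char_two] at this
    rw [← add_assoc] at this
    exact add_eq_right.1 this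
  have hB : ∀ p : S, p * p = 1 → z * p = p * z → ∀ b : S,
      b ∈ Subgroup.closure ({p, z} : Set S) ↔ b = 1 ∨ b = p ∨ b = z ∨ b = p * z := by
    intro p hp hc b
    refine ⟨fun hb => ?_, ?_⟩
    · rw [← Subgroup.mem_toSubmonoid, Subgroup.closure_toSubmonoid_of_finite] at hb
      induction hb using Submonoid.closure_induction with
      | mem y hy => rcases hy with rfl | rfl <;> simp
      | one => simp
      | mul x y _ _ hx hy =>
        have e1 : z * (p * z) = p := by rw [← mul_assoc, hc, mul_assoc, hzz, mul_one]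
        rcases hx with rfl | rfl | rfl | rfl <;> rcases hy with rfl | rfl | rfl | rfl <;>
          simp [hp, hzz, hc, mul_assoc, e1]
        all_goals simp [← mul_assoc, hp, hzz, hc]
    · rintro (rfl | rfl | rfl | rfl)
      · exact one_mem _
      · exact Subgroup.subset_closure (by simp)
      · exact Subgroup.subset_closure (by simp)
      · exact mul_mem (Subgroup.subset_closure (by simp)) (Subgroup.subset_closure (by simp))
  -- the main step
  suffices main : ∀ p q b₁ b₂ : S, CfsgLib.NineDihedral.Frame A p q b₁ b₂ →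
      (∀ w : S, w ∈ ({b₁, b₂} : Set S) → w ∈ A) →
      (p = t ∧ q = u ∨ p = u ∧ q = t) → ∀ v : M, v ≠ 0 → ρ b₁ v = v →
      Nat.card M = 16 ∧ ∃! B : Subgroup S, B ≤ X ∧ Nat.card ↥B = 4 ∧ (∀ b ∈ B, b ^ 2 = 1) ∧
        Nat.card {m : M // ∀ b ∈ B, ρ b m = m} = 2 by
    rcases hcase with h | h
    · exact main t u a₁ a₂ F (by rintro w (rfl | rfl); exacts [F.mem₁, F.mem₂]) (.inl ⟨rfl, rfl⟩) v hv h
    · exact main u t _ _ F' (by rintro w (rfl | rfl); exacts [F'.mem₁, F'.mem₂]) (.inr ⟨rfl, rfl⟩) v hv h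
  intro p q b₁ b₂ G _ hpq v hv hv1
  have hpqz : q * p * (q * p) = z := by rcases hpq with ⟨rfl, rfl⟩ | ⟨rfl, rfl⟩ <;> assumption
  obtain ⟨h16, hp4, hq2⟩ := CfsgLib.NineDihedral.card_module ρ G hcomm h3 (by rw [hpqz, hzz])
    (hgen0 p q b₁ b₂ G.gen hpq) hirr hfaith hv hv1
  rw [hpqz] at hp4 hq2
  refine ⟨h16, ?_⟩
  obtain ⟨yp, yq, hyp, hyq, hy⟩ : ∃ yp yq : DihedralGroup 4, ψ yp = p ∧ ψ yq = q ∧
      (yp = DihedralGroup.sr 0 ∧ yq = DihedralGroup.sr 1 ∨ yp = DihedralGroup.sr 1 ∧ yq = DihedralGroup.sr 0) := by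
    rcases hpq with ⟨h1, h2⟩ | ⟨h1, h2⟩
    · exact ⟨_, _, h1.symm, h2.symm, .inl ⟨rfl, rfl⟩⟩
    · exact ⟨_, _, h1.symm, h2.symm, .inr ⟨rfl, rfl⟩⟩
  have hzq : z * q = q * z := by
    rw [← hyq, hzdef, ← map_mul, ← map_mul]
    rcases hy with ⟨-, rfl⟩ | ⟨-, rfl⟩ <;> exact congrArg ψ (by decide)
  have hzp : z * p = p * z := by
    rw [← hyp, hzdef, ← map_mul, ← map_mul]
    rcases hy with ⟨rfl, -⟩ | ⟨rfl, -⟩ <;> exact congrArg ψ (by decide)
  have hfix : ∀ s : S, s * s = 1 → z * s = s * z → ∀ m : M,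
      (∀ b ∈ Subgroup.closure ({s, z} : Set S), ρ b m = m) ↔ ρ s m = m ∧ ρ z m = m := by
    intro s hs hzs m
    refine ⟨fun h => ⟨h s (Subgroup.subset_closure (by simp)), h z (Subgroup.subset_closure (by simp))⟩,
      fun h b hb => ?_⟩
    rcases (hB s hs hzs b).1 hb with rfl | rfl | rfl | rfl
    · rw [map_one]; rfl
    · exact h.1
    · exact h.2
    · rw [CfsgLib.NineDihedral.rho_mul, h.2, h.1]
  have hpz : p ≠ z ∧ q ≠ z ∧ z ≠ 1 ∧ p ≠ 1 ∧ q ≠ 1 := by
    rw [← hyp, ← hyq, hzdef]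
    simp only [ne_eq, hψinj.eq_iff, map_eq_one_iff _ hψinj]
    rcases hy with ⟨rfl, rfl⟩ | ⟨rfl, rfl⟩ <;> decide
  have hcard : ∀ s : S, s * s = 1 → z * s = s * z → s ≠ z → s ≠ 1 →
      Nat.card ↥(Subgroup.closure ({s, z} : Set S)) = 4 := by
    intro s hs hzs hsz hs1
    have hset : ((Subgroup.closure ({s, z} : Set S) : Subgroup S) : Set S) = ↑({1, s, z, s * z} : Finset S) := by
      ext b
      simp only [SetLike.mem_coe, hB s hs hzs, Finset.coe_insert, Finset.coe_singleton, Set.mem_insert_iff,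
        Set.mem_singleton_iff]
    rw [← SetLike.coe_sort_coe, Nat.card_coe_set_eq, hset, Set.ncard_coe_finset]
    have n1 : s * z ≠ 1 := fun h => hsz (by rw [← inv_eq_of_mul_eq_one_left h, inv_eq_of_mul_eq_one_right hzz])
    have n2 : s * z ≠ s := fun h => hpz.2.2.1 (mul_eq_left.1 h)
    have n3 : s * z ≠ z := fun h => hs1 (mul_eq_right.1 h)
    simp [n1.symm, n2.symm, n3.symm, hsz, Ne.symm hs1, Ne.symm hpz.2.2.1]
  have hqX : q ∈ X := hyq ▸ hψX _
  have hzX : z ∈ X := hψX _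
  refine ⟨Subgroup.closure {q, z}, ⟨?_, hcard q G.uu hzq hpz.2.1 hpz.2.2.2.2, ?_, ?_⟩, ?_⟩
  · rw [Subgroup.closure_le]; rintro x (rfl | rfl); exacts [hqX, hzX]
  · intro b hb
    rw [pow_two]
    rcases (hB q G.uu hzq b).1 hb with rfl | rfl | rfl | rfl
    · exact one_mul 1
    · exact G.uu
    · exact hzz
    · rw [mul_assoc, ← mul_assoc z, hzq, mul_assoc q z, hzz, mul_one, G.uu]
  · exact (Nat.card_congr (Equiv.subtypeEquivRight (hfix q G.uu hzq))).trans hq2
  rintro B ⟨hBX, hB4, hB2, hBf⟩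
  -- classify the four-groups
  have hdec : ∀ x y : DihedralGroup 4, x * x = 1 → y * y = 1 → x * y = y * x →
      ∀ a b : DihedralGroup 4,
      (a = DihedralGroup.sr 0 ∧ b = DihedralGroup.sr 1 ∨ a = DihedralGroup.sr 1 ∧ b = DihedralGroup.sr 0) →
      (x = 1 ∨ x = a ∨ x = DihedralGroup.r 2 ∨ x = a * DihedralGroup.r 2) ∨
      (y = 1 ∨ y = b ∨ y = DihedralGroup.r 2 ∨ y = b * DihedralGroup.r 2) := by decide
  have hBB : (∀ x ∈ B, x ∈ Subgroup.closure ({p, z} : Set S)) ∨ ∀ y ∈ B, y ∈ Subgroup.closure ({q, z} : Set S) := by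
    by_contra h
    push Not at h
    obtain ⟨⟨x, hx, hxn⟩, y, hy', hyn⟩ := h
    obtain ⟨x₀, rfl⟩ := hψsurj x (hBX hx)
    obtain ⟨y₀, rfl⟩ := hψsurj y (hBX hy')
    have s1 : ∀ b ∈ B, b * b = 1 := fun b hb => by rw [← pow_two]; exact hB2 b hb
    have hxy : ψ x₀ * ψ y₀ = ψ y₀ * ψ x₀ := by
      have := inv_eq_of_mul_eq_one_right (s1 _ (mul_mem hx hy'))
      rw [mul_inv_rev, inv_eq_of_mul_eq_one_right (s1 _ hx), inv_eq_of_mul_eq_one_right (s1 _ hy')] at this
      exact this.symm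
    rcases hdec x₀ y₀ (hψinj (by rw [map_mul, map_one]; exact s1 _ hx))
        (hψinj (by rw [map_mul, map_one]; exact s1 _ hy')) (hψinj (by rw [map_mul, map_mul]; exact hxy))
        yp yq hy with h | h
    · refine hxn ((hB p G.tt hzp _).2 ?_)
      rw [← hyp, hzdef, ← map_mul, ← map_one ψ]
      simp only [hψinj.eq_iff]
      exact h
    · refine hyn ((hB q G.uu hzq _).2 ?_)
      rw [← hyq, hzdef, ← map_mul, ← map_one ψ]
      simp only [hψinj.eq_iff]
      exact h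
  rcases hBB with h | h
  · exfalso
    have hBp : B = Subgroup.closure {p, z} := Subgroup.eq_of_le_of_card_ge h
      (by rw [hB4, hcard p G.tt hzp hpz.1 hpz.2.2.2.1])
    rw [hBp, Nat.card_congr (Equiv.subtypeEquivRight (hfix p G.tt hzp)), hp4] at hBf
    omega
  · exact Subgroup.eq_of_le_of_card_ge h (by rw [hB4, hcard q G.uu hzq hpz.2.1 hpz.2.2.2.2])

end Cfsg.Agent.S4407
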