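import Cfsg.Statements.S4408
import Cfsg.Agent.Lib.PSolvable.Core
-- import your own Cfsg.Agent.* helpers here

set_option autoImplicit false
set_option linter.style.haveILetI false
open Cfsg
open scoped commutatorElement

namespace Cfsg.Agent.S4408


/-- In a nilpotent subgroup of odd order normalized by an elementary abelian two-group `I`, an
element `j ∈ I` acting nontrivially inverts an `I`-invariant subgroup of prime order. -/
theorem exists_line {G : Type*} [Group G] [Finite G] (C I : Subgroup G) [Group.IsNilpotent C]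
    (hodd : Odd (Nat.card C)) (hI : I ≤ Subgroup.normalizer (C : Set G))
    (hI2 : ∀ i ∈ I, i * i = 1) (j : G) (hj : j ∈ I) (hne : ∃ x ∈ C, j * x ≠ x * j) :
    ∃ z ∈ C, (orderOf z).Prime ∧ j * z * j⁻¹ = z⁻¹ ∧
      ∀ i ∈ I, i * z * i⁻¹ ∈ Subgroup.zpowers z := by
  have hinv : ∀ i ∈ I, i⁻¹ = i := fun i hi => inv_eq_of_mul_eq_one_right (hI2 i hi)
  have hcomm : ∀ a ∈ I, ∀ b ∈ I, a * b = b * a := fun a ha b hb => by
    conv_rhs => rw [← hinv a ha, ← hinv b hb, ← mul_inv_rev, hinv _ (I.mul_mem ha hb)]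
  obtain ⟨M, -, ⟨hMC, hIM, hMne⟩, hmin⟩ := Finite.exists_le_minimal
    (p := fun M : Subgroup G =>
      M ≤ C ∧ I ≤ Subgroup.normalizer (M : Set G) ∧ ∃ x ∈ M, j * x ≠ x * j)
    (a := C) ⟨le_rfl, hI, hne⟩
  have hfix : ∀ K : Subgroup G, K ≤ M → I ≤ Subgroup.normalizer (K : Set G) → K ≠ M →
      ∀ x ∈ K, j * x = x * j := by
    intro K hK hKI hKM x hx
    by_contra h
    exact hKM (le_antisymm hK (hmin ⟨hK.trans hMC, hKI, x, hx, h⟩ hK))
  have hMconj : ∀ i ∈ I, ∀ x ∈ M, i * x * i⁻¹ ∈ M := fun i hi x hx =>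
    (Subgroup.mem_normalizer_iff.1 (hIM hi) x).1 hx
  have hnorm : ∀ K : Subgroup G, (∀ i ∈ I, ∀ x ∈ K, i * x * i⁻¹ ∈ K) →
      I ≤ Subgroup.normalizer (K : Set G) := fun K h i hi =>
    Subgroup.mem_normalizer_fintype fun x hx => h i hi x hx
  set D := ⁅M, M⁆ with hD
  have hDM : D ≤ M := Subgroup.commutator_le_self M
  have hDI : ∀ i ∈ I, ∀ x ∈ D, i * x * i⁻¹ ∈ D := by
    intro i hi
    have hle : D.map (MulAut.conj i).toMonoidHom ≤ D := by
      rw [hD, Subgroup.map_commutator]
      exact Subgroup.commutator_mono (by rintro _ ⟨x, hx, rfl⟩; exact hMconj i hi x hx)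
        (by rintro _ ⟨x, hx, rfl⟩; exact hMconj i hi x hx)
    exact fun x hx => hle ⟨x, hx, rfl⟩
  have hDn : ∀ u ∈ M, ∀ x ∈ D, u * x * u⁻¹ ∈ D := by
    intro u hu
    have hle : D.map (MulAut.conj u).toMonoidHom ≤ D := by
      rw [hD, Subgroup.map_commutator]
      exact Subgroup.commutator_mono
        (by rintro _ ⟨x, hx, rfl⟩; exact M.mul_mem (M.mul_mem hu hx) (M.inv_mem hu))
        (by rintro _ ⟨x, hx, rfl⟩; exact M.mul_mem (M.mul_mem hu hx) (M.inv_mem hu))
    exact fun x hx => hle ⟨x, hx, rfl⟩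
  have hoddM : Odd (Nat.card M) := hodd.of_dvd_nat (Subgroup.card_dvd_of_le hMC)
  -- every involution centralizes `M` or inverts it modulo its derived subgroup
  have hpm : ∀ i ∈ I, (∀ x ∈ M, i * x = x * i) ∨ ∀ x ∈ M, i * x * i⁻¹ * x ∈ D := by
    intro i hi
    by_cases hfi : ∀ x ∈ M, i * x = x * i
    · exact Or.inl hfi
    right
    set K := Subgroup.closure {y : G | y ∈ M ∧ i * y * i⁻¹ = y⁻¹} with hK
    have hKM : K ≤ M := (Subgroup.closure_le _).2 fun y hy => hy.1
    have hKI : ∀ k ∈ I, ∀ x ∈ K, k * x * k⁻¹ ∈ K := by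
      intro k hk
      have hle : K.map (MulAut.conj k).toMonoidHom ≤ K := by
        rw [hK, MonoidHom.map_closure]
        refine Subgroup.closure_mono ?_
        rintro _ ⟨y, ⟨hy, hyi⟩, rfl⟩
        refine ⟨hMconj k hk y hy, ?_⟩
        show i * (k * y * k⁻¹) * i⁻¹ = (k * y * k⁻¹)⁻¹
        calc i * (k * y * k⁻¹) * i⁻¹ = (i * k) * y * (i * k)⁻¹ := by group
          _ = (k * i) * y * (k * i)⁻¹ := by rw [hcomm i hi k hk]
          _ = k * (i * y * i⁻¹) * k⁻¹ := by group
          _ = (k * y * k⁻¹)⁻¹ := by rw [hyi]; group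
      exact fun x hx => hle ⟨x, hx, rfl⟩
    have hKeq : K = M := by
      by_contra hne'
      set W := M ⊓ Subgroup.centralizer ({i} : Set G) with hW
      have hWI : ∀ k ∈ I, ∀ x ∈ W, k * x * k⁻¹ ∈ W := by
        rintro k hk x ⟨hx, hxi⟩
        refine ⟨hMconj k hk x hx, Subgroup.mem_centralizer_singleton_iff.2 ?_⟩
        have hxi' := Subgroup.mem_centralizer_singleton_iff.1 hxi
        calc k * x * k⁻¹ * i = k * x * (k⁻¹ * i) := by group
          _ = k * x * (i * k⁻¹) := by rw [hcomm _ (I.inv_mem hk) i hi]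
          _ = k * (x * i) * k⁻¹ := by group
          _ = k * (i * x) * k⁻¹ := by rw [hxi']
          _ = (k * i) * x * k⁻¹ := by group
          _ = i * (k * x * k⁻¹) := by rw [hcomm k hk i hi]; group
      have hWne : W ≠ M := fun h => hfi fun x hx =>
        (Subgroup.mem_centralizer_singleton_iff.1 ((h.symm ▸ hx : x ∈ W).2)).symm
      have hWfix := hfix W inf_le_left (hnorm W hWI) hWne
      have hKfix := hfix K hKM (hnorm K hKI) hne'
      obtain ⟨x, hx, hxj⟩ := hMne
      apply hxj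
      set y := x⁻¹ * (i * x * i⁻¹) with hy
      have hyM : y ∈ M := M.mul_mem (M.inv_mem hx) (hMconj i hi x hx)
      obtain ⟨r, hr⟩ : ∃ r : ℕ, (y ^ r) ^ 2 = y := by
        obtain ⟨c, hc⟩ := hoddM.of_dvd_nat (Subgroup.orderOf_dvd_natCard M hyM)
        refine ⟨c + 1, ?_⟩
        rw [← pow_mul, show (c + 1) * 2 = orderOf y + 1 by omega, pow_succ, pow_orderOf_eq_one,
          one_mul]
      have hyi : i * y * i⁻¹ = y⁻¹ := by
        rw [hy, hinv i hi]
        calc i * (x⁻¹ * (i * x * i)) * i = (i * x⁻¹ * i) * x * (i * i) := by group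
          _ = (i * x⁻¹ * i) * x := by rw [hI2 i hi, mul_one]
          _ = (i⁻¹ * x⁻¹ * i⁻¹) * x := by rw [hinv i hi]
          _ = (x⁻¹ * (i * x * i))⁻¹ := by group
      have hyrK : y ^ r ∈ K := K.pow_mem (Subgroup.subset_closure ⟨hyM, hyi⟩) r
      have hfW : x * y ^ r ∈ W := by
        refine ⟨M.mul_mem hx (M.pow_mem hyM r), Subgroup.mem_centralizer_singleton_iff.2 ?_⟩
        have h1 : i * (x * y ^ r) * i⁻¹ = x * y ^ r := by
          calc i * (x * y ^ r) * i⁻¹ = (i * x * i⁻¹) * (i * y * i⁻¹) ^ r := by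
                rw [conj_pow]; group
            _ = x * (y ^ r) ^ 2 * (y⁻¹) ^ r := by rw [hyi, hr, hy]; group
            _ = x * y ^ r := by rw [inv_pow]; group
        calc x * y ^ r * i = (i * (x * y ^ r) * i⁻¹) * i := by rw [h1]
          _ = i * (x * y ^ r) := by group
      have h1 := hWfix _ hfW
      have h2 := hKfix _ hyrK
      calc j * x = j * (x * y ^ r) * (y ^ r)⁻¹ := by group
        _ = x * y ^ r * j * (y ^ r)⁻¹ := by rw [h1]
        _ = x * y ^ r * (j * (y ^ r)⁻¹) := by group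
        _ = x * y ^ r * ((y ^ r)⁻¹ * j) := by rw [(Commute.inv_right (h2 : Commute j (y ^ r))).eq]
        _ = x * j := by group
    intro x hx
    rw [← hKeq, hK] at hx
    have hgoal : x ∈ M ∧ i * x * i⁻¹ * x ∈ D := by
      induction hx using Subgroup.closure_induction with
      | mem y hy => exact ⟨hy.1, by rw [hy.2, inv_mul_cancel]; exact D.one_mem⟩
      | one => exact ⟨M.one_mem, by simp⟩
      | mul u v _ _ hu hv =>
        refine ⟨M.mul_mem hu.1 hv.1, ?_⟩
        have hw : ⁅u⁻¹, i * v * i⁻¹⁆ ∈ D :=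
          Subgroup.commutator_mem_commutator (M.inv_mem hu.1) (hMconj i hi v hv.1)
        have := D.mul_mem (D.mul_mem hu.2 hw) hv.2
        convert this using 1
        rw [commutatorElement_def]
        group
      | inv u _ hu =>
        refine ⟨M.inv_mem hu.1, ?_⟩
        have := D.inv_mem (hDn u hu.1 _ hu.2)
        convert this using 1
        group
    exact hgoal.2
  -- `M` is cyclic
  obtain ⟨x, hxM, hgen⟩ : ∃ x ∈ M, Subgroup.zpowers x ⊔ D = M := by
    by_contra hno
    push Not at hno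
    obtain ⟨x, hx, hxj⟩ := hMne
    refine hxj (hfix _ (sup_le (Subgroup.zpowers_le.2 hx) hDM) (hnorm _ fun i hi w hw => ?_)
      (hno x hx) x (Subgroup.mem_sup_left (Subgroup.mem_zpowers x)))
    have hle : (Subgroup.zpowers x ⊔ D).map (MulAut.conj i).toMonoidHom ≤
        Subgroup.zpowers x ⊔ D := by
      rw [Subgroup.map_sup, MonoidHom.map_zpowers]
      refine sup_le (Subgroup.zpowers_le.2 ?_)
        (le_sup_right.trans' (by rintro _ ⟨d, hd, rfl⟩; exact hDI i hi d hd))
      show i * x * i⁻¹ ∈ _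
      rcases hpm i hi with h | h
      · rw [h x hx, mul_inv_cancel_right]
        exact Subgroup.mem_sup_left (Subgroup.mem_zpowers x)
      · rw [show i * x * i⁻¹ = (i * x * i⁻¹ * x) * x⁻¹ by group]
        exact Subgroup.mul_mem _ (Subgroup.mem_sup_right (h x hx))
          (Subgroup.mem_sup_left (inv_mem (Subgroup.mem_zpowers x)))
    exact hle ⟨w, hw, rfl⟩
  haveI : Group.IsNilpotent M :=
    Group.nilpotent_of_mulEquiv (Subgroup.subgroupOfEquivOfLe hMC)
  have hcyc : Subgroup.zpowers x = M := by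
    refine le_antisymm (Subgroup.zpowers_le.2 hxM) ?_
    by_contra hlt
    have hne' : (Subgroup.zpowers x).subgroupOf M ≠ ⊤ := fun h =>
      hlt (Subgroup.subgroupOf_eq_top.1 h)
    obtain ⟨K, hK, hxK⟩ := (eq_top_or_exists_le_coatom _).resolve_left hne'
    haveI : K.Normal :=
      Subgroup.NormalizerCondition.normal_of_coatom K Group.normalizerCondition_of_isNilpotent hK
    have hDK : commutator ↥M ≤ K := by
      obtain ⟨u, hu⟩ : ∃ u : ↥M, u ∉ K := by
        by_contra h
        push Not at h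
        exact hK.1 (eq_top_iff.2 fun v _ => h v)
      have hgen' : K ⊔ Subgroup.zpowers u = ⊤ := hK.2 _ (lt_of_le_of_ne le_sup_left fun h =>
        hu (h.symm ▸ Subgroup.mem_sup_right (Subgroup.mem_zpowers u)))
      have hmem : ∀ a : ↥M, ∃ m : ℤ, (QuotientGroup.mk' K) a = (QuotientGroup.mk' K u) ^ m := by
        intro a
        have ha : a ∈ ((K ⊔ Subgroup.zpowers u : Subgroup ↥M) : Set ↥M) := by rw [hgen']; trivial
        rw [Subgroup.normal_mul] at ha
        obtain ⟨k, hk, w, hw, rfl⟩ := ha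
        obtain ⟨m, rfl⟩ := Subgroup.mem_zpowers_iff.1 hw
        refine ⟨m, ?_⟩
        rw [map_mul, map_zpow, (QuotientGroup.eq_one_iff k).2 hk |> fun h =>
          (show QuotientGroup.mk' K k = 1 from h), one_mul]
      rw [commutator_def, Subgroup.commutator_le]
      intro a _ b _
      obtain ⟨m, hm⟩ := hmem a
      obtain ⟨l, hl⟩ := hmem b
      rw [← QuotientGroup.eq_one_iff, ← QuotientGroup.mk'_apply, map_commutatorElement,
        commutatorElement_eq_one_iff_mul_comm, hm, hl]
      exact (Commute.zpow_zpow (Commute.refl _) m l).eq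
    refine hK.1 (top_le_iff.1 fun u _ => ?_)
    have hu : (u : G) ∈ Subgroup.zpowers x ⊔ D := hgen.symm ▸ u.2
    have hle : Subgroup.zpowers x ⊔ D ≤ K.map M.subtype := by
      refine sup_le ?_ ?_
      · rw [← Subgroup.map_subgroupOf_eq_of_le (Subgroup.zpowers_le.2 hxM)]
        exact Subgroup.map_mono hxK
      · rw [hD, ← M.map_subtype_commutator]
        exact Subgroup.map_mono hDK
    obtain ⟨v, hv, hvu⟩ := hle hu
    exact (Subtype.ext hvu : v = u) ▸ hv
  obtain ⟨x₀, hx₀, hx₀j⟩ := hMne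
  have hxj : j * x ≠ x * j := fun h => hx₀j (by
    obtain ⟨a, rfl⟩ := Subgroup.mem_zpowers_iff.1 (hcyc.symm ▸ hx₀ : x₀ ∈ Subgroup.zpowers x)
    exact (Commute.zpow_right (h : Commute j x) a).eq)
  set y := x⁻¹ * (j * x * j⁻¹) with hy
  have hyM : y ∈ M := M.mul_mem (M.inv_mem hxM) (hMconj j hj x hxM)
  have hy1 : y ≠ 1 := fun h => hxj (by
    have h1 : j * x * j⁻¹ = x := (inv_mul_eq_one.1 h).symm
    exact mul_inv_eq_iff_eq_mul.1 h1)
  have hyj : j * y * j⁻¹ = y⁻¹ := by
    rw [hy, hinv j hj]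
    calc j * (x⁻¹ * (j * x * j)) * j = (j * x⁻¹ * j) * x * (j * j) := by group
      _ = (j * x⁻¹ * j) * x := by rw [hI2 j hj, mul_one]
      _ = (j⁻¹ * x⁻¹ * j⁻¹) * x := by rw [hinv j hj]
      _ = (x⁻¹ * (j * x * j))⁻¹ := by group
  obtain ⟨p, hp, k, hk⟩ := Nat.exists_prime_and_dvd (fun h => hy1 (orderOf_eq_one_iff.1 h))
  refine ⟨y ^ k, hMC (M.pow_mem hyM k), ?_, ?_, fun i hi => ?_⟩
  · have hk0 : k ≠ 0 := fun h => (orderOf_pos y).ne' (by rw [hk, h, mul_zero])
    rw [orderOf_pow' y hk0, hk, Nat.gcd_mul_left_left,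
      Nat.mul_div_cancel _ (Nat.pos_of_ne_zero hk0)]
    exact hp
  · rw [← conj_pow, hyj, inv_pow]
  · have hyk : y ^ k ∈ Subgroup.zpowers x := hcyc.symm ▸ M.pow_mem hyM k
    obtain ⟨a, ha⟩ := Subgroup.mem_zpowers_iff.1 hyk
    obtain ⟨b, hb⟩ := Subgroup.mem_zpowers_iff.1
      (hcyc.symm ▸ hMconj i hi x hxM : i * x * i⁻¹ ∈ Subgroup.zpowers x)
    refine Subgroup.mem_zpowers_iff.2 ⟨b, ?_⟩
    rw [← ha, ← conj_zpow, ← hb, ← zpow_mul, ← zpow_mul, mul_comm]


/-- An involution centralizing a subgroup of an odd nilpotent group that contains its centralizer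
centralizes the whole group. -/
theorem fix_of_fix_selfCentralizing {G : Type*} [Group G] [Finite G] (F H : Subgroup G)
    [Group.IsNilpotent F] (hodd : Odd (Nat.card F)) (j : G) (hj2 : j * j = 1)
    (hjF : ∀ x ∈ F, j * x * j⁻¹ ∈ F) (hHF : H ≤ F)
    (hH : ∀ u ∈ F, (∀ h ∈ H, u * h = h * u) → u ∈ H) (hfix : ∀ h ∈ H, j * h = h * j) :
    ∀ x ∈ F, j * x = x * j := by
  obtain ⟨K, hHK, ⟨hKF, hKfix⟩, hmax⟩ := Finite.exists_le_maximal
    (p := fun K : Subgroup G => K ≤ F ∧ ∀ h ∈ K, j * h = h * j) (a := H) ⟨hHF, hfix⟩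
  suffices K = F by intro x hx; exact hKfix x (this ▸ hx)
  by_contra hne
  have hlt : K.subgroupOf F < ⊤ := by
    rw [lt_top_iff_ne_top, Ne, Subgroup.subgroupOf_eq_top]
    exact fun h => hne (le_antisymm hKF h)
  obtain ⟨u, hun, huK⟩ := SetLike.exists_of_lt
    (Group.normalizerCondition_of_isNilpotent (K.subgroupOf F) hlt)
  have hconj : ∀ h ∈ K, (u : G) * h * (u : G)⁻¹ ∈ K := fun h hh => by
    have := (Subgroup.mem_normalizer_iff.1 hun ⟨h, hKF hh⟩).1 hh
    exact this
  have hjinv : j⁻¹ = j := inv_eq_of_mul_eq_one_right hj2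
  set v := j * (u : G) * j⁻¹ with hv
  have hvF : v ∈ F := hjF u u.2
  set w := (u : G)⁻¹ * v with hw
  have hwF : w ∈ F := F.mul_mem (F.inv_mem u.2) hvF
  have hwK : w ∈ K := hHK (hH w hwF fun h hh => by
    have hk := hHK hh
    have h1 : v * h * v⁻¹ = (u : G) * h * (u : G)⁻¹ := by
      calc v * h * v⁻¹ = j * u * (j⁻¹ * h * j) * (u : G)⁻¹ * j⁻¹ := by rw [hv]; group
        _ = j * u * h * (u : G)⁻¹ * j⁻¹ := by
          rw [show j⁻¹ * h * j = h by rw [mul_assoc, ← hfix h hh, inv_mul_cancel_left]]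
        _ = (j * ((u : G) * h * (u : G)⁻¹)) * j⁻¹ := by group
        _ = (u : G) * h * (u : G)⁻¹ := by rw [hKfix _ (hconj h hk), mul_inv_cancel_right]
    calc w * h = (u : G)⁻¹ * (v * h * v⁻¹) * v := by rw [hw]; group
      _ = h * w := by rw [h1, hw]; group)
  have hw1 : w = 1 := by
    have h1 : w * w = 1 := by
      have h2 := hKfix w hwK
      have h3 : j * w * j⁻¹ = w⁻¹ := by
        rw [hw, hv, hjinv]
        calc j * ((u : G)⁻¹ * (j * u * j)) * j = j * (u : G)⁻¹ * j * u * (j * j) := by group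
          _ = j⁻¹ * (u : G)⁻¹ * j⁻¹ * u := by rw [hj2, mul_one, hjinv]
          _ = ((u : G)⁻¹ * (j * u * j))⁻¹ := by group
      rw [h2, mul_inv_cancel_right] at h3
      calc w * w = w⁻¹ * w := by rw [← h3]
        _ = 1 := inv_mul_cancel w
    obtain ⟨c, hc⟩ := hodd.of_dvd_nat (Subgroup.orderOf_dvd_natCard F hwF)
    have h4 := pow_orderOf_eq_one w
    rwa [hc, pow_succ, pow_mul, pow_two, h1, one_pow, one_mul] at h4
  have hju : j * (u : G) = u * j := by
    have : v = u := by rw [hw, inv_mul_eq_one] at hw1; exact hw1.symm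
    rw [hv] at this
    exact mul_inv_eq_iff_eq_mul.1 this
  have hle : K ⊔ Subgroup.zpowers (u : G) ≤ F := sup_le hKF (Subgroup.zpowers_le.2 u.2)
  have hall : ∀ h ∈ K ⊔ Subgroup.zpowers (u : G), j * h = h * j := by
    have hC : K ⊔ Subgroup.zpowers (u : G) ≤ Subgroup.centralizer ({j} : Set G) :=
      sup_le (fun h hh => Subgroup.mem_centralizer_singleton_iff.2 (hKfix h hh).symm)
        (Subgroup.zpowers_le.2 (Subgroup.mem_centralizer_singleton_iff.2 hju.symm))
    exact fun h hh => (Subgroup.mem_centralizer_singleton_iff.1 (hC hh)).symm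
  exact huK (hmax ⟨hle, hall⟩ le_sup_left (Subgroup.mem_sup_right (Subgroup.mem_zpowers _)))

theorem card_sup_of_commute {G : Type*} [Group G] [Finite G] (H K : Subgroup G)
    (hc : ∀ h ∈ H, ∀ k ∈ K, h * k = k * h) (hd : Disjoint H K) :
    Nat.card ↥(H ⊔ K) = Nat.card H * Nat.card K := by
  have hcomm : ∀ (a : H) (b : K), Commute (H.subtype a) (K.subtype b) := fun a b => hc a a.2 b b.2
  let φ := H.subtype.noncommCoprod K.subtype hcomm
  have hr : φ.range = H ⊔ K := by
    simp only [φ]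
    rw [MonoidHom.noncommCoprod_range, Subgroup.range_subtype, Subgroup.range_subtype]
  have hi : Function.Injective φ := (MonoidHom.noncommCoprod_injective _ _ _).2
    ⟨Subgroup.subtype_injective H, Subgroup.subtype_injective K, by
      rwa [Subgroup.range_subtype, Subgroup.range_subtype]⟩
  rw [← hr, ← Nat.card_prod]
  exact (Nat.card_congr (MonoidHom.ofInjective hi).toEquiv).symm

/-- Let S be a finite solvable group whose Fitting subgroup F(S) has odd order, and let I be an elementary abelian 2-subgroup of S of order 2ⁿ with n ≥ 1. Then F(S) contains subgroups A₁, …, Aₙ of prime order, each normalized by I, pairwise commuting and generating a subgroup A of order |A₁|⋯|Aₙ| (their internal direct product), such that no non-identity element of I centralizes A. -/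
theorem result {S : Type*} [Group S] [Finite S]
    [Group.IsSolvable S] (hF : Odd (Nat.card ↥(Cfsg.fittingSubgroup S)))
    (I : Subgroup S) (hI : Cfsg.IsElementaryAbelian 2 I) (n : ℕ) (hn : 1 ≤ n) (hIn : Nat.card ↥I = 2 ^ n) :
    ∃ f : Fin n → Subgroup S, (∀ i, (Nat.card ↥(f i)).Prime) ∧ (∀ i, f i ≤ Cfsg.fittingSubgroup S) ∧
      (∀ i, I ≤ Subgroup.normalizer ((f i) : Set S)) ∧ (∀ i j, i ≠ j → ∀ a ∈ f i, ∀ b ∈ f j, a * b = b * a) ∧
      Nat.card ↥(⨆ i, f i) = ∏ i, Nat.card ↥(f i) ∧ I ⊓ Subgroup.centralizer ((⨆ i, f i : Subgroup S) : Set S) = ⊥ := by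
  haveI hFn : Group.IsNilpotent (Cfsg.fittingSubgroup S) :=
    CfsgLib.Fitting.fittingSubgroup_isNilpotent
  haveI hFN := CfsgLib.Fitting.fittingSubgroup_normal (G := S)
  have hI2 : ∀ i ∈ I, i * i = 1 := fun i hi => by rw [← pow_two]; exact hI.2 i hi
  have hIc : ∀ a ∈ I, ∀ b ∈ I, a * b = b * a := fun a ha b hb =>
    haveI := hI.1
    congrArg Subtype.val (mul_comm' (⟨a, ha⟩ : I) ⟨b, hb⟩)
  suffices key : ∀ k, k ≤ n → ∃ f : Fin k → S,
      (∀ i, (orderOf (f i)).Prime) ∧ (∀ i, f i ∈ Cfsg.fittingSubgroup S) ∧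
      (∀ i, ∀ g ∈ I, g * f i * g⁻¹ ∈ Subgroup.zpowers (f i)) ∧
      (∀ a b, f a * f b = f b * f a) ∧
      Nat.card ↥(⨆ i, Subgroup.zpowers (f i)) = ∏ i, Nat.card ↥(Subgroup.zpowers (f i)) ∧
      Nat.card ↥(I ⊓ Subgroup.centralizer (Set.range f)) = 2 ^ (n - k) by
    obtain ⟨f, hfp, hfF, hfI, hfc, hcard, hJ⟩ := key n le_rfl
    refine ⟨fun i => Subgroup.zpowers (f i), fun i => (Nat.card_zpowers (f i)).symm ▸ hfp i,
      fun i => Subgroup.zpowers_le.2 (hfF i), fun i g hg => ?_, fun a b _ x hx y hy => ?_, hcard, ?_⟩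
    · refine Subgroup.mem_normalizer_fintype fun x hx => ?_
      obtain ⟨m, rfl⟩ := Subgroup.mem_zpowers_iff.1 hx
      rw [← conj_zpow]
      exact Subgroup.zpow_mem _ (hfI i g hg) m
    · obtain ⟨l, rfl⟩ := Subgroup.mem_zpowers_iff.1 hx
      obtain ⟨m, rfl⟩ := Subgroup.mem_zpowers_iff.1 hy
      exact (Commute.zpow_zpow (hfc a b) l m).eq
    · refine le_bot_iff.1 (le_trans ?_ ((Subgroup.card_le_one_iff_eq_bot _).1
        (by rw [hJ, Nat.sub_self, pow_zero])).le)
      refine inf_le_inf_left I (Subgroup.centralizer_le ?_)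
      rintro _ ⟨i, rfl⟩
      exact le_iSup (fun i => Subgroup.zpowers (f i)) i (Subgroup.mem_zpowers (f i))
  intro k
  induction k with
  | zero =>
    refine fun _ => ⟨Fin.elim0, fun i => i.elim0, fun i => i.elim0, fun i => i.elim0,
      fun a => a.elim0, by simp, ?_⟩
    rw [Set.range_eq_empty, show I ⊓ Subgroup.centralizer (∅ : Set S) = I from
      inf_eq_left.2 fun x _ => Subgroup.mem_centralizer_iff.2 fun y hy => hy.elim, hIn, Nat.sub_zero]
  | succ k ih =>
    intro hk
    obtain ⟨f, hfp, hfF, hfI, hfc, hcard, hJ⟩ := ih (by omega)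
    set J := I ⊓ Subgroup.centralizer (Set.range f) with hJdef
    set C := Cfsg.fittingSubgroup S ⊓ Subgroup.centralizer (Set.range f) with hCdef
    obtain ⟨j, hjJ, hj1⟩ : ∃ j ∈ J, j ≠ 1 := by
      refine (Subgroup.bot_or_exists_ne_one J).resolve_left fun h => ?_
      rw [h, Subgroup.card_bot] at hJ
      exact (Nat.one_lt_pow (by omega) one_lt_two).ne hJ
    have hfC : ∀ a, f a ∈ C := fun a => ⟨hfF a, Subgroup.mem_centralizer_iff.2 (by
      rintro _ ⟨b, rfl⟩; exact hfc b a)⟩
    have hjF : ∀ x ∈ Cfsg.fittingSubgroup S, j * x * j⁻¹ ∈ Cfsg.fittingSubgroup S :=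
      fun x hx => hFN.conj_mem x hx j
    have hne : ∃ x ∈ C, j * x ≠ x * j := by
      by_contra h
      push Not at h
      have hall := fix_of_fix_selfCentralizing _ C hF j (hI2 j hjJ.1) hjF inf_le_left
        (fun u hu hc => ⟨hu, Subgroup.mem_centralizer_iff.2 (by
          rintro _ ⟨b, rfl⟩; exact (hc _ (hfC b)).symm)⟩) h
      have hjc : j ∈ Cfsg.fittingSubgroup S := CfsgLib.PSolvable.centralizer_fittingSubgroup_le
        (Subgroup.mem_centralizer_iff.2 fun x hx => (hall x hx).symm)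
      have h2 : orderOf j = 2 := orderOf_eq_prime (hI.2 j hjJ.1) hj1
      exact Nat.not_even_iff_odd.2 hF
        (even_iff_two_dvd.2 (h2 ▸ Subgroup.orderOf_dvd_natCard _ hjc))
    have hIC : I ≤ Subgroup.normalizer (C : Set S) := by
      intro i hi
      refine Subgroup.mem_normalizer_fintype fun x hx => ⟨hFN.conj_mem x hx.1 i,
        Subgroup.mem_centralizer_iff.2 ?_⟩
      rintro _ ⟨b, rfl⟩
      obtain ⟨m, hm⟩ := Subgroup.mem_zpowers_iff.1 (hfI b i⁻¹ (I.inv_mem hi))
      rw [inv_inv] at hm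
      have hxb : Commute x (i⁻¹ * f b * i) := hm ▸ (Commute.zpow_right
        (Subgroup.mem_centralizer_iff.1 hx.2 (f b) ⟨b, rfl⟩).symm m)
      calc f b * (i * x * i⁻¹) = i * ((i⁻¹ * f b * i) * x) * i⁻¹ := by group
        _ = i * (x * (i⁻¹ * f b * i)) * i⁻¹ := by rw [hxb.eq]
        _ = i * x * i⁻¹ * f b := by group
    haveI : Group.IsNilpotent C :=
      Group.nilpotent_of_mulEquiv (Subgroup.subgroupOfEquivOfLe
        (inf_le_left : C ≤ Cfsg.fittingSubgroup S))
    obtain ⟨z, hzC, hzp, hzj, hzI⟩ := exists_line C I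
      (hF.of_dvd_nat (Subgroup.card_dvd_of_le inf_le_left)) hIC hI2 j hjJ.1 hne
    have hzf : ∀ a, z * f a = f a * z := fun a =>
      (Subgroup.mem_centralizer_iff.1 hzC.2 _ ⟨a, rfl⟩).symm
    have hzne : z * z ≠ 1 := fun h => by
      rcases (Nat.dvd_prime Nat.prime_two).1
        (orderOf_dvd_of_pow_eq_one (show z ^ 2 = 1 by rw [pow_two, h])) with h' | h'
      · exact hzp.ne_one h'
      · exact Nat.not_even_iff_odd.2 hF
          (even_iff_two_dvd.2 (h' ▸ Subgroup.orderOf_dvd_natCard _ hzC.1))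
    refine ⟨Fin.snoc f z, fun i => ?_, fun i => ?_, fun i => ?_, fun a b => ?_, ?_, ?_⟩
    · induction i using Fin.lastCases with
      | last => rw [Fin.snoc_last]; exact hzp
      | cast i => rw [Fin.snoc_castSucc]; exact hfp i
    · induction i using Fin.lastCases with
      | last => rw [Fin.snoc_last]; exact hzC.1
      | cast i => rw [Fin.snoc_castSucc]; exact hfF i
    · induction i using Fin.lastCases with
      | last => rw [Fin.snoc_last]; exact hzI
      | cast i => rw [Fin.snoc_castSucc]; exact hfI i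
    · induction a using Fin.lastCases with
      | last =>
        induction b using Fin.lastCases with
        | last => rfl
        | cast b => rw [Fin.snoc_last, Fin.snoc_castSucc]; exact hzf b
      | cast a =>
        induction b using Fin.lastCases with
        | last => rw [Fin.snoc_last, Fin.snoc_castSucc]; exact (hzf a).symm
        | cast b => rw [Fin.snoc_castSucc, Fin.snoc_castSucc]; exact hfc a b
    · set T := ⨆ i, Subgroup.zpowers (f i) with hT
      have hsup : (⨆ i, Subgroup.zpowers ((Fin.snoc f z : Fin (k + 1) → S) i)) =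
          T ⊔ Subgroup.zpowers z := by
        refine le_antisymm (iSup_le fun i => ?_) (sup_le (iSup_le fun i => ?_) ?_)
        · induction i using Fin.lastCases with
          | last => rw [Fin.snoc_last]; exact le_sup_right
          | cast i =>
            rw [Fin.snoc_castSucc]
            exact (le_iSup (fun i => Subgroup.zpowers (f i)) i).trans le_sup_left
        · exact le_iSup_of_le i.castSucc (by rw [Fin.snoc_castSucc])
        · exact le_iSup_of_le (Fin.last k) (by rw [Fin.snoc_last])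
      have hTz : T ≤ Subgroup.centralizer ({z} : Set S) := iSup_le fun i =>
        Subgroup.zpowers_le.2 (Subgroup.mem_centralizer_singleton_iff.2 (hzf i).symm)
      have hTj : T ≤ Subgroup.centralizer ({j} : Set S) := iSup_le fun i =>
        Subgroup.zpowers_le.2 (Subgroup.mem_centralizer_singleton_iff.2
          (Subgroup.mem_centralizer_iff.1 hjJ.2 _ ⟨i, rfl⟩))
      rw [Fin.prod_univ_castSucc]
      simp only [Fin.snoc_castSucc, Fin.snoc_last]
      rw [hsup, card_sup_of_commute _ _ (fun a ha b hb => ?_) (Subgroup.disjoint_def.2 fun {a} ha hb => ?_),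
        hcard]
      · obtain ⟨m, rfl⟩ := Subgroup.mem_zpowers_iff.1 hb
        exact (Commute.zpow_right (Subgroup.mem_centralizer_singleton_iff.1 (hTz ha)) m).eq
      · obtain ⟨m, rfl⟩ := Subgroup.mem_zpowers_iff.1 hb
        have h1 : j * z ^ m * j⁻¹ = z ^ m := by
          rw [← Subgroup.mem_centralizer_singleton_iff.1 (hTj ha), mul_inv_cancel_right]
        rw [← conj_zpow, hzj, inv_zpow, inv_eq_iff_mul_eq_one] at h1
        rw [← zpow_add] at h1
        have hdvd := orderOf_dvd_iff_zpow_eq_one.2 h1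
        rw [← two_mul] at hdvd
        rcases (Nat.prime_iff_prime_int.1 hzp).dvd_mul.1 hdvd with h' | h'
        · refine absurd ?_ hzne
          rw [← pow_two, ← orderOf_dvd_iff_pow_eq_one]
          exact Int.natCast_dvd_natCast.1 (by exact_mod_cast h')
        · exact orderOf_dvd_iff_zpow_eq_one.1 h'
    · set J' := I ⊓ Subgroup.centralizer (Set.range (Fin.snoc f z : Fin (k + 1) → S)) with hJ'
      have hmem : ∀ g, g ∈ J' ↔ g ∈ J ∧ g * z = z * g := by
        intro g
        rw [hJ', hJdef, Subgroup.mem_inf, Subgroup.mem_inf, Subgroup.mem_centralizer_iff,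
          Subgroup.mem_centralizer_iff, Fin.range_snoc]
        constructor
        · intro h
          exact ⟨⟨h.1, fun x hx => h.2 x (Set.mem_insert_of_mem _ hx)⟩,
            (h.2 z (Set.mem_insert _ _)).symm⟩
        · intro h
          refine ⟨h.1.1, fun x hx => ?_⟩
          rcases hx with rfl | hx
          · exact h.2.symm
          · exact h.1.2 x hx
      have hle : J' ≤ J := fun g hg => ((hmem g).1 hg).1
      have hidx : (J'.subgroupOf J).index = 2 := by
        rw [Subgroup.index_eq_two_iff]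
        refine ⟨⟨j, hjJ⟩, fun b => ?_⟩
        have hjz : j * z ≠ z * j := fun h => hzne (by
          have : j * z * j⁻¹ = z := by rw [h, mul_inv_cancel_right]
          rw [hzj, inv_eq_iff_mul_eq_one] at this
          exact this)
        by_cases hb : (b : S) * z = z * b
        · refine Or.inr ⟨(hmem _).2 ⟨b.2, hb⟩, fun hbj => hjz ?_⟩
          have h1 := ((hmem _).1 hbj).2
          simp only [Subgroup.coe_subtype, Subgroup.coe_mul] at h1
          calc j * z = (b : S)⁻¹ * ((b : S) * j * z) := by group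
            _ = (b : S)⁻¹ * (z * b) * j := by rw [h1]; group
            _ = z * j := by rw [← hb]; group
        · refine Or.inl ⟨(hmem _).2 ⟨J.mul_mem b.2 hjJ, ?_⟩, fun h => hb ((hmem _).1 h).2⟩
          -- every element of `J` fixes or inverts `z`
          obtain ⟨c, hc⟩ := Subgroup.mem_zpowers_iff.1 (hzI b b.2.1)
          have hcc : z ^ (c * c) = z := by
            rw [zpow_mul, hc, conj_zpow, hc]
            have h2 := hI2 b b.2.1
            have hbi : (b : S)⁻¹ = b := inv_eq_of_mul_eq_one_right h2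
            rw [hbi]
            calc (b : S) * (b * z * b) * b = (b * b : S) * z * (b * b) := by group
              _ = z := by rw [h2, one_mul, mul_one]
          have hd : ((orderOf z : ℤ)) ∣ (c - 1) * (c + 1) := by
            rw [orderOf_dvd_iff_zpow_eq_one, show (c - 1) * (c + 1) = c * c - 1 by ring, zpow_sub,
              hcc, zpow_one, mul_inv_cancel]
          rcases (Nat.prime_iff_prime_int.1 hzp).dvd_mul.1 hd with h' | h'
          · exfalso
            apply hb
            rw [orderOf_dvd_iff_zpow_eq_one, zpow_sub, zpow_one, mul_inv_eq_one, hc] at h'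
            exact mul_inv_eq_iff_eq_mul.1 h'
          · rw [orderOf_dvd_iff_zpow_eq_one, zpow_add, zpow_one, hc, mul_eq_one_iff_eq_inv] at h'
            show (b : S) * j * z = z * ((b : S) * j)
            calc (b : S) * j * z = (b : S) * (j * z * j⁻¹) * j := by group
              _ = ((b : S) * z * (b : S)⁻¹)⁻¹ * b * j := by rw [hzj]; group
              _ = z * ((b : S) * j) := by rw [h', inv_inv, mul_assoc]
      have h1 := (J'.subgroupOf J).card_mul_index
      rw [hidx, Nat.card_congr (Subgroup.subgroupOfEquivOfLe hle).toEquiv, hJ,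
        show n - k = n - (k + 1) + 1 by omega, pow_succ] at h1
      exact Nat.eq_of_mul_eq_mul_right two_pos h1

end Cfsg.Agent.S4408
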