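import Cfsg.Statements.S4409
import Cfsg.Agent.Lib.SmallTwo.MinimalEight
import Cfsg.Agent.Lib.Hall.Basic
import Cfsg.Agent.Lib.Fitting.Basic
import Cfsg.Agent.Lib.PSolvable.Core

set_option autoImplicit false
open Cfsg

namespace Cfsg.Agent.S4409

open scoped commutatorElement
open CfsgLib CfsgLib.MinimalEight

variable {G : Type*} [Group G] [Finite G]

/-- A 2-subgroup violating smallness contains a noncyclic abelian subgroup of order 8. -/
theorem eight_of_not_small {M : Subgroup G} (hM : IsPGroup 2 M) (h : ¬ MinimalEight.Small M) :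
    ∃ A : Subgroup G, A ≤ M ∧ IsMulCommutative A ∧ ¬ IsCyclic A ∧ Nat.card A = 8 := by
  classical
  haveI : Fact (Nat.Prime 2) := ⟨Nat.prime_two⟩
  by_contra hno
  refine h fun u hu v hv w hw huu hvv hu1 hv1 huv huvc hwu hwv => ?_
  by_contra hw'
  push Not at hw'
  obtain ⟨hw1, hwu', hwv', hwuv⟩ := hw'
  set B := Subgroup.closure ({u, v, w} : Set G) with hB
  have hBM : B ≤ M := (Subgroup.closure_le M).2 (by rintro x (rfl | rfl | rfl) <;> assumption)
  have huB : u ∈ B := Subgroup.subset_closure (by simp)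
  have hvB : v ∈ B := Subgroup.subset_closure (by simp)
  have hwB : w ∈ B := Subgroup.subset_closure (by simp)
  haveI hBc : IsMulCommutative B := Subgroup.isMulCommutative_closure (by
    rintro x (rfl | rfl | rfl) y (rfl | rfl | rfl) <;>
      first | rfl | assumption | exact huvc.symm | exact hwu.symm | exact hwv.symm)
  have hne : u * v ≠ 1 := fun e' => huv (mul_left_cancel (huu.trans e'.symm))
  set F : Finset G := {1, u, v, u * v} with hF
  have hF4 : F.card = 4 := by
    have d1 : (1 : G) ∉ ({u, v, u * v} : Finset G) := by simp [Ne.symm hu1, Ne.symm hv1, Ne.symm hne]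
    have d2 : u ∉ ({v, u * v} : Finset G) := by simp [huv, hv1]
    have d3 : v ∉ ({u * v} : Finset G) := by simp [hu1]
    rw [hF, Finset.card_insert_of_notMem d1, Finset.card_insert_of_notMem d2, Finset.card_insert_of_notMem d3,
      Finset.card_singleton]
  -- the four group
  set W := Subgroup.zpowers u ⊔ Subgroup.zpowers v with hWdef
  have hWB : W ≤ B := sup_le ((Subgroup.zpowers_le).2 huB) ((Subgroup.zpowers_le).2 hvB)
  have ho : ∀ x : G, x * x = 1 → x ≠ 1 → Nat.card (Subgroup.zpowers x) = 2 := fun x h1 h2 => by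
    rw [Nat.card_zpowers]; exact orderOf_eq_prime (by rw [pow_two, h1]) h2
  have hW : Nat.card W = 4 := by
    have h1 := Coprime.card_sup_mul_card_inf (K := Subgroup.zpowers u) (S := Subgroup.zpowers v)
      ((Subgroup.zpowers_le).2 (Subgroup.centralizer_le_normalizer _ fun y hy => by
        obtain ⟨i, rfl⟩ := Subgroup.mem_zpowers_iff.1 hy
        exact ((show Commute u v from huvc).zpow_left i).eq))
    have hinf : Subgroup.zpowers u ⊓ Subgroup.zpowers v = ⊥ := by
      by_contra hne'
      have h2 := Subgroup.card_le_of_le (inf_le_left : Subgroup.zpowers u ⊓ Subgroup.zpowers v ≤ _)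
      have h3 : 1 < Nat.card ↥(Subgroup.zpowers u ⊓ Subgroup.zpowers v) :=
        Subgroup.one_lt_card_iff_ne_bot _ |>.2 hne'
      have e1 := Subgroup.eq_of_le_of_card_ge (inf_le_left : Subgroup.zpowers u ⊓ Subgroup.zpowers v ≤ _)
        (by rw [ho u huu hu1]; omega)
      have e2 := Subgroup.eq_of_le_of_card_ge (inf_le_right : Subgroup.zpowers u ⊓ Subgroup.zpowers v ≤ _)
        (by rw [ho v hvv hv1]; omega)
      have h4 : u ∈ Subgroup.zpowers v := (e1.symm.trans e2).le (Subgroup.mem_zpowers u)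
      obtain ⟨i, hi⟩ := Subgroup.mem_zpowers_iff.1 h4
      rcases Int.even_or_odd i with ⟨k, rfl⟩ | ⟨k, rfl⟩
      · rw [← two_mul, zpow_mul, zpow_two, hvv, one_zpow] at hi; exact hu1 hi.symm
      · rw [zpow_add, zpow_mul, zpow_two, hvv, one_zpow, one_mul, zpow_one] at hi; exact huv hi.symm
    rw [hinf, Subgroup.card_bot, mul_one, ho u huu hu1, ho v hvv hv1] at h1
    exact h1
  have hB5 : 5 ≤ Nat.card B := by
    haveI := Fintype.ofFinite B
    have hwF : w ∉ F := by simp [hF, hw1, hwu', hwv', hwuv]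
    have h5 : (insert w F).card = 5 := by rw [Finset.card_insert_of_notMem hwF, hF4]
    rw [← h5, ← Fintype.card_coe, ← Nat.card_eq_fintype_card]
    refine Nat.card_le_card_of_injective (fun x => (⟨x.1, ?_⟩ : B)) fun p q e' => Subtype.ext (congrArg Subtype.val e' :)
    have := x.2
    simp only [hF, Finset.mem_insert, Finset.mem_singleton] at this
    rcases this with e' | e' | e' | e' | e' <;> rw [e']
    exacts [hwB, one_mem _, huB, hvB, mul_mem huB hvB]
  obtain ⟨j, hj⟩ := IsPGroup.iff_card.1 (hM.to_le hBM)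
  have hj3 : 3 ≤ j := by
    by_contra h'
    have := Nat.pow_le_pow_right two_pos (show j ≤ 2 by omega)
    omega
  obtain ⟨A, hA, hWA⟩ := Sylow.exists_subgroup_card_pow_prime_le 2 (n := 2) (m := 3) (G := B)
    (hj ▸ pow_dvd_pow 2 hj3) (W.subgroupOf B)
    (by rw [Nat.card_congr (Subgroup.subgroupOfEquivOfLe hWB).toEquiv, hW]; norm_num) (by norm_num)
  have hAu : u ∈ A.map B.subtype :=
    ⟨⟨u, huB⟩, hWA (show u ∈ W from Subgroup.mem_sup_left (Subgroup.mem_zpowers u)), rfl⟩
  have hAv : v ∈ A.map B.subtype :=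
    ⟨⟨v, hvB⟩, hWA (show v ∈ W from Subgroup.mem_sup_right (Subgroup.mem_zpowers v)), rfl⟩
  refine hno ⟨A.map B.subtype, (Subgroup.map_subtype_le _).trans hBM, ?_, ?_, ?_⟩
  · refine ⟨⟨fun x y => Subtype.ext ?_⟩⟩
    obtain ⟨a, -, ha⟩ := x.2
    obtain ⟨b, -, hb⟩ := y.2
    show (x : G) * y = y * x
    rw [← ha, ← hb, ← map_mul, ← map_mul, mul_comm' a b]
  · intro hc
    haveI := Fintype.ofFinite (A.map B.subtype)
    have h3 := IsCyclic.card_pow_eq_one_le (α := A.map B.subtype) (n := 2) two_pos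
    have h4 : ({1, ⟨u, hAu⟩, ⟨v, hAv⟩} : Finset (A.map B.subtype)).card = 3 := Finset.card_eq_three.2
      ⟨1, ⟨u, hAu⟩, ⟨v, hAv⟩, fun e => hu1 (congrArg Subtype.val e).symm,
        fun e => hv1 (congrArg Subtype.val e).symm, fun e => huv (congrArg Subtype.val e), rfl⟩
    have h5 := Finset.card_le_card (show ({1, ⟨u, hAu⟩, ⟨v, hAv⟩} : Finset (A.map B.subtype)) ⊆
      Finset.univ.filter (fun a => a ^ 2 = 1) from fun a ha => by
        simp only [Finset.mem_insert, Finset.mem_singleton] at ha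
        rw [Finset.mem_filter]
        refine ⟨Finset.mem_univ _, Subtype.ext ?_⟩
        rcases ha with rfl | rfl | rfl <;> rw [SubmonoidClass.coe_pow, pow_two]
        · simp
        · exact huu
        · exact hvv)
    omega
  · rw [Subgroup.card_map_of_injective B.subtype_injective, hA]; norm_num

/-- A noncyclic abelian subgroup of order 8 violates smallness. -/
theorem not_small_of_eight {M A : Subgroup G} (hAM : A ≤ M) (hA : IsMulCommutative A) (hnc : ¬ IsCyclic A)
    (h8 : Nat.card A = 8) : ¬ MinimalEight.Small M := by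
  classical
  intro hs
  haveI : Fact (Nat.Prime 2) := ⟨Nat.prime_two⟩
  have hA2 : IsPGroup 2 A := IsPGroup.of_card (n := 3) (by rw [h8]; norm_num)
  obtain ⟨u, v, hu, hv, huv⟩ : ∃ u v : A, orderOf u = 2 ∧ orderOf v = 2 ∧ u ≠ v := by
    by_contra hcon
    push Not at hcon
    rcases ZStar.cyclic_or_quaternion hA2 hcon with h | ⟨m, ⟨e⟩⟩
    · exact hnc h
    · have h1 : ∀ x y : QuaternionGroup (2 ^ m), x * y = y * x := fun x y =>
        e.symm.injective (by rw [map_mul, map_mul, mul_comm'])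
      rcases Nat.eq_zero_or_pos m with rfl | hm
      · haveI : IsCyclic (QuaternionGroup (2 ^ 0)) := QuaternionGroup.quaternionGroup_one_isCyclic
        exact hnc (isCyclic_of_surjective e.symm e.symm.surjective)
      · have h2 := Nat.card_congr e.toEquiv
        haveI : NeZero (2 ^ m) := ⟨by positivity⟩
        rw [h8, Nat.card_eq_fintype_card (α := QuaternionGroup (2 ^ m)), QuaternionGroup.card] at h2
        obtain rfl : m = 1 := Nat.pow_right_injective le_rfl (show 2 ^ m = 2 ^ 1 by rw [pow_one]; omega)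
        exact absurd (h1 (.a 1) (.xa 0)) (by decide)
  have hsq : ∀ x : A, orderOf x = 2 → (x : G) * x = 1 ∧ (x : G) ≠ 1 := fun x hx =>
    ⟨by rw [← Subgroup.coe_mul, ← pow_two, ← hx, pow_orderOf_eq_one, Subgroup.coe_one], fun e => by
      rw [show x = 1 from Subtype.ext e, orderOf_one] at hx; omega⟩
  haveI := Fintype.ofFinite A
  have hsub : ∀ w : A, w ∈ ({1, u, v, u * v} : Finset A) := fun w => by
    have := hs u (hAM u.2) v (hAM v.2) w (hAM w.2) (hsq u hu).1 (hsq v hv).1 (hsq u hu).2 (hsq v hv).2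
      (fun e => huv (Subtype.ext e)) (congrArg Subtype.val (mul_comm' u v))
      (congrArg Subtype.val (mul_comm' w u)) (congrArg Subtype.val (mul_comm' w v))
    simp only [Finset.mem_insert, Finset.mem_singleton]
    rcases this with e | e | e | e
    · exact Or.inl (Subtype.ext e)
    · exact Or.inr (Or.inl (Subtype.ext e))
    · exact Or.inr (Or.inr (Or.inl (Subtype.ext e)))
    · exact Or.inr (Or.inr (Or.inr (Subtype.ext e)))
  have := (Finset.card_le_card (fun w _ => hsub w : (Finset.univ : Finset A) ⊆ {1, u, v, u * v})).trans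
    ((Finset.card_insert_le _ _).trans (Nat.succ_le_succ Finset.card_le_three))
  rw [Finset.card_univ, ← Nat.card_eq_fintype_card, h8] at this
  omega

/-- The automorphisms of a group of order four have order dividing six. -/
theorem card_mulAut_dvd {V : Type*} [Group V] [Finite V] (h4 : Nat.card V = 4) : Nat.card (MulAut V) ∣ 6 := by
  classical
  haveI := Fintype.ofFinite V
  let r : MulAut V →* Equiv.Perm {c : V // c ≠ 1} :=
    { toFun := fun φ => Equiv.Perm.subtypePerm (φ.toEquiv : Equiv.Perm V) fun c => (MulEquiv.map_ne_one_iff φ)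
      map_one' := rfl
      map_mul' := fun φ ψ => rfl }
  refine (Subgroup.card_dvd_of_injective r fun φ ψ e => MulEquiv.ext fun c => ?_).trans ?_
  · by_cases hc : c = 1
    · rw [hc, map_one, map_one]
    · have := congrArg Subtype.val (Equiv.Perm.congr_fun e ⟨c, hc⟩)
      exact this
  · rw [Nat.card_eq_fintype_card, Fintype.card_perm, Fintype.card_subtype_compl, Fintype.card_subtype_eq,
      ← Nat.card_eq_fintype_card, h4]
    decide

/-- If a 2-subgroup acts on a group of order four with kernel in `Q`, then `|X : Q|` is at most two. -/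
theorem relIndex_le_two {X Q : Subgroup G} (hX : IsPGroup 2 X) {V : Type*} [Group V] [Finite V]
    (h4 : Nat.card V = 4) (f : X →* MulAut V) (hker : f.ker ≤ Q.subgroupOf X) : Q.relIndex X ≤ 2 := by
  haveI : Fact (Nat.Prime 2) := ⟨Nat.prime_two⟩
  obtain ⟨k, hk⟩ := hX.index f.ker
  have h1 : f.ker.index ∣ 6 := by
    rw [Subgroup.index_ker]; exact (Subgroup.card_subgroup_dvd_card _).trans (card_mulAut_dvd h4)
  have h2 : f.ker.index ∣ 2 := by
    rw [hk] at h1 ⊢
    exact (Nat.Coprime.pow_left k (by norm_num : Nat.Coprime 2 3)).dvd_of_dvd_mul_right (n := 3) h1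
  exact Nat.le_of_dvd (by norm_num) ((Subgroup.index_dvd_of_le hker).trans h2)

/-- The extension of a self-centralizing small 2-core is small. -/
theorem small_of_core {Q X : Subgroup G} [Q.Normal] (hQX : Q ≤ X) (hX : IsPGroup 2 X)
    (hC : Subgroup.centralizer (Q : Set G) ≤ Q)
    (hQ : (Nat.card Q = 4 ∧ ∀ m ∈ Q, m * m = 1) ∨ ∃ z a b, Q8Data Q z a b)
    (A : Subgroup G) (hAX : A ≤ X) (hA : IsMulCommutative A) (hnc : ¬ IsCyclic A) (h8 : Nat.card A = 8) :
    False := by
  haveI : Fact (Nat.Prime 2) := ⟨Nat.prime_two⟩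
  rcases hQ with ⟨h4, -⟩ | ⟨z, a, b, h⟩
  · let f : X →* MulAut Q := (MulAut.conjNormal).comp X.subtype
    have hker : f.ker ≤ Q.subgroupOf X := fun g hg => hC fun q hq => by
      have h0 : f g ⟨q, hq⟩ = ⟨q, hq⟩ := by rw [MonoidHom.mem_ker.mp hg]; rfl
      have h' : (g : G) * q * (g : G)⁻¹ = q := congrArg Subtype.val h0
      exact (mul_inv_eq_iff_eq_mul.mp h').symm
    have h2 := relIndex_le_two hX h4 f hker
    have h3 := Subgroup.relIndex_mul_relIndex ⊥ Q X bot_le hQX
    rw [Subgroup.relIndex_bot_left, Subgroup.relIndex_bot_left, h4] at h3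
    have hAeq : A = X := Subgroup.eq_of_le_of_card_ge hAX (by omega)
    have hXC : X ≤ Subgroup.centralizer (Q : Set G) := fun x hx q hq =>
      congrArg Subtype.val (mul_comm' (⟨q, hAeq ▸ hQX hq⟩ : A) ⟨x, hAeq ▸ hx⟩)
    have := Subgroup.card_le_of_le (hXC.trans hC)
    have h5 := Subgroup.card_le_of_le hAX
    omega
  · let V := Q ⧸ Subgroup.center Q
    have hZ : Nat.card (Subgroup.center Q) = 2 := by
      refine (Nat.card_eq_two_iff' (1 : Subgroup.center Q)).2 ⟨⟨⟨z, h.hz⟩, Subgroup.mem_center_iff.2 fun y =>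
        Subtype.ext (h.zc y y.2).symm⟩, fun e => h.hz1 (congrArg (fun x : Subgroup.center Q => ((x : Q) : G)) e), fun y hy => ?_⟩
      refine Subtype.ext (Subtype.ext ?_)
      rcases h.center ((y : Q) : G) (y : Q).2 (fun w hw =>
        congrArg Subtype.val (Subgroup.mem_center_iff.1 y.2 ⟨w, hw⟩).symm) with e | e
      · exact absurd (Subtype.ext (Subtype.ext e)) hy
      · exact e
    have hV : Nat.card V = 4 := by
      have := Subgroup.card_mul_index (Subgroup.center Q)
      rw [hZ, h.card] at this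
      rw [← Subgroup.index_eq_card]; omega
    let ι : MulAut Q →* MulAut V :=
      { toFun := fun α => QuotientGroup.congr _ _ α (Subgroup.characteristic_iff_map_eq.mp inferInstance α)
        map_one' := MulEquiv.ext fun v => by
          induction v using QuotientGroup.induction_on with
          | H x => rfl
        map_mul' := fun α β => MulEquiv.ext fun v => by
          induction v using QuotientGroup.induction_on with
          | H x => rfl }
    let f : X →* MulAut V := ι.comp ((MulAut.conjNormal).comp X.subtype)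
    have hact : ∀ g : G, (∀ q ∈ Q, g * q * g⁻¹ = q ∨ g * q * g⁻¹ = q * z) → g ∈ Q := fun g hg => by
      obtain ⟨m, hm, hc⟩ := q8_inner h (hg a h.ha) (hg b h.hb)
      have := Q.mul_mem (Q.inv_mem hm) (hC fun q hq => (hc q hq).symm)
      rwa [inv_mul_cancel_left] at this
    have hfq : ∀ (g : X) (q : Q), f g (QuotientGroup.mk q) =
        QuotientGroup.mk (⟨g * q * (g : G)⁻¹, (inferInstance : Q.Normal).conj_mem q q.2 g⟩ : Q) := fun g q => rfl
    have hcoset : ∀ q r : Q, (QuotientGroup.mk q : V) = QuotientGroup.mk r → (r : G) = q ∨ (r : G) = q * z :=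
      fun q r e => by
      have h1 := QuotientGroup.eq.1 e
      rcases h.center ((q⁻¹ * r : Q) : G) (q⁻¹ * r).2 (fun w hw =>
        congrArg Subtype.val (Subgroup.mem_center_iff.1 h1 ⟨w, hw⟩).symm) with e' | e' <;>
        rw [Subgroup.coe_mul, Subgroup.coe_inv] at e'
      · exact Or.inl (inv_mul_eq_one.1 e').symm
      · exact Or.inr (inv_mul_eq_iff_eq_mul.1 e')
    have hker : f.ker ≤ Q.subgroupOf X := fun g hg => hact g fun q hq => hcoset ⟨q, hq⟩ _ (by
      conv_lhs => rw [show (QuotientGroup.mk (⟨q, hq⟩ : Q) : V) = f g (QuotientGroup.mk ⟨q, hq⟩) by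
        rw [MonoidHom.mem_ker.1 hg]; rfl]
      rw [hfq])
    have h2 := relIndex_le_two hX hV f hker
    have hmul : ∀ x ∈ X, ∀ y ∈ X, x ∉ Q → y ∉ Q → x * y ∈ Q := by
      intro x hx y hy hxQ hyQ
      have hidx : (Q.subgroupOf X).index = 2 := by
        refine le_antisymm h2 (Nat.one_lt_iff_ne_zero_and_ne_one.2 ⟨Subgroup.index_ne_zero_of_finite, fun e => ?_⟩)
        exact hxQ (Subgroup.subgroupOf_eq_top.1 (Subgroup.index_eq_one.1 e) hx)
      exact ((Subgroup.mul_mem_iff_of_index_two hidx (a := ⟨x, hx⟩) (b := ⟨y, hy⟩)).2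
        ⟨fun h' => absurd h' hxQ, fun h' => absurd h' hyQ⟩ :)
    -- two involutions of `A`
    obtain ⟨u, huA, huu, huQ, hzA⟩ : ∃ u ∈ A, u * u = 1 ∧ u ∉ Q ∧ z ∈ A := by
      by_contra hcon
      refine not_small_of_eight le_rfl hA hnc h8 fun u hu v hv w hw huu hvv hu1 hv1 huv _ _ _ => ?_
      exfalso
      by_cases huQ : u ∈ Q
      · have e1 := (h.inv u huQ huu).resolve_left hu1
        by_cases hvQ : v ∈ Q
        · exact huv (e1.trans ((h.inv v hvQ hvv).resolve_left hv1).symm)
        · exact hcon ⟨v, hv, hvv, hvQ, e1 ▸ hu⟩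
      · by_cases hvQ : v ∈ Q
        · exact hcon ⟨u, hu, huu, huQ, ((h.inv v hvQ hvv).resolve_left hv1) ▸ hv⟩
        · have hm := hmul u (hAX hu) v (hAX hv) huQ hvQ
          have hc : u * v = v * u := congrArg Subtype.val (mul_comm' (⟨u, hu⟩ : A) ⟨v, hv⟩)
          have e1 : u * v = z := (h.inv (u * v) hm (by
            rw [show u * v * (u * v) = u * (v * u) * v by group, ← hc, show u * (u * v) * v = (u * u) * (v * v) by group,
              huu, hvv, one_mul])).resolve_left fun e => huv (mul_left_cancel (huu.trans e.symm))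
          exact hcon ⟨u, hu, huu, huQ, e1 ▸ mul_mem hu hv⟩
    have hu1 : u ≠ 1 := fun e => huQ (e ▸ Q.one_mem)
    -- an element of order four of `Q` commuting with `u`
    obtain ⟨y, hyQ, hyy, hyu⟩ : ∃ y ∈ Q, y * y = z ∧ u * y = y * u := by
      have huz : u ≠ z := fun e => huQ (e ▸ h.hz)
      obtain ⟨w, hwA, hw⟩ : ∃ w ∈ A, w ≠ 1 ∧ w ≠ u ∧ w ≠ z ∧ w ≠ u * z := by
        classical
        by_contra hcon
        push Not at hcon
        haveI := Fintype.ofFinite A
        have hsub : ∀ w : A, w ∈ ({1, ⟨u, huA⟩, ⟨z, hzA⟩, ⟨u, huA⟩ * ⟨z, hzA⟩} : Finset A) := fun w => by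
          simp only [Finset.mem_insert, Finset.mem_singleton]
          by_contra hw
          push Not at hw
          exact hw.2.2.2 (Subtype.ext (hcon w w.2 (fun e => hw.1 (Subtype.ext e)) (fun e => hw.2.1 (Subtype.ext e))
            (fun e => hw.2.2.1 (Subtype.ext e))))
        have := (Finset.card_le_card (fun w _ => hsub w : (Finset.univ : Finset A) ⊆ _)).trans
          ((Finset.card_insert_le _ _).trans (Nat.succ_le_succ Finset.card_le_three))
        rw [Finset.card_univ, ← Nat.card_eq_fintype_card, h8] at this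
        omega
      have hwu : u * w = w * u := congrArg Subtype.val (mul_comm' (⟨u, huA⟩ : A) ⟨w, hwA⟩)
      by_cases hwQ : w ∈ Q
      · refine ⟨w, hwQ, (h.sq w hwQ).resolve_left fun e => ?_, hwu⟩
        rcases h.inv w hwQ e with e' | e'
        exacts [hw.1 e', hw.2.2.1 e']
      · have hm := hmul u (hAX huA) w (hAX hwA) huQ hwQ
        refine ⟨u * w, hm, (h.sq _ hm).resolve_left fun e => ?_, by rw [mul_assoc u w u, ← hwu]⟩
        rcases h.inv _ hm e with e' | e'
        · exact hw.2.1 (mul_left_cancel (e'.trans huu.symm))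
        · exact hw.2.2.2 (by rw [← e', ← mul_assoc, huu, one_mul])
    have huinv : u⁻¹ = u := inv_eq_of_mul_eq_one_right huu
    obtain ⟨c, hcQ, hc1, hc2⟩ : ∃ c ∈ Q, u * c * u⁻¹ ≠ c ∧ u * c * u⁻¹ ≠ c * z := by
      by_contra hcon
      push Not at hcon
      exact huQ (hact u fun q hq => or_iff_not_imp_left.2 (hcon q hq))
    have hyc1 : y ≠ 1 ∧ y ≠ z := by
      constructor <;> rintro rfl
      · rw [one_mul] at hyy; exact h.hz1 hyy.symm
      · rw [h.hzz] at hyy; exact h.hz1 hyy.symm
    have hzu : u * z = z * u := congrArg Subtype.val (mul_comm' (⟨u, huA⟩ : A) ⟨z, hzA⟩)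
    have hc0 : c ≠ 1 ∧ c ≠ z := by
      constructor <;> rintro rfl
      · exact hc1 (by rw [mul_one, mul_inv_cancel])
      · exact hc1 (by rw [hzu, mul_inv_cancel_right])
    have hcyc : ∀ q ∈ Q, ∀ r ∈ Q, q ≠ 1 → q ≠ z → r = q ∨ r = q * z → r ≠ 1 ∧ r ≠ z := by
      rintro q hq r hr h1 h2 (rfl | rfl)
      · exact ⟨h1, h2⟩
      · exact ⟨fun e => h2 (by rw [← mul_one q, ← h.hzz, ← mul_assoc, e, one_mul]),
          fun e => h1 (mul_right_cancel (e.trans (one_mul z).symm))⟩
    let π := QuotientGroup.mk' (Subgroup.center Q)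
    have hπ1 : ∀ q : Q, π q = 1 → (q : G) = 1 ∨ (q : G) = z := fun q e => by
      rcases hcoset 1 q e.symm with e' | e'
      · exact Or.inl e'
      · exact Or.inr (e'.trans (one_mul z))
    have hcy : π ⟨y, hyQ⟩ ≠ π ⟨c, hcQ⟩ := fun e => by
      rcases hcoset _ _ e with e' | e'
      · change c = y at e'
        exact hc1 (by rw [e', hyu, mul_inv_cancel_right])
      · change c = y * z at e'
        exact hc1 (by rw [e', show u * (y * z) * u⁻¹ = (u * y) * z * u⁻¹ by group, hyu, mul_assoc y u z, hzu]; group)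
    have hyy' : π ⟨y, hyQ⟩ * π ⟨y, hyQ⟩ = 1 := by
      rw [← map_mul, ← MonoidHom.mem_ker, QuotientGroup.ker_mk', Subgroup.mem_center_iff]
      exact fun w => Subtype.ext (show (w : G) * (y * y) = y * y * w by rw [hyy]; exact (h.zc w w.2).symm)
    have hd : u * c * u⁻¹ ∈ Q := (inferInstance : Q.Normal).conj_mem c hcQ u
    rcases card_four_elems hV (x := π ⟨y, hyQ⟩) (y := π ⟨c, hcQ⟩)
      (fun e => by rcases hπ1 _ e with e' | e' <;> [exact hyc1.1 e'; exact hyc1.2 e'])
      (fun e => by rcases hπ1 _ e with e' | e' <;> [exact hc0.1 e'; exact hc0.2 e']) hcy hyy'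
      (π ⟨_, hd⟩) with e | e | e | e
    · rcases hπ1 _ e with e' | e'
      · exact hc0.1 (conj_eq_one_iff.1 e')
      · exact hc0.2 (mul_left_cancel (mul_right_cancel (e'.trans (by rw [hzu, mul_inv_cancel_right]))))
    · rcases hcoset _ _ e.symm with e' | e'
      · change u * c * u⁻¹ = y at e'
        exact hcy (congrArg π (Subtype.ext (show y = c from
          (mul_left_cancel (mul_right_cancel (e'.trans (by rw [hyu, mul_inv_cancel_right])))).symm)))
      · change u * c * u⁻¹ = y * z at e'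
        have e2 : c = y * z := mul_left_cancel (mul_right_cancel (e'.trans
          (show y * z = u * (y * z) * u⁻¹ by
            rw [show u * (y * z) * u⁻¹ = (u * y) * z * u⁻¹ by group, hyu, mul_assoc y u z, hzu]; group)))
        exact hc1 (by rw [e', e2])
    · rcases hcoset _ _ e.symm with e' | e'
      exacts [hc1 e', hc2 e']
    · rw [← map_mul] at e
      have key : ∀ ε : G, ε * ε = 1 → u * ε = ε * u → y * ε = ε * y → u * c * u⁻¹ = y * c * ε → False := by
        intro ε he heu hey e'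
        rw [huinv] at e'
        have e2 : c = z * c := by
          calc c = (u * u) * c * (u * u) := by rw [huu, one_mul, mul_one]
            _ = u * (u * c * u) * u := by group
            _ = u * (y * c * ε) * u := by rw [e']
            _ = (u * y) * c * (ε * u) := by group
            _ = (y * u) * c * (u * ε) := by rw [hyu, ← heu]
            _ = y * (u * c * u) * ε := by group
            _ = y * (y * c * ε) * ε := by rw [e']
            _ = (y * y) * c * (ε * ε) := by group
            _ = z * c := by rw [hyy, he, mul_one]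
        exact h.hz1 (mul_right_cancel ((one_mul c).trans e2)).symm
      rcases hcoset _ _ e.symm with e' | e'
      · exact key 1 (one_mul 1) (by rw [mul_one, one_mul]) (by rw [mul_one, one_mul]) (e'.trans (mul_one _).symm)
      · exact key z h.hzz hzu (h.zc y hyQ).symm e'

/-- Let S be a finite solvable group with O_{2'}(S) = 1 that contains a non-cyclic abelian subgroup of order 8, while no proper subgroup of S of 2-power index contains one. Then a Sylow 2-subgroup X of S is normal in S, and one of the following holds: X is abelian; X is extraspecial of order at least 32; X has a generalized quaternion subgroup X₀ of index 2 with X = X₀·C_X(X₀); or X is special with centre of order 4. -/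
theorem result {S : Type*} [Group S] [Finite S]
    [Group.IsSolvable S] (hO : Cfsg.pPrimeCore 2 S = ⊥)
    (h8 : ∃ A : Subgroup S, IsMulCommutative ↥A ∧ ¬ IsCyclic ↥A ∧ Nat.card ↥A = 8)
    (hmin : ∀ R : Subgroup S, R ≠ ⊤ → (∃ k : ℕ, R.index = 2 ^ k) →
      ¬ ∃ A : Subgroup S, A ≤ R ∧ IsMulCommutative ↥A ∧ ¬ IsCyclic ↥A ∧ Nat.card ↥A = 8)
    (X : Sylow 2 S) :
    (X : Subgroup S).Normal ∧
      (IsMulCommutative ↥X ∨
        (Cfsg.IsExtraspecial 2 ↥X ∧ 32 ≤ Nat.card ↥X) ∨
        (∃ (X₀ : Subgroup S) (k : ℕ), X₀ ≤ (X : Subgroup S) ∧ X₀.relIndex (X : Subgroup S) = 2 ∧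
          Nonempty (↥X₀ ≃* QuaternionGroup (2 ^ (k + 1))) ∧ X₀ ⊔ ((X : Subgroup S) ⊓ Subgroup.centralizer (X₀ : Set S)) = (X : Subgroup S)) ∨
        (Cfsg.IsSpecial 2 ↥X ∧ Nat.card ↥(Subgroup.center ↥X) = 4)) := by
  classical
  haveI : Fact (Nat.Prime 2) := ⟨Nat.prime_two⟩
  set Q := Cfsg.pCore 2 S with hQdef
  haveI : Q.Normal := Fitting.pCore_normal 2
  have hQ2 : IsPGroup 2 Q := Fitting.pCore_isPGroup 2
  have hC : Subgroup.centralizer (Q : Set S) ≤ Q :=
    PSolvable.centralizer_pCore_le (PSolvable.isPSolvable_of_isSolvable inferInstance) hO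
  have hQX : Q ≤ (X : Subgroup S) := by
    obtain ⟨P, hP⟩ := hQ2.exists_le_sylow
    obtain ⟨g, rfl⟩ := MulAction.exists_smul_eq S P X
    intro q hq
    exact ⟨g⁻¹ * q * g, hP ((inferInstance : Q.Normal).conj_mem' q hq g), by
      show g * (g⁻¹ * q * g) * g⁻¹ = q
      group⟩
  -- a noncyclic abelian subgroup of order eight inside `X`
  obtain ⟨A, hAX, hA⟩ : ∃ A : Subgroup S, A ≤ (X : Subgroup S) ∧
      IsMulCommutative ↥A ∧ ¬ IsCyclic ↥A ∧ Nat.card ↥A = 8 := by
    obtain ⟨A, hAc, hAnc, hA8⟩ := h8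
    obtain ⟨P, hP⟩ := (IsPGroup.of_card (n := 3) (by rw [hA8]; norm_num) : IsPGroup 2 A).exists_le_sylow
    obtain ⟨g, rfl⟩ := MulAction.exists_smul_eq S P X
    refine ⟨A.map (MulAut.conj g).toMonoidHom, Subgroup.map_mono hP, ?_, ?_, ?_⟩
    · refine ⟨⟨fun x y => Subtype.ext ?_⟩⟩
      obtain ⟨a, ha, hax⟩ := x.2
      obtain ⟨b, hb, hby⟩ := y.2
      show (x : S) * y = y * x
      rw [← hax, ← hby, ← map_mul, ← map_mul]
      exact congrArg _ (congrArg Subtype.val (mul_comm' (⟨a, ha⟩ : A) ⟨b, hb⟩) :)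
    · exact fun h => hAnc (isCyclic_of_surjective (A.equivMapOfInjective (MulAut.conj g).toMonoidHom (MulAut.conj g).injective).symm
        (MulEquiv.surjective _))
    · rw [Subgroup.card_map_of_injective (MulAut.conj g).injective, hA8]
  -- the odd Hall subgroup
  obtain ⟨n, hn⟩ := IsPGroup.iff_card.1 X.isPGroup'
  set m := (X : Subgroup S).index with hm
  have hmodd : Odd m := Nat.not_even_iff_odd.1 fun h => X.not_dvd_index (even_iff_two_dvd.1 h)
  have hcard : Nat.card S = m * 2 ^ n := by rw [← hn, hm, mul_comm, Subgroup.card_mul_index]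
  have hmn : m.Coprime (2 ^ n) := Nat.Coprime.pow_right n (Nat.coprime_two_right.2 hmodd)
  obtain ⟨K, hK⟩ := Hall.exists_hall hcard hmn
  have hKodd : Odd (Nat.card K) := hK ▸ hmodd
  have hsmall : ∀ M : Subgroup S, M ≤ (X : Subgroup S) → M ≠ X →
      K ≤ Subgroup.normalizer (M : Set S) → MinimalEight.Small M := by
    intro M hMX hMne hKM
    by_contra hns
    obtain ⟨B, hBM, hB⟩ := eight_of_not_small (X.isPGroup'.to_le hMX) hns
    have h1 := Coprime.card_sup_mul_card_inf (K := M) (S := K) hKM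
    obtain ⟨j, hj⟩ := IsPGroup.iff_card.1 (X.isPGroup'.to_le hMX)
    have hinf : Nat.card ↥(M ⊓ K) = 1 := Nat.eq_one_of_dvd_coprimes
      (Nat.Coprime.pow_left j (Nat.coprime_two_left.2 hKodd))
      (hj ▸ Subgroup.card_dvd_of_le inf_le_left) (Subgroup.card_dvd_of_le inf_le_right)
    rw [hinf, mul_one, hj, hK] at h1
    have h2 := Subgroup.card_mul_index (M ⊔ K)
    rw [h1, hcard] at h2
    have h3 : 2 ^ j * (M ⊔ K).index = 2 ^ n := Nat.eq_of_mul_eq_mul_left hmodd.pos (by rw [← h2]; ring)
    obtain ⟨k, -, hk⟩ := (Nat.dvd_prime_pow Nat.prime_two).1 ⟨2 ^ j, by rw [← h3, mul_comm]⟩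
    refine hmin (M ⊔ K) (fun e => hMne ?_) ⟨k, hk⟩ ⟨B, hBM.trans le_sup_left, hB⟩
    rw [e, Subgroup.index_top, mul_one] at h3
    exact Subgroup.eq_of_le_of_card_ge hMX (by rw [hn, hj, h3])
  have hKtriv : K ≤ Subgroup.centralizer (Q : Set S) → K = ⊥ := fun h => by
    have h1 : K ≤ Q := h.trans hC
    obtain ⟨j, hj⟩ := IsPGroup.iff_card.1 (hQ2.to_le h1)
    refine Subgroup.eq_bot_of_card_eq K ?_
    rcases Nat.eq_zero_or_pos j with rfl | hj0
    · rw [hj, pow_zero]
    · exact absurd hKodd (Nat.not_odd_iff_even.2 (hj ▸ (Nat.even_pow).2 ⟨even_two, by omega⟩))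
  have hQeq : Q = X := by
    by_contra hne
    have hKQ : K ≤ Subgroup.normalizer (Q : Set S) :=
      fun g _ => (Subgroup.normalizer_eq_top_iff.2 inferInstance).ge (Subgroup.mem_top g)
    by_cases hmove : K ≤ Subgroup.centralizer (Q : Set S)
    · have hK1 := hKtriv hmove
      have hm1 : m = 1 := by rw [← hK, hK1, Subgroup.card_bot]
      have hXtop : (X : Subgroup S) = ⊤ := Subgroup.index_eq_one.1 hm1
      refine hne (le_antisymm hQX ?_)
      haveI : (X : Subgroup S).Normal := by rw [hXtop]; infer_instance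
      exact le_sSup ⟨inferInstance, X.isPGroup'⟩
    · exact small_of_core hQX X.isPGroup' hC
        (moved_cases hKodd hKQ hQ2 (hsmall Q hQX hne hKQ) hmove) A hAX hA.1 hA.2.1 hA.2.2
  have hXn : (X : Subgroup S).Normal := hQeq ▸ (inferInstance : Q.Normal)
  refine ⟨hXn, ?_⟩
  by_cases hab : IsMulCommutative (X : Subgroup S)
  · exact Or.inl hab
  refine Or.inr ?_
  have hKX : K ≤ Subgroup.normalizer ((X : Subgroup S) : Set S) :=
    fun g _ => (Subgroup.normalizer_eq_top_iff.2 hXn).ge (Subgroup.mem_top g)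
  have hbig : ¬ MinimalEight.Small (X : Subgroup S) := not_small_of_eight hAX hA.1 hA.2.1 hA.2.2
  have hmove : ¬ K ≤ Subgroup.centralizer ((X : Subgroup S) : Set S) := fun h => by
    have hK1 := hKtriv (hQeq ▸ h)
    -- a 2-group is then its own noncyclic abelian subgroup
    have hm1 : m = 1 := by rw [← hK, hK1, Subgroup.card_bot]
    have hXtop : (X : Subgroup S) = ⊤ := Subgroup.index_eq_one.1 hm1
    refine hab ?_
    have hAtop : A = ⊤ := by
      by_contra hAne
      have hS := Subgroup.card_top (G := S)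
      rw [← hXtop, hn] at hS
      obtain ⟨k, -, hk⟩ := (Nat.dvd_prime_pow Nat.prime_two).1 (hS ▸ Subgroup.index_dvd_card A)
      exact hmin A hAne ⟨k, hk⟩ ⟨A, le_rfl, hA⟩
    haveI := hA.1
    exact ⟨⟨fun x y => Subtype.ext (congrArg Subtype.val
      (mul_comm' (⟨x, hAtop.ge (Subgroup.mem_top _)⟩ : A) ⟨y, hAtop.ge (Subgroup.mem_top _)⟩) :)⟩⟩
  rcases structure_cases X.isPGroup' hKodd hKX hmove hab hbig hsmall with h | ⟨X₀, h1, h2, h3, h4⟩ | h
  · exact Or.inl h
  · exact Or.inr (Or.inl ⟨X₀, 0, h1, h2, h3, h4⟩)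
  · exact Or.inr (Or.inr h)

end Cfsg.Agent.S4409
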