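import Cfsg.Statements.S4410
import Cfsg.Agent.Lib.Transvection
import Cfsg.Agent.Lib.PSolvable.Core

set_option autoImplicit false
open Cfsg

namespace Cfsg.Agent.S4410

theorem hz2 : ∀ a : ZMod 2, a = 0 ∨ a = 1 := by decide

theorem hze : ∀ a b : ZMod 2, a + b = 0 → a = b := by decide

/-- Let V be a finite-dimensional vector space over the field with two elements and S a solvable group of linear automorphisms of V with O₂(S) = 1. If P ∈ S has order 4 and (P − 1)³ = 0 on V, then the image of (P − 1)² has at least 4 elements; equivalently, in the decomposition of V into indecomposable modules for the cyclic group generated by P, at least two summands have dimension 3. -/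
theorem result
    {V : Type*} [AddCommGroup V] [Module (ZMod 2) V] [Finite V]
    (S : Subgroup (V ≃ₗ[ZMod 2] V)) (hS : Group.IsSolvable ↥S) (hO2 : Cfsg.pCore 2 ↥S = ⊥)
    (P : V ≃ₗ[ZMod 2] V) (hPS : P ∈ S) (hP4 : orderOf P = 4)
    (hcub : ((P : V →ₗ[ZMod 2] V) - LinearMap.id) ^ 3 = 0) :
    4 ≤ Nat.card ↥(LinearMap.range (((P : V →ₗ[ZMod 2] V) - LinearMap.id) ^ 2)) := by
  classical
  haveI : Fact (Nat.Prime 2) := ⟨Nat.prime_two⟩
  haveI : Fact (Nat.Prime 3) := ⟨Nat.prime_three⟩
  haveI : Finite (V ≃ₗ[ZMod 2] V) :=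
    Finite.of_injective (fun e => (e : V → V)) DFunLike.coe_injective
  by_contra hlt
  have hch : ∀ x : V, x + x = 0 := fun x => by
    rw [← two_smul (ZMod 2) x, show (2 : ZMod 2) = 0 from rfl, zero_smul]
  have heq : ∀ a b : V, a + b = 0 → a = b := fun a b h => by
    rw [← add_zero a, ← hch b, ← add_assoc, h, zero_add]
  set N : V →ₗ[ZMod 2] V := (P : V →ₗ[ZMod 2] V) - LinearMap.id with hN
  have hNapp : ∀ x, N x = P x + x := fun x => by
    rw [hN, LinearMap.sub_apply, LinearMap.id_apply, sub_eq_iff_eq_add]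
    show P x = P x + x + x
    rw [add_assoc, hch, add_zero]
  have hN2 : ∀ x, (N ^ 2) x = P (P x) + x := fun x => by
    rw [pow_two, Module.End.mul_apply, hNapp, hNapp, map_add]
    calc P (P x) + P x + (P x + x) = P (P x) + (P x + P x) + x := by abel
      _ = P (P x) + x := by rw [hch, add_zero]
  -- the range is a line
  set R := LinearMap.range (N ^ 2) with hR
  have hRne : ∃ v ∈ R, v ≠ 0 := by
    by_contra h
    push Not at h
    have hP2 : P ^ 2 = 1 := LinearEquiv.ext fun x => by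
      have h1 := h _ ⟨x, rfl⟩
      rw [hN2] at h1
      show P (P x) = x
      calc P (P x) = P (P x) + x + x := by rw [add_assoc, hch, add_zero]
        _ = x := by rw [h1, zero_add]
    have := orderOf_dvd_of_pow_eq_one hP2
    rw [hP4] at this
    norm_num at this
  obtain ⟨v, hvR, hv0⟩ := hRne
  have hR2 : ∀ x ∈ R, x = 0 ∨ x = v := by
    intro x hx
    by_contra hne
    push Not at hne
    refine hlt ?_
    have hvx : v + x ≠ 0 := fun h => hne.2 (by
      calc x = v + v + x := by rw [hch, zero_add]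
        _ = v := by rw [add_assoc, h, add_zero])
    haveI := Fintype.ofFinite R
    have hc : ({0, ⟨v, hvR⟩, ⟨x, hx⟩, ⟨v + x, R.add_mem hvR hx⟩} : Finset R).card ≤ Nat.card R := by
      rw [Nat.card_eq_fintype_card]; exact Finset.card_le_univ _
    rw [Finset.card_insert_of_notMem, Finset.card_insert_of_notMem, Finset.card_pair] at hc
    · exact hc
    · intro h
      exact hv0 (by simpa using congrArg Subtype.val h)
    · simp [Subtype.ext_iff, Ne.symm hne.2, hne.1]
    · simp [Subtype.ext_iff, Ne.symm hv0, Ne.symm hne.1, Ne.symm hvx]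
  -- the involution
  set t := P * P with ht
  have htR : ∀ x, t x + x ∈ R := fun x => by
    show P (P x) + x ∈ R
    rw [← hN2]; exact ⟨x, rfl⟩
  have htx : ∀ x, t x = x ∨ t x = x + v := by
    intro x
    rcases hR2 _ (htR x) with h | h
    · left
      calc t x = t x + x + x := by rw [add_assoc, hch, add_zero]
        _ = x := by rw [h, zero_add]
    · right
      calc t x = t x + x + x := by rw [add_assoc, hch, add_zero]
        _ = x + v := by rw [h, add_comm]
  have hPv : P v = v := by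
    obtain ⟨z, hz⟩ := hvR
    have h1 : P v ∈ R := ⟨P z, by rw [← hz, hN2, hN2, map_add]⟩
    rcases hR2 _ h1 with h | h
    · exact absurd (P.injective (h.trans (map_zero P).symm)) hv0
    · exact h
  have htv : t v = v := by show P (P v) = v; rw [hPv, hPv]
  have htt : t * t = 1 := by
    rw [ht, ← mul_assoc]
    have := pow_orderOf_eq_one P
    rwa [hP4, pow_succ, pow_succ, pow_succ, pow_one] at this
  have htne : t ≠ 1 := fun h => by
    have := orderOf_dvd_of_pow_eq_one (x := P) (n := 2) (by rw [pow_two]; exact h)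
    rw [hP4] at this
    norm_num at this
  -- the Fitting subgroup has odd order
  set F := Cfsg.fittingSubgroup ↥S with hF
  haveI := CfsgLib.Fitting.fittingSubgroup_isNilpotent (G := ↥S)
  haveI := CfsgLib.Fitting.fittingSubgroup_normal (G := ↥S)
  have hodd : Odd (Nat.card F) := by
    rw [← Nat.not_even_iff_odd, even_iff_two_dvd]
    intro h2
    let Q : Sylow 2 F := default
    haveI := Q.characteristic_of_normal inferInstance
    have hle := CfsgLib.Fitting.le_pCore (G := ↥S)
      (inferInstance : ((Q : Subgroup F).map F.subtype).Normal) (Q.2.map _)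
    rw [hO2, le_bot_iff, Subgroup.map_eq_bot_iff_of_injective _ (Subgroup.subtype_injective _)] at hle
    exact Q.ne_bot_of_dvd_card h2 hle
  have hoddel : ∀ e : ↥S, e ∈ F → e * e = 1 → e = 1 := by
    intro e he he2
    have h1 : orderOf (⟨e, he⟩ : F) ∣ 2 := orderOf_dvd_of_pow_eq_one (Subtype.ext (by rw [pow_two]; exact he2))
    have h2 := Nat.eq_one_of_dvd_coprimes hodd.coprime_two_left h1 (orderOf_dvd_natCard _)
    exact congrArg Subtype.val (orderOf_eq_one_iff.1 h2)
  set T : ↥S := ⟨t, mul_mem hPS hPS⟩ with hT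
  have hTT : T * T = 1 := Subtype.ext htt
  obtain ⟨x, hx⟩ : ∃ x : F, T * x ≠ x * T := by
    by_contra h
    push Not at h
    have hTF : T ∈ F := CfsgLib.PSolvable.centralizer_fittingSubgroup_le
      (Subgroup.mem_centralizer_iff.2 fun y hy => (h ⟨y, hy⟩).symm)
    exact htne (congrArg Subtype.val (hoddel T hTF hTT))
  set C₀ : ↥S := (x : ↥S)⁻¹ * T * x * T with hC₀
  have hTinv : T⁻¹ = T := inv_eq_of_mul_eq_one_right hTT
  have hC₀F : C₀ ∈ F := by
    rw [hC₀, show (x : ↥S)⁻¹ * T * x * T = (x : ↥S)⁻¹ * (T * x * T⁻¹) by rw [hTinv]; simp only [mul_assoc]]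
    exact mul_mem (inv_mem x.2) ((inferInstance : F.Normal).conj_mem _ x.2 T)
  have hC₀1 : C₀ ≠ 1 := fun h => hx (by
    calc T * x = (x : ↥S) * ((x : ↥S)⁻¹ * T * x * T) * T⁻¹ := by group
      _ = x * T := by rw [← hC₀, h, mul_one, hTinv])
  set c : V ≃ₗ[ZMod 2] V := (C₀ : V ≃ₗ[ZMod 2] V) with hc
  set xl : V ≃ₗ[ZMod 2] V := ((x : ↥S) : V ≃ₗ[ZMod 2] V) with hxl
  set s : V ≃ₗ[ZMod 2] V := xl⁻¹ * t * xl with hs
  have hcst : c = s * t := rfl
  set w := xl⁻¹ v with hw
  have hsx : ∀ y, s y = y ∨ s y = y + w := by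
    intro y
    rcases htx (xl y) with h | h
    · left
      show xl⁻¹ (t (xl y)) = y
      rw [h]; exact xl.symm_apply_apply y
    · right
      show xl⁻¹ (t (xl y)) = y + w
      rw [h, map_add, hw]
      exact congrArg (· + _) (xl.symm_apply_apply y)
  have hsw : s w = w := by
    show xl⁻¹ (t (xl (xl⁻¹ v))) = xl⁻¹ v
    rw [show xl (xl⁻¹ v) = v from xl.apply_symm_apply v, htv]
  have hss : s * s = 1 := by
    rw [hs]
    calc xl⁻¹ * t * xl * (xl⁻¹ * t * xl) = xl⁻¹ * (t * t) * xl := by group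
      _ = 1 := by rw [htt, mul_one, inv_mul_cancel]
  have hw0 : w ≠ 0 := fun h => hv0 (xl⁻¹.injective (h.trans (map_zero _).symm))
  -- `c` preserves and is trivial modulo `⟨v, w⟩`
  have hcmove : ∀ y, ∃ a₁ a₂ : ZMod 2, c y = y + (a₁ • v + a₂ • w) := by
    intro y
    rcases htx y with h | h <;> rcases hsx (t y) with h' | h' <;>
      [exact ⟨0, 0, by rw [hcst]; show s (t y) = _; rw [h', h]; simp⟩;
       exact ⟨0, 1, by rw [hcst]; show s (t y) = _; rw [h', h]; simp⟩;
       exact ⟨1, 0, by rw [hcst]; show s (t y) = _; rw [h', h]; simp⟩;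
       exact ⟨1, 1, by rw [hcst]; show s (t y) = _; rw [h', h]; simp [add_assoc]⟩]
  have hc4 : ∀ e : ↥S, e ∈ F → (∀ y, (e : V ≃ₗ[ZMod 2] V) (((e : V ≃ₗ[ZMod 2] V)) ((e : V ≃ₗ[ZMod 2] V) ((e : V ≃ₗ[ZMod 2] V) y))) = y) → e = 1 := by
    intro e he h
    have h2 : e * e = 1 := hoddel _ (mul_mem he he) (Subtype.ext (LinearEquiv.ext h))
    exact hoddel e he h2
  have hnotfix : ¬ (c (c v) = v ∧ c (c w) = w) := by
    rintro ⟨h1, h2⟩
    refine hC₀1 (hc4 C₀ hC₀F fun y => ?_)
    show c (c (c (c y))) = y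
    obtain ⟨a₁, a₂, ha⟩ := hcmove y
    obtain ⟨e₁, e₂, he⟩ := hcmove (c y)
    have key : c (c y) = y + ((a₁ + e₁) • v + (a₂ + e₂) • w) := by
      rw [he, ha, add_smul, add_smul]; abel
    have key2 : c (c (c (c y))) = y + (((a₁ + e₁) • v + (a₂ + e₂) • w) + ((a₁ + e₁) • v + (a₂ + e₂) • w)) := by
      conv_lhs => rw [key]
      simp only [map_add, map_smul, h1, h2]
      rw [key]; abel
    rw [key2, hch, add_zero]
  have hcases : c v = v + w ∧ c w = v := by
    have hcv : c v = s v := by rw [hcst]; show s (t v) = _; rw [htv]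
    rcases hsx v with h1 | h1 <;> rcases htx w with h2 | h2
    · refine absurd ⟨?_, ?_⟩ hnotfix
      · rw [hcv, h1, hcv, h1]
      · have hcw : c w = w := by rw [hcst]; show s (t w) = _; rw [h2, hsw]
        rw [hcw, hcw]
    · refine absurd ⟨?_, ?_⟩ hnotfix
      · rw [hcv, h1, hcv, h1]
      · have hcw : c w = w + v := by
          rw [hcst]; show s (t w) = _; rw [h2, map_add, hsw, h1]
        rw [hcw, map_add, hcw, hcv, h1, add_assoc, hch, add_zero]
    · refine absurd ⟨?_, ?_⟩ hnotfix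
      · have hcw : c w = w := by rw [hcst]; show s (t w) = _; rw [h2, hsw]
        rw [hcv, h1, map_add, hcv, h1, hcw, add_assoc, hch, add_zero]
      · have hcw : c w = w := by rw [hcst]; show s (t w) = _; rw [h2, hsw]
        rw [hcw, hcw]
    · refine ⟨hcv.trans h1, ?_⟩
      rw [hcst]; show s (t w) = _
      rw [h2, map_add, hsw, h1, add_comm v w, ← add_assoc, hch, zero_add]
  obtain ⟨hcv, hcw⟩ := hcases
  have hwv : w ≠ v := fun h => hw0 (by
    have := hcw; rw [h, hcv, h] at this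
    rw [h]; rwa [hch, eq_comm] at this)
  -- the conjugate under `P`
  set PS : ↥S := ⟨P, hPS⟩ with hPSdef
  set D₀ : ↥S := PS * C₀ * PS⁻¹ with hD₀
  have hD₀F : D₀ ∈ F := (inferInstance : F.Normal).conj_mem _ hC₀F PS
  set d : V ≃ₗ[ZMod 2] V := (D₀ : V ≃ₗ[ZMod 2] V) with hd
  have hdP : ∀ y, d (P y) = P (c y) := fun y => by
    show P (c (P⁻¹ (P y))) = _
    rw [show P⁻¹ (P y) = y from P.symm_apply_apply y]
  set w' := P w with hw'
  have hdv : d v = v + w' := by
    conv_lhs => rw [← hPv]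
    rw [hdP, hcv, map_add, hPv]
  have hdw : d w' = v := by rw [hw', hdP, hcw, hPv]
  have hdmove : ∀ y, ∃ b₁ b₂ : ZMod 2, d y = y + (b₁ • v + b₂ • w') := by
    intro y
    obtain ⟨b₁, b₂, hb⟩ := hcmove (P⁻¹ y)
    refine ⟨b₁, b₂, ?_⟩
    rw [show y = P (P⁻¹ y) from (P.apply_symm_apply y).symm, hdP, hb, map_add, map_add, map_smul,
      map_smul, hPv]
  -- `w'` lies outside `⟨v, w⟩`
  have htw : t w = w + v := by
    rcases htx w with h | h
    · exfalso
      have h1 : c w = w := by rw [hcst]; show s (t w) = _; rw [h, hsw]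
      exact hwv (h1.symm.trans hcw)
    · exact h
  have hout : ∀ a₁ a₂ : ZMod 2, w' ≠ a₁ • v + a₂ • w := by
    intro a₁ a₂ h
    have h1 : t w = P (a₁ • v + a₂ • w) := congrArg P h
    rw [map_add, map_smul, map_smul, hPv, htw] at h1
    have hPw : P w = a₁ • v + a₂ • w := h
    rw [hPw] at h1
    rcases hz2 a₁ with rfl | rfl <;> rcases hz2 a₂ with rfl | rfl <;> simp at h1 hPw
    all_goals first
      | exact hwv (heq _ _ h1)
      | exact hw0 h1
      | exact hv0 h1
      | exact hw0 (P.injective (hPw.trans (map_zero P).symm))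
      | exact hv0 (heq _ _ (by simpa [← add_assoc, hch] using h1))
      | (rw [← add_assoc, hch, zero_add] at h1; exact hv0 (by simpa using h1))
  obtain ⟨a₁, a₂, ha⟩ := hcmove w'
  obtain ⟨b₁, b₂, hb⟩ := hdmove w
  let ι : ZMod 2 × ZMod 2 × ZMod 2 → V := fun z => z.1 • v + z.2.1 • w + z.2.2 • w'
  have hι : Function.Injective ι := by
    intro z z' h
    have h0 : (z.1 + z'.1) • v + (z.2.1 + z'.2.1) • w + (z.2.2 + z'.2.2) • w' = 0 := by
      have : ι z + ι z' = 0 := by rw [h, hch]
      rw [← this]; simp only [ι, add_smul]; abel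
    have key : ∀ i j l : ZMod 2, i • v + j • w + l • w' = 0 → i = 0 ∧ j = 0 ∧ l = 0 := by
      intro i j l hz
      have hl : l = 0 := by
        by_contra hl
        have hl1 : l = 1 := (hz2 l).resolve_left hl
        subst hl1
        refine hout i j ?_
        calc w' = (i • v + j • w) + (i • v + j • w) + (1 : ZMod 2) • w' := by rw [hch, zero_add, one_smul]
          _ = i • v + j • w := by rw [add_assoc, hz, add_zero]
      subst hl
      rw [zero_smul, add_zero] at hz
      rcases hz2 i with rfl | rfl <;> rcases hz2 j with rfl | rfl <;> simp at hz ⊢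
      · exact hw0 hz
      · exact hv0 hz
      · exact hwv (by
          calc w = v + v + w := by rw [hch, zero_add]
            _ = v := by rw [add_assoc, hz, add_zero])
    obtain ⟨h1, h2, h3⟩ := key _ _ _ h0
    exact Prod.ext (hze _ _ h1) (Prod.ext (hze _ _ h2) (hze _ _ h3))
  have hcι : ∀ z, c (ι z) = ι (CfsgLib.TransvectionPair.fc a₁ a₂ z) := fun z => by
    simp only [ι, CfsgLib.TransvectionPair.fc, map_add, map_smul, hcv, hcw, ha, add_smul, mul_smul,
      smul_add]
    abel
  have hdι : ∀ z, d (ι z) = ι (CfsgLib.TransvectionPair.fd b₁ b₂ z) := fun z => by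
    simp only [ι, CfsgLib.TransvectionPair.fd, map_add, map_smul, hdv, hdw, hb, add_smul, mul_smul,
      smul_add]
    abel
  -- both elements lie in the 3-part of `F`
  have hc3 : C₀ ^ 3 = 1 := by
    have h6 : ∀ y, c (c (c (c (c (c y))))) = y := by
      intro y
      obtain ⟨i, j, hij⟩ := hcmove y
      have hc2v : c (c v) = w := by
        rw [hcv, map_add, hcv, hcw, add_comm v w, add_assoc, hch, add_zero]
      have h3 : ∀ i j : ZMod 2, c (c (c (i • v + j • w))) = i • v + j • w := by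
        intro i j
        simp only [map_add, map_smul]
        rw [hc2v, hcw, hc2v]
      obtain ⟨i₁, j₁, hij₁⟩ := hcmove (c y)
      obtain ⟨i₂, j₂, hij₂⟩ := hcmove (c (c y))
      have hy3 : c (c (c y)) = y + ((i + i₁ + i₂) • v + (j + j₁ + j₂) • w) := by
        rw [hij₂, hij₁, hij]; simp only [add_smul]; abel
      have h6' : c (c (c (c (c (c y))))) = c (c (c y)) + ((i + i₁ + i₂) • v + (j + j₁ + j₂) • w) := by
        conv_lhs => rw [hy3]
        rw [map_add, map_add, map_add, h3]
      rw [h6', hy3, add_assoc, hch, add_zero]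
    have h2 : C₀ ^ 3 * C₀ ^ 3 = 1 := by
      refine Subtype.ext (LinearEquiv.ext fun y => ?_)
      rw [← pow_add]
      exact h6 y
    exact hoddel _ (pow_mem hC₀F 3) h2
  have hd3 : D₀ ^ 3 = 1 := by rw [hD₀, conj_pow, hc3, mul_one, mul_inv_cancel]
  let Q : Sylow 3 F := default
  haveI : (Q : Subgroup F).Normal := inferInstance
  have hmemQ : ∀ e : ↥S, ∀ he : e ∈ F, e ^ 3 = 1 → (⟨e, he⟩ : F) ∈ (Q : Subgroup F) := by
    intro e he h3
    have hp : IsPGroup 3 (Subgroup.zpowers (⟨e, he⟩ : F)) := by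
      rw [IsPGroup.iff_card, Nat.card_zpowers]
      obtain ⟨k, -, hk⟩ := (Nat.dvd_prime_pow Nat.prime_three).1
        (orderOf_dvd_of_pow_eq_one (x := (⟨e, he⟩ : F)) (n := 3 ^ 1) (Subtype.ext (by simpa using h3)))
      exact ⟨k, hk⟩
    obtain ⟨Q', hQ'⟩ := hp.exists_le_sylow
    haveI := Sylow.unique_of_normal Q inferInstance
    rw [Subsingleton.elim Q' Q] at hQ'
    exact hQ' (Subgroup.mem_zpowers _)
  have hCQ := hmemQ C₀ hC₀F hc3
  have hDQ := hmemQ D₀ hD₀F hd3
  have hkill : ∀ (e : F) (f : ZMod 2 × ZMod 2 × ZMod 2 → ZMod 2 × ZMod 2 × ZMod 2),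
      e ∈ (Q : Subgroup F) → (∀ z, ((e : ↥S) : V ≃ₗ[ZMod 2] V) (ι z) = ι (f z)) →
      ∀ z, f^[9] z = z := by
    intro e f heQ hf
    obtain ⟨k, hk⟩ := Q.2 ⟨e, heQ⟩
    refine CfsgLib.TransvectionPair.iterate_nine (k := k) fun z => hι ?_
    have hpow : ∀ n : ℕ, ((((e ^ n : F) : ↥S)) : V ≃ₗ[ZMod 2] V) (ι z) = ι (f^[n] z) := by
      intro n
      induction n with
      | zero => rfl
      | succ n ih =>
        rw [pow_succ', Function.iterate_succ_apply', ← hf, ← ih]
        rfl
    rw [← hpow]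
    have : (e ^ 3 ^ k : F) = 1 := congrArg Subtype.val hk
    rw [this]
    rfl
  rcases CfsgLib.TransvectionPair.not_three_group a₁ a₂ b₁ b₂ with ⟨z, hz⟩ | ⟨z, hz⟩
  · refine hz (hkill (⟨C₀, hC₀F⟩ * ⟨D₀, hD₀F⟩) _ (mul_mem hCQ hDQ) (fun z => ?_) z)
    show c (d (ι z)) = _
    rw [hdι, hcι]; rfl
  · refine hz (hkill (⟨C₀, hC₀F⟩ * (⟨D₀, hD₀F⟩ * ⟨D₀, hD₀F⟩)) _ (mul_mem hCQ (mul_mem hDQ hDQ)) (fun z => ?_) z)
    show c (d (d (ι z))) = _
    rw [hdι, hdι, hcι]; rfl

end Cfsg.Agent.S4410
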