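import Mathlib
import Cfsg.Statements.S4411
import Cfsg.Agent.S0618
import Cfsg.Agent.Lib.Splitting.Nilpotent
import Cfsg.Agent.Lib.PSolvable.Core
import Cfsg.Agent.Lib.FourOrbit.Basic
import Cfsg.Agent.Lib.ZJ.Centers
import Cfsg.Agent.Lib.Fusion.CenterThompson
import Cfsg.Agent.Lib.SL2.Facts
import Cfsg.Agent.Lib.Layer.PComponent
import Cfsg.Agent.Lib.PSolvable.TwoPrimes

set_option autoImplicit false
set_option linter.style.haveILetI false
set_option linter.unusedVariables false
open scoped MatrixGroups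
open Cfsg CfsgLib

namespace Cfsg.Agent.S4411

universe u

variable {p q : ℕ}

/-- Some `q`-element of `N(T)` does not centralize `T`. -/
def Moves {X : Type*} [Group X] (q : ℕ) (T : Subgroup X) : Prop :=
  ∃ y : X, (∃ i : ℕ, orderOf y = q ^ i) ∧ y ∈ Subgroup.normalizer (T : Set X) ∧
    y ∉ Subgroup.centralizer (T : Set X)

/-- The conclusion: some characteristic subgroup of `S` is moved. -/
def MovesChar {X : Type*} [Group X] (q : ℕ) (S : Subgroup X) : Prop :=
  ∃ K : Subgroup ↥S, K.Characteristic ∧ Moves q (K.map S.subtype)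

theorem char_comap {S T : Type*} [Group S] [Group T] (f : S →* T) (hf : Function.Surjective f)
    (hker : f.ker.Characteristic) (K : Subgroup T) (hK : K.Characteristic) :
    (K.comap f).Characteristic := by
  refine Subgroup.characteristic_iff_le_comap.mpr fun φ x hx => ?_
  have key : ∀ ψ : S ≃* S, ∀ a ∈ f.ker, ψ a ∈ f.ker := fun ψ a ha =>
    Subgroup.characteristic_iff_le_comap.mp hker ψ ha
  let L : ∀ ψ : S ≃* S, T →* T := fun ψ =>
    f.liftOfSurjective hf ⟨f.comp ψ.toMonoidHom, fun a ha => key ψ a ha⟩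
  have hL : ∀ (ψ : S ≃* S) (a : S), L ψ (f a) = f (ψ a) := fun ψ a =>
    f.liftOfRightInverse_comp_apply _ _ ⟨f.comp ψ.toMonoidHom, fun a ha => key ψ a ha⟩ a
  let e : T ≃* T := MonoidHom.toMulEquiv (L φ) (L φ.symm)
    (MonoidHom.ext fun t => by
      obtain ⟨a, rfl⟩ := hf t
      simp [hL])
    (MonoidHom.ext fun t => by
      obtain ⟨a, rfl⟩ := hf t
      simp [hL])
  have := Subgroup.characteristic_iff_le_comap.mp hK e hx
  rw [Subgroup.mem_comap] at this ⊢
  show f (φ x) ∈ K
  rw [← hL φ x]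
  exact this

theorem mem_of_pow {X : Type*} [Group X] [Finite X] [Fact p.Prime] {C : Subgroup X} {x : X}
    (hco : (orderOf x).Coprime p) {j : ℕ} (hj : x ^ p ^ j ∈ C) : x ∈ C := by
  have h : Nat.gcd (p ^ j) (orderOf x) = 1 := (hco.symm.pow_left j).gcd_eq_one
  exact (Subgroup.zpowers_le.mpr hj) (mem_zpowers_pow_iff.mpr h)

theorem coprime_pow (hp : p.Prime) (hq : q.Prime) (hpq : p ≠ q) (i : ℕ) : (q ^ i).Coprime p :=
  ((Nat.coprime_primes hq hp).mpr hpq.symm).pow_left i

theorem omega_center_le_thompson (p : ℕ) {X : Type*} [Group X] [Finite X] (S : Subgroup X) :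
    Cfsg.omegaOne p (S ⊓ Subgroup.centralizer (S : Set X)) ≤ Cfsg.thompsonSubgroupOf p S := by
  rw [Cfsg.omegaOne, Subgroup.closure_le]
  rintro x ⟨hxC, hxp⟩
  obtain ⟨A, hA, hmax⟩ := Set.Finite.exists_maximalFor (fun A : Subgroup ↥S => Nat.card A) {A : Subgroup ↥S | Cfsg.IsElementaryAbelian p A}
    (Set.toFinite _) ⟨⊥, ⟨⟨fun a b => Subsingleton.elim _ _⟩⟩, fun a ha => by
      rw [Subgroup.mem_bot.mp ha, one_pow]⟩
  have hAm : A ∈ Cfsg.maxElementaryAbelianSubgroups p ↥S := ⟨hA, fun B hB => ?_⟩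
  refine ⟨⟨x, hxC.1⟩, le_sSup hAm ?_, rfl⟩
  swap
  · rcases le_total (Nat.card A) (Nat.card B) with h | h
    exacts [hmax hB h, h]
  set xs : ↥S := ⟨x, hxC.1⟩
  have hc : ∀ s : ↥S, Commute xs s := fun s => Subtype.ext
    (Subgroup.mem_centralizer_iff.mp hxC.2 s s.2).symm
  have hB : Cfsg.IsElementaryAbelian p (A ⊔ Subgroup.zpowers xs) := by
    have hle : A ⊔ Subgroup.zpowers xs ≤ Subgroup.centralizer ((A ⊔ Subgroup.zpowers xs : Subgroup ↥S) : Set ↥S) := by
      have hx : Subgroup.zpowers xs ≤ Subgroup.center ↥S :=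
        Subgroup.zpowers_le.mpr (Subgroup.mem_center_iff.mpr fun s => (hc s).eq.symm)
      rw [Subgroup.le_centralizer_iff]
      refine sup_le ?_ (hx.trans (Subgroup.center_le_centralizer _))
      rw [Subgroup.le_centralizer_iff]
      haveI := hA.1
      exact sup_le (Subgroup.le_centralizer A) (hx.trans (Subgroup.center_le_centralizer _))
    refine ⟨Subgroup.le_centralizer_iff_isMulCommutative.mp hle, fun b hb => ?_⟩
    haveI : (Subgroup.zpowers xs).Normal := ⟨fun z hz g => by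
      obtain ⟨k, rfl⟩ := Subgroup.mem_zpowers_iff.mp hz
      rw [((hc g).zpow_left k).eq.symm, mul_inv_cancel_right]
      exact Subgroup.zpow_mem _ (Subgroup.mem_zpowers xs) k⟩
    obtain ⟨a, ha, z, hz, rfl⟩ := Subgroup.mem_sup_of_normal_right.mp hb
    obtain ⟨k, rfl⟩ := Subgroup.mem_zpowers_iff.mp hz
    rw [((hc a).zpow_left k).symm.mul_pow, hA.2 a ha, one_mul, ← zpow_natCast, ← zpow_mul, mul_comm,
      zpow_mul, zpow_natCast, show xs ^ p = 1 from Subtype.ext hxp, one_zpow]
  have h := hmax hB (Subgroup.card_le_of_le le_sup_left)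
  have he : A ⊔ Subgroup.zpowers xs = A :=
    (Subgroup.eq_of_le_of_card_ge le_sup_left h).symm
  exact he ▸ Subgroup.mem_sup_right (Subgroup.mem_zpowers xs)

section Two

variable [Fact p.Prime] [Fact q.Prime]

theorem exists_qpart {X : Type*} [Group X] [Finite X] (hpq : p ≠ q)
    (hπ : ∀ r : ℕ, r.Prime → r ∣ Nat.card X → r = p ∨ r = q) {T : Subgroup X} {n : X}
    (hn : n ∈ Subgroup.normalizer (T : Set X)) {Y : Type*} [Group Y] [Finite Y] (f : X →* Y)
    (hc : f n ∉ Subgroup.centralizer ((T.map f : Subgroup Y) : Set Y))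
    (ho : ∃ i : ℕ, orderOf (f n) = q ^ i) : Moves q T := by
  obtain ⟨j, m, -, -, hco, -⟩ := Transfer.exists_pow_coprime_part (p := p) n
  refine ⟨n ^ p ^ j, ?_, pow_mem hn _, fun h => hc ?_⟩
  · refine ⟨(orderOf (n ^ p ^ j)).primeFactorsList.length,
      Nat.eq_prime_pow_of_unique_prime_dvd (orderOf_pos _).ne' fun {r} hr hd => ?_⟩
    rcases hπ r hr (hd.trans (orderOf_dvd_natCard _)) with rfl | rfl
    · exact absurd (Nat.dvd_gcd hd dvd_rfl) (by rw [hco.gcd_eq_one]; exact hr.not_dvd_one)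
    · rfl
  · obtain ⟨i, hi⟩ := ho
    refine mem_of_pow (p := p) (hi ▸ coprime_pow Fact.out Fact.out hpq i) (j := j) ?_
    rw [← map_pow, Subgroup.mem_centralizer_iff]
    rintro _ ⟨t, ht, rfl⟩
    rw [← map_mul, ← map_mul, Subgroup.mem_centralizer_iff.mp h t ht]

theorem moves_of_subgroup {X : Type*} [Group X] {S A : Subgroup X} (hSA : S ≤ A)
    (h : MovesChar q (S.subgroupOf A)) : MovesChar q S := by
  obtain ⟨K, hK, y, hy, hyn, hyc⟩ := h
  set e := Subgroup.subgroupOfEquivOfLe hSA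
  refine ⟨K.comap e.symm.toMonoidHom, char_comap _ e.symm.surjective ?_ K hK, (y : X),
    by simpa [Subgroup.orderOf_coe] using hy, ?_, ?_⟩
  · rw [(MonoidHom.ker_eq_bot_iff _).mpr e.symm.injective]; infer_instance
  all_goals
    have hmap : (K.comap e.symm.toMonoidHom).map S.subtype =
        (K.map (S.subgroupOf A).subtype).map A.subtype := by
      ext z
      constructor
      · rintro ⟨w, hw, rfl⟩
        exact ⟨_, ⟨e.symm w, hw, rfl⟩, by simp [e]⟩
      · rintro ⟨_, ⟨w, hw, rfl⟩, rfl⟩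
        exact ⟨e w, by simpa using hw, by simp [e]⟩
    rw [hmap]
  · exact Subgroup.le_normalizer_map A.subtype ⟨y, hyn, rfl⟩
  · refine fun h => hyc (Subgroup.mem_centralizer_iff.mpr fun z hz => Subtype.ext ?_)
    exact Subgroup.mem_centralizer_iff.mp h _ ⟨z, hz, rfl⟩

theorem exists_q_elt_of_mul {X : Type*} [Group X] [Finite X] {A B : Subgroup X}
    (hAB : ∀ g : X, ∃ a ∈ A, ∃ b ∈ B, g = a * b) (hq : q ∣ Nat.card X) :
    q ∣ Nat.card A ∨ q ∣ Nat.card B := by
  have horb : MulAction.orbit B ((1 : X) : X ⧸ A) = Set.univ := by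
    refine Set.eq_univ_of_forall fun z => ?_
    induction z using QuotientGroup.induction_on with | _ g => ?_
    obtain ⟨a, ha, b, hb, e⟩ := hAB g⁻¹
    refine ⟨⟨b⁻¹, inv_mem hb⟩, QuotientGroup.eq.mpr ?_⟩
    rw [show g = b⁻¹ * a⁻¹ by rw [← mul_inv_rev, ← e, inv_inv]]
    simpa [mul_assoc] using inv_mem ha
  have h1 : (MulAction.stabilizer B ((1 : X) : X ⧸ A)).index = A.index := by
    rw [MulAction.index_stabilizer, horb, Set.ncard_univ]
    rfl
  have h2 : A.index ∣ Nat.card B := h1 ▸ Subgroup.index_dvd_card _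
  rw [← A.card_mul_index] at hq
  exact ((Fact.out : q.Prime).dvd_mul.mp hq).imp id (fun h => h.trans h2)

theorem core : ∀ (n : ℕ) (X : Type u) [Group X] [Finite X], Nat.card X = n → p ≠ q →
    ¬ ((p = 2 ∧ q = 3) ∨ (p = 3 ∧ q = 2)) →
    (∀ r : ℕ, r.Prime → r ∣ Nat.card X → r = p ∨ r = q) → ∀ (S : Sylow p X) (R : Subgroup X),
    R.Normal → IsPGroup p R → Moves q R → MovesChar q (S : Subgroup X) := by
  intro n
  induction n using Nat.strong_induction_on with
  | _ n IH =>
  intro X _ _ hn hpq h23 hπ S R hRn hRp hR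
  have hp : p.Prime := Fact.out
  have hq : q.Prime := Fact.out
  have hsol : Cfsg.IsPSolvable p X := PSolvable.isPSolvable_of_isSolvable
    (FourOrbit.isSolvable_of_two_primes hp hq hpq hπ)
  obtain ⟨y, ⟨i, hyi⟩, -, hyc⟩ := hR
  have hyco : (orderOf y).Coprime p := hyi ▸ coprime_pow hp hq hpq i
  set O := Cfsg.pPrimeCore p X with hO
  haveI : O.Normal := Transfer.pPrimeCore_normal p X
  have hRS : R ≤ (S : Subgroup X) := IsPGroup.le_sylow_of_normal hRp S
  by_cases hO1 : O = ⊥
  swap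
  · -- pass to the quotient by the core
    set f := QuotientGroup.mk' O with hf
    have hsurj : Function.Surjective f := QuotientGroup.mk'_surjective O
    have hker : (Nat.card f.ker).Coprime p := by
      rw [hf, QuotientGroup.ker_mk']; exact Transfer.pPrimeCore_coprime p
    have hlt : Nat.card (X ⧸ O) < n := by
      rw [← hn, Subgroup.card_eq_card_quotient_mul_card_subgroup O]
      exact lt_mul_of_one_lt_right Nat.card_pos ((O.one_lt_card_iff_ne_bot).mpr hO1)
    set S' : Subgroup (X ⧸ O) := ((S.mapSurjective hsurj : Sylow p (X ⧸ O)) : Subgroup (X ⧸ O))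
    have hS' : S' = (S : Subgroup X).map f := Sylow.coe_mapSurjective _ _
    obtain ⟨K, hK, z, hz, hzn, hzc⟩ := IH _ hlt (X ⧸ O) rfl hpq h23
      (fun r hr hd => hπ r hr (hd.trans (Subgroup.card_quotient_dvd_card O)))
      (S.mapSurjective hsurj) (R.map f) (hRn.map f hsurj) (hRp.map f)
      ⟨f y, ⟨_, (Nat.dvd_prime_pow hq).mp (hyi ▸ orderOf_map_dvd f y) |>.choose_spec.2⟩, by
        haveI := hRn.map f hsurj
        rw [Subgroup.normalizer_eq_top]; trivial, fun h => hyc (Subgroup.mem_centralizer_iff.mpr fun r hr => by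
        have e := Subgroup.mem_centralizer_iff.mp h (f r) ⟨r, hr, rfl⟩
        have hm : r * y * r⁻¹ * y⁻¹ ∈ R := by
          rw [mul_assoc r y r⁻¹, mul_assoc r (y * r⁻¹) y⁻¹]
          exact mul_mem hr (hRn.conj_mem _ (inv_mem hr) y)
        have := PSolvable.eq_one_of_mem_of_mem hRp hker hm (by
          rw [MonoidHom.mem_ker, map_mul, map_mul, map_mul, e, map_inv, map_inv]; group)
        rw [mul_inv_eq_one, mul_inv_eq_iff_eq_mul] at this
        exact this)⟩
    change Subgroup ↥S' at K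
    let f' : ↥(S : Subgroup X) →* ↥S' := (f.comp (S : Subgroup X).subtype).codRestrict S' fun s =>
      hS'.ge ⟨s, s.2, rfl⟩
    have hf' : Function.Surjective f' := fun t => by
      obtain ⟨s, hs, e⟩ := hS'.le t.2
      exact ⟨⟨s, hs⟩, Subtype.ext e⟩
    have hinj : f'.ker = ⊥ := (Subgroup.eq_bot_iff_forall _).mpr fun s hs => Subtype.ext
      (PSolvable.eq_one_of_mem_of_mem S.2 hker s.2 (congrArg Subtype.val (MonoidHom.mem_ker.mp hs)))
    refine ⟨K.comap f', char_comap f' hf' (by rw [hinj]; infer_instance) K hK, ?_⟩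
    set T := (K.comap f').map (S : Subgroup X).subtype
    have hT : T.map f = K.map S'.subtype := by
      ext w
      constructor
      · rintro ⟨_, ⟨s, hs, rfl⟩, rfl⟩
        exact ⟨f' s, hs, rfl⟩
      · rintro ⟨k, hk, rfl⟩
        obtain ⟨s, rfl⟩ := hf' k
        exact ⟨_, ⟨s, hk, rfl⟩, rfl⟩
    obtain ⟨x, rfl⟩ := hsurj z
    obtain ⟨m, hm, hmx⟩ := PSolvable.exists_mem_normalizer_of_map hker
      (S.2.to_le (Subgroup.map_subtype_le _)) (P := T) (x := x) (by rw [hT]; exact hzn)
    exact exists_qpart hpq hπ hm f (by rw [hmx, hT]; exact hzc) (hmx ▸ hz)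
  set Q := Cfsg.pCore p X with hQ
  haveI : Q.Normal := Fitting.pCore_normal p
  have hQS : Q ≤ (S : Subgroup X) := IsPGroup.le_sylow_of_normal (Fitting.pCore_isPGroup p) S
  have hc : Subgroup.centralizer (Q : Set X) ≤ Q := PSolvable.centralizer_pCore_le hsol hO1
  -- every nontrivial q-element moves Q
  have hmove : ∀ A : Subgroup X, q ∣ Nat.card A → ∃ a ∈ A, (∃ i : ℕ, orderOf a = q ^ i) ∧
      a ∉ Subgroup.centralizer (Q : Set X) := by
    intro A hA
    obtain ⟨a, ha⟩ := exists_prime_orderOf_dvd_card' (G := A) q hA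
    refine ⟨a, a.2, ⟨1, by rw [pow_one, ← ha]; exact Subgroup.orderOf_coe a⟩, fun h => ?_⟩
    obtain ⟨k, hk⟩ := IsPGroup.iff_orderOf.mp (Fitting.pCore_isPGroup p) ⟨_, hc h⟩
    rw [Subgroup.orderOf_mk, Subgroup.orderOf_coe, ha] at hk
    exact hpq ((Nat.prime_dvd_prime_iff_eq hq hp).mp (hq.dvd_of_dvd_pow hk.dvd)).symm
  have hqX : q ∣ Nat.card X := by
    rcases Nat.eq_zero_or_pos i with rfl | hi
    · exact absurd (by rw [pow_zero, orderOf_eq_one_iff] at hyi; rw [hyi]; exact one_mem _) hyc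
    · exact (dvd_pow_self q hi.ne').trans (hyi ▸ orderOf_dvd_natCard y)
  -- recursion into proper overgroups of S
  have hrec : ∀ A : Subgroup X, (S : Subgroup X) ≤ A → A ≠ ⊤ → q ∣ Nat.card A →
      MovesChar q (S : Subgroup X) := by
    intro A hSA hA hqA
    have hlt : Nat.card A < n := hn ▸ lt_of_le_of_ne (Subgroup.card_le_card_group A)
      (fun e => hA (A.eq_top_of_card_eq e))
    obtain ⟨a, ha, hao, hac⟩ := hmove A hqA
    refine moves_of_subgroup hSA ?_
    have := IH _ hlt A rfl hpq h23 (fun r hr hd => hπ r hr (hd.trans A.card_subgroup_dvd_card))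
      (S.subtype hSA) (Q.subgroupOf A) inferInstance
      ((Fitting.pCore_isPGroup p).comap_of_injective A.subtype A.subtype_injective)
      ⟨⟨a, ha⟩, by simpa [Subgroup.orderOf_mk] using hao, by rw [Subgroup.normalizer_eq_top]; trivial,
        fun h => hac (Subgroup.mem_centralizer_iff.mpr fun z hz =>
          congrArg Subtype.val (Subgroup.mem_centralizer_iff.mp h ⟨z, hSA (hQS hz)⟩ hz))⟩
    rwa [Sylow.coe_subtype] at this
  -- Thompson factorization
  have hfac : Cfsg.IsThompsonFactorizable p X := by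
    by_contra hnf
    obtain ⟨hp23, E, -, -, -, hn0, ⟨e⟩⟩ := Cfsg.Agent.S0618.result hsol hO1 hnf
    have hd : Nat.card SL(2, ZMod p) ∣ Nat.card X := by
      rw [← Nat.card_congr e.toEquiv]
      exact (Subgroup.card_quotient_dvd_card _).trans E.card_subgroup_dvd_card
    rw [SL2.card_SL_two', Nat.card_zmod] at hd
    rcases hp23 with rfl | rfl
    · rcases hπ 3 Nat.prime_three ((by norm_num : 3 ∣ 2 * ((2 - 1) * (2 + 1))).trans hd) with h | h
      · omega
      · exact h23 (.inl ⟨rfl, h.symm⟩)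
    · rcases hπ 2 Nat.prime_two ((by norm_num : 2 ∣ 3 * ((3 - 1) * (3 + 1))).trans hd) with h | h
      · omega
      · exact h23 (.inr ⟨rfl, h.symm⟩)
  set Z := Cfsg.omegaOne p ((S : Subgroup X) ⊓ Subgroup.centralizer ((S : Subgroup X) : Set X))
  set J := Cfsg.thompsonSubgroupOf p (S : Subgroup X)
  have hZS0 : Z ≤ (S : Subgroup X) := (ZJ.omegaOne_le p _).trans inf_le_left
  have hZJ : Z ≤ J := omega_center_le_thompson p (S : Subgroup X)
  have hmul : ∀ g : X, ∃ a ∈ Subgroup.centralizer (Z : Set X),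
      ∃ b ∈ Subgroup.normalizer (J : Set X), g = a * b := by
    intro g
    obtain ⟨x, hx, c, hc, m, hm, e⟩ := hfac S g
    rw [← hO, hO1, Subgroup.mem_bot] at hx
    subst hx
    exact ⟨c, hc, m, hm, by simpa using e⟩
  have hSC : (S : Subgroup X) ≤ Subgroup.centralizer (Z : Set X) := by
    rw [Subgroup.le_centralizer_iff]
    exact (ZJ.omegaOne_le p _).trans inf_le_right
  have hSN : (S : Subgroup X) ≤ Subgroup.normalizer (J : Set X) :=
    PSolvable.le_normalizer_map_of_characteristic Subgroup.le_normalizer _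
  by_cases hCtop : Subgroup.centralizer (Z : Set X) = ⊤
  swap
  · by_cases hNtop : Subgroup.normalizer (J : Set X) = ⊤
    swap
    · rcases exists_q_elt_of_mul hmul hqX with h | h
      exacts [hrec _ hSC hCtop h, hrec _ hSN hNtop h]
    by_cases hqJ : Moves q J
    · exact ⟨Cfsg.thompsonSubgroup p ↥(S : Subgroup X), inferInstance, hqJ⟩
    -- every q-element centralizes J; then the q-elements lie in C(Z)
    by_cases hqC : q ∣ Nat.card (Subgroup.centralizer (Z : Set X))
    · exact hrec _ hSC hCtop hqC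
    exfalso
    refine hqC ?_
    have hyJ : y ∈ Subgroup.centralizer (J : Set X) := by
      by_contra h
      exact hqJ ⟨y, ⟨i, hyi⟩, by rw [hNtop]; trivial, h⟩
    have hyZ : y ∈ Subgroup.centralizer (Z : Set X) := Subgroup.centralizer_le ?_ hyJ
    · have hi : i ≠ 0 := by
        rintro rfl
        exact hyc (by rw [pow_zero, orderOf_eq_one_iff] at hyi; rw [hyi]; exact one_mem _)
      have := (dvd_pow_self q hi).trans (hyi ▸ (Subgroup.orderOf_mk y hyZ).symm.dvd)
      exact this.trans (orderOf_dvd_natCard _)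
    exact hZJ
  -- Z is central: pass to the quotient
  have hZc : Z ≤ Subgroup.center X := fun z hz => Subgroup.mem_center_iff.mpr fun g =>
    (Subgroup.mem_centralizer_iff.mp (hCtop.ge (Subgroup.mem_top g)) z hz).symm
  haveI : Z.Normal := ⟨fun z hz g => by
    rw [Subgroup.mem_center_iff.mp (hZc hz) g, mul_inv_cancel_right]; exact hz⟩
  have hZS : Z ≤ (S : Subgroup X) := hZS0
  have hZ1 : Z ≠ ⊥ := by
    intro hZ
    haveI : Nontrivial (S : Subgroup X) := by
      rw [Subgroup.nontrivial_iff_ne_bot]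
      exact fun h => hyc (Subgroup.mem_centralizer_iff.mpr fun r hr => by
        have : r = 1 := Subgroup.mem_bot.mp (h ▸ hRS hr)
        subst this; simp)
    haveI := S.isPGroup'.center_nontrivial
    obtain ⟨c, hc1⟩ := exists_prime_orderOf_dvd_card' (G := Subgroup.center ↥(S : Subgroup X)) p (by
      obtain ⟨k, hk⟩ := (S.isPGroup'.to_subgroup (Subgroup.center _)).exists_card_eq
      rw [hk]; exact dvd_pow_self p (by rintro rfl; exact (Finite.one_lt_card (α := Subgroup.center ↥(S : Subgroup X))).ne' (by simpa using hk)))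
    have hmem : ((c : ↥(S : Subgroup X)) : X) ∈ Z := Subgroup.subset_closure ⟨by
      rw [← Fusion.map_center_eq_inf]; exact ⟨_, c.2, rfl⟩, by
      have h : c ^ p = 1 := by
        have := pow_orderOf_eq_one c
        rwa [hc1] at this
      exact congrArg (fun w : Subgroup.center ↥(S : Subgroup X) => ((w : ↥(S : Subgroup X)) : X)) h⟩
    rw [hZ, Subgroup.mem_bot] at hmem
    have : c = 1 := Subtype.ext (Subtype.ext hmem)
    rw [this, orderOf_one] at hc1
    exact hp.ne_one hc1.symm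
  set f := QuotientGroup.mk' Z with hf
  have hsurj : Function.Surjective f := QuotientGroup.mk'_surjective Z
  have hlt : Nat.card (X ⧸ Z) < n := by
    rw [← hn, Subgroup.card_eq_card_quotient_mul_card_subgroup Z]
    exact lt_mul_of_one_lt_right Nat.card_pos ((Z.one_lt_card_iff_ne_bot).mpr hZ1)
  set S' : Subgroup (X ⧸ Z) := ((S.mapSurjective hsurj : Sylow p (X ⧸ Z)) : Subgroup (X ⧸ Z))
  have hS' : S' = (S : Subgroup X).map f := Sylow.coe_mapSurjective _ _
  obtain ⟨K, hK, z, hz, hzn, hzc⟩ := IH _ hlt (X ⧸ Z) rfl hpq h23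
    (fun r hr hd => hπ r hr (hd.trans (Subgroup.card_quotient_dvd_card Z)))
    (S.mapSurjective hsurj) (R.map f) (hRn.map f hsurj) (hRp.map f)
    ⟨f y, ⟨_, (Nat.dvd_prime_pow hq).mp (hyi ▸ orderOf_map_dvd f y) |>.choose_spec.2⟩, by
      haveI := hRn.map f hsurj
      rw [Subgroup.normalizer_eq_top]; trivial, fun h => hyc (Subgroup.mem_centralizer_iff.mpr fun r hr => by
      have e := Subgroup.mem_centralizer_iff.mp h (f r) ⟨r, hr, rfl⟩
      -- `c = [r, y]` is central of `p`-power order, so `y^(orderOf y)` shows `c = 1`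
      have hm : r * y * r⁻¹ * y⁻¹ ∈ Z := by
        rw [← QuotientGroup.eq_one_iff, ← QuotientGroup.mk'_apply Z, ← hf, map_mul, map_mul, map_mul,
          e, map_inv, map_inv]; group
      set c := r * y * r⁻¹ * y⁻¹ with hcdef
      have hcy : Commute c y := (Subgroup.mem_center_iff.mp (hZc hm) y).symm
      have h1 : r * y * r⁻¹ = c * y := by rw [hcdef]; group
      have h2 : (c * y) ^ orderOf y = 1 := by
        rw [← h1, conj_pow, pow_orderOf_eq_one, mul_one, mul_inv_cancel]
      rw [hcy.mul_pow, pow_orderOf_eq_one, mul_one] at h2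
      obtain ⟨k, hk⟩ := IsPGroup.iff_orderOf.mp S.2 ⟨c, hZS hm⟩
      rw [Subgroup.orderOf_mk] at hk
      have hc1 : c = 1 := by
        rw [← orderOf_eq_one_iff]
        exact Nat.eq_one_of_dvd_coprimes (hyco.pow_right k) (orderOf_dvd_of_pow_eq_one h2) hk.dvd
      rw [hcdef, mul_inv_eq_one, mul_inv_eq_iff_eq_mul] at hc1
      exact hc1)⟩
  change Subgroup ↥S' at K
  let f' : ↥(S : Subgroup X) →* ↥S' := (f.comp (S : Subgroup X).subtype).codRestrict S' fun s =>
    hS'.ge ⟨s, s.2, rfl⟩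
  have hf' : Function.Surjective f' := fun t => by
    obtain ⟨s, hs, e⟩ := hS'.le t.2
    exact ⟨⟨s, hs⟩, Subtype.ext e⟩
  have hker : f'.ker = Cfsg.omegaOne p (Subgroup.center ↥(S : Subgroup X)) := by
    refine Subgroup.map_injective (S : Subgroup X).subtype_injective ?_
    rw [ZJ.map_omegaOne p _ (S : Subgroup X).subtype_injective.injOn, Fusion.map_center_eq_inf]
    ext w
    constructor
    · rintro ⟨s, hs, rfl⟩
      exact (QuotientGroup.eq_one_iff _).mp (congrArg Subtype.val (MonoidHom.mem_ker.mp hs))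
    · exact fun hw => ⟨⟨w, hZS hw⟩, MonoidHom.mem_ker.mpr (Subtype.ext ((QuotientGroup.eq_one_iff w).mpr hw)), rfl⟩
  have hchar : f'.ker.Characteristic := by
    rw [hker, Subgroup.characteristic_iff_map_le]
    intro φ
    rw [ZJ.map_omegaOne p _ φ.injective.injOn,
      Subgroup.characteristic_iff_map_eq.mp (inferInstance : (Subgroup.center ↥(S : Subgroup X)).Characteristic) φ]
  refine ⟨K.comap f', char_comap f' hf' hchar K hK, ?_⟩
  set T := (K.comap f').map (S : Subgroup X).subtype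
  have hT : T.map f = K.map S'.subtype := by
    ext w
    constructor
    · rintro ⟨_, ⟨s, hs, rfl⟩, rfl⟩
      exact ⟨f' s, hs, rfl⟩
    · rintro ⟨k, hk, rfl⟩
      obtain ⟨s, rfl⟩ := hf' k
      exact ⟨_, ⟨s, hk, rfl⟩, rfl⟩
  have hZT : Z ≤ T := fun w hw => ⟨⟨w, hZS hw⟩, by
    rw [SetLike.mem_coe, Subgroup.mem_comap, show f' ⟨w, hZS hw⟩ = 1 from
      Subtype.ext ((QuotientGroup.eq_one_iff w).mpr hw)]
    exact one_mem _, rfl⟩
  obtain ⟨x, rfl⟩ := hsurj z
  refine exists_qpart hpq hπ (n := x) ?_ f (by rw [hT]; exact hzc) hz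
  rw [← hT] at hzn
  have hcm : (T.map f).comap f = T := Subgroup.comap_map_eq_self (by
    rw [hf, QuotientGroup.ker_mk']; exact hZT)
  have := Subgroup.le_normalizer_comap f (H := T.map f) hzn
  rwa [hcm] at this

theorem exists_hall_two : ∀ (n : ℕ) (L : Type u) [Group L] [Finite L], Nat.card L = n →
    Cfsg.IsPSolvable p L → ∃ H : Subgroup L,
      (∀ r : ℕ, r.Prime → r ∣ Nat.card H → r = p ∨ r = q) ∧ ¬ p ∣ H.index ∧ ¬ q ∣ H.index := by
  intro n
  induction n using Nat.strong_induction_on with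
  | _ n IH =>
  intro L _ _ hn hL
  have hp : p.Prime := Fact.out
  have hq : q.Prime := Fact.out
  rcases subsingleton_or_nontrivial L with hs | hs
  · exact ⟨⊥, fun r hr hd => absurd (Nat.dvd_one.mp (by simpa using hd)) hr.ne_one,
      by rw [Subgroup.index_bot, Nat.card_unique]; exact hp.not_dvd_one,
      by rw [Subgroup.index_bot, Nat.card_unique]; exact hq.not_dvd_one⟩
  obtain ⟨N, hNn, hN1, hN⟩ := TwoPrimes.exists_normal_pGroup_or_coprime (p := p) hL
  haveI := hNn
  -- lift from a subgroup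
  have lift : ∀ A : Subgroup L, A ≠ ⊤ → ¬ p ∣ A.index → ¬ q ∣ A.index → ∃ H : Subgroup L,
      (∀ r : ℕ, r.Prime → r ∣ Nat.card H → r = p ∨ r = q) ∧ ¬ p ∣ H.index ∧ ¬ q ∣ H.index := by
    intro A hA hpA hqA
    obtain ⟨H, hH, hpH, hqH⟩ := IH _ (hn ▸ lt_of_le_of_ne (Subgroup.card_le_card_group A)
      (fun e => hA (A.eq_top_of_card_eq e))) A rfl (PSolvable.isPSolvable_subgroup A hL)
    refine ⟨H.map A.subtype, fun r hr hd => hH r hr (by rwa [Subgroup.card_map_of_injective A.subtype_injective] at hd), ?_, ?_⟩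
    all_goals
      rw [Subgroup.index_map, A.ker_subtype, sup_bot_eq, A.range_subtype]
    · exact fun h => (hp.dvd_mul.mp h).elim hpH hpA
    · exact fun h => (hq.dvd_mul.mp h).elim hqH hqA
  have hlt : Nat.card (L ⧸ N) < n := by
    rw [← hn, Subgroup.card_eq_card_quotient_mul_card_subgroup N]
    exact lt_mul_of_one_lt_right Nat.card_pos ((N.one_lt_card_iff_ne_bot).mpr hN1)
  obtain ⟨Hb, hHb, hpb, hqb⟩ := IH _ hlt (L ⧸ N) rfl
    (PSolvable.isPSolvable_of_surjective _ (QuotientGroup.mk'_surjective N) hL)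
  set A := Hb.comap (QuotientGroup.mk' N)
  have hAi : A.index = Hb.index := Subgroup.index_comap_of_surjective _ (QuotientGroup.mk'_surjective N)
  by_cases hA : A = ⊤
  swap
  · exact lift A hA (hAi ▸ hpb) (hAi ▸ hqb)
  have hHbtop : Hb = ⊤ := by
    rw [← Subgroup.index_eq_one, ← hAi, hA, Subgroup.index_top]
  have hπ' : ∀ r : ℕ, r.Prime → r ∣ Nat.card (L ⧸ N) → r = p ∨ r = q := fun r hr hd =>
    hHb r hr (by rwa [hHbtop, Subgroup.card_top])
  have hcard : Nat.card L = Nat.card (L ⧸ N) * Nat.card N :=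
    Subgroup.card_eq_card_quotient_mul_card_subgroup N
  have htop : (∀ r : ℕ, r.Prime → r ∣ Nat.card N → r = p ∨ r = q) → ∃ H : Subgroup L,
      (∀ r : ℕ, r.Prime → r ∣ Nat.card H → r = p ∨ r = q) ∧ ¬ p ∣ H.index ∧ ¬ q ∣ H.index := by
    intro h
    refine ⟨⊤, fun r hr hd => ?_, by rw [Subgroup.index_top]; exact hp.not_dvd_one,
      by rw [Subgroup.index_top]; exact hq.not_dvd_one⟩
    rw [Subgroup.card_top, hcard] at hd
    exact (hr.dvd_mul.mp hd).elim (hπ' r hr) (h r hr)
  rcases hN with hN | hN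
  · refine htop fun r hr hd => ?_
    obtain ⟨k, hk⟩ := hN.exists_card_eq
    exact .inl ((Nat.prime_dvd_prime_iff_eq hr hp).mp (hr.dvd_of_dvd_pow (hk ▸ hd)))
  obtain ⟨Nq⟩ := (inferInstance : Nonempty (Sylow q N))
  set NQ : Subgroup L := (Nq : Subgroup N).map N.subtype with hNQ
  by_cases hNtop : Subgroup.normalizer (NQ : Set L) = ⊤
  swap
  · -- Frattini: the index of the normalizer is prime to p and q
    have hsup : Subgroup.normalizer (NQ : Set L) ⊔ N = ⊤ := Sylow.normalizer_sup_eq_top Nq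
    have hidx : (Subgroup.normalizer (NQ : Set L)).index =
        (Subgroup.normalizer (NQ : Set L)).relIndex N := by
      set M := Subgroup.normalizer (NQ : Set L)
      have h1 := CfsgLib.Coprime.card_sup_mul_card_inf (K := N) (S := M) Subgroup.le_normalizer_of_normal
      rw [sup_comm, hsup, Subgroup.card_top, ← M.card_mul_index,
        ← (M.subgroupOf N).card_mul_index, inf_comm,
        ← Nat.card_congr (Subgroup.subgroupOfEquivOfLe (inf_le_right : M ⊓ N ≤ N)).toEquiv,
        Subgroup.inf_subgroupOf_right] at h1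
      show M.index = (M.subgroupOf N).index
      have hpos : 0 < Nat.card M * Nat.card (M.subgroupOf N) := Nat.mul_pos Nat.card_pos Nat.card_pos
      nlinarith [h1]
    refine lift _ hNtop (fun h => ?_) (fun h => ?_)
    · rw [hidx] at h
      exact hp.not_dvd_one (hN.symm ▸ Nat.dvd_gcd dvd_rfl (h.trans (Subgroup.relIndex_dvd_card _ _)))
    · rw [hidx] at h
      apply Nq.not_dvd_index
      have h2 : NQ.relIndex N = (Nq : Subgroup N).index := by
        show (((Nq : Subgroup N).map N.subtype).subgroupOf N).index = _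
        rw [Subgroup.subgroupOf, Subgroup.comap_map_eq_self_of_injective N.subtype_injective]
      rw [← h2]
      exact h.trans (Subgroup.relIndex_dvd_of_le_left N Subgroup.le_normalizer)
  by_cases hqN : q ∣ Nat.card N
  swap
  · -- Schur–Zassenhaus
    have hco : (Nat.card N).Coprime N.index := Nat.coprime_of_dvd fun r hr h1 h2 => by
      rcases hπ' r hr (by rwa [← Subgroup.index_eq_card]) with rfl | rfl
      · exact hr.not_dvd_one (hN.symm ▸ Nat.dvd_gcd dvd_rfl h1)
      · exact hqN h1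
    obtain ⟨H, hH⟩ := Subgroup.exists_right_complement'_of_coprime hco
    have hHc : Nat.card H = Nat.card (L ⧸ N) := by
      rw [← Subgroup.index_eq_card, hH.symm.index_eq_card]
    have hHi : H.index = Nat.card N := hH.index_eq_card
    refine ⟨H, fun r hr hd => hπ' r hr (hHc ▸ hd), fun h => ?_, fun h => hqN (hHi ▸ h)⟩
    exact hp.not_dvd_one (hN.symm ▸ Nat.dvd_gcd dvd_rfl (hHi ▸ h))
  -- the normal `q`-subgroup `NQ`: quotient by it
  haveI hNQn : NQ.Normal := Subgroup.normalizer_eq_top_iff.mp hNtop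
  have hNQ1 : NQ ≠ ⊥ := by
    rw [Ne, hNQ, Subgroup.map_eq_bot_iff_of_injective _ N.subtype_injective]
    exact Sylow.ne_bot_of_dvd_card Nq hqN
  have hlt' : Nat.card (L ⧸ NQ) < n := by
    rw [← hn, Subgroup.card_eq_card_quotient_mul_card_subgroup NQ]
    exact lt_mul_of_one_lt_right Nat.card_pos ((NQ.one_lt_card_iff_ne_bot).mpr hNQ1)
  obtain ⟨Hc, hHc, hpc, hqc⟩ := IH _ hlt' (L ⧸ NQ) rfl
    (PSolvable.isPSolvable_of_surjective _ (QuotientGroup.mk'_surjective NQ) hL)
  refine ⟨Hc.comap (QuotientGroup.mk' NQ), fun r hr hd => ?_, ?_, ?_⟩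
  · rw [PSolvable.card_comap_of_surjective (QuotientGroup.mk'_surjective NQ), QuotientGroup.ker_mk'] at hd
    rcases hr.dvd_mul.mp hd with hd | hd
    · obtain ⟨k, hk⟩ := (Nq.2.map N.subtype).exists_card_eq
      exact .inr ((Nat.prime_dvd_prime_iff_eq hr hq).mp (hr.dvd_of_dvd_pow (hk ▸ hd)))
    · exact hHc r hr hd
  · rwa [Subgroup.index_comap_of_surjective _ (QuotientGroup.mk'_surjective NQ)]
  · rwa [Subgroup.index_comap_of_surjective _ (QuotientGroup.mk'_surjective NQ)]

theorem step {G : Type*} [Group G] [Finite G] (hpq : p ≠ q)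
    (h23 : ¬ ((p = 2 ∧ q = 3) ∨ (p = 3 ∧ q = 2)))
    (hsol : ∀ H : Subgroup G, IsPGroup p ↥H →
      Cfsg.IsPSolvable p (↥(Subgroup.normalizer (H : Set G)) ⧸ (Subgroup.centralizer (H : Set G)).subgroupOf (Subgroup.normalizer (H : Set G))))
    (K T : Subgroup G) (hK : IsPGroup p K) (hT : IsPGroup p T)
    (hTN : T ≤ Subgroup.normalizer (K : Set G)) (hmov : Moves q K) :
    ∃ (T' K' : Subgroup G), IsPGroup p T' ∧ IsPGroup p K' ∧ Nat.card T ≤ Nat.card T' ∧ K' ≤ T' ∧
      T' ≤ Subgroup.normalizer (K' : Set G) ∧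
      Subgroup.normalizer (T' : Set G) ≤ Subgroup.normalizer (K' : Set G) ∧ Moves q K' := by
  classical
  have hp : p.Prime := Fact.out
  have hq : q.Prime := Fact.out
  set N := Subgroup.normalizer (K : Set G) with hN
  have hKN : K ≤ N := Subgroup.le_normalizer
  set K₀ : Subgroup N := K.subgroupOf N
  haveI hK₀n : K₀.Normal := Subgroup.normal_in_normalizer
  let C₀ : Subgroup N := Subgroup.centralizer (K₀ : Set N)
  let HC : Subgroup N := K₀ ⊔ C₀
  haveI hHCn : HC.Normal := Subgroup.sup_normal _ _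
  have hC₀ : ∀ c : N, c ∈ C₀ ↔ (c : G) ∈ Subgroup.centralizer (K : Set G) := by
    intro c
    constructor
    · intro h
      rw [Subgroup.mem_centralizer_iff]
      intro k hk
      exact congrArg Subtype.val (Subgroup.mem_centralizer_iff.mp h ⟨k, hKN hk⟩ hk)
    · intro h
      rw [Subgroup.mem_centralizer_iff]
      intro k hk
      exact Subtype.ext (Subgroup.mem_centralizer_iff.mp h (k : G) hk)
  obtain ⟨y, ⟨i, hyi⟩, hyN, hyC⟩ := hmov
  set y₀ : N := ⟨y, hyN⟩
  have hy₀ : y₀ ∉ HC := by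
    intro hy
    obtain ⟨k, hk, c, hc, e⟩ := Subgroup.mem_sup_of_normal_left.mp hy
    obtain ⟨j, hj⟩ := (hK.comap_of_injective N.subtype N.subtype_injective) ⟨k, hk⟩
    have hj' : k ^ p ^ j = 1 := congrArg Subtype.val hj
    have h1 : y₀ ^ p ^ j ∈ C₀ := by
      haveI : C₀.Normal := inferInstanceAs (Subgroup.centralizer (K₀ : Set N)).Normal
      rw [← QuotientGroup.eq_one_iff, QuotientGroup.mk_pow, ← e, QuotientGroup.mk_mul,
        (QuotientGroup.eq_one_iff c).mpr hc, mul_one, ← QuotientGroup.mk_pow, hj', QuotientGroup.mk_one]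
    exact hyC ((hC₀ y₀).mp (mem_of_pow (p := p)
      (by rw [← Subgroup.orderOf_coe, show ((y₀ : N) : G) = y from rfl, hyi]; exact coprime_pow hp hq hpq i) h1))
  -- a Sylow subgroup of N containing T
  obtain ⟨T₁, hT₁⟩ := (hT.comap_of_injective N.subtype N.subtype_injective).exists_le_sylow
  have hK₀T : K₀ ≤ (T₁ : Subgroup N) :=
    ZJ.normal_le_sylow (B := K₀) (hK.comap_of_injective N.subtype N.subtype_injective) T₁
  set R₀ : Subgroup N := (T₁ : Subgroup N) ⊓ HC
  have hKR : K₀ ≤ R₀ := le_inf hK₀T le_sup_left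
  have hR₀p : IsPGroup p R₀ := T₁.2.to_le inf_le_left
  have hR₀max : ¬ p ∣ R₀.relIndex HC := by
    rw [Subgroup.inf_relIndex_right]
    exact fun h => T₁.not_dvd_index (h.trans (Fitting.relIndex_dvd_index_of_normal_right _ HC))
  let P : Sylow p HC := (hR₀p.comap_of_injective HC.subtype HC.subtype_injective).toSylow hR₀max
  have hP : (P : Subgroup HC).map HC.subtype = R₀ := by
    show (R₀.subgroupOf HC).map HC.subtype = R₀
    exact Subgroup.map_subgroupOf_eq_of_le inf_le_right
  have hfr : Subgroup.normalizer (R₀ : Set N) ⊔ HC = ⊤ := hP ▸ Sylow.normalizer_sup_eq_top P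
  obtain ⟨a, ha, b, hb, hab⟩ := Subgroup.mem_sup_of_normal_right.mp (hfr.ge (Subgroup.mem_top y₀))
  have ha' : a ∉ HC := fun h => hy₀ (hab ▸ mul_mem h hb)
  -- the q-part of a
  set m := orderOf a / q ^ (orderOf a).factorization q
  have hmo : orderOf (a ^ m) = q ^ (orderOf a).factorization q :=
    orderOf_pow_orderOf_div (orderOf_pos a).ne' (Nat.ordProj_dvd _ _)
  have hmnd : ¬ q ∣ m := Nat.not_dvd_ordCompl hq (orderOf_pos a).ne'
  have ham : a ^ m ∉ HC := by
    intro h
    apply ha'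
    rw [← QuotientGroup.eq_one_iff] at h ⊢
    rw [QuotientGroup.mk_pow] at h
    have h2 : (QuotientGroup.mk a : N ⧸ HC) ^ q ^ i = 1 := by
      have e1 : (QuotientGroup.mk a : N ⧸ HC) = QuotientGroup.mk y₀ := by
        rw [← hab, QuotientGroup.mk_mul, (QuotientGroup.eq_one_iff b).mpr hb, mul_one]
      rw [e1, ← QuotientGroup.mk_pow, show y₀ ^ q ^ i = 1 from Subtype.ext (by
        show y ^ q ^ i = 1
        rw [← hyi, pow_orderOf_eq_one]), QuotientGroup.mk_one]
    have hg : Nat.gcd m (q ^ i) = 1 := ((hq.coprime_iff_not_dvd.mpr hmnd).symm.pow_right i).gcd_eq_one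
    have := (pow_gcd_eq_one (a := (QuotientGroup.mk a : N ⧸ HC)) (m := m) (n := q ^ i)).mpr ⟨h, h2⟩
    rwa [hg, pow_one] at this
  set R : Subgroup G := R₀.map N.subtype with hR
  have hRp : IsPGroup p R := hR₀p.map _
  have hKR' : K ≤ R := fun k hk => ⟨⟨k, hKN hk⟩, hKR hk, rfl⟩
  set L := Subgroup.normalizer (R : Set G) with hL
  have haL : ((a ^ m : N) : G) ∈ L :=
    Subgroup.le_normalizer_map N.subtype ⟨a ^ m, pow_mem ha m, rfl⟩
  have haR : ((a ^ m : N) : G) ∉ Subgroup.centralizer (R : Set G) := fun h =>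
    ham (Subgroup.mem_sup_right ((hC₀ _).mpr (Subgroup.centralizer_le hKR' h)))
  -- L is p-solvable
  have hCR : ∀ c ∈ Subgroup.centralizer (R : Set G), (∃ k, orderOf c = p ^ k) → c ∈ R := by
    intro c hc hco
    have hcK : c ∈ Subgroup.centralizer (K : Set G) := Subgroup.centralizer_le hKR' hc
    have hcN : c ∈ N := Subgroup.centralizer_le_normalizer _ hcK
    have hcHC : (⟨c, hcN⟩ : N) ∈ HC := Subgroup.mem_sup_right ((hC₀ _).mpr hcK)
    set c₀ : HC := ⟨⟨c, hcN⟩, hcHC⟩
    have hn : Subgroup.zpowers c₀ ≤ Subgroup.normalizer ((P : Subgroup HC) : Set HC) := by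
      rw [Subgroup.zpowers_le]
      refine Subgroup.centralizer_le_normalizer _ (Subgroup.mem_centralizer_iff.mpr fun r hr => ?_)
      refine Subtype.ext (Subtype.ext ?_)
      exact Subgroup.mem_centralizer_iff.mp hc _ ⟨(r : N), hr, rfl⟩
    obtain ⟨k, hk⟩ := hco
    have hp' := IsPGroup.to_sup_of_normal_left' P.2
      (IsPGroup.of_card (n := k) (by
        rw [Nat.card_zpowers, ← Subgroup.orderOf_coe, ← Subgroup.orderOf_coe]; exact hk)) hn
    have := P.3 hp' le_sup_left
    exact ⟨(c₀ : N), (this.le (Subgroup.mem_sup_right (Subgroup.mem_zpowers c₀)) :), rfl⟩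
  have hLsol : Cfsg.IsPSolvable p L := by
    let C : Subgroup L := (Subgroup.centralizer (R : Set G)).subgroupOf L
    let Z : Subgroup L := R.subgroupOf L ⊓ C
    haveI hCn : C.Normal := ⟨fun c hc g => by
      rw [Subgroup.mem_subgroupOf, Subgroup.mem_centralizer_iff] at hc ⊢
      intro r hr
      have h1 := hc ((g : G)⁻¹ * r * g) (by
        simpa using (Subgroup.mem_normalizer_iff.mp (inv_mem g.2) r).mp hr)
      show r * (g * (c : G) * (g : G)⁻¹) = g * (c : G) * (g : G)⁻¹ * r
      calc r * (g * (c : G) * (g : G)⁻¹) = g * (((g : G)⁻¹ * r * g) * c) * (g : G)⁻¹ := by group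
        _ = g * ((c : G) * ((g : G)⁻¹ * r * g)) * (g : G)⁻¹ := by rw [h1]
        _ = g * (c : G) * (g : G)⁻¹ * r := by group⟩
    haveI hRLn : (R.subgroupOf L).Normal := Subgroup.normal_in_normalizer
    haveI hZn : Z.Normal := Subgroup.normal_inf_normal _ _
    refine PSolvable.isPSolvable_of_quotient Z
      (.inl ((hRp.comap_of_injective L.subtype L.subtype_injective).to_le inf_le_left)) ?_
    set π := QuotientGroup.mk' Z
    haveI : (C.map π).Normal := hCn.map π (QuotientGroup.mk'_surjective Z)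
    refine PSolvable.isPSolvable_of_quotient (C.map π) (.inr ?_) ?_
    · refine ((Nat.Prime.coprime_iff_not_dvd hp).mpr fun hd => ?_).symm
      have h1 : Nat.card (C.map π) = (Z.subgroupOf C).index := by
        show _ = Z.relIndex C
        have e : (⊥ : Subgroup (L ⧸ Z)).comap π = Z := (MonoidHom.comap_bot π).trans (QuotientGroup.ker_mk' Z)
        conv_rhs => rw [← e, Subgroup.relIndex_comap, Subgroup.relIndex_bot_left]
      obtain ⟨Q⟩ := (inferInstance : Nonempty (Sylow p C))
      apply Q.not_dvd_index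
      refine (h1 ▸ hd).trans (Subgroup.index_dvd_of_le fun x hx => ?_)
      obtain ⟨k, hk⟩ := IsPGroup.iff_orderOf.mp Q.2 ⟨x, hx⟩
      refine ⟨hCR _ x.2 ⟨k, ?_⟩, x.2⟩
      rw [← hk, Subgroup.orderOf_mk, ← Subgroup.orderOf_coe, ← Subgroup.orderOf_coe]
      rfl
    · let e := (QuotientGroup.quotientQuotientEquivQuotient Z C inf_le_right)
      exact PSolvable.isPSolvable_of_injective e.toMonoidHom e.injective (hsol R hRp)
  obtain ⟨H, hHπ, hHp, hHq⟩ := exists_hall_two (q := q) _ L rfl hLsol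
  -- a Sylow subgroup of L containing T₁, inside a conjugate of H
  have hT₁L : (T₁ : Subgroup N).map N.subtype ≤ L := by
    rintro _ ⟨t, ht, rfl⟩
    refine Subgroup.mem_normalizer_fintype ?_
    rintro _ ⟨r, hr, rfl⟩
    exact ⟨t * r * t⁻¹, Subgroup.mem_inf.mpr ⟨mul_mem (mul_mem ht hr.1) (inv_mem ht),
      hHCn.conj_mem r hr.2 t⟩, rfl⟩
  obtain ⟨T₂, hT₂⟩ := ((T₁.2.map N.subtype).comap_of_injective L.subtype L.subtype_injective).exists_le_sylow
  obtain ⟨SH⟩ := (inferInstance : Nonempty (Sylow p H))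
  have hSHi : ¬ p ∣ ((SH : Subgroup H).map H.subtype).index := by
    rw [Subgroup.index_map, H.ker_subtype, sup_bot_eq, H.range_subtype]
    exact fun h => (hp.dvd_mul.mp h).elim SH.not_dvd_index hHp
  obtain ⟨g, hg⟩ := MulAction.exists_smul_eq L ((SH.2.map H.subtype).toSylow hSHi) T₂
  have hg' : (T₂ : Subgroup L) = ((SH : Subgroup H).map H.subtype).map (MulAut.conj g).toMonoidHom := by
    rw [← hg, Sylow.coe_subgroup_smul]; rfl
  set H₂ : Subgroup L := H.map (MulAut.conj g).toMonoidHom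
  have hT₂H : (T₂ : Subgroup L) ≤ H₂ := hg' ▸ Subgroup.map_mono (Subgroup.map_subtype_le _)
  have hH₂c : Nat.card H₂ = Nat.card H := Subgroup.card_map_of_injective (MulAut.conj g).injective
  have hH₂i : H₂.index = H.index := Subgroup.index_map_equiv H (MulAut.conj g)
  -- a q-element of H₂ moving R
  obtain ⟨QH⟩ := (inferInstance : Nonempty (Sylow q H₂))
  have hQi : ¬ q ∣ ((QH : Subgroup H₂).map H₂.subtype).index := by
    rw [Subgroup.index_map, H₂.ker_subtype, sup_bot_eq, H₂.range_subtype, hH₂i]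
    exact fun h => (hq.dvd_mul.mp h).elim QH.not_dvd_index hHq
  set al : L := ⟨_, haL⟩
  have halo : ∃ k, orderOf al = q ^ k := ⟨_, by rw [Subgroup.orderOf_mk, Subgroup.orderOf_coe, hmo]⟩
  obtain ⟨Qa, hQa⟩ := (Transfer.isPGroup_zpowers (p := q) halo).exists_le_sylow
  obtain ⟨l, hl⟩ := MulAction.exists_smul_eq L Qa ((QH.2.map H₂.subtype).toSylow hQi)
  have hbQ : MulAut.conj l al ∈ H₂ := by
    have h1 : MulAut.conj l al ∈ ((l • Qa : Sylow q L) : Subgroup L) := by
      rw [Sylow.coe_subgroup_smul]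
      exact ⟨al, hQa (Subgroup.mem_zpowers al), rfl⟩
    rw [hl] at h1
    exact Subgroup.map_subtype_le _ h1
  set R₂ : Subgroup H₂ := (R.subgroupOf L).subgroupOf H₂
  haveI : (R.subgroupOf L).Normal := Subgroup.normal_in_normalizer
  have hRT₂ : R.subgroupOf L ≤ (T₂ : Subgroup L) :=
    ZJ.normal_le_sylow (B := R.subgroupOf L) (hRp.comap_of_injective L.subtype L.subtype_injective) T₂
  have hmov₂ : Moves q R₂ := by
    refine ⟨⟨_, hbQ⟩, ?_, by rw [Subgroup.normalizer_eq_top]; trivial, fun h => haR ?_⟩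
    · obtain ⟨k, hk⟩ := halo
      exact ⟨k, by rw [Subgroup.orderOf_mk, MulEquiv.orderOf_eq, hk]⟩
    · rw [Subgroup.mem_centralizer_iff]
      intro r hr
      have hrL : r ∈ L := Subgroup.le_normalizer hr
      have hmem : MulAut.conj l (⟨r, hrL⟩ : L) ∈ R.subgroupOf L :=
        (inferInstance : (R.subgroupOf L).Normal).conj_mem _ hr l
      have e := congrArg Subtype.val
        (Subgroup.mem_centralizer_iff.mp h ⟨_, hT₂H (hRT₂ hmem)⟩ hmem)
      have e2 : MulAut.conj l ((⟨r, hrL⟩ : L) * al) = MulAut.conj l (al * ⟨r, hrL⟩) := by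
        rw [map_mul, map_mul]; exact e
      exact congrArg Subtype.val ((MulAut.conj l).injective e2)
  obtain ⟨K', hK', hmov'⟩ := moves_of_subgroup hT₂H (by
    have := core _ H₂ rfl hpq h23 (fun r hr hd => hHπ r hr (hH₂c ▸ hd)) (T₂.subtype hT₂H) R₂
      inferInstance ((hRp.comap_of_injective L.subtype L.subtype_injective).comap_of_injective
        H₂.subtype H₂.subtype_injective) hmov₂
    rwa [Sylow.coe_subtype] at this)
  refine ⟨(T₂ : Subgroup L).map L.subtype, (K'.map (T₂ : Subgroup L).subtype).map L.subtype,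
    T₂.2.map _, (T₂.2.to_le (Subgroup.map_subtype_le _)).map _, ?_,
    Subgroup.map_mono (Subgroup.map_subtype_le _), ?_, ?_, ?_⟩
  · refine Subgroup.card_le_of_le fun t ht => ?_
    have h1 : t ∈ (T₁ : Subgroup N).map N.subtype := ⟨⟨t, hTN ht⟩, hT₁ ht, rfl⟩
    exact ⟨⟨t, hT₁L h1⟩, hT₂ h1, rfl⟩
  · have hn := PSolvable.le_normalizer_map_of_characteristic (H := (T₂ : Subgroup L))
      (A := (T₂ : Subgroup L)) Subgroup.le_normalizer K'
    exact (Subgroup.map_mono hn).trans (Subgroup.le_normalizer_map L.subtype)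
  · haveI := hK'
    set e := (T₂ : Subgroup L).equivMapOfInjective L.subtype L.subtype_injective
    haveI := Splitting.map_characteristic e K'
    have := PSolvable.le_normalizer_map_of_characteristic
      (A := Subgroup.normalizer (((T₂ : Subgroup L).map L.subtype : Subgroup G) : Set G))
      (H := (T₂ : Subgroup L).map L.subtype) le_rfl (K'.map e.toMonoidHom)
    rwa [show (K'.map e.toMonoidHom).map ((T₂ : Subgroup L).map L.subtype).subtype =
      (K'.map (T₂ : Subgroup L).subtype).map L.subtype by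
        rw [Subgroup.map_map, Subgroup.map_map]; rfl] at this
  · obtain ⟨z, hz, hzn, hzc⟩ := hmov'
    refine ⟨(z : G), by simpa [Subgroup.orderOf_coe] using hz,
      Subgroup.le_normalizer_map L.subtype ⟨z, hzn, rfl⟩, fun h => hzc ?_⟩
    exact Subgroup.mem_centralizer_iff.mpr fun w hw => Subtype.ext
      (Subgroup.mem_centralizer_iff.mp h _ ⟨w, hw, rfl⟩)

end Two

/-- Let p and q be distinct primes with {p, q} ≠ {2, 3}, and let G be a finite group such that for every p-subgroup H of G the automizer N_G(H)/C_G(H) is p-solvable. If q divides the order of N_G(H)/C_G(H) for some p-subgroup H, then a Sylow p-subgroup of G has a normal subgroup K (normal in the Sylow subgroup) such that q divides the order of N_G(K)/C_G(K). -/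
theorem result {G : Type*} [Group G] [Finite G]
    (p q : ℕ) [Fact p.Prime] [Fact q.Prime] (hpq : p ≠ q) (h23 : ¬ ((p = 2 ∧ q = 3) ∨ (p = 3 ∧ q = 2)))
    (hsol : ∀ H : Subgroup G, IsPGroup p ↥H →
      Cfsg.IsPSolvable p (↥(Subgroup.normalizer (H : Set G)) ⧸ (Subgroup.centralizer (H : Set G)).subgroupOf (Subgroup.normalizer (H : Set G))))
    (H : Subgroup G) (hH : IsPGroup p ↥H)
    (hq : q ∣ ((Subgroup.centralizer (H : Set G)).subgroupOf (Subgroup.normalizer (H : Set G))).index)
    (Gp : Sylow p G) :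
    ∃ K : Subgroup G, K ≤ (Gp : Subgroup G) ∧ (Gp : Subgroup G) ≤ Subgroup.normalizer (K : Set G) ∧
      q ∣ ((Subgroup.centralizer (K : Set G)).subgroupOf (Subgroup.normalizer (K : Set G))).index := by
  classical
  have hq' : q.Prime := Fact.out
  set N := Subgroup.normalizer (H : Set G)
  set C := (Subgroup.centralizer (H : Set G)).subgroupOf N
  haveI hCn : C.Normal := ⟨fun c hc g => by
    rw [Subgroup.mem_subgroupOf, Subgroup.mem_centralizer_iff] at hc ⊢
    intro r hr
    have h1 := hc ((g : G)⁻¹ * r * g) (by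
      simpa using (Subgroup.mem_normalizer_iff.mp (inv_mem g.2) r).mp hr)
    show r * (g * (c : G) * (g : G)⁻¹) = g * (c : G) * (g : G)⁻¹ * r
    calc r * (g * (c : G) * (g : G)⁻¹) = g * (((g : G)⁻¹ * r * g) * c) * (g : G)⁻¹ := by group
      _ = g * ((c : G) * ((g : G)⁻¹ * r * g)) * (g : G)⁻¹ := by rw [h1]
      _ = g * (c : G) * (g : G)⁻¹ * r := by group⟩
  have hmov : Moves q H := by
    obtain ⟨Qy⟩ := (inferInstance : Nonempty (Sylow q N))
    by_contra hno
    have hle : (Qy : Subgroup N) ≤ C := fun z hz => by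
      by_contra hzC
      obtain ⟨k, hk⟩ := IsPGroup.iff_orderOf.mp Qy.2 ⟨z, hz⟩
      exact hno ⟨(z : G), ⟨k, by rw [← hk, Subgroup.orderOf_mk, Subgroup.orderOf_coe]⟩, z.2, hzC⟩
    exact Qy.not_dvd_index (hq.trans (Subgroup.index_dvd_of_le hle))
  obtain ⟨⟨K, T⟩, ⟨hKp, hTp, hTN, hmK⟩, hmax⟩ := Set.Finite.exists_maximalFor
    (fun x : Subgroup G × Subgroup G => Nat.card x.2)
    {x | IsPGroup p x.1 ∧ IsPGroup p x.2 ∧ x.2 ≤ Subgroup.normalizer (x.1 : Set G) ∧ Moves q x.1}
    (Set.toFinite _) ⟨(H, H), hH, hH, Subgroup.le_normalizer, hmov⟩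
  obtain ⟨T', K', hT'p, hK'p, hcard, hKT, hTN', hNN, hm⟩ := step hpq h23 hsol K T hKp hTp hTN hmK
  obtain ⟨P, hP⟩ := hT'p.exists_le_sylow
  have hPT : (P : Subgroup G) ≤ T' := by
    by_contra hne
    haveI : Group.IsNilpotent (P : Subgroup G) := P.isPGroup'.isNilpotent
    have h1 : T'.subgroupOf (P : Subgroup G) < ⊤ := lt_top_iff_ne_top.mpr fun h =>
      hne (Subgroup.subgroupOf_eq_top.mp h)
    have h2 := (Group.normalizerCondition_of_isNilpotent (G := (P : Subgroup G))) _ h1
    obtain ⟨w, hw, hwT⟩ := SetLike.exists_of_lt h2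
    set T'' : Subgroup G := (Subgroup.normalizer ((T'.subgroupOf (P : Subgroup G) : Subgroup _) :
      Set (P : Subgroup G))).map (P : Subgroup G).subtype
    have hle : T' ≤ T'' := fun t ht => ⟨⟨t, hP ht⟩, Subgroup.le_normalizer ht, rfl⟩
    have hT''N : T'' ≤ Subgroup.normalizer (K' : Set G) := by
      refine fun z hz => hNN ?_
      have := Subgroup.le_normalizer_map (P : Subgroup G).subtype hz
      rwa [Subgroup.map_subgroupOf_eq_of_le hP] at this
    have hlt : T' < T'' := lt_of_le_of_ne hle fun e => hwT (by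
      show (w : G) ∈ T'
      rw [e]; exact ⟨w, hw, rfl⟩)
    have hcard' : Nat.card T' < Nat.card T'' := lt_of_le_of_ne (Subgroup.card_le_of_le hle)
      fun e => hlt.ne (Subgroup.eq_of_le_of_card_ge hle e.ge)
    have := hmax (j := (K', T'')) ⟨hK'p, P.2.to_le (Subgroup.map_subtype_le _), hT''N, hm⟩
      (le_of_lt (lt_of_le_of_lt hcard hcard'))
    simp only at this
    omega
  obtain ⟨g, hg⟩ := MulAction.exists_smul_eq G P Gp
  set φ := (MulAut.conj g).toMonoidHom
  have hGp : (Gp : Subgroup G) = (P : Subgroup G).map φ := by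
    rw [← hg, Sylow.coe_subgroup_smul]; rfl
  refine ⟨K'.map φ, hGp ▸ Subgroup.map_mono (hKT.trans hP), ?_, ?_⟩
  · rw [hGp]
    exact (Subgroup.map_mono (hPT.trans hTN')).trans (Subgroup.le_normalizer_map φ)
  · obtain ⟨z, ⟨k, hk⟩, hzn, hzc⟩ := hm
    set w : Subgroup.normalizer ((K'.map φ : Subgroup G) : Set G) :=
      ⟨φ z, Subgroup.le_normalizer_map φ ⟨z, hzn, rfl⟩⟩
    set Cw := (Subgroup.centralizer ((K'.map φ : Subgroup G) : Set G)).subgroupOf
      (Subgroup.normalizer ((K'.map φ : Subgroup G) : Set G))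
    by_contra hnd
    haveI : Cw.Normal := by
      refine ⟨fun c hc g' => ?_⟩
      rw [Subgroup.mem_subgroupOf, Subgroup.mem_centralizer_iff] at hc ⊢
      intro r hr
      have h1 := hc ((g' : G)⁻¹ * r * g') (by
        simpa using (Subgroup.mem_normalizer_iff.mp (inv_mem g'.2) r).mp hr)
      show r * (g' * (c : G) * (g' : G)⁻¹) = g' * (c : G) * (g' : G)⁻¹ * r
      calc r * (g' * (c : G) * (g' : G)⁻¹) = g' * (((g' : G)⁻¹ * r * g') * c) * (g' : G)⁻¹ := by group
        _ = g' * ((c : G) * ((g' : G)⁻¹ * r * g')) * (g' : G)⁻¹ := by rw [h1]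
        _ = g' * (c : G) * (g' : G)⁻¹ * r := by group
    have hwo : orderOf w = q ^ k := by
      rw [Subgroup.orderOf_mk, MulEquiv.coe_toMonoidHom, MulEquiv.orderOf_eq, hk]
    have h1 : orderOf (QuotientGroup.mk' Cw w) = 1 :=
      Nat.eq_one_of_dvd_coprimes (((hq'.coprime_iff_not_dvd.mpr hnd)).pow_left k)
        (hwo ▸ orderOf_map_dvd _ w) (Subgroup.index_eq_card Cw ▸ orderOf_dvd_natCard _)
    rw [orderOf_eq_one_iff, QuotientGroup.mk'_apply, QuotientGroup.eq_one_iff] at h1
    refine hzc (Subgroup.mem_centralizer_iff.mpr fun t ht => ?_)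
    have e := Subgroup.mem_centralizer_iff.mp h1 (φ t) ⟨t, ht, rfl⟩
    exact (MulAut.conj g).injective (by rw [map_mul, map_mul]; exact e)

end Cfsg.Agent.S4411
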