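import Cfsg.Statements.S4412
import Cfsg.Agent.Lib.Coprime.Action
-- import your own Cfsg.Agent.* helpers here

set_option autoImplicit false
open Cfsg

open scoped commutatorElement

namespace Cfsg.Agent.S4412

section
variable {P : Type*} [Group P] [Finite P]

/-- The fixed subgroup of an automorphism. -/
def fixS (T : MulAut P) : Subgroup P where
  carrier := {x | T x = x}
  one_mem' := map_one T
  mul_mem' := fun {a b} (ha : T a = a) (hb : T b = b) => show T (a * b) = a * b by
    rw [map_mul, ha, hb]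
  inv_mem' := fun {a} (ha : T a = a) => show T a⁻¹ = a⁻¹ by rw [map_inv, ha]

/-- The fixed subgroup of `T` is cyclic. -/
def Cyc (T : MulAut P) : Prop := ∃ g : P, ∀ x : P, (T x = x ↔ x ∈ Subgroup.zpowers g)

theorem exists_fixed_in_coset (hodd : Odd (Nat.card P)) (N : Subgroup P) (σ : MulAut P)
    (hσ : σ * σ = 1) {x : P} (hx : x⁻¹ * σ x ∈ N) : ∃ h ∈ N, σ (x * h) = x * h := by
  set d := x⁻¹ * σ x with hd
  have hdd : σ d = d⁻¹ := by
    have : σ (σ x) = x := by rw [← MulAut.mul_apply, hσ]; rfl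
    rw [hd, map_mul, map_inv, this, mul_inv_rev, inv_inv]
  obtain ⟨k, hk⟩ := hodd.of_dvd_nat (orderOf_dvd_natCard d)
  refine ⟨d ^ (k + 1), pow_mem hx _, ?_⟩
  have h2 : d * (d ^ (k + 1))⁻¹ = d ^ (k + 1) := by
    rw [mul_inv_eq_iff_eq_mul, ← pow_add, show k + 1 + (k + 1) = orderOf d + 1 by omega, pow_succ,
      pow_orderOf_eq_one, one_mul]
  rw [map_mul, map_pow, hdd, inv_pow, show σ x = x * d by rw [hd, mul_inv_cancel_left], mul_assoc, h2]

theorem eq_one_of_sq (hodd : Odd (Nat.card P)) {y : P} {N : Subgroup P} (h : y * y ∈ N) : y ∈ N := by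
  obtain ⟨k, hk⟩ := hodd.of_dvd_nat (orderOf_dvd_natCard y)
  have : y = (y * y) ^ (k + 1) := by
    rw [← pow_two, ← pow_mul, show 2 * (k + 1) = orderOf y + 1 by omega, pow_succ,
      pow_orderOf_eq_one, one_mul]
  rw [this]
  exact pow_mem h _

/-- A `p`-group is generated by the fixed subgroups of a four-group of automorphisms. -/
theorem closure_fixed {p : ℕ} [Fact p.Prime] (hP : IsPGroup p P) (hodd : Odd (Nat.card P))
    (a b : MulAut P) (ha : a * a = 1) (hb : b * b = 1) (hab : a * b = b * a) :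
    fixS a ⊔ fixS b ⊔ fixS (a * b) = ⊤ := by
  haveI : Group.IsNilpotent P := hP.isNilpotent
  refine frattini_nongenerating ?_
  set H := fixS a ⊔ fixS b ⊔ fixS (a * b)
  set F := frattini P
  have hcom : commutator P ≤ F := by
    refine le_iInf₂ fun M hM => ?_
    haveI : M.Normal :=
      Subgroup.NormalizerCondition.normal_of_coatom M (Group.normalizerCondition_of_isNilpotent (G := P)) hM
    haveI := Fact.mk (Fact.out : p.Prime)
    obtain ⟨k, hk⟩ := (hP.to_quotient M).exists_card_eq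
    have hsimple : ∀ K : Subgroup (P ⧸ M), K = ⊥ ∨ K = ⊤ := by
      intro K
      rcases eq_or_lt_of_le ((QuotientGroup.ker_mk' M).symm.le.trans
        ((QuotientGroup.mk' M).ker_le_comap K)) with h | h
      · left
        rw [← Subgroup.map_comap_eq_self_of_surjective (QuotientGroup.mk'_surjective M) K, ← h,
          Subgroup.map_eq_bot_iff, QuotientGroup.ker_mk']
      · right
        rw [← Subgroup.map_comap_eq_self_of_surjective (QuotientGroup.mk'_surjective M) K, hM.2 _ h,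
          Subgroup.map_top_of_surjective _ (QuotientGroup.mk'_surjective M)]
    haveI : Group.IsNilpotent (P ⧸ M) := (hP.to_quotient M).isNilpotent
    have hc : commutator (P ⧸ M) = ⊥ := by
      refine (hsimple _).resolve_right fun h => ?_
      have hne : (⊤ : Subgroup (P ⧸ M)) ≠ ⊥ := fun h0 => hM.1 (by
        rw [← Subgroup.comap_top (QuotientGroup.mk' M), h0, MonoidHom.comap_bot, QuotientGroup.ker_mk'])
      have hstep : ∀ n, (⊤ : Subgroup (P ⧸ M)).lowerCentralSeries n = ⊤ := by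
        intro n
        induction n with
        | zero => rfl
        | succ n ih =>
          show ⁅(⊤ : Subgroup (P ⧸ M)).lowerCentralSeries n, ⊤⁆ = ⊤
          rw [ih]; exact h
      obtain ⟨n, hn⟩ := Subgroup.nilpotent_iff_lowerCentralSeries.mp (inferInstance : Group.IsNilpotent (P ⧸ M))
      exact hne (by rw [← hstep n, hn])
    rw [commutator_def, ← QuotientGroup.ker_mk' M, ← Subgroup.map_eq_bot_iff,
      Subgroup.map_commutator, Subgroup.map_top_of_surjective _ (QuotientGroup.mk'_surjective M),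
      ← commutator_def, hc]
  rw [eq_top_iff]
  intro v _
  let q := QuotientGroup.mk' F
  have hqc : ∀ u w : P, q u * q w = q w * q u := fun u w => by
    rw [← commutatorElement_eq_one_iff_mul_comm, ← map_commutatorElement, ← MonoidHom.mem_ker,
      QuotientGroup.ker_mk']
    exact hcom (Subgroup.commutator_mem_commutator (Subgroup.mem_top u) (Subgroup.mem_top w))
  have haF : ∀ σ : MulAut P, ∀ x ∈ F, σ x ∈ F := fun σ x hx =>
    (Subgroup.characteristic_iff_le_comap.mp (inferInstance : F.Characteristic) σ : _ ≤ _) hx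
  have hσ : ∀ σ : MulAut P, σ * σ = 1 → fixS σ ≤ H → ∀ u : P, q (u * σ u) ∈ H.map q := by
    intro σ hσ hle u
    have hx : (u * σ u)⁻¹ * σ (u * σ u) ∈ F := by
      rw [← QuotientGroup.ker_mk' F, MonoidHom.mem_ker]
      have : σ (σ u) = u := by rw [← MulAut.mul_apply, hσ]; rfl
      rw [map_mul σ, this]
      simp only [map_mul, map_inv]
      show (q u * q (σ u))⁻¹ * (q (σ u) * q u) = 1
      rw [hqc (σ u) u, inv_mul_cancel]
    obtain ⟨h, hh, hfix⟩ := exists_fixed_in_coset hodd F σ hσ hx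
    refine ⟨u * σ u * h, hle hfix, ?_⟩
    show q (u * σ u * h) = q (u * σ u)
    rw [map_mul q (u * σ u) h, show q h = 1 from (QuotientGroup.eq_one_iff h).mpr hh, mul_one]
  have hab2 : (a * b) * (a * b) = 1 := by
    rw [mul_assoc, ← mul_assoc b a b, ← hab, mul_assoc a b b, hb, mul_one, ha]
  have h1 := hσ a ha (le_sup_left.trans le_sup_left) v
  have h2 := hσ b hb (le_sup_right.trans le_sup_left) v
  have h3 := hσ (a * b) hab2 le_sup_right v
  -- `(v * σ v)` for the three involutions recover `v ^ 2` modulo `a v * b v * ab v`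
  have h4 := hσ a ha (le_sup_left.trans le_sup_left) (b v)
  have hprod : q ((v * a v) * (v * b v) * ((v * (a * b) v)) * ((b v) * a (b v))⁻¹ * (v * a v)⁻¹ * (v * a v)) ∈
      H.map q := by
    rw [map_mul, map_mul, map_mul, map_mul, map_mul, map_inv, map_inv]
    exact mul_mem (mul_mem (mul_mem (mul_mem (mul_mem h1 h2) h3) (inv_mem h4)) (inv_mem h1)) h1
  have hmem : q (v * a v) * q (v * v) ∈ H.map q := by
    refine (congrArg (· ∈ H.map q) ?_).mp hprod
    rw [MulAut.mul_apply]
    simp only [map_mul, map_inv]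
    generalize q v = x, q (a v) = y, q (b v) = z, q (a (b v)) = w at *
    group
    simp only [zpow_neg, zpow_one]
    have := hqc
    letI : CommGroup (P ⧸ F) :=
      { (inferInstance : Group (P ⧸ F)) with
        mul_comm := fun u w => by
          obtain ⟨u', rfl⟩ := QuotientGroup.mk'_surjective F u
          obtain ⟨w', rfl⟩ := QuotientGroup.mk'_surjective F w
          exact hqc u' w' }
    simp [mul_comm, mul_left_comm, mul_assoc]
  have hsq : q (v * v) ∈ H.map q := by
    have := mul_mem (inv_mem h1) hmem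
    rwa [inv_mul_cancel_left] at this
  have hF : v * v ∈ H ⊔ F := by
    obtain ⟨h, hh, he⟩ := hsq
    rw [show v * v = h * (h⁻¹ * (v * v)) by group]
    exact mul_mem (Subgroup.mem_sup_left hh) (Subgroup.mem_sup_right (QuotientGroup.eq.mp he))
  exact eq_one_of_sq hodd hF

theorem pm_of_cyclic {p : ℕ} [Fact p.Prime] (hp2 : p ≠ 2) (hP : IsPGroup p P) {t : MulAut P}
    (ht : t * t = 1) {c : P} (hc : t c ∈ Subgroup.zpowers c) : t c = c ∨ t c = c⁻¹ := by
  obtain ⟨k, hk⟩ := Subgroup.mem_zpowers_iff.mp hc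
  obtain ⟨n, hn⟩ := IsPGroup.iff_orderOf.mp hP c
  have h1 : c ^ (k * k) = c := by
    rw [zpow_mul, hk, ← map_zpow, hk, ← MulAut.mul_apply, ht]; rfl
  have h2 : ((orderOf c : ℕ) : ℤ) ∣ (k - 1) * (k + 1) := by
    rw [orderOf_dvd_iff_zpow_eq_one, show (k - 1) * (k + 1) = k * k - 1 by ring, zpow_sub, zpow_one,
      h1, mul_inv_cancel]
  have hp : Prime (p : ℤ) := Nat.prime_iff_prime_int.mp Fact.out
  rw [hn] at h2
  push_cast at h2
  by_cases hpk : (p : ℤ) ∣ k - 1
  · have hcop : IsCoprime ((p : ℤ) ^ n) (k + 1) := by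
      refine IsCoprime.pow_left (hp.coprime_iff_not_dvd.mpr fun h => hp2 ?_)
      have : (p : ℤ) ∣ 2 := by simpa using dvd_sub h hpk
      exact (Nat.prime_dvd_prime_iff_eq Fact.out Nat.prime_two).mp (by exact_mod_cast this)
    left
    have h3 := hcop.dvd_of_dvd_mul_right h2
    have : c ^ (k - 1) = 1 := by
      rw [← orderOf_dvd_iff_zpow_eq_one, hn]; exact_mod_cast h3
    rwa [zpow_sub, zpow_one, hk, mul_inv_eq_one] at this
  · have hcop : IsCoprime ((p : ℤ) ^ n) (k - 1) := IsCoprime.pow_left (hp.coprime_iff_not_dvd.mpr hpk)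
    right
    have h3 := hcop.dvd_of_dvd_mul_left h2
    have : c ^ (k + 1) = 1 := by
      rw [← orderOf_dvd_iff_zpow_eq_one, hn]; exact_mod_cast h3
    rw [zpow_add, zpow_one, hk, mul_eq_one_iff_eq_inv] at this
    exact this

variable {p : ℕ} [Fact p.Prime]

/-- All the structure coming from a four-group with cyclic fixed subgroups. -/
theorem structure_of_plane (hp2 : p ≠ 2) (hP : IsPGroup p P) (I : Subgroup (MulAut P))
    (hIc : ∀ S ∈ I, ∀ T ∈ I, S * T = T * S) (hI2 : ∀ T ∈ I, T * T = 1) (hI8 : Nat.card I = 8)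
    (a b : MulAut P) (haI : a ∈ I) (hbI : b ∈ I)
    (hca : Cyc a) (hcb : Cyc b) (hcab : Cyc (a * b)) :
    IsMulCommutative P ∧ (∃ u v w : P, Subgroup.closure {u, v, w} = ⊤) ∧
    (¬ ∃ u v : P, Subgroup.closure {u, v} = ⊤) ∧
    ∃ e₁ e₂ e₃ : MulAut P, e₁ ≠ e₂ ∧ e₁ ≠ e₃ ∧ e₂ ≠ e₃ ∧ e₂ * e₃ = a ∧ e₁ * e₃ = b ∧ e₁ * e₂ = a * b ∧
      (∀ T, (T ∈ I ∧ T ≠ 1 ∧ ¬ Cyc T) ↔ (T = e₁ ∨ T = e₂ ∨ T = e₃)) ∧
      Subgroup.closure {e₁, e₂, e₃} = I := by
  classical
  have hodd : Odd (Nat.card P) := by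
    obtain ⟨n, hn⟩ := IsPGroup.iff_card.mp hP
    rw [hn]; exact ((Fact.out : p.Prime).odd_of_ne_two hp2).pow
  obtain ⟨c1, hc1⟩ := hca
  obtain ⟨c2, hc2⟩ := hcb
  obtain ⟨c3, hc3⟩ := hcab
  have habI : a * b ∈ I := I.mul_mem haI hbI
  have hgen : Subgroup.zpowers c1 ⊔ Subgroup.zpowers c2 ⊔ Subgroup.zpowers c3 = ⊤ := by
    rw [eq_top_iff, ← closure_fixed hP hodd a b (hI2 a haI) (hI2 b hbI) (hIc a haI b hbI)]
    exact sup_le (sup_le (fun x hx => Subgroup.mem_sup_left (Subgroup.mem_sup_left ((hc1 x).mp hx)))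
      (fun x hx => Subgroup.mem_sup_left (Subgroup.mem_sup_right ((hc2 x).mp hx))))
      (fun x hx => Subgroup.mem_sup_right ((hc3 x).mp hx))
  let c : Fin 3 → P := ![c1, c2, c3]
  let gJ : Fin 3 → MulAut P := ![a, b, a * b]
  have hgJI : ∀ j, gJ j ∈ I := fun j => by fin_cases j <;> assumption
  have hfix : ∀ j x, gJ j x = x ↔ x ∈ Subgroup.zpowers (c j) := fun j => by
    fin_cases j
    · exact hc1
    · exact hc2
    · exact hc3
  have hpm : ∀ T ∈ I, ∀ j, T (c j) = c j ∨ T (c j) = (c j)⁻¹ := by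
    intro T hT j
    refine pm_of_cyclic hp2 hP (hI2 T hT) ((hfix j _).mp ?_)
    show gJ j (T (c j)) = T (c j)
    rw [← MulAut.mul_apply, hIc _ (hgJI j) T hT, MulAut.mul_apply,
      (hfix j _).mpr (Subgroup.mem_zpowers _)]
  have hext : ∀ S T : MulAut P, (∀ j, S (c j) = T (c j)) → S = T := by
    intro S T h
    refine MulEquiv.ext fun x => ?_
    have : (⊤ : Subgroup P) ≤ MonoidHom.eqLocus S.toMonoidHom T.toMonoidHom := by
      rw [← hgen]
      refine sup_le (sup_le ?_ ?_) ?_ <;> rw [Subgroup.zpowers_le]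
      · exact h 0
      · exact h 1
      · exact h 2
    exact this (Subgroup.mem_top x)
  let β : I → (Fin 3 → Bool) := fun T j => decide ((T : MulAut P) (c j) = c j)
  have hβinj : Function.Injective β := by
    intro S T h
    refine Subtype.ext (hext _ _ fun j => ?_)
    have hj : decide ((S : MulAut P) (c j) = c j) = decide ((T : MulAut P) (c j) = c j) := congrFun h j
    rw [decide_eq_decide] at hj
    by_cases hS : (S : MulAut P) (c j) = c j
    · rw [hS, hj.mp hS]
    · rw [(hpm S S.2 j).resolve_left hS, (hpm T T.2 j).resolve_left (fun h => hS (hj.mpr h))]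
  haveI : Fintype I := Fintype.ofFinite I
  have hβ : Function.Bijective β := (Fintype.bijective_iff_injective_and_card β).mpr ⟨hβinj, by
    rw [← Nat.card_eq_fintype_card, hI8]; simp⟩
  have hsel : ∀ f : Fin 3 → Bool, ∃ T ∈ I, ∀ j,
      T (c j) = if f j then c j else (c j)⁻¹ := by
    intro f
    obtain ⟨T, hT⟩ := hβ.2 f
    refine ⟨T, T.2, fun j => ?_⟩
    have hj : decide ((T : MulAut P) (c j) = c j) = f j := congrFun hT j
    cases hf : f j
    · rw [hf, decide_eq_false_iff_not] at hj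
      simpa using (hpm T T.2 j).resolve_left hj
    · rw [hf, decide_eq_true_iff] at hj
      simpa using hj
  have hne : ∀ j, c j ≠ (c j)⁻¹ := by
    intro j h
    obtain ⟨T, hT⟩ := hβ.2 (fun _ => false)
    have hj : decide ((T : MulAut P) (c j) = c j) = false := congrFun hT j
    rw [decide_eq_false_iff_not] at hj
    refine hj ?_
    rw [(hpm T T.2 j).resolve_left hj]
    exact h.symm
  -- sign changes at one place
  have hE : ∀ i, ∃ T ∈ I, ∀ j, T (c j) = if j = i then (c j)⁻¹ else c j := by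
    intro i
    obtain ⟨T, hT, h⟩ := hsel fun j => !decide (j = i)
    exact ⟨T, hT, fun j => by rw [h j]; by_cases hji : j = i <;> simp [hji]⟩
  choose e heI he using hE
  -- `gJ j` inverts the other generators
  have hgJ : ∀ i j, gJ i (c j) = if j = i then c j else (c j)⁻¹ := by
    intro i j
    by_cases hji : j = i
    · subst hji; rw [if_pos rfl]; exact (hfix j _).mpr (Subgroup.mem_zpowers _)
    rw [if_neg hji]
    refine (hpm _ (hgJI i) j).resolve_left fun h => ?_
    obtain ⟨k, hk⟩ := Subgroup.mem_zpowers_iff.mp ((hfix i _).mp h)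
    have h1 : e j (c j) = c j := by
      rw [← hk, map_zpow, he j i, if_neg (fun h => hji h.symm)]
    rw [he j j, if_pos rfl] at h1
    exact hne j h1.symm
  have hprod : ∀ i j k : Fin 3, i ≠ j → i ≠ k → j ≠ k → e j * e k = gJ i := by
    intro i j k hij hik hjk
    refine hext _ _ fun l => ?_
    rw [MulAut.mul_apply, hgJ, he k l]
    by_cases hlk : l = k
    · subst hlk
      rw [if_pos rfl, map_inv, he, if_neg hjk.symm, if_neg (fun h => hik h.symm)]
    · rw [if_neg hlk, he]
      by_cases hlj : l = j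
      · subst hlj
        rw [if_pos rfl, if_neg (fun h => hij h.symm)]
      · have : l = i := by omega
        subst this
        rw [if_neg hlj, if_pos rfl]
  -- `P` is abelian
  haveI : Group.IsNilpotent P := hP.isNilpotent
  set M := ⁅commutator P, (⊤ : Subgroup P)⁆ with hM
  haveI hMchar : M.Characteristic := inferInstance
  have hMc : ∀ σ : MulAut P, ∀ x ∈ M, σ x ∈ M := fun σ x hx =>
    (Subgroup.characteristic_iff_le_comap.mp hMchar σ : _ ≤ _) hx
  let q := QuotientGroup.mk' M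
  have hqz : ∀ u v w : P, q ⁅u, v⁆ * q w = q w * q ⁅u, v⁆ := fun u v w => by
    rw [← commutatorElement_eq_one_iff_mul_comm, ← map_commutatorElement, ← MonoidHom.mem_ker,
      QuotientGroup.ker_mk']
    exact Subgroup.commutator_mem_commutator (Subgroup.commutator_mem_commutator (Subgroup.mem_top u)
      (Subgroup.mem_top v)) (Subgroup.mem_top w)
  have hinv2 : ∀ u v : P, q ⁅u⁻¹, v⁻¹⁆ = q ⁅u, v⁆ := by
    intro u v
    have h1 : ⁅u⁻¹, v⁻¹⁆ = (v * u)⁻¹ * ⁅u, v⁆⁻¹⁻¹ * (v * u) := by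
      simp only [commutatorElement_def]; group
    rw [h1, inv_inv, map_mul, map_mul, map_inv, mul_assoc, hqz, inv_mul_cancel_left]
  have hcc : ∀ i j : Fin 3, q ⁅c i, c j⁆ = 1 := by
    intro i j
    by_cases hij : i = j
    · subst hij; simp
    obtain ⟨k, hki, hkj⟩ : ∃ k : Fin 3, k ≠ i ∧ k ≠ j := by revert hij i j; decide
    set x := ⁅c i, c j⁆ with hx
    have hTx : gJ k x = ⁅(c i)⁻¹, (c j)⁻¹⁆ := by
      rw [hx, map_commutatorElement, hgJ, hgJ, if_neg (fun h => hki h.symm), if_neg (fun h => hkj h.symm)]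
    have hd : x⁻¹ * gJ k x ∈ M := by
      rw [← QuotientGroup.ker_mk' M, MonoidHom.mem_ker, map_mul, map_inv, hTx]
      show (q x)⁻¹ * q _ = 1
      rw [hinv2, inv_mul_cancel]
    obtain ⟨h, hh, hfixh⟩ := exists_fixed_in_coset hodd M (gJ k) (hI2 _ (hgJI k)) hd
    obtain ⟨l, hl⟩ := Subgroup.mem_zpowers_iff.mp ((hfix k _).mp hfixh)
    have hex : e k x = x := by
      rw [hx, map_commutatorElement, he, he, if_neg (fun h => hki h.symm), if_neg (fun h => hkj h.symm)]
    have h3 : (x * h)⁻¹ = x * e k h := by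
      calc (x * h)⁻¹ = e k (c k ^ l) := by rw [map_zpow, he, if_pos rfl, inv_zpow, hl]
        _ = x * e k h := by rw [hl, map_mul, hex]
    have h4 : (q x)⁻¹ = q x := by
      have h34 := congrArg q h3
      rw [map_inv, map_mul, map_mul, show q h = 1 from (QuotientGroup.eq_one_iff _).mpr hh,
        show q (e k h) = 1 from (QuotientGroup.eq_one_iff _).mpr (hMc _ _ hh), mul_one] at h34
      exact h34
    refine (QuotientGroup.eq_one_iff x).mpr (eq_one_of_sq hodd ?_)
    rw [← QuotientGroup.eq_one_iff]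
    show q (x * x) = 1
    rw [map_mul]
    nth_rw 1 [← h4]
    exact inv_mul_cancel _
  have hqab : ∀ u v : P, q u * q v = q v * q u := by
    have h1 : ∀ i v, q (c i) * q v = q v * q (c i) := by
      intro i v
      have : (⊤ : Subgroup P) ≤ (Subgroup.centralizer ({q (c i)} : Set (P ⧸ M))).comap q := by
        refine hgen.ge.trans ?_
        refine sup_le (sup_le ?_ ?_) ?_ <;> rw [Subgroup.zpowers_le] <;> intro y hy <;>
          rw [Set.mem_singleton_iff.mp hy, ← commutatorElement_eq_one_iff_mul_comm,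
            ← map_commutatorElement]
        · exact hcc i 0
        · exact hcc i 1
        · exact hcc i 2
      exact this (Subgroup.mem_top v) _ rfl
    intro u v
    have : (⊤ : Subgroup P) ≤ (Subgroup.centralizer ({q v} : Set (P ⧸ M))).comap q := by
      refine hgen.ge.trans ?_
      refine sup_le (sup_le ?_ ?_) ?_ <;> rw [Subgroup.zpowers_le] <;> intro y hy <;>
        rw [Set.mem_singleton_iff.mp hy]
      · exact (h1 0 v).symm
      · exact (h1 1 v).symm
      · exact (h1 2 v).symm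
    exact (this (Subgroup.mem_top u) _ rfl).symm
  have hcle : commutator P ≤ M := by
    rw [commutator_def, Subgroup.commutator_le]
    intro u _ v _
    rw [← QuotientGroup.ker_mk' M, MonoidHom.mem_ker, map_commutatorElement,
      commutatorElement_eq_one_iff_mul_comm]
    exact hqab u v
  have hcbot : commutator P = ⊥ := by
    obtain ⟨n, hn⟩ := Subgroup.nilpotent_iff_lowerCentralSeries.mp (inferInstance : Group.IsNilpotent P)
    have hstep : ∀ m, commutator P ≤ (⊤ : Subgroup P).lowerCentralSeries m := by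
      intro m
      induction m with
      | zero => exact le_top
      | succ m ih => exact hcle.trans (Subgroup.commutator_mono ih le_rfl)
    exact le_bot_iff.mp (hn ▸ hstep n)
  have hab : ∀ u v : P, u * v = v * u := fun u v => commutatorElement_eq_one_iff_mul_comm.mp
    (Subgroup.mem_bot.mp (hcbot ▸ Subgroup.commutator_mem_commutator (Subgroup.mem_top u) (Subgroup.mem_top v)))
  refine ⟨⟨⟨hab⟩⟩, ⟨c1, c2, c3, ?_⟩, ?_, e 0, e 1, e 2, ?_⟩
  · rw [eq_top_iff, ← hgen]
    refine sup_le (sup_le ?_ ?_) ?_ <;> rw [Subgroup.zpowers_le] <;>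
      exact Subgroup.subset_closure (by simp)
  · -- three independent elements of order `p`
    rintro ⟨u, v, huv⟩
    haveI : Fintype P := Fintype.ofFinite P
    have hw : ∀ j, ∃ w : P, w ∈ Subgroup.zpowers (c j) ∧ orderOf w = p := by
      intro j
      obtain ⟨n, hn⟩ := IsPGroup.iff_orderOf.mp hP (c j)
      rcases n with _ | n
      · rw [pow_zero, orderOf_eq_one_iff] at hn
        exact absurd (by rw [hn, inv_one]) (hne j)
      · refine ⟨c j ^ p ^ n, Subgroup.npow_mem_zpowers _ _, ?_⟩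
        rw [orderOf_pow_of_dvd (pow_ne_zero _ (Fact.out : p.Prime).ne_zero) (hn ▸ pow_dvd_pow p (Nat.le_succ n)),
          hn, pow_succ, Nat.mul_div_cancel_left _ (pow_pos (Fact.out : p.Prime).pos n)]
    choose w hwc hwo using hw
    have hwe : ∀ i j, e i (w j) = if j = i then (w j)⁻¹ else w j := by
      intro i j
      obtain ⟨l, hl⟩ := Subgroup.mem_zpowers_iff.mp (hwc j)
      rw [← hl, map_zpow, he]
      split <;> simp [inv_zpow]
    let f : P →* P :=
      { toFun := fun x => x ^ p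
        map_one' := one_pow p
        map_mul' := fun x y => (show Commute x y from hab x y).mul_pow p }
    have hwker : ∀ j, ∀ m : ℕ, w j ^ m ∈ f.ker := fun j m => by
      show (w j ^ m) ^ p = 1
      rw [← pow_mul, mul_comm, pow_mul, ← hwo j, pow_orderOf_eq_one, one_pow]
    let φ : (Fin p × Fin p × Fin p) → f.ker := fun m =>
      ⟨w 0 ^ (m.1 : ℕ) * w 1 ^ (m.2.1 : ℕ) * w 2 ^ (m.2.2 : ℕ),
        mul_mem (mul_mem (hwker 0 _) (hwker 1 _)) (hwker 2 _)⟩
    letI : CommGroup P := { (inferInstance : Group P) with mul_comm := hab }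
    have hinj : Function.Injective φ := by
      intro m m' h
      have h0 : w 0 ^ (m.1 : ℕ) * w 1 ^ (m.2.1 : ℕ) * w 2 ^ (m.2.2 : ℕ) =
          w 0 ^ (m'.1 : ℕ) * w 1 ^ (m'.2.1 : ℕ) * w 2 ^ (m'.2.2 : ℕ) := congrArg Subtype.val h
      have key : ∀ i, (fun x => x * (e i x)⁻¹) (w 0 ^ (m.1 : ℕ) * w 1 ^ (m.2.1 : ℕ) * w 2 ^ (m.2.2 : ℕ)) =
          (fun x => x * (e i x)⁻¹) (w 0 ^ (m'.1 : ℕ) * w 1 ^ (m'.2.1 : ℕ) * w 2 ^ (m'.2.2 : ℕ)) :=
        fun i => congrArg (fun x => x * (e i x)⁻¹) h0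
      have hlin : ∀ j (s t : ℕ), s < p → t < p → w j ^ s * w j ^ s = w j ^ t * w j ^ t → s = t := by
        intro j s t hs ht hst
        rw [← pow_add, ← pow_add, pow_eq_pow_iff_modEq, hwo] at hst
        have hc2 : Nat.Coprime p 2 := (Nat.coprime_primes Fact.out Nat.prime_two).mpr hp2
        have : s ≡ t [MOD p] := Nat.ModEq.cancel_left_of_coprime (c := 2) (hc2) (by simpa [two_mul] using hst)
        exact Nat.ModEq.eq_of_lt_of_lt this hs ht
      refine Prod.ext (Fin.ext (hlin 0 _ _ m.1.2 m'.1.2 ?_)) (Prod.ext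
        (Fin.ext (hlin 1 _ _ m.2.1.2 m'.2.1.2 ?_)) (Fin.ext (hlin 2 _ _ m.2.2.2 m'.2.2.2 ?_)))
      · have := key 0
        simpa [map_mul, map_pow, hwe, mul_comm, mul_left_comm, mul_assoc] using this
      · have := key 1
        simpa [map_mul, map_pow, hwe, mul_comm, mul_left_comm, mul_assoc] using this
      · have := key 2
        simpa [map_mul, map_pow, hwe, mul_comm, mul_left_comm, mul_assoc] using this
    have h1 : p ^ 3 ≤ Nat.card f.ker := by
      have := Nat.card_le_card_of_injective φ hinj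
      simpa [pow_succ, mul_assoc] using this
    have h2 : f.range.index ≤ p ^ 2 := by
      let ψ : Fin p × Fin p → P ⧸ f.range := fun m =>
        QuotientGroup.mk' f.range (u ^ (m.1 : ℕ) * v ^ (m.2 : ℕ))
      have hker : ∀ y : P, QuotientGroup.mk' f.range (y ^ p) = 1 := fun y =>
        (QuotientGroup.eq_one_iff _).mpr ⟨y, rfl⟩
      have hred : ∀ (y : P) (i : ℤ), ∃ r : Fin p, QuotientGroup.mk' f.range (y ^ i) =
          QuotientGroup.mk' f.range (y ^ (r : ℕ)) := by
        intro y i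
        have hp0 : (0 : ℤ) < p := by exact_mod_cast (Fact.out : p.Prime).pos
        refine ⟨⟨(i % p).toNat, ?_⟩, ?_⟩
        · have := Int.emod_lt_of_pos i hp0
          have := Int.emod_nonneg i hp0.ne'
          omega
        · conv_lhs => rw [← Int.mul_ediv_add_emod i p]
          rw [zpow_add, zpow_mul, zpow_natCast, map_mul, map_zpow _ (y ^ p), hker, one_zpow, one_mul,
            ← zpow_natCast y, Int.toNat_of_nonneg (Int.emod_nonneg i hp0.ne')]
      have hsurj : Function.Surjective ψ := by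
        intro z
        obtain ⟨x, rfl⟩ := QuotientGroup.mk'_surjective f.range z
        obtain ⟨i, j, rfl⟩ := Subgroup.mem_closure_pair.mp (huv ▸ Subgroup.mem_top x)
        obtain ⟨r, hr⟩ := hred u i
        obtain ⟨s, hs⟩ := hred v j
        refine ⟨(r, s), ?_⟩
        show QuotientGroup.mk' f.range (u ^ (r : ℕ) * v ^ (s : ℕ)) = _
        rw [map_mul, map_mul, hr, hs]
      rw [Subgroup.index_eq_card]
      have := Nat.card_le_card_of_surjective ψ hsurj
      simpa [sq] using this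
    have h3 : Nat.card f.ker = f.range.index := by
      have h4 := f.range.card_mul_index
      have h5 := f.ker.card_mul_index
      rw [Subgroup.index_ker] at h5
      rw [mul_comm] at h5
      exact Nat.eq_of_mul_eq_mul_left (Nat.card_pos (α := f.range)) (h5.trans h4.symm)
    have h6 : p ^ 2 < p ^ 3 := Nat.pow_lt_pow_right (Fact.out : p.Prime).one_lt (by norm_num)
    omega
  -- the signs
  have hdist : ∀ i j, i ≠ j → e i ≠ e j := by
    intro i j hij h
    have := he i i
    rw [h, he j i, if_pos rfl, if_neg hij] at this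
    exact hne i this
  refine ⟨hdist 0 1 (by decide), hdist 0 2 (by decide), hdist 1 2 (by decide),
    hprod 0 1 2 (by decide) (by decide) (by decide), hprod 1 0 2 (by decide) (by decide) (by decide),
    hprod 2 0 1 (by decide) (by decide) (by decide), ?_, ?_⟩
  · intro T
    constructor
    · rintro ⟨hTI, hT1, hTn⟩
      by_contra hnot
      push Not at hnot
      have hcase : ∀ i, (∀ j, j ≠ i → T (c j) = (c j)⁻¹) → T (c i) = c i → T = gJ i := fun i h1 h2 =>
        hext _ _ fun j => by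
          rw [hgJ]
          by_cases hji : j = i
          · subst hji; rw [if_pos rfl, h2]
          · rw [if_neg hji, h1 j hji]
      have hcyc : ∀ i, Cyc (gJ i) := fun i => ⟨c i, hfix i⟩
      rcases hpm T hTI 0 with h0 | h0 <;> rcases hpm T hTI 1 with h1 | h1 <;>
        rcases hpm T hTI 2 with h2 | h2
      · exact hT1 (hext _ _ fun j => by fin_cases j <;> assumption)
      · exact hnot.2.2 (hext _ _ fun j => by rw [he]; fin_cases j <;> simpa)
      · exact hnot.2.1 (hext _ _ fun j => by rw [he]; fin_cases j <;> simpa)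
      · exact hTn (hcase 0 (fun j hj => by fin_cases j <;> first | exact absurd rfl hj | assumption) h0 ▸ hcyc 0)
      · exact hnot.1 (hext _ _ fun j => by rw [he]; fin_cases j <;> simpa)
      · exact hTn (hcase 1 (fun j hj => by fin_cases j <;> first | exact absurd rfl hj | assumption) h1 ▸ hcyc 1)
      · exact hTn (hcase 2 (fun j hj => by fin_cases j <;> first | exact absurd rfl hj | assumption) h2 ▸ hcyc 2)
      · -- the inversion
        refine hTn ⟨1, fun x => ?_⟩
        have hinv : ∀ y, T y = y⁻¹ := by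
          letI : CommGroup P := { (inferInstance : Group P) with mul_comm := hab }
          have : (⊤ : Subgroup P) ≤ MonoidHom.eqLocus T.toMonoidHom (MulEquiv.inv P).toMonoidHom := by
            rw [← hgen]
            refine sup_le (sup_le ?_ ?_) ?_ <;> rw [Subgroup.zpowers_le]
            · exact h0
            · exact h1
            · exact h2
          exact fun y => this (Subgroup.mem_top y)
        rw [hinv, Subgroup.zpowers_one_eq_bot, Subgroup.mem_bot]
        constructor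
        · intro h
          have : x * x ∈ (⊥ : Subgroup P) := by
            rw [Subgroup.mem_bot]; nth_rw 1 [← h]; exact inv_mul_cancel x
          exact Subgroup.mem_bot.mp (eq_one_of_sq hodd this)
        · rintro rfl; simp
    · have key : ∀ i, e i ∈ I ∧ e i ≠ 1 ∧ ¬ Cyc (e i) := by
        intro i
        obtain ⟨j, k, hji, hki, hjk⟩ : ∃ j k : Fin 3, j ≠ i ∧ k ≠ i ∧ j ≠ k := by revert i; decide
        refine ⟨heI i, fun h => ?_, ?_⟩
        · have := he i i
          rw [h, if_pos rfl] at this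
          exact hne i this
        rintro ⟨g, hg⟩
        obtain ⟨s, hs⟩ := Subgroup.mem_zpowers_iff.mp ((hg (c j)).mp (by rw [he, if_neg hji]))
        obtain ⟨t, ht⟩ := Subgroup.mem_zpowers_iff.mp ((hg (c k)).mp (by rw [he, if_neg hki]))
        have hkg : e i g = g := (hg g).mpr (Subgroup.mem_zpowers g)
        -- the sign change at `j` would be the same at `k`
        have hej : e j g ∈ Subgroup.zpowers g := (hg _).mp (by
          rw [← MulAut.mul_apply, hIc _ (heI i) _ (heI j), MulAut.mul_apply, hkg])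
        rcases pm_of_cyclic hp2 hP (hI2 _ (heI j)) hej with h | h
        · have := he j j
          rw [if_pos rfl, ← hs, map_zpow, h, hs] at this
          exact hne j this
        · have := he j k
          rw [if_neg hjk.symm, ← ht, map_zpow, h, inv_zpow, ht] at this
          exact hne k this.symm
      rintro (rfl | rfl | rfl)
      exacts [key 0, key 1, key 2]
  · refine le_antisymm ((Subgroup.closure_le _).mpr ?_) fun T hT => ?_
    · rintro _ (rfl | rfl | rfl) <;> exact heI _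
    · obtain ⟨E, hEdef⟩ : ∃ E, E = Subgroup.closure ({e 0, e 1, e 2} : Set (MulAut P)) := ⟨_, rfl⟩
      rw [← hEdef]
      have hsgn : ∀ i, ∃ d ∈ E, ∀ j, d (c j) = if j = i then T (c j) else c j := by
        intro i
        rcases hpm T hT i with h | h
        · refine ⟨1, one_mem _, fun j => ?_⟩
          by_cases hji : j = i
          · subst hji; rw [if_pos rfl, h]; rfl
          · rw [if_neg hji]; rfl
        · refine ⟨e i, hEdef ▸ Subgroup.subset_closure (by fin_cases i <;> simp), fun j => ?_⟩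
          rw [he]
          by_cases hji : j = i
          · subst hji; rw [if_pos rfl, if_pos rfl, h]
          · rw [if_neg hji, if_neg hji]
      choose d hdE hd using hsgn
      have hTe : T = d 0 * d 1 * d 2 := by
        refine hext _ _ fun j => ?_
        rw [MulAut.mul_apply, MulAut.mul_apply, hd 2 j]
        have hcases : j = 0 ∨ j = 1 ∨ j = 2 := by omega
        rcases hcases with rfl | rfl | rfl
        · rw [if_neg (by decide), hd 1 0, if_neg (by decide), hd 0 0, if_pos rfl]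
        · rw [if_neg (by decide), hd 1 1, if_pos rfl]
          rcases hpm T hT 1 with h | h <;> simp [h, map_inv, hd 0 1]
        · rw [if_pos rfl]
          rcases hpm T hT 2 with h | h <;> simp [h, map_inv, hd 1 2, hd 0 2]
      rw [hTe]
      exact mul_mem (mul_mem (hdE 0) (hdE 1)) (hdE 2)

/-- A four-group with cyclic fixed subgroups exists. -/
theorem exists_plane (I : Subgroup (MulAut P)) (hIc : ∀ S ∈ I, ∀ T ∈ I, S * T = T * S)
    (hI2 : ∀ T ∈ I, T * T = 1) (hI8 : Nat.card I = 8) (I₀ : Subgroup (MulAut P)) (hI₀ : I₀ < I)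
    (hdisj : ∀ T ∈ I₀, T ≠ 1 → Cyc T)
    (hprod : ∀ T ∈ I, ∀ T' ∈ I, T ≠ 1 → T' ≠ 1 → ¬ Cyc T → ¬ Cyc T' → T * T' ∈ I₀) :
    ∃ a ∈ I, ∃ b ∈ I, Cyc a ∧ Cyc b ∧ Cyc (a * b) := by
  classical
  by_cases h2 : ∃ u v, u ∈ I₀ ∧ v ∈ I₀ ∧ u ≠ 1 ∧ v ≠ 1 ∧ u ≠ v
  · obtain ⟨u, v, hu, hv, hu1, hv1, huv⟩ := h2
    refine ⟨u, hI₀.le hu, v, hI₀.le hv, hdisj u hu hu1, hdisj v hv hv1,
      hdisj _ (mul_mem hu hv) fun h => huv ?_⟩
    rw [mul_eq_one_iff_eq_inv.mp h]
    exact inv_eq_of_mul_eq_one_right (hI2 v (hI₀.le hv))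
  push Not at h2
  -- the non-cyclic elements lie in a pair
  obtain ⟨T0, hT0, hT01, hN0⟩ : ∃ T0, T0 ∈ I ∧ T0 ≠ 1 ∧ ∀ T ∈ I, T ≠ 1 → ¬ Cyc T → T * T0 ∈ I₀ := by
    by_cases hN : ∃ T ∈ I, T ≠ 1 ∧ ¬ Cyc T
    · obtain ⟨T0, hT0, hT01, hT0c⟩ := hN
      exact ⟨T0, hT0, hT01, fun T hT hT1 hTc => hprod T hT T0 hT0 hT1 hT01 hTc hT0c⟩
    · push Not at hN
      obtain ⟨T0, hT0, hT0'⟩ := SetLike.exists_of_lt hI₀
      exact ⟨T0, hT0, fun h => hT0' (h ▸ one_mem _), fun T hT hT1 hTc => absurd (hN T hT hT1) hTc⟩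
  -- a second element to be avoided
  obtain ⟨S0, hS0, hS01, hS0T, hN⟩ : ∃ S0, S0 ∈ I ∧ S0 ≠ 1 ∧ S0 ≠ T0 ∧
      ∀ T ∈ I, T ≠ 1 → ¬ Cyc T → T = T0 ∨ T = S0 := by
    by_cases hN : ∃ S ∈ I, S ≠ 1 ∧ ¬ Cyc S ∧ S ≠ T0
    · obtain ⟨S0, hS0, hS01, hS0c, hS0T⟩ := hN
      refine ⟨S0, hS0, hS01, hS0T, fun T hT hT1 hTc => ?_⟩
      by_contra hh
      push Not at hh
      have e1 : T * T0 = S0 * T0 := h2 _ _ (hN0 T hT hT1 hTc) (hN0 S0 hS0 hS01 hS0c)
        (fun h => hh.1 (by rw [mul_eq_one_iff_eq_inv.mp h]; exact inv_eq_of_mul_eq_one_right (hI2 _ hT0)))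
        (fun h => hS0T (by rw [mul_eq_one_iff_eq_inv.mp h]; exact inv_eq_of_mul_eq_one_right (hI2 _ hT0)))
      exact hh.2 (mul_right_cancel e1)
    · push Not at hN
      obtain ⟨S0, hS0, hS0'⟩ : ∃ S0 ∈ I, S0 ∉ ({1, T0} : Set (MulAut P)) := by
        by_contra h
        push Not at h
        have h' := Nat.card_mono (Set.toFinite _) (show (I : Set (MulAut P)) ⊆ {1, T0} from h)
        rw [Nat.card_coe_set_eq ({1, T0} : Set (MulAut P))] at h'
        have := (Set.ncard_insert_le (1 : MulAut P) {T0}).trans (by rw [Set.ncard_singleton])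
        have h8 : Nat.card (I : Set (MulAut P)) = 8 := hI8
        omega
      simp only [Set.mem_insert_iff, Set.mem_singleton_iff, not_or] at hS0'
      exact ⟨S0, hS0, hS0'.1, hS0'.2, fun T hT hT1 hTc => Or.inl (hN T hT hT1 hTc)⟩
  obtain ⟨u, hu, hu'⟩ : ∃ u ∈ I, u ∉ ({1, T0, S0, S0 * T0} : Set (MulAut P)) := by
    by_contra h
    push Not at h
    have h' := Nat.card_mono (Set.toFinite _)
      (show (I : Set (MulAut P)) ⊆ {1, T0, S0, S0 * T0} from h)
    rw [Nat.card_coe_set_eq ({1, T0, S0, S0 * T0} : Set (MulAut P))] at h'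
    have h4 : ({1, T0, S0, S0 * T0} : Set (MulAut P)).ncard ≤ 4 := by
      refine (Set.ncard_insert_le _ _).trans ?_
      have := (Set.ncard_insert_le T0 ({S0, S0 * T0} : Set (MulAut P)))
      have := (Set.ncard_insert_le S0 ({S0 * T0} : Set (MulAut P)))
      rw [Set.ncard_singleton] at this
      omega
    have h8 : Nat.card (I : Set (MulAut P)) = 8 := hI8
    omega
  simp only [Set.mem_insert_iff, Set.mem_singleton_iff, not_or] at hu'
  obtain ⟨hu1, huT, huS, huST⟩ := hu'
  have sT : ∀ x ∈ I, x⁻¹ = x := fun x hx => inv_eq_of_mul_eq_one_right (hI2 x hx)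
  have hgood : ∀ x ∈ I, x ≠ 1 → x ≠ T0 → x ≠ S0 → Cyc x := fun x hx hx1 hxT hxS => by
    by_contra hc
    exact (hN x hx hx1 hc).elim hxT hxS
  refine ⟨u, hu, S0 * T0, I.mul_mem hS0 hT0, hgood u hu hu1 huT huS,
    hgood _ (I.mul_mem hS0 hT0) (fun h => hS0T ?_) (fun h => hS01 ?_) (fun h => hT01 ?_),
    hgood _ (I.mul_mem hu (I.mul_mem hS0 hT0)) (fun h => huST ?_) (fun h => huS ?_) (fun h => huT ?_)⟩
  · rw [mul_eq_one_iff_eq_inv.mp h, sT _ hT0]
  · exact mul_eq_right.mp h
  · exact mul_eq_left.mp h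
  · rw [mul_eq_one_iff_eq_inv.mp h, sT _ (I.mul_mem hS0 hT0)]
  · rw [← mul_assoc] at h
    rw [← sT _ hS0]
    exact mul_eq_one_iff_eq_inv.mp (mul_eq_right.mp h)
  · rw [hIc _ hS0 _ hT0, ← mul_assoc] at h
    rw [← sT _ hT0]
    exact mul_eq_one_iff_eq_inv.mp (mul_eq_right.mp h)

end

/-- Let p be an odd prime, P a finite p-group and I an elementary abelian subgroup of order 8 of Aut(P). Call T ∈ I, T ≠ 1, broad when its fixed-point subgroup C_P(T) is not cyclic. Suppose I has a proper subgroup I₀ containing no broad element such that the product of any two broad elements lies in I₀. Then P is abelian of rank exactly 3 (generated by three elements but not by two), there are exactly three broad elements and they generate I, and I₀ is exactly the set of products of two broad elements. -/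
theorem result
    {P : Type*} [Group P] [Finite P] (p : ℕ) (hp : p.Prime) (hp2 : p ≠ 2) (hP : IsPGroup p P)
    (I : Subgroup (MulAut P)) (hI : Cfsg.IsElementaryAbelian 2 I) (hI8 : Nat.card ↥I = 8)
    (I₀ : Subgroup (MulAut P)) (hI₀ : I₀ < I)
    (hdisj : ∀ T ∈ I₀, T ≠ 1 → ∃ g : P, ∀ x : P, (T x = x ↔ x ∈ Subgroup.zpowers g))
    (hprod : ∀ T ∈ I, ∀ T' ∈ I, T ≠ 1 → T' ≠ 1 → (¬ ∃ g : P, ∀ x : P, (T x = x ↔ x ∈ Subgroup.zpowers g)) →
      (¬ ∃ g : P, ∀ x : P, (T' x = x ↔ x ∈ Subgroup.zpowers g)) → T * T' ∈ I₀) :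
    IsMulCommutative P ∧ (∃ a b c : P, Subgroup.closure {a, b, c} = ⊤) ∧ (¬ ∃ a b : P, Subgroup.closure {a, b} = ⊤) ∧
      Nat.card {T : MulAut P // T ∈ I ∧ T ≠ 1 ∧ ¬ ∃ g : P, ∀ x : P, (T x = x ↔ x ∈ Subgroup.zpowers g)} = 3 ∧
      Subgroup.closure {T : MulAut P | T ∈ I ∧ T ≠ 1 ∧ ¬ ∃ g : P, ∀ x : P, (T x = x ↔ x ∈ Subgroup.zpowers g)} = I ∧
      (I₀ : Set (MulAut P)) = {S : MulAut P | ∃ T T' : MulAut P, T ∈ I ∧ T' ∈ I ∧ T ≠ 1 ∧ T' ≠ 1 ∧
        (¬ ∃ g : P, ∀ x : P, (T x = x ↔ x ∈ Subgroup.zpowers g)) ∧ (¬ ∃ g : P, ∀ x : P, (T' x = x ↔ x ∈ Subgroup.zpowers g)) ∧ S = T * T'} := by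
  haveI := Fact.mk hp
  have hIc : ∀ S ∈ I, ∀ T ∈ I, S * T = T * S := fun S hS T hT =>
    congrArg Subtype.val (hI.1.is_comm.comm (⟨S, hS⟩ : I) ⟨T, hT⟩)
  have hI2 : ∀ T ∈ I, T * T = 1 := fun T hT => by rw [← pow_two]; exact hI.2 T hT
  obtain ⟨a, haI, b, hbI, hca, hcb, hcab⟩ := exists_plane I hIc hI2 hI8 I₀ hI₀ hdisj hprod
  obtain ⟨hab, hthree, htwo, e₁, e₂, e₃, h12, h13, h23, ha, hb, habe, hN, hgen⟩ :=
    structure_of_plane hp2 hP I hIc hI2 hI8 a b haI hbI hca hcb hcab
  have hset : {T : MulAut P | T ∈ I ∧ T ≠ 1 ∧ ¬ Cyc T} = {e₁, e₂, e₃} := Set.ext fun T => by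
    simpa using hN T
  refine ⟨hab, hthree, htwo, ?_, ?_, ?_⟩
  · show Nat.card {T : MulAut P // T ∈ I ∧ T ≠ 1 ∧ ¬ Cyc T} = 3
    rw [← Set.ncard_eq_three.mpr ⟨e₁, e₂, e₃, h12, h13, h23, hset⟩]
    rfl
  · show Subgroup.closure {T : MulAut P | T ∈ I ∧ T ≠ 1 ∧ ¬ Cyc T} = I
    rw [hset, hgen]
  · have g1 := (hN e₁).mpr (Or.inl rfl)
    have g2 := (hN e₂).mpr (Or.inr (Or.inl rfl))
    have g3 := (hN e₃).mpr (Or.inr (Or.inr rfl))
    have m12 : e₁ * e₂ ∈ I₀ := hprod _ g1.1 _ g2.1 g1.2.1 g2.2.1 g1.2.2 g2.2.2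
    have m13 : e₁ * e₃ ∈ I₀ := hprod _ g1.1 _ g3.1 g1.2.1 g3.2.1 g1.2.2 g3.2.2
    apply Set.Subset.antisymm
    · intro S hS
      by_cases hS1 : S = 1
      · exact ⟨e₁, e₁, g1.1, g1.1, g1.2.1, g1.2.1, g1.2.2, g1.2.2, hS1.trans (hI2 _ g1.1).symm⟩
      have key : S = e₁ * e₂ ∨ S = e₁ * e₃ ∨ S = e₂ * e₃ := by
        by_contra hne
        push Not at hne
        have m23 : e₂ * e₃ ∈ I₀ := hprod _ g2.1 _ g3.1 g2.2.1 g3.2.1 g2.2.2 g3.2.2
        have hs : ∀ x ∈ I, x⁻¹ = x := fun x hx => inv_eq_of_mul_eq_one_right (hI2 x hx)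
        have hn12 : e₁ * e₂ ≠ 1 := fun h => h12 (by rw [mul_eq_one_iff_eq_inv.mp h, hs _ g2.1])
        have hn13 : e₁ * e₃ ≠ 1 := fun h => h13 (by rw [mul_eq_one_iff_eq_inv.mp h, hs _ g3.1])
        have hn23 : e₂ * e₃ ≠ 1 := fun h => h23 (by rw [mul_eq_one_iff_eq_inv.mp h, hs _ g3.1])
        have hd1 : e₁ * e₂ ≠ e₁ * e₃ := fun h => h23 (mul_left_cancel h)
        have hd2 : e₁ * e₂ ≠ e₂ * e₃ := fun h => h13 (by
          rw [hIc _ g1.1 _ g2.1] at h; exact mul_left_cancel h)
        have hd3 : e₁ * e₃ ≠ e₂ * e₃ := fun h => h12 (mul_right_cancel h)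
        have hsub : ({S, 1, e₁ * e₂, e₁ * e₃, e₂ * e₃} : Set (MulAut P)) ⊆ I₀ := by
          intro y hy
          simp only [Set.mem_insert_iff, Set.mem_singleton_iff] at hy
          rcases hy with rfl | rfl | rfl | rfl | rfl
          exacts [hS, one_mem _, m12, m13, m23]
        have h5 : ({S, 1, e₁ * e₂, e₁ * e₃, e₂ * e₃} : Set (MulAut P)).ncard = 5 := by
          rw [Set.ncard_insert_of_notMem (by simp [hS1, hne.1, hne.2.1, hne.2.2]),
            Set.ncard_insert_of_notMem (by simp [hn12.symm, hn13.symm, hn23.symm]),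
            Set.ncard_insert_of_notMem (by simp [hd1, hd2]),
            Set.ncard_insert_of_notMem (by simp [hd3]), Set.ncard_singleton]
        have hle : 5 ≤ Nat.card I₀ := by
          rw [← h5]
          have := Set.ncard_le_ncard hsub
          rwa [← Nat.card_coe_set_eq (I₀ : Set (MulAut P))] at this
        have hdvd := Subgroup.card_dvd_of_le hI₀.le
        rw [hI8] at hdvd
        have hlt : Nat.card I₀ ≠ 8 := fun h =>
          hI₀.ne (Subgroup.eq_of_le_of_card_ge hI₀.le (h.symm ▸ hI8.le))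
        have := Nat.le_of_dvd (by norm_num) hdvd
        interval_cases (Nat.card I₀) <;> simp_all
      rcases key with h | h | h
      · exact ⟨e₁, e₂, g1.1, g2.1, g1.2.1, g2.2.1, g1.2.2, g2.2.2, h⟩
      · exact ⟨e₁, e₃, g1.1, g3.1, g1.2.1, g3.2.1, g1.2.2, g3.2.2, h⟩
      · exact ⟨e₂, e₃, g2.1, g3.1, g2.2.1, g3.2.1, g2.2.2, g3.2.2, h⟩
    · rintro S ⟨T, T', hT, hT', hT1, hT'1, hTc, hT'c, rfl⟩
      exact hprod T hT T' hT' hT1 hT'1 hTc hT'c

end Cfsg.Agent.S4412
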