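import Cfsg.Statements.S4413
import Cfsg.Agent.Lib.Extraspecial.OuterAut
-- import your own Cfsg.Agent.* helpers here

set_option autoImplicit false
open Cfsg

namespace Cfsg.Agent.S4413

open CfsgLib.Extraspecial

/-- The minus form in dimension four. -/
abbrev e4 : Fin 2 → ZMod 2 := Pi.single 1 1

/-- The five nonzero singular vectors. -/
def sv : Fin 5 → Coord 2 :=
  ![![(1, 0), (0, 0)], ![(0, 1), (0, 0)], ![(1, 1), (1, 0)], ![(1, 1), (0, 1)], ![(1, 1), (1, 1)]]

theorem sv_injective : Function.Injective sv := by unfold Function.Injective; decide +kernel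

theorem sv_singular : ∀ i, sqForm e4 (sv i) = 0 ∧ sv i ≠ 0 := by decide +kernel

theorem sv_surjective : ∀ v : Coord 2, sqForm e4 v = 0 → v ≠ 0 → ∃ i, sv i = v := by decide +kernel

theorem sv_sum : ∑ i, sv i = 0 := by decide +kernel

theorem sv_polar : ∀ i j, i ≠ j → cocycle e4 (sv i) (sv j) + cocycle e4 (sv j) (sv i) = 1 := by
  decide +kernel

/-- Combinations of four of the singular vectors. -/
def comb (f : Fin 5 → Coord 2) : (Fin 4 → ZMod 2) →ₗ[ZMod 2] Coord 2 :=
  ∑ k : Fin 4, (LinearMap.proj k : (Fin 4 → ZMod 2) →ₗ[ZMod 2] ZMod 2).smulRight (f k.castSucc)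

theorem comb_apply (f : Fin 5 → Coord 2) (c : Fin 4 → ZMod 2) :
    comb f c = c 0 • f 0 + c 1 • f 1 + c 2 • f 2 + c 3 • f 3 := by
  simp only [comb, LinearMap.sum_apply, LinearMap.smulRight_apply, Fin.sum_univ_four]
  rfl

theorem comb_sv_bijective : Function.Bijective (comb sv) := by
  have : ∀ c, comb sv c = 0 → c = 0 := by
    simp only [comb_apply]
    decide +kernel
  refine (Fintype.bijective_iff_injective_and_card _).mpr
    ⟨(injective_iff_map_eq_zero _).mpr this, ?_⟩
  simp

theorem sqForm_comb (σ : Equiv.Perm (Fin 5)) (c : Fin 4 → ZMod 2) :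
    sqForm e4 (comb (sv ∘ σ) c) =
      c 0 * c 1 + c 0 * c 2 + c 0 * c 3 + c 1 * c 2 + c 1 * c 3 + c 2 * c 3 := by
  have hd : ∀ i, cBil e4 (sv (σ i)) (sv (σ i)) = 0 := fun i => (sv_singular (σ i)).1
  have hp : ∀ i j, i ≠ j →
      cBil e4 (sv (σ i)) (sv (σ j)) + cBil e4 (sv (σ j)) (sv (σ i)) = 1 :=
    fun i j hij => sv_polar _ _ (σ.injective.ne hij)
  rw [comb_apply]
  show cBil e4 _ _ = _
  simp only [map_add, map_smul, LinearMap.add_apply, LinearMap.smul_apply, smul_eq_mul,
    Function.comp_apply, hd]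
  linear_combination (c 0 * c 1) * hp 0 1 (by decide) + (c 0 * c 2) * hp 0 2 (by decide) +
    (c 0 * c 3) * hp 0 3 (by decide) + (c 1 * c 2) * hp 1 2 (by decide) +
    (c 1 * c 3) * hp 1 3 (by decide) + (c 2 * c 3) * hp 2 3 (by decide)

theorem isoGrp_equiv_perm : Nonempty (isoGrp e4 ≃* Equiv.Perm (Fin 5)) := by
  classical
  let S := {v : Coord 2 // sqForm e4 v = 0 ∧ v ≠ 0}
  let eS : Fin 5 ≃ S := Equiv.ofBijective (fun i => ⟨sv i, sv_singular i⟩)
    ⟨fun i j h => sv_injective (congrArg Subtype.val h),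
      fun v => (sv_surjective v.1 v.2.1 v.2.2).imp fun i hi => Subtype.ext hi⟩
  let act : isoGrp e4 →* Equiv.Perm S :=
    { toFun := fun φ =>
        { toFun := fun v => ⟨φ.1 v.1, (φ.2 v.1).trans v.2.1, fun h => v.2.2
            (φ.1.injective (h.trans (map_zero φ.1).symm))⟩
          invFun := fun v => ⟨φ.1.symm v.1,
            ((φ⁻¹).2 v.1).trans v.2.1, fun h => v.2.2
            (φ.1.symm.injective (h.trans (map_zero φ.1.symm).symm))⟩
          left_inv := fun v => Subtype.ext (φ.1.symm_apply_apply v.1)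
          right_inv := fun v => Subtype.ext (φ.1.apply_symm_apply v.1) }
      map_one' := rfl
      map_mul' := fun _ _ => rfl }
  let θ : isoGrp e4 →* Equiv.Perm (Fin 5) := eS.symm.permCongrHom.toMonoidHom.comp act
  have hθ : ∀ φ i, sv (θ φ i) = φ.1 (sv i) := fun φ i => by
    show ((eS (eS.symm (act φ (eS i)))) : S).1 = _
    rw [Equiv.apply_symm_apply]
    rfl
  refine ⟨MulEquiv.ofBijective θ ⟨?_, ?_⟩⟩
  · intro φ ψ h
    refine Subtype.ext (LinearEquiv.ext fun v => ?_)
    obtain ⟨c, rfl⟩ := comb_sv_bijective.2 v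
    simp only [comb_apply, map_add, map_smul, ← hθ, h]
  · intro σ
    let Lc := LinearEquiv.ofBijective (comb sv) comb_sv_bijective
    let f : Coord 2 →ₗ[ZMod 2] Coord 2 := (comb (sv ∘ σ)).comp Lc.symm.toLinearMap
    have hq : ∀ v, sqForm e4 (f v) = sqForm e4 v := fun v => by
      obtain ⟨c, rfl⟩ := Lc.surjective v
      show sqForm e4 (comb (sv ∘ σ) (Lc.symm (Lc c))) = sqForm e4 (comb sv c)
      rw [Lc.symm_apply_apply, sqForm_comb]
      exact (sqForm_comb 1 c).symm
    have hf : ∀ i : Fin 5, f (sv i) = sv (σ i) := by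
      have h4 : ∀ k : Fin 4, f (sv k.castSucc) = sv (σ k.castSucc) := by
        intro k
        have hk : ∀ g : Fin 5 → Coord 2, comb g (Pi.single k 1) = g k.castSucc := fun g => by
          rw [comb_apply]; fin_cases k <;> simp
        have : Lc (Pi.single k 1) = sv k.castSucc := hk sv
        show comb (sv ∘ σ) (Lc.symm _) = _
        rw [← this, Lc.symm_apply_apply, hk]
        rfl
      intro i
      induction i using Fin.lastCases with
      | cast k => exact h4 k
      | last =>
        have h5 : ∀ g : Fin 5 → Coord 2, ∑ i, g i = 0 →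
            g (Fin.last 4) = ∑ k : Fin 4, g k.castSucc := fun g hg => by
          rw [Fin.sum_univ_castSucc] at hg
          funext j
          have := congrFun hg j
          exact Prod.ext (CharTwo.add_eq_zero.mp (congrArg Prod.fst this)).symm
            (CharTwo.add_eq_zero.mp (congrArg Prod.snd this)).symm
        rw [h5 sv sv_sum, map_sum]
        simp only [h4]
        exact (h5 (sv ∘ σ) ((Equiv.sum_comp σ sv).trans sv_sum)).symm
    have hinj : Function.Injective f := by
      refine (injective_iff_map_eq_zero f).mpr fun v hv => ?_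
      have hqv : sqForm e4 v = 0 := by
        rw [← hq v, hv]; exact cocycle_zero_left _ _
      by_contra hne
      obtain ⟨i, rfl⟩ := sv_surjective v hqv hne
      rw [hf] at hv
      exact (sv_singular (σ i)).2 hv
    let φ : isoGrp e4 :=
      ⟨LinearEquiv.ofBijective f ⟨hinj, (LinearMap.injective_iff_surjective).mp hinj⟩, hq⟩
    exact ⟨φ, Equiv.ext fun i => sv_injective ((hθ φ i).trans (hf i))⟩


/-- Let P be an extraspecial 2-group of order 32 with no elementary abelian subgroup of order 8 (the central product of a dihedral and a quaternion group of order 8). Then the inner automorphism group of P has order 16 and the outer automorphism group Aut(P)/Inn(P) is isomorphic to the symmetric group of degree 5; in particular Aut(P) has order 1920. -/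
theorem result {P : Type*} [Group P] [Finite P]
    (hex : Cfsg.IsExtraspecial 2 P) (h32 : Nat.card P = 32)
    (hminus : ∀ A : Subgroup P, Cfsg.IsElementaryAbelian 2 A → Nat.card ↥A ≤ 4)
    [(MulAut.conj : P →* MulAut P).range.Normal] :
    Nat.card ↥(MulAut.conj : P →* MulAut P).range = 16 ∧ Nat.card (MulAut P) = 1920 ∧
      Nonempty ((MulAut P ⧸ (MulAut.conj : P →* MulAut P).range) ≃* Equiv.Perm (Fin 5)) := by
  classical
  haveI : Fact (Nat.Prime 2) := ⟨Nat.prime_two⟩
  have hno : ¬ ∃ A : Subgroup P, IsElementaryAbelian 2 A ∧ Nat.card ↥A = 2 ^ (2 + 1) := by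
    rintro ⟨A, hA, hAc⟩
    have := hminus A hA
    rw [hAc] at this
    norm_num at this
  obtain ⟨ψ⟩ := equiv_model (e4) hex (by norm_num : 1 ≤ 2) (by rw [h32]; norm_num) false
    (iff_of_false Bool.false_ne_true hno)
    (by rw [show e4 = Pi.single (Fin.last 1) 1 from rfl, prod_last]; simp)
  obtain ⟨θ⟩ := isoGrp_equiv_perm
  have hiso : Nonempty ((MulAut P ⧸ (MulAut.conj : P →* MulAut P).range) ≃* Equiv.Perm (Fin 5)) :=
    ⟨((outCongr ψ).trans Model.outEquiv).trans θ⟩
  have hinn : Nat.card ↥(MulAut.conj : P →* MulAut P).range = 16 := by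
    have hker : (MulAut.conj : P →* MulAut P).ker = Subgroup.center P := by
      ext g
      rw [MonoidHom.mem_ker, Subgroup.mem_center_iff]
      constructor
      · intro h x
        have := DFunLike.congr_fun h x
        rw [MulAut.conj_apply, MulAut.one_apply, mul_inv_eq_iff_eq_mul] at this
        exact this.symm
      · exact fun h => MulEquiv.ext fun x => by
          rw [MulAut.conj_apply, MulAut.one_apply, ← h x, mul_inv_cancel_right]
    have h1 := Subgroup.index_ker (MulAut.conj : P →* MulAut P)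
    rw [hker] at h1
    have h2 := Subgroup.card_mul_index (Subgroup.center P)
    rw [hex.2, h32] at h2
    omega
  refine ⟨hinn, ?_, hiso⟩
  rw [Subgroup.card_eq_card_quotient_mul_card_subgroup (MulAut.conj : P →* MulAut P).range, hinn,
    Nat.card_congr hiso.some.toEquiv, Nat.card_perm, Nat.card_fin]
  rfl

end Cfsg.Agent.S4413
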