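import Cfsg.Statements.S4414
import Cfsg.Agent.Lib.Coprime.WeightBaseChange

set_option autoImplicit false
open Cfsg

namespace Cfsg.Agent.S4414


open CfsgLib.WeightBC
open scoped Pointwise TensorProduct IsMulCommutative commutatorElement

/-- Let S be a finite solvable group whose order is divisible only by the primes 2, p, q (p, q distinct odd primes), with a Sylow system S₂, S_p, S_q (pairwise permutable Sylow subgroups) such that: S_p is a minimal normal subgroup of S of order p or p²; S_q has order q and [S_p, S_q] = S_p; and O₂(S) = 1. Let E be an irreducible module for S over the field with two elements on which S_p acts faithfully, and E₀ the subspace of fixed points of S₂. Then either E₀ has at least 8 elements, or E₀ has exactly 4 elements and S_q does not leave E₀ invariant. -/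
theorem result {S : Type*} [Group S] [Finite S]
    [Group.IsSolvable S] (p q : ℕ) (hp : p.Prime) (hq : q.Prime) (hp2 : p ≠ 2) (hq2 : q ≠ 2) (hpq : p ≠ q)
    (hπ : ∀ r : ℕ, r.Prime → r ∣ Nat.card S → r = 2 ∨ r = p ∨ r = q)
    (S₂ : Sylow 2 S) (Sp : Sylow p S) (Sq : Sylow q S)
    (h2q : Nat.card ↥((S₂ : Subgroup S) ⊔ (Sq : Subgroup S)) = Nat.card ↥S₂ * Nat.card ↥Sq)
    (h2p : Nat.card ↥((S₂ : Subgroup S) ⊔ (Sp : Subgroup S)) = Nat.card ↥S₂ * Nat.card ↥Sp)
    (hpq' : Nat.card ↥((Sp : Subgroup S) ⊔ (Sq : Subgroup S)) = Nat.card ↥Sp * Nat.card ↥Sq)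
    (hSpN : (Sp : Subgroup S).Normal) (hSpmin : ∀ N : Subgroup S, N.Normal → N ≤ (Sp : Subgroup S) → N = ⊥ ∨ N = (Sp : Subgroup S))
    (hSpcard : Nat.card ↥Sp = p ∨ Nat.card ↥Sp = p ^ 2)
    (hSq : Nat.card ↥Sq = q) (hcomm : ⁅(Sp : Subgroup S), (Sq : Subgroup S)⁆ = (Sp : Subgroup S))
    (hO2 : Cfsg.pCore 2 S = ⊥)
    {E : Type*} [AddCommGroup E] [Module (ZMod 2) E] [Finite E] (ρ : Representation (ZMod 2) S E) (hE : Nontrivial E)
    (hirr : ∀ N : Submodule (ZMod 2) E, (∀ s : S, ∀ m ∈ N, ρ s m ∈ N) → N = ⊥ ∨ N = ⊤)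
    (hfaith : ∀ x ∈ (Sp : Subgroup S), ρ x = 1 → x = 1) :
    8 ≤ Nat.card {v : E // ∀ s ∈ (S₂ : Subgroup S), ρ s v = v} ∨
      (Nat.card {v : E // ∀ s ∈ (S₂ : Subgroup S), ρ s v = v} = 4 ∧
        ∃ x ∈ (Sq : Subgroup S), ∃ v : E, (∀ s ∈ (S₂ : Subgroup S), ρ s v = v) ∧ ¬ ∀ s ∈ (S₂ : Subgroup S), ρ s (ρ x v) = ρ x v) := by
  classical
  haveI := Fact.mk hp
  haveI := Fact.mk hq
  set A : Subgroup S := (Sp : Subgroup S) with hA
  haveI : A.Normal := hSpN
  have hAcard : Nat.card A = p ∨ Nat.card A = p ^ 2 := hSpcard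
  haveI hAc : IsMulCommutative A := by
    rcases hAcard with h | h
    · haveI : IsCyclic A := isCyclic_of_prime_card h
      exact IsCyclic.commutative
    · exact ⟨⟨IsPGroup.commutative_of_card_eq_prime_sq h⟩⟩
  letI : Fintype A := Fintype.ofFinite _
  have hAodd : Odd (Nat.card A) := by
    rcases hAcard with h | h <;> rw [h]
    · exact hp.odd_of_ne_two hp2
    · exact (hp.odd_of_ne_two hp2).pow
  have hAne : 1 < Nat.card A := by
    rcases hAcard with h | h <;> rw [h]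
    · exact hp.one_lt
    · exact Nat.one_lt_pow two_ne_zero hp.one_lt
  set N := Nat.totient (Nat.card A) with hN
  have hN0 : N ≠ 0 := (Nat.totient_pos.2 Nat.card_pos).ne'
  let k := GaloisField 2 N
  haveI : Fintype k := Fintype.ofFinite _
  have hk : Nat.card k = 2 ^ N := GaloisField.card 2 N hN0
  haveI : NeZero (Monoid.exponent A) := ⟨Monoid.exponent_ne_zero_of_finite⟩
  haveI : HasEnoughRootsOfUnity k (Monoid.exponent A) := by
    refine ⟨?_, inferInstance⟩
    obtain ⟨g, hg⟩ := IsCyclic.exists_ofOrder_eq_natCard (α := kˣ)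
    have hd : Monoid.exponent A ∣ Nat.card kˣ := by
      rw [Nat.card_units, hk]
      refine Group.exponent_dvd_nat_card.trans ?_
      exact (Nat.modEq_iff_dvd' Nat.one_le_two_pow).1
        (Nat.ModEq.pow_totient ((Nat.coprime_two_left).2 hAodd)).symm
    exact ⟨_, ((IsPrimitiveRoot.orderOf g).pow (orderOf_pos g) (b := Monoid.exponent A)
      (a := orderOf g / Monoid.exponent A) (Nat.div_mul_cancel (hg ▸ hd)).symm).map_of_injective
      (f := Units.coeHom k) Units.val_injective⟩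
  haveI : Finite (A →* kˣ) := Finite.of_injective _ DFunLike.coe_injective
  letI : Fintype (A →* kˣ) := Fintype.ofFinite _
  have hodd : (Nat.card A : k) = 1 := by
    obtain ⟨j, hj⟩ := hAodd
    rw [hj]
    rw [Nat.cast_add, Nat.cast_mul, show ((2 : ℕ) : k) = 0 from CharP.cast_eq_zero k 2, zero_mul, zero_add,
      Nat.cast_one]
  haveI : Module.Finite (ZMod 2) E := Module.Finite.of_finite
  haveI : Finite (k ⊗[ZMod 2] E) := Module.finite_of_finite k
  letI hact : MulAction S (A →* kˣ) :=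
    { smul := fun h χ => act k h χ, one_smul := act_one k, mul_smul := fun a b => act_mul k a b }
  have hsmul : ∀ (h : S) (χ : A →* kˣ), h • χ = act k h χ := fun _ _ => rfl
  have hproj : ∀ (h : S) (χ : A →* kˣ) (x : k ⊗[ZMod 2] E),
      proj ρ k (h • χ) (ext ρ k h x) = ext ρ k h (proj ρ k χ x) := fun h χ x =>
    (ext_proj_conj ρ k h χ x).symm
  have hinj : ∀ (h : S) {x : k ⊗[ZMod 2] E}, ext ρ k h x = 0 → x = 0 := fun h x hx => by
    rw [← ext_one ρ k x, ← inv_mul_cancel h, ext_mul, hx, map_zero]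
  -- no vector is fixed by the normal subgroup
  have hfixA : fix ρ A = ⊥ := by
    refine (hirr (fix ρ A) fun s m hm a ha => ?_).resolve_right fun htop => ?_
    · have h1 := hm _ (by simpa using hSpN.conj_mem a ha s⁻¹ : s⁻¹ * a * s ∈ A)
      rw [← Module.End.mul_apply, ← map_mul, show a * s = s * (s⁻¹ * a * s) by group, map_mul,
        Module.End.mul_apply, h1]
    · have hbot : A = ⊥ := (Subgroup.eq_bot_iff_forall _).2 fun a ha =>
        hfaith a ha (LinearMap.ext fun v => (htop.ge (Submodule.mem_top : v ∈ ⊤)) a ha)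
      rw [hbot, Subgroup.card_bot] at hAne
      omega
  set Ω : Set (A →* kˣ) := {χ | ∃ x : k ⊗[ZMod 2] E, proj ρ k χ x ≠ 0} with hΩ
  have hΩinv : ∀ (h : S) {χ : A →* kˣ}, χ ∈ Ω → h • χ ∈ Ω := fun h χ ⟨x, hx⟩ =>
    ⟨ext ρ k h x, by rw [hproj]; exact fun e => hx (hinj h e)⟩
  have hΩ1 : ∀ {χ : A →* kˣ}, χ ∈ Ω → χ ≠ 1 := by
    rintro χ ⟨x, hx⟩ rfl
    refine hx ?_
    have h1 : proj ρ k 1 x ∈ fixExt ρ k A := mem_fixExt ρ k A fun s hs => by
      have := ext_proj ρ k (1 : A →* kˣ) ⟨s, hs⟩ x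
      simpa using this
    have h2 := finrank_fixExt_le ρ k A
    rw [hfixA, finrank_bot, Nat.le_zero, Submodule.finrank_eq_zero] at h2
    rwa [h2, Submodule.mem_bot] at h1
  -- the `q`-group acts freely on the weights
  set Q : Subgroup S := (Sq : Subgroup S) with hQ
  have hQc : Nat.card Q = q := hSq
  have hgenQ : ∀ y ∈ Q, y ≠ 1 → Subgroup.zpowers y = Q := fun y hy hy1 => by
    refine Subgroup.eq_of_le_of_card_ge (Subgroup.zpowers_le.2 hy) ?_
    rw [Nat.card_zpowers, hQc, ← Subgroup.orderOf_mk y hy]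
    have := orderOf_dvd_natCard (⟨y, hy⟩ : Q)
    rw [hQc] at this
    rcases (Nat.dvd_prime hq).1 this with h | h
    · exact absurd (congrArg Subtype.val (orderOf_eq_one_iff.1 h)) hy1
    · exact h.ge
  have hfree : ∀ {χ : A →* kˣ}, χ ∈ Ω → ∀ y ∈ Q, y • χ = χ → y = 1 := by
    intro χ hχ y hy hyχ
    by_contra hy1
    refine hΩ1 hχ ?_
    have hstab : Q ≤ MulAction.stabilizer S χ := hgenQ y hy hy1 ▸ Subgroup.zpowers_le.2 hyχ
    have hle : ⁅A, Q⁆ ≤ χ.ker.map A.subtype := by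
      rw [Subgroup.commutator_le]
      intro a ha s hs
      have h1 : χ (MulAut.conjNormal s⁻¹⁻¹ ⟨a⁻¹, inv_mem ha⟩) = χ ⟨a⁻¹, inv_mem ha⟩ :=
        DFunLike.congr_fun (hstab (inv_mem hs) : s⁻¹ • χ = χ) _
      rw [inv_inv] at h1
      refine ⟨⟨a, ha⟩ * MulAut.conjNormal s ⟨a⁻¹, inv_mem ha⟩, ?_, ?_⟩
      · rw [SetLike.mem_coe, MonoidHom.mem_ker, map_mul, h1, ← map_mul]
        exact (congrArg χ (Subtype.ext (mul_inv_cancel a) : (⟨a, ha⟩ : A) * ⟨a⁻¹, inv_mem ha⟩ = 1)).trans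
          (map_one χ)
      · show a * ((MulAut.conjNormal s ⟨a⁻¹, inv_mem ha⟩ : A) : S) = ⁅a, s⁆
        rw [MulAut.conjNormal_apply, commutatorElement_def]
        show a * (s * a⁻¹ * s⁻¹) = _
        group
    rw [hcomm] at hle
    refine MonoidHom.ext fun a => ?_
    obtain ⟨b, hb, hba⟩ := hle a.2
    rw [← show b = a from Subtype.ext hba]
    exact hb
  have hQdvd : ∀ T : Set (A →* kˣ), T ⊆ Ω → (∀ y ∈ Q, ∀ χ ∈ T, y • χ ∈ T) → q ∣ T.ncard := by
    intro T hT hTinv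
    letI : MulAction Q T :=
      { smul := fun y χ => ⟨(y : S) • (χ : A →* kˣ), hTinv y y.2 χ χ.2⟩
        one_smul := fun χ => Subtype.ext (one_smul S (χ : A →* kˣ))
        mul_smul := fun a b χ => Subtype.ext (mul_smul (a : S) (b : S) (χ : A →* kˣ)) }
    have hQp : IsPGroup q Q := IsPGroup.of_card (n := 1) (by rw [pow_one]; exact hQc)
    have h1 := hQp.card_modEq_card_fixedPoints (α := T)
    haveI : IsEmpty (MulAction.fixedPoints Q T) := ⟨fun ⟨χ, hχ⟩ => by
      obtain ⟨y, hy, hy1⟩ : ∃ y ∈ Q, y ≠ 1 := by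
        by_contra hc
        push Not at hc
        have hbot : Q = ⊥ := (Subgroup.eq_bot_iff_forall _).2 hc
        rw [hbot, Subgroup.card_bot] at hQc
        exact hq.one_lt.ne hQc
      exact hy1 (hfree (hT χ.2) y hy (congrArg Subtype.val (hχ ⟨y, hy⟩)))⟩
    rw [Nat.card_of_isEmpty (α := MulAction.fixedPoints Q T)] at h1
    rw [← Nat.card_coe_set_eq]
    exact Nat.modEq_zero_iff_dvd.1 h1
  -- the orbits of the Sylow `2`-subgroup
  set T2 : Subgroup S := (S₂ : Subgroup S) with hT2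
  let orb : (A →* kˣ) → Set (A →* kˣ) := fun χ => MulAction.orbit T2 χ
  have horb2 : ∀ χ, ¬ q ∣ (orb χ).ncard := fun χ hd => by
    obtain ⟨i, hi⟩ := S₂.2.index (MulAction.stabilizer T2 χ)
    rw [MulAction.index_stabilizer] at hi
    rw [show (orb χ).ncard = 2 ^ i from hi] at hd
    exact hq2 ((Nat.prime_dvd_prime_iff_eq hq Nat.prime_two).1 (hq.dvd_of_dvd_pow hd))
  have horbΩ : ∀ {χ}, χ ∈ Ω → orb χ ⊆ Ω := fun {χ} hχ => by
    rintro _ ⟨s, rfl⟩
    exact hΩinv (s : S) hχ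
  have hsupp : ∀ χ ∈ Ω, ∃ w : k ⊗[ZMod 2] E, w ∈ fixExt ρ k T2 ∧
      ∀ μ : A →* kˣ, proj ρ k μ w ≠ 0 ↔ μ ∈ orb χ := by
    intro χ hχ
    let U : Submodule k (k ⊗[ZMod 2] E) :=
      ⨅ μ : {μ : A →* kˣ // μ ∉ orb χ}, LinearMap.ker (proj ρ k (μ : A →* kˣ))
    have hU : ∀ x, x ∈ U ↔ ∀ μ : A →* kˣ, μ ∉ orb χ → proj ρ k μ x = 0 := fun x => by
      simp [U, Submodule.mem_iInf]
    have hUinv : ∀ s ∈ T2, ∀ x ∈ U, ext ρ k s x ∈ U := by
      intro s hs x hx
      rw [hU] at hx ⊢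
      intro μ hμ
      have hmem : s⁻¹ • μ ∉ orb χ := by
        rintro ⟨t, ht⟩
        exact hμ ⟨⟨s, hs⟩ * t, by
          show (s * (t : S)) • χ = μ
          rw [mul_smul, show (t : S) • χ = s⁻¹ • μ from ht, smul_inv_smul]⟩
      have := hproj s (s⁻¹ • μ) x
      rw [smul_inv_smul, hx _ hmem, map_zero] at this
      exact this
    letI : MulAction T2 U :=
      { smul := fun s x => ⟨ext ρ k (s : S) x, hUinv s s.2 x x.2⟩
        one_smul := fun x => Subtype.ext (ext_one ρ k (x : k ⊗[ZMod 2] E))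
        mul_smul := fun a b x => Subtype.ext (ext_mul ρ k (a : S) (b : S) x) }
    obtain ⟨x, hx⟩ := hχ
    have hmemU : proj ρ k χ x ∈ U := (hU _).2 fun μ hμ => by
      rw [proj_proj ρ k hodd, if_neg]
      rintro rfl
      exact hμ (MulAction.mem_orbit_self _)
    haveI : Module.Finite k U := Module.Finite.of_finite
    have hdvd : 2 ∣ Nat.card U := by
      rw [Module.natCard_eq_pow_finrank (K := k), hk, ← pow_mul]
      refine dvd_pow_self 2 (Nat.mul_ne_zero hN0 ?_)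
      intro h0
      rw [Submodule.finrank_eq_zero] at h0
      rw [h0, Submodule.mem_bot] at hmemU
      exact hx hmemU
    obtain ⟨⟨w, hwU⟩, hw, hw0⟩ := S₂.2.exists_fixed_point_of_prime_dvd_card_of_fixed_point U hdvd
      (a := 0) fun s => Subtype.ext (map_zero (ext ρ k (s : S)))
    have hwfix : ∀ s ∈ T2, ext ρ k s w = w := fun s hs => congrArg Subtype.val (hw ⟨s, hs⟩)
    refine ⟨w, mem_fixExt ρ k T2 hwfix, fun μ => ⟨fun h => by_contra fun hμ => h ((hU w).1 hwU μ hμ), ?_⟩⟩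
    rintro ⟨s, rfl⟩ h0
    obtain ⟨ν, hν⟩ : ∃ ν : A →* kˣ, proj ρ k ν w ≠ 0 := by
      by_contra hc
      push Not at hc
      refine hw0 (Subtype.ext ?_)
      show 0 = w
      rw [← sum_proj ρ k hodd w]
      simp [hc]
    obtain ⟨t, rfl⟩ := not_imp_comm.1 ((hU w).1 hwU ν) hν
    refine hν ?_
    have h1 := hproj ((t : S) * (s : S)⁻¹) ((s : S) • χ) w
    rw [mul_smul, inv_smul_smul, hwfix _ (mul_mem t.2 (inv_mem s.2)),
      show proj ρ k ((s : S) • χ) w = 0 from h0, map_zero] at h1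
    exact h1
  have hindep : ∀ {m : ℕ} (χ : Fin m → (A →* kˣ)), (∀ i, χ i ∈ Ω) →
      (∀ i j, i ≠ j → χ i ∉ orb (χ j)) → m ≤ Module.finrank (ZMod 2) (fix ρ T2) := by
    intro m χ hχ hne
    choose w hw hwsupp using fun i => hsupp (χ i) (hχ i)
    refine le_trans ?_ (finrank_fixExt_le ρ k T2)
    have hli : LinearIndependent k (fun i => (⟨w i, hw i⟩ : fixExt ρ k T2)) := by
      refine LinearIndependent.of_comp (fixExt ρ k T2).subtype (Fintype.linearIndependent_iff.2 ?_)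
      intro c hc i
      have h1 : proj ρ k (χ i) (∑ j, c j • w j) = 0 := (congrArg (proj ρ k (χ i)) hc).trans (map_zero _)
      rw [map_sum, Finset.sum_eq_single_of_mem i (Finset.mem_univ _)
        (fun j _ hj => by
          rw [map_smul, (not_not.1 (mt (hwsupp j (χ i)).1 (hne i j (Ne.symm hj)))), smul_zero]),
        map_smul] at h1
      exact (smul_eq_zero.1 h1).resolve_right ((hwsupp i (χ i)).2 (MulAction.mem_orbit_self _))
    simpa using hli.fintype_card_le_finrank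
  obtain ⟨χ₁, hχ₁⟩ : Ω.Nonempty := by
    by_contra hc
    rw [Set.not_nonempty_iff_eq_empty] at hc
    obtain ⟨v, hv⟩ := exists_ne (0 : E)
    refine hv ?_
    have h0 : (1 : k) ⊗ₜ[ZMod 2] v = 0 := by
      rw [← sum_proj ρ k hodd ((1 : k) ⊗ₜ[ZMod 2] v)]
      exact Finset.sum_eq_zero fun χ _ => by_contra fun h => (hc ▸ Set.notMem_empty χ : χ ∉ Ω) ⟨_, h⟩
    have hinjm : Function.Injective (LinearMap.rTensor E (Algebra.linearMap (ZMod 2) k)) :=
      Module.Flat.rTensor_preserves_injective_linearMap _ (algebraMap (ZMod 2) k).injective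
    have h1 : LinearMap.rTensor E (Algebra.linearMap (ZMod 2) k) ((1 : ZMod 2) ⊗ₜ v) =
        LinearMap.rTensor E (Algebra.linearMap (ZMod 2) k) 0 := by simp [h0]
    simpa using congrArg (TensorProduct.lid (ZMod 2) E) (hinjm h1)
  obtain ⟨χ₂, hχ₂, hχ₂'⟩ : ∃ χ₂ ∈ Ω, χ₂ ∉ orb χ₁ := by
    by_contra hc
    push Not at hc
    exact horb2 χ₁ (hQdvd _ (horbΩ hχ₁) fun y _ χ hχ => hc _ (hΩinv y (horbΩ hχ₁ hχ)))
  have hdisj : ∀ {χ μ}, χ ∉ orb μ → μ ∉ orb χ := fun {χ μ} h h' => h (MulAction.mem_orbit_symm.1 h')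
  have h2le : 2 ≤ Module.finrank (ZMod 2) (fix ρ T2) := hindep ![χ₁, χ₂]
    (fun i => by fin_cases i <;> assumption)
    (fun i j hij => by fin_cases i <;> fin_cases j <;> first | exact absurd rfl hij | assumption | exact hdisj hχ₂')
  have hcard : Nat.card {v : E // ∀ s ∈ (S₂ : Subgroup S), ρ s v = v} =
      2 ^ Module.finrank (ZMod 2) (fix ρ T2) := by
    rw [show Nat.card {v : E // ∀ s ∈ (S₂ : Subgroup S), ρ s v = v} = Nat.card (fix ρ T2) from rfl,
      Module.natCard_eq_pow_finrank (K := ZMod 2), Nat.card_zmod]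
  rcases Nat.lt_or_ge (Module.finrank (ZMod 2) (fix ρ T2)) 3 with h3 | h3
  swap
  · left
    rw [hcard]
    exact le_trans (show 8 ≤ 2 ^ 3 by norm_num) (Nat.pow_le_pow_right two_pos h3)
  right
  refine ⟨by rw [hcard, show Module.finrank (ZMod 2) (fix ρ T2) = 2 by omega]; norm_num, ?_⟩
  by_contra hno
  push Not at hno
  have hinvx : ∀ x ∈ Q, ∀ y ∈ fixExt ρ k T2, ext ρ k x y ∈ fixExt ρ k T2 := by
    rintro x hx _ ⟨t, rfl⟩
    induction t with
    | zero => simp
    | tmul c v => exact ⟨c ⊗ₜ ⟨ρ x v, hno x hx v v.2⟩, rfl⟩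
    | add a b ha hb => rw [map_add, map_add]; exact add_mem ha hb
  have hΩ2 : ∀ χ ∈ Ω, χ ∈ orb χ₁ ∨ χ ∈ orb χ₂ := by
    intro χ hχ
    by_contra hc
    push Not at hc
    have := hindep ![χ₁, χ₂, χ] (fun i => by fin_cases i <;> assumption)
      (fun i j hij => by
        have e1 := hdisj hχ₂'
        have e2 := hdisj hc.1
        have e3 := hdisj hc.2
        have e4 := hc.1
        have e5 := hc.2
        fin_cases i <;> fin_cases j <;> first | exact absurd rfl hij | simpa)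
    omega
  obtain ⟨w₁, hw₁, hs₁⟩ := hsupp χ₁ hχ₁
  obtain ⟨w₂, hw₂, hs₂⟩ := hsupp χ₂ hχ₂
  have hspan : ∀ y ∈ fixExt ρ k T2, ∃ a b : k, a • w₁ + b • w₂ = y := by
    intro y hy
    rw [← Submodule.mem_span_pair]
    have hli : LinearIndependent k ![w₁, w₂] := by
      rw [LinearIndependent.pair_iff]
      intro a b hab
      refine ⟨?_, ?_⟩
      · have h1 := congrArg (proj ρ k χ₁) hab
        rw [map_add, map_smul, map_smul, map_zero,
          not_not.1 (mt (hs₂ χ₁).1 (hdisj hχ₂')), smul_zero, add_zero] at h1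
        exact (smul_eq_zero.1 h1).resolve_right ((hs₁ χ₁).2 (MulAction.mem_orbit_self _))
      · have h1 := congrArg (proj ρ k χ₂) hab
        rw [map_add, map_smul, map_smul, map_zero, not_not.1 (mt (hs₁ χ₂).1 hχ₂'), smul_zero, zero_add] at h1
        exact (smul_eq_zero.1 h1).resolve_right ((hs₂ χ₂).2 (MulAction.mem_orbit_self _))
    have heq : Submodule.span k {w₁, w₂} = fixExt ρ k T2 := by
      refine Submodule.eq_of_le_of_finrank_le
        (Submodule.span_le.2 (Set.insert_subset hw₁ (Set.singleton_subset_iff.2 hw₂))) ?_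
      have h1 := finrank_span_eq_card hli
      rw [Matrix.range_cons, Matrix.range_cons, Matrix.range_empty, Set.union_empty, Fintype.card_fin,
        Set.singleton_union] at h1
      rw [h1]
      exact le_trans (finrank_fixExt_le ρ k T2) (by omega)
    exact heq.ge hy
  -- the image of an orbit is an orbit
  have himg : ∀ x ∈ Q, ∀ χ ∈ Ω, x • orb χ = orb χ₁ ∨ x • orb χ = orb χ₂ ∨ x • orb χ = orb χ₁ ∪ orb χ₂ := by
    intro x hx χ hχ
    obtain ⟨w, hw, hs⟩ := hsupp χ hχ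
    obtain ⟨a, b, hab⟩ := hspan _ (hinvx x hx w hw)
    have hmem : ∀ μ : A →* kˣ, μ ∈ x • orb χ ↔ a • proj ρ k μ w₁ + b • proj ρ k μ w₂ ≠ 0 := by
      intro μ
      rw [← map_smul, ← map_smul, ← map_add, hab, Set.mem_smul_set_iff_inv_smul_mem, ← hs]
      have h1 := hproj x (x⁻¹ • μ) w
      rw [smul_inv_smul] at h1
      rw [h1]
      exact not_congr ⟨fun e => by rw [e, map_zero], fun e => hinj x e⟩
    have hsub : x • orb χ ⊆ orb χ₁ ∪ orb χ₂ := by
      rintro _ ⟨μ, hμ, rfl⟩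
      exact hΩ2 _ (hΩinv x (horbΩ hχ hμ))
    have hin1 : ∀ μ ∈ orb χ₁, (μ ∈ x • orb χ ↔ a ≠ 0) := fun μ hμ => by
      rw [hmem, not_not.1 (mt (hs₂ μ).1 fun h => hχ₂' ((MulAction.orbit_eq_iff.2 hμ).le
        (MulAction.mem_orbit_symm.1 h))), smul_zero, add_zero, smul_ne_zero_iff]
      exact and_iff_left ((hs₁ μ).2 hμ)
    have hin2 : ∀ μ ∈ orb χ₂, (μ ∈ x • orb χ ↔ b ≠ 0) := fun μ hμ => by
      rw [hmem, not_not.1 (mt (hs₁ μ).1 fun h => hdisj hχ₂' ((MulAction.orbit_eq_iff.2 hμ).le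
        (MulAction.mem_orbit_symm.1 h))), smul_zero, zero_add, smul_ne_zero_iff]
      exact and_iff_left ((hs₂ μ).2 hμ)
    have hne : (x • orb χ).Nonempty := ⟨_, Set.smul_mem_smul_set (MulAction.mem_orbit_self χ)⟩
    by_cases ha : a = 0 <;> by_cases hb : b = 0
    · obtain ⟨μ, hμ⟩ := hne
      rcases hsub hμ with h | h
      · exact absurd ((hin1 μ h).1 hμ) (not_not.2 ha)
      · exact absurd ((hin2 μ h).1 hμ) (not_not.2 hb)
    · refine Or.inr (Or.inl (Set.Subset.antisymm (fun μ hμ => ?_) fun μ hμ => (hin2 μ hμ).2 hb))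
      exact (hsub hμ).resolve_left fun h => (hin1 μ h).1 hμ ha
    · refine Or.inl (Set.Subset.antisymm (fun μ hμ => ?_) fun μ hμ => (hin1 μ hμ).2 ha)
      exact (hsub hμ).resolve_right fun h => (hin2 μ h).1 hμ hb
    · exact Or.inr (Or.inr (Set.Subset.antisymm hsub fun μ hμ =>
        hμ.elim (fun h => (hin1 μ h).2 ha) fun h => (hin2 μ h).2 hb))
  have hdj : Disjoint (orb χ₁) (orb χ₂) := Set.disjoint_left.2 fun μ h1 h2 =>
    hχ₂' ((MulAction.orbit_eq_iff.2 h1).le (MulAction.mem_orbit_symm.1 h2))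
  have hnoteq : ∀ (x : S) (χ : A →* kˣ), x • orb χ = orb χ₁ ∪ orb χ₂ → (orb χ).ncard =
      (orb χ₁).ncard + (orb χ₂).ncard := fun x χ e => by
    rw [← Set.ncard_union_eq hdj (Set.toFinite _) (Set.toFinite _), ← e, Set.ncard_smul_set]
  have hpos : ∀ χ, 0 < (orb χ).ncard := fun χ => (Set.ncard_pos (Set.toFinite _)).2 ⟨χ, MulAction.mem_orbit_self χ⟩
  obtain ⟨x, hxQ, hx1⟩ : ∃ x ∈ Q, x ≠ 1 := by
    by_contra hc
    push Not at hc
    rw [(Subgroup.eq_bot_iff_forall _).2 hc, Subgroup.card_bot] at hQc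
    exact hq.one_lt.ne hQc
  have hQinv : ∀ y ∈ Q, y ≠ 1 → y • orb χ₁ ≠ orb χ₁ := by
    intro y hy hy1 e
    refine horb2 χ₁ (hQdvd _ (horbΩ hχ₁) fun z hz χ hχ => ?_)
    have hz' : z ∈ MulAction.stabilizer S (orb χ₁) :=
      (Subgroup.zpowers_le.2 (show y ∈ MulAction.stabilizer S (orb χ₁) from e)) ((hgenQ y hy hy1).ge hz)
    rw [← show z • orb χ₁ = orb χ₁ from hz']
    exact Set.smul_mem_smul_set hχ
  have h12 : x • orb χ₁ = orb χ₂ := by
    rcases himg x hxQ χ₁ hχ₁ with h | h | h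
    · exact absurd h (hQinv x hxQ hx1)
    · exact h
    · have := hnoteq _ _ h; have := hpos χ₂; omega
  have h21 : x • orb χ₂ = orb χ₁ := by
    rcases himg x hxQ χ₂ hχ₂ with h | h | h
    · exact h
    · exact absurd ((MulAction.injective x) (h12.trans h.symm)) fun e =>
        hχ₂' (e.ge (MulAction.mem_orbit_self χ₂))
    · have := hnoteq _ _ h; have := hpos χ₁; omega
  refine hQinv (x * x) (mul_mem hxQ hxQ) (fun e => hx1 ?_) (by rw [mul_smul, h12, h21])
  have h1 : (⟨x, hxQ⟩ : Q) ^ 2 = 1 := Subtype.ext (by rw [sq]; exact e)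
  have h2 : orderOf (⟨x, hxQ⟩ : Q) = 1 := Nat.eq_one_of_dvd_coprimes ((Nat.coprime_primes hq Nat.prime_two).2 hq2)
    (by have := orderOf_dvd_natCard (⟨x, hxQ⟩ : Q); rwa [hQc] at this) (orderOf_dvd_of_pow_eq_one h1)
  exact congrArg Subtype.val (orderOf_eq_one_iff.1 h2)

end Cfsg.Agent.S4414
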