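import Cfsg.Statements.S4415
import Cfsg.Agent.Lib.CubicBlock.Prim
import Cfsg.Agent.Lib.PSolvable.Core

set_option autoImplicit false
open Cfsg CfsgLib.CubicBlock Module
open scoped commutatorElement

namespace Cfsg.Agent.S4415

/-- Let S be a finite solvable group acting faithfully on a finite-dimensional space E over the field with three elements, with O₃(S) = 1. Let B ≤ S have order 3 and suppose: E = E₀ ⊕ E₁ with B fixing E₁ pointwise, E₀ B-invariant of order 27 and indecomposable under B (a generator of B has a single Jordan block on E₀); B normalizes but does not centralize some subgroup Q of S that is elementary abelian of order 4; and B is the centre of a Sylow 3-subgroup of S. Put R = [O_{3'}(S), B]. Then R is elementary abelian of order 4 or extraspecial of order 32 containing an elementary abelian subgroup of order 8 (a central product of two quaternion groups), and E is the direct sum of a subspace fixed pointwise by R and an RB-invariant subspace on which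 the subgroup RB acts faithfully and irreducibly. -/
theorem result {S : Type*} [Group S] [Finite S]
    [Group.IsSolvable S] {E : Type*} [AddCommGroup E] [Module (ZMod 3) E] [Finite E] (ρ : Representation (ZMod 3) S E)
    (hfaith : Function.Injective ρ) (hO3 : Cfsg.pCore 3 S = ⊥)
    (B : Subgroup S) (hB : Nat.card ↥B = 3) (b : S) (hb : Subgroup.zpowers b = B)
    (E₀ E₁ : Submodule (ZMod 3) E) (hE01 : E₀ ⊓ E₁ = ⊥) (hE01' : E₀ ⊔ E₁ = ⊤)
    (hE1 : ∀ v ∈ E₁, ρ b v = v) (hE0inv : ∀ v ∈ E₀, ρ b v ∈ E₀) (hE0 : Nat.card ↥E₀ = 27)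
    (hind : ∃ v ∈ E₀, ρ b (ρ b v - v) - (ρ b v - v) ≠ 0)
    (Q : Subgroup S) (hQ : Cfsg.IsElementaryAbelian 2 Q) (hQ4 : Nat.card ↥Q = 4)
    (hBQ : B ≤ Subgroup.normalizer (Q : Set S)) (hBQ' : ¬ B ≤ Subgroup.centralizer (Q : Set S))
    (P : Sylow 3 S) (hBZ : (Subgroup.center ↥(P : Subgroup S)).map (P : Subgroup S).subtype = B) :
    ((Cfsg.IsElementaryAbelian 2 ⁅Cfsg.pPrimeCore 3 S, B⁆ ∧ Nat.card ↥⁅Cfsg.pPrimeCore 3 S, B⁆ = 4) ∨
      (Cfsg.IsExtraspecial 2 ↥⁅Cfsg.pPrimeCore 3 S, B⁆ ∧ Nat.card ↥⁅Cfsg.pPrimeCore 3 S, B⁆ = 32 ∧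
        ∃ A : Subgroup S, A ≤ ⁅Cfsg.pPrimeCore 3 S, B⁆ ∧ Cfsg.IsElementaryAbelian 2 A ∧ Nat.card ↥A = 8)) ∧
    ∃ F₀ F₁ : Submodule (ZMod 3) E, F₀ ⊓ F₁ = ⊥ ∧ F₀ ⊔ F₁ = ⊤ ∧
      (∀ r ∈ ⁅Cfsg.pPrimeCore 3 S, B⁆, ∀ v ∈ F₁, ρ r v = v) ∧ (∀ r ∈ ⁅Cfsg.pPrimeCore 3 S, B⁆ ⊔ B, ∀ v ∈ F₀, ρ r v ∈ F₀) ∧
      (∀ r ∈ ⁅Cfsg.pPrimeCore 3 S, B⁆ ⊔ B, (∀ v ∈ F₀, ρ r v = v) → r = 1) ∧
      (∀ N : Submodule (ZMod 3) E, N ≤ F₀ → (∀ r ∈ ⁅Cfsg.pPrimeCore 3 S, B⁆ ⊔ B, ∀ v ∈ N, ρ r v ∈ N) → N = ⊥ ∨ N = F₀) := by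
  classical
  haveI : Fact (Nat.Prime 3) := ⟨Nat.prime_three⟩
  haveI : Module.Finite (ZMod 3) E := Module.Finite.of_finite
  have hb3 : b ^ 3 = 1 := by
    rw [← hB, ← hb, Nat.card_zpowers]
    exact pow_orderOf_eq_one b
  have hbB : b ∈ B := hb ▸ Subgroup.mem_zpowers b
  set K := Cfsg.pPrimeCore 3 S with hK
  haveI hKn : K.Normal := CfsgLib.Transfer.pPrimeCore_normal 3 S
  have hKcop : (Nat.card K).Coprime 3 := CfsgLib.Transfer.pPrimeCore_coprime 3
  have hQnorm : ∀ x ∈ Q, b * x * b⁻¹ ∈ Q := fun x hx =>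
    (Subgroup.mem_normalizer_iff.mp (hBQ hbB) x).mp hx
  have hQcomm : ∀ x ∈ Q, ∀ y ∈ Q, x * y = y * x := fun x hx y hy =>
    congrArg Subtype.val (hQ.1.is_comm.comm ⟨x, hx⟩ ⟨y, hy⟩)
  have hQexp : ∀ x ∈ Q, x ^ 2 = 1 := hQ.2
  have hsq : ∀ x ∈ Q, x * x = 1 := fun x hx => by rw [← sq]; exact hQexp x hx
  have hQfix : ∀ x ∈ Q, b * x * b⁻¹ = x → x = 1 := by
    intro x hx hfx
    by_contra hx1
    apply hBQ'
    rw [← hb, Subgroup.zpowers_le]
    intro y hy
    obtain ⟨hy1, hyx⟩ | hyfix : (y ≠ 1 ∧ y ≠ x) ∨ b * y * b⁻¹ = y := by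
      by_cases h1 : y = 1
      · exact Or.inr (by rw [h1, mul_one, mul_inv_cancel])
      · by_cases h2 : y = x
        · exact Or.inr (by rw [h2, hfx])
        · exact Or.inl ⟨h1, h2⟩
    · have hxy : x * y ≠ 1 := fun h => hyx (by
        rw [← inv_eq_of_mul_eq_one_right h, inv_eq_of_mul_eq_one_right (hsq x hx)])
      have hne1 : x * y ≠ x := fun h => hy1 (mul_eq_left.mp h)
      have hne2 : x * y ≠ y := fun h => hx1 (mul_eq_right.mp h)
      have hall : ∀ w ∈ Q, w = 1 ∨ w = x ∨ w = y ∨ w = x * y := by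
        intro w hw
        by_contra hcon
        push Not at hcon
        obtain ⟨w1, w2, w3, w4⟩ := hcon
        let f : Fin 5 → Q := ![1, ⟨x, hx⟩, ⟨y, hy⟩, ⟨x * y, Q.mul_mem hx hy⟩, ⟨w, hw⟩]
        have hf : Function.Injective f := by
          intro i j hij
          have hv := congrArg Subtype.val hij
          fin_cases i <;> fin_cases j <;>
            simp [f, hx1, Ne.symm hx1, hy1, Ne.symm hy1, hyx, Ne.symm hyx, hxy, Ne.symm hxy, hne1,
              Ne.symm hne1, hne2, Ne.symm hne2, w1, Ne.symm w1, w2, Ne.symm w2, w3, Ne.symm w3, w4,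
              Ne.symm w4] at hv ⊢
        have := Nat.card_le_card_of_injective f hf
        rw [hQ4, Nat.card_eq_fintype_card, Fintype.card_fin] at this
        omega
      have hfix : b * y * b⁻¹ = y := by
        rcases hall _ (hQnorm y hy) with h | h | h | h
        · exact absurd (conj_eq_one_iff.mp h) hy1
        · exact absurd (mul_left_cancel (mul_right_cancel (h.trans hfx.symm))) hyx
        · exact h
        · exfalso
          have h2 : b * (b * y * b⁻¹) * b⁻¹ = y := by
            rw [h, show b * (x * y) * b⁻¹ = (b * x * b⁻¹) * (b * y * b⁻¹) by group, hfx, h,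
              ← mul_assoc, hsq x hx, one_mul]
          have h3 : b ^ 3 * y * (b ^ 3)⁻¹ = b * y * b⁻¹ := by
            conv_rhs => rw [← h2]
            simp only [pow_succ, pow_zero]; group
          rw [hb3, one_mul, inv_one, mul_one, h] at h3
          exact hne2 h3.symm
      exact (mul_inv_eq_iff_eq_mul.mp hfix).symm
    · exact (mul_inv_eq_iff_eq_mul.mp hyfix).symm
  -- every element of `Q` is a commutator with `b`
  have hQcom : ∀ y ∈ Q, ∃ w ∈ Q, ⁅w, b⁆ = y := by
    let f : Q → Q := fun w => ⟨(w : S) * (b * (w : S) * b⁻¹), Q.mul_mem w.2 (hQnorm w w.2)⟩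
    have hf : Function.Injective f := by
      intro u v h
      have h' : (u : S) * (b * u * b⁻¹) = v * (b * v * b⁻¹) := congrArg Subtype.val h
      refine Subtype.ext (inv_mul_eq_one.mp (hQfix _ (Q.mul_mem (Q.inv_mem u.2) v.2) ?_))
      have hui : (u : S)⁻¹ = u := inv_eq_of_mul_eq_one_right (hsq u u.2)
      rw [hui]
      calc b * ((u : S) * v) * b⁻¹ = (b * u * b⁻¹) * (b * v * b⁻¹) := by group
        _ = (u * u) * (b * u * b⁻¹) * (b * v * b⁻¹) := by rw [hsq u u.2, one_mul]
        _ = u * (v * (b * v * b⁻¹)) * (b * v * b⁻¹) := by rw [mul_assoc (u : S) u, h']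
        _ = u * v * ((b * v * b⁻¹) * (b * v * b⁻¹)) := by group
        _ = u * v := by rw [hsq _ (hQnorm v v.2), mul_one]
    intro y hy
    obtain ⟨w, hw⟩ := (Finite.injective_iff_surjective.mp hf) ⟨y, hy⟩
    refine ⟨w, w.2, ?_⟩
    have h' : (w : S) * (b * w * b⁻¹) = y := congrArg Subtype.val hw
    rw [commutatorElement_def, inv_eq_of_mul_eq_one_right (hsq w w.2), ← h']
    group
  -- `Q` lies in `K`
  have hQK : Q ≤ K := by
    set mk := QuotientGroup.mk' K
    have hO : Cfsg.pPrimeCore 3 (S ⧸ K) = ⊥ :=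
      CfsgLib.PSolvable.pPrimeCore_eq_bot_of_ker (f := mk) (QuotientGroup.mk'_surjective K)
        (by rw [QuotientGroup.ker_mk'])
    haveI : Group.IsSolvable (S ⧸ K) := solvable_of_surjective (QuotientGroup.mk'_surjective K)
    have hcen := CfsgLib.PSolvable.centralizer_pCore_le
      (CfsgLib.PSolvable.isPSolvable_of_isSolvable (p := 3) (G := S ⧸ K) inferInstance) hO
    haveI hTn : (Cfsg.pCore 3 (S ⧸ K)).Normal := CfsgLib.Fitting.pCore_normal 3
    have hTp : IsPGroup 3 (Cfsg.pCore 3 (S ⧸ K)) := CfsgLib.Fitting.pCore_isPGroup 3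
    have hbT : mk b ∈ Cfsg.pCore 3 (S ⧸ K) := by
      refine hcen fun t ht => ?_
      have htP : t ∈ ((P.mapSurjective (f := mk) (QuotientGroup.mk'_surjective K)) : Subgroup (S ⧸ K)) :=
        CfsgLib.Fitting.mem_pCore_iff_forall_sylow.mp ht _
      rw [Sylow.coe_mapSurjective] at htP
      obtain ⟨u, hu, rfl⟩ := htP
      have hbc : b ∈ (Subgroup.center ↥(P : Subgroup S)).map (P : Subgroup S).subtype := hBZ ▸ hbB
      obtain ⟨b', hb', hb'e⟩ := hbc
      rw [← map_mul, ← map_mul]
      exact congrArg mk (hb'e ▸ congrArg Subtype.val (Subgroup.mem_center_iff.mp hb' ⟨u, hu⟩))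
    intro y hy
    obtain ⟨w, -, hwy⟩ := hQcom y hy
    have hmem : mk y ∈ Cfsg.pCore 3 (S ⧸ K) := by
      rw [← hwy, map_commutatorElement, commutatorElement_def]
      exact Subgroup.mul_mem _ (hTn.conj_mem _ hbT _) (Subgroup.inv_mem _ hbT)
    obtain ⟨k, hk⟩ := hTp ⟨_, hmem⟩
    have h1 : mk y ^ 3 ^ k = 1 := congrArg Subtype.val hk
    have h2 : mk y ^ 2 = 1 := by rw [← map_pow, hQexp y hy, map_one]
    have h3 := pow_gcd_eq_one.mpr ⟨h2, h1⟩
    rw [(Nat.Coprime.pow_right k (by norm_num : Nat.Coprime 2 3)).gcd_eq_one, pow_one] at h3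
    exact (QuotientGroup.eq_one_iff y).mp h3
  set R := ⁅K, B⁆ with hR
  have hBK : B ≤ Subgroup.normalizer (K : Set S) := by rw [Subgroup.normalizer_eq_top]; exact le_top
  have hRK : R ≤ K := CfsgLib.Coprime.commutator_le_left_of_le_normalizer hBK
  have hQR : Q ≤ R := by
    intro y hy
    obtain ⟨w, hw, hwy⟩ := hQcom y hy
    exact hwy ▸ Subgroup.commutator_mem_commutator (hQK hw) hbB
  have hRB : ⁅R, B⁆ = R := CfsgLib.Coprime.commutator_commutator_eq hBK (by rw [hB]; exact hKcop.symm)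
    (Or.inr inferInstance)
  have hBR : B ≤ Subgroup.normalizer (R : Set S) :=
    CfsgLib.Coprime.le_normalizer_commutator hBK Subgroup.le_normalizer
  have hRcop : (Nat.card R).Coprime 3 := hKcop.coprime_dvd_left (Subgroup.card_dvd_of_le hRK)
  -- the group `L = RB`
  set L := R ⊔ B with hL
  have hRLle : R ≤ L := le_sup_left
  have hBLle : B ≤ L := le_sup_right
  have hLR : L ≤ Subgroup.normalizer (R : Set S) := sup_le Subgroup.le_normalizer hBR
  set bL : L := ⟨b, hBLle hbB⟩ with hbL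
  set RL : Subgroup L := R.subgroupOf L with hRL
  haveI hRLn : RL.Normal := Subgroup.normal_subgroupOf_iff_le_normalizer hRLle |>.mpr hLR
  have hzp : (Subgroup.zpowers bL).map L.subtype = B := by rw [MonoidHom.map_zpowers]; exact hb
  have hbL3 : bL ^ 3 = 1 := Subtype.ext hb3
  have hgen : ∀ x : L, ∃ r ∈ RL, ∃ i : ℕ, x = r * bL ^ i := by
    intro x
    have htop : RL ⊔ Subgroup.zpowers bL = ⊤ := by
      apply Subgroup.map_injective L.subtype_injective
      rw [Subgroup.map_sup, hzp, hRL, Subgroup.map_subgroupOf_eq_of_le hRLle, ← MonoidHom.range_eq_map,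
        Subgroup.range_subtype]
    have hx : x ∈ RL ⊔ Subgroup.zpowers bL := htop ▸ Subgroup.mem_top x
    obtain ⟨r, hr, w, hw, rfl⟩ := Subgroup.mem_sup_of_normal_left.mp hx
    obtain ⟨i, rfl⟩ := mem_powers_iff_mem_zpowers.mpr hw
    exact ⟨r, hr, i, rfl⟩
  have hcommR : RL = ⁅RL, Subgroup.zpowers bL⁆ := by
    apply Subgroup.map_injective L.subtype_injective
    rw [Subgroup.map_commutator, hzp, hRL, Subgroup.map_subgroupOf_eq_of_le hRLle, hRB]
  have hR_le : ∀ H : Subgroup L, H.Normal → bL ∈ H → RL ≤ H := by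
    intro H hH hbH
    rw [hcommR, Subgroup.commutator_le]
    intro r _ y hy
    rw [commutatorElement_def]
    have hyH : y ∈ H := Subgroup.zpowers_le.mpr hbH hy
    exact H.mul_mem (hH.conj_mem y hyH r) (H.inv_mem hyH)
  let ρL : Representation (ZMod 3) L E := ρ.comp L.subtype
  have hρL : ∀ (g : L) v, ρL g v = ρ (g : S) v := fun g v => rfl
  -- fixed vectors and commutators
  let F₁ : Submodule (ZMod 3) E :=
    { carrier := {v | ∀ r ∈ R, ρ r v = v}
      zero_mem' := fun r _ => map_zero _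
      add_mem' := fun {u v} hu hv r hr => by rw [map_add, hu r hr, hv r hr]
      smul_mem' := fun c v hv r hr => by rw [map_smul, hv r hr] }
  set F₀ : Submodule (ZMod 3) E :=
    Submodule.span (ZMod 3) {w | ∃ r ∈ R, ∃ v, ρ r v - v = w} with hF₀
  have hF₀mem : ∀ r ∈ R, ∀ v, ρ r v - v ∈ F₀ := fun r hr v => Submodule.subset_span ⟨r, hr, v, rfl⟩
  have hF₀inv : ∀ g : L, ∀ v ∈ F₀, ρL g v ∈ F₀ := by
    intro g v hv
    induction hv using Submodule.span_induction with
    | mem w hw =>
      obtain ⟨r, hr, u, rfl⟩ := hw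
      have hr' : (g : S) * r * (g : S)⁻¹ ∈ R := (Subgroup.mem_normalizer_iff.mp (hLR g.2) r).mp hr
      have e : ρL g (ρ r u - u) = ρ ((g : S) * r * (g : S)⁻¹) (ρ (g : S) u) - ρ (g : S) u := by
        rw [map_sub, hρL, hρL, ← apply_mul ρ, ← apply_mul ρ, inv_mul_cancel_right]
      rw [e]
      exact hF₀mem _ hr' _
    | zero => rw [map_zero]; exact F₀.zero_mem
    | add x y _ _ h1 h2 => rw [map_add]; exact F₀.add_mem h1 h2
    | smul c x _ h => rw [map_smul]; exact F₀.smul_mem c h
  haveI : Fintype R := Fintype.ofFinite _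
  have hcne : ((Nat.card R : ℕ) : ZMod 3) ≠ 0 := by
    rw [Ne, CharP.cast_eq_zero_iff (ZMod 3) 3]
    exact (Nat.prime_three.coprime_iff_not_dvd).mp hRcop.symm
  -- averaging
  let av : E →ₗ[ZMod 3] E := ((Nat.card R : ℕ) : ZMod 3)⁻¹ • ∑ r : R, ρ (r : S)
  have hav_fix : ∀ v ∈ F₁, av v = v := by
    intro v hv
    simp only [av, LinearMap.smul_apply, LinearMap.sum_apply]
    rw [Finset.sum_congr rfl (g := fun _ => v) (fun (r : R) _ => hv (r : S) r.2), Finset.sum_const, Finset.card_univ,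
      ← Nat.card_eq_fintype_card, ← Nat.cast_smul_eq_nsmul (ZMod 3), smul_smul, inv_mul_cancel₀ hcne,
      one_smul]
  have hav_range : ∀ v, av v ∈ F₁ := by
    intro v r hr
    simp only [av, LinearMap.smul_apply, LinearMap.sum_apply, map_smul, map_sum]
    congr 1
    exact Fintype.sum_equiv (Equiv.mulLeft (⟨r, hr⟩ : R)) _ _ (fun x => (apply_mul ρ r (x : S) v).symm)
  have hav_zero : ∀ v ∈ F₀, av v = 0 := by
    intro v hv
    induction hv using Submodule.span_induction with
    | mem w hw =>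
      obtain ⟨r, hr, u, rfl⟩ := hw
      rw [map_sub, sub_eq_zero]
      simp only [av, LinearMap.smul_apply, LinearMap.sum_apply]
      congr 1
      exact Fintype.sum_equiv (Equiv.mulRight (⟨r, hr⟩ : R)) _ _ (fun x => (apply_mul ρ (x : S) r u).symm)
    | zero => rw [map_zero]
    | add x y _ _ h1 h2 => rw [map_add, h1, h2, add_zero]
    | smul c x _ h => rw [map_smul, h, smul_zero]
  have hdisj : F₀ ⊓ F₁ = ⊥ := by
    refine (Submodule.eq_bot_iff _).mpr fun v hv => ?_
    rw [← hav_fix v hv.2, hav_zero v hv.1]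
  have hcompl : ∀ v, v - av v ∈ F₀ := by
    intro v
    have e : v - av v = -(((Nat.card R : ℕ) : ZMod 3)⁻¹ • ∑ r : R, (ρ (r : S) v - v)) := by
      simp only [av, LinearMap.smul_apply, LinearMap.sum_apply]
      rw [Finset.sum_sub_distrib, smul_sub, Finset.sum_const, Finset.card_univ,
        ← Nat.card_eq_fintype_card, ← Nat.cast_smul_eq_nsmul (ZMod 3), smul_smul, inv_mul_cancel₀ hcne,
        one_smul]
      abel
    rw [e]
    exact F₀.neg_mem (F₀.smul_mem _ (Submodule.sum_mem _ fun r _ => hF₀mem r r.2 v))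
  have hsup : F₀ ⊔ F₁ = ⊤ := eq_top_iff.mpr fun v _ => by
    have := Submodule.add_mem_sup (hcompl v) (hav_range v)
    rwa [sub_add_cancel] at this
  -- the rank of `b - 1`
  set N := ρ b - 1 with hN
  have hrankE : finrank (ZMod 3) (LinearMap.range N) ≤ 2 := by
    have hNapp : ∀ v, N v = ρ b v - v := fun v => rfl
    set T := E₀.map N with hT
    have hrange : LinearMap.range N ≤ T := by
      rintro _ ⟨v, rfl⟩
      obtain ⟨v0, hv0, v1, hv1, rfl⟩ := Submodule.mem_sup.mp (hE01' ▸ Submodule.mem_top : v ∈ E₀ ⊔ E₁)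
      rw [map_add, hNapp v1, hE1 v1 hv1, sub_self, add_zero]
      exact Submodule.mem_map_of_mem hv0
    have hTle : T ≤ E₀ := by
      rintro _ ⟨v, hv, rfl⟩
      exact E₀.sub_mem (hE0inv v hv) hv
    haveI : Nontrivial E := by
      obtain ⟨v, -, hv⟩ := hind
      exact ⟨⟨_, _, hv⟩⟩
    have hN3 : ∀ v, N (N (N v)) = 0 := by
      haveI : CharP (Module.End (ZMod 3) E) 3 :=
        charP_of_injective_algebraMap (algebraMap (ZMod 3) (Module.End (ZMod 3) E)).injective 3
      have h : N ^ 3 = 0 := by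
        rw [hN, sub_pow_char_of_commute 3 (Commute.one_right (ρ b)), ← map_pow, hb3, map_one, one_pow, sub_self]
      intro v
      have := LinearMap.congr_fun h v
      rwa [pow_succ', sq, Module.End.mul_apply, Module.End.mul_apply] at this
    have hlt : T < E₀ := by
      refine lt_of_le_of_ne hTle fun he => ?_
      have hzero : ∀ v ∈ E₀, v = 0 := by
        intro v hv
        obtain ⟨v1, hv1, rfl⟩ : v ∈ T := he.symm ▸ hv
        obtain ⟨v2, hv2, rfl⟩ : v1 ∈ T := he.symm ▸ hv1
        obtain ⟨v3, hv3, rfl⟩ : v2 ∈ T := he.symm ▸ hv2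
        exact hN3 v3
      obtain ⟨v, hv, hv'⟩ := hind
      rw [hzero v hv] at hv'
      simp at hv'
    have h27 : finrank (ZMod 3) E₀ = 3 := by
      have h := Module.natCard_eq_pow_finrank (K := ZMod 3) (V := E₀)
      rw [hE0, Nat.card_zmod] at h
      exact (Nat.pow_right_injective (le_refl 2 |>.trans (by norm_num : 2 ≤ 3)) (by
        show 3 ^ 3 = 3 ^ finrank (ZMod 3) E₀
        rw [← h])).symm
    have := Submodule.finrank_lt_finrank_of_lt hlt
    have := Submodule.finrank_mono hrange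
    omega
  -- faithfulness on `F₀`
  have hkill : ∀ N' : Submodule (ZMod 3) E, N' ≤ F₀ → (∀ g : L, ∀ v ∈ N', ρL g v ∈ N') →
      (∀ v ∈ N', ρ b v = v) → N' = ⊥ := by
    intro N' hle hinv hfix
    have hT := hR_le _ (trivGroup_normal ρL hinv) hfix
    refine le_bot_iff.mp fun v hv => hdisj ▸ ⟨hle hv, fun r hr => ?_⟩
    exact hT (show (⟨r, hRLle hr⟩ : L) ∈ RL from hr) v hv
  have hFtriv : ∀ r ∈ R, (∀ v ∈ F₀, ρ r v = v) → r = 1 := by
    intro r hr h
    refine hfaith (LinearMap.ext fun v => ?_)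
    rw [map_one, Module.End.one_apply, ← sub_add_cancel v (av v), map_add, h _ (hcompl v),
      hav_range v r hr]
  obtain ⟨y0, hy0Q, hy0⟩ : ∃ y ∈ Q, y ≠ 1 := by
    haveI : Nontrivial Q := Finite.one_lt_card_iff_nontrivial.mp (by rw [hQ4]; norm_num)
    obtain ⟨⟨y, hy⟩, hne⟩ := exists_ne (1 : Q)
    exact ⟨y, hy, fun h => hne (Subtype.ext h)⟩
  have hfaith0 : ∀ g : L, (∀ v ∈ F₀, ρL g v = v) → g = 1 := by
    intro g hg
    obtain ⟨r, hr, i, rfl⟩ := hgen g
    have hi : 3 ∣ i := by
      by_contra hi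
      -- then `b` is trivial on `F₀`
      have hbr : ∀ v ∈ F₀, ρL (bL ^ i) v = ρL r⁻¹ v := fun v hv => by
        have h := hg v hv
        rw [apply_mul] at h
        conv_rhs => rw [← h]
        rw [apply_inv_apply]
      have hpow : ∀ k : ℕ, ∀ v ∈ F₀, ρL ((bL ^ i) ^ k) v = ρL (r⁻¹ ^ k) v := by
        intro k
        induction k with
        | zero => intro v _; simp
        | succ k ih =>
          intro v hv
          rw [pow_succ, pow_succ, apply_mul, apply_mul, hbr v hv, ih _ (hF₀inv _ v hv)]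
      have hbfix : ∀ v ∈ F₀, ρ b v = v := by
        intro v hv
        have hcop : (Nat.card R * i).Coprime (orderOf b) := by
          refine Nat.Coprime.coprime_dvd_right (orderOf_dvd_of_pow_eq_one hb3) ?_
          exact Nat.Coprime.mul_left hRcop ((Nat.prime_three.coprime_iff_not_dvd.mpr hi).symm)
        obtain ⟨e, he⟩ := exists_pow_eq_self_of_coprime hcop
        have h1 : ∀ v ∈ F₀, ρ (b ^ (Nat.card R * i)) v = v := by
          intro v hv
          have h := hpow (Nat.card R) v hv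
          have hr1 : r⁻¹ ^ Nat.card R = 1 := by
            apply Subtype.ext
            show ((r : S)⁻¹) ^ Nat.card R = 1
            exact congrArg Subtype.val (pow_card_eq_one' (x := (⟨(r : S)⁻¹, R.inv_mem hr⟩ : R)))
          rw [hr1, map_one, Module.End.one_apply, ← pow_mul, mul_comm] at h
          exact h
        have h2 : ∀ k : ℕ, ρ ((b ^ (Nat.card R * i)) ^ k) v = v := by
          intro k
          induction k with
          | zero => simp
          | succ k ih => rw [pow_succ', apply_mul, ih, h1 v hv]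
        have := h2 e
        rwa [he] at this
      have hbot := hkill F₀ le_rfl hF₀inv hbfix
      exact hy0 (hFtriv y0 (hQR hy0Q) fun v hv => by
        rw [hbot, Submodule.mem_bot] at hv; rw [hv, map_zero])
    obtain ⟨k, rfl⟩ := hi
    rw [pow_mul, hbL3, one_pow, mul_one] at hg ⊢
    exact Subtype.ext (hFtriv r hr hg)
  -- irreducibility
  set QL : Subgroup L := Q.subgroupOf L with hQL
  have hQLle : Q ≤ L := hQR.trans hRLle
  have hQLcomm : ∀ x ∈ QL, ∀ y ∈ QL, x * y = y * x := fun x hx y hy => Subtype.ext (hQcomm _ hx _ hy)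
  have hQLexp : ∀ x ∈ QL, x ^ 2 = 1 := fun x hx => Subtype.ext (hQexp _ hx)
  have hQLcard : Nat.card QL = 4 := by
    rw [hQL, Nat.card_congr (Subgroup.subgroupOfEquivOfLe hQLle).toEquiv, hQ4]
  have hQLnorm : ∀ x ∈ QL, bL * x * bL⁻¹ ∈ QL := fun x hx => hQnorm _ hx
  have hQLfix : ∀ x ∈ QL, bL * x * bL⁻¹ = x → x = 1 := fun x hx h =>
    Subtype.ext (hQfix _ hx (congrArg Subtype.val h))
  have hirr : ∀ N' : Submodule (ZMod 3) E, N' ≤ F₀ → (∀ g : L, ∀ v ∈ N', ρL g v ∈ N') →
      N' = ⊥ ∨ N' = F₀ := by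
    intro N' hle hinv
    refine or_iff_not_imp_left.mpr fun hne => le_antisymm hle ?_
    by_contra hnle
    by_cases hQN : ∃ v ∈ N', ∃ x ∈ QL, ρL x v ≠ v
    · obtain ⟨v, hv, hx⟩ := hQN
      obtain ⟨a, -, u, hu, husp, h1, h2, -, -, hb1, hb2⟩ :=
        four_weight ρL hbL3 hQLcomm hQLexp hQLcard hQLnorm hQLfix hx
      have huN : u ∈ N' := (Submodule.span_le.mpr (by rintro _ ⟨x, rfl⟩; exact hinv _ v hv)) husp
      set z1 := ρ b u - u with hz1
      set z2 := ρ b (ρ b u) - ρ b u with hz2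
      have hz : z1 ∈ N' ∧ z2 ∈ N' := ⟨N'.sub_mem (hinv bL u huN) huN,
        N'.sub_mem (hinv bL _ (hinv bL u huN)) (hinv bL u huN)⟩
      set T := Submodule.span (ZMod 3) (Set.range ![z1, z2]) with hT
      have hTle : T ≤ LinearMap.range N := by
        rw [hT, Submodule.span_le]
        rintro _ ⟨i, rfl⟩
        fin_cases i <;> exact ⟨_, rfl⟩
      have hTN : T ≤ N' := by
        rw [hT, Submodule.span_le]
        rintro _ ⟨i, rfl⟩
        fin_cases i
        · exact hz.1
        · exact hz.2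
      have hTr : T = LinearMap.range N := by
        refine Submodule.eq_of_le_of_finrank_le hTle ?_
        have hind2 : LinearIndependent (ZMod 3) ![z1, z2] := by
          rw [LinearIndependent.pair_iff]
          intro α β h
          exact indep_of_weight ρL (a := a) (b := bL) hb1 hb2 hu h1 h2 (N := ⊥)
            (fun w hw => by rw [Submodule.mem_bot] at hw ⊢; rw [hw, map_zero])
            (fun w hw => by rw [Submodule.mem_bot] at hw; rw [hw, map_zero, map_zero]; exact ⟨rfl, rfl⟩)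
            α β (n := 0) (Submodule.zero_mem _) (by rw [add_zero]; exact h)
        rw [hT, finrank_span_eq_card hind2, Fintype.card_fin]
        exact hrankE
      -- `b` is trivial modulo `N'`
      let H : Subgroup L :=
        { carrier := {g | ∀ w ∈ F₀, ρL g w - w ∈ N'}
          one_mem' := fun w _ => by simp
          mul_mem' := fun {x y} hx hy w hw => by
            have h := N'.add_mem (hx _ (hF₀inv y w hw)) (hy w hw)
            rwa [sub_add_sub_cancel, ← apply_mul] at h
          inv_mem' := fun {x} hx w hw => by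
            have h := N'.neg_mem (hx _ (hF₀inv x⁻¹ w hw))
            rwa [apply_apply_inv, neg_sub] at h }
      have hHn : H.Normal := ⟨fun x hx g w hw => by
        have h := hinv g _ (hx _ (hF₀inv g⁻¹ w hw))
        rw [map_sub, apply_apply_inv] at h
        rwa [apply_mul, apply_mul]⟩
      have hRH : RL ≤ H := hR_le H hHn fun w _ => hTN (hTr ▸ ⟨w, rfl⟩)
      apply hnle
      rw [hF₀, Submodule.span_le]
      rintro _ ⟨r, hr, v, rfl⟩
      have h := hRH (show (⟨r, hRLle hr⟩ : L) ∈ RL from hr) _ (hcompl v)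
      rwa [hρL, map_sub, hav_range v r hr, show ρ r v - av v - (v - av v) = ρ r v - v by abel] at h
    · push Not at hQN
      obtain ⟨n, hn, hnb⟩ : ∃ n ∈ N', ρ b n ≠ n := by
        by_contra! hcon
        exact hne (hkill N' hle hinv hcon)
      obtain ⟨v, hv, hx⟩ : ∃ v ∈ F₀, ∃ x ∈ QL, ρL x v ≠ v := by
        by_contra! hcon
        exact hy0 (hFtriv y0 (hQR hy0Q) fun v hv => hcon v hv ⟨y0, hQLle hy0Q⟩ hy0Q)
      obtain ⟨a, ha, u, hu, -, h1, h2, -, -, hb1, hb2⟩ :=
        four_weight ρL hbL3 hQLcomm hQLexp hQLcard hQLnorm hQLfix hx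
      refine no_three ρ (b := b) hrankE ![ρ b u - u, ρ b (ρ b u) - ρ b u, ρ b n - n]
        (fun i => by fin_cases i <;> exact sub_one_mem ρ _ _) (linearIndependent_three ?_)
      intro α β γ hsum
      have hmem : ρ b n - n ∈ N' := N'.sub_mem (hinv bL n hn) hn
      obtain ⟨hα, hβ⟩ := indep_of_weight ρL (a := a) (b := bL) hb1 hb2 hu h1 h2 (N := N')
        (fun w hw => hinv _ w hw)
        (fun w hw => ⟨hQN w hw a ha, hQN w hw _ (hQLnorm a ha)⟩)
        α β (n := γ • (ρ b n - n)) (N'.smul_mem _ hmem) hsum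
      refine ⟨hα, hβ, ?_⟩
      rw [hα, hβ, zero_smul, zero_smul, zero_add, zero_add] at hsum
      exact (smul_eq_zero.mp hsum).resolve_right (sub_ne_zero.mpr hnb)
  -- the setting on `F₀`
  let π : Representation (ZMod 3) L F₀ :=
    { toFun := fun g => (ρL g).restrict (fun v hv => hF₀inv g v hv)
      map_one' := by ext v; simp
      map_mul' := fun g h => by ext v; simp }
  have hπ : ∀ (g : L) (v : F₀), ((π g v : F₀) : E) = ρL g v := fun g v => rfl
  let St : Setting L F₀ :=
    { π := π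
      faithful := fun g h he => by
        refine inv_mul_eq_one.mp (hfaith0 _ fun v hv => ?_)
        have := congrArg (fun w => ((w ⟨v, hv⟩ : F₀) : E)) he
        simp only [hπ] at this
        rw [apply_mul, ← this, apply_inv_apply]
      R := RL
      normalR := hRLn
      solvR := inferInstance
      copR := by rw [hRL, Nat.card_congr (Subgroup.subgroupOfEquivOfLe hRLle).toEquiv]; exact hRcop
      b := bL
      b3 := hbL3
      gen := hgen
      commR := hcommR
      irred := fun N' hN' => by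
        rcases hirr (N'.map F₀.subtype) (Submodule.map_subtype_le _ _) (by
          rintro g _ ⟨w, hw, rfl⟩
          exact ⟨π g w, hN' g w hw, rfl⟩) with h | h
        · left
          exact Submodule.map_injective_of_injective F₀.injective_subtype (by rw [h, Submodule.map_bot])
        · right
          apply Submodule.map_injective_of_injective F₀.injective_subtype
          rw [h, Submodule.map_subtype_top]
      rank := by
        refine le_trans (le_of_eq (Submodule.equivMapOfInjective F₀.subtype F₀.injective_subtype _).finrank_eq)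
          ((Submodule.finrank_mono ?_).trans hrankE)
        rintro _ ⟨_, ⟨w, rfl⟩, rfl⟩
        exact ⟨(w : E), rfl⟩
      Q := QL
      hQR := fun x hx => hQR hx
      Qcomm := hQLcomm
      Qexp := hQLexp
      Qcard := hQLcard
      Qnorm := hQLnorm
      Qfix := hQLfix }
  refine ⟨?_, F₀, F₁, hdisj, hsup, fun r hr v hv => hv r hr, fun r hr v hv => hF₀inv ⟨r, hr⟩ v hv,
    fun r hr h => congrArg Subtype.val (hfaith0 ⟨r, hr⟩ h),
    fun N' hle hinv => hirr N' hle fun g v hv => hinv g g.2 v hv⟩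
  let eR : RL ≃* R := Subgroup.subgroupOfEquivOfLe hRLle
  rcases St.concl with ⟨hc, he, h4⟩ | ⟨hext, h32, A, hAR, hAc, hAe, hA8⟩
  · left
    refine ⟨⟨⟨⟨fun x y => ?_⟩⟩, fun x hx => ?_⟩, ?_⟩
    · have := hc _ (eR.symm x).2 _ (eR.symm y).2
      exact eR.symm.injective (Subtype.ext (by simpa using this))
    · exact congrArg Subtype.val (he ⟨x, hRLle hx⟩ hx)
    · rw [← Nat.card_congr eR.toEquiv]; exact h4
  · right
    refine ⟨CfsgLib.Extraspecial.isExtraspecial_congr (p := 2) eR hext, ?_, A.map L.subtype, ?_,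
      ⟨⟨⟨fun x y => ?_⟩⟩, ?_⟩, ?_⟩
    · rw [← Nat.card_congr eR.toEquiv]; exact h32
    · rintro _ ⟨x, hx, rfl⟩
      exact hAR hx
    · obtain ⟨_, x, hx, rfl⟩ := x
      obtain ⟨_, y, hy, rfl⟩ := y
      exact Subtype.ext (congrArg Subtype.val (hAc x hx y hy) :)
    · rintro _ ⟨x, hx, rfl⟩
      exact congrArg Subtype.val (hAe x hx)
    · rw [Subgroup.card_map_of_injective L.subtype_injective]; exact hA8

end Cfsg.Agent.S4415
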