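import Cfsg.Statements.S4419
import Cfsg.Agent.S0071
import Cfsg.Agent.Lib.Fusion.RankTwoInversion
import Cfsg.Agent.Lib.PGroup.MetacyclicCoprime
import Cfsg.Agent.Lib.Blocks.PPrimePCoreSetting
import Cfsg.Agent.Lib.OddOmega.Basic

set_option autoImplicit false
open Cfsg
set_option linter.style.haveILetI false

namespace Cfsg.Agent.S4419

open scoped commutatorElement

/-- An automorphism of prime order `r ≠ p` of a group with two generators has `r ∣ p ^ 2 - 1`. -/
theorem dvd_sq_sub_one {M : Type*} [Group M] [Finite M] {p : ℕ} [hp : Fact p.Prime] (hM : IsPGroup p M)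
    (hm : Cfsg.IsMetacyclic M) {r : ℕ} [hr : Fact r.Prime] (hrp : r ≠ p) (α : MulAut M)
    (hα : α ^ r = 1) (hne : α ≠ 1) : r ∣ p ^ 2 - 1 := by
  classical
  haveI : Finite (MulAut M) :=
    Finite.of_injective (fun e : MulAut M => (e : M → M)) fun a b h => MulEquiv.ext (congrFun h)
  set τ := CfsgLib.Fusion.frattiniHom M α with hτdef
  have hτ : τ ≠ 1 := by
    intro h
    obtain ⟨k, hk⟩ := CfsgLib.Fusion.isPGroup_ker_frattiniHom hM ⟨α, h⟩
    have hk' : α ^ p ^ k = 1 := congrArg Subtype.val hk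
    exact hne (orderOf_eq_one_iff.mp (Nat.eq_one_of_dvd_coprimes
      (((Nat.coprime_primes hr.out hp.out).mpr hrp).pow_right k)
      (orderOf_dvd_of_pow_eq_one hα) (orderOf_dvd_of_pow_eq_one hk')))
  have hτr : τ ^ r = 1 := by rw [hτdef, ← map_pow, hα, map_one]
  set V := M ⧸ frattini M
  -- the order of the Frattini quotient is at most `p ^ 2`
  have hpow : ∀ v : V, v ^ p = 1 := fun v => by
    obtain ⟨x, rfl⟩ := QuotientGroup.mk'_surjective (frattini M) v
    rw [← map_pow]
    exact (QuotientGroup.eq_one_iff _).mpr (CfsgLib.OddOmega.pow_mem_frattini hM x)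
  obtain ⟨a, b, -, hgen, -⟩ := CfsgLib.Metacyclic.exists_gens hm
  have hVle : Nat.card V ≤ p ^ 2 := by
    have h := Nat.card_le_card_of_surjective (fun ij : Fin p × Fin p =>
      QuotientGroup.mk' (frattini M) a ^ (ij.1 : ℕ) * QuotientGroup.mk' (frattini M) b ^ (ij.2 : ℕ))
      fun v => by
        obtain ⟨x, rfl⟩ := QuotientGroup.mk'_surjective (frattini M) v
        obtain ⟨i, j, rfl⟩ := hgen x
        refine ⟨(⟨i % p, Nat.mod_lt _ hp.out.pos⟩, ⟨j % p, Nat.mod_lt _ hp.out.pos⟩), ?_⟩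
        show _ ^ (i % p) * _ ^ (j % p) = _
        rw [map_mul, map_pow, map_pow, ← CfsgLib.Metacyclic.pow_mod_eq (hpow _) i,
          ← CfsgLib.Metacyclic.pow_mod_eq (hpow _) j]
    rwa [Nat.card_prod, Nat.card_fin, ← pow_two] at h
  obtain ⟨d, hd⟩ := IsPGroup.iff_card.mp (hM.to_quotient (frattini M))
  have hd2 : d ≤ 2 := (Nat.pow_le_pow_iff_right hp.out.one_lt).mp (hd ▸ hVle)
  -- fixed points
  let F : Subgroup V :=
    { carrier := {v | τ v = v}
      one_mem' := map_one τ
      mul_mem' := fun {u v} (hu : τ u = u) (hv : τ v = v) => show τ (u * v) = u * v by rw [map_mul, hu, hv]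
      inv_mem' := fun {u} (hu : τ u = u) => show τ u⁻¹ = u⁻¹ by rw [map_inv, hu] }
  obtain ⟨f, hf⟩ := IsPGroup.iff_card.mp ((hM.to_quotient (frattini M)).to_subgroup F)
  have hfd : f < d := by
    refine (Nat.pow_lt_pow_iff_right hp.out.one_lt).mp ?_
    rw [← hd, ← hf]
    refine lt_of_le_of_ne (Subgroup.card_le_card_group F) fun h => hτ ?_
    have htop := Subgroup.eq_top_of_card_eq F h
    exact MulEquiv.ext fun v => (show v ∈ F by rw [htop]; exact Subgroup.mem_top v)
  have hZ : IsPGroup r (Subgroup.zpowers τ) := IsPGroup.of_card (n := 1) (by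
    rw [Nat.card_zpowers, pow_one]
    exact orderOf_eq_prime hτr hτ)
  have hmod := hZ.card_modEq_card_fixedPoints V
  have hfix : Nat.card (MulAction.fixedPoints (Subgroup.zpowers τ) V) = Nat.card F := by
    refine Nat.card_congr (Equiv.subtypeEquivRight fun v => ⟨fun h => h ⟨τ, Subgroup.mem_zpowers τ⟩, fun h g => ?_⟩)
    obtain ⟨g, hg⟩ := g
    have : Subgroup.zpowers τ ≤ MulAction.stabilizer (MulAut V) v := Subgroup.zpowers_le.mpr h
    exact this hg
  rw [hfix, hd, hf] at hmod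
  have h := (Nat.modEq_iff_dvd' (Nat.pow_le_pow_right hp.out.pos hfd.le)).mp hmod.symm
  have hsplit : p ^ d - p ^ f = p ^ f * (p ^ (d - f) - 1) := by
    rw [Nat.mul_sub, ← pow_add, Nat.add_sub_cancel' hfd.le, mul_one]
  rw [hsplit] at h
  have h' := (Nat.Coprime.pow_right f ((Nat.coprime_primes hr.out hp.out).mpr hrp)).dvd_of_dvd_mul_left h
  refine h'.trans ?_
  rcases (show d - f = 1 ∨ d - f = 2 by omega) with e | e <;> rw [e]
  rw [pow_one]
  have := Nat.sq_sub_sq p 1
  rw [one_pow] at this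
  rw [this]
  exact Dvd.intro_left _ rfl

/-- Let p be a prime and G a finite group whose Sylow p-subgroups are metacyclic (a cyclic normal subgroup with cyclic quotient). Then G has a normal p-complement if and only if the order of G/O_{p′,p}(G) is coprime to p² − 1. -/
theorem result {G : Type*} [Group G] [Finite G] (p : ℕ) [Fact p.Prime] (S : Sylow p G) (hS : Cfsg.IsMetacyclic ↥(S : Subgroup G)) : Cfsg.HasNormalPComplement p G ↔ Nat.Coprime (Nat.card (G ⧸ Cfsg.pPrimePCore p G)) (p ^ 2 - 1) := by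
  classical
  haveI hn1 : (Cfsg.pPrimePCore p G).Normal := CfsgLib.Blocks.pPrimePCore_normal p
  haveI hn2 := CfsgLib.Transfer.pPrimeCore_normal p G
  constructor
  · intro h
    suffices e : Cfsg.pPrimePCore p G = ⊤ by
      rw [← Subgroup.index, e, Subgroup.index_top]; exact Nat.coprime_one_left _
    refine eq_top_iff.mpr fun x _ => ?_
    haveI := CfsgLib.Transfer.pResidual_normal p G
    have hq : IsPGroup p (G ⧸ Cfsg.pPrimeCore p G) := by
      refine fun y => ?_
      obtain ⟨w, rfl⟩ := QuotientGroup.mk'_surjective (Cfsg.pPrimeCore p G) y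
      obtain ⟨k, hk⟩ := CfsgLib.Transfer.isPGroup_quotient_pResidual (p := p) (G := G) (QuotientGroup.mk w)
      refine ⟨k, ?_⟩
      rw [← map_pow]
      refine (QuotientGroup.eq_one_iff _).mpr ?_
      rw [CfsgLib.Transfer.pPrimeCore_eq_pResidual h]
      exact (QuotientGroup.eq_one_iff _).mp (by rw [QuotientGroup.mk_pow]; exact hk)
    show QuotientGroup.mk' (Cfsg.pPrimeCore p G) x ∈ Cfsg.pCore p (G ⧸ Cfsg.pPrimeCore p G)
    exact CfsgLib.Fitting.le_pCore (N := ⊤) inferInstance (hq.to_subgroup ⊤) (Subgroup.mem_top _)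
  · intro hcop
    rw [CfsgLib.Transfer.hasNormalPComplement_iff_forall_sylow S, Cfsg.Agent.S0071.result S]
    intro Q hQS g hgN hgp
    by_contra hgC
    obtain ⟨n, hn⟩ : ∃ n, n = orderOf g := ⟨_, rfl⟩
    -- reduce to an element of prime power order
    obtain ⟨r, hr, y, hyN, hyC, hyo, hyr⟩ : ∃ r : ℕ, r.Prime ∧ ∃ y : G, y ∈ Subgroup.normalizer (Q : Set G) ∧
        y ∉ Subgroup.centralizer (Q : Set G) ∧ orderOf y ∣ orderOf g ∧ y ^ r ∈ Subgroup.centralizer (Q : Set G) := by
      clear hn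
      induction hh : orderOf g using Nat.strong_induction_on generalizing g with
      | _ m ih =>
        have hm1 : m ≠ 1 := fun e => hgC (by rw [orderOf_eq_one_iff.mp (hh.trans e)]; exact Subgroup.one_mem _)
        obtain ⟨r, hr, hrm⟩ := Nat.exists_prime_and_dvd hm1
        by_cases hc : g ^ r ∈ Subgroup.centralizer (Q : Set G)
        · exact ⟨r, hr, g, hgN, hgC, hh.dvd, hc⟩
        · have ho : orderOf (g ^ r) = m / r := by rw [orderOf_pow_of_dvd hr.ne_zero (hh ▸ hrm), hh]
          have hlt : m / r < m := Nat.div_lt_self (hh ▸ orderOf_pos g) hr.one_lt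
          obtain ⟨r', hr', y, h1, h2, h3, h4⟩ := ih _ hlt (g ^ r) (pow_mem hgN r)
            (hgp.coprime_dvd_left (orderOf_pow_dvd r)) hc ho
          exact ⟨r', hr', y, h1, h2, h3.trans (Nat.div_dvd_of_dvd hrm), h4⟩
    haveI := Fact.mk hr
    have hyp : (orderOf y).Coprime p := hgp.coprime_dvd_left hyo
    have hQp : IsPGroup p Q := S.2.to_le hQS
    let α : MulAut Q := Q.normalizerMonoidHom ⟨y, hyN⟩
    have hαne : α ≠ 1 := fun h => hyC (by
      have : (⟨y, hyN⟩ : Subgroup.normalizer (Q : Set G)) ∈ Q.normalizerMonoidHom.ker := h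
      rw [Subgroup.normalizerMonoidHom_ker] at this
      exact this)
    have hαr : α ^ r = 1 := by
      show Q.normalizerMonoidHom ⟨y, hyN⟩ ^ r = 1
      rw [← map_pow, ← MonoidHom.mem_ker, Subgroup.normalizerMonoidHom_ker]
      exact hyr
    have hrord : r ∣ orderOf y := by
      have h := orderOf_eq_prime hαr hαne
      rw [← h]
      refine (orderOf_map_dvd Q.normalizerMonoidHom (⟨y, hyN⟩ : Subgroup.normalizer (Q : Set G))).trans ?_
      rw [Subgroup.orderOf_mk]
    have hrp : r ≠ p := by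
      rintro rfl
      exact (Fact.out : r.Prime).one_lt.ne (Nat.eq_one_of_dvd_coprimes hyp hrord dvd_rfl).symm
    have hmQ : Cfsg.IsMetacyclic Q := by
      have h := CfsgLib.Metacyclic.isMetacyclic_subgroup hS (Q.subgroupOf (S : Subgroup G))
      exact CfsgLib.MetacyclicCoprime.isMetacyclic_congr (Subgroup.subgroupOfEquivOfLe hQS) h
    have hrd : r ∣ p ^ 2 - 1 := dvd_sq_sub_one hQp hmQ hrp α hαr hαne
    -- the image of `y` in the quotient has order prime to `r`
    have hq : ¬ r ∣ orderOf (QuotientGroup.mk' (Cfsg.pPrimePCore p G) y) := fun h =>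
      hr.one_lt.ne (Nat.eq_one_of_dvd_coprimes hcop (h.trans (orderOf_dvd_natCard _)) hrd).symm
    obtain ⟨l, hl⟩ : ∃ l, l = orderOf (QuotientGroup.mk' (Cfsg.pPrimePCore p G) y) := ⟨_, rfl⟩
    set z := y ^ l with hz
    have hzM : z ∈ Cfsg.pPrimePCore p G := (QuotientGroup.eq_one_iff _).mp (by
      rw [hz, QuotientGroup.mk_pow, hl]; exact pow_orderOf_eq_one _)
    obtain ⟨k, hk⟩ := CfsgLib.Blocks.pow_mem_pPrimeCore p hzM
    set w := z ^ p ^ k with hw
    -- `w` lies in the p'-core and normalizes `Q`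
    have hwC : w ∈ Subgroup.centralizer (Q : Set G) := by
      refine Subgroup.mem_centralizer_iff.mpr fun q hq' => ?_
      have hwN : w ∈ Subgroup.normalizer (Q : Set G) := pow_mem (pow_mem hyN _) _
      have h1 : ⁅q, w⁆ ∈ Q := by
        rw [commutatorElement_def, mul_assoc, mul_assoc, ← mul_assoc w]
        exact Q.mul_mem hq' ((Subgroup.mem_normalizer_iff.mp hwN q⁻¹).mp (Q.inv_mem hq'))
      have h2 : ⁅q, w⁆ ∈ Cfsg.pPrimeCore p G := by
        rw [commutatorElement_def]
        exact Subgroup.mul_mem _ (hn2.conj_mem w hk q) (Subgroup.inv_mem _ hk)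
      obtain ⟨j, hj⟩ := hQp ⟨_, h1⟩
      have h3 := Nat.eq_one_of_dvd_coprimes ((CfsgLib.Transfer.pPrimeCore_coprime (G := G) p).pow_right j)
        (Subgroup.orderOf_dvd_natCard _ h2) (orderOf_dvd_of_pow_eq_one (congrArg Subtype.val hj :))
      exact commutatorElement_eq_one_iff_mul_comm.mp (orderOf_eq_one_iff.mp h3)
    -- `r` does not divide `l * p ^ k`
    have hcr : Nat.Coprime (l * p ^ k) r := (((Nat.Prime.coprime_iff_not_dvd hr).mpr (hl ▸ hq)).symm).mul_left
      (((Nat.coprime_primes (Fact.out : p.Prime) hr).mpr (Ne.symm hrp)).pow_left k)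
    refine hyC ?_
    obtain ⟨a, b, hab⟩ : ∃ a b : ℤ, a * (l * p ^ k : ℕ) + b * r = 1 :=
      Int.isCoprime_iff_nat_coprime.mpr (by rw [Int.natAbs_natCast, Int.natAbs_natCast]; exact hcr)
    have e : y = (y ^ (l * p ^ k)) ^ a * (y ^ r) ^ b := by
      rw [← zpow_natCast y (l * p ^ k), ← zpow_natCast y r, ← zpow_mul, ← zpow_mul, ← zpow_add,
        show ((l * p ^ k : ℕ) : ℤ) * a + (r : ℤ) * b = 1 by rw [← hab]; ring, zpow_one]
    rw [e]
    refine Subgroup.mul_mem _ (Subgroup.zpow_mem _ ?_ a) (Subgroup.zpow_mem _ hyr b)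
    rw [pow_mul]
    exact hwC

end Cfsg.Agent.S4419
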