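import Cfsg.Statements.S4422
import Mathlib

set_option autoImplicit false
open Cfsg

namespace Cfsg.Agent.S4422

/-- Primitive divisors of `q^e - 1` are congruent to 1 modulo `e`. Let `q ≥ 2` and `e ≥ 1` be natural numbers and let `m` be a divisor of `q^e - 1` that is coprime to `q^i - 1` for every `1 ≤ i < e` (so `m` divides the primitive part of `q^e - 1`, the largest such divisor). Then `m ≡ 1 (mod e)`. -/
theorem result (q e m : ℕ) (hq : 2 ≤ q) (he : 1 ≤ e)
    (hm : m ∣ q ^ e - 1) (hcop : ∀ i : ℕ, 1 ≤ i → i < e → Nat.Coprime m (q ^ i - 1)) :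
    m % e = 1 % e := by
  rcases eq_or_ne m 1 with rfl | hm1
  · rfl
  have hpos : m ≠ 0 := by
    rintro rfl
    rw [zero_dvd_iff] at hm
    have : q ≤ q ^ e := Nat.le_self_pow (by omega) q
    omega
  have key : ∀ p : ℕ, p.Prime → p ∣ m → p ≡ 1 [MOD e] := by
    intro p hp hpm
    haveI := Fact.mk hp
    have h1 : ∀ i : ℕ, (q : ZMod p) ^ i = 1 ↔ p ∣ q ^ i - 1 := by
      intro i
      rw [← ZMod.natCast_eq_zero_iff, Nat.cast_sub (Nat.one_le_pow _ _ (by omega)), sub_eq_zero,
        Nat.cast_pow, Nat.cast_one]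
    have he1 : (q : ZMod p) ^ e = 1 := (h1 e).mpr (hpm.trans hm)
    have hord : orderOf (q : ZMod p) = e := by
      refine (orderOf_eq_iff (by omega)).mpr ⟨he1, fun i hi hi0 h => ?_⟩
      have := Nat.eq_one_of_dvd_coprimes (hcop i hi0 hi) hpm ((h1 i).mp h)
      exact hp.ne_one this
    have hne : (q : ZMod p) ≠ 0 := fun h => by
      rw [h, zero_pow (by omega)] at he1
      exact zero_ne_one he1
    have := ZMod.orderOf_dvd_card_sub_one hne
    rw [hord] at this
    exact ((Nat.modEq_iff_dvd' hp.one_le).mpr this).symm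
  have : ∀ d : ℕ, d ∣ m → d ≡ 1 [MOD e] := by
    intro d
    induction d using Nat.recOnMul with
    | zero => intro h; exact absurd (zero_dvd_iff.mp h) hpos
    | one => intro _; rfl
    | prime p hp => exact key p hp
    | mul a b ha hb =>
      intro h
      have := (ha ((dvd_mul_right a b).trans h)).mul (hb ((dvd_mul_left b a).trans h))
      rwa [mul_one] at this
  exact this m dvd_rfl

end Cfsg.Agent.S4422
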