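import Cfsg.Statements.S4424
import Cfsg.Agent.Lib.Blocks.BrauerFeit

set_option autoImplicit false
open Cfsg

namespace Cfsg.Agent.S4424

open scoped CfsgLib.Char

/-- Let χ be an irreducible character of the finite group G lying in the p-block B (relative to a maximal ideal M of the algebraic integers containing p), and let p^a be the p-part of the order of G. Then the class function that equals p^a · χ on the p-regular elements and vanishes on the p-singular elements is an integer combination of the irreducible characters in B: there are integers a_ψ, zero for ψ outside B, with that function equal to Σ a_ψ ψ. -/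
theorem result {G : Type*} [Group G] [Finite G] (p : ℕ) [Fact p.Prime] (M : Ideal Cfsg.AlgInt) (hM : Cfsg.IsPModular p M) (B : Set (Cfsg.IrrCharacter G)) (hB : Cfsg.IsPBlock M B) (χ : Cfsg.IrrCharacter G) (hχ : χ ∈ B) : ∃ a : Cfsg.IrrCharacter G → ℤ, (∀ ψ, ψ ∉ B → a ψ = 0) ∧ (fun x : G => if p ∣ orderOf x then (0 : ℂ) else ((p ^ (Nat.card G).factorization p : ℕ) : ℂ) * (χ : G → ℂ) x) = fun x => ∑ᶠ ψ : Cfsg.IrrCharacter G, (a ψ : ℂ) * (ψ : G → ℂ) x := by
  classical
  have := Fintype.ofFinite G
  have := CfsgLib.Blocks.isPrime_of_isPModular hM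
  choose a ha using fun ψ : Cfsg.IrrCharacter G =>
    CfsgLib.Blocks.exists_int_classInner_regPart hM χ ψ
      (k := (Nat.card G).factorization p) (Nat.sub_le _ _)
  refine ⟨a, fun ψ hψ => ?_, ?_⟩
  · have h := ha ψ
    rw [CfsgLib.Blocks.classInner_regPart_eq_zero hM (CfsgLib.Blocks.IsPBlock.isBlockUnion hB) hχ hψ,
      mul_zero] at h
    exact_mod_cast h.symm
  · funext x
    rw [finsum_eq_sum_of_fintype]
    simp only [← ha, mul_assoc, ← Finset.mul_sum]
    have hexp := congrFun (CfsgLib.Char.classFunction_expansion
      (CfsgLib.Blocks.isClassFunction_regPart (p := p) (CfsgLib.Blocks.irr_classFunction χ))) x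
    simp only [Finset.sum_apply, Pi.smul_apply, smul_eq_mul] at hexp
    rw [← hexp]
    by_cases hx : p ∣ orderOf x
    · rw [if_pos hx, CfsgLib.Blocks.regPart_of_singular (show ¬ Cfsg.IsPRegular p x from not_not.mpr hx), mul_zero]
    · rw [if_neg hx, CfsgLib.Blocks.regPart_of_regular (show Cfsg.IsPRegular p x from hx), Nat.cast_pow]
end Cfsg.Agent.S4424
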