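import Cfsg.Statements.S4425
import Cfsg.Agent.Lib.Blocks.BrauerFeit

set_option autoImplicit false
open Cfsg

namespace Cfsg.Agent.S4425

open scoped CfsgLib.Char

/-- Let χ be an irreducible character of the finite group G, p a prime, p^a the p-part of the order of G and p^b the p-part of the degree χ(1). Let χ̃ be the class function equal to p^a · χ on p-regular elements and zero on p-singular elements. Then p^(−b) · χ̃ is a generalized character of G, while p^(−(b+1)) · χ̃ is not. -/
theorem result {G : Type*} [Group G] [Finite G] (p : ℕ) [Fact p.Prime] (χ : Cfsg.IrrCharacter G) : Cfsg.IsGeneralizedCharacter G (fun x : G => if p ∣ orderOf x then (0 : ℂ) else ((p ^ ((Nat.card G).factorization p - (Cfsg.charDegree (χ : G → ℂ)).factorization p) : ℕ) : ℂ) * (χ : G → ℂ) x) ∧ ¬ Cfsg.IsGeneralizedCharacter G (fun x : G => if p ∣ orderOf x then (0 : ℂ) else ((p ^ (Nat.card G).factorization p : ℕ) : ℂ) / ((p ^ ((Cfsg.charDegree (χ : G → ℂ)).factorization p + 1) : ℕ) : ℂ) * (χ : G → ℂ) x) := by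
  classical
  have := Fintype.ofFinite G
  obtain ⟨M, hM⟩ := CfsgLib.Blocks.exists_isPModular (Fact.out : p.Prime)
  set e := (Cfsg.charDegree (χ : G → ℂ)).factorization p with he
  set a := (Nat.card G).factorization p with ha
  constructor
  · convert CfsgLib.Blocks.isGeneralized_smul_regPart hM χ using 1
    funext x
    simp only [Pi.smul_apply, smul_eq_mul]
    by_cases hx : p ∣ orderOf x
    · rw [if_pos hx, CfsgLib.Blocks.regPart_of_singular (show ¬ Cfsg.IsPRegular p x from not_not.mpr hx), mul_zero]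
    · rw [if_neg hx, CfsgLib.Blocks.regPart_of_regular (show Cfsg.IsPRegular p x from hx), Nat.cast_pow]
  · intro h
    obtain ⟨n, hn⟩ := CfsgLib.Blocks.exists_int_degree_of_vanishing hM.1 h fun g hg =>
      if_pos (not_not.mp hg)
    beta_reduce at hn
    rw [orderOf_one, if_neg hM.1.not_dvd_one, (CfsgLib.Blocks.irr_degree_eq χ).1] at hn
    have hp : (p : ℂ) ≠ 0 := Nat.cast_ne_zero.mpr hM.1.ne_zero
    set d := Cfsg.charDegree (χ : G → ℂ) with hd
    rw [← ha] at hn
    push_cast at hn
    rw [div_mul_eq_mul_div, div_eq_iff (pow_ne_zero _ hp), mul_assoc, mul_right_inj' (pow_ne_zero _ hp)] at hn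
    have hn' : (d : ℤ) = n * (p : ℤ) ^ (e + 1) := by exact_mod_cast hn
    have hdvd : p ^ (e + 1) ∣ d := by
      have : ((p ^ (e + 1) : ℕ) : ℤ) ∣ (d : ℤ) := by rw [hn']; push_cast; exact dvd_mul_left _ _
      exact Int.natCast_dvd_natCast.mp this
    rw [hM.1.pow_dvd_iff_le_factorization (CfsgLib.Blocks.irr_degree_eq χ).2.ne'] at hdvd
    omega
end Cfsg.Agent.S4425
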