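import Cfsg.Statements.S4426
import Cfsg.Agent.Lib.Blocks.BrauerFeit

set_option autoImplicit false
open Cfsg

namespace Cfsg.Agent.S4426

open CfsgLib.Blocks
open scoped CfsgLib.Char

variable {G : Type*} [Group G] [Fintype G]

theorem main (p : ℕ) [Fact p.Prime] (M : Ideal Cfsg.AlgInt) (hM : Cfsg.IsPModular p M)
    (B : Set (Cfsg.IrrCharacter G)) (hB : Cfsg.IsPBlock M B) (χ ξ : Cfsg.IrrCharacter G) (hχ : χ ∈ B)
    (hξ : ξ ∈ B) :
    (∃ n : ℤ, Cfsg.classInner (fun x : G => if p ∣ orderOf x then (0 : ℂ) else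
        ((p ^ (Nat.card G).factorization p : ℕ) : ℂ) * (χ : G → ℂ) x) (ξ : G → ℂ) = (n : ℂ) ∧ n ≠ 0 ∧
      padicValInt p n = (Cfsg.charDegree (ξ : G → ℂ)).factorization p) ↔
      Cfsg.blockHeight p B (χ : G → ℂ) = 0 := by
  classical
  have := isPrime_of_isPModular hM
  set a := (Nat.card G).factorization p with ha
  set d := Cfsg.blockDefect p B
  have hda : d ≤ a := (blockDefect_le_and_degree hM hB).1
  obtain ⟨n₀, hn₀, -, -, -⟩ := exists_row hM hB hχ
  have hf : Cfsg.classInner (fun x : G => if p ∣ orderOf x then (0 : ℂ) else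
      ((p ^ a : ℕ) : ℂ) * (χ : G → ℂ) x) (ξ : G → ℂ) = ((p : ℤ) ^ (a - d) * n₀ ξ : ℤ) := by
    rw [show (fun x : G => if p ∣ orderOf x then (0 : ℂ) else ((p ^ a : ℕ) : ℂ) * (χ : G → ℂ) x) =
      ((p ^ a : ℕ) : ℂ) • regPart p (χ : G → ℂ) from funext fun x => by
        simp only [Pi.smul_apply, smul_eq_mul]
        by_cases hx : p ∣ orderOf x
        · rw [if_pos hx, CfsgLib.Blocks.regPart_of_singular (show ¬ Cfsg.IsPRegular p x from not_not.mpr hx), mul_zero]
        · rw [if_neg hx, CfsgLib.Blocks.regPart_of_regular (show Cfsg.IsPRegular p x from hx)],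
      CfsgLib.Char.classInner_smul_left]
    push_cast
    rw [← hn₀, ← mul_assoc, ← pow_add, Nat.sub_add_cancel hda]
  have hv : ∀ m : ℤ, m ≠ 0 → padicValInt p ((p : ℤ) ^ (a - d) * m) =
      (a - d) + m.natAbs.factorization p := fun m hm => by
    rw [padicValInt, ← Nat.factorization_def _ (Fact.out : p.Prime), Int.natAbs_mul, Int.natAbs_pow,
      Int.natAbs_natCast, Nat.factorization_mul (pow_ne_zero _ hM.1.ne_zero) (Int.natAbs_ne_zero.mpr hm),
      Finsupp.add_apply, Nat.Prime.factorization_pow hM.1, Finsupp.single_eq_same]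
  have hdeg := degree_exponent_eq hM hB hξ
  constructor
  · rintro ⟨n, hn, hn0, hval⟩
    by_contra hpos
    rw [hf] at hn
    obtain rfl := Int.cast_injective hn
    have h0 : n₀ ξ ≠ 0 := (mul_ne_zero_iff.mp hn0).2
    have hd := row_height_pos hM hB hχ hpos hξ (hn₀ ξ)
    rw [← Nat.cast_pow, Int.natCast_dvd, hM.1.pow_dvd_iff_le_factorization (Int.natAbs_ne_zero.mpr h0)] at hd
    rw [hv _ h0, hdeg] at hval
    omega
  · intro h0
    obtain ⟨h1, h2⟩ := row_height_zero hM hB hχ h0 hξ (hn₀ ξ)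
    refine ⟨_, hf, mul_ne_zero (pow_ne_zero _ (Int.natCast_ne_zero.mpr hM.1.ne_zero)) h1, ?_⟩
    rw [hv _ h1, hdeg, h2]


/-- Let χ be an irreducible character in the p-block B of the finite group G (relative to a maximal ideal M of the algebraic integers containing p), let p^a be the p-part of the order of G, and let χ̃ be the class function equal to p^a · χ on p-regular elements and zero elsewhere. For ξ ∈ B the inner product [χ̃, ξ] is an integer. The following are equivalent: (a) χ has height zero in B; (b) for some ξ ∈ B the integer [χ̃, ξ] is nonzero and the exact power of p dividing it equals the exact power of p dividing ξ(1); (c) the same holds for every ξ ∈ B. -/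
theorem result {G : Type*} [Group G] [Fintype G] (p : ℕ) [Fact p.Prime] (M : Ideal Cfsg.AlgInt) (hM : Cfsg.IsPModular p M) (B : Set (Cfsg.IrrCharacter G)) (hB : Cfsg.IsPBlock M B) (χ : Cfsg.IrrCharacter G) (hχ : χ ∈ B) : (Cfsg.blockHeight p B (χ : G → ℂ) = 0 ↔ ∃ ξ ∈ B, ∃ n : ℤ, Cfsg.classInner (fun x : G => if p ∣ orderOf x then (0 : ℂ) else ((p ^ (Nat.card G).factorization p : ℕ) : ℂ) * (χ : G → ℂ) x) (ξ : G → ℂ) = (n : ℂ) ∧ n ≠ 0 ∧ padicValInt p n = (Cfsg.charDegree (ξ : G → ℂ)).factorization p) ∧ (Cfsg.blockHeight p B (χ : G → ℂ) = 0 ↔ ∀ ξ ∈ B, ∃ n : ℤ, Cfsg.classInner (fun x : G => if p ∣ orderOf x then (0 : ℂ) else ((p ^ (Nat.card G).factorization p : ℕ) : ℂ) * (χ : G → ℂ) x) (ξ : G → ℂ) = (n : ℂ) ∧ n ≠ 0 ∧ padicValInt p n = (Cfsg.charDegree (ξ : G → ℂ)).factorization p) := by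
  have := CfsgLib.Blocks.isPrime_of_isPModular hM
  obtain ⟨η, hη⟩ := CfsgLib.Blocks.IsPBlock.nonempty hB
  exact ⟨⟨fun h => ⟨η, hη, (main p M hM B hB χ η hχ hη).mpr h⟩,
      fun ⟨ξ, hξ, h⟩ => (main p M hM B hB χ ξ hχ hξ).mp h⟩,
    ⟨fun h ξ hξ => (main p M hM B hB χ ξ hχ hξ).mpr h,
      fun h => (main p M hM B hB χ η hχ hη).mp (h η hη)⟩⟩
end Cfsg.Agent.S4426
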