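import Cfsg.Statements.S4430
import Cfsg.Agent.Lib.Blocks.MainThird
import Cfsg.Agent.Lib.Blocks.BrauerFeit

set_option autoImplicit false
open Cfsg
open scoped CfsgLib.Char

set_option autoImplicit false
open Cfsg

namespace Cfsg.Agent.S4430

/-- Let H be a subgroup of the finite group G, b a block of H whose induced block B₀ in G is defined (relative to a maximal ideal M of the algebraic integers containing p), and ξ ∈ b. For a block B of G let n_B be the value at 1 of the B-part of the induced character ξ^G (a natural number: the sum over χ ∈ B of the multiplicity of χ in ξ^G times χ(1)). Then for B = B₀ the exact power of p dividing n_B equals the exact power of p dividing ξ^G(1), while for every other block B either n_B = 0 or n_B is divisible by a strictly higher power of p than ξ^G(1). -/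
theorem result {G : Type*} [Group G] [Fintype G] (p : ℕ) [Fact p.Prime] (M : Ideal Cfsg.AlgInt) (hM : Cfsg.IsPModular p M) (H : Subgroup G) [Fintype H] (b : Set (Cfsg.IrrCharacter H)) (B₀ : Set (Cfsg.IrrCharacter G)) (hind : Cfsg.IsInducedBlock M H b B₀) (ξ : Cfsg.IrrCharacter H) (hξ : ξ ∈ b) : (∃ n : ℕ, Cfsg.blockPart B₀ (Cfsg.indFun H (ξ : H → ℂ)) 1 = (n : ℂ) ∧ n ≠ 0 ∧ n.factorization p = (Cfsg.charDegree (Cfsg.indFun H (ξ : H → ℂ))).factorization p) ∧ ∀ B : Set (Cfsg.IrrCharacter G), Cfsg.IsPBlock M B → B ≠ B₀ → ∃ n : ℕ, Cfsg.blockPart B (Cfsg.indFun H (ξ : H → ℂ)) 1 = (n : ℂ) ∧ (n = 0 ∨ (Cfsg.charDegree (Cfsg.indFun H (ξ : H → ℂ))).factorization p < n.factorization p) := by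
  classical
  have := CfsgLib.Blocks.isPrime_of_isPModular hM
  set I := indFun H (ξ : H → ℂ) with hIdef
  have hI : IsCharacter G I :=
    CfsgLib.Char.isCharacter_indFun H (CfsgLib.Char.isCharacter_of_isIrr ξ.2)
  set D := charDegree I
  have hI1 : I 1 = ((H.index * charDegree (ξ : H → ℂ) : ℕ) : ℂ) := by
    rw [hIdef, CfsgLib.Char.indFun_one, (CfsgLib.Blocks.irr_degree_eq ξ).1]; push_cast; rfl
  have hD : D = H.index * charDegree (ξ : H → ℂ) := by
    show charDegree I = _
    rw [charDegree, hI1, Complex.natCast_re, Nat.floor_natCast]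
  have hD0 : D ≠ 0 := by
    rw [hD]; exact mul_ne_zero H.index_ne_zero_of_finite (CfsgLib.Blocks.irr_degree_eq ξ).2.ne'
  obtain ⟨χ', hχ'⟩ := CfsgLib.Blocks.IsPBlock.nonempty hind.2.1
  have hmain : ∀ B : Set (IrrCharacter G), IsPBlock M B → ∃ n : ℕ, blockPart B I 1 = (n : ℂ) ∧
      MemLocalRing M ((n : ℂ) / D) ∧ MemLocalIdeal M ((n : ℂ) / D - CfsgLib.Blocks.indVec B χ') := by
    intro B hB
    choose m hm using fun χ : IrrCharacter G =>
      CfsgLib.Char.exists_nat_classInner hI (CfsgLib.Char.isCharacter_of_isIrr χ.2)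
    refine ⟨∑ χ : IrrCharacter G with χ ∈ B, m χ * charDegree (χ : G → ℂ), ?_⟩
    have hn : blockPart B I 1 =
        ((∑ χ : IrrCharacter G with χ ∈ B, m χ * charDegree (χ : G → ℂ) : ℕ) : ℂ) := by
      rw [CfsgLib.Blocks.blockPart_eq_filter]
      push_cast
      exact Finset.sum_congr rfl fun χ _ => by rw [hm, (CfsgLib.Blocks.irr_degree_eq χ).1]
    have hcl := CfsgLib.Blocks.isClassFunction_blockCoeff B
    have hl := CfsgLib.Blocks.IsPBlock.memLocalRing_blockCoeff hB
    have hsum : blockPart B I 1 = ∑ g : G, I g * blockCoeff B g := by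
      simp only [CfsgLib.Blocks.blockPart_eq_filter, classInner, blockCoeff,
        CfsgLib.Blocks.sum_mem_eq_filter, Finset.mul_sum, Finset.sum_mul]
      rw [Finset.sum_comm]
      exact Finset.sum_congr rfl fun g _ => Finset.sum_congr rfl fun χ _ => by ring
    have hfr := CfsgLib.Char.frobenius_reciprocity H (ξ : H → ℂ)
      (χ := fun g => (starRingEnd ℂ) (blockCoeff B g)) (fun g h => by simp only [hcl g h])
    simp only [classInner, Complex.conj_conj, ← hIdef, ← hsum] at hfr
    have hval : blockPart B I 1 =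
        (D : ℂ) * CfsgLib.Blocks.omega (ξ : H → ℂ) (fun h : H => blockCoeff B (h : G)) := by
      have hG : (Nat.card G : ℂ) = (Nat.card H : ℂ) * H.index := by
        rw [← H.card_mul_index, Nat.cast_mul]
      have hH0 : (Nat.card H : ℂ) ≠ 0 := Nat.cast_ne_zero.mpr Nat.card_pos.ne'
      have hG0 : (Nat.card G : ℂ) ≠ 0 := Nat.cast_ne_zero.mpr Nat.card_pos.ne'
      rw [inv_mul_eq_iff_eq_mul₀ hG0] at hfr
      have := CfsgLib.Char.irr_degree_ne_zero ξ.2
      rw [hfr, hD, Nat.cast_mul, ← (CfsgLib.Blocks.irr_degree_eq ξ).1, hG, CfsgLib.Blocks.omega,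
        Finset.sum_congr rfl fun h _ => mul_comm ((ξ : H → ℂ) h) (blockCoeff B (h : G))]
      field_simp
    refine ⟨hn, ?_, ?_⟩
    all_goals rw [← hn, hval, mul_div_cancel_left₀ _ (Nat.cast_ne_zero.mpr hD0)]
    · exact CfsgLib.Blocks.memLocalRing_omega ξ (fun g h => by simpa using hcl (g : G) (h : G))
        fun h => hl _
    · have h := CfsgLib.Blocks.IsInducedBlock.omega_congr hind hξ hχ' hcl hl
      rwa [CfsgLib.Blocks.omega_blockCoeff] at h
  refine ⟨?_, fun B hB hne => ?_⟩
  · obtain ⟨n, hn, hnl, hcg⟩ := hmain B₀ hind.2.1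
    rw [CfsgLib.Blocks.indVec_of_mem hχ'] at hcg
    have hnu : ¬ MemLocalIdeal M ((((n : ℤ) : ℂ)) / D) := fun h =>
      CfsgLib.Blocks.not_memLocalIdeal_one (M := M)
        (by simpa using CfsgLib.Blocks.memLocalIdeal_sub h hcg)
    obtain ⟨h1, h2⟩ := CfsgLib.Blocks.factorization_eq_of_unit_div hM hD0 (by simpa using hnl) hnu
    exact ⟨n, hn, by simpa using h1, by simpa using h2⟩
  · obtain ⟨n, hn, hnl, hcg⟩ := hmain B hB
    rw [CfsgLib.Blocks.indVec_of_notMem fun h => hne
      (CfsgLib.Blocks.IsPBlock.eq_of_mem_of_mem hB hind.2.1 h hχ'), sub_zero] at hcg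
    refine ⟨n, hn, or_iff_not_imp_left.mpr fun hn0 => ?_⟩
    by_contra hlt
    rcases (not_lt.mp hlt).lt_or_eq with h | h
    · set v := D.factorization p
      have hp : p ^ v ∣ n := CfsgLib.Blocks.pow_dvd_of_memLocalRing hM (by
        have h' := CfsgLib.Blocks.memLocalRing_mul hnl
          (CfsgLib.Blocks.memLocalRing_natCast (D / p ^ v))
        convert h' using 1
        have hDv : (D : ℂ) = (p : ℂ) ^ v * ((D / p ^ v : ℕ) : ℂ) := by
          rw [← Nat.cast_pow, ← Nat.cast_mul, Nat.ordProj_mul_ordCompl_eq_self]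
        have hp0 : (p : ℂ) ^ v ≠ 0 := pow_ne_zero _ (Nat.cast_ne_zero.mpr hM.1.ne_zero)
        have hq : ((D / p ^ v : ℕ) : ℂ) ≠ 0 := fun h0 =>
          Nat.cast_ne_zero.mpr hD0 (by rw [hDv, h0, mul_zero])
        rw [hDv]
        field_simp)
      have := (hM.1.pow_dvd_iff_le_factorization hn0).mp hp
      omega
    · exact (CfsgLib.Blocks.unit_natCast_div hM hn0 hD0 h).2 hcg

end Cfsg.Agent.S4430
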