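import Cfsg.Statements.S4431
import Cfsg.Agent.Lib.Blocks.HeightZero
import Cfsg.Agent.Lib.Blocks.MainThird
import Cfsg.Agent.Lib.Blocks.Sections

set_option autoImplicit false
open Cfsg
open scoped CfsgLib.Char

set_option autoImplicit false
open Cfsg

namespace Cfsg.Agent.S4431

/-- Let H be a subgroup of the finite group G and b a block of H whose induced block B₀ in G is defined (relative to a maximal ideal M of the algebraic integers containing p). Let χ be an irreducible character of G, ψ ∈ b, and let η be the class function on H equal to p^a · χ on the p-regular elements of H and zero elsewhere, p^a being the p-part of the order of H. Then (a) if χ ∉ B₀, the number [η, ψ]/ψ(1) lies in the local ideal at M; (b) if χ ∈ B₀ has height zero, it does not. -/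
theorem result {G : Type*} [Group G] [Fintype G] (p : ℕ) [Fact p.Prime] (M : Ideal Cfsg.AlgInt) (hM : Cfsg.IsPModular p M) (H : Subgroup G) [Fintype H] (b : Set (Cfsg.IrrCharacter H)) (B₀ : Set (Cfsg.IrrCharacter G)) (hind : Cfsg.IsInducedBlock M H b B₀) (χ : Cfsg.IrrCharacter G) (ψ : Cfsg.IrrCharacter H) (hψ : ψ ∈ b) : (χ ∉ B₀ → Cfsg.MemLocalIdeal M (Cfsg.classInner (fun h : H => if p ∣ orderOf h then (0 : ℂ) else ((p ^ (Nat.card H).factorization p : ℕ) : ℂ) * (χ : G → ℂ) h) (ψ : H → ℂ) / (ψ : H → ℂ) 1)) ∧ (χ ∈ B₀ → Cfsg.blockHeight p B₀ (χ : G → ℂ) = 0 → ¬ Cfsg.MemLocalIdeal M (Cfsg.classInner (fun h : H => if p ∣ orderOf h then (0 : ℂ) else ((p ^ (Nat.card H).factorization p : ℕ) : ℂ) * (χ : G → ℂ) h) (ψ : H → ℂ) / (ψ : H → ℂ) 1)) := by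
  classical
  have := CfsgLib.Blocks.isPrime_of_isPModular hM
  set a := (Nat.card H).factorization p
  set F : H → ℂ := fun h => if p ∣ orderOf h then (0 : ℂ) else ((p ^ a : ℕ) : ℂ) * (χ : G → ℂ) h
  set f := CfsgLib.Blocks.dualReg p (χ : G → ℂ)
  set ω₁ := CfsgLib.Blocks.omega (ψ : H → ℂ) (fun h : H => f (h : G))
  set c : ℂ := ((p ^ a : ℕ) : ℂ) / (Nat.card H : ℂ)
  obtain ⟨hcl, hcn⟩ := CfsgLib.Blocks.unit_natCast_div hM (pow_ne_zero a hM.1.ne_zero)
    (Nat.card_pos (α := H)).ne' (by rw [Nat.Prime.factorization_pow hM.1, Finsupp.single_eq_same])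
  have hfl : ∀ g, MemLocalRing M (f g) := CfsgLib.Blocks.memLocalRing_dualReg χ
  have hfc : IsClassFunction G f :=
    CfsgLib.Blocks.isClassFunction_dualReg (CfsgLib.Blocks.irr_classFunction χ)
  have hω : MemLocalRing M ω₁ := CfsgLib.Blocks.memLocalRing_omega ψ
    (fun g h => by simpa using hfc (g : G) (h : G)) fun h => hfl _
  have hkey : classInner F (ψ : H → ℂ) / (ψ : H → ℂ) 1 = c * ω₁ := by
    simp only [ω₁, c, f, CfsgLib.Blocks.omega, classInner]
    have hsum : ∑ h : H, F h * (starRingEnd ℂ) ((ψ : H → ℂ) h) = ((p ^ a : ℕ) : ℂ) *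
        ∑ h : H, CfsgLib.Blocks.dualReg p (fun x : H => (χ : G → ℂ) (x : G)) h * (ψ : H → ℂ) h := by
      rw [Finset.mul_sum]
      refine (Fintype.sum_equiv (Equiv.inv H) _ _ fun h => ?_).symm
      rw [Equiv.inv_apply, CfsgLib.Blocks.dualReg]
      simp only [F, orderOf_inv]
      by_cases hh : p ∣ orderOf h
      · rw [if_pos hh, CfsgLib.Blocks.regPart_of_singular (not_not.mpr hh)]
        simp
      · rw [if_neg hh, CfsgLib.Blocks.regPart_of_regular hh, ← CfsgLib.Blocks.irr_value_inv ψ.2,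
          inv_inv, mul_assoc]
    rw [hsum]
    simp only [← congrFun (CfsgLib.Blocks.dualReg_comp_subtype (p := p) H (χ : G → ℂ))]
    ring
  have hiff : MemLocalIdeal M (classInner F (ψ : H → ℂ) / (ψ : H → ℂ) 1) ↔ MemLocalIdeal M ω₁ := by
    rw [hkey]
    refine ⟨fun h => ?_, fun h => CfsgLib.Blocks.memLocalIdeal_mul_left hcl h⟩
    exact (CfsgLib.Blocks.memLocalIdeal_or_of_mul hcl hω h).resolve_left hcn
  obtain ⟨χ', hχ'⟩ := CfsgLib.Blocks.IsPBlock.nonempty hind.2.1
  have hcong := CfsgLib.Blocks.memLocalIdeal_iff_of_sub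
    (CfsgLib.Blocks.IsInducedBlock.omega_congr hind hψ hχ' hfc hfl)
  refine ⟨fun hn => hiff.mpr (hcong.mpr ?_), fun hin h0 h => ?_⟩
  · rw [CfsgLib.Blocks.omega_dualReg_eq_zero hM fun hs =>
      hn (CfsgLib.Blocks.IsPBlock.mem_of_sameBlock hind.2.1 hχ'
        (CfsgLib.Blocks.SameBlock.symm hs))]
    exact CfsgLib.Blocks.memLocalIdeal_zero
  · exact CfsgLib.Blocks.not_memLocalIdeal_omega_dualReg hM hind.2.1 hin h0 hχ'
      (hcong.mp (hiff.mp h))

end Cfsg.Agent.S4431
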