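import Cfsg.Statements.S4434
import Cfsg.Agent.Lib.Blocks.QuotientDefect
-- import your own Cfsg.Agent.* helpers here

set_option autoImplicit false
open Cfsg

namespace Cfsg.Agent.S4434

open Cfsg
open CfsgLib CfsgLib.Blocks
open scoped CfsgLib.Char


/-- Let N be a normal p-subgroup of the finite group G and write Ḡ = G/N; fix a maximal ideal M of the algebraic integers containing p. Then every block B of G contains a block B̄ of Ḡ (the inflation of every member of B̄ lies in B) whose defect groups are exactly the images in Ḡ of the defect groups of B. -/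
theorem result {G : Type*} [Group G] [Finite G] (p : ℕ) [Fact p.Prime] (M : Ideal Cfsg.AlgInt) (hM : Cfsg.IsPModular p M) (N : Subgroup G) [N.Normal] (hN : IsPGroup p N) (B : Set (Cfsg.IrrCharacter G)) (hB : Cfsg.IsPBlock M B) : ∃ Bbar : Set (Cfsg.IrrCharacter (G ⧸ N)), Cfsg.IsPBlock M Bbar ∧ (∀ χ ∈ Bbar, ∀ ψ : Cfsg.IrrCharacter G, (ψ : G → ℂ) = (χ : G ⧸ N → ℂ) ∘ QuotientGroup.mk → ψ ∈ B) ∧ ∀ Dbar : Subgroup (G ⧸ N), Cfsg.IsDefectGroup p M Bbar Dbar ↔ ∃ P : Subgroup G, Cfsg.IsDefectGroup p M B P ∧ Dbar = P.map (QuotientGroup.mk' N) := by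
  classical
  have := Fintype.ofFinite G
  have := Fintype.ofFinite (G ⧸ N)
  have := isPrime_of_isPModular hM
  let π := QuotientGroup.mk' N
  have hπ : Function.Surjective π := QuotientGroup.mk'_surjective N
  obtain ⟨θ, hθ, hθN⟩ := exists_mem_trivial_on_normal_pgroup hM hB N hN
  obtain ⟨η₀, rfl⟩ := exists_inflate_eq_of_ker N θ hθN
  obtain ⟨g, P, hg, hP, -, -⟩ := exists_defectClass_image hM N hB η₀ hθ
  -- the image of the idempotent
  set U : Set (IrrCharacter (G ⧸ N)) := {η | inflate π hπ η ∈ B} with hUdef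
  have hU : IsBlockUnion M U := fun χ hχ ψ hs =>
    IsPBlock.isBlockUnion hB _ hχ _ (sameBlock_inflate π hπ hs)
  set push : G ⧸ N → ℂ := fun q => ∑ y ∈ Finset.univ.filter (fun y => π y = q), blockCoeff B y
    with hpush
  have hpushcls : IsClassFunction (G ⧸ N) push := fun q r => by
    obtain ⟨z, rfl⟩ := hπ r
    simp only [hpush]
    refine Finset.sum_bij' (fun y _ => z⁻¹ * y * z) (fun y _ => z * y * z⁻¹)
      (fun y hy => ?_) (fun y hy => ?_) (fun y _ => by group) (fun y _ => by group) fun y _ => ?_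
    · simp only [Finset.mem_filter, Finset.mem_univ, true_and] at hy ⊢
      rw [map_mul, map_mul, hy, map_inv]
      group
    · simp only [Finset.mem_filter, Finset.mem_univ, true_and] at hy ⊢
      rw [map_mul, map_mul, hy, map_inv]
    · have := isClassFunction_blockCoeff B y z⁻¹
      rwa [inv_inv, eq_comm] at this
  have hpushU : push = blockCoeff U := by
    refine eq_of_omega_eq hpushcls (isClassFunction_blockCoeff U) fun η => ?_
    have h : omega (η : G ⧸ N → ℂ) push = omega (inflate π hπ η : G → ℂ) (blockCoeff B) := by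
      simp only [omega, hpush]
      rw [show (inflate π hπ η : G → ℂ) 1 = (η : G ⧸ N → ℂ) 1 by
        show (η : G ⧸ N → ℂ) (π 1) = _
        rw [map_one]]
      congr 1
      rw [← Finset.sum_fiberwise Finset.univ π]
      refine Finset.sum_congr rfl fun q _ => ?_
      rw [Finset.sum_mul]
      refine Finset.sum_congr rfl fun y hy => ?_
      show _ = blockCoeff B y * (η : G ⧸ N → ℂ) (π y)
      rw [(Finset.mem_filter.mp hy).2]
    rw [h, omega_blockCoeff, omega_blockCoeff]
    by_cases hη : η ∈ U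
    · rw [indVec_of_mem hη, indVec_of_mem (show inflate π hπ η ∈ B from hη)]
    · rw [indVec_of_notMem hη, indVec_of_notMem (show inflate π hπ η ∉ B from hη)]
  have hgreg := IsDefectClass.isPRegular hM hB hg
  have hgc : g ∈ Subgroup.centralizer (N : Set G) := by
    by_contra hc
    exact hg.2.1 (blockCoeff_eq_zero_of_not_centralizing hM N hN hB hc ▸ memLocalIdeal_zero)
  have hval : push (π g) = blockCoeff B g := by
    simp only [hpush]
    rw [Finset.sum_eq_single_of_mem g (by simp)]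
    intro y hy hne
    simp only [Finset.mem_filter, Finset.mem_univ, true_and] at hy
    by_cases hyr : IsPRegular p y
    · exfalso
      have hu : g⁻¹ * y ∈ N := QuotientGroup.eq.mp hy.symm
      have hcom : Commute g (g⁻¹ * y) := (Subgroup.mem_centralizer_iff.mp hgc _ hu).symm
      obtain ⟨k, hk⟩ := IsPGroup.iff_orderOf.mp hN ⟨_, hu⟩
      rw [← Subgroup.orderOf_coe] at hk
      have h1 := isPPart_mul (p := p) hcom.symm ⟨k, hk⟩ hgreg
      rw [← hcom.eq, mul_inv_cancel_left] at h1
      exact hne (inv_mul_eq_one.mp (IsPPart.unique hM.1 h1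
        ⟨y, one_mul y, Commute.one_left y, ⟨0, by simp⟩, hyr⟩)).symm
    · exact blockCoeff_eq_zero_of_not_regular hM (IsPBlock.isBlockUnion hB) hyr
  obtain ⟨b, hb, hbu⟩ : ∃ b ∈ (blocks M (G ⧸ N)).filter (fun b => b ⊆ U),
      ¬ MemLocalIdeal M (blockCoeff b (π g)) := by
    by_contra hcon
    push Not at hcon
    refine hg.2.1 ?_
    rw [← hval, hpushU, blockCoeff_eq_sum_blocks hU]
    exact memLocalIdeal_sum _ _ hcon
  obtain ⟨hbmem, hbU⟩ := Finset.mem_filter.mp hb
  have hbb := mem_blocks.mp hbmem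
  refine ⟨b, hbb, fun χ hχ ψ hψ => ?_, fun Dbar => ?_⟩
  · rw [show ψ = inflate π hπ χ from Subtype.ext hψ]
    exact hbU hχ
  obtain ⟨η, hη⟩ := IsPBlock.nonempty hbb
  have himg := fun (η : IrrCharacter (G ⧸ N)) (hη : η ∈ b) {D : Subgroup G}
      (hD : IsSylowCent p g D) => image_of_unit_class hM N (hg.2.2 _ (hbU hη)) hD
  obtain ⟨P₀, hsylg⟩ := exists_isSylowCent (p := p) g
  have hP₀ : IsDefectGroup p M B P₀ := isDefectGroup_iff.mpr ⟨g, hg, hsylg⟩
  have hclass : IsDefectClass M b (π g) :=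
    ⟨IsPBlock.memLocalRing_blockCoeff hbb _, hbu, fun χ hχ => (himg χ hχ hsylg).1⟩
  have hD₀ : IsDefectGroup p M b (P₀.map π) :=
    isDefectGroup_iff.mpr ⟨_, hclass, (himg η hη hsylg).2⟩
  constructor
  · intro hD
    obtain ⟨x, rfl⟩ := IsDefectGroup.exists_conj_eq hM hbb hD₀ hD
    obtain ⟨x', rfl⟩ := hπ x
    exact ⟨_, IsDefectGroup.conj hM hP₀ x', (map_conj_mk N P₀ x').symm⟩
  · rintro ⟨P', hP', rfl⟩
    obtain ⟨x, rfl⟩ := IsDefectGroup.exists_conj_eq hM hB hP₀ hP'
    rw [map_conj_mk]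
    exact IsDefectGroup.conj hM hD₀ _


end Cfsg.Agent.S4434
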