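import Cfsg.Statements.S4435
import Cfsg.Agent.Lib.Blocks.FongReynolds

set_option autoImplicit false
open Cfsg

namespace Cfsg.Agent.S4435

/-- Let N be a normal subgroup of the finite group G, b a block of N (relative to a maximal ideal M of the algebraic integers containing p), and T the stabilizer of b in G (the elements g such that conjugating any member of b by g gives a member of b); N ≤ T. Say that a block of T (or of G) covers b when some member has a constituent in b on restriction to N. Then: (i) every block B′ of T covering b induces a block B of G, B covers b, every ψ ∈ B′ induces to an irreducible character of G, and B consists exactly of the characters induced from members of B′; (ii) distinct blocks of T covering b induce distinct blocks of G; (iii) every block of G covering b is induced by some block of T covering b. -/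
theorem result {G : Type*} [Group G] [Fintype G] (p : ℕ) [Fact p.Prime] (M : Ideal Cfsg.AlgInt) (hM : Cfsg.IsPModular p M) (N : Subgroup G) [hN : N.Normal] [Fintype N] (b : Set (Cfsg.IrrCharacter N)) (hb : Cfsg.IsPBlock M b) (T : Subgroup G) [Fintype T] (hT : ∀ g : G, g ∈ T ↔ ∀ θ ∈ b, ∀ θ' : Cfsg.IrrCharacter N, (∀ n : N, (θ' : N → ℂ) n = (θ : N → ℂ) ⟨g * n * g⁻¹, hN.conj_mem n n.2 g⟩) → θ' ∈ b) (hNT : N ≤ T) : (∀ B' : Set (Cfsg.IrrCharacter T), Cfsg.IsPBlock M B' → (∃ ψ ∈ B', ∃ θ ∈ b, Cfsg.classInner (fun n : N => (ψ : T → ℂ) ⟨(n : G), hNT n.2⟩) (θ : N → ℂ) ≠ 0) → ∃ B : Set (Cfsg.IrrCharacter G), Cfsg.IsInducedBlock M T B' B ∧ (∃ χ ∈ B, ∃ θ ∈ b, Cfsg.classInner (fun n : N => (χ : G → ℂ) n) (θ : N → ℂ) ≠ 0) ∧ (∀ ψ ∈ B', Cfsg.IsIrrCharacter G (Cfsg.indFun T (ψ : T → ℂ))) ∧ ∀ χ : Cfsg.IrrCharacter G, χ ∈ B ↔ ∃ ψ ∈ B', (χ : G → ℂ) = Cfsg.indFun T (ψ :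 T → ℂ)) ∧ (∀ B'₁ B'₂ : Set (Cfsg.IrrCharacter T), Cfsg.IsPBlock M B'₁ → Cfsg.IsPBlock M B'₂ → (∃ ψ ∈ B'₁, ∃ θ ∈ b, Cfsg.classInner (fun n : N => (ψ : T → ℂ) ⟨(n : G), hNT n.2⟩) (θ : N → ℂ) ≠ 0) → (∃ ψ ∈ B'₂, ∃ θ ∈ b, Cfsg.classInner (fun n : N => (ψ : T → ℂ) ⟨(n : G), hNT n.2⟩) (θ : N → ℂ) ≠ 0) → ∀ B : Set (Cfsg.IrrCharacter G), Cfsg.IsInducedBlock M T B'₁ B → Cfsg.IsInducedBlock M T B'₂ B → B'₁ = B'₂) ∧ (∀ B : Set (Cfsg.IrrCharacter G), Cfsg.IsPBlock M B → (∃ χ ∈ B, ∃ θ ∈ b, Cfsg.classInner (fun n : N => (χ : G → ℂ) n) (θ : N → ℂ) ≠ 0) → ∃ B' : Set (Cfsg.IrrCharacter T), Cfsg.IsPBlock M B' ∧ (∃ ψ ∈ B', ∃ θ ∈ b, Cfsg.classInner (fun n : N => (ψ : T → ℂ) ⟨(n : G), hNT n.2⟩) (θ : N → ℂ) ≠ 0) ∧ Cfsg.IsInducedBlock M T B' B) := by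
  classical
  haveI := CfsgLib.Blocks.isPrime_of_isPModular hM
  refine ⟨fun B' hB' hcov => ?_, fun B₁ B₂ h₁ h₂ c₁ c₂ B hi₁ hi₂ => ?_, fun B hB hcov => ?_⟩
  · obtain ⟨ψ₀, hψ₀, hover⟩ := hcov
    have hover' : CfsgLib.Blocks.IsOver hNT b (ψ₀ : T → ℂ) := hover
    have hall : ∀ ψ ∈ B', CfsgLib.Blocks.IsOver hNT b (ψ : T → ℂ) := fun ψ hψ =>
      CfsgLib.Blocks.isOver_of_sameBlock hNT hb hT hover'
        (CfsgLib.Blocks.IsPBlock.sameBlock hB' hψ₀ hψ)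
    have hirr := CfsgLib.Blocks.isIrr_indFun hNT hb hT hover'
    obtain ⟨θ, hθ, hc⟩ := hover
    have e := CfsgLib.Blocks.IsPBlock.eq_blockOf hB' hψ₀
    refine ⟨blockOf M (indFun T (ψ₀ : T → ℂ)), ?_,
      ⟨⟨_, hirr⟩, CfsgLib.Blocks.mem_blockOf_self (⟨_, hirr⟩ : IrrCharacter G), θ, hθ, ?_⟩,
      fun ψ hψ => CfsgLib.Blocks.isIrr_indFun hNT hb hT (hall ψ hψ), fun χ => ?_⟩
    · rw [e]
      exact CfsgLib.Blocks.isInducedBlock_of_indFun hM T ψ₀ hirr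
    · rw [CfsgLib.Blocks.classInner_indFun_low hNT hb hT hover' hθ]
      exact hc
    · rw [CfsgLib.Blocks.mem_blockOf_indFun_iff hNT hb hT hM hover' χ, ← e]
  · obtain ⟨ψ₁, hψ₁, o₁⟩ := c₁
    obtain ⟨ψ₂, hψ₂, o₂⟩ := c₂
    have o₁' : CfsgLib.Blocks.IsOver hNT b (ψ₁ : T → ℂ) := o₁
    have o₂' : CfsgLib.Blocks.IsOver hNT b (ψ₂ : T → ℂ) := o₂
    have i₁ := CfsgLib.Blocks.isIrr_indFun hNT hb hT o₁'
    have i₂ := CfsgLib.Blocks.isIrr_indFun hNT hb hT o₂'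
    have e₁ := CfsgLib.Blocks.IsPBlock.eq_blockOf h₁ hψ₁
    have e₂ := CfsgLib.Blocks.IsPBlock.eq_blockOf h₂ hψ₂
    have u₁ := CfsgLib.Blocks.IsInducedBlock.unique hi₁
      (e₁ ▸ CfsgLib.Blocks.isInducedBlock_of_indFun hM T ψ₁ i₁)
    have u₂ := CfsgLib.Blocks.IsInducedBlock.unique hi₂
      (e₂ ▸ CfsgLib.Blocks.isInducedBlock_of_indFun hM T ψ₂ i₂)
    have hm : (⟨_, i₂⟩ : IrrCharacter G) ∈ blockOf M (indFun T (ψ₁ : T → ℂ)) := by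
      rw [← u₁, u₂]
      exact CfsgLib.Blocks.mem_blockOf_self (⟨_, i₂⟩ : IrrCharacter G)
    rw [e₁, e₂]
    exact CfsgLib.Blocks.blockOf_eq_of_sameBlock
      (CfsgLib.Blocks.sameBlock_of_indFun hNT hb hT o₁' o₂' hm)
  · obtain ⟨χ, hχ, θ, hθ, hc⟩ := hcov
    obtain ⟨ψ, hover, e⟩ := CfsgLib.Blocks.exists_indFun_eq hNT hb hT hθ hc
    refine ⟨blockOf M (ψ : T → ℂ), CfsgLib.Blocks.isPBlock_blockOf ψ,
      ⟨ψ, CfsgLib.Blocks.mem_blockOf_self ψ, hover⟩, ?_⟩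
    rw [CfsgLib.Blocks.IsPBlock.eq_blockOf hB hχ, e]
    exact CfsgLib.Blocks.isInducedBlock_of_indFun hM T ψ (e ▸ χ.2)

end Cfsg.Agent.S4435
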