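import Cfsg.Statements.S4439
import Cfsg.Agent.Lib.Blocks.PPrimePCoreSetting
import Cfsg.Agent.Lib.Blocks.FongReynoldsDefect
import Cfsg.Agent.Lib.Char.ExtendChar
import Cfsg.Agent.Lib.Char.AbelianQuotient
import Cfsg.Agent.Lib.Char.Projective
import Cfsg.Agent.S0914
import Cfsg.Agent.Lib.Transfer.AlperinGoldschmidt
-- import your own Cfsg.Agent.* helpers here

set_option autoImplicit false
open Cfsg

namespace Cfsg.Agent.S4439

open Cfsg
open CfsgLib CfsgLib.Blocks
open scoped CfsgLib.Char

universe u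

/-- Over an invariant character of a normal `p'`-subgroup, an abelian `p`-layer does not raise the
`p`-part of degrees. -/
theorem layer_degree {G : Type u} [Group G] [Fintype G] {p : ℕ} [hp : Fact p.Prime]
    (N A : Subgroup G) [N.Normal] [Fintype N] [Fintype A] (hNA : N ≤ A)
    (hN : ¬ p ∣ Nat.card N) {k : ℕ} (hk : N.relIndex A = p ^ k)
    (hab : ∀ x ∈ A, ∀ y ∈ A, x * y * x⁻¹ * y⁻¹ ∈ N) {θ : IrrCharacter N}
    (hinv : ∀ g : G, Char.conjBy N (θ : N → ℂ) g = θ) {χ : IrrCharacter G} (hχ : χ ∈ overSet N θ)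
    {φ : IrrCharacter A} (hφ : classInner (fun a : A => (χ : G → ℂ) a) (φ : A → ℂ) ≠ 0) :
    ¬ p ∣ charDegree (φ : A → ℂ) := by
  classical
  let e : N.subgroupOf A ≃* N := Subgroup.subgroupOfEquivOfLe hNA
  have := Fintype.ofFinite (N.subgroupOf A)
  let θ' : IrrCharacter (N.subgroupOf A) :=
    ⟨fun n => (θ : N → ℂ) (e n), isIrrCharacter_comp_of_surjective θ.2 e.toMonoidHom e.surjective⟩
  have hinv' : ∀ a : A, Char.conjBy (N.subgroupOf A) (θ' : N.subgroupOf A → ℂ) a = θ' := fun a => by
    funext n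
    exact congrFun (hinv (a : G)) (e n)
  -- the restriction of `φ` only contains `θ'`
  have hres := restrict_over (θ := θ) hinv hχ
  obtain ⟨m, hm⟩ := Char.exists_multiplicities (Char.isCharacter_restrict A (Char.isCharacter_of_isIrr χ.2))
  have hmφ : m φ ≠ 0 := fun h0 => hφ (by rw [hm, Char.classInner_sum_smul_irr, h0, Nat.cast_zero])
  have honly : ∀ ψ : IrrCharacter (N.subgroupOf A), ψ ≠ θ' →
      classInner (fun n : N.subgroupOf A => (φ : A → ℂ) n) (ψ : N.subgroupOf A → ℂ) = 0 := by
    intro ψ hψ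
    choose c hc using fun η : IrrCharacter A => Char.exists_nat_classInner
      (Char.isCharacter_restrict (N.subgroupOf A) (Char.isCharacter_of_isIrr η.2))
      (Char.isCharacter_of_isIrr ψ.2)
    have h1 : (fun n : N.subgroupOf A => (χ : G → ℂ) ((n : A) : G)) =
        ∑ η : IrrCharacter A, (m η : ℂ) • fun n : N.subgroupOf A => (η : A → ℂ) n := by
      funext n
      have h := congrFun hm (n : A)
      simp only [Finset.sum_apply, Pi.smul_apply] at h ⊢
      exact h
    have h2 : (fun n : N.subgroupOf A => (χ : G → ℂ) ((n : A) : G)) =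
        classInner (fun n : N => (χ : G → ℂ) n) (θ : N → ℂ) • (θ' : N.subgroupOf A → ℂ) := by
      funext n
      have := congrFun (Char.clifford_invariant N χ.2 θ.2 hinv hχ) (e n)
      exact this
    have h3 : (∑ η : IrrCharacter A, (m η : ℂ) * (c η : ℂ)) = 0 := by
      have := congrArg (fun f => classInner f (ψ : N.subgroupOf A → ℂ)) (h1.symm.trans h2)
      simp only [Char.classInner_sum_left, Char.classInner_smul_left, hc,
        Char.classInner_irr_ne θ'.2 ψ.2 (fun h => hψ (Subtype.ext h.symm)), mul_zero] at this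
      exact this
    have h4 : (∑ η : IrrCharacter A, m η * c η : ℕ) = 0 := by exact_mod_cast h3
    have h5 := Finset.sum_eq_zero_iff.mp h4 φ (Finset.mem_univ _)
    rw [hc φ, (mul_eq_zero.mp h5).resolve_left hmφ, Nat.cast_zero]
  obtain ⟨ψ, hψ⟩ := Char.exists_constituent (N.subgroupOf A) (Char.isCharacter_of_isIrr φ.2)
    (Char.irr_degree_ne_zero φ.2)
  have hψθ : ψ = θ' := by
    by_contra h
    exact hψ (honly ψ h)
  subst hψθ
  -- an extension
  obtain ⟨f, hf⟩ := Char.exists_det_hom (Char.isCharacter_of_isIrr θ'.2)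
  obtain ⟨d, hd, hd0, hddvd⟩ := Char.exists_degree_dvd_card θ'.2
  have hcard : Nat.card (N.subgroupOf A) = Nat.card N := Nat.card_congr e.toEquiv
  obtain ⟨η, hη, hηres⟩ := Char.extends_of_det (N.subgroupOf A) θ'.2 hinv' d (Nat.card (N.subgroupOf A))
    hd 1 (fun n => by
      rw [hf, ← Units.val_pow_eq_pow_val, ← map_pow, pow_card_eq_one', map_one]
      rfl) (by
      rw [show (N.subgroupOf A).index = p ^ k from hk, hcard]
      refine Nat.Coprime.pow_left _ ((hp.out.coprime_iff_not_dvd).mpr fun h => ?_)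
      rcases hp.out.dvd_mul.mp h with h | h
      · exact hN ((h.trans hddvd).trans hcard.dvd)
      · exact hN h)
  have hone : classInner (fun n : N.subgroupOf A => η n) (θ' : N.subgroupOf A → ℂ) = 1 := by
    rw [show (fun n : N.subgroupOf A => η n) = (θ' : N.subgroupOf A → ℂ) from funext hηres]
    exact Char.classInner_irr_self θ'.2
  obtain ⟨e', C, he0, he, hC, -, hind, hdeg⟩ := Char.invariant_decomposition (N.subgroupOf A)
    (fun x y => Subgroup.mem_subgroupOf.mpr (hab x x.2 y y.2)) θ'.2 hinv' hη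
    (by convert one_ne_zero (α := ℂ) using 1; convert hone)
  have he1 : e' = 1 := by
    have h : (e' : ℂ) = 1 := by rw [← he]; convert hone
    exact_mod_cast h
  subst he1
  have hφC : (φ : A → ℂ) ∈ C := by
    by_contra hno
    refine hψ ?_
    rw [← Char.classInner_conj_symm,
      ← Char.frobenius_reciprocity (N.subgroupOf A) _ (irr_classFunction φ), hind, Nat.cast_one,
      one_smul, Char.classInner_sum_left, Finset.sum_eq_zero, map_zero]
    intro χ' hχ'
    exact Char.classInner_irr_ne (hC χ' hχ') φ.2 fun h => hno (h ▸ hχ')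
  have h1 := (hdeg _ hφC).1
  rw [Nat.cast_one, one_mul, hd, (irr_degree_eq φ).1, Nat.cast_inj] at h1
  rw [h1]
  exact fun h => hN ((h.trans hddvd).trans hcard.dvd)

/-- The invariant case. -/
theorem bound_invariant {G : Type u} [Group G] [Fintype G] {p : ℕ} [hp : Fact p.Prime]
    {M : Ideal AlgInt} (hM : IsPModular p M) (hsolv : IsPSolvable p G) (N : Subgroup G) [N.Normal]
    [Fintype N] (hNdef : N = pPrimeCore p G) {θ : IrrCharacter N}
    (hinv : ∀ g : G, Char.conjBy N (θ : N → ℂ) g = θ) {B : Set (IrrCharacter G)} (hB : IsPBlock M B)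
    {P : Subgroup G} (hP : IsDefectGroup p M B P) {χ : IrrCharacter G} (hχ : χ ∈ B)
    (hχθ : χ ∈ overSet N θ) :
    blockHeight p B (χ : G → ℂ) ≤ ((Subgroup.center P).index).factorization p := by
  classical
  subst hNdef
  have := isPrime_of_isPModular hM
  have hK := pPrimeCore_not_dvd (G := G) p
  have hcon := PSolvable.isPConstrained_of_isPSolvable hsolv
  let Q₀ : Sylow p (pPrimePCore p G) := default
  haveI := pPrimePCore_normal (G := G) p
  haveI := Transfer.pPrimeCore_normal p G
  haveI := Fitting.pCore_normal (G := G ⧸ pPrimeCore p G) p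
  have hb := isPBlock_overSet hinv hM hK (pPrimeCore_le_pPrimePCore p)
    (fun x hx => pow_mem_pPrimeCore p hx) (Q₀.2.map (pPrimePCore p G).subtype)
    (Subgroup.map_subtype_le _) (hcon Q₀)
  obtain rfl : B = overSet (pPrimeCore p G) θ := IsPBlock.eq_of_mem_of_mem hB hb hχ hχθ
  obtain ⟨S, rfl⟩ := (isDefectGroup_overSet_iff hinv hM hK (pPrimeCore_le_pPrimePCore p)
    (fun x hx => pow_mem_pPrimeCore p hx) (Q₀.2.map (pPrimePCore p G).subtype)
    (Subgroup.map_subtype_le _) (hcon Q₀) P).mp hP
  set π := QuotientGroup.mk' (pPrimeCore p G) with hπ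
  have hπs : Function.Surjective π := QuotientGroup.mk'_surjective _
  -- the image of `S ⊓ L` is the core of the quotient
  have hsup : ∀ y ∈ pCore p (G ⧸ pPrimeCore p G),
      ∃ s ∈ (S : Subgroup G) ⊓ pPrimePCore p G, π s = y := by
    intro y hy
    obtain ⟨x, rfl⟩ := hπs y
    have hx : x ∈ pPrimePCore p G := hy
    rw [AlperinGoldschmidt.pPrimePCore_eq_sup S, Subgroup.mem_sup_of_normal_left] at hx
    obtain ⟨n, hn, s, hs, rfl⟩ := hx
    exact ⟨s, hs, by rw [map_mul, show π n = 1 from (QuotientGroup.eq_one_iff n).mpr hn, one_mul]⟩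
  -- a Sylow subgroup of `L` is the meet with `S`
  obtain ⟨R, hR⟩ := ((S.2.to_le (inf_le_left : (S : Subgroup G) ⊓ pPrimePCore p G ≤ S)).of_equiv
    (Subgroup.subgroupOfEquivOfLe (inf_le_right : (S : Subgroup G) ⊓ pPrimePCore p G ≤ _)).symm
      ).exists_le_sylow
  have hRmap : (R : Subgroup (pPrimePCore p G)).map (pPrimePCore p G).subtype =
      (S : Subgroup G) ⊓ pPrimePCore p G := by
    refine (Subgroup.eq_of_le_of_card_ge (fun x hx => Subgroup.mem_map.mpr
      ⟨⟨x, hx.2⟩, hR (Subgroup.mem_subgroupOf.mpr hx), rfl⟩) ?_).symm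
    have hRp : IsPGroup p ((R : Subgroup (pPrimePCore p G)).map (pPrimePCore p G).subtype) :=
      R.2.map _
    have hdisj : ∀ x ∈ (R : Subgroup (pPrimePCore p G)).map (pPrimePCore p G).subtype,
        π x = 1 → x = 1 := by
      intro x hx h1
      have hxN : x ∈ pPrimeCore p G := (QuotientGroup.eq_one_iff x).mp h1
      obtain ⟨j, hj⟩ := IsPGroup.iff_orderOf.mp hRp ⟨x, hx⟩
      rw [← Subgroup.orderOf_coe] at hj
      have h := Subgroup.orderOf_dvd_natCard _ hxN
      rw [hj] at h
      rcases j.eq_zero_or_pos with rfl | hpos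
      · exact orderOf_eq_one_iff.mp (by rw [hj, pow_zero])
      · exact absurd ((dvd_pow_self p hpos.ne').trans h) hK
    let f : ((R : Subgroup (pPrimePCore p G)).map (pPrimePCore p G).subtype) →
        ↥((S : Subgroup G) ⊓ pPrimePCore p G) := fun x =>
      ⟨(hsup (π x) ((Subgroup.map_subtype_le _ x.2 : (x : G) ∈ pPrimePCore p G))).choose,
        (hsup (π x) ((Subgroup.map_subtype_le _ x.2 : (x : G) ∈ pPrimePCore p G))).choose_spec.1⟩
    refine Nat.card_le_card_of_injective f fun a b hab => ?_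
    have hae : π (f a) = π a := (hsup (π a) ((Subgroup.map_subtype_le _ a.2 : (a : G) ∈ pPrimePCore p G))).choose_spec.2
    have hbe : π (f b) = π b := (hsup (π b) ((Subgroup.map_subtype_le _ b.2 : (b : G) ∈ pPrimePCore p G))).choose_spec.2
    have h : π ((a : G)⁻¹ * b) = 1 := by
      rw [map_mul, map_inv, ← hae, ← hbe, hab, inv_mul_cancel]
    exact Subtype.ext (inv_mul_eq_one.mp (hdisj _ (mul_mem (inv_mem a.2) b.2) h))
  have hCS := hcon R
  rw [hRmap] at hCS
  -- the layer over the core
  set Z : Subgroup (G ⧸ pPrimeCore p G) :=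
    (Subgroup.center (pCore p (G ⧸ pPrimeCore p G))).map (pCore p (G ⧸ pPrimeCore p G)).subtype
    with hZ
  set A := Z.comap π with hA
  haveI : A.Normal := Subgroup.Normal.comap inferInstance _
  have := Fintype.ofFinite A
  have hNA : pPrimeCore p G ≤ A := fun x hx => by
    show π x ∈ Z
    rw [show π x = 1 from (QuotientGroup.eq_one_iff x).mpr hx]
    exact one_mem _
  obtain ⟨k, hk⟩ := IsPGroup.iff_card.mp
    ((Fitting.pCore_isPGroup (G := G ⧸ pPrimeCore p G) p).to_le (Subgroup.map_subtype_le _) :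
      IsPGroup p Z)
  have hrel : (pPrimeCore p G).relIndex A = p ^ k := by
    rw [← hk, Subgroup.relIndex, Subgroup.index_eq_card]
    let g : A →* Z := π.subgroupComap Z
    have hg : Function.Surjective g := π.subgroupComap_surjective_of_surjective Z hπs
    have hker : g.ker = (pPrimeCore p G).subgroupOf A := by
      ext x
      rw [MonoidHom.mem_ker, Subgroup.mem_subgroupOf, ← QuotientGroup.eq_one_iff]
      exact Subtype.ext_iff
    rw [← hker]
    exact Nat.card_congr (QuotientGroup.quotientKerEquivOfSurjective g hg).toEquiv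
  have hab : ∀ x ∈ A, ∀ y ∈ A, x * y * x⁻¹ * y⁻¹ ∈ pPrimeCore p G := by
    intro x hx y hy
    rw [← QuotientGroup.eq_one_iff]
    show π (x * y * x⁻¹ * y⁻¹) = 1
    obtain ⟨a, ha, hae⟩ := hx
    obtain ⟨b, hb, hbe⟩ := hy
    have hcm : a * b = b * a := (Subgroup.mem_center_iff.mp ha b).symm
    have h' : π x * π y = π y * π x := by
      rw [← hae, ← hbe, ← map_mul, ← map_mul, hcm]
    rw [map_mul, map_mul, map_mul, h', map_inv, map_inv]
    simp [mul_assoc]
  obtain ⟨φ, hφ⟩ := Char.exists_constituent A (Char.isCharacter_of_isIrr χ.2)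
    (Char.irr_degree_ne_zero χ.2)
  have hφp := layer_degree (pPrimeCore p G) A hNA hK hrel hab hinv hχθ hφ
  obtain ⟨j, hj, hjdvd⟩ := Char.degree_ratio A φ.2 χ.2 hφ
  rw [(irr_degree_eq χ).1, (irr_degree_eq φ).1, ← Nat.cast_mul, Nat.cast_inj] at hj
  have hj0 : j ≠ 0 := fun h => (irr_degree_eq χ).2.ne' (by rw [hj, h, zero_mul])
  have hdeg : (charDegree (χ : G → ℂ)).factorization p ≤ A.index.factorization p := by
    rw [hj, Nat.factorization_mul hj0 (irr_degree_eq φ).2.ne', Finsupp.add_apply,
      Nat.factorization_eq_zero_of_not_dvd hφp, add_zero]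
    exact (Nat.factorization_le_iff_dvd hj0 Subgroup.index_ne_zero_of_finite).mpr hjdvd p
  -- the centre of `S` maps into the layer
  have hcen : ∀ z : Subgroup.center (S : Subgroup G), π ((z : (S : Subgroup G)) : G) ∈ Z := by
    intro z
    have hz : ∀ w ∈ (S : Subgroup G), ((z : (S : Subgroup G)) : G) * w =
        w * ((z : (S : Subgroup G)) : G) := fun w hw =>
      (congrArg Subtype.val (Subgroup.mem_center_iff.mp z.2 ⟨w, hw⟩)).symm
    have hzL : ((z : (S : Subgroup G)) : G) ∈ pPrimePCore p G :=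
      hCS (Subgroup.mem_centralizer_iff.mpr fun w hw => (hz w hw.1).symm)
    refine ⟨⟨π _, hzL⟩, Subgroup.mem_center_iff.mpr fun y => Subtype.ext ?_, rfl⟩
    obtain ⟨s, hs, hse⟩ := hsup y y.2
    show (y : G ⧸ pPrimeCore p G) * π _ = π _ * (y : G ⧸ pPrimeCore p G)
    rw [← hse, ← map_mul, ← map_mul, hz s hs.1]
  have hZle : (Nat.card (Subgroup.center (S : Subgroup G))).factorization p ≤ k := by
    have hp' : p.Prime := hp.out
    have hinj : Function.Injective fun z : Subgroup.center (S : Subgroup G) =>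
        (⟨π ((z : (S : Subgroup G)) : G), hcen z⟩ : Z) := by
      intro a b hab
      have hab' : π ((a : (S : Subgroup G)) : G) = π ((b : (S : Subgroup G)) : G) :=
        congrArg Subtype.val hab
      have hd : ((a : (S : Subgroup G)) : G)⁻¹ * ((b : (S : Subgroup G)) : G) ∈ pPrimeCore p G :=
        QuotientGroup.eq.mp hab'
      have hdS : ((a : (S : Subgroup G)) : G)⁻¹ * ((b : (S : Subgroup G)) : G) ∈ (S : Subgroup G) :=
        mul_mem (inv_mem (a : (S : Subgroup G)).2) (b : (S : Subgroup G)).2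
      obtain ⟨i, hi⟩ := IsPGroup.iff_orderOf.mp S.2 ⟨_, hdS⟩
      rw [← Subgroup.orderOf_coe] at hi
      have h := Subgroup.orderOf_dvd_natCard _ hd
      rw [hi] at h
      rcases i.eq_zero_or_pos with rfl | hpos
      · rw [pow_zero, orderOf_eq_one_iff] at hi
        exact Subtype.ext (Subtype.ext (inv_mul_eq_one.mp hi))
      · exact absurd ((dvd_pow_self p hpos.ne').trans h) hK
    have h := Nat.card_le_card_of_injective _ hinj
    obtain ⟨i, hi⟩ := IsPGroup.iff_card.mp (S.2.to_subgroup (Subgroup.center (S : Subgroup G)))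
    rw [hk, hi] at h
    rw [hi, hp'.factorization_pow, Finsupp.single_eq_same]
    exact (Nat.pow_le_pow_iff_right hp'.one_lt).mp h
  have hA1 : (Nat.card G).factorization p = k + A.index.factorization p := by
    rw [← A.card_mul_index, ← (((pPrimeCore p G).subgroupOf A)).card_mul_index,
      show ((pPrimeCore p G).subgroupOf A).index = p ^ k from hrel,
      Nat.factorization_mul (mul_ne_zero Nat.card_pos.ne' (pow_ne_zero _ hp.out.ne_zero))
        Subgroup.index_ne_zero_of_finite, Nat.factorization_mul Nat.card_pos.ne'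
        (pow_ne_zero _ hp.out.ne_zero), hp.out.factorization_pow]
    simp only [Finsupp.add_apply, Finsupp.single_eq_same]
    rw [Nat.factorization_eq_zero_of_not_dvd fun h => hK (h.trans
      (Nat.card_congr (Subgroup.subgroupOfEquivOfLe hNA).toEquiv).dvd), zero_add]
  have hS1 : (Nat.card G).factorization p = (Nat.card (Subgroup.center (S : Subgroup G))).factorization p +
      (Subgroup.center (S : Subgroup G)).index.factorization p := by
    have h : (Nat.card (S : Subgroup G)).factorization p = (Nat.card G).factorization p := by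
      rw [S.card_eq_multiplicity, hp.out.factorization_pow, Finsupp.single_eq_same]
    rw [← h, ← (Subgroup.center (S : Subgroup G)).card_mul_index,
      Nat.factorization_mul Nat.card_pos.ne' Subgroup.index_ne_zero_of_finite, Finsupp.add_apply]
  refine (Nat.sub_le _ _).trans ?_
  omega

theorem aux : ∀ (n : ℕ) (G : Type u) [Group G] [Fintype G], Nat.card G = n → ∀ (p : ℕ) [Fact p.Prime]
    (M : Ideal AlgInt), IsPModular p M → IsPSolvable p G → ∀ (B : Set (IrrCharacter G)),
    IsPBlock M B → ∀ P : Subgroup G, IsDefectGroup p M B P → ∀ χ ∈ B,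
    blockHeight p B (χ : G → ℂ) ≤ ((Subgroup.center P).index).factorization p := by
  intro n
  induction n using Nat.strong_induction_on with
  | _ n ih =>
  intro G _ _ hn p _ M hM hsolv B hB P hP χ hχ
  classical
  have := isPrime_of_isPModular hM
  haveI := Transfer.pPrimeCore_normal p G
  have := Fintype.ofFinite (pPrimeCore p G)
  obtain ⟨θ, hθ⟩ := Char.exists_constituent (pPrimeCore p G) (Char.isCharacter_of_isIrr χ.2)
    (Char.irr_degree_ne_zero χ.2)
  by_cases hinv : ∀ g : G, Char.conjBy (pPrimeCore p G) (θ : pPrimeCore p G → ℂ) g = θ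
  · exact bound_invariant hM hsolv _ rfl hinv hB hP hχ hθ
  obtain ⟨T, hTdef⟩ : ∃ T : Subgroup G,
      T = Char.inertia (pPrimeCore p G) (θ : pPrimeCore p G → ℂ) := ⟨_, rfl⟩
  have := Fintype.ofFinite T
  have hb : IsPBlock M ({θ} : Set (IrrCharacter (pPrimeCore p G))) := by
    have h : blockOf M (θ : pPrimeCore p G → ℂ) = {θ} :=
      (Cfsg.Agent.S0914.result p M hM θ).mp fun h => by
        obtain ⟨d, hd, -, hdvd⟩ := Char.exists_degree_dvd_card θ.2
        exact pPrimeCore_not_dvd (G := G) p (h.trans (Nat.div_dvd_of_dvd (by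
          rw [show charDegree (θ : pPrimeCore p G → ℂ) = d by simp [charDegree, hd]]; exact hdvd)))
    exact h ▸ isPBlock_blockOf θ
  have hT : ∀ g : G, g ∈ T ↔ ∀ θ₀ ∈ ({θ} : Set (IrrCharacter (pPrimeCore p G))),
      ∀ θ' : IrrCharacter (pPrimeCore p G), (∀ n : pPrimeCore p G, (θ' : pPrimeCore p G → ℂ) n =
        (θ₀ : pPrimeCore p G → ℂ) ⟨g * n * g⁻¹, (inferInstance : (pPrimeCore p G).Normal).conj_mem n n.2 g⟩) →
      θ' ∈ ({θ} : Set (IrrCharacter (pPrimeCore p G))) := by
    intro g
    rw [hTdef, Char.mem_inertia]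
    simp only [Set.mem_singleton_iff, forall_eq]
    constructor
    · intro h θ' h'
      exact Subtype.ext (funext fun n => (h' n).trans (congrFun h n))
    · intro h
      have := h ⟨_, Char.isIrrCharacter_conjBy _ θ.2 g⟩ fun n => rfl
      exact congrArg Subtype.val this
  have hNT : pPrimeCore p G ≤ T := hTdef ▸ Char.le_inertia _ (irr_classFunction θ)
  obtain ⟨ψ, hψ, hψe⟩ := exists_indFun_eq hNT hb hT (Set.mem_singleton θ) hθ
  have hirr : ∀ ψ' ∈ blockOf M (ψ : T → ℂ), IsIrrCharacter G (indFun T (ψ' : T → ℂ)) := fun ψ' hψ' =>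
    isIrr_indFun hNT hb hT (isOver_of_sameBlock hNT hb hT hψ (mem_blockOf_iff.mp hψ'))
  have hu : B = blockOf M (indFun T (ψ : T → ℂ)) := by
    rw [← hψe]; exact IsPBlock.eq_blockOf hB hχ
  have hmem : ∀ χ' : IrrCharacter G, χ' ∈ B ↔
      ∃ ψ' ∈ blockOf M (ψ : T → ℂ), (χ' : G → ℂ) = indFun T (ψ' : T → ℂ) :=
    fun χ' => by rw [hu, mem_blockOf_indFun_iff hNT hb hT hM hψ χ']
  have hlt : Nat.card T < n := by
    rw [← hn, ← T.card_mul_index]
    refine lt_mul_of_one_lt_right Nat.card_pos (Subgroup.one_lt_index_of_ne_top fun h => hinv ?_)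
    intro g
    exact Char.mem_inertia _ |>.mp (hTdef ▸ (h ▸ Subgroup.mem_top g : g ∈ T))
  obtain ⟨D, hD⟩ := exists_isDefectGroup hM (isPBlock_blockOf (M := M) ψ)
  have h1 := ih _ hlt T rfl p M hM (PSolvable.isPSolvable_subgroup T hsolv) _ (isPBlock_blockOf ψ) D
    hD ψ (mem_blockOf_self ψ)
  rw [hψe, blockHeight_indFun_block hM (isPBlock_blockOf ψ) hmem hirr ψ]
  obtain ⟨x, hx⟩ := IsDefectGroup.exists_conj_eq hM hB
    (isDefectGroup_map_indFun_block hM (isPBlock_blockOf ψ) hB hmem hirr hD) hP
  subst hx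
  let e : D ≃* (D.map T.subtype).map (MulAut.conj x).toMonoidHom :=
    (D.equivMapOfInjective T.subtype T.subtype_injective).trans
      ((D.map T.subtype).equivMapOfInjective _ (MulAut.conj x).injective)
  have hc : (Subgroup.center D).map e.toMonoidHom =
      Subgroup.center ((D.map T.subtype).map (MulAut.conj x).toMonoidHom) := by
    ext y
    rw [Subgroup.mem_map_equiv, Subgroup.mem_center_iff, Subgroup.mem_center_iff]
    refine ⟨fun h z => e.symm.injective (by rw [map_mul, map_mul]; exact h (e.symm z)), fun h z => ?_⟩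
    apply e.injective
    rw [map_mul, map_mul, MulEquiv.apply_symm_apply]
    exact h (e z)
  rw [← hc]
  exact h1.trans (le_of_eq (congrArg (fun m : ℕ => m.factorization p)
    (Subgroup.index_map_of_bijective e.bijective _).symm))


/-- Let G be a finite p-solvable group and B a p-block of G with defect group P (relative to a maximal ideal M of the algebraic integers containing p). Then the height of every irreducible character in B is at most the exponent of p in the index of the centre of P in P. -/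
theorem result {G : Type*} [Group G] [Finite G] (p : ℕ) [Fact p.Prime] (M : Ideal Cfsg.AlgInt) (hM : Cfsg.IsPModular p M) (hsolv : Cfsg.IsPSolvable p G) (B : Set (Cfsg.IrrCharacter G)) (hB : Cfsg.IsPBlock M B) (P : Subgroup G) (hP : Cfsg.IsDefectGroup p M B P) (χ : Cfsg.IrrCharacter G) (hχ : χ ∈ B) : Cfsg.blockHeight p B (χ : G → ℂ) ≤ ((Subgroup.center P).index).factorization p := by
  classical
  have := Fintype.ofFinite G
  exact aux (Nat.card G) G rfl p M hM hsolv B hB P hP χ hχ


end Cfsg.Agent.S4439
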