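import Cfsg.Statements.S4442
import Cfsg.Agent.Lib.Blocks.PrimeDefect.Main

set_option autoImplicit false
open Cfsg
open scoped CfsgLib.Char

namespace Cfsg.Agent.S4442

/-- Blocks of defect one. Let p be an odd prime and G a finite group whose Sylow p-subgroup P has order p; let C = C_G(P) and N = N_G(P), and fix a maximal ideal M of the algebraic integers containing p. Let B be a block of G with defect group P, b a block of C inducing B, and θ the member of b having P in its kernel (there is exactly one). Let T be the stabilizer of θ in N (the elements g ∈ N with θ(g c g⁻¹) = θ(c) for all c ∈ C) and e the index of C in T. Then e divides p − 1 and B contains exactly e + (p − 1)/e irreducible characters. Moreover B is the disjoint union of a set X of e characters and a set Y of (p − 1)/e characters such that, with f the index of C in N: every χ ∈ X has χ(1) ≡ ±(f/e)·θ(1) (mod p), there is one sign ε with ψ(1) ≡ ε f θ(1) (mod p) for all ψ ∈ Y, and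 all members of Y agree on the p-regular elements of G. -/
theorem result {G : Type*} [Group G] [Finite G] (p : ℕ) [Fact p.Prime] (M : Ideal Cfsg.AlgInt) (hM : Cfsg.IsPModular p M) (hodd : p ≠ 2) (P : Sylow p G) (hP : Nat.card P = p) (B : Set (Cfsg.IrrCharacter G)) (hB : Cfsg.IsPBlock M B) (hBP : Cfsg.IsDefectGroup p M B P) (b : Set (Cfsg.IrrCharacter (Subgroup.centralizer ((P : Subgroup G) : Set G)))) (hind : Cfsg.IsInducedBlock M (Subgroup.centralizer ((P : Subgroup G) : Set G)) b B) (θ : Cfsg.IrrCharacter (Subgroup.centralizer ((P : Subgroup G) : Set G))) (hθ : θ ∈ b) (hθP : ∀ x : Subgroup.centralizer ((P : Subgroup G) : Set G), (x : G) ∈ (P : Subgroup G) → (θ : Subgroup.centralizer ((P : Subgroup G) : Set G) → ℂ) x = (θ : Subgroup.centralizer ((P : Subgroup G) : Set G) → ℂ) 1) (T : Subgroup G) (hT : ∀ g : G, g ∈ T ↔ (g ∈ Subgroup.normalizer ((P : Subgroup G) : Set G) ∧ ∀ c c' : Subgroup.centralizer ((P : Subgroup G) : Set G), (c' : G) = g * c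 * g⁻¹ → (θ : Subgroup.centralizer ((P : Subgroup G) : Set G) → ℂ) c' = (θ : Subgroup.centralizer ((P : Subgroup G) : Set G) → ℂ) c)) (e f : ℕ) (he : (Subgroup.centralizer ((P : Subgroup G) : Set G)).relIndex T = e) (hf : (Subgroup.centralizer ((P : Subgroup G) : Set G)).relIndex (Subgroup.normalizer ((P : Subgroup G) : Set G)) = f) : e ∣ p - 1 ∧ Nat.card B = e + (p - 1) / e ∧ ∃ X Y : Set (Cfsg.IrrCharacter G), B = X ∪ Y ∧ Disjoint X Y ∧ Nat.card X = e ∧ Nat.card Y = (p - 1) / e ∧ (∀ χ ∈ X, (Cfsg.charDegree (χ : G → ℂ) : ℤ) ≡ ((f / e * Cfsg.charDegree (θ : Subgroup.centralizer ((P : Subgroup G) : Set G) → ℂ) : ℕ) : ℤ) [ZMOD p] ∨ (Cfsg.charDegree (χ : G → ℂ) : ℤ) ≡ -((f / e * Cfsg.charDegree (θ : Subgroup.centralizer ((P : Subgroup G) : Set G) → ℂ) : ℕ) : ℤ) [ZMOD p]) ∧ (∃ ε : ℤ, (ε = 1 ∨ ε = -1) ∧ ∀ ψ ∈ Y, (Cfsg.charDegree (ψ : G → ℂ) : ℤ) ≡ ε * ((f * Cfsg.charDegree (θ : Subgroup.centralizer ((P : Subgroup G) : Set G) → ℂ) : ℕ) : ℤ) [ZMOD p]) ∧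 ∀ ψ ∈ Y, ∀ ψ' ∈ Y, ∀ g : G, ¬ p ∣ orderOf g → (ψ : G → ℂ) g = (ψ' : G → ℂ) g := by
  classical
  haveI : Fintype G := Fintype.ofFinite G
  let S : CfsgLib.Blocks.PrimeDefect.Setup G p M :=
    { hM := hM, P := P, hP := hP, hidx := P.not_dvd_index, B := B, hB := hB, hBP := hBP, b := b,
      hind := hind, θ := θ, hθ := hθ, hθP := hθP }
  obtain rfl : T = S.T := S.eq_T hT
  have hSe : S.e = e := he
  obtain ⟨hdvd, X, Y, δ, ε, hdisj, hmem, hXc, hYc, hε, hδ, -, hXdeg, hYdeg, -, hagree⟩ :=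
    S.structure_block
  have hB' : B = (X : Set _) ∪ (Y : Set _) := by
    ext χ
    rw [Set.mem_union, Finset.mem_coe, Finset.mem_coe, ← Finset.mem_union, ← hmem]
  refine ⟨hSe ▸ hdvd, ?_, (X : Set _), (Y : Set _), hB', ?_, ?_, ?_, fun χ hχ => ?_,
    ⟨ε, hε, fun ψ hψ => ?_⟩, fun ψ hψ ψ' hψ' g hg => hagree ψ hψ ψ' hψ' g hg⟩
  · rw [hB', ← Finset.coe_union, Nat.card_eq_card_toFinset, Finset.toFinset_coe,
      Finset.card_union_of_disjoint hdisj, hXc, hYc, hSe]
  · exact_mod_cast Finset.disjoint_coe.mpr hdisj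
  · rw [Nat.card_eq_card_toFinset, Finset.toFinset_coe, hXc, hSe]
  · rw [Nat.card_eq_card_toFinset, Finset.toFinset_coe, hYc, hSe]
  · have h := hXdeg χ hχ
    rw [hSe, show S.C.relIndex S.N = f from hf] at h
    rcases hδ χ hχ with h1 | h1 <;> rw [h1] at h
    · exact Or.inl (by rwa [one_mul] at h)
    · exact Or.inr (by rwa [neg_one_mul] at h)
  · have h := hYdeg ψ hψ
    rwa [show S.C.relIndex S.N = f from hf] at h

end Cfsg.Agent.S4442
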