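import Cfsg.Statements.S4443
import Cfsg.Agent.Lib.Blocks.SylowCount
import Cfsg.Agent.Lib.Blocks.Sections

set_option autoImplicit false
open Cfsg
open scoped CfsgLib.Char

set_option autoImplicit false
open Cfsg

namespace Cfsg.Agent.S4443

/-- Let D be a normal p-subgroup of the finite group G, of order p^d, let p^a be the p-part of the order of G, and fix a Sylow p-subgroup S and a maximal ideal M of the algebraic integers containing p. Index by a finite type ι (via an injective map K) exactly the conjugacy classes of p-regular elements x of G for which D is a Sylow p-subgroup of C_G(x). For classes K_i, K_j let ω(i, j) be the number of pairs (y, z) ∈ K_i × K_j with z y⁻¹ ∈ S; this number is divisible by p^(a−d). Then the number of p-blocks of G having D as a defect group equals the rank over ℤ/pℤ of the matrix with (i, j) entry ω(i, j)/p^(a−d) reduced modulo p. -/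
theorem result {G : Type*} [Group G] [Finite G] (p : ℕ) [Fact p.Prime] (M : Ideal Cfsg.AlgInt) (hM : Cfsg.IsPModular p M) (D : Subgroup G) [D.Normal] (hD : IsPGroup p D) (S : Sylow p G) {ι : Type*} [Fintype ι] [DecidableEq ι] (K : ι → ConjClasses G) (hKinj : Function.Injective K) (hK : ∀ C : ConjClasses G, (∃ i, K i = C) ↔ ∃ x ∈ C.carrier, ¬ p ∣ orderOf x ∧ ∃ Q : Sylow p (Subgroup.centralizer ({x} : Set G)), (Q : Subgroup (Subgroup.centralizer ({x} : Set G))).map (Subgroup.centralizer ({x} : Set G)).subtype = D) : Nat.card {B : Set (Cfsg.IrrCharacter G) // Cfsg.IsPBlock M B ∧ Cfsg.IsDefectGroup p M B D} = (Matrix.of fun i j : ι => ((Nat.card {yz : G × G // yz.1 ∈ (K i).carrier ∧ yz.2 ∈ (K j).carrier ∧ yz.2 * yz.1⁻¹ ∈ (S : Subgroup G)} / p ^ ((Nat.card G).factorization p - (Nat.card D).factorization p) : ℕ) : ZMod p)).rank := by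
  classical
  have := Fintype.ofFinite G
  have := Fintype.ofFinite (S : Subgroup G)
  have := Fintype.ofFinite (ConjClasses G)
  have := CfsgLib.Blocks.isPrime_of_isPModular hM
  set x : ι → G := fun i => Quotient.out (K i) with hx
  have hKx : ∀ i, ConjClasses.mk (x i) = K i := fun i => Quotient.out_eq (K i)
  set d := (Nat.card D).factorization p with hddef
  have hDcard : Nat.card D = p ^ d := by
    obtain ⟨k, hk⟩ := hD.exists_card_eq
    rw [hddef, hk, Nat.Prime.factorization_pow hM.1, Finsupp.single_eq_same]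
  have hDconj : ∀ z : G, D.map (MulAut.conj z).toMonoidHom = D := fun z =>
    le_antisymm (by rintro _ ⟨w, hw, rfl⟩; exact ‹D.Normal›.conj_mem w hw z) fun y hy =>
      ⟨z⁻¹ * y * z, by simpa using ‹D.Normal›.conj_mem y hy z⁻¹, by simp [mul_assoc]⟩
  have hxi : ∀ i, IsPRegular p (x i) ∧ CfsgLib.Blocks.IsSylowCent p (x i) D := by
    intro i
    obtain ⟨y, hy, hyr, Q, hQ⟩ := (hK (K i)).mp ⟨i, rfl⟩
    have hconj : IsConj y (x i) := by
      rw [← ConjClasses.mk_eq_mk_iff_isConj, ConjClasses.mem_carrier_iff_mk_eq.mp hy, hKx]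
    refine ⟨CfsgLib.Blocks.IsPRegular.of_isConj hconj hyr, ?_⟩
    obtain ⟨z, hz⟩ := isConj_iff.mp hconj
    have h := CfsgLib.Blocks.IsSylowCent.conj (CfsgLib.Blocks.isSylowCent_iff.mpr ⟨Q, hQ.symm⟩) z
    rwa [hDconj, hz] at h
  have hxd : ∀ i, (Nat.card (Subgroup.centralizer ({x i} : Set G))).factorization p = d := fun i => by
    rw [hddef, (hxi i).2.2, Nat.Prime.factorization_pow hM.1, Finsupp.single_eq_same]
  -- blocks with this defect group
  set I := {B : Set (IrrCharacter G) // IsPBlock M B ∧ IsDefectGroup p M B D}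
  have hId : ∀ B : I, blockDefect p B.1 = d := fun B =>
    Nat.pow_right_injective hM.1.two_le
      ((CfsgLib.Blocks.IsDefectGroup.card_eq hM B.2.1 B.2.2).symm.trans hDcard)
  choose r hr using fun B : I => CfsgLib.Blocks.IsPBlock.nonempty B.2.1
  set lam : I → G → CfsgLib.Blocks.ResField M := fun B g =>
    CfsgLib.Blocks.res M (centralChar (r B : G → ℂ) g)
  set eps : I → G → CfsgLib.Blocks.ResField M := fun B g => CfsgLib.Blocks.res M (blockCoeff B.1 g)
  set E : Matrix ι I (CfsgLib.Blocks.ResField M) := Matrix.of fun i B => eps B (x i)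
  set L : Matrix I ι (CfsgLib.Blocks.ResField M) := Matrix.of fun B j => lam B (x j)
  have hLE : L * E = 1 := by
    ext B B'
    rw [Matrix.mul_apply, Matrix.one_apply]
    set s : Finset (ConjClasses G) := Finset.univ.image K
    have hterm : ∀ c : ConjClasses G, c ∉ s → MemLocalIdeal M
        (blockCoeff B'.1 (Quotient.out c) * centralChar (r B : G → ℂ) (Quotient.out c)) := by
      intro c hc
      set g := Quotient.out c
      by_contra hne
      have he : ¬ MemLocalIdeal M (blockCoeff B'.1 g) := fun h => hne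
        (CfsgLib.Blocks.memLocalIdeal_mul_right h (CfsgLib.Blocks.memLocalRing_centralChar _ _))
      have hw : ¬ MemLocalIdeal M (centralChar (r B : G → ℂ) g) := fun h => hne
        (CfsgLib.Blocks.memLocalIdeal_mul_left
          (CfsgLib.Blocks.IsPBlock.memLocalRing_blockCoeff B'.2.1 _) h)
      have hg : IsPRegular p g := by
        by_contra hg
        exact he (CfsgLib.Blocks.blockCoeff_eq_zero_of_not_regular hM
          (CfsgLib.Blocks.IsPBlock.isBlockUnion B'.2.1) hg ▸ CfsgLib.Blocks.memLocalIdeal_zero)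
      have hgd : (Nat.card (Subgroup.centralizer ({g} : Set G))).factorization p = d :=
        le_antisymm (hId B' ▸ CfsgLib.Blocks.factorization_centralizer_le_of_blockCoeff hM B'.2.1 he)
          (hId B ▸ CfsgLib.Blocks.le_factorization_centralizer_of_centralChar hM B.2.1 (hr B) hw)
      obtain ⟨Q, hQ⟩ := CfsgLib.Blocks.exists_isSylowCent (p := p) g
      obtain ⟨z, hz⟩ := CfsgLib.Blocks.IsDefectGroup.exists_le_conj_of_support hM B'.2.1 B'.2.2 he
        hQ.isPGroup hQ.1
      rw [hDconj] at hz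
      have hQD : Q = D := Subgroup.eq_of_le_of_card_ge hz (by rw [hQ.2, hgd, hDcard])
      obtain ⟨P, hP⟩ := CfsgLib.Blocks.isSylowCent_iff.mp (hQD ▸ hQ)
      obtain ⟨i, hi⟩ := (hK c).mpr
        ⟨g, ConjClasses.mem_carrier_iff_mk_eq.mpr (Quotient.out_eq c), hg, P, hP.symm⟩
      exact hc (Finset.mem_image.mpr ⟨i, Finset.mem_univ _, hi⟩)
    have hl : ∀ c ∈ (Finset.univ : Finset (ConjClasses G)), MemLocalRing M
        (blockCoeff B'.1 (Quotient.out c) * centralChar (r B : G → ℂ) (Quotient.out c)) := fun c _ =>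
      CfsgLib.Blocks.memLocalRing_mul (CfsgLib.Blocks.IsPBlock.memLocalRing_blockCoeff B'.2.1 _)
        (CfsgLib.Blocks.memLocalRing_centralChar _ _)
    have h1 := congrArg (CfsgLib.Blocks.res M) (CfsgLib.Blocks.omega_eq_sum_classes (r B)
      (CfsgLib.Blocks.isClassFunction_blockCoeff B'.1))
    rw [CfsgLib.Blocks.omega_blockCoeff, CfsgLib.Blocks.res_sum _ _ hl,
      ← Finset.sum_subset (Finset.subset_univ s) fun c _ hc =>
        CfsgLib.Blocks.res_eq_zero (hterm c hc),
      Finset.sum_image fun i _ j _ h => hKinj h] at h1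
    simp only [L, E, eps, lam, Matrix.of_apply, hx]
    rw [Finset.sum_congr rfl fun i _ => by
      rw [mul_comm, ← CfsgLib.Blocks.res_mul
        (CfsgLib.Blocks.IsPBlock.memLocalRing_blockCoeff B'.2.1 _)
        (CfsgLib.Blocks.memLocalRing_centralChar _ _)], ← h1]
    split_ifs with hBB
    · rw [CfsgLib.Blocks.indVec_of_mem (hBB ▸ hr B), CfsgLib.Blocks.res_one]
    · rw [CfsgLib.Blocks.indVec_of_notMem fun hin => hBB (Subtype.ext
        (CfsgLib.Blocks.IsPBlock.eq_of_mem_of_mem B.2.1 B'.2.1 (hr B) hin)), CfsgLib.Blocks.res_zero]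
  -- the entries
  set a := (Nat.card G).factorization p
  set P0 : ℕ := p ^ (a - d) with hP0def
  have hidxS : ¬ p ∣ (S : Subgroup G).index := S.not_dvd_index
  have hidx : ∀ i, (Subgroup.centralizer ({x i} : Set G)).index.factorization p = a - d := fun i => by
    have h := congrArg (fun m : ℕ => m.factorization p)
      (Subgroup.centralizer ({x i} : Set G)).card_mul_index
    simp only [Nat.factorization_mul Nat.card_pos.ne' Subgroup.index_ne_zero_of_finite,
      Finsupp.add_apply, hxd i] at h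
    show _ = (Nat.card G).factorization p - d
    omega
  set n : ι → ℂ := fun i => ((Subgroup.centralizer ({x i} : Set G)).index : ℂ) / (P0 : ℂ)
  have hn : ∀ i, MemLocalRing M (n i) ∧ ¬ MemLocalIdeal M (n i) := fun i =>
    CfsgLib.Blocks.unit_natCast_div hM Subgroup.index_ne_zero_of_finite
      (pow_ne_zero _ hM.1.ne_zero)
      (by rw [hidx, Nat.Prime.factorization_pow hM.1, Finsupp.single_eq_same])
  set A : Matrix ι ι (ZMod p) := Matrix.of fun i j : ι => ((Nat.card {yz : G × G //
    yz.1 ∈ (K i).carrier ∧ yz.2 ∈ (K j).carrier ∧ yz.2 * yz.1⁻¹ ∈ (S : Subgroup G)} / P0 : ℕ) : ZMod p)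
    with hA
  have := CfsgLib.Blocks.charP_resField hM
  set f : ZMod p →+* CfsgLib.Blocks.ResField M := ZMod.castHom dvd_rfl _
  have hEq : A.map f = Matrix.diagonal (fun i => CfsgLib.Blocks.res M (n i)) * (E * L) := by
    ext i j
    set N := Nat.card {yz : G × G //
      yz.1 ∈ (K i).carrier ∧ yz.2 ∈ (K j).carrier ∧ yz.2 * yz.1⁻¹ ∈ (S : Subgroup G)} with hNdef
    set m : IrrCharacter G → ℂ := fun χ =>
      classInner (fun v : (S : Subgroup G) => (χ : G → ℂ) v) 1 *
        (starRingEnd ℂ) ((χ : G → ℂ) (x i))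
    have hml : ∀ χ, MemLocalRing M (m χ) := fun χ => by
      obtain ⟨k, hk⟩ := CfsgLib.Char.exists_nat_classInner
        (CfsgLib.Char.isCharacter_restrict (S : Subgroup G) (CfsgLib.Char.isCharacter_of_isIrr χ.2))
        CfsgLib.Char.isCharacter_one
      refine CfsgLib.Blocks.memLocalRing_mul ?_ (CfsgLib.Blocks.memLocalRing_of_isIntegral
        (CfsgLib.Blocks.irr_conj_isIntegral χ.2 _))
      exact (show classInner (fun v : (S : Subgroup G) => (χ : G → ℂ) v) 1 = (k : ℂ) from hk) ▸
        CfsgLib.Blocks.memLocalRing_natCast k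
    set il : ℂ := ((S : Subgroup G).index : ℂ)⁻¹
    have hil : MemLocalRing M il := CfsgLib.Blocks.memLocalRing_natCast_inv hM hidxS
    set T : Set (IrrCharacter G) → ℂ := fun B =>
      il * ∑ χ : IrrCharacter G with χ ∈ B, centralChar (χ : G → ℂ) (x j) * m χ
    have hTl : ∀ B ∈ CfsgLib.Blocks.blocks M G, MemLocalRing M (T B) := fun B _ =>
      CfsgLib.Blocks.memLocalRing_mul hil (CfsgLib.Blocks.memLocalRing_sum _ _ fun χ _ =>
        CfsgLib.Blocks.memLocalRing_mul (CfsgLib.Blocks.memLocalRing_centralChar χ _) (hml χ))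
    have hNX : (N : ℂ) / (P0 : ℂ) = n i * ∑ B ∈ CfsgLib.Blocks.blocks M G, T B := by
      have e : N = Nat.card {yz : G × G // IsConj (x i) yz.1 ∧ IsConj (x j) yz.2 ∧
          yz.2 * yz.1⁻¹ ∈ (S : Subgroup G)} := by
        refine Nat.card_congr (Equiv.subtypeEquivRight fun yz => ?_)
        rw [ConjClasses.mem_carrier_iff_mk_eq, ConjClasses.mem_carrier_iff_mk_eq, ← hKx i, ← hKx j,
          ConjClasses.mk_eq_mk_iff_isConj, ConjClasses.mk_eq_mk_iff_isConj]
        exact and_congr ⟨IsConj.symm, IsConj.symm⟩ (and_congr ⟨IsConj.symm, IsConj.symm⟩ Iff.rfl)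
      have hsplit : ∑ B ∈ CfsgLib.Blocks.blocks M G, T B =
          il * ∑ χ : IrrCharacter G, centralChar (χ : G → ℂ) (x j) * m χ := by
        simp only [T, ← Finset.mul_sum, Finset.sum_filter]
        rw [Finset.sum_comm]
        congr 1
        refine Finset.sum_congr rfl fun χ _ => ?_
        rw [Finset.sum_eq_single_of_mem (blockOf M (χ : G → ℂ))
          (CfsgLib.Blocks.mem_blocks.mpr (CfsgLib.Blocks.isPBlock_blockOf χ)) fun B hB hne => if_neg
            fun h => hne (CfsgLib.Blocks.IsPBlock.eq_of_mem_of_mem (CfsgLib.Blocks.mem_blocks.mp hB)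
              (CfsgLib.Blocks.isPBlock_blockOf χ) h (CfsgLib.Blocks.mem_blockOf_self χ)),
          if_pos (CfsgLib.Blocks.mem_blockOf_self χ)]
      rw [hsplit, e, CfsgLib.Blocks.card_pairs_coset S (x i) (x j)]
      simp only [n, il, m]
      ring
    have hXl := CfsgLib.Blocks.memLocalRing_sum _ _ hTl
    have hdvd : P0 ∣ N := CfsgLib.Blocks.pow_dvd_of_memLocalRing hM (by
      rw [← Nat.cast_pow, ← hP0def, hNX]; exact CfsgLib.Blocks.memLocalRing_mul (hn i).1 hXl)
    have hres : f (A i j) = CfsgLib.Blocks.res M ((N : ℂ) / (P0 : ℂ)) := by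
      rw [hA, Matrix.of_apply, map_natCast, ← Nat.cast_div hdvd
        (Nat.cast_ne_zero.mpr (pow_ne_zero _ hM.1.ne_zero)),
        CfsgLib.Blocks.res_mk (CfsgLib.Blocks.memLocalRing_natCast (N / P0))]
      exact (map_natCast (Ideal.Quotient.mk (CfsgLib.Blocks.locIdeal M)) _).symm.trans
        (congrArg _ (Subtype.ext (by simp [hNdef, Nat.card_eq_fintype_card])))
    rw [Matrix.map_apply, hres, hNX, Matrix.diagonal_mul, Matrix.mul_apply,
      CfsgLib.Blocks.res_mul (hn i).1 hXl, CfsgLib.Blocks.res_sum _ _ hTl]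
    congr 1
    -- one block
    have hTB : ∀ B, IsPBlock M B → ∀ χ ∈ B, CfsgLib.Blocks.res M (T B) =
        CfsgLib.Blocks.res M (blockCoeff B (x i)) *
          CfsgLib.Blocks.res M (centralChar (χ : G → ℂ) (x j)) := by
      intro B hB χ hχ
      have hel := CfsgLib.Blocks.IsPBlock.memLocalRing_blockCoeff hB (x i)
      rw [← CfsgLib.Blocks.res_mul hel (CfsgLib.Blocks.memLocalRing_centralChar χ _)]
      refine (CfsgLib.Blocks.res_eq_iff (hTl B (CfsgLib.Blocks.mem_blocks.mpr hB))
        (CfsgLib.Blocks.memLocalRing_mul hel (CfsgLib.Blocks.memLocalRing_centralChar χ _))).mpr ?_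
      have hi0 : ((S : Subgroup G).index : ℂ) ≠ 0 :=
        Nat.cast_ne_zero.mpr Subgroup.index_ne_zero_of_finite
      have e : blockCoeff B (x i) = il * ∑ η : IrrCharacter G with η ∈ B, m η := by
        rw [← CfsgLib.Blocks.index_mul_blockCoeff hM hB S (hxi i).1]
        simp only [il, inv_mul_cancel_left₀ hi0]
      rw [e, mul_assoc, ← mul_sub, Finset.sum_mul, ← Finset.sum_sub_distrib]
      refine CfsgLib.Blocks.memLocalIdeal_mul_left hil (CfsgLib.Blocks.memLocalIdeal_sum _ _ fun η hη => ?_)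
      rw [mul_comm (m η), ← sub_mul]
      exact CfsgLib.Blocks.memLocalIdeal_mul_right
        (CfsgLib.Blocks.IsPBlock.sameBlock hB (Finset.mem_filter.mp hη).2 hχ _) (hml η)
    set s : Finset (Set (IrrCharacter G)) := Finset.univ.image fun B : I => B.1
    have hzero : ∀ B ∈ CfsgLib.Blocks.blocks M G, B ∉ s → CfsgLib.Blocks.res M (T B) = 0 := by
      intro B hB hBs
      have hBp := CfsgLib.Blocks.mem_blocks.mp hB
      obtain ⟨χ, hχ⟩ := CfsgLib.Blocks.IsPBlock.nonempty hBp
      rw [hTB B hBp χ hχ]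
      by_contra hne
      have he : ¬ MemLocalIdeal M (blockCoeff B (x i)) := fun h =>
        hne (by rw [CfsgLib.Blocks.res_eq_zero h, zero_mul])
      have hw : ¬ MemLocalIdeal M (centralChar (χ : G → ℂ) (x j)) := fun h =>
        hne (by rw [CfsgLib.Blocks.res_eq_zero h, mul_zero])
      have hd1 := CfsgLib.Blocks.factorization_centralizer_le_of_blockCoeff hM hBp he
      have hd2 := CfsgLib.Blocks.le_factorization_centralizer_of_centralChar hM hBp hχ hw
      rw [hxd] at hd1 hd2
      obtain ⟨D', hD'⟩ := CfsgLib.Blocks.exists_isDefectGroup hM hBp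
      obtain ⟨z, hz⟩ := CfsgLib.Blocks.IsDefectGroup.exists_le_conj_of_support hM hBp hD' he
        hD (hxi i).2.1
      have hDD : D = D'.map (MulAut.conj z).toMonoidHom := Subgroup.eq_of_le_of_card_ge hz (by
        rw [Subgroup.card_map_of_injective (MulAut.conj z).injective,
          CfsgLib.Blocks.IsDefectGroup.card_eq hM hBp hD', hDcard, le_antisymm hd2 hd1])
      refine hBs (Finset.mem_image.mpr ⟨⟨B, hBp, ?_⟩, Finset.mem_univ _, rfl⟩)
      rw [hDD]
      exact CfsgLib.Blocks.IsDefectGroup.conj hM hD' z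
    rw [← Finset.sum_subset (fun B hB => by
        obtain ⟨C, -, rfl⟩ := Finset.mem_image.mp hB
        exact CfsgLib.Blocks.mem_blocks.mpr C.2.1) hzero,
      Finset.sum_image fun B _ C _ h => Subtype.ext h]
    refine Finset.sum_congr rfl fun B _ => ?_
    simp only [E, L, eps, lam, Matrix.of_apply]
    exact hTB B.1 B.2.1 (r B) (hr B)
  -- ranks
  have hdet : IsUnit (Matrix.diagonal fun i => CfsgLib.Blocks.res M (n i)).det := by
    rw [Matrix.det_diagonal]
    exact IsUnit.mk0 _ (Finset.prod_ne_zero_iff.mpr fun i _ h =>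
      (hn i).2 ((CfsgLib.Blocks.res_eq_zero_iff (hn i).1).mp h))
  have hrank : (E * L).rank = Fintype.card I := by
    refine le_antisymm ((Matrix.rank_mul_le_left E L).trans (Matrix.rank_le_card_width E)) ?_
    calc Fintype.card I = (L * (E * L) * E).rank := by
          rw [← Matrix.mul_assoc, hLE, Matrix.one_mul, hLE, Matrix.rank_one]
      _ ≤ (L * (E * L)).rank := Matrix.rank_mul_le_left _ _
      _ ≤ (E * L).rank := Matrix.rank_mul_le_right _ _
  rw [Nat.card_eq_fintype_card, ← hrank, ← Matrix.rank_mul_eq_right_of_isUnit_det _ (E * L) hdet,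
    ← hEq, CfsgLib.Blocks.rank_map_of_field]

end Cfsg.Agent.S4443
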