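import Cfsg.Statements.S4444
import Cfsg.Agent.Lib.Char.GlaubermanPGroup

set_option autoImplicit false
open Cfsg

namespace Cfsg.Agent.S4444

open CfsgLib.Char
open scoped CfsgLib.Char

/-- The Glauberman correspondence for a p-group of operators. Inside a finite group Γ let S normalise G with the orders of G and S coprime, S a p-group, and let C = G ⊓ C(S) be the fixed points. Call an irreducible character χ of G S-invariant when χ(s g s⁻¹) = χ(g) for s ∈ S, g ∈ G. Then: (i) for every S-invariant χ there is exactly one irreducible character β of C whose multiplicity [χ_C, β] in the restriction of χ is not divisible by p; (ii) that multiplicity is ≡ 1 or ≡ −1 (mod p); (iii) distinct S-invariant χ give distinct β; (iv) every irreducible character of C arises in this way. So χ ↦ β is a bijection from the S-invariant irreducible characters of G onto the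 irreducible characters of C. -/
theorem result {Γ : Type*} [Group Γ] [Fintype Γ] (G S : Subgroup Γ) [Fintype G] (hnorm : ∀ s ∈ S, ∀ g ∈ G, s * g * s⁻¹ ∈ G) (hcop : (Nat.card G).Coprime (Nat.card S)) (p : ℕ) (hp : p.Prime) (hS : IsPGroup p S) (C : Subgroup Γ) [Fintype C] (hC : C = G ⊓ Subgroup.centralizer (S : Set Γ)) (hCG : C ≤ G) : (∀ χ : Cfsg.IrrCharacter G, (∀ s ∈ S, ∀ g g' : G, (g' : Γ) = s * g * s⁻¹ → (χ : G → ℂ) g' = (χ : G → ℂ) g) → ∃! β : Cfsg.IrrCharacter C, ∃ m : ℕ, Cfsg.classInner (fun c : C => (χ : G → ℂ) ⟨c, hCG c.2⟩) (β : C → ℂ) = (m : ℂ) ∧ ¬ p ∣ m) ∧ (∀ χ : Cfsg.IrrCharacter G, (∀ s ∈ S, ∀ g g' : G, (g' : Γ) = s * g * s⁻¹ → (χ : G → ℂ) g' = (χ : G → ℂ) g) → ∀ β : Cfsg.IrrCharacter C, ∀ m : ℕ, Cfsg.classInner (fun c : C => (χ : G → ℂ) ⟨c, hCG c.2⟩) (β : C → ℂ) = (m : ℂ) → ¬ p ∣ m → ((m : ℤ) ≡ 1 [ZMOD p] ∨ (m : ℤ) ≡ -1 [ZMOD p])) ∧ (∀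 χ χ' : Cfsg.IrrCharacter G, (∀ s ∈ S, ∀ g g' : G, (g' : Γ) = s * g * s⁻¹ → (χ : G → ℂ) g' = (χ : G → ℂ) g) → (∀ s ∈ S, ∀ g g' : G, (g' : Γ) = s * g * s⁻¹ → (χ' : G → ℂ) g' = (χ' : G → ℂ) g) → ∀ β : Cfsg.IrrCharacter C, ∀ m m' : ℕ, Cfsg.classInner (fun c : C => (χ : G → ℂ) ⟨c, hCG c.2⟩) (β : C → ℂ) = (m : ℂ) → ¬ p ∣ m → Cfsg.classInner (fun c : C => (χ' : G → ℂ) ⟨c, hCG c.2⟩) (β : C → ℂ) = (m' : ℂ) → ¬ p ∣ m' → χ = χ') ∧ (∀ β : Cfsg.IrrCharacter C, ∃ χ : Cfsg.IrrCharacter G, (∀ s ∈ S, ∀ g g' : G, (g' : Γ) = s * g * s⁻¹ → (χ : G → ℂ) g' = (χ : G → ℂ) g) ∧ ∃ m : ℕ, Cfsg.classInner (fun c : C => (χ : G → ℂ) ⟨c, hCG c.2⟩) (β : C → ℂ) = (m : ℂ) ∧ ¬ p ∣ m) := by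
  classical
  have hS : S ≤ Subgroup.normalizer (G : Set Γ) := fun s hs =>
    Subgroup.mem_normalizer_iff.mpr fun x => ⟨hnorm s hs x, fun hx => by
      simpa [mul_assoc] using hnorm s⁻¹ (inv_mem hs) _ hx⟩
  obtain ⟨F, hF, hI⟩ := Glauberman.hasCorr_of_isPGroup hp (G := G) (Nat.card S) S rfl hS (by assumption) hcop C hCG hC
  have key : ∀ (χ : Cfsg.IrrCharacter G) (h : Glauberman.Inv G S (χ : G → ℂ)) (β : Cfsg.IrrCharacter C)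
      (m : ℕ), Cfsg.classInner (Glauberman.res hCG (χ : G → ℂ)) (β : C → ℂ) = (m : ℂ) → ¬ p ∣ m →
      β = F ⟨χ, h⟩ := fun χ h β m hm hnd => (hI ⟨χ, h⟩).eq_of_not_dvd hm hnd
  refine ⟨fun χ h => ?_, fun χ h β m hm hnd => ?_, fun χ χ' h h' β m m' hm hnd hm' hnd' => ?_, fun β => ?_⟩
  · obtain ⟨m, hm, hnd⟩ := (hI ⟨χ, h⟩).multiplicity hp (isCharacter_of_isIrr χ.2)
    exact ⟨F ⟨χ, h⟩, ⟨m, hm, hnd⟩, fun β ⟨m', hm', hnd'⟩ => key χ h β m' hm' hnd'⟩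
  · exact (hI ⟨χ, h⟩ β m hm).2 (key χ h β m hm hnd)
  · exact congrArg Subtype.val
      (hF.1 ((key χ h β m hm hnd).symm.trans (key χ' h' β m' hm' hnd')))
  · obtain ⟨⟨χ, h⟩, rfl⟩ := hF.2 β
    obtain ⟨m, hm, hnd⟩ := (hI ⟨χ, h⟩).multiplicity hp (isCharacter_of_isIrr χ.2)
    exact ⟨χ, h, m, hm, hnd⟩

end Cfsg.Agent.S4444
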