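import Cfsg.Statements.S4445
import Cfsg.Agent.Lib.Char.GlaubermanSolvable
import Cfsg.Agent.Lib.Coprime.Action

set_option autoImplicit false
open Cfsg

namespace Cfsg.Agent.S4445

open CfsgLib.Char
open scoped CfsgLib.Char

/-- Points of the conjugation action. -/
structure Pt (Γ : Type*) where
  /-- The element. -/
  val : Γ

instance {Γ : Type*} [Group Γ] : MulAction Γ (Pt Γ) where
  smul a x := ⟨a * x.val * a⁻¹⟩
  one_smul x := by
    show (⟨1 * x.val * 1⁻¹⟩ : Pt Γ) = x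
    simp
  mul_smul a b x := by
    show (⟨a * b * x.val * (a * b)⁻¹⟩ : Pt Γ) = ⟨a * (b * x.val * b⁻¹) * a⁻¹⟩
    simp [mul_assoc]

/-- Inside a finite group Γ let the solvable subgroup S normalise G with the orders of G and S coprime. Then the number of S-invariant irreducible characters of G (χ(s g s⁻¹) = χ(g) for all s ∈ S, g ∈ G) equals the number of conjugacy classes of G mapped to themselves by conjugation by every element of S. -/
theorem result {Γ : Type*} [Group Γ] [Fintype Γ] (G S : Subgroup Γ) [Fintype G] (hnorm : ∀ s ∈ S, ∀ g ∈ G, s * g * s⁻¹ ∈ G) (hcop : (Nat.card G).Coprime (Nat.card S)) (hsolv : Group.IsSolvable S) : Nat.card {χ : Cfsg.IrrCharacter G // (∀ s ∈ S, ∀ g g' : G, (g' : Γ) = s * g * s⁻¹ → (χ : G → ℂ) g' = (χ : G → ℂ) g)} = Nat.card {K : ConjClasses G // ∀ s ∈ S, ∀ g g' : G, (g' : Γ) = s * g * s⁻¹ → ConjClasses.mk g = K → ConjClasses.mk g' = K} := by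
  classical
  have hS : S ≤ Subgroup.normalizer (G : Set Γ) := fun s hs =>
    Subgroup.mem_normalizer_iff.mpr fun x => ⟨hnorm s hs x, fun hx => by
      simpa [mul_assoc] using hnorm s⁻¹ (inv_mem hs) _ hx⟩
  rw [show Nat.card {χ : Cfsg.IrrCharacter G // (∀ s ∈ S, ∀ g g' : G, (g' : Γ) = s * g * s⁻¹ →
      (χ : G → ℂ) g' = (χ : G → ℂ) g)} =
    Nat.card {χ : Cfsg.IrrCharacter G // Glauberman.Inv G S (χ : G → ℂ)} from rfl,
    Glauberman.card_invariant hS hsolv hcop]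
  have hsmul : ∀ a x : Γ, a • (⟨x⟩ : Pt Γ) = ⟨a * x * a⁻¹⟩ := fun a x => rfl
  have hfix : ∀ (c : ↥(Glauberman.fix G S)), ∀ s ∈ S, ∀ g g' : G, (g' : Γ) = s * g * s⁻¹ →
      ConjClasses.mk g = ConjClasses.mk (⟨c, (Subgroup.mem_inf.mp c.2).1⟩ : G) →
      ConjClasses.mk g' = ConjClasses.mk (⟨c, (Subgroup.mem_inf.mp c.2).1⟩ : G) := by
    intro c s hs g g' e he
    obtain ⟨x, hx⟩ := isConj_iff.mp (ConjClasses.mk_eq_mk_iff_isConj.mp he)
    refine ConjClasses.mk_eq_mk_iff_isConj.mpr (isConj_iff.mpr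
      ⟨⟨s * x * s⁻¹, hnorm s hs x x.2⟩, Subtype.ext ?_⟩)
    have hx' : (x : Γ) * g * (x : Γ)⁻¹ = c := congrArg Subtype.val hx
    have hsc := Subgroup.mem_centralizer_iff.mp (Subgroup.mem_inf.mp c.2).2 s hs
    show s * (x : Γ) * s⁻¹ * g' * (s * (x : Γ) * s⁻¹)⁻¹ = c
    rw [e, show s * (x : Γ) * s⁻¹ * (s * g * s⁻¹) * (s * (x : Γ) * s⁻¹)⁻¹ =
      s * ((x : Γ) * g * (x : Γ)⁻¹) * s⁻¹ by group, hx', hsc, mul_inv_cancel_right]
  have hSG : (Nat.card S).Coprime (Nat.card G) := hcop.symm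
  refine Nat.card_eq_of_bijective (Quotient.lift (fun c => (⟨ConjClasses.mk
    (⟨c, (Subgroup.mem_inf.mp c.2).1⟩ : G), hfix c⟩ : {K : ConjClasses G // ∀ s ∈ S, ∀ g g' : G,
      (g' : Γ) = s * g * s⁻¹ → ConjClasses.mk g = K → ConjClasses.mk g' = K})) ?_) ⟨?_, ?_⟩
  · intro a b hab
    obtain ⟨x, hx⟩ := isConj_iff.mp hab
    exact Subtype.ext (ConjClasses.mk_eq_mk_iff_isConj.mpr (isConj_iff.mpr
      ⟨⟨x, (Subgroup.mem_inf.mp x.2).1⟩,
        Subtype.ext (congrArg (Subtype.val : Glauberman.fix G S → Γ) hx)⟩))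
  · rintro ⟨a⟩ ⟨b⟩ hab
    obtain ⟨x, hx⟩ := isConj_iff.mp (ConjClasses.mk_eq_mk_iff_isConj.mp (congrArg Subtype.val hab))
    have hx' : (x : Γ) * (a : Γ) * (x : Γ)⁻¹ = b := congrArg Subtype.val hx
    have hfx : ∀ (z : ↥(Glauberman.fix G S)), ∀ s ∈ S, s • (⟨z⟩ : Pt Γ) = ⟨z⟩ := fun z s hs => by
      rw [hsmul, Subgroup.mem_centralizer_iff.mp (Subgroup.mem_inf.mp z.2).2 s hs,
        mul_inv_cancel_right]
    obtain ⟨c, hc, hce⟩ := CfsgLib.Coprime.exists_centralizer_smul hS hSG (Or.inl hsolv)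
      (ω := (⟨a⟩ : Pt Γ)) (hfx a) x.2 (fun s hs => by rw [hsmul (x : Γ), hx']; exact hfx b s hs)
    refine ConjClasses.mk_eq_mk_iff_isConj.mpr (isConj_iff.mpr ⟨⟨c, hc⟩, Subtype.ext ?_⟩)
    exact (congrArg Pt.val hce).trans hx'
  · rintro ⟨K, hK⟩
    obtain ⟨g, rfl⟩ := Quotient.exists_rep K
    obtain ⟨k, hk, hkf⟩ := CfsgLib.Coprime.exists_fixed_of_coprime hS hSG (Or.inl hsolv)
      (⟨g⟩ : Pt Γ) (fun s hs => by
        obtain ⟨x, hx⟩ := isConj_iff.mp (ConjClasses.mk_eq_mk_iff_isConj.mp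
          (hK s hs g ⟨s * g * s⁻¹, hnorm s hs g g.2⟩ rfl rfl))
        have hx' : (x : Γ) * (s * g * s⁻¹) * (x : Γ)⁻¹ = g := congrArg Subtype.val hx
        refine ⟨(x : Γ)⁻¹, inv_mem x.2, ?_⟩
        rw [hsmul, hsmul]
        refine congrArg Pt.mk ?_
        calc s * (g : Γ) * s⁻¹ = (x : Γ)⁻¹ * ((x : Γ) * (s * g * s⁻¹) * (x : Γ)⁻¹) * (x : Γ)⁻¹⁻¹ := by
              group
          _ = _ := by rw [hx'])
    refine ⟨ConjClasses.mk ⟨k * (g : Γ) * k⁻¹, Subgroup.mem_inf.mpr ⟨G.mul_mem (G.mul_mem hk g.2)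
      (inv_mem hk), Subgroup.mem_centralizer_iff.mpr fun s hs => ?_⟩⟩, Subtype.ext ?_⟩
    · have h1 := congrArg Pt.val (hkf s hs)
      rw [hsmul, hsmul] at h1
      dsimp only at h1
      exact mul_inv_eq_iff_eq_mul.mp h1
    · exact ConjClasses.mk_eq_mk_iff_isConj.mpr
        (IsConj.symm (isConj_iff.mpr ⟨⟨k, hk⟩, Subtype.ext rfl⟩))

end Cfsg.Agent.S4445
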