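import Cfsg.Statements.S4446
import Cfsg.Agent.Lib.Char.GlaubermanCyclic

set_option autoImplicit false
open Cfsg

namespace Cfsg.Agent.S4446

open CfsgLib.Char
open scoped CfsgLib.Char

/-- Let the finite group Γ be generated by a normal subgroup G and a cyclic subgroup S of coprime orders, C = G ⊓ C(S), and let χ be an S-invariant irreducible character of G with canonical extension χ̂ to Γ (the extension whose determinantal order is coprime to the order of S). Then there are exactly one irreducible character β of C and one sign ε such that χ̂(c s) = ε β(c) for every c ∈ C and every generator s of S; this β is a constituent of the restriction of χ to C; distinct S-invariant χ give distinct β; and every irreducible character of C arises in this way. -/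
theorem result {Γ : Type*} [Group Γ] [Fintype Γ] (G S : Subgroup Γ) [Fintype G] (hnorm : ∀ s ∈ S, ∀ g ∈ G, s * g * s⁻¹ ∈ G) (hcop : (Nat.card G).Coprime (Nat.card S)) (htop : G ⊔ S = ⊤) (hcyc : IsCyclic S) (C : Subgroup Γ) [Fintype C] (hC : C = G ⊓ Subgroup.centralizer (S : Set Γ)) (hCG : C ≤ G) : (∀ (χ : Cfsg.IrrCharacter G) (χh : Cfsg.IrrCharacter Γ), (∀ s ∈ S, ∀ g g' : G, (g' : Γ) = s * g * s⁻¹ → (χ : G → ℂ) g' = (χ : G → ℂ) g) → (∀ g : G, (χh : Γ → ℂ) g = (χ : G → ℂ) g) → (Cfsg.detOrder (χh : Γ → ℂ)).Coprime (Nat.card S) → (∃! βε : Cfsg.IrrCharacter C × ℤ, (βε.2 = 1 ∨ βε.2 = -1) ∧ ∀ c : C, ∀ s : Γ, Subgroup.zpowers s = S → (χh : Γ → ℂ) ((c : Γ) * s) = (βε.2 : ℂ) * (βε.1 : C → ℂ) c) ∧ ∀ β : Cfsg.IrrCharacter C, ∀ ε : ℤ, (ε = 1 ∨ ε = -1) → (∀ c : C, ∀ s : Γ, Subgroup.zpowers s = S → (χh : Γ → ℂ) ((c : Γ) * s) = (ε : ℂ) * (β : C → ℂ) c) → Cfsg.classInner (fun c : C => (χ : G → ℂ) ⟨c, hCG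 c.2⟩) (β : C → ℂ) ≠ 0) ∧ (∀ (χ χ' : Cfsg.IrrCharacter G) (χh χh' : Cfsg.IrrCharacter Γ), (∀ s ∈ S, ∀ g g' : G, (g' : Γ) = s * g * s⁻¹ → (χ : G → ℂ) g' = (χ : G → ℂ) g) → (∀ s ∈ S, ∀ g g' : G, (g' : Γ) = s * g * s⁻¹ → (χ' : G → ℂ) g' = (χ' : G → ℂ) g) → (∀ g : G, (χh : Γ → ℂ) g = (χ : G → ℂ) g) → (∀ g : G, (χh' : Γ → ℂ) g = (χ' : G → ℂ) g) → (Cfsg.detOrder (χh : Γ → ℂ)).Coprime (Nat.card S) → (Cfsg.detOrder (χh' : Γ → ℂ)).Coprime (Nat.card S) → ∀ β : Cfsg.IrrCharacter C, ∀ ε ε' : ℤ, (ε = 1 ∨ ε = -1) → (ε' = 1 ∨ ε' = -1) → (∀ c : C, ∀ s : Γ, Subgroup.zpowers s = S → (χh : Γ → ℂ) ((c : Γ) * s) = (ε : ℂ) * (β : C → ℂ) c) → (∀ c : C, ∀ s : Γ, Subgroup.zpowers s = S → (χh' : Γ → ℂ) ((c : Γ) * s) = (ε' : ℂ) * (β : C → ℂ) c) → χ = χ') ∧ (∀ β : Cfsg.IrrCharacter C, ∃ (χ : Cfsg.IrrCharacter G) (χh : Cfsg.IrrCharacter Γ) (ε : ℤ), (∀ s ∈ S, ∀ g g' : G, (g' : Γ) = s * g * s⁻¹ → (χ : G → ℂ) g' = (χ :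 G → ℂ) g) ∧ (∀ g : G, (χh : Γ → ℂ) g = (χ : G → ℂ) g) ∧ (Cfsg.detOrder (χh : Γ → ℂ)).Coprime (Nat.card S) ∧ (ε = 1 ∨ ε = -1) ∧ ∀ c : C, ∀ s : Γ, Subgroup.zpowers s = S → (χh : Γ → ℂ) ((c : Γ) * s) = (ε : ℂ) * (β : C → ℂ) c) := by
  classical
  obtain ⟨⟨s0, hs0⟩, hgen⟩ := hcyc.exists_generator
  have hS : Subgroup.zpowers s0 = S := by
    refine le_antisymm (Subgroup.zpowers_le.mpr hs0) fun x hx => ?_
    obtain ⟨i, hi⟩ := Subgroup.mem_zpowers_iff.mp (hgen ⟨x, hx⟩)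
    exact Subgroup.mem_zpowers_iff.mpr ⟨i, by simpa using congrArg Subtype.val hi⟩
  subst hS
  rw [Nat.card_zpowers] at hcop ⊢
  haveI hnormal : G.Normal := by
    refine ⟨fun n hn g => ?_⟩
    have hg : g ∈ G ⊔ Subgroup.zpowers s0 := htop ▸ Subgroup.mem_top g
    have hle : G ⊔ Subgroup.zpowers s0 ≤ Subgroup.normalizer (G : Set Γ) := by
      refine sup_le Subgroup.le_normalizer fun t ht => ?_
      refine Subgroup.mem_normalizer_iff.mpr fun x => ⟨hnorm t ht x, fun hx => ?_⟩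
      have := hnorm t⁻¹ (inv_mem ht) _ hx
      simpa [mul_assoc] using this
    exact (Subgroup.mem_normalizer_iff.mp (hle hg) n).mp hn
  have hC' : ∀ c, c ∈ C ↔ c ∈ G ∧ c * s0 = s0 * c := fun c => by
    rw [hC, Subgroup.mem_inf, Subgroup.mem_centralizer_iff]
    refine and_congr_right fun _ => ⟨fun h => (h s0 (Subgroup.mem_zpowers s0)).symm, fun h x hx => ?_⟩
    obtain ⟨i, rfl⟩ := Subgroup.mem_zpowers_iff.mp hx
    exact (Commute.zpow_right h i).eq.symm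
  have hinv : ∀ χ : Cfsg.IrrCharacter G, (∀ s ∈ Subgroup.zpowers s0, ∀ g g' : G,
      (g' : Γ) = s * g * s⁻¹ → (χ : G → ℂ) g' = (χ : G → ℂ) g) → conjBy G (χ : G → ℂ) s0 = χ :=
    fun χ h => funext fun n => h s0 (Subgroup.mem_zpowers s0) n _ rfl
  have hcan : ∀ (χ : Cfsg.IrrCharacter G) (χh : Cfsg.IrrCharacter Γ),
      (∀ g : G, (χh : Γ → ℂ) g = (χ : G → ℂ) g) →
      (Cfsg.detOrder (χh : Γ → ℂ)).Coprime (orderOf s0) →
      Canonical.IsCanonical G s0 (χ : G → ℂ) (χh : Γ → ℂ) := fun χ χh h hd =>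
    ⟨χh.2, h, (Canonical.detOrder_coprime_iff htop hcop (isCharacter_of_isIrr χh.2)).mp hd⟩
  have hgens : ∀ (χ : Cfsg.IrrCharacter G) (χh : Γ → ℂ), Canonical.IsCanonical G s0 (χ : G → ℂ) χh →
      ∀ (c : C) (s : Γ), Subgroup.zpowers s = Subgroup.zpowers s0 →
        χh ((c : Γ) * s) = χh ((c : Γ) * s0) := by
    intro χ χh h c s hs
    obtain ⟨k, rfl⟩ : ∃ k : ℕ, s0 ^ k = s :=
      (mem_powers_iff_mem_zpowers).mpr (hs ▸ Subgroup.mem_zpowers s)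
    refine Canonical.canonical_coset htop hcop χ.2 h ((hC' c).mp c.2).1 ((hC' c).mp c.2).2 ?_
    have h1 : orderOf (s0 ^ k) = orderOf s0 := by
      rw [← Nat.card_zpowers, hs, Nat.card_zpowers]
    rw [orderOf_pow, Nat.div_eq_self] at h1
    exact Nat.coprime_comm.mp (Nat.coprime_iff_gcd_eq_one.mpr (h1.resolve_left (orderOf_pos s0).ne'))
  refine ⟨fun χ χh hχ hext hd => ?_, fun χ χ' χh χh' hχ hχ' hext hext' hd hd' β ε ε' hε hε' e e' => ?_,
    fun β => ?_⟩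
  · have h := hcan χ χh hext hd
    obtain ⟨β, ε, hε, he⟩ := Glauberman.exists_sign htop hcop hC' χ.2 h
    refine ⟨⟨(β, ε), ⟨hε, fun c s hs => by rw [hgens χ _ h c s hs]; exact he c⟩, ?_⟩, ?_⟩
    · rintro ⟨γ, δ⟩ ⟨hδ, hγ⟩
      have h1 : ∀ c : C, (δ : ℂ) * (γ : C → ℂ) c = (ε : ℂ) * (β : C → ℂ) c := fun c =>
        (hγ c s0 rfl).symm.trans (he c)
      have h2 : (δ : ℂ) • (γ : C → ℂ) = (ε : ℂ) • (β : C → ℂ) := funext h1
      have h3 := congrArg (fun f => classInner f (β : C → ℂ)) h2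
      simp only [classInner_smul_left, classInner_irr_self β.2, mul_one] at h3
      by_cases hgb : γ = β
      · subst hgb
        rw [classInner_irr_self γ.2, mul_one] at h3
        exact Prod.ext rfl (by exact_mod_cast h3)
      · rw [classInner_irr_ne γ.2 β.2 fun e => hgb (Subtype.ext e), mul_zero] at h3
        exact absurd h3.symm (Glauberman.isPos_sign hε)
    · intro γ δ hδ hγ
      have hz : classInner (fun c : C => (χh : Γ → ℂ) ((c : Γ) * s0)) (γ : C → ℂ) = (δ : ℂ) := by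
        rw [show (fun c : C => (χh : Γ → ℂ) ((c : Γ) * s0)) = (δ : ℂ) • (γ : C → ℂ) from
          funext fun c => hγ c s0 rfl, classInner_smul_left, classInner_irr_self γ.2, mul_one]
      obtain ⟨M, hM, hM0, -⟩ :=
        Glauberman.multiplicity_of_sign hC' (isCharacter_of_isIrr χh.2) γ hz
      rw [show (fun c : C => (χ : G → ℂ) ⟨c, hCG c.2⟩) = fun c : C => (χh : Γ → ℂ) (c : Γ) from
        funext fun c => (hext ⟨c, hCG c.2⟩).symm, hM, Nat.cast_ne_zero]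
      exact hM0 (by rcases hδ with rfl | rfl <;> norm_num)
  · exact Subtype.ext (Glauberman.sign_injective hcop hC' χ.2 χ'.2 (hcan χ χh hext hd)
      (hcan χ' χh' hext' hd') hε hε' (fun c => e c s0 rfl) fun c => e' c s0 rfl)
  · obtain ⟨θ, η, hθ, hθs, h, ε, hε, he⟩ := Glauberman.sign_surjective htop hcop hC' β
    refine ⟨⟨θ, hθ⟩, ⟨η, h.1⟩, ε, ?_, h.2.1,
      (Canonical.detOrder_coprime_iff htop hcop (isCharacter_of_isIrr h.1)).mpr h.2.2, hε,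
      fun c s hs => (hgens ⟨θ, hθ⟩ η h c s hs).trans (he c)⟩
    intro s hs g g' hg'
    have := congrFun (Canonical.invariant_of_fixed htop
      (isClassFunction_of_isCharacter (isCharacter_of_isIrr hθ)) hθs s) g
    rw [conjBy_apply] at this
    rw [show g' = ⟨s * g * s⁻¹, hnormal.conj_mem _ g.2 s⟩ from Subtype.ext hg']
    exact this

end Cfsg.Agent.S4446
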