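import Cfsg.Statements.S4448
import Cfsg.Agent.Lib.Char.InvariantAbove

set_option autoImplicit false
open Cfsg

namespace Cfsg.Agent.S4448

open CfsgLib.Char
open scoped CfsgLib.Char

/-- Inside a finite group Γ let S normalise G and also normalise a normal subgroup N of G, with the order of S coprime to the index of N in G and G/N solvable. Then for every S-invariant irreducible character ϑ of N, the induced character ϑ^G has an S-invariant irreducible constituent. -/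
theorem result {Γ : Type*} [Group Γ] [Fintype Γ] (G S N : Subgroup Γ) [Fintype G] [Fintype N] (hnorm : ∀ s ∈ S, ∀ g ∈ G, s * g * s⁻¹ ∈ G) (hNG : N ≤ G) [hNn : (N.subgroupOf G).Normal] (hNS : ∀ s ∈ S, ∀ n ∈ N, s * n * s⁻¹ ∈ N) (hcop : (N.relIndex G).Coprime (Nat.card S)) (hsolv : Group.IsSolvable (G ⧸ N.subgroupOf G)) (θ : Cfsg.IrrCharacter N) (hinv : (∀ s ∈ S, ∀ g g' : N, (g' : Γ) = s * g * s⁻¹ → (θ : N → ℂ) g' = (θ : N → ℂ) g)) : ∃ χ : Cfsg.IrrCharacter G, Cfsg.classInner (fun n : N => (χ : G → ℂ) ⟨n, hNG n.2⟩) (θ : N → ℂ) ≠ 0 ∧ (∀ s ∈ S, ∀ g g' : G, (g' : Γ) = s * g * s⁻¹ → (χ : G → ℂ) g' = (χ : G → ℂ) g) := by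
  classical
  have hS : ∀ {H : Subgroup Γ}, (∀ s ∈ S, ∀ x ∈ H, s * x * s⁻¹ ∈ H) →
      S ≤ Subgroup.normalizer (H : Set Γ) := fun h s hs =>
    Subgroup.mem_normalizer_iff.mpr fun x => ⟨h s hs x, fun hx => by
      simpa [mul_assoc] using h s⁻¹ (inv_mem hs) _ hx⟩
  obtain ⟨k, hk⟩ := hsolv.solvable
  have hder : (derivedSeries G k).map G.subtype ≤ N := by
    rintro _ ⟨x, hx, rfl⟩
    have h1 : (QuotientGroup.mk' (N.subgroupOf G)) x ∈ derivedSeries (G ⧸ N.subgroupOf G) k :=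
      map_derivedSeries_le_derivedSeries (QuotientGroup.mk' (N.subgroupOf G)) k ⟨x, hx, rfl⟩
    rw [hk, Subgroup.mem_bot] at h1
    exact Subgroup.mem_subgroupOf.mp ((QuotientGroup.eq_one_iff x).mp h1)
  exact InvariantAbove.exists_invariant_solvable (hS hnorm) _ N rfl hNG
    ((Subgroup.normal_subgroupOf_iff_le_normalizer hNG).mp hNn) (hS hNS) ⟨k, hder⟩ hcop θ hinv

end Cfsg.Agent.S4448
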