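import Cfsg.Statements.S4449
import Cfsg.Agent.Lib.Char.GlaubermanSolvable
import Cfsg.Agent.Lib.Coprime.Action

set_option autoImplicit false
open Cfsg

namespace Cfsg.Agent.S4449

open CfsgLib.Char
open scoped CfsgLib.Char

/-- Inside a finite group Γ let the solvable subgroup S normalise G with the orders of G and S coprime, and let N be a normal subgroup of G normalised by S. Then for every S-invariant irreducible character ϑ of N, the induced character ϑ^G has an S-invariant irreducible constituent. -/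
theorem result {Γ : Type*} [Group Γ] [Fintype Γ] (G S N : Subgroup Γ) [Fintype G] [Fintype N] (hnorm : ∀ s ∈ S, ∀ g ∈ G, s * g * s⁻¹ ∈ G) (hNG : N ≤ G) (hNnormal : ∀ g ∈ G, ∀ n ∈ N, g * n * g⁻¹ ∈ N) (hNS : ∀ s ∈ S, ∀ n ∈ N, s * n * s⁻¹ ∈ N) (hcop : (Nat.card G).Coprime (Nat.card S)) (hsolv : Group.IsSolvable S) (θ : Cfsg.IrrCharacter N) (hinv : (∀ s ∈ S, ∀ g g' : N, (g' : Γ) = s * g * s⁻¹ → (θ : N → ℂ) g' = (θ : N → ℂ) g)) : ∃ χ : Cfsg.IrrCharacter G, Cfsg.classInner (fun n : N => (χ : G → ℂ) ⟨n, hNG n.2⟩) (θ : N → ℂ) ≠ 0 ∧ (∀ s ∈ S, ∀ g g' : G, (g' : Γ) = s * g * s⁻¹ → (χ : G → ℂ) g' = (χ : G → ℂ) g) := by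
  classical
  have hS : ∀ {H : Subgroup Γ}, (∀ s ∈ S, ∀ x ∈ H, s * x * s⁻¹ ∈ H) →
      S ≤ Subgroup.normalizer (H : Set Γ) := fun h s hs =>
    Subgroup.mem_normalizer_iff.mpr fun x => ⟨h s hs x, fun hx => by
      simpa [mul_assoc] using h s⁻¹ (inv_mem hs) _ hx⟩
  have hGN : G ≤ Subgroup.normalizer (N : Set Γ) := fun g hg =>
    Subgroup.mem_normalizer_iff.mpr fun x => ⟨hNnormal g hg x, fun hx => by
      simpa [mul_assoc] using hNnormal g⁻¹ (inv_mem hg) _ hx⟩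
  obtain ⟨χ, h1, h2⟩ := Glauberman.exists_invariant_over (hS hnorm) (hS hNS) hNG hGN hsolv hcop hinv
  exact ⟨χ, (Glauberman.over_iff hNG _ _).mp h1, h2⟩

end Cfsg.Agent.S4449
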