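import Cfsg.Statements.S4450
import Cfsg.Agent.Lib.Char.TripleAbove

set_option autoImplicit false
open Cfsg

namespace Cfsg.Agent.S4450

open CfsgLib.Char
open scoped CfsgLib.Char

/-- Let N ≤ G be normal subgroups of the finite group Γ with the index of G in Γ coprime to the index of N in G, and Γ/G or G/N solvable. Then for every irreducible character ϑ of N invariant under conjugation by Γ, the induced character ϑ^G has an irreducible constituent invariant under conjugation by Γ. -/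
theorem result {Γ : Type*} [Group Γ] [Fintype Γ] (G N : Subgroup Γ) [hG : G.Normal] [hN : N.Normal] [Fintype G] [Fintype N] (hNG : N ≤ G) (hcop : (G.index).Coprime (N.relIndex G)) (hsolv : Group.IsSolvable (Γ ⧸ G) ∨ Group.IsSolvable (G ⧸ N.subgroupOf G)) (θ : Cfsg.IrrCharacter N) (hinv : ∀ (x : Γ) (n : N), (θ : N → ℂ) ⟨x * n * x⁻¹, hN.conj_mem n n.2 x⟩ = (θ : N → ℂ) n) : ∃ χ : Cfsg.IrrCharacter G, Cfsg.classInner (fun n : N => (χ : G → ℂ) ⟨n, hNG n.2⟩) (θ : N → ℂ) ≠ 0 ∧ ∀ (x : Γ) (g : G), (χ : G → ℂ) ⟨x * g * x⁻¹, hG.conj_mem g g.2 x⟩ = (χ : G → ℂ) g := by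
  classical
  rcases hsolv with h1 | h2
  · exact TripleAbove.exists_invariant_of_solvable_quotient hNG hcop h1 θ
      fun g => funext fun n => hinv g n
  obtain ⟨S, hGS, hSp⟩ := InvariantAbove.exists_supplement G
  obtain ⟨k, hk⟩ := h2.solvable
  have hder : (derivedSeries G k).map G.subtype ≤ N := by
    rintro _ ⟨x, hx, rfl⟩
    have h1 : (QuotientGroup.mk' (N.subgroupOf G)) x ∈ derivedSeries (G ⧸ N.subgroupOf G) k :=
      map_derivedSeries_le_derivedSeries (QuotientGroup.mk' (N.subgroupOf G)) k ⟨x, hx, rfl⟩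
    rw [hk, Subgroup.mem_bot] at h1
    exact Subgroup.mem_subgroupOf.mp ((QuotientGroup.eq_one_iff x).mp h1)
  have hcop' : (N.relIndex G).Coprime (Nat.card S) := Nat.coprime_of_dvd fun r hr h1 h2 =>
    hr.one_lt.ne' (Nat.eq_one_of_dvd_coprimes hcop (hSp r hr h2) h1)
  obtain ⟨χ, hχ, hχS⟩ := InvariantAbove.exists_invariant_solvable
    (S := S) ((Subgroup.normalizer_eq_top G).symm ▸ le_top) _ N rfl hNG
    ((Subgroup.normalizer_eq_top N).symm ▸ le_top) ((Subgroup.normalizer_eq_top N).symm ▸ le_top)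
    ⟨k, hder⟩ hcop' θ (fun s hs n n' e => by
      refine (congrArg (θ : N → ℂ) ?_).trans (hinv s n)
      exact Subtype.ext e)
  refine ⟨χ, hχ, fun x g => ?_⟩
  obtain ⟨a, ha, t, ht, rfl⟩ := Subgroup.mem_sup_of_normal_left.mp
    (show x ∈ G ⊔ S from hGS ▸ Subgroup.mem_top x)
  have h3 := isClassFunction_of_isCharacter (isCharacter_of_isIrr χ.2)
    ⟨t * g * t⁻¹, hG.conj_mem g g.2 t⟩ ⟨a, ha⟩
  refine Eq.trans ((congrArg (χ : G → ℂ) (Subtype.ext ?_)).trans h3) (hχS t ht g _ rfl)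
  show a * t * (g : Γ) * (a * t)⁻¹ = a * (t * g * t⁻¹) * a⁻¹
  group

end Cfsg.Agent.S4450
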