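import Cfsg.Statements.S4451
import Cfsg.Agent.Lib.Char.GlaubermanFpf
import Cfsg.Agent.Lib.Char.Extraspecial

set_option autoImplicit false
open Cfsg

namespace Cfsg.Agent.S4451

open CfsgLib.Char
open scoped CfsgLib.Char

/-- Let the finite group Γ be generated by a normal subgroup G and a cyclic subgroup S of coprime orders such that every non-identity element of S has the same centraliser C = G ⊓ C(S) in G. Let χ be an S-invariant irreducible character of G, χ̂ its canonical extension to Γ (determinantal order coprime to the order of S), and β the irreducible character of C with χ̂(c s) = ε₀ β(c) for c ∈ C and generators s of S (ε₀ = ±1). Then there are a sign ε = ±1, which may differ from ε₀, and a linear character μ of S with μ² = 1, such that: (a) χ̂(c x) = ε β(c) μ(x) for all c ∈ C and all x ∈ S other than 1; (b) the restriction of χ to C equals |S|·ϑ + ε β for some character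 ϑ of C or ϑ = 0; (c) |S| divides χ(1) − ε β(1). -/
theorem result {Γ : Type*} [Group Γ] [Fintype Γ] (G S : Subgroup Γ) [Fintype G] (hnorm : ∀ s ∈ S, ∀ g ∈ G, s * g * s⁻¹ ∈ G) (hcop : (Nat.card G).Coprime (Nat.card S)) (htop : G ⊔ S = ⊤) (hcyc : IsCyclic S) (C : Subgroup Γ) [Fintype C] (hC : C = G ⊓ Subgroup.centralizer (S : Set Γ)) (hCG : C ≤ G) (hfpf : ∀ x ∈ S, x ≠ 1 → G ⊓ Subgroup.centralizer ({x} : Set Γ) = C) (χ : Cfsg.IrrCharacter G) (hinv : (∀ s ∈ S, ∀ g g' : G, (g' : Γ) = s * g * s⁻¹ → (χ : G → ℂ) g' = (χ : G → ℂ) g)) (χh : Cfsg.IrrCharacter Γ) (hext : (∀ g : G, (χh : Γ → ℂ) g = (χ : G → ℂ) g)) (hdet : (Cfsg.detOrder (χh : Γ → ℂ)).Coprime (Nat.card S)) (β : Cfsg.IrrCharacter C) (ε₀ : ℤ) (hε₀ : ε₀ = 1 ∨ ε₀ = -1) (hβ : ∀ c : C, ∀ s : Γ, Subgroup.zpowers s = S → (χh : Γ → ℂ) ((c : Γ) * s) = (ε₀ : ℂ) * (β : C → ℂ) c) : ∃ ε : ℤ, (ε = 1 ∨ ε = -1) ∧ (∃ μ : S → ℂ, Cfsg.IsCharacter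 S μ ∧ μ 1 = 1 ∧ (∀ x : S, μ x * μ x = 1) ∧ ∀ c : C, ∀ x : S, x ≠ 1 → (χh : Γ → ℂ) ((c : Γ) * x) = (ε : ℂ) * (β : C → ℂ) c * μ x) ∧ (∃ ϑ : C → ℂ, Cfsg.IsCharacter C ϑ ∧ (fun c : C => (χ : G → ℂ) ⟨c, hCG c.2⟩) = fun c => (Nat.card S : ℂ) * ϑ c + (ε : ℂ) * (β : C → ℂ) c) ∧ (Nat.card S : ℤ) ∣ (Cfsg.charDegree (χ : G → ℂ) : ℤ) - ε * (Cfsg.charDegree (β : C → ℂ) : ℤ) := by
  classical
  obtain ⟨⟨s0, hs0⟩, hgen⟩ := hcyc.exists_generator
  have hS : Subgroup.zpowers s0 = S := by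
    refine le_antisymm (Subgroup.zpowers_le.mpr hs0) fun x hx => ?_
    obtain ⟨i, hi⟩ := Subgroup.mem_zpowers_iff.mp (hgen ⟨x, hx⟩)
    exact Subgroup.mem_zpowers_iff.mpr ⟨i, by simpa using congrArg Subtype.val hi⟩
  subst hS
  rw [Nat.card_zpowers] at hcop ⊢
  obtain ⟨d, hd⟩ := exists_nat_degree (isCharacter_of_isIrr χ.2)
  obtain ⟨b, hb⟩ := exists_nat_degree (isCharacter_of_isIrr β.2)
  have hdeg : ∀ (ε : ℤ) (ϑ : C → ℂ), Cfsg.IsCharacter C ϑ →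
      ((fun c : C => (χ : G → ℂ) ⟨c, hCG c.2⟩) = fun c => (orderOf s0 : ℂ) * ϑ c + (ε : ℂ) * (β : C → ℂ) c) →
      ((orderOf s0 : ℕ) : ℤ) ∣ (Cfsg.charDegree (χ : G → ℂ) : ℤ) - ε * (Cfsg.charDegree (β : C → ℂ) : ℤ) := by
    intro ε ϑ hϑ e
    obtain ⟨n, hn⟩ := exists_nat_degree hϑ
    have h1 := congrFun e 1
    rw [hn, hb] at h1
    rw [Extraspecial.charDegree_eq hd, Extraspecial.charDegree_eq hb]
    refine ⟨n, ?_⟩
    have h2 : (χ : G → ℂ) ⟨((1 : C) : Γ), hCG (1 : C).2⟩ = (d : ℂ) := hd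
    rw [h2] at h1
    have h3 : (d : ℤ) = (orderOf s0 : ℤ) * n + ε * b := by exact_mod_cast h1
    rw [h3]; ring
  by_cases hm : orderOf s0 = 1
  · have hs1 : s0 = 1 := orderOf_eq_one_iff.mp hm
    have hCe : ∀ c : C, (χ : G → ℂ) ⟨c, hCG c.2⟩ = (ε₀ : ℂ) * (β : C → ℂ) c := fun c => by
      have := hβ c s0 rfl
      rw [hs1, mul_one] at this
      rw [← this, ← hext ⟨c, hCG c.2⟩]
    have e : (fun c : C => (χ : G → ℂ) ⟨c, hCG c.2⟩) =
        fun c => (orderOf s0 : ℂ) * (0 : C → ℂ) c + (ε₀ : ℂ) * (β : C → ℂ) c := funext fun c => by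
      simp [hCe c]
    refine ⟨ε₀, hε₀, ⟨fun _ => 1, isCharacter_one, rfl, fun x => one_mul _, fun c x hx => ?_⟩,
      ⟨0, isCharacter_zero, e⟩, hdeg ε₀ 0 isCharacter_zero e⟩
    exfalso
    apply hx
    obtain ⟨i, hi⟩ := Subgroup.mem_zpowers_iff.mp x.2
    exact Subtype.ext (by rw [← hi, hs1, one_zpow]; rfl)
  have hm2 : 2 ≤ orderOf s0 := by have := orderOf_pos s0; omega
  haveI hnormal : G.Normal := by
    refine ⟨fun n hn g => ?_⟩
    have hg : g ∈ G ⊔ Subgroup.zpowers s0 := htop ▸ Subgroup.mem_top g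
    have hle : G ⊔ Subgroup.zpowers s0 ≤ Subgroup.normalizer (G : Set Γ) := by
      refine sup_le Subgroup.le_normalizer fun t ht => ?_
      refine Subgroup.mem_normalizer_iff.mpr fun x => ⟨hnorm t ht x, fun hx => ?_⟩
      have := hnorm t⁻¹ (inv_mem ht) _ hx
      simpa [mul_assoc] using this
    exact (Subgroup.mem_normalizer_iff.mp (hle hg) n).mp hn
  have hC' : ∀ i, 0 < i → i < orderOf s0 → ∀ c, c ∈ C ↔ c ∈ G ∧ c * s0 ^ i = s0 ^ i * c := by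
    intro i h0 hi c
    rw [← hfpf (s0 ^ i) (Subgroup.npow_mem_zpowers s0 i) (pow_ne_one_of_lt_orderOf h0.ne' hi),
      Subgroup.mem_inf, Subgroup.mem_centralizer_singleton_iff]
  obtain ⟨ε, z, hε, hz, hzm, hval, ϑ, hϑ, hres⟩ := Glauberman.fpf_values hcop hC' hm2 χ.2 χh.2
    (fun g => hext g) β hε₀ (fun c => hβ c s0 rfl)
  have e : (fun c : C => (χ : G → ℂ) ⟨c, hCG c.2⟩) =
      fun c => (orderOf s0 : ℂ) * ϑ c + (ε : ℂ) * (β : C → ℂ) c := by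
    rw [← hres]; exact funext fun c => (hext ⟨c, hCG c.2⟩).symm
  set g0 : Subgroup.zpowers s0 := ⟨s0, Subgroup.mem_zpowers s0⟩ with hg0
  have hgen' : ∀ x : Subgroup.zpowers s0, x ∈ Subgroup.zpowers g0 := hgen
  set u : ℂˣ := Units.mk0 (z : ℂ) (Glauberman.isPos_sign hz) with hu
  have hu1 : u ^ orderOf g0 = 1 := Units.ext (by
    rw [← Subgroup.orderOf_coe, Units.val_pow_eq_pow_val]; exact hzm)
  set μ : Subgroup.zpowers s0 →* ℂˣ :=
    monoidHomOfForallMemZpowers hgen' (orderOf_dvd_of_pow_eq_one hu1) with hμ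
  refine ⟨ε, hε, ⟨fun x => (μ x : ℂ), isCharacter_monoidHom μ, by simp, fun x => ?_, fun c x hx => ?_⟩,
    ⟨ϑ, hϑ, e⟩, hdeg ε ϑ hϑ e⟩
  · obtain ⟨i, rfl⟩ := (mem_powers_iff_mem_zpowers).mpr (hgen' x)
    show (μ (g0 ^ i) : ℂ) * (μ (g0 ^ i) : ℂ) = 1
    rw [map_pow, hμ, monoidHomOfForallMemZpowers_apply_gen, Units.val_pow_eq_pow_val, hu,
      Units.val_mk0, ← mul_pow]
    rcases hz with rfl | rfl <;> norm_num
  · obtain ⟨i, rfl⟩ := (mem_powers_iff_mem_zpowers).mpr (hgen' x)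
    set j := i % orderOf s0 with hj
    have hje : g0 ^ i = g0 ^ j := by
      rw [hj, show orderOf s0 = orderOf g0 from (Subgroup.orderOf_coe g0), pow_mod_orderOf]
    have hx' : g0 ^ j ≠ 1 := fun h => hx (by show g0 ^ i = 1; rw [hje, h])
    have hjne : j ≠ 0 := fun h => hx' (by rw [h, pow_zero])
    show (χh : Γ → ℂ) ((c : Γ) * ((g0 ^ i : Subgroup.zpowers s0) : Γ)) = _ * (μ (g0 ^ i) : ℂ)
    rw [hje, map_pow, hμ, monoidHomOfForallMemZpowers_apply_gen, Units.val_pow_eq_pow_val, hu,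
      Units.val_mk0, SubgroupClass.coe_pow]
    exact hval j (Nat.pos_of_ne_zero hjne) (Nat.mod_lt _ (orderOf_pos s0)) c

end Cfsg.Agent.S4451
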