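import Cfsg.Statements.S4452
import Cfsg.Agent.Lib.Char.CoprimeDegree

set_option autoImplicit false
open Cfsg

namespace Cfsg.Agent.S4452

open CfsgLib.Char
open scoped CfsgLib.Char

/-- Let the finite group G be the product of a normal subgroup K and a solvable subgroup H of coprime orders, and let N = N_G(H). Then the number of irreducible characters of G of degree coprime to the order of H equals the number of irreducible characters of N of degree coprime to the order of H. (The two sets are in fact in a canonical bijection; only the equality of their sizes is stated here.) -/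
theorem result {G : Type*} [Group G] [Finite G] (K H : Subgroup G) [K.Normal] (hKH : K ⊔ H = ⊤) (hcop : (Nat.card K).Coprime (Nat.card H)) (hsolv : Group.IsSolvable H) : Nat.card {χ : Cfsg.IrrCharacter G // (Cfsg.charDegree (χ : G → ℂ)).Coprime (Nat.card H)} = Nat.card {η : Cfsg.IrrCharacter (Subgroup.normalizer (H : Set G)) // (Cfsg.charDegree (η : Subgroup.normalizer (H : Set G) → ℂ)).Coprime (Nat.card H)} := by
  classical
  haveI := Fintype.ofFinite G
  set M := Subgroup.normalizer (H : Set G) with hM
  haveI := Fintype.ofFinite M
  have hHM : H ≤ M := Subgroup.le_normalizer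
  set K' := K.subgroupOf M with hK'
  set H' := H.subgroupOf M with hH'
  haveI : K'.Normal := Subgroup.Normal.subgroupOf (inferInstance : K.Normal) M
  have eH : H' ≃* H := Subgroup.subgroupOfEquivOfLe hHM
  have hcardH : Nat.card H' = Nat.card H := Nat.card_congr eH.toEquiv
  have hcop' : (Nat.card K').Coprime (Nat.card H') := by
    rw [hcardH]
    refine hcop.coprime_dvd_left ?_
    rw [hK', ← Subgroup.card_map_of_injective M.subtype_injective]
    exact Subgroup.card_dvd_of_le ((Subgroup.subgroupOf_map_subtype K M).le.trans inf_le_left)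
  have hKH' : K' ⊔ H' = ⊤ := by
    refine eq_top_iff.mpr fun x _ => ?_
    obtain ⟨k, hk, h, hh, e⟩ := Glauberman.exists_mul (G := G) hKH (x : G)
    have hkM : k ∈ M := by
      rw [show k = (x : G) * h⁻¹ by rw [e, mul_inv_cancel_right]]
      exact M.mul_mem x.2 (M.inv_mem (hHM hh))
    rw [show x = (⟨k, hkM⟩ : M) * ⟨h, hHM hh⟩ from Subtype.ext e]
    exact Subgroup.mul_mem _ (Subgroup.mem_sup_left (Subgroup.mem_subgroupOf.mpr hk))
      (Subgroup.mem_sup_right (Subgroup.mem_subgroupOf.mpr hh))
  haveI : Group.IsSolvable H' := by
    haveI := hsolv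
    exact CfsgLib.Coprime.isSolvable_of_le le_rfl
      (Group.isSolvable_of_surjective (f := eH.symm.toMonoidHom) eH.symm.surjective)
  rw [Glauberman.card_coprime_degree hKH hcop hsolv, ← hcardH,
    Glauberman.card_coprime_degree hKH' hcop' inferInstance]
  have hfix : Glauberman.fix K' H' = (Glauberman.fix K H).subgroupOf M := by
    ext x
    simp only [Glauberman.fix, Subgroup.mem_inf, Subgroup.mem_subgroupOf, hK', hH',
      Subgroup.mem_centralizer_iff, SetLike.mem_coe]
    refine and_congr_right fun _ => ⟨fun h y hy => ?_, fun h y hy => Subtype.ext (h y hy)⟩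
    exact congrArg Subtype.val (h ⟨y, hHM hy⟩ hy)
  have hle : Glauberman.fix K H ≤ M := fun c hc =>
    Glauberman.mem_normalizer_of_commute fun h hh =>
      (Subgroup.mem_centralizer_iff.mp (Subgroup.mem_inf.mp hc).2 h hh).symm
  set e : Glauberman.fix K' H' ≃* Glauberman.fix K H :=
    (MulEquiv.subgroupCongr hfix).trans (Subgroup.subgroupOfEquivOfLe hle) with he
  congr 1
  · rw [← card_irr_eq_card_conjClasses, ← card_irr_eq_card_conjClasses]
    exact Nat.card_congr
      { toFun := fun φ => ⟨fun c => (φ : _ → ℂ) (e c), isIrrCharacter_comp_mulEquiv e φ.2⟩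
        invFun := fun φ => ⟨fun c => (φ : _ → ℂ) (e.symm c), isIrrCharacter_comp_mulEquiv e.symm φ.2⟩
        left_inv := fun φ => Subtype.ext (funext fun c => by simp)
        right_inv := fun φ => Subtype.ext (funext fun c => by simp) }
  · exact Nat.card_congr
      { toFun := fun μ => μ.comp eH.toMonoidHom
        invFun := fun μ => μ.comp eH.symm.toMonoidHom
        left_inv := fun μ => MonoidHom.ext fun x => by simp
        right_inv := fun μ => MonoidHom.ext fun x => by simp }

end Cfsg.Agent.S4452
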