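import Cfsg.Statements.S4453
import Cfsg.Agent.Lib.Char.OddSection.Reduction

set_option autoImplicit false
open Cfsg

namespace Cfsg.Agent.S4453

/-- Inside a finite group Γ let S normalise the solvable subgroup G of odd order with the orders of G and S coprime, let C = G ⊓ C(S), and let L ≤ K be S-invariant normal subgroups of G with K/L abelian, G = KC and H = LC (so C ≤ H ≤ G). Then for each S-invariant irreducible character χ of G there is exactly one S-invariant irreducible character ψ of H whose multiplicity in the restriction of χ to H is odd, and χ ↦ ψ is a bijection from the S-invariant irreducible characters of G onto those of H (distinct χ give distinct ψ, and every S-invariant ψ arises). -/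
theorem result {Γ : Type*} [Group Γ] [Fintype Γ] (G S : Subgroup Γ) [Fintype G] (hnorm : ∀ s ∈ S, ∀ g ∈ G, s * g * s⁻¹ ∈ G) (hcop : (Nat.card G).Coprime (Nat.card S)) (hGsolv : Group.IsSolvable G) (hodd : Odd (Nat.card G)) (C : Subgroup Γ) [Fintype C] (hC : C = G ⊓ Subgroup.centralizer (S : Set Γ)) (hCG : C ≤ G) (K L H : Subgroup Γ) [Fintype H] (hLK : L ≤ K) (hKG : K ≤ G) (hKn : ∀ g ∈ G, ∀ k ∈ K, g * k * g⁻¹ ∈ K) (hLn : ∀ g ∈ G, ∀ l ∈ L, g * l * g⁻¹ ∈ L) (hKS : ∀ s ∈ S, ∀ k ∈ K, s * k * s⁻¹ ∈ K) (hLS : ∀ s ∈ S, ∀ l ∈ L, s * l * s⁻¹ ∈ L) (hab : ∀ a ∈ K, ∀ b ∈ K, a * b * a⁻¹ * b⁻¹ ∈ L) (hGKC : K ⊔ C = G) (hH : H = L ⊔ C) (hHG : H ≤ G) : (∀ χ : Cfsg.IrrCharacter G, (∀ s ∈ S, ∀ g g' : G, (g' : Γ) = s * g * s⁻¹ → (χ : G → ℂ) g' = (χ : G → ℂ) g) → ∃! ψ : Cfsg.IrrCharacter H, (∀ s ∈ S, ∀ g g' : H, (g' : Γ) = s * g * s⁻¹ → (ψ : H → ℂ) g' = (ψ : H → ℂ) g) ∧ ∃ m : ℕ, Cfsg.classInner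 (fun h : H => (χ : G → ℂ) ⟨h, hHG h.2⟩) (ψ : H → ℂ) = (m : ℂ) ∧ Odd m) ∧ (∀ χ χ' : Cfsg.IrrCharacter G, (∀ s ∈ S, ∀ g g' : G, (g' : Γ) = s * g * s⁻¹ → (χ : G → ℂ) g' = (χ : G → ℂ) g) → (∀ s ∈ S, ∀ g g' : G, (g' : Γ) = s * g * s⁻¹ → (χ' : G → ℂ) g' = (χ' : G → ℂ) g) → ∀ ψ : Cfsg.IrrCharacter H, (∀ s ∈ S, ∀ g g' : H, (g' : Γ) = s * g * s⁻¹ → (ψ : H → ℂ) g' = (ψ : H → ℂ) g) → ∀ m m' : ℕ, Cfsg.classInner (fun h : H => (χ : G → ℂ) ⟨h, hHG h.2⟩) (ψ : H → ℂ) = (m : ℂ) → Odd m → Cfsg.classInner (fun h : H => (χ' : G → ℂ) ⟨h, hHG h.2⟩) (ψ : H → ℂ) = (m' : ℂ) → Odd m' → χ = χ') ∧ (∀ ψ : Cfsg.IrrCharacter H, (∀ s ∈ S, ∀ g g' : H, (g' : Γ) = s * g * s⁻¹ → (ψ : H → ℂ) g' = (ψ : H → ℂ) g) → ∃ χ : Cfsg.IrrCharacter G, (∀ s ∈ S, ∀ g g' : G, (g' : Γ) = s * g * s⁻¹ → (χ : G → ℂ) g' = (χ : G → ℂ) g) ∧ ∃ m : ℕ, Cfsg.classInner (fun h : H => (χ : G → ℂ) ⟨h, hHG h.2⟩) (ψ : H → ℂ) =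 (m : ℂ) ∧ Odd m) := by
  have hnz : ∀ {A : Subgroup Γ}, (∀ s ∈ S, ∀ x ∈ A, s * x * s⁻¹ ∈ A) →
      S ≤ Subgroup.normalizer (A : Set Γ) := fun h s hs =>
    Subgroup.mem_normalizer_iff.mpr fun x => ⟨h s hs x, fun hx => by
      simpa [mul_assoc] using h s⁻¹ (inv_mem hs) _ hx⟩
  have hGn : ∀ {A : Subgroup Γ}, (∀ g ∈ G, ∀ x ∈ A, g * x * g⁻¹ ∈ A) →
      G ≤ Subgroup.normalizer (A : Set Γ) := fun h g hg =>
    Subgroup.mem_normalizer_iff.mpr fun x => ⟨h g hg x, fun hx => by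
      simpa [mul_assoc] using h g⁻¹ (inv_mem hg) _ hx⟩
  subst hC
  subst hH
  have hKn' := hGn hKn
  have hLn' := hGn hLn
  have hLH : L ≤ L ⊔ (G ⊓ Subgroup.centralizer (S : Set Γ)) := le_sup_left
  have hnKH : G ≤ Subgroup.normalizer
      ((K ⊓ (L ⊔ (G ⊓ Subgroup.centralizer (S : Set Γ))) : Subgroup Γ) : Set Γ) := by
    conv_lhs => rw [← hGKC]
    refine sup_le ?_ (CfsgLib.Coprime.le_normalizer_inf_of_le (inf_le_left.trans hKn')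
      ((le_sup_right : _ ≤ L ⊔ (G ⊓ Subgroup.centralizer (S : Set Γ))).trans Subgroup.le_normalizer))
    intro k hk
    refine Subgroup.mem_normalizer_iff.mpr fun x => ?_
    have h1 : ∀ k ∈ K, ∀ x ∈ K ⊓ (L ⊔ (G ⊓ Subgroup.centralizer (S : Set Γ))),
        k * x * k⁻¹ ∈ K ⊓ (L ⊔ (G ⊓ Subgroup.centralizer (S : Set Γ))) := fun k hk x hx => by
      have e : k * x * k⁻¹ = k * x * k⁻¹ * x⁻¹ * x := by group
      rw [e]
      exact Subgroup.mul_mem _ ⟨hLK (hab k hk x hx.1), hLH (hab k hk x hx.1)⟩ hx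
    exact ⟨h1 k hk x, fun hx => by simpa [mul_assoc] using h1 k⁻¹ (inv_mem hk) _ hx⟩
  have hSC : S ≤ Subgroup.normalizer ((G ⊓ Subgroup.centralizer (S : Set Γ) : Subgroup Γ) : Set Γ) :=
    hnz fun s hs x hx => by
      rw [Subgroup.mem_centralizer_iff.mp hx.2 s hs, mul_inv_cancel_right]; exact hx
  have hSH := CfsgLib.Coprime.le_normalizer_sup_of_le (hnz hLS) hSC
  have D : CfsgLib.Char.OddSection.Data G K (K ⊓ (L ⊔ (G ⊓ Subgroup.centralizer (S : Set Γ))))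
      (L ⊔ (G ⊓ Subgroup.centralizer (S : Set Γ))) S :=
    { hLK := inf_le_left
      hKG := hKG
      hLH := inf_le_right
      hHG := hHG
      hKn := hKn'
      hLn := hnKH
      hSG := hnz hnorm
      hSK := hnz hKS
      hSL := CfsgLib.Coprime.le_normalizer_inf_of_le (hnz hKS) hSH
      hSH := hSH
      cop := hcop
      solv := hGsolv
      odd := hodd
      abelian := fun a ha b hb => ⟨hLK (hab a ha b hb), hLH (hab a ha b hb)⟩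
      hgen := hGKC
      hH := le_antisymm (sup_le inf_le_right le_sup_right)
        (sup_le (le_sup_of_le_left (le_inf hLK le_sup_left)) le_sup_right)
      hinf := rfl }
  exact D.correspondence

end Cfsg.Agent.S4453
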