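import Cfsg.Statements.S4454
import Cfsg.Agent.Lib.Char.ExtendChar
import Cfsg.Agent.Lib.Char.Gallagher
import Cfsg.Agent.Lib.Char.Clifford
import Cfsg.Agent.Lib.Char.Table
import Cfsg.Agent.Lib.Char.Constituents

set_option autoImplicit false
set_option linter.style.haveILetI false
open Cfsg
open CfsgLib
open scoped CfsgLib.Char ComplexConjugate

namespace Cfsg.Agent.S4454

/-- The norm of a character over an invariant character with cyclic factor group. -/
theorem dvd_of_norm {H : Type*} [Group H] [Fintype H] (N : Subgroup H) [N.Normal] [Fintype N]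
    (hcyc : IsCyclic (H ⧸ N)) {θ : N → ℂ} (hθ : IsIrrCharacter N θ)
    (hinv : ∀ g, Char.conjBy N θ g = θ) {φ : H → ℂ} (hφ : IsCharacter H φ) (e : ℕ)
    (hres : ∀ n : N, φ n = (e : ℂ) * θ n)
    (hnorm : (N.index : ℂ) * classInner φ φ = (e : ℂ) * e + N.index - 1) :
    (N.index : ℤ) ∣ (e : ℤ) - 1 ∨ (N.index : ℤ) ∣ (e : ℤ) + 1 := by
  classical
  set m := N.index with hmdef
  have hm0 : m ≠ 0 := Subgroup.index_ne_zero_of_finite
  obtain ⟨η, hη, hηθ⟩ := Char.extends_of_cyclic N hθ hinv hcyc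
  obtain ⟨y, hy⟩ := IsCyclic.exists_generator (α := H ⧸ N)
  have hord : orderOf y = m := by
    rw [orderOf_eq_card_of_forall_mem_zpowers hy, hmdef, Subgroup.index_eq_card]
  obtain ⟨ζ, hζ⟩ : ∃ ζ : ℂ, IsPrimitiveRoot ζ m := ⟨_, Complex.isPrimitiveRoot_exp m hm0⟩
  let u : ℂˣ := (hζ.isUnit hm0).unit
  have hu : IsPrimitiveRoot u m := hζ.isUnit_unit hm0
  have hu' : orderOf u ∣ orderOf y := by rw [hord, ← hu.eq_orderOf]
  let β : H →* ℂˣ := (monoidHomOfForallMemZpowers hy hu').comp (QuotientGroup.mk' N)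
  have hβN : ∀ h : H, β h = 1 ↔ h ∈ N := by
    intro h
    show monoidHomOfForallMemZpowers hy hu' (QuotientGroup.mk' N h) = 1 ↔ _
    obtain ⟨i, hi⟩ := Subgroup.mem_zpowers_iff.mp (hy (QuotientGroup.mk' N h))
    rw [← hi, map_zpow, monoidHomOfForallMemZpowers_apply_gen, hu.zpow_eq_one_iff_dvd,
      ← hord, orderOf_dvd_iff_zpow_eq_one, hi]
    exact QuotientGroup.eq_one_iff h
  have hirr : ∀ j : ℕ, IsIrrCharacter H (fun h => ((β h : ℂ)) ^ j * η h) := by
    intro j
    refine Char.isIrr_of_restrict N (Char.isCharacter_mul ?_ (Char.isCharacter_of_isIrr hη)) ?_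
    · have := Char.isCharacter_monoidHom ((powMonoidHom j).comp β)
      simpa using this
    · rw [show (fun n : N => ((β (n : H) : ℂ)) ^ j * η n) = θ from funext fun n => by
        rw [(hβN n).mpr n.2, Units.val_one, one_pow, one_mul, hηθ]]
      exact hθ
  let ηj : Fin m → IrrCharacter H := fun j => ⟨_, hirr j⟩
  have hinj : Function.Injective ηj := by
    intro i j hij
    have hg := Char.gallagher N (φ := fun _ : N => (1 : ℂ)) Char.isIrrCharacter_one
      (fun _ => rfl) hinv (by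
        rw [show (fun _ : N => (1 : ℂ)) * θ = θ from one_mul θ]; exact hθ) hη hηθ
    have hmem : ∀ k : ℕ, (fun h => ((β h : ℂ)) ^ k) ∈ {b : H → ℂ |
        IsIrrCharacter H b ∧ classInner (indFun N (fun _ : N => (1 : ℂ))) b ≠ 0} := by
      intro k
      have hk : IsIrrCharacter H (fun h => ((β h : ℂ)) ^ k) := by
        have := Char.isIrrCharacter_monoidHom ((powMonoidHom k).comp β)
        simpa using this
      refine ⟨hk, ?_⟩
      rw [Char.frobenius_reciprocity N _ (Char.isClassFunction_of_isCharacter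
          (Char.isCharacter_of_isIrr hk)),
        show (fun n : N => ((β (n : H) : ℂ)) ^ k) = fun _ => (1 : ℂ) from funext fun n => by
          rw [(hβN n).mpr n.2, Units.val_one, one_pow],
        Char.classInner_irr_self Char.isIrrCharacter_one]
      exact one_ne_zero
    have h1 := hg.injOn (hmem i) (hmem j) (congrArg Subtype.val hij)
    obtain ⟨g, hg'⟩ := QuotientGroup.mk'_surjective N y
    have h2 := congrFun h1 g
    have hβg : β g = u := by
      show monoidHomOfForallMemZpowers hy hu' (QuotientGroup.mk' N g) = u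
      rw [hg', monoidHomOfForallMemZpowers_apply_gen]
    simp only [hβg] at h2
    exact Fin.ext (hζ.pow_inj i.2 j.2 h2)
  obtain ⟨c, hc⟩ := Char.exists_multiplicities hφ
  let a : Fin m → ℕ := fun j => c (ηj j)
  have ha : ∀ j : Fin m, classInner φ (fun h => ((β h : ℂ)) ^ (j : ℕ) * η h) = a j := fun j => by
    rw [hc]
    exact Char.classInner_sum_smul_irr (fun ψ => (c ψ : ℂ)) (ηj j)
  have hsum : ∑ j, a j = e := by
    have h : (∑ j, (a j : ℂ)) = e := by
      simp only [← ha, classInner, map_mul, map_pow]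
      rw [← Finset.mul_sum, Finset.sum_comm]
      have key : ∀ h : H, ∑ j : Fin m, φ h * ((conj (β h : ℂ)) ^ (j : ℕ) * conj (η h)) =
          if h ∈ N then (m : ℂ) * (φ h * conj (η h)) else 0 := by
        intro h
        have hpow : (conj (β h : ℂ)) ^ m = 1 := by
          rw [← map_pow, ← Units.val_pow_eq_pow_val,
            show β h ^ m = 1 by rw [← map_pow, hβN]; exact N.pow_index_mem h, Units.val_one, map_one]
        rw [← Finset.mul_sum, ← Finset.sum_mul, Fin.sum_univ_eq_sum_range (fun j => conj (β h : ℂ) ^ j)]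
        split_ifs with hh
        · rw [(hβN h).mpr hh, Units.val_one, map_one]
          simp only [one_pow, Finset.sum_const, Finset.card_range, nsmul_one]
          ring
        · rw [geom_sum_eq, hpow, sub_self, zero_div, zero_mul, mul_zero]
          intro h1
          refine hh ((hβN h).mp (Units.ext ?_))
          have := congrArg conj h1
          rwa [Complex.conj_conj, map_one] at this
      rw [Finset.sum_congr rfl fun h _ => key h, Finset.sum_ite, Finset.sum_const_zero, add_zero,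
        Finset.sum_subtype (p := (· ∈ N)) (Finset.univ.filter (· ∈ N)) (by simp) (fun h => (m : ℂ) * (φ h * conj (η h))),
        ← Finset.mul_sum]
      simp only [hres, hηθ, mul_assoc, ← Finset.mul_sum]
      have hθn := Char.classInner_irr_self hθ
      unfold classInner at hθn
      have hN0 : (Nat.card N : ℂ) ≠ 0 := Nat.cast_ne_zero.mpr Nat.card_pos.ne'
      rw [inv_mul_eq_one₀ hN0] at hθn
      rw [← hθn, ← N.card_mul_index, Nat.cast_mul, ← hmdef]
      have : (m : ℂ) ≠ 0 := Nat.cast_ne_zero.mpr hm0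
      field_simp
    exact_mod_cast h
  have hbessel : m * (∑ j, a j * a j) + 1 ≤ e * e + m := by
    have h : classInner φ φ = ((∑ ψ, c ψ * c ψ : ℕ) : ℂ) := by
      rw [hc, Char.classInner_sum_smul_sum_smul]
      push_cast
      exact Finset.sum_congr rfl fun ψ _ => by rw [map_natCast]
    rw [h] at hnorm
    have h2 : m * (∑ ψ, c ψ * c ψ) + 1 = e * e + m := by
      have : ((m * (∑ ψ, c ψ * c ψ) + 1 : ℕ) : ℂ) = ((e * e + m : ℕ) : ℂ) := by
        rw [Nat.cast_add, Nat.cast_mul, hnorm]; push_cast; ring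
      exact_mod_cast this
    have h3 : ∑ j, a j * a j ≤ ∑ ψ, c ψ * c ψ := by
      rw [show ∑ j, a j * a j = ∑ ψ ∈ Finset.univ.image ηj, c ψ * c ψ from
        (Finset.sum_image (f := fun ψ => c ψ * c ψ) fun i _ j _ h => hinj h).symm]
      exact Finset.sum_le_univ_sum_of_nonneg fun _ => Nat.zero_le _
    rw [← h2]
    exact Nat.add_le_add_right (Nat.mul_le_mul_left _ h3) 1
  set q := e / m with hq
  set r := e % m with hr
  have her : (e : ℤ) = m * q + r := by exact_mod_cast (Nat.div_add_mod e m).symm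
  have hrm : r < m := Nat.mod_lt _ (Nat.pos_of_ne_zero hm0)
  have hpos : ∀ j, (0 : ℤ) ≤ ((a j : ℤ) - q) * ((a j : ℤ) - q - 1) := fun j => by
    rcases le_or_gt (a j : ℤ) q with h | h
    · exact mul_nonneg_of_nonpos_of_nonpos (by omega) (by omega)
    · exact mul_nonneg (by omega) (by omega)
  have hs := Finset.sum_nonneg fun j (_ : j ∈ (Finset.univ : Finset (Fin m))) => hpos j
  have hexp : ∑ j, ((a j : ℤ) - q) * ((a j : ℤ) - q - 1) =
      ((∑ j, a j * a j : ℕ) : ℤ) - (2 * q + 1) * ((∑ j, a j : ℕ) : ℤ) + m * (q * (q + 1)) := by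
    push_cast
    rw [Finset.mul_sum, ← Finset.sum_sub_distrib]
    rw [show (m : ℤ) * ((q : ℤ) * (q + 1)) = ∑ _j : Fin m, (q : ℤ) * (q + 1) by
      rw [Finset.sum_const, Finset.card_univ, Fintype.card_fin, nsmul_eq_mul]]
    rw [← Finset.sum_add_distrib]
    exact Finset.sum_congr rfl fun j _ => by ring
  rw [hexp, hsum] at hs
  have hbz : (m : ℤ) * ((∑ j, a j * a j : ℕ) : ℤ) + 1 ≤ (e : ℤ) * e + m := by exact_mod_cast hbessel
  have hrm' : (r : ℤ) * ((m : ℤ) - r) + 1 ≤ m := by
    nlinarith [mul_nonneg (Int.natCast_nonneg m) hs]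
  have hcases : r = 0 ∨ r = 1 ∨ r + 1 = m := by
    by_contra hne
    push Not at hne
    obtain ⟨h0, h1, h2⟩ := hne
    have h3 : (0 : ℤ) ≤ ((r : ℤ) - 2) * ((m : ℤ) - r - 2) := mul_nonneg (by omega) (by omega)
    have h4m : (4 : ℤ) ≤ m := by omega
    nlinarith
  rcases hcases with h | h | h
  · -- the remainder zero forces a factor group of order one
    by_cases hm1 : m = 1
    · exact Or.inl (by rw [hm1, Nat.cast_one]; exact one_dvd _)
    exfalso
    rw [h, Nat.cast_zero, add_zero] at her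
    -- then the norm is exactly `m q^2`, against the given norm
    have h4 : classInner φ φ = ((∑ ψ, c ψ * c ψ : ℕ) : ℂ) := by
      rw [hc, Char.classInner_sum_smul_sum_smul]
      push_cast
      exact Finset.sum_congr rfl fun ψ _ => by rw [map_natCast]
    rw [h4] at hnorm
    have h5 : (m : ℤ) * ((∑ ψ, c ψ * c ψ : ℕ) : ℤ) = (e : ℤ) * e + m - 1 := by
      have : (((m : ℤ) * ((∑ ψ, c ψ * c ψ : ℕ) : ℤ) : ℤ) : ℂ) = (((e : ℤ) * e + m - 1 : ℤ) : ℂ) := by
        push_cast; push_cast at hnorm; exact hnorm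
      exact_mod_cast this
    have h6 : (m : ℤ) ∣ 1 := ⟨(m : ℤ) * q * q + 1 - ((∑ ψ, c ψ * c ψ : ℕ) : ℤ), by
      rw [her] at h5; linear_combination h5⟩
    have : (m : ℤ) = 1 := Int.eq_one_of_dvd_one (by omega) h6
    omega
  · exact Or.inl ⟨q, by rw [her, h]; push_cast; ring⟩
  · refine Or.inr ⟨q + 1, ?_⟩
    have : (r : ℤ) + 1 = m := by exact_mod_cast h
    rw [her]; linear_combination this

/-- Let N ≤ G be normal subgroups of the finite group Γ with Γ/G cyclic and Γ/N a Frobenius group with kernel G/N: G ≠ Γ, N ≠ G, and no element of Γ outside G fixes a non-identity coset of N in G under conjugation. Let ϑ be an irreducible character of N invariant under conjugation by Γ and suppose ϑ is fully ramified in G: the character of G induced from ϑ equals e·χ for an irreducible character χ of G and a natural number e. Then the index of G in Γ divides e − 1 or e + 1. -/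
theorem result {Γ : Type*} [Group Γ] [Fintype Γ] (G N : Subgroup Γ) [hG : G.Normal] [hN : N.Normal] [Fintype G] [Fintype N] (hNG : N ≤ G) (hGlt : G ≠ ⊤) (hNlt : N ≠ G) (hcyc : IsCyclic (Γ ⧸ G)) (hfrob : ∀ x : Γ, x ∉ G → ∀ g : Γ, g ∈ G → x * g * x⁻¹ * g⁻¹ ∈ N → g ∈ N) (θ : Cfsg.IrrCharacter N) (hinv : ∀ (x : Γ) (n : N), (θ : N → ℂ) ⟨x * n * x⁻¹, hN.conj_mem n n.2 x⟩ = (θ : N → ℂ) n) (χ : Cfsg.IrrCharacter G) (e : ℕ) (hram : Cfsg.indFun (N.subgroupOf G) (fun n : N.subgroupOf G => (θ : N → ℂ) ⟨(n : G), n.2⟩) = fun g => (e : ℂ) * (χ : G → ℂ) g) : (G.index : ℤ) ∣ (e : ℤ) - 1 ∨ (G.index : ℤ) ∣ (e : ℤ) + 1 := by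
  classical
  obtain ⟨hind1, hind0⟩ : e ≠ 0 ∧ ∀ y : Γ, ∀ hy : y ∈ G, y ∉ N → (χ : G → ℂ) ⟨y, hy⟩ = 0 := by
    have h1 := congrFun hram 1
    rw [Char.indFun_one] at h1
    have he : e ≠ 0 := by
      intro he
      rw [he, Nat.cast_zero, zero_mul] at h1
      exact mul_ne_zero (Nat.cast_ne_zero.mpr Subgroup.index_ne_zero_of_finite)
        (Char.irr_degree_ne_zero θ.2) h1
    refine ⟨he, fun y hy hyN => ?_⟩
    have h2 := congrFun hram ⟨y, hy⟩
    rw [Char.indFun_notMem_of_normal _ _ (fun h => hyN (Subgroup.mem_subgroupOf.mp h))] at h2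
    exact (mul_eq_zero.mp h2.symm).resolve_left (Nat.cast_ne_zero.mpr he)
  have hχcl : IsClassFunction G (χ : G → ℂ) := Char.isClassFunction_irr χ
  have hres : ∀ n : N, (χ : G → ℂ) ⟨n, hNG n.2⟩ = (e : ℂ) * (θ : N → ℂ) n := by
    have hr := Char.indFun_subgroupOf_reciprocity N G hNG (θ : N → ℂ) hχcl
    rw [hram, show (fun g => (e : ℂ) * (χ : G → ℂ) g) = (e : ℂ) • (χ : G → ℂ) from rfl,
      Char.classInner_smul_left, Char.classInner_irr_self χ.2, mul_one] at hr
    have hc : classInner (Char.resTo N G hNG (χ : G → ℂ)) (θ : N → ℂ) = (e : ℂ) := by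
      rw [← Char.classInner_conj_symm, ← hr, map_natCast]
    have hne : classInner (Char.resTo N G hNG (χ : G → ℂ)) (θ : N → ℂ) ≠ 0 := by
      rw [hc]; exact Nat.cast_ne_zero.mpr hind1
    have h := Char.resTo_eq_smul N G θ.2 (fun g _ => funext (hinv g)) hNG χ.2 hne
    rw [hc] at h
    exact fun n => congrFun h n
  have hidx : (N.subgroupOf G).index = e * e := by
    have h1 := congrFun hram 1
    rw [Char.indFun_one] at h1
    have h2 : (χ : G → ℂ) 1 = (e : ℂ) * (θ : N → ℂ) 1 := hres 1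
    have h4 : (θ : N → ℂ) ⟨((1 : N.subgroupOf G) : G), (1 : N.subgroupOf G).2⟩ =
        (θ : N → ℂ) 1 := rfl
    rw [h4, h2, ← mul_assoc] at h1
    exact_mod_cast mul_right_cancel₀ (Char.irr_degree_ne_zero θ.2) h1
  have hNcard : Nat.card N * (e * e) = Nat.card G := by
    rw [← hidx, ← (N.subgroupOf G).card_mul_index,
      Nat.card_congr (Subgroup.subgroupOfEquivOfLe hNG).toEquiv]
  -- the extension
  have hχinv : ∀ g : Γ, Char.conjBy G (χ : G → ℂ) g = (χ : G → ℂ) := by
    intro g; funext y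
    by_cases hy : (y : Γ) ∈ N
    · refine (hres ⟨g * (y : Γ) * g⁻¹, hN.conj_mem _ hy g⟩).trans ?_
      rw [hinv g ⟨(y : Γ), hy⟩]
      exact (hres ⟨(y : Γ), hy⟩).symm
    · rw [hind0 y y.2 hy]
      refine hind0 (g * (y : Γ) * g⁻¹) _ fun h => hy ?_
      simpa [mul_assoc] using hN.conj_mem _ h g⁻¹
  obtain ⟨ψ, hψ, hψG⟩ := Char.extends_of_cyclic G χ.2 hχinv hcyc
  obtain ⟨c, hc⟩ := IsCyclic.exists_generator (α := Γ ⧸ G)
  obtain ⟨x, rfl⟩ := QuotientGroup.mk'_surjective G c
  have hxG : x ∉ G := by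
    intro hx
    refine hGlt (Subgroup.index_eq_one.mp ?_)
    rw [Subgroup.index_eq_card, ← orderOf_eq_card_of_forall_mem_zpowers hc,
      show QuotientGroup.mk' G x = 1 from (QuotientGroup.eq_one_iff x).mpr hx, orderOf_one]
  set H := N ⊔ Subgroup.zpowers x with hH
  have hNH : N ≤ H := le_sup_left
  have hxH : x ∈ H := Subgroup.mem_sup_right (Subgroup.mem_zpowers x)
  have hHG : ∀ h ∈ H, h ∈ G → h ∈ N := by
    intro h hh hhG
    obtain ⟨n, hn, z, hz, rfl⟩ := Subgroup.mem_sup_of_normal_left.mp hh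
    have hzG : z ∈ G := by simpa [← mul_assoc] using mul_mem (inv_mem (hNG hn)) hhG
    obtain ⟨i, rfl⟩ := Subgroup.mem_zpowers_iff.mp hz
    refine mul_mem hn (hfrob x hxG _ hzG ?_)
    rw [((Commute.refl x).zpow_right i).eq, mul_inv_cancel_right, mul_inv_cancel]
    exact N.one_mem
  let π : H →* Γ ⧸ G := (QuotientGroup.mk' G).comp H.subtype
  have hker : π.ker = N.subgroupOf H := by
    ext h
    rw [MonoidHom.mem_ker, Subgroup.mem_subgroupOf]
    exact (QuotientGroup.eq_one_iff (h : Γ)).trans ⟨hHG h h.2, fun hn => hNG hn⟩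
  have hπ : Function.Surjective π := fun q => by
    obtain ⟨i, hi⟩ := Subgroup.mem_zpowers_iff.mp (hc q)
    exact ⟨⟨x ^ i, zpow_mem hxH i⟩, by rw [← hi]; exact map_zpow (QuotientGroup.mk' G) x i⟩
  have hcycH : IsCyclic (H ⧸ N.subgroupOf H) := by
    have e := (QuotientGroup.quotientMulEquivOfEq hker.symm).trans
      (QuotientGroup.quotientKerEquivOfSurjective π hπ)
    exact isCyclic_of_surjective e.symm.toMonoidHom e.symm.surjective
  have hHidx : (N.subgroupOf H).index = G.index := by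
    rw [← hker, Subgroup.index_ker, MonoidHom.range_eq_top.mpr hπ, Subgroup.card_top,
      Subgroup.index_eq_card]
  have hHcard : Nat.card N * G.index = Nat.card H := by
    rw [← hHidx, ← (N.subgroupOf H).card_mul_index,
      Nat.card_congr (Subgroup.subgroupOfEquivOfLe hNH).toEquiv]
  rw [← hHidx]
  refine dvd_of_norm (N.subgroupOf H) hcycH
    (θ := fun k : N.subgroupOf H => (θ : N → ℂ) (Subgroup.subgroupOfEquivOfLe hNH k))
    ((Char.isIrrCharacter_comp_equiv _).mpr θ.2) ?_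
    (Char.isCharacter_restrict H (Char.isCharacter_of_isIrr hψ)) e ?_ ?_
  · intro g; funext k
    refine Eq.trans ?_ (hinv (g : Γ) (Subgroup.subgroupOfEquivOfLe hNH k))
    exact congrArg (θ : N → ℂ) (Subtype.ext rfl)
  · intro k
    have h := hψG ⟨((k : H) : Γ), hNG k.2⟩
    exact h.trans (hres ⟨((k : H) : Γ), k.2⟩)
  -- the norm
  let F : Γ → ℝ := fun y => Complex.normSq (ψ y)
  have hself : ∀ {A : Type _} [Group A] [Fintype A] (f : A → ℂ),
      classInner f f = (Nat.card A : ℂ)⁻¹ * ((∑ a, Complex.normSq (f a) : ℝ) : ℂ) := by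
    intro A _ _ f
    unfold classInner
    simp only [Complex.mul_conj, Complex.ofReal_sum]
  have htot : ∑ y : Γ, F y = Nat.card Γ := by
    have h := Char.classInner_irr_self hψ
    rw [hself, inv_mul_eq_one₀ (Nat.cast_ne_zero.mpr Nat.card_pos.ne')] at h
    exact_mod_cast h.symm
  have hGsum : ∑ y : G, F y = Nat.card G := by
    have h := Char.classInner_irr_self χ.2
    rw [hself, inv_mul_eq_one₀ (Nat.cast_ne_zero.mpr Nat.card_pos.ne')] at h
    have h' : ∑ y : G, Complex.normSq ((χ : G → ℂ) y) = Nat.card G := by exact_mod_cast h.symm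
    rw [← h']
    exact Finset.sum_congr rfl fun y _ => by show Complex.normSq (ψ y) = _; rw [hψG]
  have hNsum : ∑ n : N, F n = (e : ℝ) * e * Nat.card N := by
    have h := Char.classInner_irr_self θ.2
    rw [hself, inv_mul_eq_one₀ (Nat.cast_ne_zero.mpr Nat.card_pos.ne')] at h
    have h' : ∑ y : N, Complex.normSq ((θ : N → ℂ) y) = Nat.card N := by exact_mod_cast h.symm
    rw [← h', Finset.mul_sum]
    refine Finset.sum_congr rfl fun n _ => ?_
    show Complex.normSq (ψ n) = _
    rw [show (n : Γ) = ((⟨n, hNG n.2⟩ : G) : Γ) from rfl, hψG, hres, map_mul, Complex.normSq_natCast]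
  -- conjugation moves `H \ N` to `Γ \ G`
  let T := G ⧸ N.subgroupOf G
  let Φ : T × {h : H // (h : Γ) ∉ G} → {y : Γ // y ∉ G} := fun th =>
    ⟨(th.1.out : Γ) * (th.2.1 : Γ) * (th.1.out : Γ)⁻¹, fun h => th.2.2 (by
      simpa [mul_assoc] using hG.conj_mem _ h ((th.1.out : Γ))⁻¹)⟩
  have hΦinj : Function.Injective Φ := by
    rintro ⟨s, h⟩ ⟨t, h'⟩ he
    have he' : (s.out : Γ) * (h.1 : Γ) * (s.out : Γ)⁻¹ = (t.out : Γ) * (h'.1 : Γ) * (t.out : Γ)⁻¹ :=
      congrArg Subtype.val he
    set k : Γ := (t.out : Γ)⁻¹ * (s.out : Γ) with hk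
    have hkG : k ∈ G := mul_mem (inv_mem t.out.2) s.out.2
    have e1 : k * (h.1 : Γ) * k⁻¹ = (h'.1 : Γ) := by
      rw [hk]
      calc (t.out : Γ)⁻¹ * (s.out : Γ) * (h.1 : Γ) * ((t.out : Γ)⁻¹ * (s.out : Γ))⁻¹
          = (t.out : Γ)⁻¹ * ((s.out : Γ) * (h.1 : Γ) * (s.out : Γ)⁻¹) * (t.out : Γ) := by group
        _ = (h'.1 : Γ) := by rw [he']; group
    have hd : (h.1 : Γ) * (h'.1 : Γ)⁻¹ ∈ N := by
      refine hHG _ (mul_mem h.1.2 (inv_mem h'.1.2)) ?_
      rw [← e1, show (h.1 : Γ) * (k * (h.1 : Γ) * k⁻¹)⁻¹ =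
        ((h.1 : Γ) * k * (h.1 : Γ)⁻¹) * k⁻¹ by group]
      exact mul_mem (hG.conj_mem _ hkG _) (inv_mem hkG)
    have hkN : k ∈ N := by
      refine hfrob (h.1 : Γ) h.2 k hkG ?_
      rw [show (h.1 : Γ) * k * (h.1 : Γ)⁻¹ * k⁻¹ = (h.1 : Γ) * (k * (h.1 : Γ) * k⁻¹)⁻¹ by group, e1]
      exact hd
    have hst : s = t := by
      rw [← QuotientGroup.out_eq' s, ← QuotientGroup.out_eq' t]
      exact (QuotientGroup.eq.mpr (Subgroup.mem_subgroupOf.mpr hkN)).symm
    subst hst
    exact Prod.ext rfl (Subtype.ext (Subtype.ext (mul_left_cancel (mul_right_cancel he'))))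
  have hcH : Nat.card {h : H // (h : Γ) ∉ G} + Nat.card N = Nat.card H := by
    rw [Nat.card_eq_fintype_card, Fintype.card_subtype_compl, ← Nat.card_eq_fintype_card,
      ← Nat.card_eq_fintype_card,
      show Nat.card {h : H // (h : Γ) ∈ G} = Nat.card N from Nat.card_congr
        { toFun := fun h => ⟨_, hHG h.1 h.1.2 h.2⟩
          invFun := fun n => ⟨⟨n, hNH n.2⟩, hNG n.2⟩
          left_inv := fun _ => rfl
          right_inv := fun _ => rfl }]
    exact Nat.sub_add_cancel (Nat.card_le_card_of_injective (Subgroup.inclusion hNH)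
      (Subgroup.inclusion_injective hNH))
  have hcG : Nat.card {y : Γ // y ∉ G} + Nat.card G = Nat.card Γ := by
    rw [Nat.card_eq_fintype_card, Fintype.card_subtype_compl, ← Nat.card_eq_fintype_card,
      ← Nat.card_eq_fintype_card]
    exact Nat.sub_add_cancel (Subgroup.card_le_card_group G)
  have hTcard : Nat.card T = e * e := hidx
  have hΦ : Function.Bijective Φ := by
    refine (Fintype.bijective_iff_injective_and_card Φ).mpr ⟨hΦinj, ?_⟩
    rw [← Nat.card_eq_fintype_card, ← Nat.card_eq_fintype_card, Nat.card_prod, hTcard]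
    have h1 := G.card_mul_index
    nlinarith
  have hψcl := Char.isClassFunction_of_isCharacter (Char.isCharacter_of_isIrr hψ)
  have hS1 : ∑ y : {y : Γ // y ∉ G}, F y = ((e * e : ℕ) : ℝ) * ∑ h : {h : H // (h : Γ) ∉ G}, F (h.1 : Γ) := by
    rw [← Fintype.sum_bijective Φ hΦ (fun th => F (th.2.1 : Γ)) _ (fun th => ?_),
      Fintype.sum_prod_type]
    · dsimp only
      rw [Finset.sum_const, Finset.card_univ, ← Nat.card_eq_fintype_card, hTcard, nsmul_eq_mul]
    · show Complex.normSq (ψ _) = Complex.normSq (ψ ((th.1.out : Γ) * _ * _))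
      rw [hψcl]
  have hsplitΓ : ∑ y : Γ, F y = ∑ y : G, F y + ∑ y : {y : Γ // y ∉ G}, F y :=
    ((Fintype.sum_subtype_add_sum_subtype (fun y : Γ => y ∈ G) F).symm.trans
      (congrArg (· + _) (Finset.sum_congr (Finset.ext fun _ => by simp) fun _ _ => rfl)))
  have hsplitH : ∑ h : H, F h = ∑ n : N, F n + ∑ h : {h : H // (h : Γ) ∉ G}, F (h.1 : Γ) := by
    rw [← Fintype.sum_subtype_add_sum_subtype (fun h : H => (h : Γ) ∈ G) (fun h : H => F h)]
    congr 1
    exact Fintype.sum_equiv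
      { toFun := fun h => (⟨_, hHG h.1 h.1.2 h.2⟩ : N)
        invFun := fun n => ⟨⟨n, hNH n.2⟩, hNG n.2⟩
        left_inv := fun _ => rfl
        right_inv := fun _ => rfl } _ _ fun _ => rfl
  rw [hself, hHidx]
  have hHr : ((Nat.card N : ℝ) * G.index) = Nat.card H := by exact_mod_cast hHcard
  have hGr : ((Nat.card N : ℝ) * ((e : ℝ) * e)) = Nat.card G := by exact_mod_cast hNcard
  have hΓr : ((Nat.card G : ℝ) * G.index) = Nat.card Γ := by exact_mod_cast G.card_mul_index
  have he0 : (0 : ℝ) < (e : ℝ) * e := by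
    have : (0 : ℝ) < e := by exact_mod_cast Nat.pos_of_ne_zero hind1
    positivity
  have hX : ∑ h : {h : H // (h : Γ) ∉ G}, F (h.1 : Γ) = ((G.index : ℝ) - 1) * Nat.card N := by
    rw [hsplitΓ, hGsum, hS1, ← hΓr, ← hGr] at htot
    push_cast at htot
    nlinarith
  have hfin : ∑ h : H, Complex.normSq (ψ h) = ((e : ℝ) * e + G.index - 1) * Nat.card N := by
    show ∑ h : H, F h = _
    rw [hsplitH, hNsum, hX]; ring
  rw [hfin, ← hHcard]
  have h1 : (G.index : ℂ) ≠ 0 := Nat.cast_ne_zero.mpr Subgroup.index_ne_zero_of_finite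
  have h2 : (Nat.card N : ℂ) ≠ 0 := Nat.cast_ne_zero.mpr Nat.card_pos.ne'
  push_cast
  field_simp

end Cfsg.Agent.S4454
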