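import Cfsg.Statements.S4455
import Cfsg.Agent.Lib.Char.PResidual
import Cfsg.Agent.Lib.Char.AbelianQuotient

set_option autoImplicit false
open Cfsg

namespace Cfsg.Agent.S4455

open CfsgLib.Char
open scoped CfsgLib.Char

/-- Fix a prime p and a finite group G. Let s be the sum of χ(1)² over the irreducible characters χ of G whose degree is not divisible by p and whose determinantal order o(χ) is not divisible by p. Then the order of O^p(G), the subgroup generated by the elements of order prime to p, is congruent to s modulo p. -/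
theorem result {G : Type*} [Group G] [Finite G] (p : ℕ) (hp : p.Prime) : (Nat.card (Cfsg.pResidual p G) : ℤ) ≡ (∑ᶠ χ ∈ {χ : Cfsg.IrrCharacter G | ¬ p ∣ Cfsg.charDegree (χ : G → ℂ) ∧ ¬ p ∣ Cfsg.detOrder (χ : G → ℂ)}, (Cfsg.charDegree (χ : G → ℂ) : ℤ) ^ 2) [ZMOD p] := by
  classical
  haveI := Fact.mk hp
  haveI hn : (Cfsg.pResidual p G).Normal := CfsgLib.Transfer.pResidual_normal p G
  obtain ⟨k, hk⟩ := CfsgLib.Char.PResidual.index_eq_pow (G := G) (p := p)
  set K := Cfsg.pResidual p G with hK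
  haveI : Fintype K := Fintype.ofFinite _
  haveI : Fintype G := Fintype.ofFinite _
  choose D hD0 hD using fun χ : Cfsg.IrrCharacter G => CfsgLib.Char.exists_nat_degree_irr χ.2
  have hcd : ∀ χ : Cfsg.IrrCharacter G, Cfsg.charDegree (χ : G → ℂ) = D χ := fun χ => by
    simp [Cfsg.charDegree, hD χ]
  set k₀ := (commutator K).index with hk₀
  have hk₀p : ¬ p ∣ k₀ := CfsgLib.Char.PResidual.not_dvd_commutator_index p
    CfsgLib.Char.PResidual.pResidual_generated
  have hTf : {χ : Cfsg.IrrCharacter G | ¬ p ∣ Cfsg.charDegree (χ : G → ℂ) ∧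
      ¬ p ∣ Cfsg.detOrder (χ : G → ℂ)} = ↑(Finset.univ.filter fun χ : Cfsg.IrrCharacter G =>
        ¬ p ∣ Cfsg.charDegree (χ : G → ℂ) ∧ ¬ p ∣ Cfsg.detOrder (χ : G → ℂ)) := by
    ext χ; simp
  rw [hTf, finsum_mem_coe_finset]
  refine (ZMod.intCast_eq_intCast_iff _ _ _).mp ?_
  rw [Int.cast_natCast, CfsgLib.Char.PResidual.card_congr, ← Finset.sum_filter, Int.cast_sum]
  simp only [Int.cast_pow, Int.cast_natCast]
  symm
  have hrest : ∀ χ : Cfsg.IrrCharacter G, ¬ p ∣ Cfsg.charDegree (χ : G → ℂ) →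
      Cfsg.IsIrrCharacter K (fun n : K => (χ : G → ℂ) n) ∧
        ∀ g, CfsgLib.Char.conjBy K (fun n : K => (χ : G → ℂ) n) g = fun n : K => (χ : G → ℂ) n :=
    fun χ h => CfsgLib.Char.PResidual.restrict_irr K hk χ.2 (hD χ) (hcd χ ▸ h)
  have hdegres : ∀ χ : Cfsg.IrrCharacter G,
      Cfsg.charDegree (fun n : K => (χ : G → ℂ) n) = Cfsg.charDegree (χ : G → ℂ) := fun χ => rfl
  refine Finset.sum_bij (fun χ hχ => ⟨_, (hrest χ (Finset.mem_filter.mp hχ).2.1).1⟩) ?_ ?_ ?_ ?_
  · intro χ hχ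
    obtain ⟨-, h1, -⟩ := Finset.mem_filter.mp hχ
    exact Finset.mem_filter.mpr ⟨Finset.mem_univ _, (hrest χ h1).2, hdegres χ ▸ h1⟩
  · intro χ hχ χ' hχ' e
    obtain ⟨-, h1, h2⟩ := Finset.mem_filter.mp hχ
    obtain ⟨-, -, h2'⟩ := Finset.mem_filter.mp hχ'
    rw [hcd] at h1
    obtain ⟨β, hβ, hβχ⟩ := CfsgLib.Char.extensions_differ K (hrest χ (hcd χ ▸ h1)).1 χ.2 χ'.2
      (fun n => rfl) (fun n => (congrFun (congrArg Subtype.val e) n).symm)
    have hdet := CfsgLib.Char.detChar_linear_mul (CfsgLib.Char.isCharacter_of_isIrr χ.2) β (D χ) (hD χ)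
    rw [← hβχ] at hdet
    obtain ⟨f, hf⟩ := CfsgLib.Char.exists_det_hom (CfsgLib.Char.isCharacter_of_isIrr χ.2)
    obtain ⟨f', hf'⟩ := CfsgLib.Char.exists_det_hom (CfsgLib.Char.isCharacter_of_isIrr χ'.2)
    have hpk : ∀ g, (β g) ^ p ^ k = 1 := fun g => by
      have := CfsgLib.Char.pow_index_eq_one K β hβ
      rw [hk] at this
      exact DFunLike.congr_fun this g
    have hβd : ∀ g, ((β g) ^ D χ) ^ (Cfsg.detOrder (χ : G → ℂ) * Cfsg.detOrder (χ' : G → ℂ)) = 1 := by
      intro g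
      have e1 : f' g = β g ^ D χ * f g := Units.ext (by
        have := congrFun hdet g
        rw [hf', hf] at this
        simpa using this)
      have e2 : f g ^ Cfsg.detOrder (χ : G → ℂ) = 1 := Units.ext (by
        have := congrFun (pow_orderOf_eq_one (Cfsg.detChar (χ : G → ℂ))) g
        rw [Pi.pow_apply, hf] at this
        show ((f g ^ Cfsg.detOrder (χ : G → ℂ) : ℂˣ) : ℂ) = 1
        rw [Units.val_pow_eq_pow_val, Cfsg.detOrder, hf]
        exact this)
      have e3 : f' g ^ Cfsg.detOrder (χ' : G → ℂ) = 1 := Units.ext (by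
        have := congrFun (pow_orderOf_eq_one (Cfsg.detChar (χ' : G → ℂ))) g
        rw [Pi.pow_apply, hf'] at this
        show ((f' g ^ Cfsg.detOrder (χ' : G → ℂ) : ℂˣ) : ℂ) = 1
        rw [Units.val_pow_eq_pow_val, Cfsg.detOrder, hf']
        exact this)
      rw [show β g ^ D χ = f' g * (f g)⁻¹ by rw [e1, mul_inv_cancel_right], mul_pow, inv_pow,
        pow_mul (f g), e2, one_pow, inv_one, mul_one, mul_comm, pow_mul, e3, one_pow]
    refine Subtype.ext ?_
    rw [hβχ]
    funext g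
    have hcop : (D χ * (Cfsg.detOrder (χ : G → ℂ) * Cfsg.detOrder (χ' : G → ℂ))).Coprime (p ^ k) := by
      refine (Nat.Coprime.pow_right k ?_)
      rw [Nat.coprime_comm, hp.coprime_iff_not_dvd]
      intro h
      rcases hp.dvd_mul.mp h with h | h
      · exact h1 h
      · exact (hp.dvd_mul.mp h).elim h2 h2'
    have : β g = 1 := by
      rw [← orderOf_eq_one_iff]
      exact Nat.eq_one_of_dvd_coprimes hcop
        (orderOf_dvd_of_pow_eq_one (by rw [pow_mul]; exact hβd g)) (orderOf_dvd_of_pow_eq_one (hpk g))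
    rw [this, Units.val_one, one_mul]
  · intro θ hθ
    obtain ⟨-, hinv, hpd⟩ := Finset.mem_filter.mp hθ
    obtain ⟨d, -, hd⟩ := CfsgLib.Char.exists_nat_degree_irr θ.2
    rw [show Cfsg.charDegree (θ : K → ℂ) = d by simp [Cfsg.charDegree, hd]] at hpd
    obtain ⟨η, hη, hres⟩ := CfsgLib.Char.PResidual.exists_extension θ.2 hinv hd hpd
    have hη1 : η 1 = d := by
      have := hres 1
      rw [OneMemClass.coe_one, hd] at this
      exact this
    obtain ⟨m, hm⟩ := CfsgLib.Char.exists_det_hom (CfsgLib.Char.isCharacter_of_isIrr hη)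
    have hmK : ∀ n : K, (m n) ^ k₀ = 1 := by
      intro n
      refine Units.ext ?_
      rw [Units.val_pow_eq_pow_val, Units.val_one, ← congrFun hm (n : G),
        ← CfsgLib.Char.detChar_restrict K (CfsgLib.Char.isCharacter_of_isIrr hη) n,
        show (fun x : K => η x) = (θ : K → ℂ) from funext hres]
      exact CfsgLib.Char.PResidual.detChar_pow_eq_one (CfsgLib.Char.isCharacter_of_isIrr θ.2) n
    obtain ⟨u, hu⟩ : ∃ u : ℕ, (p ^ k : ℕ) ∣ u * k₀ * d + 1 := by
      have hcop : (k₀ * d).Coprime (p ^ k) := by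
        refine (Nat.Coprime.pow_right k ?_)
        rw [Nat.coprime_comm, hp.coprime_iff_not_dvd]
        exact fun h => (hp.dvd_mul.mp h).elim hk₀p hpd
      obtain ⟨v, hv⟩ : ∃ v : ZMod (p ^ k), v * ((k₀ * d : ℕ) : ZMod (p ^ k)) = -1 :=
        ⟨-((ZMod.unitOfCoprime _ hcop)⁻¹ : (ZMod (p ^ k))ˣ), by
          rw [neg_mul, ← ZMod.coe_unitOfCoprime _ hcop, Units.inv_mul]⟩
      haveI : NeZero (p ^ k) := ⟨pow_ne_zero _ hp.ne_zero⟩
      refine ⟨v.val, (ZMod.natCast_eq_zero_iff _ _).mp ?_⟩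
      push_cast at hv ⊢
      rw [ZMod.natCast_zmod_val, mul_assoc, hv]
      simp
    set β : G →* ℂˣ := m ^ (u * k₀) with hβdef
    have hβK : ∀ n : K, β n = 1 := fun n => by
      rw [hβdef, MonoidHom.pow_apply, mul_comm, pow_mul, hmK, one_pow]
    have hχ := CfsgLib.Char.isIrrCharacter_linear_mul hη β
    have hdet := CfsgLib.Char.detChar_linear_mul (CfsgLib.Char.isCharacter_of_isIrr hη) β d hη1
    refine ⟨⟨_, hχ⟩, Finset.mem_filter.mpr ⟨Finset.mem_univ _, ?_, ?_⟩, ?_⟩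
    · rw [show Cfsg.charDegree ((⟨_, hχ⟩ : Cfsg.IrrCharacter G) : G → ℂ) = d by
        simp [Cfsg.charDegree, hη1]]
      exact hpd
    · intro h
      refine hk₀p (h.trans (orderOf_dvd_of_pow_eq_one ?_))
      show Cfsg.detChar (fun g => (β g : ℂ) * η g) ^ k₀ = 1
      rw [hdet, hm]
      funext g
      obtain ⟨c, hc⟩ := hu
      have hmg : (m g) ^ ((u * k₀ * d + 1) * k₀) = 1 := by
        rw [hc, mul_assoc, mul_comm c, ← mul_assoc, pow_mul, mul_comm (p ^ k), pow_mul]
        have hpk : (m ^ k₀) ^ p ^ k = 1 := by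
          rw [← hk]
          exact CfsgLib.Char.pow_index_eq_one K _ fun n => by rw [MonoidHom.pow_apply, hmK]
        have := DFunLike.congr_fun hpk g
        rw [MonoidHom.pow_apply, MonoidHom.pow_apply] at this
        rw [this, MonoidHom.one_apply, one_pow]
      show ((β g : ℂ) ^ d * (m g : ℂ)) ^ k₀ = 1
      rw [hβdef, MonoidHom.pow_apply, ← Units.val_pow_eq_pow_val, ← Units.val_mul,
        ← Units.val_pow_eq_pow_val, ← pow_mul, ← pow_succ, ← pow_mul, hmg, Units.val_one]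
    · refine Subtype.ext (funext fun n => ?_)
      show (β (n : G) : ℂ) * η n = (θ : K → ℂ) n
      rw [hβK, Units.val_one, one_mul, hres]
  · intro χ hχ
    rfl

end Cfsg.Agent.S4455
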