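import Cfsg.Statements.S4457
import Cfsg.Agent.Lib.TwoDegrees.Dichotomy
import Cfsg.Agent.Lib.Char.Counting
import Cfsg.Agent.Lib.PSolvable.Core
import Cfsg.Agent.S4456
-- import your own Cfsg.Agent.* helpers here

set_option autoImplicit false
open Cfsg

namespace Cfsg.Agent.S4457
open scoped CfsgLib.Char commutatorElement

open CfsgLib.Char in
theorem nilpotent_case {G : Type*} [Group G] [Finite G] [Group.IsNilpotent G] (m : ℕ)
    (hcd : ∀ χ : Cfsg.IrrCharacter G, Cfsg.charDegree (χ : G → ℂ) = 1 ∨ Cfsg.charDegree (χ : G → ℂ) = m)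
    (hm : ∃ χ : Cfsg.IrrCharacter G, Cfsg.charDegree (χ : G → ℂ) = m) (hm1 : m ≠ 1) :
    ∃ p e : ℕ, p.Prime ∧ m = p ^ e ∧ ∃ P A : Subgroup G, P.Normal ∧ A.Normal ∧ IsPGroup p P ∧
      (∀ a ∈ A, ∀ b ∈ A, a * b = b * a) ∧ P ⊓ A = ⊥ ∧ P ⊔ A = ⊤ := by
  classical
  obtain ⟨χ, hχ⟩ := hm
  obtain ⟨d, hd, hpos, -⟩ := exists_degree_dvd_card χ.2
  rw [Extraspecial.charDegree_eq hd] at hχ
  subst hχ
  set p := d.minFac
  have hp : p.Prime := Nat.minFac_prime hm1
  haveI := Fact.mk hp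
  obtain ⟨A, hAn, hAc, k, hAi⟩ := Cfsg.Agent.S4456.result p hp fun χ h1 => by
    rw [(hcd χ).resolve_left h1]; exact Nat.minFac_dvd d
  let P : Sylow p G := default
  haveI hPn : (P : Subgroup G).Normal := (Group.isNilpotent_of_finite_tfae.out 0 3 rfl rfl |>.mp ‹Group.IsNilpotent G›) p ⟨hp⟩ P
  haveI := hAn
  have hinf : (P : Subgroup G) ⊓ A = ⊥ :=
    Subgroup.inf_eq_bot_of_coprime (CfsgLib.PSolvable.coprime_card_of_isPGroup P.2 hAc)
  have hsup : (P : Subgroup G) ⊔ A = ⊤ := by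
    rw [← Subgroup.index_eq_one]
    refine Nat.eq_one_of_dvd_coprimes (hp.coprime_iff_not_dvd.mpr P.not_dvd_index |>.pow_left k) ?_
      (Subgroup.index_dvd_of_le le_sup_left)
    exact hAi ▸ Subgroup.index_dvd_of_le le_sup_right
  have hcomm : ∀ (x : (P : Subgroup G)) (y : A), Commute (x : G) (y : G) := fun x y =>
    Subgroup.commute_of_normal_of_disjoint _ _ hPn hAn (disjoint_iff.mpr hinf) x y x.2 y.2
  let f : ↥(P : Subgroup G) × A →* G :=
    (P : Subgroup G).subtype.noncommCoprod A.subtype hcomm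
  have hf : Function.Bijective f := by
    constructor
    · rw [injective_iff_map_eq_one]
      rintro ⟨x, y⟩ h
      have h' : (x : G) * (y : G) = 1 := h
      have hxA : (x : G) ∈ A := by
        rw [eq_inv_of_mul_eq_one_left h']; exact A.inv_mem y.2
      have hx : (x : G) ∈ (P : Subgroup G) ⊓ A := ⟨x.2, hxA⟩
      rw [hinf, Subgroup.mem_bot] at hx
      rw [hx, one_mul] at h'
      exact Prod.ext (Subtype.ext hx) (Subtype.ext h')
    · intro g
      obtain ⟨x, hx, y, hy, rfl⟩ := Subgroup.mem_sup_of_normal_left.mp (hsup ▸ Subgroup.mem_top g)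
      exact ⟨(⟨x, hx⟩, ⟨y, hy⟩), rfl⟩
  let e := MulEquiv.ofBijective f hf
  have hprod : ∀ (φ : Cfsg.IrrCharacter (P : Subgroup G)) (ψ : Cfsg.IrrCharacter A) (a b : ℕ),
      (φ : ↥(P : Subgroup G) → ℂ) 1 = a → (ψ : A → ℂ) 1 = b → a * b = 1 ∨ a * b = d := by
    intro φ ψ a b ha hb
    have h1 := (isIrrCharacter_comp_equiv e.symm).mpr ((isIrr_prod_iff _).mpr ⟨_, _, φ.2, ψ.2, rfl⟩)
    have h2 := hcd ⟨_, h1⟩
    rwa [Extraspecial.charDegree_eq (show _ = ((a * b : ℕ) : ℂ) by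
      show (φ : ↥(P : Subgroup G) → ℂ) (e.symm 1).1 * (ψ : A → ℂ) (e.symm 1).2 = _
      rw [map_one, Prod.fst_one, Prod.snd_one, ha, hb, Nat.cast_mul])] at h2
  obtain ⟨φ, ψ, hφ, hψ, he⟩ := (isIrr_prod_iff _).mp ((isIrrCharacter_comp_equiv e).mpr χ.2)
  obtain ⟨a, ha, -, hadvd⟩ := exists_degree_dvd_card hφ
  obtain ⟨b, hb, -, hbdvd⟩ := exists_degree_dvd_card hψ
  have hab : a * b = d := by
    have := congrFun he 1
    simp only [map_one, Prod.fst_one, Prod.snd_one, ha, hb, hd] at this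
    exact_mod_cast this.symm
  have ha1 : a ≠ 1 := fun h => by
    rw [h, one_mul] at hab
    exact hp.coprime_iff_not_dvd.mp hAc.symm ((Nat.minFac_dvd d).trans (hab ▸ hbdvd))
  have had : a = d := by
    have := hprod ⟨φ, hφ⟩ ⟨fun _ => 1, isIrrCharacter_one⟩ a 1 ha Nat.cast_one.symm
    omega
  obtain ⟨n, hn⟩ := IsPGroup.iff_card.mp P.2
  obtain ⟨j, -, hj⟩ := (Nat.dvd_prime_pow hp).mp (hn ▸ hadvd)
  refine ⟨p, j, hp, had ▸ hj, P, A, hPn, hAn, P.2, fun x hx y hy => ?_, hinf, hsup⟩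
  have hlin : ∀ θ : Cfsg.IrrCharacter A, (θ : A → ℂ) 1 = 1 := fun θ => by
    obtain ⟨c, hc, -, hcdvd⟩ := exists_degree_dvd_card θ.2
    have := hprod ⟨fun _ => 1, isIrrCharacter_one⟩ θ 1 c Nat.cast_one.symm hc
    rw [one_mul] at this
    rcases this with h | h
    · rw [hc, h, Nat.cast_one]
    · exact absurd ((Nat.minFac_dvd d).trans (h ▸ hcdvd)) (hp.coprime_iff_not_dvd.mp hAc.symm)
  have : (⁅(⟨x, hx⟩ : A), ⟨y, hy⟩⁆ : A) = 1 := by
    refine eq_one_of_forall_irr fun θ => ?_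
    have hc := isCharacter_of_isIrr θ.2
    rw [hlin θ, ← linearHom_apply hc (hlin θ), map_commutatorElement,
      commutatorElement_eq_one_iff_mul_comm.mpr (mul_comm _ _), Units.val_one]
  exact congrArg Subtype.val (commutatorElement_eq_one_iff_mul_comm.mp this)

/-- Let G be a finite group whose irreducible character degrees are exactly 1 and m (m ≠ 1). Then either G has an abelian normal subgroup of index m, or m is a power of a prime p and G is the direct product of a p-group and an abelian group: there are normal subgroups P and A with P a p-group, A abelian, P ⊓ A = 1 and P ⊔ A = G. -/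
theorem result {G : Type*} [Group G] [Finite G] (m : ℕ) (hcd : ∀ χ : Cfsg.IrrCharacter G, Cfsg.charDegree (χ : G → ℂ) = 1 ∨ Cfsg.charDegree (χ : G → ℂ) = m) (hm : ∃ χ : Cfsg.IrrCharacter G, Cfsg.charDegree (χ : G → ℂ) = m) (hm1 : m ≠ 1) : (∃ A : Subgroup G, A.Normal ∧ (∀ a ∈ A, ∀ b ∈ A, a * b = b * a) ∧ A.index = m) ∨ ∃ p e : ℕ, p.Prime ∧ m = p ^ e ∧ ∃ P A : Subgroup G, P.Normal ∧ A.Normal ∧ IsPGroup p P ∧ (∀ a ∈ A, ∀ b ∈ A, a * b = b * a) ∧ P ⊓ A = ⊥ ∧ P ⊔ A = ⊤ := by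
  rcases CfsgLib.TwoDegrees.dichotomy hcd hm1 hm with h | h
  · exact Or.inl h
  · haveI := h
    exact Or.inr (nilpotent_case m hcd hm hm1)

end Cfsg.Agent.S4457
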