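import Cfsg.Statements.S4459
import Cfsg.Agent.S4456
import Cfsg.Agent.Lib.Char.Extraspecial
import Cfsg.Agent.Lib.Char.Codegree
import Cfsg.Agent.Lib.Char.Kernel
import Cfsg.Agent.Lib.Char.AbelianQuotient
import Cfsg.Agent.Lib.Char.Clifford

set_option autoImplicit false
open Cfsg
set_option linter.unusedSectionVars false
set_option linter.style.haveILetI false
set_option linter.deprecated false
open CfsgLib.Char
open scoped CfsgLib.Char

namespace Cfsg.Agent.S4459

namespace Deg

variable {G : Type*} [Group G] [Finite G] {p : ℕ}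

theorem mk_comm {N : Subgroup G} [N.Normal] {g h : G}
    (e : (g : G ⧸ N) * h = h * g) : g * h * g⁻¹ * h⁻¹ ∈ N := by
  rw [← QuotientGroup.eq_one_iff]
  simp only [QuotientGroup.mk_mul, QuotientGroup.mk_inv]
  rw [e]
  group

/-- All irreducible degrees are one or `p`. -/
def DP (p : ℕ) (G : Type*) [Group G] : Prop :=
  ∀ (χ : G → ℂ), Cfsg.IsIrrCharacter G χ → χ 1 = 1 ∨ χ 1 = (p : ℂ)

theorem exists_above (N : Subgroup G) [N.Normal] [Fintype N] {θ : N → ℂ} (hθ : Cfsg.IsIrrCharacter N θ) :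
    ∃ χ : Cfsg.IrrCharacter G, Cfsg.classInner (fun n : N => (χ : G → ℂ) n) θ ≠ 0 := by
  classical
  haveI : Fintype G := Fintype.ofFinite G
  by_contra hc
  push Not at hc
  have he := classFunction_expansion (isClassFunction_indFun N θ)
  have h0 : Cfsg.indFun N θ 1 = 0 := by
    rw [congrFun he 1, Finset.sum_apply]
    refine Finset.sum_eq_zero fun χ _ => ?_
    rw [frobenius_reciprocity N _ (isClassFunction_irr χ), ← classInner_conj_symm, hc χ]
    simp
  rw [indFun_one] at h0
  rcases mul_eq_zero.mp h0 with e | e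
  · exact Subgroup.index_ne_zero_of_finite (Nat.cast_eq_zero.mp e)
  · exact irr_degree_ne_zero hθ e

/-- Degree and orbit of an irreducible character of a normal subgroup. -/
theorem normal_data (hG : DP p G) (N : Subgroup G) [N.Normal] {θ : N → ℂ}
    (hθ : Cfsg.IsIrrCharacter N θ) :
    ∃ e d : ℕ, θ 1 = (d : ℂ) ∧ 0 < d ∧
      (e * ((inertia N θ).index * d) = 1 ∨ e * ((inertia N θ).index * d) = p) := by
  classical
  haveI : Fintype G := Fintype.ofFinite G
  haveI : Fintype N := Fintype.ofFinite N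
  obtain ⟨d, hd0, hd⟩ := exists_nat_degree_irr hθ
  obtain ⟨χ, hχ⟩ := exists_above N hθ
  obtain ⟨m, hm⟩ := exists_multiplicities
    (isCharacter_restrict N (isCharacter_of_isIrr χ.2) :
      Cfsg.IsCharacter N (fun n : N => (χ : G → ℂ) n))
  have he : Cfsg.classInner (fun n : N => (χ : G → ℂ) n) θ = (m ⟨θ, hθ⟩ : ℂ) := by
    rw [hm]
    exact classInner_sum_smul_irr (fun ψ => (m ψ : ℂ)) ⟨θ, hθ⟩
  refine ⟨m ⟨θ, hθ⟩, d, hd, hd0, ?_⟩
  have h := clifford_degree N χ.2 hθ hχ
  rw [he, hd, card_orbit_eq_index] at h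
  rcases hG _ χ.2 with e | e <;> rw [e] at h
  · left; exact_mod_cast h.symm
  · right; exact_mod_cast h.symm

theorem dp_normal (hp : p.Prime) (hG : DP p G) (N : Subgroup G) [N.Normal] : DP p N := by
  intro θ hθ
  obtain ⟨e, d, hd, -, h | h⟩ := normal_data hG N hθ
  · left
    rw [hd, (Nat.dvd_one.mp ⟨e * (inertia N θ).index, by rw [← h]; ring⟩ : d = 1), Nat.cast_one]
  · rcases hp.eq_one_or_self_of_dvd d ⟨e * (inertia N θ).index, by rw [← h]; ring⟩ with r | r
    · left; rw [hd, r, Nat.cast_one]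
    · right; rw [hd, r]

theorem index_inertia (hp : p.Prime) (hG : DP p G) (N : Subgroup G) [N.Normal] {θ : N → ℂ}
    (hθ : Cfsg.IsIrrCharacter N θ) :
    (inertia N θ).index = 1 ∨ ((inertia N θ).index = p ∧ θ 1 = 1) := by
  obtain ⟨e, d, hd, -, h | h⟩ := normal_data hG N hθ
  · exact Or.inl (Nat.dvd_one.mp ⟨e * d, by rw [← h]; ring⟩)
  · rcases hp.eq_one_or_self_of_dvd (inertia N θ).index ⟨e * d, by rw [← h]; ring⟩ with r | r
    · exact Or.inl r
    · refine Or.inr ⟨r, ?_⟩
      rw [r] at h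
      have h1 : e * d = 1 := mul_left_cancel₀ hp.ne_zero
        (show p * (e * d) = p * 1 by rw [mul_one, ← mul_assoc, mul_comm p e, mul_assoc, h])
      rw [hd, Nat.eq_one_of_mul_eq_one_left h1, Nat.cast_one]

theorem comm_of_linear
    (h : ∀ χ : G → ℂ, Cfsg.IsIrrCharacter G χ → χ 1 = 1) (a b : G) : a * b = b * a := by
  have h1 : a * b * a⁻¹ * b⁻¹ = 1 := by
    refine eq_one_of_forall_irr fun χ => ?_
    have hl := h _ χ.2
    rw [← linearHom_apply (isCharacter_of_isIrr χ.2) hl (a * b * a⁻¹ * b⁻¹), hl]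
    simp [map_mul, map_inv]
  calc a * b = a * b * a⁻¹ * b⁻¹ * (b * a) := by group
    _ = b * a := by rw [h1, one_mul]

theorem center_value_ne_zero {χ : G → ℂ} (hχ : Cfsg.IsIrrCharacter G χ) {z : G}
    (hz : z ∈ Subgroup.center G) : χ z ≠ 0 := by
  intro h0
  have h := central_mul hχ hz z⁻¹
  rw [inv_mul_cancel, h0, mul_zero] at h
  exact irr_degree_ne_zero hχ (mul_self_eq_zero.mp h)

/-- The centre of a non-abelian normal subgroup is central. -/
theorem center_le (hp : p.Prime) (hG : DP p G) (N : Subgroup G) [N.Normal]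
    (hN : ∃ a b : N, a * b ≠ b * a) (z : N) (hz : z ∈ Subgroup.center N) :
    (z : G) ∈ Subgroup.center G := by
  classical
  haveI : Fintype N := Fintype.ofFinite N
  obtain ⟨θ₀, hθ₀, hne⟩ : ∃ θ : N → ℂ, Cfsg.IsIrrCharacter N θ ∧ θ 1 ≠ 1 := by
    by_contra hc
    push Not at hc
    obtain ⟨a, b, hab⟩ := hN
    exact hab (comm_of_linear hc a b)
  rw [Subgroup.mem_center_iff]
  intro g
  let z' : N := MulAut.conjNormal g z
  have hu : z' * z⁻¹ = 1 := by
    refine eq_one_of_forall_irr fun θ => ?_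
    have hnl : ∀ θ : N → ℂ, Cfsg.IsIrrCharacter N θ → θ 1 ≠ 1 → θ (z' * z⁻¹) = θ 1 := by
      intro θ hθ hθ1
      have hg : conjBy N θ g = θ := by
        rcases index_inertia hp hG N hθ with r | ⟨-, r⟩
        · exact mem_inertia N |>.mp (by rw [Subgroup.index_eq_one.mp r]; trivial)
        · exact absurd r hθ1
      have hzz : θ z' = θ z := by
        have := congrFun hg z
        rw [conjBy_eq_comp] at this
        exact this
      have h := central_mul hθ hz (z' * z⁻¹)
      rw [inv_mul_cancel_right, hzz, mul_comm (θ z)] at h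
      exact mul_right_cancel₀ (center_value_ne_zero hθ hz) h.symm
    by_cases h1 : (θ : N → ℂ) 1 = 1
    · let μ := linearHom (isCharacter_of_isIrr θ.2) h1
      have h := hnl _ (isIrrCharacter_linear_mul hθ₀ μ) (by simpa using hne)
      simp only [map_one, Units.val_one, one_mul, hnl θ₀ hθ₀ hne] at h
      rw [h1, ← linearHom_apply (isCharacter_of_isIrr θ.2) h1]
      exact mul_eq_right₀ (irr_degree_ne_zero hθ₀) |>.mp h
    · exact hnl _ θ.2 h1
  have h2 : g * (z : G) * g⁻¹ = z := congrArg Subtype.val (mul_inv_eq_one.mp hu)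
  calc g * (z : G) = g * (z : G) * g⁻¹ * g := by group
    _ = (z : G) * g := by rw [h2]

/-- With commutators in a central subgroup of prime order the centre has index `p²`. -/
theorem center_index_sq (hG : DP p G) (hna : ∃ a b : G, a * b ≠ b * a)
    (N : Subgroup G) (hNZ : N ≤ Subgroup.center G) (hN : (Nat.card N).Prime)
    (hab : ∀ x y : G, x * y * x⁻¹ * y⁻¹ ∈ N) : (Subgroup.center G).index = p ^ 2 := by
  classical
  haveI : Fintype G := Fintype.ofFinite G
  obtain ⟨a, b, hab'⟩ := hna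
  have hn0 : a * b * a⁻¹ * b⁻¹ ≠ 1 := fun h => hab' <| by
    calc a * b = a * b * a⁻¹ * b⁻¹ * (b * a) := by group
      _ = b * a := by rw [h, one_mul]
  obtain ⟨χ, hχn⟩ : ∃ χ : Cfsg.IrrCharacter G,
      (χ : G → ℂ) (a * b * a⁻¹ * b⁻¹) ≠ (χ : G → ℂ) 1 := by
    by_contra hc
    push Not at hc
    exact hn0 (eq_one_of_forall_irr hc)
  have hd : (χ : G → ℂ) 1 = (p : ℂ) := by
    refine (hG _ χ.2).resolve_left fun h1 => hχn ?_
    rw [← linearHom_apply (isCharacter_of_isIrr χ.2) h1 (a * b * a⁻¹ * b⁻¹), h1]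
    simp [map_mul, map_inv]
  obtain ⟨K, -, hK, -⟩ := exists_kernel (isCharacter_of_isIrr χ.2)
  have hmin : ∀ n ∈ N, n ∈ K → n = 1 := by
    intro n hn hnK
    haveI := Fact.mk hN
    by_contra hne
    have : Subgroup.zpowers (⟨n, hn⟩ : N) = ⊤ := zpowers_eq_top_of_prime_card rfl
      (fun h => hne (congrArg Subtype.val h))
    have hle : N ≤ K := fun m hm => by
      obtain ⟨k, hk⟩ := Subgroup.mem_zpowers_iff.mp
        (this ▸ Subgroup.mem_top (⟨m, hm⟩ : N) : (⟨m, hm⟩ : N) ∈ Subgroup.zpowers (⟨n, hn⟩ : N))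
      have hk' := congrArg Subtype.val hk
      rw [SubgroupClass.coe_zpow] at hk'
      rw [show m = n ^ k from hk'.symm]
      exact K.zpow_mem hnK k
    exact hχn ((hK _).mp (hle (hab a b)))
  have hzero : ∀ g, g ∉ Subgroup.center G → (χ : G → ℂ) g = 0 := by
    intro g hg
    rw [Subgroup.mem_center_iff] at hg
    push Not at hg
    obtain ⟨h, hh⟩ := hg
    have hn : h * g * h⁻¹ * g⁻¹ ≠ 1 := fun e => hh <| by
      calc h * g = h * g * h⁻¹ * g⁻¹ * (g * h) := by group
        _ = g * h := by rw [e, one_mul]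
    have hne : (χ : G → ℂ) (h * g * h⁻¹ * g⁻¹) ≠ (p : ℂ) := fun e =>
      hn (hmin _ (hab h g) ((hK _).mpr (e.trans hd.symm)))
    have e1 := central_mul χ.2 (hNZ (hab h g)) g
    have e2 : g * (h * g * h⁻¹ * g⁻¹) = h * g * h⁻¹ := by
      rw [Subgroup.mem_center_iff.mp (hNZ (hab h g)) g, inv_mul_cancel_right]
    rw [e2, isClassFunction_of_isCharacter (isCharacter_of_isIrr χ.2) g h, hd] at e1
    have e3 : (χ : G → ℂ) g * ((p : ℂ) - (χ : G → ℂ) (h * g * h⁻¹ * g⁻¹)) = 0 := by
      rw [mul_sub, e1, sub_self]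
    exact (mul_eq_zero.mp e3).resolve_right (sub_ne_zero.mpr hne.symm)
  have hval : ∀ g : G, (χ : G → ℂ) g * (starRingEnd ℂ) ((χ : G → ℂ) g) =
      if g ∈ Subgroup.center G then ((p : ℂ) * p) else 0 := by
    intro g
    split_ifs with hg
    · have h := central_mul χ.2 hg g⁻¹
      rw [inv_mul_cancel, hd, irr_inv χ g] at h
      rw [h, mul_comm]
    · rw [hzero g hg, zero_mul]
  have h1 := classInner_irr_self χ.2
  simp only [Cfsg.classInner, hval, Finset.sum_ite, Finset.sum_const_zero, add_zero,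
    Finset.sum_const, nsmul_eq_mul] at h1
  rw [← Fintype.card_subtype, ← Nat.card_eq_fintype_card, inv_mul_eq_div,
    div_eq_one_iff_eq (Nat.cast_ne_zero.mpr Nat.card_pos.ne')] at h1
  have h2 : Nat.card (Subgroup.center G) * (p * p) = Nat.card G := by exact_mod_cast h1
  rw [← (Subgroup.center G).card_mul_index, ← sq] at h2
  exact (Nat.eq_of_mul_eq_mul_left Nat.card_pos h2).symm

/-- A centre of index dividing `p³`. -/
theorem of_center_index (hp : p.Prime) (hna : ∃ a b : G, a * b ≠ b * a)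
    (h : (Subgroup.center G).index ∣ p ^ 3) :
    (∃ A : Subgroup G, A.Normal ∧ (∀ a ∈ A, ∀ b ∈ A, a * b = b * a) ∧ A.index = p) ∨
      (Subgroup.center G).index = p ^ 3 := by
  haveI := Fact.mk hp
  obtain ⟨i, hi, hidx⟩ := (Nat.dvd_prime_pow hp).mp h
  obtain ⟨a, b, hab⟩ := hna
  have hcard : Nat.card (G ⧸ Subgroup.center G) = p ^ i := by
    rw [← hidx]; rfl
  have hcyc : ¬ IsCyclic (G ⧸ Subgroup.center G) := fun _ =>
    hab (commutative_of_cyclic_center_quotient (QuotientGroup.mk' _)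
      (QuotientGroup.ker_mk' _).le a b)
  interval_cases i
  · rw [pow_zero] at hcard
    haveI := (Nat.card_eq_one_iff_unique.mp hcard).1
    exact absurd isCyclic_of_subsingleton hcyc
  · exact absurd (isCyclic_of_prime_card (p := p) (by rw [hcard, pow_one])) hcyc
  · left
    have hcomm := IsPGroup.commutative_of_card_eq_prime_sq hcard
    set Z := Subgroup.center G with hZ
    have ha : a ∉ Z := fun h => hab (Subgroup.mem_center_iff.mp h b).symm
    let A : Subgroup G := Subgroup.centralizer {a}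
    have hmemA : ∀ x, x ∈ A ↔ x * a = a * x := fun x => by
      simp [A, Subgroup.mem_centralizer_iff, eq_comm]
    let A₀ : Subgroup G := Subgroup.zpowers a ⊔ Z
    have hZA : Z ≤ A₀ := le_sup_right
    have hAab : ∀ x ∈ A₀, ∀ y ∈ A₀, x * y = y * x := by
      intro x hx y hy
      obtain ⟨_, ⟨j, rfl⟩, z, hz, rfl⟩ := Subgroup.mem_sup_of_normal_right.mp hx
      obtain ⟨_, ⟨k, rfl⟩, w, hw, rfl⟩ := Subgroup.mem_sup_of_normal_right.mp hy
      have hz' := Subgroup.mem_center_iff.mp hz
      have hw' := Subgroup.mem_center_iff.mp hw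
      simp only
      calc a ^ j * z * (a ^ k * w) = a ^ j * (a ^ k * w * z) := by rw [mul_assoc, ← hz']
        _ = (a ^ j * a ^ k) * (w * z) := by group
        _ = (a ^ k * a ^ j) * (z * w) := by rw [(Commute.refl a).zpow_zpow j k |>.eq, hw' z]
        _ = a ^ k * (a ^ j * z * w) := by group
        _ = a ^ k * w * (a ^ j * z) := by rw [hw' (a ^ j * z), ← mul_assoc]
    refine ⟨A₀, ⟨fun x hx g => ?_⟩, hAab, ?_⟩
    · have h1 : g * x * g⁻¹ * x⁻¹ ∈ Z := mk_comm (hcomm _ _)
      have := A₀.mul_mem (hZA h1) hx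
      rwa [inv_mul_cancel_right] at this
    · have h1 : A₀.index ∣ p ^ 2 := hidx ▸ Subgroup.index_dvd_of_le hZA
      obtain ⟨j, hj, hjA⟩ := (Nat.dvd_prime_pow hp).mp h1
      interval_cases j
      · rw [pow_zero, Subgroup.index_eq_one] at hjA
        exact absurd (hAab a (hjA ▸ trivial) b (hjA ▸ trivial)) hab
      · rw [hjA, pow_one]
      · have hrel := Subgroup.relIndex_mul_index hZA
        rw [hidx, hjA] at hrel
        have hr1 : Z.relIndex A₀ = 1 :=
          Nat.eq_of_mul_eq_mul_right (pow_pos hp.pos 2) (hrel.trans (one_mul _).symm)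
        exact absurd (Subgroup.relIndex_eq_one.mp hr1
          (le_sup_left (a := Subgroup.zpowers a) (Subgroup.mem_zpowers a))) ha
  · right; exact hidx

theorem dp_quotient (hG : DP p G) (N : Subgroup G) [N.Normal] : DP p (G ⧸ N) := by
  intro χ hχ
  have := hG _ (isIrrCharacter_comp (QuotientGroup.mk'_surjective N) hχ)
  simpa using this

/-- The case of a central `p`-power index. -/
theorem central_case (hp : p.Prime) : ∀ n : ℕ, ∀ (G : Type*) [Group G] [Finite G],
    Nat.card G = n → DP p G → (∃ a b : G, a * b ≠ b * a) →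
    (∃ i, (Subgroup.center G).index = p ^ i) →
    (∃ A : Subgroup G, A.Normal ∧ (∀ a ∈ A, ∀ b ∈ A, a * b = b * a) ∧ A.index = p) ∨
      (Subgroup.center G).index = p ^ 3 := by
  classical
  haveI := Fact.mk hp
  intro n
  induction n using Nat.strong_induction_on with
  | _ n ih =>
  intro G _ _ hn hG hna ⟨i, hi⟩
  haveI : Nontrivial G := by
    obtain ⟨a, b, hab⟩ := hna
    exact ⟨⟨_, _, hab⟩⟩
  have hZne : Subgroup.center G ≠ ⊥ := by
    intro h
    have hGp : IsPGroup p G := IsPGroup.of_card (n := i) (by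
      rw [← hi, h, Subgroup.index_bot])
    haveI := hGp.center_nontrivial
    exact (Subgroup.nontrivial_iff_ne_bot _).mp this h
  obtain ⟨q, hq, hqd⟩ := Nat.exists_prime_and_dvd
    (fun h : Nat.card (Subgroup.center G) = 1 => hZne (Subgroup.card_eq_one.mp h))
  haveI := Fact.mk hq
  obtain ⟨z, hz⟩ := exists_prime_orderOf_dvd_card' q hqd
  set N : Subgroup G := Subgroup.zpowers (z : G) with hNdef
  have hNZ : N ≤ Subgroup.center G := Subgroup.zpowers_le.mpr z.2
  have hNcard : Nat.card N = q := by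
    rw [hNdef, Nat.card_zpowers, Subgroup.orderOf_coe, hz]
  haveI hNn : N.Normal := ⟨fun x hx g => by
    rw [Subgroup.mem_center_iff.mp (hNZ hx) g, mul_inv_cancel_right]; exact hx⟩
  by_cases hab : ∀ x y : G, x * y * x⁻¹ * y⁻¹ ∈ N
  · refine of_center_index hp hna ?_
    rw [center_index_sq hG hna N hNZ (hNcard ▸ hq) hab]
    exact pow_dvd_pow p (by norm_num)
  push Not at hab
  obtain ⟨a, b, hab⟩ := hab
  have hπ := QuotientGroup.mk'_surjective N
  have hna' : ∃ x y : G ⧸ N, x * y ≠ y * x := ⟨a, b, fun h => hab (mk_comm h)⟩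
  have hidx : (Subgroup.center (G ⧸ N)).index ∣ p ^ i := by
    have hle : Subgroup.center G ≤ (Subgroup.center (G ⧸ N)).comap (QuotientGroup.mk' N) := by
      intro w hw
      rw [Subgroup.mem_comap, Subgroup.mem_center_iff]
      intro y
      obtain ⟨y, rfl⟩ := hπ y
      rw [← map_mul, Subgroup.mem_center_iff.mp hw y, map_mul]
    rw [← hi, ← Subgroup.index_comap_of_surjective _ hπ]
    exact Subgroup.index_dvd_of_le hle
  obtain ⟨i', -, hi'⟩ := (Nat.dvd_prime_pow hp).mp hidx
  have hlt : Nat.card (G ⧸ N) < n := by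
    rw [← hn, Subgroup.card_eq_card_quotient_mul_card_subgroup N, hNcard]
    exact lt_mul_of_one_lt_right Nat.card_pos hq.one_lt
  rcases ih _ hlt (G ⧸ N) rfl (dp_quotient hG N) hna' ⟨i', hi'⟩ with ⟨Ab, hAn, hAab, hAi⟩ | hc
  · haveI := hAn
    set A := Ab.comap (QuotientGroup.mk' N) with hA
    have hAidx : A.index = p := (Subgroup.index_comap_of_surjective _ hπ).trans hAi
    haveI hAnn : A.Normal := hAn.comap _
    by_cases habA : ∀ x ∈ A, ∀ y ∈ A, x * y = y * x
    · exact Or.inl ⟨A, hAnn, habA, hAidx⟩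
    push Not at habA
    obtain ⟨x, hx, y, hy, hxy⟩ := habA
    have hnaA : ∃ u v : A, u * v ≠ v * u :=
      ⟨⟨x, hx⟩, ⟨y, hy⟩, fun e => hxy (congrArg Subtype.val e)⟩
    have hNA : N ≤ A := fun w hw => by
      rw [hA, Subgroup.mem_comap, show QuotientGroup.mk' N w = 1 from
        (QuotientGroup.eq_one_iff w).mpr hw]
      exact Ab.one_mem
    have hsq := center_index_sq (dp_normal hp hG A) hnaA (N.subgroupOf A)
      (fun w hw => by
        rw [Subgroup.mem_center_iff]
        intro v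
        exact Subtype.ext (Subgroup.mem_center_iff.mp (hNZ hw) v))
      (by rw [Nat.card_congr (Subgroup.subgroupOfEquivOfLe hNA).toEquiv, hNcard]; exact hq)
      (fun u v => by
        rw [Subgroup.mem_subgroupOf]
        push_cast
        exact mk_comm (hAab _ u.2 _ v.2))
    refine of_center_index hp hna ?_
    have hle : (Subgroup.center A).map A.subtype ≤ Subgroup.center G := by
      rintro w ⟨v, hv, rfl⟩
      exact center_le hp hG A hnaA v hv
    have := Subgroup.index_dvd_of_le hle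
    rwa [Subgroup.index_map_subtype, hsq, hAidx, ← pow_succ] at this
  · set Z₂ := (Subgroup.center (G ⧸ N)).comap (QuotientGroup.mk' N) with hZ₂
    have hZ₂i : Z₂.index = p ^ 3 := (Subgroup.index_comap_of_surjective _ hπ).trans hc
    by_cases hle : Z₂ ≤ Subgroup.center G
    · exact of_center_index hp hna (hZ₂i ▸ Subgroup.index_dvd_of_le hle)
    obtain ⟨c, hc2, hcZ⟩ := SetLike.not_le_iff_exists.mp hle
    have hmem : ∀ g, g * c * g⁻¹ * c⁻¹ ∈ N := by
      intro g
      exact mk_comm (Subgroup.mem_center_iff.mp hc2 g)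
    let f : G →* N := MonoidHom.mk' (fun g => ⟨g * c * g⁻¹ * c⁻¹, hmem g⟩) fun g h => by
      apply Subtype.ext
      show g * h * c * (g * h)⁻¹ * c⁻¹ = g * c * g⁻¹ * c⁻¹ * (h * c * h⁻¹ * c⁻¹)
      have hn' := Subgroup.mem_center_iff.mp (hNZ (hmem h))
      calc g * h * c * (g * h)⁻¹ * c⁻¹ = g * (h * c * h⁻¹ * c⁻¹) * (c * g⁻¹ * c⁻¹) := by group
        _ = h * c * h⁻¹ * c⁻¹ * g * (c * g⁻¹ * c⁻¹) := by rw [hn' g]
        _ = h * c * h⁻¹ * c⁻¹ * (g * c * g⁻¹ * c⁻¹) := by group
        _ = g * c * g⁻¹ * c⁻¹ * (h * c * h⁻¹ * c⁻¹) := (hn' _).symm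
    have hker : ∀ g, g ∈ f.ker ↔ g * c = c * g := by
      intro g
      rw [MonoidHom.mem_ker]
      constructor
      · intro h
        have h' : g * c * g⁻¹ * c⁻¹ = 1 := congrArg Subtype.val h
        calc g * c = g * c * g⁻¹ * c⁻¹ * (c * g) := by group
          _ = c * g := by rw [h', one_mul]
      · intro h
        apply Subtype.ext
        show g * c * g⁻¹ * c⁻¹ = 1
        rw [h]; group
    have hidxq : f.ker.index = q := by
      rw [Subgroup.index_ker]
      have hd := Subgroup.card_subgroup_dvd_card f.range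
      rw [hNcard] at hd
      refine (hq.eq_one_or_self_of_dvd _ hd).resolve_left fun h1 => hcZ ?_
      rw [Subgroup.mem_center_iff]
      intro g
      exact (hker g).mp (MonoidHom.mem_ker.mpr (Subgroup.mem_bot.mp
        (Subgroup.card_eq_one.mp h1 ▸ ⟨g, rfl⟩ : f g ∈ (⊥ : Subgroup N))))
    have hqp : q = p := by
      refine (Nat.prime_dvd_prime_iff_eq hq hp).mp (hq.dvd_of_dvd_pow (n := i) ?_)
      rw [← hidxq, ← hi]
      exact Subgroup.index_dvd_of_le fun w hw =>
        (hker w).mpr (Subgroup.mem_center_iff.mp hw c).symm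
    left
    refine ⟨f.ker, MonoidHom.normal_ker f, ?_, hidxq.trans hqp⟩
    by_contra hnA
    push Not at hnA
    obtain ⟨x, hx, y, hy, hxy⟩ := hnA
    exact hcZ (center_le hp hG f.ker ⟨⟨x, hx⟩, ⟨y, hy⟩, fun e => hxy (congrArg Subtype.val e)⟩
      ⟨c, (hker c).mpr rfl⟩ (Subgroup.mem_center_iff.mpr fun v =>
        Subtype.ext ((hker v).mp v.2)))

/-- Stabilisers of two characters of a normal subgroup agree. -/
theorem stabiliser_eq (hp : p.Prime) (K : Subgroup G) [K.Normal]
    (hK : (Nat.card K).Coprime p)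
    (hidx : ∀ f : K →* ℂˣ, (inertia K (fun k => (f k : ℂ))).index = 1 ∨
      ((inertia K (fun k => (f k : ℂ))).index = p ∧ (inertia K (fun k => (f k : ℂ))).Normal))
    (f₁ f₂ : K →* ℂˣ) (h₁ : (inertia K (fun k => (f₁ k : ℂ))).index = p)
    (h₂ : (inertia K (fun k => (f₂ k : ℂ))).index = p) :
    inertia K (fun k => (f₁ k : ℂ)) = inertia K (fun k => (f₂ k : ℂ)) := by
  classical
  have hmem : ∀ (f : K →* ℂˣ) (g : G), g ∈ inertia K (fun k => (f k : ℂ)) ↔
      ∀ k, f (MulAut.conjNormal g k) = f k := by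
    intro f g
    rw [mem_inertia, conjBy_eq_comp, funext_iff]
    exact forall_congr' fun k => ⟨fun h => Units.ext h, fun h => congrArg Units.val h⟩
  let c : G → MulAut K := fun g => MulAut.conjNormal g
  have hc : ∀ a b k, c (a * b) k = c a (c b k) := fun a b k => by
    simp [c, map_mul, MulAut.mul_apply]
  set T₁ := inertia K (fun k => (f₁ k : ℂ)) with hT₁
  set T₂ := inertia K (fun k => (f₂ k : ℂ)) with hT₂
  set T₃ := inertia K (fun k => ((f₁ * f₂) k : ℂ)) with hT₃
  haveI n₁ : T₁.Normal := ((hidx f₁).resolve_left (by rw [h₁]; exact hp.one_lt.ne')).2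
  haveI n₂ : T₂.Normal := ((hidx f₂).resolve_left (by rw [h₂]; exact hp.one_lt.ne')).2
  by_contra hne
  have hnle : ¬ T₃ ≤ T₁ := by
    intro hle
    rcases hidx (f₁ * f₂) with e | ⟨e, -⟩
    · have h := Subgroup.index_dvd_of_le hle
      rw [h₁, e] at h
      exact hp.not_dvd_one h
    · have h13 : T₃ = T₁ := by
        have hrel := Subgroup.relIndex_mul_index hle
        rw [h₁, show T₃.index = p from e] at hrel
        exact le_antisymm hle (Subgroup.relIndex_eq_one.mp
          (Nat.eq_of_mul_eq_mul_right hp.pos (hrel.trans (one_mul p).symm)))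
      have h12 : T₁ ≤ T₂ := by
        intro t ht
        rw [hT₂, hmem]
        intro k
        have e3 := (hmem _ t).mp (h13.symm ▸ ht : t ∈ T₃) k
        rw [MonoidHom.mul_apply, MonoidHom.mul_apply, (hmem _ t).mp ht k] at e3
        exact mul_left_cancel e3
      have hrel := Subgroup.relIndex_mul_index h12
      rw [h₁, h₂] at hrel
      exact hne (le_antisymm h12 (Subgroup.relIndex_eq_one.mp
        (Nat.eq_of_mul_eq_mul_right hp.pos (hrel.trans (one_mul p).symm))))
  obtain ⟨h, hh3, hh1⟩ := SetLike.not_le_iff_exists.mp hnle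
  let x : K → ℂˣ := fun k => f₁ (c h k) * (f₁ k)⁻¹
  have hx' : ∀ k, x k = f₂ k * (f₂ (c h k))⁻¹ := by
    intro k
    have e3 := (hmem _ h).mp hh3 k
    rw [MonoidHom.mul_apply, MonoidHom.mul_apply] at e3
    show f₁ (c h k) * (f₁ k)⁻¹ = _
    rw [mul_inv_eq_iff_eq_mul, mul_assoc, mul_comm (f₂ (c h k))⁻¹, ← mul_assoc,
      mul_comm (f₂ k), eq_mul_inv_iff_mul_eq]
    exact e3
  have hfix : ∀ (T : Subgroup G) [T.Normal] (f : K →* ℂˣ),
      (∀ t ∈ T, ∀ k, f (c t k) = f k) → ∀ t ∈ T, ∀ k, f (c h (c t k)) = f (c h k) := by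
    intro T hT f hf t ht k
    have e : c h (c t k) = c (h * t * h⁻¹) (c h k) := by
      rw [← hc, ← hc, inv_mul_cancel_right]
    rw [e, hf _ (hT.conj_mem t ht h)]
  have htop : ∀ g k, x (c g k) = x k := by
    let S : Subgroup G :=
      { carrier := {g | ∀ k, x (c g k) = x k}
        one_mem' := fun k => by simp [c]
        mul_mem' := fun {a b} ha hb k => by rw [hc, ha, hb]
        inv_mem' := fun {a} ha k => by
          have := ha (c a⁻¹ k)
          rw [← hc, mul_inv_cancel] at this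
          simpa [c] using this.symm }
    have s1 : T₁ ≤ S := fun t ht k => by
      show f₁ (c h (c t k)) * (f₁ (c t k))⁻¹ = _
      rw [hfix T₁ f₁ (fun t ht => (hmem _ t).mp ht) t ht k,
        show f₁ (c t k) = f₁ k from (hmem _ t).mp ht k]
    have s2 : T₂ ≤ S := fun t ht k => by
      rw [hx', hx', hfix T₂ f₂ (fun t ht => (hmem _ t).mp ht) t ht k,
        show f₂ (c t k) = f₂ k from (hmem _ t).mp ht k]
    have hsup : T₁ ⊔ T₂ = ⊤ := by
      have hd : (T₁ ⊔ T₂).index ∣ p := h₁ ▸ Subgroup.index_dvd_of_le le_sup_left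
      rcases hp.eq_one_or_self_of_dvd _ hd with e | e
      · exact Subgroup.index_eq_one.mp e
      · exfalso
        have hr1 := Subgroup.relIndex_mul_index (le_sup_left : T₁ ≤ T₁ ⊔ T₂)
        have hr2 := Subgroup.relIndex_mul_index (le_sup_right : T₂ ≤ T₁ ⊔ T₂)
        rw [e, h₁] at hr1
        rw [e, h₂] at hr2
        have q1 := Subgroup.relIndex_eq_one.mp
          (Nat.eq_of_mul_eq_mul_right hp.pos (hr1.trans (one_mul p).symm))
        have q2 := Subgroup.relIndex_eq_one.mp
          (Nat.eq_of_mul_eq_mul_right hp.pos (hr2.trans (one_mul p).symm))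
        exact hne (le_antisymm (le_sup_left.trans q2) (le_sup_right.trans q1))
    intro g k
    exact (sup_le s1 s2 (hsup ▸ trivial : g ∈ T₁ ⊔ T₂)) k
  have hpow : ∀ (j : ℕ) k, f₁ (c (h ^ j) k) = f₁ k * x k ^ j := by
    intro j
    induction j with
    | zero => intro k; simp [c]
    | succ j ihj =>
      intro k
      rw [pow_succ, hc, ihj (c h k), htop, pow_succ]
      show f₁ (c h k) * x k ^ j = _
      rw [mul_comm (x k ^ j), ← mul_assoc]
      congr 1
      simp [x, mul_comm]
  refine hh1 ((hmem _ h).mpr fun k => ?_)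
  have hxp : x k ^ p = 1 := by
    have hm : h ^ p ∈ T₁ := h₁ ▸ Subgroup.pow_index_mem T₁ h
    have := hpow p k
    rw [show f₁ (c (h ^ p) k) = f₁ k from (hmem _ _).mp hm k] at this
    simpa using this.symm
  have hxK : x k ^ Nat.card K = 1 := by
    show (f₁ (c h k) * (f₁ k)⁻¹) ^ Nat.card K = 1
    rw [mul_pow, inv_pow, ← map_pow, ← map_pow, ← map_pow, pow_card_eq_one']
    simp
  have := pow_gcd_eq_one.mpr ⟨hxK, hxp⟩
  rw [hK, pow_one] at this
  exact mul_inv_eq_one.mp this

end Deg

/-- Let G be a non-abelian finite group and p a prime. Then the irreducible character degrees of G are exactly 1 and p if and only if either G has an abelian normal subgroup of index p or the centre of G has index p³. -/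
theorem result {G : Type*} [Group G] [Finite G] (hG : ∃ a b : G, a * b ≠ b * a) (p : ℕ) (hp : p.Prime) : ((∀ χ : Cfsg.IrrCharacter G, Cfsg.charDegree (χ : G → ℂ) = 1 ∨ Cfsg.charDegree (χ : G → ℂ) = p) ∧ ∃ χ : Cfsg.IrrCharacter G, Cfsg.charDegree (χ : G → ℂ) = p) ↔ ((∃ A : Subgroup G, A.Normal ∧ (∀ a ∈ A, ∀ b ∈ A, a * b = b * a) ∧ A.index = p) ∨ (Subgroup.center G).index = p ^ 3) := by
  classical
  haveI := Fact.mk hp
  haveI : Fintype G := Fintype.ofFinite G
  have hcd : ∀ χ : G → ℂ, Cfsg.IsIrrCharacter G χ →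
      ∃ d : ℕ, χ 1 = (d : ℂ) ∧ Cfsg.charDegree χ = d := by
    intro χ hχ
    obtain ⟨d, -, hd⟩ := exists_nat_degree_irr hχ
    exact ⟨d, hd, Extraspecial.charDegree_eq hd⟩
  constructor
  · rintro ⟨hdeg, -⟩
    have hD : Deg.DP p G := by
      intro χ hχ
      obtain ⟨d, hd, hc⟩ := hcd χ hχ
      rcases hdeg ⟨χ, hχ⟩ with e | e
      · left; rw [hd, ← hc, e, Nat.cast_one]
      · right; rw [hd, ← hc, e]
    obtain ⟨K, hKn, hKp, k, hKi⟩ := Cfsg.Agent.S4456.result p hp fun χ hne =>
      dvd_of_eq ((hdeg χ).resolve_left hne).symm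
    haveI := hKn
    haveI : Fintype K := Fintype.ofFinite K
    have hKab : ∀ a ∈ K, ∀ b ∈ K, a * b = b * a := by
      intro a ha b hb
      refine congrArg Subtype.val (Deg.comm_of_linear (G := K) (fun θ hθ => ?_) ⟨a, ha⟩ ⟨b, hb⟩)
      refine (Deg.dp_normal hp hD K θ hθ).resolve_right fun e => ?_
      obtain ⟨d, hd, -, hdd⟩ := exists_degree_dvd_card hθ
      rw [e] at hd
      exact hp.not_dvd_one (hKp.gcd_eq_one ▸ Nat.dvd_gcd (Nat.cast_injective hd ▸ hdd) dvd_rfl)
    by_cases hKc : K ≤ Subgroup.center G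
    · have hi : (Subgroup.center G).index ∣ p ^ k := hKi ▸ Subgroup.index_dvd_of_le hKc
      obtain ⟨i, -, hi⟩ := (Nat.dvd_prime_pow hp).mp hi
      exact Deg.central_case hp _ G rfl hD hG ⟨i, hi⟩
    left
    set C := Subgroup.centralizer (K : Set G) with hC
    haveI hCn : C.Normal := Subgroup.normal_centralizer
    have hCab : ∀ a ∈ C, ∀ b ∈ C, a * b = b * a := by
      by_contra hna
      push Not at hna
      obtain ⟨x, hx, y, hy, hxy⟩ := hna
      refine hKc fun a ha => Deg.center_le hp hD C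
        ⟨⟨x, hx⟩, ⟨y, hy⟩, fun e => hxy (congrArg Subtype.val e)⟩
        ⟨a, Subgroup.mem_centralizer_iff.mpr fun b hb => hKab b hb a ha⟩ ?_
      exact Subgroup.mem_center_iff.mpr fun v =>
        Subtype.ext (Subgroup.mem_centralizer_iff.mp v.2 a ha).symm
    refine ⟨C, hCn, hCab, ?_⟩
    have hidx : ∀ f : K →* ℂˣ, (inertia K (fun k => (f k : ℂ))).index = 1 ∨
        ((inertia K (fun k => (f k : ℂ))).index = p ∧
          (inertia K (fun k => (f k : ℂ))).Normal) := by
      intro f
      have hf := isIrrCharacter_monoidHom f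
      rcases Deg.index_inertia hp hD K hf with e | ⟨e, -⟩
      · exact Or.inl e
      refine Or.inr ⟨e, ?_⟩
      set T := inertia K (fun k => (f k : ℂ)) with hT
      have hKT : K ≤ T := le_inertia K (isClassFunction_of_isCharacter (isCharacter_of_isIrr hf))
      have hπ := QuotientGroup.mk'_surjective K
      have hcm : (T.map (QuotientGroup.mk' K)).comap (QuotientGroup.mk' K) = T := by
        rw [Subgroup.comap_map_eq, QuotientGroup.ker_mk', sup_eq_left.mpr hKT]
      have hTi : (T.map (QuotientGroup.mk' K)).index = p := by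
        rw [← Subgroup.index_comap_of_surjective _ hπ, hcm, e]
      haveI : (T.map (QuotientGroup.mk' K)).Normal := by
        refine Subgroup.normal_of_index_eq_minFac_card ?_
        have hcard : Nat.card (G ⧸ K) = p ^ k := hKi
        rw [hTi, hcard, Nat.pow_minFac, hp.minFac_eq]
        rintro rfl
        rw [pow_zero] at hcard
        have := Subgroup.index_dvd_card (T.map (QuotientGroup.mk' K))
        rw [hTi, hcard] at this
        exact hp.not_dvd_one this
      rw [← hcm]
      infer_instance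
    have hlin : ∀ g : G, (∀ f : K →* ℂˣ, g ∈ inertia K (fun k => (f k : ℂ))) → g ∈ C := by
      intro g hg
      rw [hC, Subgroup.mem_centralizer_iff]
      intro a ha
      have h1 : MulAut.conjNormal g (⟨a, ha⟩ : K) * (⟨a, ha⟩ : K)⁻¹ = 1 := by
        refine eq_one_of_forall_irr fun θ => ?_
        have hl : (θ : K → ℂ) 1 = 1 :=
          degree_one_of_comm (fun u v => Subtype.ext (hKab _ u.2 _ v.2)) θ
        have hf := (mem_inertia K).mp (hg (linearHom (isCharacter_of_isIrr θ.2) hl))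
        rw [conjBy_eq_comp] at hf
        have hu : linearHom (isCharacter_of_isIrr θ.2) hl (MulAut.conjNormal g (⟨a, ha⟩ : K)) =
            linearHom (isCharacter_of_isIrr θ.2) hl ⟨a, ha⟩ := Units.ext (congrFun hf _)
        rw [← linearHom_apply (isCharacter_of_isIrr θ.2) hl, hl, map_mul, map_inv, hu,
          mul_inv_cancel, Units.val_one]
      have h2 : g * a * g⁻¹ = a := congrArg Subtype.val (mul_inv_eq_one.mp h1)
      calc a * g = g * a * g⁻¹ * g := by rw [h2]
        _ = g * a := by group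
    obtain ⟨f₁, hf₁⟩ : ∃ f : K →* ℂˣ, (inertia K (fun k => (f k : ℂ))).index = p := by
      by_contra hc
      push Not at hc
      refine hKc fun a ha => Subgroup.mem_center_iff.mpr fun g => ?_
      have := Subgroup.mem_centralizer_iff.mp (hlin g fun f => by
        rw [Subgroup.index_eq_one.mp ((hidx f).resolve_right fun h => hc f h.1)]; trivial) a ha
      exact this.symm
    suffices C = inertia K (fun k => (f₁ k : ℂ)) by rw [this, hf₁]
    refine le_antisymm (fun g hg => ?_) (fun g hg => hlin g fun f => ?_)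
    · rw [mem_inertia, conjBy_eq_comp]
      funext a
      have e : MulAut.conjNormal g a = a := Subtype.ext (by
        show g * (a : G) * g⁻¹ = a
        rw [← Subgroup.mem_centralizer_iff.mp hg a a.2, mul_inv_cancel_right])
      simp only [e]
    · rcases hidx f with e | ⟨e, -⟩
      · rw [Subgroup.index_eq_one.mp e]; trivial
      · rwa [Deg.stabiliser_eq hp K hKp hidx f f₁ e hf₁]
  · intro h
    have hdeg : ∀ χ : Cfsg.IrrCharacter G,
        Cfsg.charDegree (χ : G → ℂ) = 1 ∨ Cfsg.charDegree (χ : G → ℂ) = p := by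
      intro χ
      obtain ⟨d, hd, hc⟩ := hcd _ χ.2
      rw [hc]
      rcases h with ⟨A, hAn, hAab, hAi⟩ | hZ
      · haveI := hAn
        exact hp.eq_one_or_self_of_dvd d (hAi ▸ Extraspecial.ito χ.2 A hAab hd)
      · obtain ⟨i, -, rfl⟩ := (Nat.dvd_prime_pow hp).mp (hZ ▸ Extraspecial.ito χ.2
          (Subgroup.center G) (fun a ha b _ => (Subgroup.mem_center_iff.mp ha b).symm) hd)
        have h2 := Codegree.sq_degree_le_index χ.2 (Subgroup.center G) le_rfl hd
        rw [hZ, ← pow_add, Nat.pow_le_pow_iff_right hp.one_lt] at h2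
        have hi : i ≤ 1 := by omega
        interval_cases i
        · exact Or.inl (pow_zero p)
        · exact Or.inr (pow_one p)
    refine ⟨hdeg, ?_⟩
    by_contra hc
    push Not at hc
    obtain ⟨a, b, hab⟩ := hG
    refine hab (Deg.comm_of_linear (fun χ hχ => ?_) a b)
    obtain ⟨d, hd, hcχ⟩ := hcd χ hχ
    rw [hd, ← hcχ, (hdeg ⟨χ, hχ⟩).resolve_right (hc ⟨χ, hχ⟩), Nat.cast_one]

end Cfsg.Agent.S4459
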