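import Cfsg.Statements.S4460
import Cfsg.Agent.Lib.ThreeDegrees.Main

set_option autoImplicit false
open Cfsg

namespace Cfsg.Agent.S4460

/-- A finite group with exactly three distinct irreducible character degrees is solvable of derived length at most 3: its third derived subgroup is trivial. -/
theorem result {G : Type*} [Group G] [Finite G] (hcd : Nat.card {n : ℕ // ∃ χ : Cfsg.IrrCharacter G, Cfsg.charDegree (χ : G → ℂ) = n} = 3) : derivedSeries G 3 = ⊥ := by
  classical
  obtain ⟨hfin⟩ := Nat.card_pos_iff.mp (by omega : 0 < Nat.card {n : ℕ // ∃ χ : Cfsg.IrrCharacter G,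
    Cfsg.charDegree (χ : G → ℂ) = n})
  haveI := Fintype.ofFinite {n : ℕ // ∃ χ : Cfsg.IrrCharacter G, Cfsg.charDegree (χ : G → ℂ) = n}
  let one : {n : ℕ // ∃ χ : Cfsg.IrrCharacter G, Cfsg.charDegree (χ : G → ℂ) = n} :=
    ⟨1, ⟨fun _ => 1, CfsgLib.Char.isIrrCharacter_one⟩, CfsgLib.Char.Extraspecial.charDegree_eq (by simp)⟩
  obtain ⟨x, y, hxy⟩ : ∃ x y : ℕ, ∀ z : {n : ℕ // ∃ χ : Cfsg.IrrCharacter G,
      Cfsg.charDegree (χ : G → ℂ) = n}, (z : ℕ) = 1 ∨ (z : ℕ) = x ∨ (z : ℕ) = y := by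
    have hc : (Finset.univ.erase one).card = 2 := by
      rw [Finset.card_erase_of_mem (Finset.mem_univ one), Finset.card_univ, ← Nat.card_eq_fintype_card, hcd]
    obtain ⟨u, v, -, huv⟩ := Finset.card_eq_two.mp hc
    refine ⟨u, v, fun z => ?_⟩
    by_cases hz : z = one
    · exact Or.inl (congrArg Subtype.val hz)
    have : z ∈ Finset.univ.erase one := Finset.mem_erase.mpr ⟨hz, Finset.mem_univ z⟩
    rw [huv, Finset.mem_insert, Finset.mem_singleton] at this
    exact Or.inr (this.imp (congrArg Subtype.val) (congrArg Subtype.val))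
  refine CfsgLib.ThreeDegrees.derived_three _ G rfl x y fun χ => ?_
  obtain ⟨d, -, hd⟩ := CfsgLib.Char.exists_nat_degree_irr χ.2
  have h := hxy ⟨d, χ, CfsgLib.Char.Extraspecial.charDegree_eq hd⟩
  rw [hd]
  exact h.imp (congrArg _) (Or.imp (congrArg _) (congrArg _))

end Cfsg.Agent.S4460
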