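import Cfsg.Statements.S4467
import Cfsg.Agent.Lib.Char.Clifford
import Cfsg.Agent.Lib.Char.Central
import Cfsg.Agent.Lib.Char.MeanValue
import Cfsg.Agent.Lib.Char.MaximalInduced
import Cfsg.Agent.Lib.Char.ValueMinusFour
import Cfsg.Agent.Lib.Char.Kernel
import Cfsg.Agent.Lib.Char.Extraspecial
import Cfsg.Agent.Lib.Char.Artin
import Cfsg.Agent.Lib.Char.RamifiedInduced
import Cfsg.Agent.Lib.Fitting.Basic
import Cfsg.Agent.Lib.PSolvable.Core
import Cfsg.Agent.Lib.Coprime.Action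

set_option autoImplicit false
set_option linter.unusedSectionVars false
open Cfsg
open CfsgLib CfsgLib.Char
open scoped ComplexConjugate CfsgLib.Char commutatorElement

namespace Cfsg.Agent.S4467

universe u

/-- The degree has a divisor of the required kind. -/
def Good (p n : ℕ) : Prop :=
  ∃ q : ℕ, IsPrimePow q ∧ q ∣ n ∧
    ((q : ℤ) ≡ -1 [ZMOD p] ∨ (q : ℤ) ≡ 0 [ZMOD p] ∨ (q : ℤ) ≡ 1 [ZMOD p])

/-- The `p`-elements are closed under multiplication. -/
def Closed (p : ℕ) (G : Type*) [Group G] : Prop :=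
  ∀ x y : G, (∃ i, x ^ p ^ i = 1) → (∃ i, y ^ p ^ i = 1) → ∃ k, (x * y) ^ p ^ k = 1

theorem good_mono {p m n : ℕ} (h : Good p m) (hmn : m ∣ n) : Good p n := by
  obtain ⟨q, h1, h2, h3⟩ := h
  exact ⟨q, h1, h2.trans hmn, h3⟩

theorem good_of_dvd {p n : ℕ} (hp : p.Prime) (h : p ∣ n) : Good p n :=
  ⟨p, hp.isPrimePow, h, Or.inr (Or.inl (Int.modEq_zero_iff_dvd.mpr dvd_rfl))⟩

theorem sylow_normal_of_closed {G : Type*} [Group G] [Finite G] {p : ℕ} [hp : Fact p.Prime]
    (h : Closed p G) (P : Sylow p G) : (P : Subgroup G).Normal := by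
  let T : Subgroup G :=
    { carrier := {x | ∃ i, x ^ p ^ i = 1}
      one_mem' := ⟨0, one_pow _⟩
      mul_mem' := fun {a b} ha hb => h a b ha hb
      inv_mem' := fun {a} ⟨i, hi⟩ => ⟨i, by rw [inv_pow, hi, inv_one]⟩ }
  have hT : IsPGroup p T := fun x => by
    obtain ⟨i, hi⟩ := x.2
    exact ⟨i, Subtype.ext (by simpa using hi)⟩
  have hle : (P : Subgroup G) ≤ T := fun x hx => by
    obtain ⟨i, hi⟩ := P.2 ⟨x, hx⟩
    exact ⟨i, by simpa using congrArg Subtype.val hi⟩
  rw [← P.3 hT hle]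
  refine ⟨fun x hx g => ?_⟩
  obtain ⟨i, hi⟩ := hx
  exact ⟨i, by rw [conj_pow, hi, mul_one, mul_inv_cancel]⟩

theorem closed_of_sylow_normal {G : Type*} [Group G] [Finite G] {p : ℕ} [hp : Fact p.Prime]
    (P : Sylow p G) (hP : (P : Subgroup G).Normal) : Closed p G := by
  have hmem : ∀ x : G, (∃ i, x ^ p ^ i = 1) → x ∈ (P : Subgroup G) := by
    rintro x ⟨i, hi⟩
    have hz : IsPGroup p (Subgroup.zpowers x) := by
      rintro ⟨y, hy⟩
      obtain ⟨k, rfl⟩ := Subgroup.mem_zpowers_iff.mp hy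
      exact ⟨i, Subtype.ext (by
        simp only [SubmonoidClass.coe_pow, Subgroup.coe_one]
        rw [← zpow_natCast, ← zpow_mul, mul_comm, zpow_mul, zpow_natCast, hi, one_zpow])⟩
    obtain ⟨Q, hQ⟩ := hz.exists_le_sylow
    haveI := Sylow.unique_of_normal P hP
    have e : Q = P := Subsingleton.elim Q P
    exact (congrArg (fun S : Sylow p G => (S : Subgroup G)) e) ▸ hQ (Subgroup.mem_zpowers x)
  intro x y hx hy
  obtain ⟨k, hk⟩ := P.2 ⟨x * y, mul_mem (hmem x hx) (hmem y hy)⟩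
  exact ⟨k, by simpa using congrArg Subtype.val hk⟩

/-- An alternating commutator form gives a square index over the central part. -/
theorem exists_sq_card {G : Type*} [Group G] [Fintype G] {χ : G → ℂ} (hχ : IsIrrCharacter G χ)
    (hfaith : ∀ g : G, χ g = χ 1 → g = 1) (F : Subgroup G)
    [Fintype F]
    (hF : ∀ f ∈ F, f ∉ Subgroup.center G → ∃ g ∈ F, ⁅g, f⁆ ∈ Subgroup.center G ∧ ⁅g, f⁆ ≠ 1) :
    ∃ m : ℕ, m ^ 2 * Nat.card ↥(F ⊓ Subgroup.center G) = Nat.card F ∧
      ∃ ψ : IrrCharacter F, (ψ : F → ℂ) 1 = m ∧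
        classInner (fun n : F => χ n) (ψ : F → ℂ) ≠ 0 := by
  classical
  have hdeg := irr_degree_ne_zero hχ
  obtain ⟨ψ, hψ⟩ : ∃ ψ : IrrCharacter F, classInner (fun n : F => χ n) (ψ : F → ℂ) ≠ 0 := by
    by_contra! h
    have := classFunction_expansion (isClassFunction_restrict F
      (isClassFunction_of_isCharacter (isCharacter_of_isIrr hχ)))
    simp only [h, zero_smul, Finset.sum_const_zero] at this
    exact hdeg (by simpa using congrFun this 1)
  obtain ⟨m, -, hm⟩ := exists_nat_degree_irr ψ.2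
  have hm0 := irr_degree_ne_zero ψ.2
  have hcen : ∀ w : F, (w : G) ∈ Subgroup.center G → w ∈ Subgroup.center F := fun w hw =>
    Subgroup.mem_center_iff.mpr fun g => Subtype.ext (Subgroup.mem_center_iff.mp hw g)
  have hinv : ∀ (θ : F → ℂ), IsIrrCharacter F θ → ∀ w : F, θ w⁻¹ = conj (θ w) := fun θ hθ w => by
    obtain ⟨d, ρ, hρ, rfl⟩ := hθ
    exact char_value_inv ρ w
  -- the scalar of a central element agrees with that of `χ`
  have hlam : ∀ w : F, (w : G) ∈ Subgroup.center G →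
      (ψ : F → ℂ) w * χ 1 = χ w * (ψ : F → ℂ) 1 := by
    intro w hw
    have h1 : classInner (fun n : F => χ ((n : G) * w)) (ψ : F → ℂ) * χ 1 =
        classInner (fun n : F => χ n) (ψ : F → ℂ) * χ w := by
      simp only [classInner]
      rw [mul_assoc, mul_assoc]
      congr 1
      rw [Finset.sum_mul, Finset.sum_mul]
      refine Finset.sum_congr rfl fun n _ => ?_
      rw [mul_right_comm, central_mul hχ hw]
      ring
    have h2 : classInner (fun n : F => χ ((n : G) * w)) (ψ : F → ℂ) * (ψ : F → ℂ) 1 =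
        classInner (fun n : F => χ n) (ψ : F → ℂ) * (ψ : F → ℂ) w := by
      simp only [classInner]
      rw [mul_assoc, mul_assoc]
      congr 1
      rw [Finset.sum_mul, Finset.sum_mul]
      refine Fintype.sum_equiv (Equiv.mulRight w) _ _ fun n => ?_
      simp only [Equiv.coe_mulRight, Subgroup.coe_mul]
      have h3 := central_mul ψ.2 (hcen w⁻¹ (by simpa using inv_mem hw)) (n * w)
      rw [mul_inv_cancel_right, hinv _ ψ.2] at h3
      have h4 := congrArg (starRingEnd ℂ) h3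
      rw [map_mul, map_mul, Complex.conj_conj] at h4
      have hr : conj ((ψ : F → ℂ) 1) = (ψ : F → ℂ) 1 := by rw [hm]; simp
      rw [hr] at h4
      calc χ ((n : G) * w) * conj ((ψ : F → ℂ) n) * (ψ : F → ℂ) 1
          = χ ((n : G) * w) * (conj ((ψ : F → ℂ) n) * (ψ : F → ℂ) 1) := by ring
        _ = χ ((n : G) * w) * conj ((ψ : F → ℂ) (n * w)) * (ψ : F → ℂ) w := by rw [h4]; ring
    have h5 : classInner (fun n : F => χ n) (ψ : F → ℂ) * ((ψ : F → ℂ) w * χ 1) =
        classInner (fun n : F => χ n) (ψ : F → ℂ) * (χ w * (ψ : F → ℂ) 1) := by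
      linear_combination (χ 1) * (-1 : ℂ) * h2 + ((ψ : F → ℂ) 1) * h1
    exact mul_left_cancel₀ hψ h5
  -- vanishing off the centre
  have hvan : ∀ f : F, (f : G) ∉ Subgroup.center G → (ψ : F → ℂ) f = 0 := by
    intro f hf
    obtain ⟨g, hg, hc, hne⟩ := hF f f.2 hf
    set w : F := ⁅(⟨g, hg⟩ : F), f⁆ with hw
    have hwG : (w : G) = ⁅g, (f : G)⁆ := by
      simp only [hw, commutatorElement_def, Subgroup.coe_mul, Subgroup.coe_inv]
    have hconj : (ψ : F → ℂ) (f * w) = (ψ : F → ℂ) f := by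
      rw [Subgroup.mem_center_iff.mp (hcen w (hwG ▸ hc)) f,
        show w * f = (⟨g, hg⟩ : F) * f * (⟨g, hg⟩ : F)⁻¹ by rw [hw, commutatorElement_def]; group]
      exact isClassFunction_of_isCharacter (isCharacter_of_isIrr ψ.2) _ _
    have h1 := central_mul ψ.2 (hcen w (hwG ▸ hc)) f
    rw [hconj] at h1
    by_contra hf0
    have h2 : (ψ : F → ℂ) 1 = (ψ : F → ℂ) w := mul_left_cancel₀ hf0 h1
    have h3 := hlam w (hwG ▸ hc)
    rw [← h2, mul_comm] at h3
    exact hne (hwG ▸ hfaith w (mul_right_cancel₀ hm0 h3).symm)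
  -- the norm
  have hnorm : ∀ f : F, (ψ : F → ℂ) f * conj ((ψ : F → ℂ) f) =
      if (f : G) ∈ Subgroup.center G then (m : ℂ) ^ 2 else 0 := by
    intro f
    split_ifs with hf
    · have h := central_mul ψ.2 (hcen f⁻¹ (by simpa using inv_mem hf)) f
      rw [mul_inv_cancel, hinv _ ψ.2, hm] at h
      rw [← h]; ring
    · rw [hvan f hf, zero_mul]
  refine ⟨m, ?_, ψ, hm, hψ⟩
  have h1 := classInner_irr_self ψ.2
  simp only [classInner] at h1
  rw [Finset.sum_congr rfl fun f _ => hnorm f, Finset.sum_ite, Finset.sum_const_zero, add_zero,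
    Finset.sum_const, nsmul_eq_mul, ← Fintype.card_subtype] at h1
  have hcard : Fintype.card {f : F // (f : G) ∈ Subgroup.center G} =
      Nat.card ↥(F ⊓ Subgroup.center G) := by
    rw [← Nat.card_eq_fintype_card]
    exact Nat.card_congr
      { toFun := fun f => ⟨(f.1 : G), f.1.2, f.2⟩
        invFun := fun f => ⟨⟨f.1, f.2.1⟩, f.2.2⟩
        left_inv := fun f => rfl
        right_inv := fun f => rfl }
  rw [hcard] at h1
  have hF0 : (Nat.card F : ℂ) ≠ 0 := Nat.cast_ne_zero.mpr Nat.card_pos.ne'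
  rw [inv_mul_eq_iff_eq_mul₀ hF0, mul_one] at h1
  rw [mul_comm]
  exact_mod_cast h1

/-- Either induced from a proper subgroup, or homogeneous on every normal subgroup. -/
theorem induced_or_homogeneous {G : Type*} [Group G] [Fintype G] {χ : G → ℂ}
    (hχ : IsIrrCharacter G χ) :
    (∃ H : Subgroup G, IsCoatom H ∧ ∃ ψ : H → ℂ, IsCharacter H ψ ∧ indFun H ψ = χ) ∨
      ∀ N : Subgroup G, N.Normal → ∃ θ : IrrCharacter N, ∃ c : ℂ,
        (fun n : N => χ n) = c • (θ : N → ℂ) := by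
  classical
  by_contra! h
  obtain ⟨hno, N, hN, hhom⟩ := h
  haveI := hN
  obtain ⟨θ, hθ⟩ := exists_constituent N (isCharacter_of_isIrr hχ) (irr_degree_ne_zero hχ)
  set T := inertia N (θ : N → ℂ) with hT
  obtain ⟨ψ, hψ, hind, -⟩ := clifford_correspondence_surjective N T θ.2 (fun g => Iff.rfl)
    (le_inertia N (isClassFunction_of_isCharacter (isCharacter_of_isIrr θ.2))) hχ hθ
  by_cases hTtop : T = ⊤
  · exact hhom θ _ (clifford_invariant N hχ θ.2
      (fun g => (hTtop ▸ Subgroup.mem_top g : g ∈ T)) hθ)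
  obtain ⟨H, hH, hTH⟩ := (eq_top_or_exists_le_coatom T).resolve_left hTtop
  refine hno H hH _ (isCharacter_indFun (T.subgroupOf H) ?_) ((indFun_trans T H hTH ψ).trans hind)
  exact isCharacter_comp (Subgroup.subgroupOfEquivOfLe hTH).toMonoidHom (isCharacter_of_isIrr hψ)

/-- Fixed points of conjugation by a `p`-element. -/
theorem card_modEq_inf_centralizer {G : Type*} [Group G] [Finite G] {p : ℕ} [Fact p.Prime] {x : G}
    (hx : ∃ i, x ^ p ^ i = 1) (E : Subgroup G) (hxE : x ∈ Subgroup.normalizer (E : Set G)) :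
    Nat.card E ≡ Nat.card ↥(E ⊓ Subgroup.centralizer ({x} : Set G)) [MOD p] := by
  let A := Subgroup.zpowers x
  have hA : IsPGroup p A := by
    obtain ⟨i, hi⟩ := hx
    rintro ⟨y, hy⟩
    obtain ⟨k, rfl⟩ := Subgroup.mem_zpowers_iff.mp hy
    exact ⟨i, Subtype.ext (by
      simp only [SubmonoidClass.coe_pow, Subgroup.coe_one]
      rw [← zpow_natCast, ← zpow_mul, mul_comm, zpow_mul, zpow_natCast, hi, one_zpow])⟩
  have hAN : A ≤ Subgroup.normalizer (E : Set G) := Subgroup.zpowers_le.mpr hxE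
  letI : MulAction A E :=
    { smul := fun a e => ⟨(a : G) * e * (a : G)⁻¹,
        (Subgroup.mem_normalizer_iff.mp (hAN a.2) e).mp e.2⟩
      one_smul := fun e => Subtype.ext (by show (1 : G) * e * (1 : G)⁻¹ = e; group)
      mul_smul := fun a b e => Subtype.ext (by
        show ((a : G) * b) * e * ((a : G) * b)⁻¹ = a * (b * e * (b : G)⁻¹) * (a : G)⁻¹; group) }
  refine (hA.card_modEq_card_fixedPoints E).trans (of_eq ?_)
  refine Nat.card_congr
    { toFun := fun e => ⟨(e.1 : G), e.1.2, Subgroup.mem_centralizer_singleton_iff.mpr ?_⟩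
      invFun := fun e => ⟨⟨e.1, e.2.1⟩, ?_⟩
      left_inv := fun e => rfl
      right_inv := fun e => rfl }
  · have h := congrArg Subtype.val (e.2 ⟨x, Subgroup.mem_zpowers x⟩)
    exact (mul_inv_eq_iff_eq_mul.mp h).symm
  · intro a
    obtain ⟨k, hk⟩ := Subgroup.mem_zpowers_iff.mp a.2
    refine Subtype.ext (mul_inv_eq_iff_eq_mul.mpr ?_)
    have hc : Commute (x : G) (e.1 : G) :=
      (Subgroup.mem_centralizer_singleton_iff.mp e.2.2).symm
    show (a : G) * (e.1 : G) = (e.1 : G) * a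
    rw [← hk]
    exact (hc.zpow_left k).eq

theorem prime_pow_good {p r a b n : ℕ} (hp : p.Prime) (hr : r.Prime) (hrp : r ≠ p) (hba : b < a)
    (hdvd : r ^ a ∣ n) (h : ((r ^ a : ℕ) : ℤ) ≡ (r ^ b : ℕ) [ZMOD p] ∨
      ((r ^ a : ℕ) : ℤ) ≡ -((r ^ b : ℕ) : ℤ) [ZMOD p]) : Good p n := by
  refine ⟨r ^ (a - b), hr.isPrimePow.pow (by omega), (pow_dvd_pow r (Nat.sub_le a b)).trans hdvd, ?_⟩
  have hP := Nat.prime_iff_prime_int.mp hp
  have hnd : ¬ (p : ℤ) ∣ ((r : ℤ) ^ b) := fun hd => hrp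
    ((Nat.prime_dvd_prime_iff_eq hp hr).mp (Int.natCast_dvd_natCast.mp (hP.dvd_of_dvd_pow hd))).symm
  have hsplit : ((r : ℤ)) ^ a = (r : ℤ) ^ (a - b) * (r : ℤ) ^ b := by
    rw [← pow_add]; congr 1; omega
  rcases h with h | h
  · refine Or.inr (Or.inr ?_)
    rw [Int.modEq_iff_dvd] at h ⊢
    push_cast at h ⊢
    rw [hsplit, show (r : ℤ) ^ b - (r : ℤ) ^ (a - b) * (r : ℤ) ^ b =
      (1 - (r : ℤ) ^ (a - b)) * (r : ℤ) ^ b by ring] at h
    exact (hP.dvd_or_dvd h).resolve_right hnd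
  · refine Or.inl ?_
    rw [Int.modEq_iff_dvd] at h ⊢
    push_cast at h ⊢
    rw [hsplit, show -(r : ℤ) ^ b - (r : ℤ) ^ (a - b) * (r : ℤ) ^ b =
      (-1 - (r : ℤ) ^ (a - b)) * (r : ℤ) ^ b by ring] at h
    exact (hP.dvd_or_dvd h).resolve_right hnd

/-- The homogeneous case. -/
theorem primitive_case {G : Type*} [Group G] [Fintype G] [Group.IsSolvable G] {χ : G → ℂ}
    (hχ : IsIrrCharacter G χ) (hfaith : ∀ g : G, χ g = χ 1 → g = 1) {n : ℕ} (hn : χ 1 = n)
    {p : ℕ} [hp : Fact p.Prime] (hgood : ¬ Good p n)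
    (hom : ∀ N : Subgroup G, N.Normal → ∃ θ : IrrCharacter N, ∃ c : ℂ,
      (fun m : N => χ m) = c • (θ : N → ℂ)) (P : Sylow p G) : (P : Subgroup G).Normal := by
  classical
  -- commutative normal subgroups are central
  have hab : ∀ A : Subgroup G, A.Normal → ⁅A, A⁆ = ⊥ → A ≤ Subgroup.center G := by
    intro A hA hAA a ha
    obtain ⟨θ, c, hc⟩ := hom A hA
    rw [Subgroup.mem_center_iff]
    intro g
    rw [← commutatorElement_eq_one_iff_mul_comm]
    refine hfaith _ ?_
    have hga : g * a * g⁻¹ ∈ A := hA.conj_mem a ha g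
    have hcomm : ∀ u v : A, u * v = v * u := fun u v => Subtype.ext
      (commutatorElement_eq_one_iff_mul_comm.mp
        ((Subgroup.mem_bot).mp (hAA ▸ Subgroup.commutator_mem_commutator u.2 v.2)))
    have hθ1 : (θ : A → ℂ) 1 = 1 := degree_one_of_comm hcomm θ
    have hmul : ∀ u v : A, (θ : A → ℂ) (u * v) = (θ : A → ℂ) u * (θ : A → ℂ) v := fun u v => by
      have h := central_mul θ.2 (z := v) (Subgroup.mem_center_iff.mpr fun w => hcomm w v) u
      rwa [hθ1, mul_one] at h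
    have hv : ∀ u : A, χ u = c * (θ : A → ℂ) u := fun u => congrFun hc u
    have h1 : χ 1 = c := by simpa [hθ1] using hv 1
    have hconj : (θ : A → ℂ) ⟨g * a * g⁻¹, hga⟩ = (θ : A → ℂ) ⟨a, ha⟩ := by
      have e1 := hv ⟨g * a * g⁻¹, hga⟩
      rw [isClassFunction_of_isCharacter (isCharacter_of_isIrr hχ) a g, hv ⟨a, ha⟩] at e1
      exact (mul_left_cancel₀ (h1 ▸ irr_degree_ne_zero hχ) e1).symm
    have h2 := hv (⟨g * a * g⁻¹, hga⟩ * ⟨a, ha⟩⁻¹)
    rw [hmul, hconj, ← hmul, mul_inv_cancel, hθ1, mul_one, ← h1] at h2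
    simpa [commutatorElement_def] using h2
  by_contra hPn
  -- the normal prime cores
  have hcls : ∀ q : ℕ, q.Prime → ∀ e ∈ Cfsg.pCore q G, ∀ f ∈ Cfsg.pCore q G,
      ⁅e, f⁆ ∈ Subgroup.center G := by
    intro q hq
    haveI := Fact.mk hq
    set E := Cfsg.pCore q G
    haveI : E.Normal := Fitting.pCore_normal q
    haveI : Group.IsNilpotent E := (Fitting.pCore_isPGroup q).isNilpotent
    suffices h : ⁅E, E⁆ ≤ Subgroup.center G from fun e he f hf =>
      h (Subgroup.commutator_mem_commutator he hf)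
    by_contra hcon
    -- a smallest noncentral member of the descending series
    let S : Set (Subgroup G) := {L | L.Normal ∧ L ≤ ⁅E, E⁆ ∧ ¬ L ≤ Subgroup.center G}
    haveI : Finite (Subgroup G) :=
      Finite.of_injective (fun H => (H : Set G)) SetLike.coe_injective
    obtain ⟨L, hL, hmin⟩ := (Set.toFinite S).exists_minimal
      ⟨⁅E, E⁆, Subgroup.commutator_normal E E, le_rfl, hcon⟩
    obtain ⟨hLn, hLE, hLc⟩ := hL
    haveI := hLn
    have hLE' : L ≤ E := hLE.trans (Subgroup.commutator_le_left E E)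
    have hlt : ⁅L, E⁆ < L :=
      Coprime.commutator_lt_of_isNilpotent (X := E) (U := L) (P := E) hLE' le_rfl
        (by rw [Subgroup.normalizer_eq_top_iff.mpr hLn]; exact le_top)
        (fun h => hLc (h ▸ bot_le))
    have hcen : ⁅L, E⁆ ≤ Subgroup.center G := by
      by_contra hc
      exact hlt.not_ge (hmin ⟨Subgroup.commutator_normal L E, hlt.le.trans hLE, hc⟩ hlt.le)
    have h1 : ⁅⁅L, E⁆, E⁆ = ⊥ :=
      Subgroup.commutator_eq_bot_iff_le_centralizer.mpr (hcen.trans (Subgroup.center_le_centralizer _))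
    have h2 : ⁅⁅E, L⁆, E⁆ = ⊥ := by rw [Subgroup.commutator_comm E L]; exact h1
    have h3 : ⁅⁅E, E⁆, L⁆ = ⊥ := Subgroup.commutator_commutator_eq_bot_of_rotate h2 h1
    refine hLc (hab L hLn (le_bot_iff.mp ?_))
    rw [← h3]
    exact Subgroup.commutator_mono hLE le_rfl
  have hne : ∀ q : ℕ, q.Prime → ∀ f ∈ Cfsg.pCore q G, f ∉ Subgroup.center G →
      ∃ g ∈ Cfsg.pCore q G, ⁅g, f⁆ ∈ Subgroup.center G ∧ ⁅g, f⁆ ≠ 1 := by
    intro q hq f hf hfc
    haveI := Fitting.pCore_normal (G := G) q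
    by_contra! h
    -- the centre of the core is central
    refine hfc (hab ((Subgroup.center (Cfsg.pCore q G)).map (Cfsg.pCore q G).subtype) inferInstance ?_ ?_)
    · rw [Subgroup.commutator_eq_bot_iff_le_centralizer]
      rintro _ ⟨u, hu, rfl⟩
      rw [Subgroup.mem_centralizer_iff]
      rintro _ ⟨v, -, rfl⟩
      exact congrArg Subtype.val (Subgroup.mem_center_iff.mp hu v)
    · refine ⟨⟨f, hf⟩, Subgroup.mem_center_iff.mpr fun g => Subtype.ext ?_, rfl⟩
      exact commutatorElement_eq_one_iff_mul_comm.mp (h g g.2 (hcls q hq g g.2 f hf))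
  -- a constituent on a core has degree dividing `n`
  have hdiv : ∀ (E : Subgroup G) [E.Normal] (θ : IrrCharacter E) (d : ℕ), (θ : E → ℂ) 1 = d →
      classInner (fun m : E => χ m) (θ : E → ℂ) ≠ 0 → d ∣ n := by
    intro E _ θ d hd hc
    obtain ⟨k, hk⟩ := exists_nat_classInner (isCharacter_restrict E (isCharacter_of_isIrr hχ))
      (isCharacter_of_isIrr θ.2)
    have h := clifford_degree E hχ θ.2 hc
    rw [hn, hd, hk] at h
    have h' : n = k * ((orbit E (θ : E → ℂ)).card * d) := by exact_mod_cast h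
    exact ⟨k * (orbit E (θ : E → ℂ)).card, by rw [h']; ring⟩
  -- the core at `p` is central
  have hOp : Cfsg.pCore p G ≤ Subgroup.center G := by
    haveI := Fitting.pCore_normal (G := G) p
    obtain ⟨d, hdcard, θ, hθ1, hθc⟩ :=
      exists_sq_card hχ hfaith (Cfsg.pCore p G) (hne p hp.out)
    have hdn := hdiv _ θ d hθ1 hθc
    obtain ⟨i, hi⟩ := IsPGroup.iff_card.mp (Fitting.pCore_isPGroup (G := G) p)
    obtain ⟨j, -, hj⟩ := (Nat.dvd_prime_pow hp.out).mp
      ((hdcard ▸ Dvd.dvd.mul_right (dvd_pow_self d two_ne_zero) _ : d ∣ Nat.card (Cfsg.pCore p G)).trans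
        hi.dvd)
    rcases Nat.eq_zero_or_pos j with rfl | hj0
    · rw [hj, pow_zero, one_pow, one_mul] at hdcard
      exact (Subgroup.eq_of_le_of_card_ge inf_le_left hdcard.ge).ge.trans inf_le_right
    · exact absurd (good_of_dvd hp.out ((hj ▸ dvd_pow_self p hj0.ne').trans hdn)) hgood
  -- an element moving a core at another prime
  obtain ⟨q, hq, hqp, x, hxP, hxq⟩ : ∃ q : ℕ, q.Prime ∧ q ≠ p ∧ ∃ x ∈ (P : Subgroup G),
      ¬ Cfsg.pCore q G ≤ Subgroup.centralizer ({x} : Set G) := by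
    by_contra! hall
    refine hPn ?_
    suffices hle : (P : Subgroup G) ≤ Cfsg.pCore p G by
      rw [← P.3 (Fitting.pCore_isPGroup p) hle]
      exact Fitting.pCore_normal p
    intro x hx
    set F := Cfsg.fittingSubgroup G
    haveI : F.Normal := Fitting.fittingSubgroup_normal
    haveI : Group.IsNilpotent F := Fitting.fittingSubgroup_isNilpotent
    have hle : ∀ (r : ℕ) [Fact r.Prime] (S : Sylow r F),
        (S : Subgroup F).map F.subtype ≤ Cfsg.pCore r G := by
      intro r _ S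
      haveI : (S : Subgroup F).Normal := by
        have h4 : Group.IsNilpotent F ↔ ∀ (p : ℕ) (_ : Fact p.Prime) (P : Sylow p F),
            (P : Subgroup F).Normal := (Group.isNilpotent_of_finite_tfae (G := F)).out 0 3
        exact h4.mp inferInstance r inferInstance S
      haveI : (S : Subgroup F).Characteristic := Sylow.characteristic_of_normal S inferInstance
      exact Fitting.le_pCore inferInstance (S.2.map _)
    have hxF : x ∈ F := by
      refine PSolvable.centralizer_fittingSubgroup_le ?_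
      have hsub : (F ⊓ Subgroup.centralizer ({x} : Set G)).subgroupOf F = ⊤ := by
        rw [← Subgroup.card_eq_iff_eq_top]
        refine Nat.dvd_antisymm (Subgroup.card_subgroup_dvd_card _) ?_
        refine (Nat.dvd_iff_prime_pow_dvd_dvd _ _).mpr fun r k hr hrk => ?_
        rcases Nat.eq_zero_or_pos k with rfl | hk
        · simp
        haveI := Fact.mk hr
        obtain ⟨S⟩ : Nonempty (Sylow r F) := inferInstance
        have hSC : (S : Subgroup F) ≤ (F ⊓ Subgroup.centralizer ({x} : Set G)).subgroupOf F := by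
          intro s hs
          have hs' := hle r S ⟨s, hs, rfl⟩
          refine ⟨s.2, ?_⟩
          by_cases hrp : r = p
          · subst hrp
            exact Subgroup.center_le_centralizer _ (hOp hs')
          · exact hall r hr hrp x hx hs'
        refine dvd_trans ?_ (Subgroup.card_dvd_of_le hSC)
        rw [S.card_eq_multiplicity]
        exact pow_dvd_pow r ((hr.pow_dvd_iff_le_factorization Nat.card_pos.ne').mp hrk)
      rw [Subgroup.mem_centralizer_iff]
      intro f hf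
      have h := Subgroup.mem_subgroupOf.mp (hsub ▸ Subgroup.mem_top (⟨f, hf⟩ : F) :
        (⟨f, hf⟩ : F) ∈ (F ⊓ Subgroup.centralizer ({x} : Set G)).subgroupOf F)
      exact Subgroup.mem_centralizer_singleton_iff.mp h.2
    obtain ⟨k, hk⟩ := P.2 ⟨x, hx⟩
    obtain ⟨S, hS⟩ := IsPGroup.exists_le_sylow (p := p) (P := Subgroup.zpowers (⟨x, hxF⟩ : F)) (by
      intro y
      obtain ⟨j, hj⟩ := Subgroup.mem_zpowers_iff.mp y.2
      refine ⟨k, Subtype.ext ?_⟩
      have hxk : (⟨x, hxF⟩ : F) ^ p ^ k = 1 := Subtype.ext (by simpa using congrArg Subtype.val hk)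
      simp only [SubmonoidClass.coe_pow, Subgroup.coe_one]
      rw [← hj, ← zpow_natCast, ← zpow_mul, mul_comm, zpow_mul, zpow_natCast, hxk, one_zpow])
    exact hle p S ⟨_, hS (Subgroup.mem_zpowers _), rfl⟩
  haveI := Fact.mk hq
  set E := Cfsg.pCore q G
  haveI : E.Normal := Fitting.pCore_normal q
  have hxpow : ∃ i, x ^ p ^ i = 1 := by
    obtain ⟨k, hk⟩ := P.2 ⟨x, hxP⟩
    exact ⟨k, by simpa using congrArg Subtype.val hk⟩
  have hEne := hne q hq
  set F := E ⊓ Subgroup.centralizer ({x} : Set G) with hFdef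
  have hxN : Subgroup.zpowers x ≤ Subgroup.normalizer (E : Set G) := by
    rw [Subgroup.normalizer_eq_top_iff.mpr (Fitting.pCore_normal q)]; exact le_top
  have hcop : (Nat.card (Subgroup.zpowers x)).Coprime (Nat.card E) := by
    obtain ⟨i, hi⟩ := hxpow
    obtain ⟨j, hj⟩ := IsPGroup.iff_card.mp (Fitting.pCore_isPGroup (G := G) q)
    rw [Nat.card_zpowers, hj]
    exact Nat.Coprime.coprime_dvd_left (orderOf_dvd_of_pow_eq_one hi)
      (Nat.Coprime.pow _ _ ((Nat.coprime_primes hp.out hq).mpr hqp.symm))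
  have hFne : ∀ f ∈ F, f ∉ Subgroup.center G → ∃ g ∈ F, ⁅g, f⁆ ∈ Subgroup.center G ∧ ⁅g, f⁆ ≠ 1 := by
    intro f hf hfc
    obtain ⟨g, hg, hgc, hgne⟩ := hEne f hf.1 hfc
    by_contra! h
    have hEs := Coprime.commutator_sup_centralizer hxN hcop
      (Or.inr (by haveI := (Fitting.pCore_isPGroup (G := G) q).isNilpotent; infer_instance))
    -- the elements of the core commuting with `f`
    have hle : E ≤ Subgroup.centralizer ({f} : Set G) := by
      rw [← hEs, sup_le_iff, Subgroup.commutator_le]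
      refine ⟨fun e he a ha => ?_, fun e he => ?_⟩
      · have hfa : f * a = a * f := by
          obtain ⟨k, rfl⟩ := Subgroup.mem_zpowers_iff.mp ha
          exact ((show Commute f x from Subgroup.mem_centralizer_singleton_iff.mp hf.2).zpow_right k).eq
        have hea : a * e⁻¹ * a⁻¹ ∈ E := Subgroup.Normal.conj_mem inferInstance _ (inv_mem he) a
        rw [Subgroup.mem_centralizer_singleton_iff, ← commutatorElement_eq_one_iff_mul_comm]
        have hz := Subgroup.mem_center_iff.mp (hcls q hq e he f hf.1)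
        have h1 : ⁅a * e⁻¹ * a⁻¹, f⁆ = ⁅e, f⁆⁻¹ := by
          have hc1 : ⁅e⁻¹, f⁆ = ⁅e, f⁆⁻¹ := by
            rw [show ⁅e⁻¹, f⁆ = e⁻¹ * ⁅e, f⁆⁻¹ * e by simp only [commutatorElement_def]; group]
            rw [mul_assoc, ← (Subgroup.mem_center_iff.mp (inv_mem (hcls q hq e he f hf.1)) e)]
            group
          calc ⁅a * e⁻¹ * a⁻¹, f⁆ = a * ⁅e⁻¹, a⁻¹ * f * a⁆ * a⁻¹ := by
                simp only [commutatorElement_def]; group
            _ = a * ⁅e, f⁆⁻¹ * a⁻¹ := by rw [mul_assoc a⁻¹, hfa, inv_mul_cancel_left, hc1]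
            _ = ⁅e, f⁆⁻¹ := by
                rw [Subgroup.mem_center_iff.mp (inv_mem (hcls q hq e he f hf.1)) a,
                  mul_inv_cancel_right]
        calc ⁅⁅e, a⁆, f⁆ = e * ⁅a * e⁻¹ * a⁻¹, f⁆ * e⁻¹ * ⁅e, f⁆ := by
              simp only [commutatorElement_def]; group
          _ = 1 := by
              rw [h1, Subgroup.mem_center_iff.mp (inv_mem (hcls q hq e he f hf.1)) e]; group
      · rw [Subgroup.mem_centralizer_singleton_iff, ← commutatorElement_eq_one_iff_mul_comm]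
        refine h e ⟨he.1, ?_⟩ (hcls q hq e he.1 f hf.1)
        exact Subgroup.mem_centralizer_singleton_iff.mpr
          (Subgroup.mem_centralizer_iff.mp he.2 x (Subgroup.mem_zpowers x)).symm
    exact hgne (commutatorElement_eq_one_iff_mul_comm.mpr
      (Subgroup.mem_centralizer_singleton_iff.mp (hle hg)))
  obtain ⟨mE, hmE, θ, hθ1, hθc⟩ := exists_sq_card hχ hfaith E hEne
  obtain ⟨mF, hmF, -⟩ := exists_sq_card hχ hfaith F hFne
  have hW : F ⊓ Subgroup.center G = E ⊓ Subgroup.center G := by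
    refine le_antisymm (inf_le_inf_right _ inf_le_left) fun w hw => ⟨⟨hw.1, ?_⟩, hw.2⟩
    exact Subgroup.center_le_centralizer _ hw.2
  rw [hW] at hmF
  set W := Nat.card ↥(E ⊓ Subgroup.center G)
  have hmod := card_modEq_inf_centralizer (p := p) hxpow E (hxN (Subgroup.mem_zpowers x))
  rw [← hFdef, ← hmE, ← hmF] at hmod
  obtain ⟨j, hj⟩ := IsPGroup.iff_card.mp (Fitting.pCore_isPGroup (G := G) q)
  have hWd : W ∣ q ^ j := hj ▸ Subgroup.card_dvd_of_le inf_le_left
  obtain ⟨a, -, ha⟩ := (Nat.dvd_prime_pow hq).mp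
    ((hj ▸ hmE ▸ Dvd.dvd.mul_right (dvd_pow_self mE (two_ne_zero)) _) : mE ∣ q ^ j)
  have hFj : Nat.card F ∣ q ^ j := hj ▸ Subgroup.card_dvd_of_le inf_le_left
  obtain ⟨b, -, hb⟩ := (Nat.dvd_prime_pow hq).mp
    ((hmF ▸ Dvd.dvd.mul_right (dvd_pow_self mF (two_ne_zero)) _ : mF ∣ Nat.card F).trans hFj)
  have hlt : Nat.card F < Nat.card E := by
    refine lt_of_le_of_ne (Subgroup.card_le_of_le inf_le_left) fun e => hxq ?_
    exact (Subgroup.eq_of_le_of_card_ge inf_le_left e.ge).ge.trans inf_le_right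
  subst ha hb
  have hba : b < a := by
    by_contra hle
    push_neg at hle
    rw [← hmE, ← hmF] at hlt
    exact absurd hlt (not_lt.mpr (Nat.mul_le_mul_right _
      (Nat.pow_le_pow_left (Nat.pow_le_pow_right hq.pos hle) 2)))
  have hEn : q ^ a ∣ n := hdiv E θ _ hθ1 hθc
  refine hgood (prime_pow_good hp.out hq hqp hba hEn ?_)
  have hWp : ¬ p ∣ W := fun h => by
    obtain ⟨i, -, hi⟩ := (Nat.dvd_prime_pow hq).mp hWd
    rw [hi] at h
    exact hqp ((Nat.prime_dvd_prime_iff_eq hp.out hq).mp (hp.out.dvd_of_dvd_pow h)).symm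
  have hmod2 : ((q ^ a : ℕ) : ℤ) ^ 2 * (W : ℤ) ≡ ((q ^ b : ℕ) : ℤ) ^ 2 * (W : ℤ) [ZMOD p] := by
    have := Int.natCast_modEq_iff.mpr hmod
    push_cast at this ⊢
    exact this
  have hP := Nat.prime_iff_prime_int.mp hp.out
  have hd := Int.modEq_iff_dvd.mp hmod2
  set A : ℤ := ((q ^ a : ℕ) : ℤ)
  set B : ℤ := ((q ^ b : ℕ) : ℤ)
  rw [show B ^ 2 * (W : ℤ) - A ^ 2 * (W : ℤ) = ((B - A) * (-B - A)) * (-(W : ℤ)) by ring] at hd
  rcases hP.dvd_or_dvd ((hP.dvd_or_dvd hd).resolve_right fun h =>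
      hWp (Int.natCast_dvd_natCast.mp (dvd_neg.mp h))) with h | h
  · exact Or.inl (Int.modEq_iff_dvd.mpr h)
  · exact Or.inr (Int.modEq_iff_dvd.mpr h)

/-- A character induced from a maximal subgroup: the step down. -/
theorem induced_case {G : Type*} [Group G] [Fintype G] [Group.IsSolvable G] {χ : G → ℂ}
    (hfaith : ∀ g : G, χ g = χ 1 → g = 1) {n : ℕ} (hn : χ 1 = n) {p : ℕ} [hp : Fact p.Prime]
    (hgood : ¬ Good p n) (H : Subgroup G) (hmax : IsCoatom H) {ψ : H → ℂ} (hψ : IsCharacter H ψ)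
    (hind : indFun H ψ = χ) {d : ℕ} (hd : ψ 1 = d) (K : Subgroup H)
    (hK : ∀ k ∈ K, ψ k = ψ 1)
    (hcl : ∀ x y : H, (∃ i, x ^ p ^ i = 1) → (∃ i, y ^ p ^ i = 1) → ∃ k, (x * y) ^ p ^ k ∈ K) :
    Closed p G := by
  classical
  set N := H.normalCore with hN
  haveI : N.Normal := Subgroup.normalCore_normal H
  have hNH : N ≤ H := Subgroup.normalCore_le H
  obtain ⟨M, r, k, hMn, hNM, hr, hMk, hMmin, hMab⟩ :=
    exists_step_over N (fun h => hmax.1 (top_le_iff.mp (h ▸ hNH))) inferInstance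
  haveI := hMn
  haveI := Fact.mk hr
  have hMH : ¬ M ≤ H := fun h => hNM.not_ge (Subgroup.normal_le_normalCore.mpr h)
  have hsup : M ⊔ H = ⊤ :=
    hmax.2 _ (lt_of_le_of_ne le_sup_right fun e => hMH (le_sup_left.trans_eq e.symm))
  have hdec : ∀ g : G, ∃ m ∈ M, ∃ h ∈ H, m * h = g := fun g =>
    Subgroup.mem_sup_of_normal_left.mp (hsup ▸ Subgroup.mem_top g : g ∈ M ⊔ H)
  have hindex : H.index = r ^ k := by
    have hi : H ⊓ M = N := by
      refine le_antisymm ?_ (le_inf hNH hNM.le)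
      have hn' : (H ⊓ M).Normal := ⟨fun a ha g => by
        obtain ⟨m, hm, h, hh, rfl⟩ := hdec g
        have h1 : h * a * h⁻¹ ∈ H ⊓ M :=
          ⟨H.mul_mem (H.mul_mem hh ha.1) (H.inv_mem hh), hMn.conj_mem a ha.2 h⟩
        rw [show m * h * a * (m * h)⁻¹ =
          (m * (h * a * h⁻¹) * m⁻¹ * (h * a * h⁻¹)⁻¹) * (h * a * h⁻¹) by group]
        exact (H ⊓ M).mul_mem ⟨hNH (hMab m hm _ h1.2), hNM.le (hMab m hm _ h1.2)⟩ h1⟩
      haveI := hn'
      exact Subgroup.normal_le_normalCore.mpr inf_le_left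
    rw [← hMk, ← hi, Subgroup.inf_relIndex_right, ← Subgroup.relIndex_top_right, ← hsup,
      sup_comm]
    refine Nat.eq_of_mul_eq_mul_left (Nat.card_pos : 0 < Nat.card H) ?_
    rw [← Subgroup.relIndex_bot_left H, Subgroup.relIndex_mul_relIndex ⊥ H (H ⊔ M) bot_le le_sup_left,
      ← Subgroup.relIndex_mul_relIndex ⊥ M (H ⊔ M) bot_le le_sup_right, Subgroup.relIndex_sup_right,
      ← Subgroup.relIndex_mul_relIndex ⊥ (H ⊓ M) M bot_le inf_le_right,
      ← Subgroup.relIndex_mul_relIndex ⊥ (H ⊓ M) H bot_le inf_le_left,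
      Subgroup.inf_relIndex_right, Subgroup.inf_relIndex_left]
    ring
  have hdn : n = r ^ k * d := by
    have h1 : χ 1 = (H.index : ℂ) * ψ 1 := by rw [← hind]; exact indFun_one H ψ
    rw [hn, hd, hindex] at h1
    exact_mod_cast h1
  have hrp : r ≠ p := fun e => by
    rcases Nat.eq_zero_or_pos k with rfl | hk
    · rw [pow_zero] at hindex
      exact hmax.1 (Subgroup.index_eq_one.mp hindex)
    · exact hgood (good_of_dvd hp.out (hdn ▸ Dvd.dvd.mul_right (e ▸ dvd_pow_self r hk.ne') d))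
  -- the conjugates in `H` of the `p`-elements lie in the core
  have hN' : ∀ x : G, (∃ i, x ^ p ^ i = 1) → x ∈ H → x ∈ N := by
    rintro x ⟨i, hi⟩ hxH
    set f := QuotientGroup.mk' N
    have hsurj : Function.Surjective f := QuotientGroup.mk'_surjective N
    haveI : (M.map f).Normal := hMn.map f hsurj
    set V := M.map f
    have hV : Nat.card V = r ^ k := by
      have h := Subgroup.relIndex_ker (f := f) (K := M)
      rw [QuotientGroup.ker_mk'] at h
      rw [← hMk, h]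
    have hmod := card_modEq_inf_centralizer (p := p) (x := f x)
      ⟨i, by rw [← map_pow, hi, map_one]⟩ V
      (by rw [Subgroup.normalizer_eq_top_iff.mpr inferInstance]; exact Subgroup.mem_top _)
    set W := V ⊓ Subgroup.centralizer ({f x} : Set (G ⧸ N))
    obtain ⟨c, hck, hc⟩ := (Nat.dvd_prime_pow hr).mp (hV ▸ Subgroup.card_dvd_of_le
      (inf_le_left : W ≤ V))
    rcases lt_or_eq_of_le hck with hlt | rfl
    · refine absurd (prime_pow_good hp.out hr hrp hlt (hdn ▸ Dvd.intro d rfl) (Or.inl ?_)) hgood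
      rw [hV, hc] at hmod
      exact Int.natCast_modEq_iff.mpr hmod
    have hVW : V ≤ Subgroup.centralizer ({f x} : Set (G ⧸ N)) :=
      (Subgroup.eq_of_le_of_card_ge inf_le_left (hV.trans hc.symm).le).ge.trans inf_le_right
    let D : Subgroup G := H ⊓ (Subgroup.centralizer (V : Set (G ⧸ N))).comap f
    have hDn : D.Normal := ⟨fun a ha g => by
      obtain ⟨m, hm, h, hh, rfl⟩ := hdec g
      haveI : (Subgroup.centralizer (V : Set (G ⧸ N))).Normal := inferInstance
      have h1 : h * a * h⁻¹ ∈ D :=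
        ⟨H.mul_mem (H.mul_mem hh ha.1) (H.inv_mem hh), Subgroup.Normal.conj_mem inferInstance a ha.2 h⟩
      have h2 : m * (h * a * h⁻¹) * m⁻¹ * (h * a * h⁻¹)⁻¹ ∈ N := by
        rw [← QuotientGroup.ker_mk' N, MonoidHom.mem_ker]
        have := Subgroup.mem_centralizer_iff.mp h1.2 (f m) ⟨m, hm, rfl⟩
        rw [map_mul, map_mul, map_mul, map_inv, map_inv]
        rw [show f m * f (h * a * h⁻¹) * (f m)⁻¹ = f (h * a * h⁻¹) by
          rw [this, mul_inv_cancel_right]]
        exact mul_inv_cancel _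
      refine ⟨?_, Subgroup.Normal.conj_mem inferInstance a ha.2 _⟩
      rw [show m * h * a * (m * h)⁻¹ =
        (m * (h * a * h⁻¹) * m⁻¹ * (h * a * h⁻¹)⁻¹) * (h * a * h⁻¹) by group]
      exact H.mul_mem (hNH h2) h1.1⟩
    haveI := hDn
    refine Subgroup.normal_le_normalCore.mpr inf_le_left (⟨hxH, ?_⟩ : x ∈ D)
    show f x ∈ Subgroup.centralizer (V : Set (G ⧸ N))
    rw [Subgroup.mem_centralizer_iff]
    exact fun v hv => Subgroup.mem_centralizer_singleton_iff.mp (hVW hv)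
  have hall : ∀ x : G, (∃ i, x ^ p ^ i = 1) → x ∈ N := by
    intro x hx
    have hndvd : ¬ p ∣ H.index := by
      rw [hindex]
      exact fun h => hrp ((Nat.prime_dvd_prime_iff_eq hp.out hr).mp (hp.out.dvd_of_dvd_pow h)).symm
    obtain ⟨g, hg⟩ : ∃ g : G, g * x * g⁻¹ ∈ H := by
      obtain ⟨i, hi⟩ := hx
      letI : MulAction (Subgroup.zpowers x) (G ⧸ H) := MulAction.compHom _ (Subgroup.zpowers x).subtype
      have hA : IsPGroup p (Subgroup.zpowers x) := by
        rintro ⟨y, hy⟩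
        obtain ⟨j, rfl⟩ := Subgroup.mem_zpowers_iff.mp hy
        exact ⟨i, Subtype.ext (by
          simp only [SubmonoidClass.coe_pow, Subgroup.coe_one]
          rw [← zpow_natCast, ← zpow_mul, mul_comm, zpow_mul, zpow_natCast, hi, one_zpow])⟩
      have hmod := hA.card_modEq_card_fixedPoints (G ⧸ H)
      obtain ⟨⟨w, hw⟩⟩ : Nonempty (MulAction.fixedPoints (Subgroup.zpowers x) (G ⧸ H)) := by
        refine (Nat.card_ne_zero.mp fun h0 => hndvd ?_).1
        rw [h0, ← Subgroup.index_eq_card] at hmod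
        exact Nat.modEq_zero_iff_dvd.mp hmod
      obtain ⟨g, rfl⟩ := Quotient.exists_rep w
      refine ⟨g⁻¹, ?_⟩
      have h := hw ⟨x, Subgroup.mem_zpowers x⟩
      have h' : QuotientGroup.mk (x * g) = (QuotientGroup.mk g : G ⧸ H) := h
      rw [QuotientGroup.eq, mul_inv_rev, mul_assoc] at h'
      have := H.inv_mem h'
      simpa [mul_assoc] using this
    obtain ⟨i, hi⟩ := hx
    have hgN := hN' _ ⟨i, by rw [conj_pow, hi, mul_one, mul_inv_cancel]⟩ hg
    simpa [mul_assoc] using Subgroup.Normal.conj_mem inferInstance _ hgN g⁻¹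
  intro x y hx hy
  have hxy : x * y ∈ N := mul_mem (hall x hx) (hall y hy)
  set A := (Nat.card G).factorization p
  refine ⟨A, hfaith _ ?_⟩
  set z := (x * y) ^ p ^ A with hz
  have hzval : ∀ g : G, extendByZero H ψ (g⁻¹ * z * g) = ψ 1 := by
    intro g
    have hmem : ∀ w ∈ N, g⁻¹ * w * g ∈ H := fun w hw => hNH (by
      simpa using Subgroup.Normal.conj_mem (inferInstance : N.Normal) w hw g⁻¹)
    obtain ⟨i, hi⟩ := hx
    obtain ⟨j, hj⟩ := hy
    obtain ⟨k', hk'⟩ := hcl ⟨g⁻¹ * x * g, hmem x (hall x ⟨i, hi⟩)⟩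
      ⟨g⁻¹ * y * g, hmem y (hall y ⟨j, hj⟩)⟩
      ⟨i, Subtype.ext (by simp only [SubmonoidClass.coe_pow, Subgroup.coe_one]
                          rw [show g⁻¹ * x * g = g⁻¹ * x * g⁻¹⁻¹ by group, conj_pow, hi]; group)⟩
      ⟨j, Subtype.ext (by simp only [SubmonoidClass.coe_pow, Subgroup.coe_one]
                          rw [show g⁻¹ * y * g = g⁻¹ * y * g⁻¹⁻¹ by group, conj_pow, hj]; group)⟩
    set u : H := ⟨g⁻¹ * x * g, hmem x (hall x ⟨i, hi⟩)⟩ * ⟨g⁻¹ * y * g, hmem y (hall y ⟨j, hj⟩)⟩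
      with hu
    have huA : u ^ p ^ A ∈ K := by
      have hgcd : Nat.gcd (p ^ k') (Nat.card G) ∣ p ^ A := by
        obtain ⟨t, -, ht⟩ := (Nat.dvd_prime_pow hp.out).mp (Nat.gcd_dvd_left (p ^ k') (Nat.card G))
        rw [ht]
        exact pow_dvd_pow p ((hp.out.pow_dvd_iff_le_factorization Nat.card_pos.ne').mp
          (ht ▸ Nat.gcd_dvd_right (p ^ k') (Nat.card G)))
      have h1 : u ^ Nat.card G = 1 := Subtype.ext (by simp)
      have h2 : u ^ Nat.gcd (p ^ k') (Nat.card G) ∈ K := by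
        rw [← zpow_natCast, Nat.gcd_eq_gcd_ab, zpow_add, zpow_mul, zpow_mul, zpow_natCast,
          zpow_natCast, h1, one_zpow, mul_one]
        exact K.zpow_mem hk' _
      obtain ⟨t, ht⟩ := hgcd
      rw [ht, pow_mul]
      exact K.pow_mem h2 t
    have hzu : g⁻¹ * z * g = ((u ^ p ^ A : H) : G) := by
      simp only [hu, SubmonoidClass.coe_pow, Subgroup.coe_mul, hz]
      rw [show g⁻¹ * x * g * (g⁻¹ * y * g) = g⁻¹ * (x * y) * g⁻¹⁻¹ by group, conj_pow]
      group
    rw [hzu, extendByZero_mem H ψ (u ^ p ^ A : H).2]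
    exact hK _ huA
  rw [← hind]
  simp only [indFun]
  congr 1
  refine Finset.sum_congr rfl fun g _ => ?_
  rw [hzval g, show g⁻¹ * 1 * g = 1 by group, extendByZero_mem H ψ (one_mem H)]
  rfl

theorem key : ∀ (m : ℕ) (G : Type u) [Group G] [Fintype G], Nat.card G = m → Group.IsSolvable G →
    ∀ (χ : G → ℂ), IsIrrCharacter G χ → (∀ g : G, χ g = χ 1 → g = 1) → ∀ (n : ℕ), χ 1 = n →
    ∀ (p : ℕ) [Fact p.Prime], ¬ Good p n → Closed p G := by
  intro m
  induction m using Nat.strong_induction_on with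
  | _ m ih =>
  intro G _ _ hm hsolv χ hχ hfaith n hn p _ hgood
  classical
  haveI := hsolv
  rcases induced_or_homogeneous hχ with ⟨H, hmax, ψ, hψ, hind⟩ | hom
  · obtain ⟨d, hd⟩ := exists_nat_degree hψ
    -- the character below is irreducible
    have hψirr : IsIrrCharacter H ψ := CyclicRamified.isIrr_of_indFun (χ := ⟨χ, hχ⟩) hψ hind
    obtain ⟨K, hKn, hK1, hK2⟩ := exists_kernel hψ
    haveI := hKn
    haveI : Fintype (H ⧸ K) := Fintype.ofFinite _
    obtain ⟨η, hη⟩ := MinusFour.exists_descend K ⟨ψ, hψirr⟩ fun k hk => (hK1 k).mp hk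
    have hlt : Nat.card (H ⧸ K) < m := by
      refine lt_of_le_of_lt (Nat.le_of_dvd Nat.card_pos (Subgroup.card_quotient_dvd_card K)) ?_
      rw [← hm]
      exact lt_of_le_of_ne (Nat.le_of_dvd Nat.card_pos (Subgroup.card_subgroup_dvd_card H))
        fun e => hmax.1 ((Subgroup.card_eq_iff_eq_top H).mp e)
    have hdn : d ∣ n := by
      have h1 : χ 1 = (H.index : ℂ) * ψ 1 := by rw [← hind]; exact indFun_one H ψ
      rw [hn, hd] at h1
      exact ⟨H.index, by rw [mul_comm]; exact_mod_cast h1⟩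
    have hcl := ih _ hlt (H ⧸ K) rfl inferInstance η η.2 (fun g hg => by
        obtain ⟨h, rfl⟩ := QuotientGroup.mk_surjective g
        have e : ψ h = ψ 1 := by
          have e1 := congrFun hη h
          have e2 := congrFun hη 1
          simp only at e1 e2
          rw [e1, e2]; exact hg
        exact (QuotientGroup.eq_one_iff h).mpr ((hK1 h).mpr e))
      d (by have := congrFun hη 1; simpa [hd] using this.symm) p fun h => hgood (good_mono h hdn)
    refine induced_case hfaith hn hgood H hmax hψ hind hd K (fun k hk => (hK1 k).mp hk) ?_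
    rintro x y ⟨i, hi⟩ ⟨j, hj⟩
    obtain ⟨k, hk⟩ := hcl (QuotientGroup.mk x) (QuotientGroup.mk y)
      ⟨i, by rw [← QuotientGroup.mk_pow, hi]; rfl⟩ ⟨j, by rw [← QuotientGroup.mk_pow, hj]; rfl⟩
    rw [← QuotientGroup.mk_mul, ← QuotientGroup.mk_pow, QuotientGroup.eq_one_iff] at hk
    exact ⟨k, hk⟩
  · obtain ⟨P⟩ : Nonempty (Sylow p G) := inferInstance
    exact closed_of_sylow_normal P (primitive_case hχ hfaith hn hgood hom P)

/-- Let the finite solvable group G have a faithful irreducible character of degree n, and suppose that for the prime p a Sylow p-subgroup of G is not normal. Then n is divisible by a prime power q > 1 with q congruent to −1, 0 or 1 modulo p. -/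
theorem result {G : Type*} [Group G] [Finite G] (χ : Cfsg.IrrCharacter G) (hfaith : ∀ g : G, (χ : G → ℂ) g = (χ : G → ℂ) 1 → g = 1) (n : ℕ) (hn : Cfsg.charDegree (χ : G → ℂ) = n) (hsolv : Group.IsSolvable G) (p : ℕ) (hp : p.Prime) (P : Sylow p G) (hP : ¬ (P : Subgroup G).Normal) : ∃ q : ℕ, IsPrimePow q ∧ q ∣ n ∧ ((q : ℤ) ≡ -1 [ZMOD p] ∨ (q : ℤ) ≡ 0 [ZMOD p] ∨ (q : ℤ) ≡ 1 [ZMOD p]) := by
  classical
  haveI := Fact.mk hp
  haveI := Fintype.ofFinite G
  obtain ⟨d, -, hd⟩ := exists_nat_degree_irr χ.2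
  obtain rfl : d = n := (Extraspecial.charDegree_eq hd).symm.trans hn
  by_contra h
  exact hP (sylow_normal_of_closed (key _ G rfl hsolv _ χ.2 hfaith d hd p h) P)

end Cfsg.Agent.S4467
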