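import Cfsg.Statements.S4468
import Cfsg.Agent.Lib.Char.SolvableNormalSylow
import Cfsg.Agent.Lib.SylowNumber.Coprime
import Cfsg.Agent.Lib.Coprime.Action

/-!
Itô: faithful characters of degree at most `p - 1` of `p`-solvable groups.

The degree is `p - 1` and the character irreducible by the small degree theorem. A `p`-element `w`
moving some invariant Sylow `q`-subgroup `Q` of `O_{p'}` needs a constituent of degree `p - 1` on
`Q⟨w⟩`, whose degree divides the order, so is a power of `q`, and `q = 2`.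
-/

set_option autoImplicit false
set_option linter.style.haveILetI false
open Cfsg

namespace Cfsg.Agent.S4468

open CfsgLib CfsgLib.Char
open scoped ComplexConjugate CfsgLib.Char commutatorElement
open scoped Classical

variable {G : Type*} [Group G] [Fintype G] {p : ℕ} [hp : Fact p.Prime] {χ : G → ℂ}

/-- A `p`-element not centralizing `O_{p'}`, when a Sylow subgroup is abelian and not normal. -/
theorem exists_not_commute (hsol : IsPSolvable p G) (P : Sylow p G)
    (hPc : ∀ a ∈ (P : Subgroup G), ∀ b ∈ (P : Subgroup G), a * b = b * a)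
    (hP : ¬ (P : Subgroup G).Normal) :
    ∃ w ∈ (P : Subgroup G), ∃ k ∈ pPrimeCore p G, w * k ≠ k * w := by
  by_contra hcom
  push_neg at hcom
  haveI := Transfer.pPrimeCore_normal p G
  set K := pPrimeCore p G with hK
  set π := QuotientGroup.mk' K with hπ
  have hπs : Function.Surjective π := QuotientGroup.mk'_surjective K
  have hbot := PSolvable.pPrimeCore_eq_bot_of_ker (p := p) hπs (QuotientGroup.ker_mk' K)
  have hC := PSolvable.centralizer_pCore_le (PSolvable.isPSolvable_of_surjective π hπs hsol) hbot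
  set P' : Sylow p (G ⧸ K) := P.mapSurjective hπs with hP'
  haveI := Fitting.pCore_normal (G := G ⧸ K) p
  have hOP : pCore p (G ⧸ K) ≤ (P' : Subgroup (G ⧸ K)) := fun x hx =>
    Fitting.mem_pCore_iff_forall_sylow.mp hx P'
  have hPO : (P' : Subgroup (G ⧸ K)) ≤ pCore p (G ⧸ K) := by
    intro x hx
    refine hC (Subgroup.mem_centralizer_iff.mpr fun y hy => ?_)
    have hy' := hOP hy
    rw [hP', Sylow.coe_mapSurjective] at hx hy'
    obtain ⟨a, ha, rfl⟩ := hx
    obtain ⟨b, hb, rfl⟩ := hy'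
    rw [← map_mul, ← map_mul, hPc b hb a ha]
  refine hP ⟨fun x hx g => ?_⟩
  have h1 : π (g * x * g⁻¹) ∈ (P' : Subgroup (G ⧸ K)) := by
    refine hOP ?_
    rw [map_mul, map_mul, map_inv]
    exact (inferInstance : (pCore p (G ⧸ K)).Normal).conj_mem _
      (hPO (by rw [hP', Sylow.coe_mapSurjective]; exact ⟨x, hx, rfl⟩)) _
  rw [hP', Sylow.coe_mapSurjective] at h1
  obtain ⟨y, hy, e⟩ := h1
  obtain ⟨k, hk, e'⟩ : ∃ k ∈ K, g * x * g⁻¹ = y * k :=
    ⟨y⁻¹ * (g * x * g⁻¹), (QuotientGroup.eq (s := K)).mp e, (mul_inv_cancel_left _ _).symm⟩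
  obtain ⟨i, hi⟩ := IsPGroup.iff_card.mp P.isPGroup'
  have hpow : ∀ z ∈ (P : Subgroup G), z ^ p ^ i = 1 := fun z hz => by
    rw [← hi]; exact congrArg Subtype.val (pow_card_eq_one' (x := (⟨z, hz⟩ : (P : Subgroup G))))
  have hk1 : k = 1 := by
    have h2 : (g * x * g⁻¹) ^ p ^ i = 1 := by rw [conj_pow, hpow x hx, mul_one, mul_inv_cancel]
    rw [e', (show Commute y k from hcom y hy k hk).mul_pow, hpow y hy, one_mul] at h2
    refine orderOf_eq_one_iff.mp (Nat.eq_one_of_dvd_coprimes
      ((Transfer.pPrimeCore_coprime p (G := G)).pow_right i) ?_ (orderOf_dvd_of_pow_eq_one h2))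
    exact Subgroup.orderOf_dvd_natCard K hk
  rw [e', hk1, mul_one]
  exact hy

/-- An invariant Sylow subgroup of a `p'`-group moved by the `p`-group. -/
theorem exists_moved_sylow {A K : Subgroup G} (hA : IsPGroup p A)
    (hAK : A ≤ Subgroup.normalizer (K : Set G)) (hK : ¬ p ∣ Nat.card K)
    (h : ¬ K ≤ Subgroup.centralizer (A : Set G)) :
    ∃ q : ℕ, q.Prime ∧ q ≠ p ∧ ∃ Q : Subgroup G, Q ≤ K ∧ IsPGroup q Q ∧
      A ≤ Subgroup.normalizer (Q : Set G) ∧ ¬ Q ≤ Subgroup.centralizer (A : Set G) := by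
  by_contra hall
  push_neg at hall
  refine h fun k hk => ?_
  suffices K ⊓ Subgroup.centralizer (A : Set G) = K from (this.ge hk).2
  refine Subgroup.eq_of_le_of_card_ge inf_le_left (Nat.le_of_dvd Nat.card_pos ?_)
  rw [← Nat.factorization_le_iff_dvd Nat.card_pos.ne' Nat.card_pos.ne']
  intro r
  by_cases hr : r.Prime
  · haveI := Fact.mk hr
    by_cases hd : r ∣ Nat.card K
    · obtain ⟨S, hS⟩ := SylowNumber.exists_invariant_sylow (r := r) hA hAK hK
      have hrp : r ≠ p := fun e => hK (e ▸ hd)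
      have hle := hall r hr hrp _ (Subgroup.map_subtype_le _) (S.2.map K.subtype) hS
      have hd2 := Subgroup.card_dvd_of_le (le_inf (Subgroup.map_subtype_le (S : Subgroup K)) hle)
      rw [Subgroup.card_map_of_injective K.subtype_injective, S.card_eq_multiplicity] at hd2
      exact (hr.pow_dvd_iff_le_factorization Nat.card_pos.ne').1 hd2
    · rw [Nat.factorization_eq_zero_of_not_dvd hd]; exact Nat.zero_le _
  · rw [Nat.factorization_eq_zero_of_not_prime _ hr]; exact Nat.zero_le _

/-- Let the finite p-solvable group G have a faithful character χ of degree n ≤ p − 1 and suppose that a Sylow p-subgroup of G is not normal. Then n = p − 1, n is a power of 2, and χ is irreducible. -/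
theorem result {G : Type*} [Group G] [Finite G] (χ : G → ℂ) (hχ : Cfsg.IsCharacter G χ) (hfaith : ∀ g : G, χ g = χ 1 → g = 1) (n : ℕ) (hn : Cfsg.charDegree χ = n) (p : ℕ) (hp : p.Prime) (hsolv : Cfsg.IsPSolvable p G) (hnp : n + 1 ≤ p) (P : Sylow p G) (hP : ¬ (P : Subgroup G).Normal) : n + 1 = p ∧ (∃ k : ℕ, n = 2 ^ k) ∧ Cfsg.IsIrrCharacter G χ := by
  haveI := Fact.mk hp
  haveI := Fintype.ofFinite G
  obtain ⟨d, hd⟩ := exists_nat_degree hχ
  have hdn : d = n := by rw [← hn, Cfsg.charDegree, hd]; simp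
  subst hdn
  obtain ⟨m, hm⟩ := exists_multiplicities hχ
  choose f hf0 hf using fun ξ : IrrCharacter G => exists_nat_degree_irr ξ.2
  have h1 := congrFun hm 1
  simp only [hd, Finset.sum_apply, Pi.smul_apply, smul_eq_mul, hf] at h1
  have hsum : d = ∑ ξ : IrrCharacter G, m ξ * f ξ := by exact_mod_cast h1
  have hbound : ∀ ξ, m ξ ≠ 0 → f ξ ≤ d := fun ξ hξ => by
    rw [hsum]
    exact (Nat.le_mul_of_pos_left _ (Nat.pos_of_ne_zero hξ)).trans
      (Finset.single_le_sum (f := fun ξ => m ξ * f ξ) (fun _ _ => Nat.zero_le _) (Finset.mem_univ ξ))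
  -- a constituent of degree `p - 1`
  obtain ⟨ξ, hξm, hξ⟩ : ∃ ξ, m ξ ≠ 0 ∧ p ≤ f ξ + 1 := by
    by_contra hno
    push_neg at hno
    refine hP (SolvableSylow.sylow_normal (fun x hx => hfaith x ?_) hsolv P)
    have h2 := congrFun hm x
    have h3 := congrFun hm 1
    simp only [Finset.sum_apply, Pi.smul_apply, smul_eq_mul] at h2 h3
    rw [h2, h3]
    refine Finset.sum_congr rfl fun ξ _ => ?_
    by_cases hne : m ξ = 0
    · simp [hne]
    · rw [hx _ _ ξ.2 (hf ξ) (hno ξ hne)]
  have hfξ : f ξ = d ∧ d + 1 = p := by have := hbound ξ hξm; omega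
  have hirr : IsIrrCharacter G χ := by
    have hm1 : ∀ η, m η = if η = ξ then 1 else 0 := by
      intro η
      have hle := Finset.add_le_sum (f := fun ξ => m ξ * f ξ) (s := (Finset.univ : Finset (IrrCharacter G)))
        (fun _ _ => Nat.zero_le _) (Finset.mem_univ η) (Finset.mem_univ ξ)
      split_ifs with he
      · subst he
        have h4 := Finset.single_le_sum (f := fun ξ => m ξ * f ξ) (fun _ _ => Nat.zero_le _)
          (Finset.mem_univ η)
        rw [← hsum] at h4
        rw [hfξ.1] at h4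
        have := Nat.le_of_mul_le_mul_right (h4.trans (one_mul d).ge) (hfξ.1 ▸ hf0 η)
        omega
      · have h5 := hle he
        rw [← hsum, hfξ.1] at h5
        have h6 : d ≤ m ξ * d := Nat.le_mul_of_pos_left _ (Nat.pos_of_ne_zero hξm)
        have h7 : m η * f η = 0 := by omega
        exact (mul_eq_zero.1 h7).resolve_right (hf0 η).ne'
    have : χ = (ξ : G → ℂ) := by
      rw [hm]
      simp [hm1]
    rw [this]
    exact ξ.2
  refine ⟨hfξ.2, ?_, hirr⟩
  -- abelian Sylow subgroups
  have hPc : ∀ a ∈ (P : Subgroup G), ∀ b ∈ (P : Subgroup G), a * b = b * a := by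
    intro a ha b hb
    refine commutatorElement_eq_one_iff_mul_comm.mp (hfaith _ ?_)
    haveI : Fintype (P : Subgroup G) := Fintype.ofFinite _
    obtain ⟨u, hu⟩ := exists_multiplicities (isCharacter_restrict (P : Subgroup G) (isCharacter_of_isIrr hirr))
    choose g hg hg0 hgd using fun η : IrrCharacter (P : Subgroup G) => exists_degree_dvd_card η.2
    have h1 := congrFun hu 1
    simp only [Subgroup.coe_one, hd, Finset.sum_apply, Pi.smul_apply, smul_eq_mul, hg] at h1
    have h1' : d = ∑ η : IrrCharacter (P : Subgroup G), u η * g η := by exact_mod_cast h1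
    have h2 := congrFun hu ⁅(⟨a, ha⟩ : (P : Subgroup G)), ⟨b, hb⟩⁆
    have h3 := congrFun hu 1
    simp only [Finset.sum_apply, Pi.smul_apply, smul_eq_mul] at h2 h3
    show χ ((⁅(⟨a, ha⟩ : (P : Subgroup G)), ⟨b, hb⟩⁆ : (P : Subgroup G)) : G) = χ 1
    rw [h2, ← Subgroup.coe_one (P : Subgroup G), h3]
    refine Finset.sum_congr rfl fun η _ => ?_
    by_cases hne : u η = 0
    · simp [hne]
    congr 1
    have hlin : (η : ↥(P : Subgroup G) → ℂ) 1 = 1 := by
      obtain ⟨j, hj⟩ := IsPGroup.iff_card.mp P.isPGroup'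
      obtain ⟨i, -, hi⟩ := (Nat.dvd_prime_pow hp).mp (hj ▸ hgd η)
      rw [hg η, hi]
      rcases Nat.eq_zero_or_pos i with rfl | hi0
      · simp
      exfalso
      have hle : g η ≤ d := h1' ▸ (Nat.le_mul_of_pos_left _ (Nat.pos_of_ne_zero hne)).trans
        (Finset.single_le_sum (f := fun η => u η * g η) (fun _ _ => Nat.zero_le _) (Finset.mem_univ η))
      have := Nat.le_self_pow hi0.ne' p
      omega
    have hηc := isCharacter_of_isIrr η.2
    rw [hlin, ← linearHom_apply hηc hlin, map_commutatorElement,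
      commutatorElement_eq_one_iff_mul_comm.mpr (mul_comm _ _)]
    rfl
  obtain ⟨w, hw, c, hc, hwc⟩ := exists_not_commute hsolv P hPc hP
  haveI := Transfer.pPrimeCore_normal p G
  set A := Subgroup.zpowers w with hA
  have hAp : IsPGroup p A := P.isPGroup'.to_le (Subgroup.zpowers_le.2 hw)
  have hKp : ¬ p ∣ Nat.card (pPrimeCore p G) :=
    (hp.coprime_iff_not_dvd).1 (Transfer.pPrimeCore_coprime p (G := G)).symm
  obtain ⟨q, hq, hqp, Q, -, hQq, hAQ, hQA⟩ := exists_moved_sylow hAp
    Subgroup.le_normalizer_of_normal hKp fun hle => hwc (hle hc w (Subgroup.mem_zpowers w))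
  set Γ := Q ⊔ A with hΓ
  haveI hQn : (Q.subgroupOf Γ).Normal :=
    Subgroup.normal_subgroupOf_iff_le_normalizer (le_sup_left) |>.2 (sup_le Subgroup.le_normalizer hAQ)
  set w' : Γ := ⟨w, Subgroup.mem_sup_right (Subgroup.mem_zpowers w)⟩ with hw'
  obtain ⟨j, hj⟩ := IsPGroup.iff_orderOf.mp P.isPGroup' ⟨w, hw⟩
  rw [← Subgroup.orderOf_coe] at hj
  have htop : Q.subgroupOf Γ ⊔ Subgroup.zpowers w' = ⊤ := by
    refine Subgroup.map_injective Γ.subtype_injective ?_
    rw [Subgroup.map_sup, Subgroup.subgroupOf_map_subtype, MonoidHom.map_zpowers,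
      ← MonoidHom.range_eq_map, Subgroup.range_subtype, inf_eq_left.mpr le_sup_left]
    rfl
  haveI := Fact.mk hq
  obtain ⟨i, hi⟩ := hQq.exists_card_eq
  have hcop : (Nat.card (Q.subgroupOf Γ)).Coprime (orderOf w') := by
    rw [hw', Subgroup.orderOf_mk, Nat.card_congr (Subgroup.subgroupOfEquivOfLe le_sup_left).toEquiv,
      hj, hi]
    exact ((Nat.coprime_primes hq hp).2 hqp).pow i j
  haveI : Fintype Γ := Fintype.ofFinite Γ
  obtain ⟨u, hu⟩ := exists_multiplicities (isCharacter_restrict Γ (isCharacter_of_isIrr hirr))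
  choose g hg hg0 hgd using fun η : IrrCharacter Γ => exists_degree_dvd_card η.2
  obtain ⟨η, hη, hηd⟩ : ∃ η, u η ≠ 0 ∧ p ≤ g η + 1 := by
    by_contra hno
    push_neg at hno
    refine hQA fun y hy => Subgroup.mem_centralizer_iff.2 ?_
    suffices Commute w y by
      rintro _ ⟨l, rfl⟩
      exact (this.zpow_left l).eq
    refine commutatorElement_eq_one_iff_mul_comm.mp (hfaith _ ?_)
    set y' : Γ := ⟨y, Subgroup.mem_sup_left hy⟩ with hy'
    have h2 := congrFun hu (w' * y' * w'⁻¹ * y'⁻¹)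
    have h3 := congrFun hu 1
    simp only [Finset.sum_apply, Pi.smul_apply, smul_eq_mul] at h2 h3
    rw [commutatorElement_def]
    show χ (((w' * y' * w'⁻¹ * y'⁻¹ : Γ) : G)) = χ 1
    rw [h2, ← Subgroup.coe_one Γ, h3]
    refine Finset.sum_congr rfl fun η _ => ?_
    by_cases hne : u η = 0
    · simp [hne]
    congr 1
    exact irr_commutator_eq_degree (s := w') htop hcop hp (k := j)
      (by rw [hw', Subgroup.orderOf_mk, hj]) η.2 (hg η) (hno η hne)
      ⟨y', Subgroup.mem_subgroupOf.mpr hy⟩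
  have hgd' : g η = d := by
    have h1 := congrFun hu 1
    simp only [Subgroup.coe_one, hd, Finset.sum_apply, Pi.smul_apply, smul_eq_mul, hg] at h1
    have h1' : d = ∑ η : IrrCharacter Γ, u η * g η := by exact_mod_cast h1
    have := (Nat.le_mul_of_pos_left (g η) (Nat.pos_of_ne_zero hη)).trans
      (Finset.single_le_sum (f := fun η => u η * g η) (fun _ _ => Nat.zero_le _) (Finset.mem_univ η))
    rw [← h1'] at this
    omega
  -- the degree divides `|Q| |w|`
  have hdΓ : d ∣ Nat.card Q * orderOf w := by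
    rw [← Nat.card_zpowers, ← Coprime.card_sup_mul_card_inf hAQ]
    exact (hgd' ▸ hgd η).mul_right _
  have hdp : d.Coprime (orderOf w) := by
    rw [hj]
    refine ((Nat.Prime.coprime_iff_not_dvd hp).2 fun hpd => ?_).symm.pow_right j
    have := Nat.le_of_dvd (hgd' ▸ hg0 η) hpd
    omega
  obtain ⟨s, -, hs⟩ := (Nat.dvd_prime_pow hq).1 (hi ▸ hdp.dvd_of_dvd_mul_right hdΓ)
  rcases Nat.eq_zero_or_pos s with rfl | hs0
  · exact ⟨0, hs⟩
  · refine ⟨s, ?_⟩
    have h2d : 2 ∣ d := by
      rcases hp.eq_two_or_odd' with h | ⟨t, ht⟩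
      · have := Nat.le_self_pow hs0.ne' q
        have := hq.two_le
        omega
      · exact ⟨t, by omega⟩
    rw [hs, (Nat.prime_dvd_prime_iff_eq Nat.prime_two hq).1 (Nat.prime_two.dvd_of_dvd_pow (hs ▸ h2d))]

end Cfsg.Agent.S4468
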