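import Cfsg.Statements.S4470
import Cfsg.Agent.Lib.Jordan.Small

set_option autoImplicit false
set_option linter.style.haveILetI false
open Cfsg

namespace Cfsg.Agent.S4470

open CfsgLib.Jordan
open scoped commutatorElement

universe u

/-- The scalar `cos (π / 6)`. -/
noncomputable def centre : ℝ := Real.sqrt 3 / 2

theorem centre_sq : centre ^ 2 = 3 / 4 := by
  rw [centre, div_pow, Real.sq_sqrt (by norm_num)]; norm_num

theorem centre_bounds : 1 / 2 ≤ centre ∧ centre ≤ 1 := by
  have h := centre_sq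
  have h0 : 0 ≤ centre := by rw [centre]; positivity
  constructor <;> nlinarith

variable {G : Type u} [Group G] [Fintype G] {d : ℕ} {ρ : Representation ℂ G (Fin d → ℂ)}

theorem commute_of_near (hinj : Function.Injective ρ) {g h : G} {r r' : ℝ} (hr0 : 0 ≤ r) (hr : r < 1 / 2)
    (hr0' : 0 ≤ r') (hr' : r' < 1 / 2) (hg : Near ρ g centre r) (hh : Near ρ h centre r') :
    g * h = h * g := by
  obtain ⟨hc1, hc2⟩ := centre_bounds
  set s := r' + (1 - centre) with hs
  have hs0 : 0 ≤ s := by linarith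
  have hs1 : s ≤ 1 := by linarith
  have hh1 : Near ρ h 1 s := by
    intro v
    have e : ρ h v - ((1 : ℝ) : ℂ) • v = (ρ h v - (centre : ℂ) • v) - ((1 - centre : ℝ) : ℂ) • v := by
      rw [Complex.ofReal_sub, sub_smul]
      abel
    rw [e]
    refine (nrm_sub_le ρ _ _).trans ?_
    rw [nrm_smul, Complex.norm_real, Real.norm_of_nonneg (by linarith), hs, add_mul]
    exact add_le_add (hh v) le_rfl
  let b : ℕ → G := fun k => (fun x => ⁅g, x⁆)^[k] h
  have hb : ∀ k, Near ρ (b k) 1 ((2 * r) ^ k * s) := by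
    intro k
    induction k with
    | zero => simpa [b] using hh1
    | succ k ih =>
      show Near ρ ((fun x => ⁅g, x⁆)^[k + 1] h) 1 _
      rw [Function.iterate_succ_apply', pow_succ', mul_assoc (2 * r)]
      exact near_commutator ρ hr0 (by positivity) hg ih
  obtain ⟨K, hK⟩ : ∃ K, ∀ x : G, Near ρ x 1 ((2 * r) ^ K * s) → x = 1 := by
    have hlim : Filter.Tendsto (fun k : ℕ => (2 * r) ^ k * s) Filter.atTop (nhds 0) := by
      simpa using (tendsto_pow_atTop_nhds_zero_of_lt_one (by linarith) (by linarith)).mul_const s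
    suffices h : ∀ᶠ K : ℕ in Filter.atTop, ∀ x : G, Near ρ x 1 ((2 * r) ^ K * s) → x = 1 from h.exists
    rw [Filter.eventually_all]
    intro x
    by_cases hx : x = 1
    · exact Filter.Eventually.of_forall fun _ _ => hx
    obtain ⟨v, hv⟩ : ∃ v, ρ x v ≠ v := by
      by_contra hc
      push Not at hc
      exact hx (hinj ((LinearMap.ext hc).trans (map_one ρ).symm))
    have hpos : 0 < nrm ρ (ρ x v - v) :=
      lt_of_le_of_ne (norm_nonneg _) fun e => hv (sub_eq_zero.mp (eq_zero_of_nrm ρ e.symm))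
    have hlim' := hlim.mul_const (nrm ρ v)
    rw [zero_mul] at hlim'
    refine (hlim'.eventually_lt_const hpos).mono fun k hk hnear => ?_
    have := hnear v
    rw [Complex.ofReal_one, one_smul] at this
    linarith
  have hbK : b (K + 1) = 1 := by
    have h1 : b K = 1 := hK _ (hb K)
    show (fun x => ⁅g, x⁆)^[K + 1] h = 1
    rw [Function.iterate_succ_apply']
    show ⁅g, b K⁆ = 1
    rw [h1, commutatorElement_one_right]
  have down : ∀ k, b (k + 1) = 1 → b 1 = 1 := by
    intro k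
    induction k with
    | zero => exact id
    | succ k ih =>
      intro hk
      refine ih ?_
      have h1 : b (k + 1) = ⁅g, b k⁆ := Function.iterate_succ_apply' _ k h
      have h2 : b (k + 1 + 1) = ⁅g, b (k + 1)⁆ := Function.iterate_succ_apply' _ (k + 1) h
      rw [hk, eq_comm, commutatorElement_eq_one_iff_mul_comm] at h2
      rw [h1] at h2 ⊢
      refine commutator_eq_one hinj ?_ (hb k) h2
      exact le_trans (mul_le_of_le_one_left hs0 (pow_le_one₀ (by linarith) (by linarith))) hs1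
  exact commutatorElement_eq_one_iff_mul_comm.mp (down K hbK)

open Classical in
/-- The sector of a complex number among twelve equal ones. -/
noncomputable def sector (z : ℂ) : Fin 12 :=
  if h : ⌊12 * Int.fract (Complex.arg z / (2 * Real.pi))⌋₊ < 12 then ⟨_, h⟩ else 0

theorem norm_sub_lt {z w : ℂ} (hz : ‖z‖ = 1) (hw : ‖w‖ = 1) (h : sector z = sector w) :
    ‖z / w - (centre : ℂ)‖ < 1 / 2 := by
  set t := Int.fract (Complex.arg z / (2 * Real.pi)) with ht
  set s := Int.fract (Complex.arg w / (2 * Real.pi)) with hs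
  have hfl : ∀ x : ℝ, ⌊12 * Int.fract x⌋₊ < 12 := fun x => by
    rw [Nat.floor_lt (by linarith [Int.fract_nonneg x])]
    have := Int.fract_lt_one x
    push_cast
    linarith
  rw [sector, sector, dif_pos (hfl _), dif_pos (hfl _), Fin.mk.injEq, ← ht, ← hs] at h
  have hlt : |t - s| < 1 / 12 := by
    have t0 : 0 ≤ t := Int.fract_nonneg _
    have s0 : 0 ≤ s := Int.fract_nonneg _
    have a1 := Nat.floor_le (show (0:ℝ) ≤ 12 * t by linarith)
    have a2 := Nat.lt_floor_add_one (12 * t)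
    have a3 := Nat.floor_le (show (0:ℝ) ≤ 12 * s by linarith)
    have a4 := Nat.lt_floor_add_one (12 * s)
    rw [h] at a1 a2
    rw [abs_lt]
    constructor <;> linarith
  have hexp : ∀ (u : ℂ), ‖u‖ = 1 → u = Complex.exp ((2 * Real.pi * Int.fract (Complex.arg u / (2 * Real.pi)) : ℝ) * Complex.I) := by
    intro u hu
    conv_lhs => rw [← Complex.norm_mul_exp_arg_mul_I u, hu, Complex.ofReal_one, one_mul]
    rw [Complex.exp_eq_exp_iff_exists_int]
    refine ⟨⌊Complex.arg u / (2 * Real.pi)⌋, ?_⟩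
    rw [Int.fract]
    push_cast
    field_simp
    ring
  set θ := 2 * Real.pi * (t - s) with hθ
  have hdiv : z / w = Complex.exp (θ * Complex.I) := by
    rw [hexp z hz, hexp w hw, ← Complex.exp_sub, ← ht, ← hs, hθ]
    congr 1
    push_cast
    ring
  have hcos : centre < Real.cos θ := by
    rw [centre, ← Real.cos_pi_div_six, ← Real.cos_abs θ]
    refine Real.cos_lt_cos_of_nonneg_of_le_pi (abs_nonneg _) (by linarith [Real.pi_pos]) ?_
    rw [hθ, abs_mul, abs_of_pos (by positivity)]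
    have := mul_lt_mul_of_pos_left hlt (show (0:ℝ) < 2 * Real.pi by positivity)
    linarith
  have hsq : ‖z / w - (centre : ℂ)‖ ^ 2 < (1 / 2) ^ 2 := by
    rw [Complex.sq_norm, Complex.normSq_apply, hdiv, Complex.sub_re, Complex.sub_im,
      Complex.exp_ofReal_mul_I_re, Complex.exp_ofReal_mul_I_im, Complex.ofReal_re, Complex.ofReal_im, sub_zero]
    have h1 := Real.sin_sq_add_cos_sq θ
    have h2 := centre_sq
    have h3 := centre_bounds.1
    nlinarith
  exact lt_of_pow_lt_pow_left₀ 2 (by norm_num) hsq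

theorem bound (hinj : Function.Injective ρ) :
    ∃ A : Subgroup G, A.Normal ∧ (∀ x ∈ A, ∀ y ∈ A, x * y = y * x) ∧
      ∀ H : Subgroup G, (∀ x ∈ H, ∀ y ∈ H, x * y = y * x) → (A.subgroupOf H).index ≤ 12 ^ d := by
  classical
  set S : Set G := {g | ∃ r, 0 ≤ r ∧ r < 1 / 2 ∧ Near ρ g centre r}
  refine ⟨Subgroup.closure S, ?_, ?_, ?_⟩
  · rw [← Subgroup.normalizer_eq_top_iff, eq_top_iff]
    intro x _
    have hmap : ∀ y : G, (Subgroup.closure S).map (MulAut.conj y).toMonoidHom ≤ Subgroup.closure S := by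
      intro y
      rw [MonoidHom.map_closure]
      refine Subgroup.closure_mono ?_
      rintro _ ⟨g, ⟨r, h0, h1, h2⟩, rfl⟩
      exact ⟨r, h0, h1, by simpa using near_conj ρ h2 y⟩
    rw [Subgroup.mem_normalizer_iff]
    refine fun g => ⟨fun hg => ?_, fun hg => ?_⟩
    · exact hmap x ⟨g, hg, by simp⟩
    · exact hmap x⁻¹ ⟨_, hg, by simp [mul_assoc]⟩
  · haveI : IsMulCommutative (Subgroup.closure S) := Subgroup.isMulCommutative_closure (by
      rintro x ⟨r, h0, h1, h2⟩ y ⟨r', h0', h1', h2'⟩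
      exact commute_of_near hinj h0 h1 h0' h1' h2 h2')
    exact fun x hx y hy => congrArg Subtype.val (mul_comm' (⟨x, hx⟩ : Subgroup.closure S) ⟨y, hy⟩)
  intro H hH
  haveI : IsMulCommutative H := ⟨⟨fun a b => Subtype.ext (hH a a.2 b b.2)⟩⟩
  obtain ⟨X, _, χ, P, hsum, hact, hcard, horth⟩ := exists_decomp (ρ := ρ) H
  set A := (Subgroup.closure S).subgroupOf H
  have hnorm : ∀ x (h : H), ‖(χ x h).1‖ = 1 := fun x h =>
    Complex.norm_eq_one_of_pow_eq_one (n := Nat.card H)
      (by rw [← Units.val_pow_eq_pow_val, ← map_pow, pow_card_eq_one', map_one, Units.val_one]) Nat.card_pos.ne'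
  let box : H ⧸ A → X → Fin 12 := fun q x => sector (χ x q.out).1
  have hbox : Function.Injective box := by
    intro q q' e
    rw [← QuotientGroup.out_eq' q, ← QuotientGroup.out_eq' q', eq_comm, QuotientGroup.eq, Subgroup.mem_subgroupOf]
    apply Subgroup.subset_closure
    set k := q'.out⁻¹ * q.out
    have hlt : ∀ x, ‖(χ x k).1 - (centre : ℂ)‖ < 1 / 2 := fun x => by
      have h1 := norm_sub_lt (hnorm x q.out) (hnorm x q'.out) (congrFun e x)
      rwa [show (χ x k).1 = (χ x q.out).1 / (χ x q'.out).1 by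
        rw [map_mul, map_inv, Units.val_mul, Units.val_inv_eq_inv_val, div_eq_inv_mul]]
    obtain ⟨r, hr0, hr, hle⟩ : ∃ r, 0 ≤ r ∧ r < 1 / 2 ∧ ∀ x, ‖(χ x k).1 - (centre : ℂ)‖ ≤ r := by
      rcases isEmpty_or_nonempty X with hX | hX
      · exact ⟨0, le_rfl, by norm_num, fun x => (IsEmpty.false x).elim⟩
      · obtain ⟨x₀, hx₀⟩ := Finite.exists_max fun x => ‖(χ x k).1 - (centre : ℂ)‖
        exact ⟨_, norm_nonneg _, hlt x₀, hx₀⟩
    refine ⟨r, hr0, hr, fun v => ?_⟩
    have hexp : ρ (k : G) v - (centre : ℂ) • v = ∑ x, ((χ x k).1 - (centre : ℂ)) • P x v := by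
      conv_lhs => rw [← hsum v, map_sum, Finset.smul_sum, ← Finset.sum_sub_distrib]
      exact Finset.sum_congr rfl fun x _ => by rw [hact, sub_smul]
    have hpy : ∀ c : X → ℂ, nrm ρ (∑ x, c x • P x v) ^ 2 = ∑ x, ‖c x‖ ^ 2 * nrm ρ (P x v) ^ 2 := by
      intro c
      rw [← nrm_sq, form, map_sum, sum_inner, Complex.re_sum]
      refine Finset.sum_congr rfl fun x _ => ?_
      rw [inner_sum, Finset.sum_eq_single x]
      · rw [← mul_pow, ← nrm_smul, ← nrm_sq, form]
      · intro y _ hy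
        rw [map_smul, map_smul, inner_smul_left, inner_smul_right]
        have : (inner ℂ (orbitMap ρ (P x v)) (orbitMap ρ (P y v)) : ℂ) = 0 := horth x y (Ne.symm hy) v v
        rw [this, mul_zero, mul_zero]
      · simp
    have hv : nrm ρ v ^ 2 = ∑ x, nrm ρ (P x v) ^ 2 := by
      have := hpy fun _ => 1
      simpa [hsum v] using this
    refine (pow_le_pow_iff_left₀ (norm_nonneg _) (mul_nonneg hr0 (norm_nonneg _)) two_ne_zero).mp ?_
    show nrm ρ (ρ (k : G) v - (centre : ℂ) • v) ^ 2 ≤ (r * nrm ρ v) ^ 2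
    rw [hexp, hpy, mul_pow, hv, Finset.mul_sum]
    exact Finset.sum_le_sum fun x _ => mul_le_mul_of_nonneg_right
      (pow_le_pow_left₀ (norm_nonneg _) (hle x) 2) (sq_nonneg _)
  calc A.index = Nat.card (H ⧸ A) := rfl
    _ ≤ Nat.card (X → Fin 12) := Nat.card_le_card_of_injective box hbox
    _ = 12 ^ Fintype.card X := by simp [Nat.card_eq_fintype_card]
    _ ≤ 12 ^ d := Nat.pow_le_pow_right (by norm_num) hcard

/-- Let the finite group G have a faithful character of degree n. Then G has an abelian normal subgroup A such that every abelian subgroup H of G satisfies [H : H ⊓ A] ≤ 12^n. -/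
theorem result {G : Type*} [Group G] [Finite G] (χ : G → ℂ) (hχ : Cfsg.IsCharacter G χ) (hfaith : ∀ g : G, χ g = χ 1 → g = 1) (n : ℕ) (hn : Cfsg.charDegree χ = n) : ∃ A : Subgroup G, A.Normal ∧ (∀ x ∈ A, ∀ y ∈ A, x * y = y * x) ∧ ∀ H : Subgroup G, (∀ x ∈ H, ∀ y ∈ H, x * y = y * x) → (A.subgroupOf H).index ≤ 12 ^ n := by
  haveI := Fintype.ofFinite G
  obtain ⟨d, ρ, rfl⟩ := hχ
  have hdn : n = d := by
    rw [← hn, Cfsg.charDegree, Representation.char_one]
    simp
  rw [hdn]
  refine bound (ρ := ρ) fun a b e => ?_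
  have h1 : ρ (a⁻¹ * b) = ρ 1 := by
    rw [map_mul, ← e, ← map_mul, inv_mul_cancel]
  exact inv_mul_eq_one.mp (hfaith _ (congrArg (LinearMap.trace ℂ (Fin d → ℂ)) h1))

end Cfsg.Agent.S4470
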