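import Cfsg.Statements.S4469
import Cfsg.Agent.S4470
import Cfsg.Agent.Lib.Jordan.Hall

set_option autoImplicit false
set_option linter.style.haveILetI false
open Cfsg

namespace Cfsg.Agent.S4469

open CfsgLib.Jordan CfsgLib.Char

theorem relIndex_le {G : Type*} [Group G] [Finite G] (A : Subgroup G) {B P : Subgroup G} (h : B ≤ P) :
    A.relIndex P ≤ A.relIndex B * B.relIndex P := by
  have h1 : (A ⊓ B).relIndex B * B.relIndex P = (A ⊓ B).relIndex P :=
    Subgroup.relIndex_mul_relIndex _ _ _ inf_le_right h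
  rw [Subgroup.inf_relIndex_right] at h1
  rw [h1]
  exact Nat.le_of_dvd (Nat.pos_of_ne_zero Subgroup.index_ne_zero_of_finite)
    (Subgroup.relIndex_dvd_of_le_left P inf_le_left)

theorem ordProj_index_dvd {G : Type*} [Group G] [Finite G] (A H : Subgroup G) (p : ℕ) [Fact p.Prime]
    (hH : p ^ (Nat.card G).factorization p ∣ Nat.card H) :
    p ^ A.index.factorization p ∣ A.relIndex H := by
  have hr : A.relIndex H ≠ 0 := Subgroup.index_ne_zero_of_finite
  have hpp := (Fact.out : p.Prime)
  rw [hpp.pow_dvd_iff_le_factorization hr]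
  have e1 : Nat.card (A.subgroupOf H) * A.relIndex H = Nat.card H := (A.subgroupOf H).card_mul_index
  have e2 : Nat.card A * A.index = Nat.card G := A.card_mul_index
  have h1 : (Nat.card (A.subgroupOf H)).factorization p ≤ (Nat.card A).factorization p := by
    refine (Nat.factorization_le_iff_dvd Nat.card_pos.ne' Nat.card_pos.ne').mpr ?_ p
    rw [← Subgroup.card_map_of_injective H.subtype_injective]
    exact Subgroup.card_dvd_of_le (by rw [Subgroup.subgroupOf_map_subtype]; exact inf_le_left)
  have h2 := (hpp.pow_dvd_iff_le_factorization Nat.card_pos.ne').mp hH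
  rw [← e1, ← e2, Nat.factorization_mul Nat.card_pos.ne' Subgroup.index_ne_zero_of_finite,
    Nat.factorization_mul Nat.card_pos.ne' hr] at h2
  simp only [Finsupp.add_apply] at h2
  omega

theorem main {G : Type*} [Group G] [Fintype G] {d : ℕ} (ρ : Representation ℂ G (Fin d → ℂ))
    (hfaith : ∀ g : G, ρ.character g = ρ.character 1 → g = 1) :
    ∃ A : Subgroup G, A.Normal ∧ (∀ x ∈ A, ∀ y ∈ A, x * y = y * x) ∧
      A.index ≤ Nat.factorial d * 12 ^ (d * (Nat.primeCounting (d + 1) + 1)) := by
  classical
  obtain ⟨A, hAn, hAc, hbd⟩ := Cfsg.Agent.S4470.bound (ρ := ρ) (fun a b e => by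
    have h1 : ρ (a⁻¹ * b) = ρ 1 := by
      rw [map_mul, ← e, ← map_mul, inv_mul_cancel]
    exact inv_mul_eq_one.mp (hfaith _ (congrArg (LinearMap.trace ℂ (Fin d → ℂ)) h1)))
  refine ⟨A, hAn, hAc, ?_⟩
  have hχ : IsCharacter G ρ.character := ⟨d, ρ, rfl⟩
  have hd : ρ.character 1 = (d : ℂ) := by rw [Representation.char_one, Module.finrank_fin_fun]
  obtain ⟨H, hH1, hH2⟩ := exists_abelian hχ hfaith hd
  have hsmall : ∀ p : ℕ, p.Prime →
      p ^ A.index.factorization p ≤ p ^ (Nat.factorial d).factorization p * 12 ^ d := by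
    intro p hp
    haveI := Fact.mk hp
    let P : Sylow p G := default
    haveI := Fintype.ofFinite (P : Subgroup G)
    haveI : Group.IsNilpotent (P : Subgroup G) := P.isPGroup'.isNilpotent
    obtain ⟨B, hB, hidx⟩ := exists_abelian_index_dvd_factorial
      (χ := fun h : (P : Subgroup G) => ρ.character h) (isCharacter_restrict _ hχ)
      (fun g hg => Subtype.ext (hfaith _ hg)) hd
    have h1 : B.index ≤ p ^ (Nat.factorial d).factorization p := by
      obtain ⟨b, hb⟩ := P.isPGroup'.index B
      rw [hb] at hidx ⊢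
      exact Nat.pow_le_pow_right hp.pos
        ((hp.pow_dvd_iff_le_factorization (Nat.factorial_ne_zero d)).mp hidx)
    have hle : B.map (P : Subgroup G).subtype ≤ (P : Subgroup G) := Subgroup.map_subtype_le B
    have h2 : (B.map (P : Subgroup G).subtype).relIndex P = B.index := by
      rw [Subgroup.relIndex, Subgroup.subgroupOf, Subgroup.comap_map_eq_self_of_injective
        (P : Subgroup G).subtype_injective]
    have h3 : A.relIndex (B.map (P : Subgroup G).subtype) ≤ 12 ^ d := hbd _ (by
      rintro _ ⟨a, ha, rfl⟩ _ ⟨b, hb, rfl⟩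
      exact congrArg (P : Subgroup G).subtype (hB a ha b hb))
    calc p ^ A.index.factorization p ≤ A.relIndex P :=
          Nat.le_of_dvd (Nat.pos_of_ne_zero Subgroup.index_ne_zero_of_finite)
            (ordProj_index_dvd A _ p (P.card_eq_multiplicity.symm ▸ dvd_refl _))
      _ ≤ _ := relIndex_le A hle
      _ ≤ _ := by rw [h2, mul_comm]; exact Nat.mul_le_mul h1 h3
  have hA0 : A.index ≠ 0 := Subgroup.index_ne_zero_of_finite
  have hprod := Nat.prod_factorization_pow_eq_self hA0
  rw [Finsupp.prod, Nat.support_factorization] at hprod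
  rw [← hprod, ← Finset.prod_filter_mul_prod_filter_not A.index.primeFactors (fun p => p ≤ d + 1)]
  set S := A.index.primeFactors.filter (fun p => p ≤ d + 1)
  set T := A.index.primeFactors.filter (fun p => ¬ p ≤ d + 1)
  have hSp : ∀ p ∈ S, p.Prime := fun p hp =>
    Nat.prime_of_mem_primeFactors (Finset.mem_filter.mp hp).1
  have hS : ∏ p ∈ S, p ^ A.index.factorization p ≤
      Nat.factorial d * 12 ^ (d * Nat.primeCounting (d + 1)) := by
    refine (Finset.prod_le_prod' fun p hp => hsmall p (hSp p hp)).trans ?_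
    rw [Finset.prod_mul_distrib, Finset.prod_const, ← pow_mul]
    refine Nat.mul_le_mul (Nat.le_of_dvd (Nat.factorial_pos d) ?_) ?_
    · refine Finset.prod_dvd_of_isRelPrime (fun p hp q hq hne => ?_) fun p _ => Nat.ordProj_dvd _ _
      exact Nat.coprime_iff_isRelPrime.mp
        (Nat.Coprime.pow _ _ ((Nat.coprime_primes (hSp p hp) (hSp q hq)).mpr hne))
    · refine Nat.pow_le_pow_right (by norm_num) (Nat.mul_le_mul_left d ?_)
      rw [Nat.primeCounting, Nat.primeCounting', Nat.count_eq_card_filter_range]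
      exact Finset.card_le_card fun p hp => Finset.mem_filter.mpr
        ⟨Finset.mem_range.mpr (Nat.lt_succ_of_le (Finset.mem_filter.mp hp).2), hSp p hp⟩
  have hT : ∏ p ∈ T, p ^ A.index.factorization p ≤ 12 ^ d := by
    refine le_trans (Nat.le_of_dvd (Nat.pos_of_ne_zero Subgroup.index_ne_zero_of_finite) ?_)
      (hbd H hH1)
    refine Finset.prod_dvd_of_isRelPrime (fun p hp q hq hne => ?_) fun p hp => ?_
    · exact Nat.coprime_iff_isRelPrime.mp (Nat.Coprime.pow _ _ ((Nat.coprime_primes
        (Nat.prime_of_mem_primeFactors (Finset.mem_filter.mp hp).1)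
        (Nat.prime_of_mem_primeFactors (Finset.mem_filter.mp hq).1)).mpr hne))
    · obtain ⟨h1, h2⟩ := Finset.mem_filter.mp hp
      haveI := Fact.mk (Nat.prime_of_mem_primeFactors h1)
      exact ordProj_index_dvd A H p (hH2 p Fact.out (by omega))
  refine (Nat.mul_le_mul hS hT).trans (le_of_eq ?_)
  rw [mul_assoc, ← pow_add]
  ring

/-- The classical bound for finite linear groups, in explicit form. Let the finite group G have a faithful character of degree n. Then G has an abelian normal subgroup whose index is at most n! · 12^(n·(π(n+1)+1)), π(k) denoting the number of primes not exceeding k. -/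
theorem result {G : Type*} [Group G] [Finite G] (χ : G → ℂ) (hχ : Cfsg.IsCharacter G χ) (hfaith : ∀ g : G, χ g = χ 1 → g = 1) (n : ℕ) (hn : Cfsg.charDegree χ = n) : ∃ A : Subgroup G, A.Normal ∧ (∀ x ∈ A, ∀ y ∈ A, x * y = y * x) ∧ A.index ≤ Nat.factorial n * 12 ^ (n * (Nat.primeCounting (n + 1) + 1)) := by
  haveI := Fintype.ofFinite G
  obtain ⟨d, ρ, rfl⟩ := hχ
  have hdn : n = d := by
    rw [← hn, Cfsg.charDegree, Representation.char_one]
    simp
  rw [hdn]
  exact main ρ hfaith

end Cfsg.Agent.S4469
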