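import Cfsg.Statements.S4471
import Cfsg.Agent.Lib.DegreeTwoP.Main
-- import your own Cfsg.Agent.* helpers here

set_option autoImplicit false
open Cfsg

namespace Cfsg.Agent.S4471

/-- Let p ≥ 7 be a prime and let the finite group G have a faithful irreducible character of degree n with n < 2p and n ≠ p. If the Sylow p-subgroups of G are non-abelian then p² does not divide the index of O_p(G) in G; consequently, in every case G/O_p(G) has abelian Sylow p-subgroups. -/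
theorem result {G : Type*} [Group G] [Finite G] (χ : Cfsg.IrrCharacter G) (hfaith : ∀ g : G, (χ : G → ℂ) g = (χ : G → ℂ) 1 → g = 1) (n : ℕ) (hn : Cfsg.charDegree (χ : G → ℂ) = n) (p : ℕ) (hp : p.Prime) (h7 : 7 ≤ p) (hn2 : n < 2 * p) (hnp : n ≠ p) : ((∃ P : Sylow p G, ∃ x ∈ (P : Subgroup G), ∃ y ∈ (P : Subgroup G), x * y ≠ y * x) → ¬ p ^ 2 ∣ (Cfsg.pCore p G).index) ∧ ∀ Q : Sylow p (G ⧸ Cfsg.pCore p G), ∀ x ∈ (Q : Subgroup (G ⧸ Cfsg.pCore p G)), ∀ y ∈ (Q : Subgroup (G ⧸ Cfsg.pCore p G)), x * y = y * x := by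
  obtain ⟨m, ρ, hirr, hchar⟩ := χ.2
  haveI := Fact.mk hp
  have hinj : Function.Injective ρ := fun a b h => by
    have h1 : ρ (b⁻¹ * a) = ρ 1 := by rw [map_mul, h, ← map_mul, inv_mul_cancel]
    exact (inv_mul_eq_one.mp (hfaith _ (by rw [← hchar]; exact congrArg (LinearMap.trace ℂ _) h1))).symm
  have hm : Module.finrank ℂ (Fin m → ℂ) = n := by
    rw [← hn, ← hchar, charDegree, Representation.char_one]
    simp
  have part : (∃ P : Sylow p G, ∃ x ∈ (P : Subgroup G), ∃ y ∈ (P : Subgroup G), x * y ≠ y * x) →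
      ¬ p ^ 2 ∣ (Cfsg.pCore p G).index := by
    rintro ⟨P, x, hx, y, hy, hxy⟩
    exact CfsgLib.DegreeTwoP.not_sq_dvd_index ρ hirr hinj h7 (hm.symm ▸ hn2) (hm.symm ▸ hnp) P
      (x₀ := ⟨x, hx⟩) (y₀ := ⟨y, hy⟩) fun e => hxy (congrArg Subtype.val e)
  refine ⟨part, fun Q => ?_⟩
  by_cases hP : ∃ P : Sylow p G, ∃ x ∈ (P : Subgroup G), ∃ y ∈ (P : Subgroup G), x * y ≠ y * x
  · have hsq := part hP
    obtain ⟨k, hk⟩ := Q.2.exists_card_eq
    have hdvd : p ^ k ∣ (Cfsg.pCore p G).index := by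
      rw [← hk, Subgroup.index_eq_card]
      exact Subgroup.card_subgroup_dvd_card _
    have hk1 : k ≤ 1 := by
      by_contra hlt
      exact hsq ((pow_dvd_pow p (by omega : 2 ≤ k)).trans hdvd)
    have hcyc : IsCyclic (Q : Subgroup (G ⧸ Cfsg.pCore p G)) := by
      interval_cases k
      · haveI := (Nat.card_eq_one_iff_unique.mp (hk.trans (pow_zero p))).1
        exact isCyclic_of_subsingleton
      · exact isCyclic_of_prime_card (hk.trans (pow_one p))
    intro x hx y hy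
    obtain ⟨g, hg⟩ := IsCyclic.exists_generator (α := (Q : Subgroup (G ⧸ Cfsg.pCore p G)))
    obtain ⟨i, hi⟩ := Subgroup.mem_zpowers_iff.mp (hg ⟨x, hx⟩)
    obtain ⟨j, hj⟩ := Subgroup.mem_zpowers_iff.mp (hg ⟨y, hy⟩)
    have h := zpow_mul_comm g i j
    rw [hi, hj] at h
    exact congrArg Subtype.val h
  · push Not at hP
    obtain ⟨P, hPQ⟩ := Sylow.mapSurjective_surjective
      (QuotientGroup.mk'_surjective (Cfsg.pCore p G)) p Q
    intro x hx y hy
    rw [← hPQ, Sylow.coe_mapSurjective] at hx hy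
    obtain ⟨a, ha, rfl⟩ := hx
    obtain ⟨b, hb, rfl⟩ := hy
    rw [← map_mul, ← map_mul, hP P a ha b hb]

end Cfsg.Agent.S4471
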