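import Mathlib
import Cfsg.Statements.S4473

set_option autoImplicit false
set_option linter.unusedSectionVars false
set_option linter.style.haveILetI false
open Cfsg
open Module Pointwise
open scoped Classical

namespace Cfsg.Agent.S4473

universe u

local notation "V" => (Fin 2 → ℂ)

variable {G : Type u} [Group G] [Finite G] (ρ : Representation ℂ G V)

theorem isFinitelySemisimple_map (g : G) : Module.End.IsFinitelySemisimple (ρ g) := by
  have hm : orderOf g ≠ 0 := (orderOf_pos g).ne'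
  have hsq : Squarefree (Polynomial.X ^ orderOf g - 1 : Polynomial ℂ) := by
    refine Polynomial.Separable.squarefree ?_
    rw [← map_one Polynomial.C]
    exact Polynomial.separable_X_pow_sub_C 1 (Nat.cast_ne_zero.mpr hm) one_ne_zero
  exact (Module.End.isSemisimple_of_squarefree_aeval_eq_zero hsq (by
    rw [map_sub, map_pow, Polynomial.aeval_X, map_one, ← map_pow, pow_orderOf_eq_one, map_one,
      sub_self])).isFinitelySemisimple

/-- A non-scalar element has two eigenlines, and no other invariant lines. -/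
theorem two_lines (g : G) (hg : ¬ ∃ c : ℂ, ∀ v, ρ g v = c • v) :
    ∃ L₁ L₂ : Submodule ℂ V, L₁ ≠ L₂ ∧ finrank ℂ L₁ = 1 ∧ finrank ℂ L₂ = 1 ∧
      L₁.map (ρ g) ≤ L₁ ∧ L₂.map (ρ g) ≤ L₂ ∧
      (∃ a : ℂ, L₁ = Module.End.eigenspace (ρ g) a) ∧
      ∀ L : Submodule ℂ V, finrank ℂ L = 1 → L.map (ρ g) ≤ L → L = L₁ ∨ L = L₂ := by
  set f := ρ g
  have htop : ⨆ a : ℂ, Module.End.eigenspace f a = ⊤ := by
    have h := Module.End.iSup_maxGenEigenspace_eq_top f
    rwa [iSup_congr fun a => (isFinitelySemisimple_map ρ g).maxGenEigenspace_eq_eigenspace a] at h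
  obtain ⟨a, ha⟩ := Module.End.exists_eigenvalue f
  have hne : Module.End.eigenspace f a ≠ ⊤ := fun h => hg ⟨a, fun v =>
    Module.End.mem_eigenspace_iff.mp (h ▸ Submodule.mem_top)⟩
  obtain ⟨b, hab, hb⟩ : ∃ b, b ≠ a ∧ Module.End.eigenspace f b ≠ ⊥ := by
    by_contra h
    push Not at h
    apply hne
    rw [eq_top_iff, ← htop, iSup_le_iff]
    intro c
    rcases eq_or_ne c a with rfl | hc
    · exact le_rfl
    · rw [h c hc]; exact bot_le
  have hd : Disjoint (Module.End.eigenspace f a) (Module.End.eigenspace f b) :=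
    (Module.End.eigenspaces_iSupIndep f).pairwiseDisjoint hab.symm
  have hsum := Submodule.finrank_sup_add_finrank_inf_eq (Module.End.eigenspace f a) (Module.End.eigenspace f b)
  rw [hd.eq_bot, finrank_bot, add_zero] at hsum
  have hV : finrank ℂ V = 2 := by simp
  have hle := Submodule.finrank_le (Module.End.eigenspace f a ⊔ Module.End.eigenspace f b)
  have h1 : 0 < finrank ℂ (Module.End.eigenspace f a) :=
    Nat.pos_of_ne_zero fun h => ha (Submodule.finrank_eq_zero.mp h)
  have h2 : 0 < finrank ℂ (Module.End.eigenspace f b) :=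
    Nat.pos_of_ne_zero fun h => hb (Submodule.finrank_eq_zero.mp h)
  have e1 : finrank ℂ (Module.End.eigenspace f a) = 1 := by omega
  have e2 : finrank ℂ (Module.End.eigenspace f b) = 1 := by omega
  have hstab : ∀ c : ℂ, (Module.End.eigenspace f c).map f ≤ Module.End.eigenspace f c := by
    rintro c _ ⟨v, hv, rfl⟩
    rw [Module.End.mem_eigenspace_iff, Module.End.mem_eigenspace_iff.mp hv, map_smul,
      Module.End.mem_eigenspace_iff.mp hv]
  refine ⟨_, _, fun h => ?_, e1, e2, hstab a, hstab b, ⟨a, rfl⟩, fun L hL hLs => ?_⟩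
  · have := hd.eq_bot
    rw [h, inf_idem] at this
    exact hb this
  obtain ⟨⟨v, hvL⟩, hv0, hspan⟩ := finrank_eq_one_iff'.mp hL
  have hv0' : v ≠ 0 := fun h => hv0 (Subtype.ext h)
  obtain ⟨c, hc⟩ := hspan ⟨f v, hLs ⟨v, hvL, rfl⟩⟩
  have hc' : f v = c • v := (congrArg Subtype.val hc).symm
  have hve : v ∈ Module.End.eigenspace f c := Module.End.mem_eigenspace_iff.mpr hc'
  have hLe : L ≤ Module.End.eigenspace f c := by
    intro x hx
    obtain ⟨d, hd'⟩ := hspan ⟨x, hx⟩
    rw [← show d • v = x from congrArg Subtype.val hd']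
    exact Submodule.smul_mem _ d hve
  have htot : Module.End.eigenspace f a ⊔ Module.End.eigenspace f b = ⊤ :=
    Submodule.eq_top_of_finrank_eq (by omega)
  have hcab : c = a ∨ c = b := by
    by_contra h
    push Not at h
    have hv' : v ∈ Module.End.eigenspace f a ⊔ Module.End.eigenspace f b := by rw [htot]; trivial
    have hdd : Disjoint (Module.End.eigenspace f c) (Module.End.eigenspace f a ⊔ Module.End.eigenspace f b) := by
      refine ((Module.End.eigenspaces_iSupIndep f) c).mono_right (sup_le ?_ ?_)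
      · exact le_iSup₂_of_le a h.1.symm le_rfl
      · exact le_iSup₂_of_le b h.2.symm le_rfl
    exact hv0' (Submodule.disjoint_def.mp hdd v hve hv')
  rcases hcab with rfl | rfl
  · exact Or.inl (Submodule.eq_of_le_of_finrank_le hLe (by omega))
  · exact Or.inr (Submodule.eq_of_le_of_finrank_le hLe (by omega))

variable (hirr : ρ.IsIrreducible)

include hirr in
theorem invariant_eq (W : Submodule ℂ V) (h : ∀ g, W.map (ρ g) ≤ W) : W = ⊥ ∨ W = ⊤ := by
  haveI : IsSimpleOrder (Subrepresentation ρ) := hirr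
  let U : Subrepresentation ρ := ⟨W, fun g v hv => h g ⟨v, hv, rfl⟩⟩
  rcases IsSimpleOrder.eq_bot_or_eq_top U with hU | hU
  · exact Or.inl (congrArg Subrepresentation.toSubmodule hU)
  · exact Or.inr (congrArg Subrepresentation.toSubmodule hU)

include hirr in
theorem no_invariant_line (L : Submodule ℂ V) (hL : finrank ℂ L = 1) : ∃ g, ¬ L.map (ρ g) ≤ L := by
  by_contra h
  push Not at h
  rcases invariant_eq ρ hirr L h with rfl | rfl
  · rw [finrank_bot] at hL; omega
  · rw [finrank_top] at hL; simp at hL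

include hirr in
theorem scalar_iff_center (hinj : Function.Injective ρ) (g : G) :
    (∃ c : ℂ, ∀ v, ρ g v = c • v) ↔ g ∈ Subgroup.center G := by
  constructor
  · rintro ⟨c, hc⟩
    rw [Subgroup.mem_center_iff]
    intro h
    refine hinj (LinearMap.ext fun v => ?_)
    rw [map_mul, map_mul, Module.End.mul_apply, Module.End.mul_apply, hc, hc, map_smul]
  · intro hg
    by_contra hns
    obtain ⟨L, -, -, hL, -, -, -, ⟨a, rfl⟩, -⟩ := two_lines ρ g hns
    obtain ⟨h, hh⟩ := no_invariant_line ρ hirr _ hL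
    apply hh
    rintro _ ⟨v, hv, rfl⟩
    rw [SetLike.mem_coe, Module.End.mem_eigenspace_iff] at hv
    rw [Module.End.mem_eigenspace_iff]
    have e : ρ g (ρ h v) = ρ h (ρ g v) := by
      rw [← Module.End.mul_apply, ← map_mul, ← (Subgroup.mem_center_iff.mp hg h), map_mul,
        Module.End.mul_apply]
    rw [e, hv, map_smul]

/-- Lines of the projective line. -/
def Line : Type := {L : Submodule ℂ V // finrank ℂ L = 1}

theorem finrank_map (g : G) (L : Submodule ℂ V) : finrank ℂ (L.map (ρ g)) = finrank ℂ L := by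
  refine (Submodule.equivMapOfInjective (ρ g) ?_ L).finrank_eq.symm
  intro x y h
  have := congrArg (ρ g⁻¹) h
  rwa [← Module.End.mul_apply, ← Module.End.mul_apply, ← map_mul, inv_mul_cancel, map_one] at this

/-- The action on lines. -/
@[reducible] def lineAction : MulAction G Line where
  smul g L := ⟨L.1.map (ρ g), by rw [finrank_map]; exact L.2⟩
  one_smul L := Subtype.ext (show L.1.map (ρ 1) = L.1 by rw [map_one]; exact Submodule.map_id L.1)
  mul_smul g h L := Subtype.ext (show L.1.map (ρ (g * h)) = (L.1.map (ρ h)).map (ρ g) by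
    rw [map_mul]; exact Submodule.map_comp (ρ h) (ρ g) L.1)

theorem smul_le_iff (g : G) (L : Submodule ℂ V) : L.map (ρ g) ≤ L ↔ L.map (ρ g) = L :=
  ⟨fun h => Submodule.eq_of_le_of_finrank_le h (le_of_eq (finrank_map ρ g L).symm), fun h => h.le⟩

/-- The counting argument. -/
theorem orbit_arith {ι : Type*} [Fintype ι] (n : ℕ) (o k : ι → ℕ) (hn : 1 < n)
    (hok : ∀ i, o i * k i = n) (hk : ∀ i, 2 ≤ k i) (ho : ∀ i, 3 ≤ o i)
    (hsum : ∑ i, (n - o i) = 2 * (n - 1)) : n = 12 ∨ n = 24 ∨ n = 60 := by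
  have hle : ∀ i, 2 * o i ≤ n := fun i => by nlinarith [hok i, hk i]
  have hup : Fintype.card ι * n ≤ 4 * (n - 1) := by
    have h : ∑ _i : ι, n ≤ ∑ i, 2 * (n - o i) :=
      Finset.sum_le_sum fun i _ => by have := hle i; omega
    rw [Finset.sum_const, Finset.card_univ, smul_eq_mul, ← Finset.mul_sum, hsum] at h
    omega
  have hlow : 2 * (n - 1) ≤ Fintype.card ι * (n - 3) := by
    have h : ∑ i, (n - o i) ≤ ∑ _i : ι, (n - 3) :=
      Finset.sum_le_sum fun i _ => by have := ho i; omega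
    rw [Finset.sum_const, Finset.card_univ, smul_eq_mul, hsum] at h
    exact h
  have hr : Fintype.card ι = 3 := by
    rcases Nat.lt_or_ge (Fintype.card ι) 3 with h | h
    · have : Fintype.card ι * (n - 3) ≤ 2 * (n - 3) := Nat.mul_le_mul_right _ (by omega)
      omega
    · rcases Nat.eq_or_lt_of_le h with h | h
      · exact h.symm
      · have : 4 * n ≤ Fintype.card ι * n := Nat.mul_le_mul_right _ h
        omega
  let e : Fin 3 ≃ ι := (Fintype.equivFinOfCardEq hr).symm
  rw [← e.sum_comp, Fin.sum_univ_three] at hsum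
  -- two sorted parameters
  have key : ∀ x y z a b c : ℕ, x * a = n → y * b = n → z * c = n → 2 ≤ a → a ≤ b → b ≤ c →
      3 ≤ x → 3 ≤ y → 3 ≤ z → x + y + z = n + 2 → n = 12 ∨ n = 24 ∨ n = 60 := by
    intro x y z a b c hx hy hz ha hab hbc x3 y3 z3 hs
    have hxy : y ≤ x := by
      by_contra h
      have : (x + 1) * a ≤ y * b := Nat.mul_le_mul (by omega) hab
      rw [add_mul] at this
      omega
    have hyz : z ≤ y := by
      by_contra h
      have : (y + 1) * b ≤ z * c := Nat.mul_le_mul (by omega) hbc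
      rw [add_mul] at this
      omega
    have ha2 : a = 2 := by
      by_contra h
      have : x * 3 ≤ x * a := Nat.mul_le_mul_left _ (by omega)
      omega
    subst ha2
    have hb3 : b = 3 := by
      by_contra h
      rcases Nat.lt_or_ge b 3 with h' | h'
      · obtain rfl : b = 2 := by omega
        omega
      · have : y * 4 ≤ y * b := Nat.mul_le_mul_left _ (by omega)
        omega
    subst hb3
    rcases Nat.lt_or_ge c 6 with h | h
    · interval_cases c <;> omega
    · have : z * 6 ≤ z * c := Nat.mul_le_mul_left _ h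
      omega
  have hs' : o (e 0) + o (e 1) + o (e 2) = n + 2 := by
    have := hle (e 0); have := hle (e 1); have := hle (e 2)
    omega
  have p0 := hok (e 0); have p1 := hok (e 1); have p2 := hok (e 2)
  have q0 := hk (e 0); have q1 := hk (e 1); have q2 := hk (e 2)
  have r0 := ho (e 0); have r1 := ho (e 1); have r2 := ho (e 2)
  rcases le_total (k (e 0)) (k (e 1)) with h01 | h01 <;> rcases le_total (k (e 1)) (k (e 2)) with h12 | h12 <;>
    rcases le_total (k (e 0)) (k (e 2)) with h02 | h02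
  all_goals first
    | exact key _ _ _ _ _ _ p0 p1 p2 q0 h01 h12 r0 r1 r2 (by omega)
    | exact key _ _ _ _ _ _ p0 p2 p1 q0 h02 h12 r0 r2 r1 (by omega)
    | exact key _ _ _ _ _ _ p1 p0 p2 q1 h01 h02 r1 r0 r2 (by omega)
    | exact key _ _ _ _ _ _ p1 p2 p0 q1 h12 h02 r1 r2 r0 (by omega)
    | exact key _ _ _ _ _ _ p2 p0 p1 q2 h02 h01 r2 r0 r1 (by omega)
    | exact key _ _ _ _ _ _ p2 p1 p0 q2 h12 h01 r2 r1 r0 (by omega)

include hirr in
/-- Two lines permuted by `G` induce the character. -/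
theorem induced_of_orbit_two [Fintype G] (L₁ L₂ : Submodule ℂ V) (h1 : finrank ℂ L₁ = 1)
    (h2 : finrank ℂ L₂ = 1) (hne : L₁ ≠ L₂)
    (horb : ∀ g, (L₁.map (ρ g) = L₁ ∧ L₂.map (ρ g) = L₂) ∨ (L₁.map (ρ g) = L₂ ∧ L₂.map (ρ g) = L₁)) :
    ∃ H : Subgroup G, H ≠ ⊤ ∧ ∃ θ : H → ℂ, IsCharacter H θ ∧ ρ.character = indFun H θ := by
  letI := lineAction ρ
  obtain ⟨⟨v₁, hv₁⟩, hv₁0, hs₁⟩ := finrank_eq_one_iff'.mp h1
  obtain ⟨⟨v₂, hv₂⟩, hv₂0, hs₂⟩ := finrank_eq_one_iff'.mp h2
  have hv₁0' : v₁ ≠ 0 := fun h => hv₁0 (Subtype.ext h)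
  have hv₂0' : v₂ ≠ 0 := fun h => hv₂0 (Subtype.ext h)
  have m1 : ∀ w ∈ L₁, ∃ c : ℂ, c • v₁ = w := fun w hw =>
    let ⟨c, hc⟩ := hs₁ ⟨w, hw⟩; ⟨c, congrArg Subtype.val hc⟩
  have m2 : ∀ w ∈ L₂, ∃ c : ℂ, c • v₂ = w := fun w hw =>
    let ⟨c, hc⟩ := hs₂ ⟨w, hw⟩; ⟨c, congrArg Subtype.val hc⟩
  have hli : LinearIndependent ℂ ![v₁, v₂] := by
    rw [LinearIndependent.pair_iff' hv₁0']
    intro c hc
    apply hne
    refine (Submodule.eq_of_le_of_finrank_le ?_ (le_of_eq (h1.trans h2.symm))).symm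
    intro w hw
    obtain ⟨d, rfl⟩ := m2 w hw
    rw [← hc, smul_smul]
    exact L₁.smul_mem _ hv₁
  let b : Basis (Fin 2) ℂ V := basisOfLinearIndependentOfCardEqFinrank hli (by simp)
  have hb : ∀ i, b i = ![v₁, v₂] i := fun i => by simp [b]
  have hb0 : b 0 = v₁ := hb 0
  have hb1 : b 1 = v₂ := hb 1
  have htr : ∀ g, ρ.character g = b.repr (ρ g v₁) 0 + b.repr (ρ g v₂) 1 := by
    intro g
    rw [Representation.character, LinearMap.trace_eq_matrix_trace ℂ b, Matrix.trace_fin_two,
      LinearMap.toMatrix_apply, LinearMap.toMatrix_apply, hb0, hb1]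
  let H : Subgroup G :=
    { carrier := {g | L₁.map (ρ g) = L₁}
      one_mem' := by show L₁.map (ρ 1) = L₁; rw [map_one]; exact Submodule.map_id L₁
      mul_mem' := fun {x y} (hx : L₁.map (ρ x) = L₁) (hy : L₁.map (ρ y) = L₁) => by
        show L₁.map (ρ (x * y)) = L₁
        rw [map_mul]; exact (Submodule.map_comp (ρ y) (ρ x) L₁).trans (by rw [hy, hx])
      inv_mem' := fun {x} (hx : L₁.map (ρ x) = L₁) => by
        show L₁.map (ρ x⁻¹) = L₁
        conv_lhs => rw [← hx]
        refine (Submodule.map_comp (ρ x) (ρ x⁻¹) L₁).symm.trans ?_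
        show L₁.map (ρ x⁻¹ * ρ x) = L₁
        rw [← map_mul, inv_mul_cancel, map_one]; exact Submodule.map_id L₁ }
  have hmemH : ∀ g, g ∈ H ↔ L₁.map (ρ g) = L₁ := fun g => Iff.rfl
  have hin : ∀ g ∈ H, L₂.map (ρ g) = L₂ := fun g hg => by
    rcases horb g with h | h
    · exact h.2
    · exact absurd (((hmemH g).mp hg).symm.trans h.1) hne
  have hout : ∀ g ∉ H, L₁.map (ρ g) = L₂ ∧ L₂.map (ρ g) = L₁ := fun g hg => (horb g).resolve_left fun h => hg h.1
  obtain ⟨t, ht⟩ : ∃ t, t ∉ H := by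
    by_contra h
    push Not at h
    obtain ⟨g, hg⟩ := no_invariant_line ρ hirr L₁ h1
    exact hg ((hmemH g).mp (h g)).le
  -- the eigenvalue homomorphism
  have hex : ∀ h : H, ∃ c : ℂ, c • v₁ = ρ (h : G) v₁ := fun h =>
    m1 _ (((hmemH _).mp h.2).le ⟨v₁, hv₁, rfl⟩)
  choose θ hθ using hex
  have hcancel : ∀ c d : ℂ, c • v₁ = d • v₁ → c = d := fun c d h => smul_left_injective ℂ hv₁0' h
  have hθ1 : θ 1 = 1 := hcancel _ _ (by rw [hθ, one_smul, Subgroup.coe_one, map_one]; rfl)
  have hθm : ∀ x y : H, θ (x * y) = θ x * θ y := fun x y => hcancel _ _ (by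
    rw [hθ, Subgroup.coe_mul, map_mul, Module.End.mul_apply, ← hθ y, map_smul, ← hθ x, smul_smul,
      mul_comm])
  have hθc : IsCharacter H θ := by
    let σ : Representation ℂ H (Fin 1 → ℂ) :=
      { toFun := fun h => θ h • (1 : Module.End ℂ (Fin 1 → ℂ))
        map_one' := by rw [hθ1, one_smul]
        map_mul' := fun x y => by rw [hθm, smul_mul_smul_comm, one_mul] }
    refine ⟨1, σ, funext fun h => ?_⟩
    show LinearMap.trace ℂ _ (θ h • (1 : Module.End ℂ (Fin 1 → ℂ))) = θ h
    rw [map_smul, LinearMap.trace_one]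
    simp
  refine ⟨H, fun h => ht (h ▸ Subgroup.mem_top t), θ, hθc, funext fun g => ?_⟩
  have hcard : H.index = 2 := by
    refine Subgroup.index_eq_two_iff.mpr ⟨t, fun x => ?_⟩
    by_cases hx : x ∈ H
    · exact Or.inr ⟨hx, fun hxt => ht (by simpa using H.mul_mem (H.inv_mem hx) hxt)⟩
    · refine Or.inl ⟨?_, hx⟩
      rw [hmemH, map_mul]
      refine (Submodule.map_comp (ρ t) (ρ x) L₁).trans ?_
      rw [(hout t ht).1, (hout x hx).2]
  have hnat : 2 * Nat.card H = Nat.card G := by rw [← hcard, Subgroup.index_mul_card]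
  haveI hnorm : H.Normal := Subgroup.normal_of_index_eq_two hcard
  have hext : ∀ (y : G) (hy : y ∈ H), extendByZero H θ y = θ ⟨y, hy⟩ := fun y hy =>
    Subtype.val_injective.extend_apply θ 0 ⟨y, hy⟩
  have hext0 : ∀ y : G, y ∉ H → extendByZero H θ y = 0 := fun y hy =>
    Function.extend_apply' θ (0 : G → ℂ) y (by rintro ⟨a, rfl⟩; exact hy a.2)
  by_cases hg : g ∈ H
  · obtain ⟨a₂, ha₂⟩ := m2 _ ((hin g hg).le ⟨v₂, hv₂, rfl⟩)
    have ha₁ := hθ ⟨g, hg⟩
    have hval : ρ.character g = θ ⟨g, hg⟩ + a₂ := by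
      rw [htr, ← ha₁, ← ha₂, map_smul, map_smul, ← hb0, ← hb1, Basis.repr_self, Basis.repr_self]
      simp
    have hterm : ∀ x : G, extendByZero H θ (x⁻¹ * g * x) = if x ∈ H then θ ⟨g, hg⟩ else a₂ := by
      intro x
      have hy : x⁻¹ * g * x ∈ H := by simpa using hnorm.conj_mem g hg x⁻¹
      rw [hext _ hy]
      split_ifs with hx
      · have e : (⟨x⁻¹ * g * x, hy⟩ : H) = ⟨x, hx⟩⁻¹ * ⟨g, hg⟩ * ⟨x, hx⟩ := rfl
        rw [e, hθm, hθm, mul_right_comm, ← hθm, inv_mul_cancel, hθ1, one_mul]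
      · apply hcancel
        rw [hθ]
        obtain ⟨d, hd⟩ := m2 _ ((hout x hx).1.le ⟨v₁, hv₁, rfl⟩)
        show ρ (x⁻¹ * g * x) v₁ = a₂ • v₁
        rw [map_mul, map_mul, Module.End.mul_apply, Module.End.mul_apply, ← hd, map_smul, ← ha₂,
          smul_comm, hd, map_smul, ← Module.End.mul_apply, ← map_mul, inv_mul_cancel, map_one]
        rfl
    rw [hval]
    show _ = (Nat.card H : ℂ)⁻¹ * ∑ x : G, extendByZero H θ (x⁻¹ * g * x)
    simp_rw [hterm]
    rw [Finset.sum_ite, Finset.sum_const, Finset.sum_const]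
    have hc1 : (Finset.univ.filter (fun x : G => x ∈ H)).card = Nat.card H := by
      rw [Nat.card_eq_fintype_card, Fintype.card_subtype]
    have hc2 : (Finset.univ.filter (fun x : G => x ∉ H)).card = Nat.card H := by
      have := Finset.card_filter_add_card_filter_not (s := Finset.univ) (fun x : G => x ∈ H)
      rw [hc1, Finset.card_univ, ← Nat.card_eq_fintype_card, ← hnat] at this
      omega
    rw [hc1, hc2, nsmul_eq_mul, nsmul_eq_mul, ← mul_add, inv_mul_cancel_left₀]
    exact Nat.cast_ne_zero.mpr Nat.card_pos.ne'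
  · have hz : indFun H θ g = 0 := by
      show (Nat.card H : ℂ)⁻¹ * ∑ x : G, extendByZero H θ (x⁻¹ * g * x) = 0
      rw [Finset.sum_eq_zero fun x _ => hext0 _ fun h => hg (by simpa [mul_assoc] using hnorm.conj_mem _ h x),
        mul_zero]
    rw [hz, htr]
    obtain ⟨c, hc⟩ := m2 _ ((hout g hg).1.le ⟨v₁, hv₁, rfl⟩)
    obtain ⟨d, hd⟩ := m1 _ ((hout g hg).2.le ⟨v₂, hv₂, rfl⟩)
    rw [← hc, ← hd, map_smul, map_smul, ← hb0, ← hb1, Basis.repr_self, Basis.repr_self]
    simp

theorem result {G : Type*} [Group G] [Fintype G] (χ : Cfsg.IrrCharacter G) (hfaith : ∀ g : G, (χ : G → ℂ) g = (χ : G → ℂ) 1 → g = 1) (h2 : Cfsg.charDegree (χ : G → ℂ) = 2) (hprim : ∀ H : Subgroup G, H ≠ ⊤ → ∀ θ : H → ℂ, Cfsg.IsCharacter H θ → (χ : G → ℂ) ≠ Cfsg.indFun H θ) : (Subgroup.center G).index = 12 ∨ (Subgroup.center G).index = 24 ∨ (Subgroup.center G).index = 60 := by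
  obtain ⟨n, ρ, hirr, hchar⟩ := χ.2
  obtain rfl : n = 2 := by
    rw [← hchar, charDegree, Representation.char_one] at h2
    simpa using h2
  have hinj : Function.Injective ρ := by
    intro x y h
    have h1 : ρ (x * y⁻¹) = 1 := by rw [map_mul, h, ← map_mul, mul_inv_cancel, map_one]
    refine mul_inv_eq_one.mp (hfaith _ ?_)
    rw [← hchar, Representation.character, Representation.character, h1, map_one ρ]
  letI : MulAction G Line := lineAction ρ
  have hfix : ∀ (g : G) (L : Line), g • L = L ↔ L.1.map (ρ g) = L.1 := fun g L =>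
    ⟨fun h => congrArg Subtype.val h, fun h => Subtype.ext h⟩
  set Z := Subgroup.center G with hZ
  have hns : ∀ g : G, g ∉ Z → ¬ ∃ c : ℂ, ∀ v, ρ g v = c • v := fun g hg h =>
    hg ((scalar_iff_center ρ hirr hinj g).mp h)
  have hZfix : ∀ g ∈ Z, ∀ L : Line, g • L = L := by
    intro g hg L
    obtain ⟨c, hc⟩ := (scalar_iff_center ρ hirr hinj g).mpr hg
    rw [hfix, ← smul_le_iff]
    rintro _ ⟨v, hv, rfl⟩
    rw [hc]
    exact L.1.smul_mem c hv
  -- the special lines
  have hpair : ∀ g : G, g ∉ Z → ∃ L₁ L₂ : Line, L₁ ≠ L₂ ∧ ∀ L : Line, g • L = L ↔ L = L₁ ∨ L = L₂ := by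
    intro g hg
    obtain ⟨L₁, L₂, hne, h1, h2, s1, s2, -, hall⟩ := two_lines ρ g (hns g hg)
    refine ⟨⟨L₁, h1⟩, ⟨L₂, h2⟩, fun e => hne (congrArg Subtype.val e), fun L => ⟨fun hL => ?_, ?_⟩⟩
    · exact (hall L.1 L.2 ((hfix g L).mp hL).le).imp (fun e => Subtype.ext e) (fun e => Subtype.ext e)
    · rintro (rfl | rfl)
      · exact (hfix g _).mpr ((smul_le_iff ρ g _).mp s1)
      · exact (hfix g _).mpr ((smul_le_iff ρ g _).mp s2)
  obtain ⟨g₀, hg₀⟩ : ∃ g : G, g ∉ Z := by
    by_contra hall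
    push Not at hall
    obtain ⟨g, hg⟩ := no_invariant_line ρ hirr (ℂ ∙ (Pi.single 0 1 : Fin 2 → ℂ))
      (finrank_span_singleton (by simp))
    apply hg
    obtain ⟨c, hc⟩ := (scalar_iff_center ρ hirr hinj g).mpr (hall g)
    rintro _ ⟨v, hv, rfl⟩
    rw [hc]
    exact Submodule.smul_mem _ c hv
  let Ω : Set Line := {L | ∃ g : G, g ∉ Z ∧ g • L = L}
  have hΩ : Ω.Finite := by
    have : Ω = ⋃ g ∈ {g : G | g ∉ Z}, {L : Line | g • L = L} := by
      ext L; simp [Ω]
    rw [this]
    refine Set.Finite.biUnion (Set.toFinite _) fun g hg => ?_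
    obtain ⟨L₁, L₂, -, h⟩ := hpair g hg
    exact ((Set.finite_singleton L₂).insert L₁).subset fun L hL => (h L).mp hL
  haveI : Fintype Ω := hΩ.fintype
  let hact : MulAction G Ω :=
    { smul := fun g L => ⟨g • L.1, by
        obtain ⟨h, hh, hL⟩ := L.2
        refine ⟨g * h * g⁻¹, fun hm => hh ?_, ?_⟩
        · have := (inferInstance : Z.Normal).conj_mem _ hm g⁻¹
          simpa [mul_assoc] using this
        · rw [smul_smul, inv_mul_cancel_right, mul_smul, hL]⟩
      one_smul := fun L => Subtype.ext (one_smul G L.1)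
      mul_smul := fun g h L => Subtype.ext (mul_smul g h L.1) }
  have hfixΩ : ∀ (g : G) (L : Ω), g • L = L ↔ g • L.1 = L.1 := fun g L =>
    ⟨fun h => congrArg Subtype.val h, fun h => Subtype.ext h⟩
  have hst : ∀ L : Ω, Z ≤ MulAction.stabilizer G L := fun L g hg => (hfixΩ g L).mpr (hZfix g hg L.1)
  -- double counting
  have hdc : ∑ L : Ω, ((Nat.card (MulAction.stabilizer G L)) - Nat.card Z) =
      2 * (Nat.card G - Nat.card Z) := by
    have h1 : ∀ L : Ω, Nat.card (MulAction.stabilizer G L) - Nat.card Z =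
        (Finset.univ.filter (fun g : G => g ∉ Z ∧ g • L = L)).card := by
      intro L
      rw [Nat.card_eq_fintype_card, Nat.card_eq_fintype_card, Fintype.card_subtype, Fintype.card_subtype,
        ← Finset.card_sdiff_of_subset (fun g hg => by
          simp only [Finset.mem_filter, Finset.mem_univ, true_and] at hg ⊢
          exact hst L hg)]
      congr 1
      ext g
      simp [MulAction.mem_stabilizer_iff, and_comm]
    simp_rw [h1, Finset.card_filter]
    rw [Finset.sum_comm]
    have h2 : ∀ g : G, (∑ L : Ω, if g ∉ Z ∧ g • L = L then 1 else 0) = if g ∈ Z then 0 else 2 := by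
      intro g
      by_cases hg : g ∈ Z
      · simp [hg]
      · simp only [hg, not_false_eq_true, true_and, if_false]
        rw [← Finset.card_filter]
        obtain ⟨L₁, L₂, hne, h⟩ := hpair g hg
        rw [Finset.card_eq_two]
        refine ⟨⟨L₁, g, hg, (h L₁).mpr (Or.inl rfl)⟩, ⟨L₂, g, hg, (h L₂).mpr (Or.inr rfl)⟩,
          fun e => hne (congrArg Subtype.val e), ?_⟩
        ext L
        simp [hfixΩ, h, Subtype.ext_iff]
    simp_rw [h2]
    rw [Finset.sum_ite, Finset.sum_const_zero, zero_add, Finset.sum_const, smul_eq_mul, mul_comm]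
    congr 1
    have := Finset.card_filter_add_card_filter_not (s := Finset.univ) (fun g : G => g ∈ Z)
    rw [Finset.card_univ, ← Nat.card_eq_fintype_card] at this
    rw [Nat.card_eq_fintype_card (α := Z), Fintype.card_subtype]
    omega
  -- orbits
  let π : Ω → MulAction.orbitRel.Quotient G Ω := Quotient.mk _
  have hz0 : 0 < Nat.card Z := Nat.card_pos
  have hnG : Z.index * Nat.card Z = Nat.card G := Z.index_mul_card
  have horb : ∀ i : MulAction.orbitRel.Quotient G Ω, ∃ o k : ℕ, o * k = Z.index ∧ 2 ≤ k ∧ 3 ≤ o ∧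
      ∑ L ∈ Finset.univ.filter (fun L => π L = i), (Nat.card (MulAction.stabilizer G L) - Nat.card Z) =
        (Z.index - o) * Nat.card Z := by
    intro i
    obtain ⟨L, rfl⟩ := Quotient.exists_rep i
    set O := MulAction.orbit G L with hO
    have hfil : (Finset.univ.filter (fun M => π M = Quotient.mk _ L)) = O.toFinset := by
      ext M
      simp [π, O, Quotient.eq, MulAction.orbitRel_apply]
    obtain ⟨k, hk⟩ := Subgroup.card_dvd_of_le (hst L)
    have hos : Nat.card O * Nat.card (MulAction.stabilizer G L) = Nat.card G := by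
      rw [← Nat.card_prod]
      exact Nat.card_congr (MulAction.orbitProdStabilizerEquivGroup G L)
    have hok : Nat.card O * k = Z.index := by
      refine Nat.eq_of_mul_eq_mul_right hz0 ?_
      rw [hnG, ← hos, hk]; ring
    have hk2 : 2 ≤ k := by
      obtain ⟨g, hg, hL⟩ := L.2
      by_contra h
      apply hg
      have hle : Nat.card (MulAction.stabilizer G L) ≤ Nat.card Z := by
        rw [hk]
        calc Nat.card Z * k ≤ Nat.card Z * 1 := Nat.mul_le_mul_left _ (by omega)
          _ = _ := mul_one _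
      rw [Subgroup.eq_of_le_of_card_ge (hst L) hle]
      exact (hfixΩ g L).mpr hL
    refine ⟨Nat.card O, k, hok, hk2, ?_, ?_⟩
    · by_contra h
      have hpos : 0 < Nat.card O := by
        have : Nonempty O := ⟨⟨L, MulAction.mem_orbit_self L⟩⟩
        exact Nat.card_pos
      obtain ⟨g, hg⟩ := no_invariant_line ρ hirr L.1.1 L.1.2
      have hgL : g • L ≠ L := fun e => hg ((hfix g L.1).mp ((hfixΩ g L).mp e)).le
      have hO2 : O = {L, g • L} := by
        refine (Set.eq_of_subset_of_ncard_le ?_ ?_ (Set.toFinite _)).symm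
        · rintro x (h | h)
          · rw [h]; exact MulAction.mem_orbit_self L
          · rw [h]; exact MulAction.mem_orbit L g
        · rw [Set.ncard_pair hgL.symm, ← Nat.card_coe_set_eq]; omega
      have hmem : ∀ (x : G) (M : Ω), M ∈ O → x • M ∈ O := fun x M hM => by
        rw [hO, ← MulAction.orbit_eq_iff.mpr hM]
        exact MulAction.mem_orbit M x
      obtain ⟨H, hH, θ, hθ, he⟩ := induced_of_orbit_two ρ hirr L.1.1 (g • L).1.1 L.1.2 (g • L).1.2
        (fun e => hgL (Subtype.ext (Subtype.ext e.symm))) fun x => by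
        have e1 := hmem x L (MulAction.mem_orbit_self L)
        have e2 := hmem x (g • L) (MulAction.mem_orbit L g)
        rw [hO2] at e1 e2
        have v : ∀ (M M' : Ω), x • M = M' → M.1.1.map (ρ x) = M'.1.1 :=
          fun M M' e => congrArg (fun T : Ω => T.1.1) e
        rcases e1 with e1 | e1
        · rcases e2 with e2 | e2
          · exact absurd (MulAction.injective x (e1.trans e2.symm)) hgL.symm
          · exact Or.inl ⟨v _ _ e1, v _ _ e2⟩
        · rcases e2 with e2 | e2
          · exact Or.inr ⟨v _ _ e1, v _ _ e2⟩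
          · exact absurd (MulAction.injective x (e1.trans e2.symm)) hgL.symm
      exact hprim H hH θ hθ (hchar.symm.trans he)
    · rw [hfil]
      rw [Finset.sum_congr rfl (g := fun _ => Nat.card (MulAction.stabilizer G L) - Nat.card Z)]
      · rw [Finset.sum_const, smul_eq_mul, Set.toFinset_card, ← Nat.card_eq_fintype_card, Nat.mul_sub,
          hos, ← hnG, Nat.sub_mul]
      · intro M hM
        rw [Set.mem_toFinset] at hM
        obtain ⟨x, rfl⟩ := hM
        congr 1
        exact Nat.card_congr (MulAction.stabilizerEquivStabilizerOfOrbitRel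
          (show (MulAction.orbitRel G Ω) (x • L) L from ⟨x, rfl⟩)).toEquiv
  choose o k hok hk ho hsum using horb
  refine orbit_arith Z.index o k ?_ hok hk ho ?_
  · have h1 : Z.index ≠ 1 := fun h => hg₀ (Subgroup.index_eq_one.mp h ▸ Subgroup.mem_top g₀)
    have := Z.index_ne_zero_of_finite
    omega
  · rw [← Finset.sum_fiberwise Finset.univ π] at hdc
    simp_rw [hsum] at hdc
    refine Nat.eq_of_mul_eq_mul_right hz0 ?_
    rw [Finset.sum_mul, hdc, mul_assoc, Nat.sub_mul, one_mul, hnG]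

end Cfsg.Agent.S4473
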