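import Cfsg.Statements.S4475
import Cfsg.Agent.Lib.Char.Indicator
import Cfsg.Agent.Lib.Char.Counting

set_option autoImplicit false
open Cfsg

namespace Cfsg.Agent.S4475

open CfsgLib.Char CfsgLib.FSCount
open scoped CfsgLib.Char

/-- Let ρ be an irreducible representation of the finite group G on the coordinate space Fin n → ℂ whose character χ is real-valued, and let ν be the Frobenius–Schur indicator of χ (the average of χ(s²)). Writing X(g) for the matrix of ρ(g), there is a nonzero matrix M with X(g)ᵀ M X(g) = M for all g ∈ G; and every such M (zero or not) satisfies Mᵀ = ν·M. -/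
theorem result {G : Type*} [Group G] [Fintype G] (n : ℕ) (ρ : Representation ℂ G (Fin n → ℂ)) (hirr : ρ.IsIrreducible) (hreal : ∀ g : G, (ρ.character g).im = 0) : (∃ M : Matrix (Fin n) (Fin n) ℂ, M ≠ 0 ∧ ∀ g : G, (LinearMap.toMatrix' (ρ g)).transpose * M * LinearMap.toMatrix' (ρ g) = M) ∧ ∀ M : Matrix (Fin n) (Fin n) ℂ, (∀ g : G, (LinearMap.toMatrix' (ρ g)).transpose * M * LinearMap.toMatrix' (ρ g) = M) → M.transpose = ((Nat.card G : ℂ)⁻¹ * ∑ s : G, ρ.character (s * s)) • M := by
  classical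
  let A : G → Matrix (Fin n) (Fin n) ℂ := fun g => LinearMap.toMatrix' (ρ g)
  have hA1 : A 1 = 1 := by simp [A]
  have hAmul : ∀ g h, A (g * h) = A g * A h := fun g h => by
    simp only [A]; rw [map_mul, Module.End.mul_eq_comp, LinearMap.toMatrix'_comp]
  let ρ' : Representation ℂ G (Fin n → ℂ) :=
    { toFun := fun g => Matrix.toLin' (A g⁻¹).transpose
      map_one' := by rw [inv_one, hA1, Matrix.transpose_one, Matrix.toLin'_one]; rfl
      map_mul' := fun g h => by
        rw [mul_inv_rev, hAmul, Matrix.transpose_mul, Matrix.toLin'_mul]; rfl }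
  have hmat : ∀ g, LinearMap.toMatrix' (ρ' g) = (A g⁻¹).transpose := fun g =>
    LinearMap.toMatrix'_toLin' _
  have hchar : ρ'.character = ρ.character := by
    funext g
    have h1 : ρ'.character g = ρ.character g⁻¹ := by
      show LinearMap.trace ℂ _ (ρ' g) = LinearMap.trace ℂ _ (ρ g⁻¹)
      rw [LinearMap.trace_eq_matrix_trace ℂ (Pi.basisFun ℂ (Fin n)), LinearMap.toMatrix_eq_toMatrix',
        LinearMap.trace_eq_matrix_trace ℂ (Pi.basisFun ℂ (Fin n)), LinearMap.toMatrix_eq_toMatrix', hmat,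
        Matrix.trace_transpose]
    rw [h1, char_value_inv]
    exact Complex.conj_eq_iff_im.mpr (hreal g)
  have hcongr : ∀ g X, CfsgLib.FSCount.congr ρ' g X = (A g⁻¹).transpose * X * A g⁻¹ := by
    intro g X
    show LinearMap.toMatrix' (ρ' g) * X * (LinearMap.toMatrix' (ρ' g)).transpose = _
    rw [hmat, Matrix.transpose_transpose]
  obtain ⟨P, a, b, ha, hba, hi, hPeq, har, hskew, hsym⟩ := indicator_eq ρ'
  rw [hchar, classInner_conj_cases ⟨n, ρ, hirr, rfl⟩, if_pos hreal] at ha
  have ha1 : a = 1 := by exact_mod_cast ha.symm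
  subst ha1
  have hinv : ∀ M : Matrix (Fin n) (Fin n) ℂ, (∀ g : G, (A g).transpose * M * A g = M) →
      ∀ g, CfsgLib.FSCount.congr ρ' g M = M := fun M h g => (hcongr g M).trans (h g⁻¹)
  have hfixP : ∀ M, (∀ g, CfsgLib.FSCount.congr ρ' g M = M) → P M = M := by
    intro M h
    simp only [hPeq, h, Finset.sum_const, Finset.card_univ, ← Nat.card_eq_fintype_card,
      ← Nat.cast_smul_eq_nsmul ℂ, smul_smul,
      inv_mul_cancel₀ (Nat.cast_ne_zero.mpr Nat.card_pos.ne' : (Nat.card G : ℂ) ≠ 0), one_smul]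
  obtain ⟨v, hv0, hv⟩ := finrank_eq_one_iff'.mp har.symm
  refine ⟨⟨v.1, fun h => hv0 (Subtype.ext h), fun g => ?_⟩, fun M hM => ?_⟩
  · obtain ⟨Y, hY⟩ := v.2
    have hg := hcongr g⁻¹ v.1
    rw [inv_inv] at hg
    refine hg.symm.trans ?_
    rw [← hY, hPeq, map_smul, map_sum]
    congr 1
    rw [← Equiv.sum_comp (Equiv.mulLeft g⁻¹) (fun h => CfsgLib.FSCount.congr ρ' h Y)]
    exact Finset.sum_congr rfl fun h _ => (LinearMap.congr_fun (map_mul (CfsgLib.FSCount.congr ρ') g⁻¹ h) Y).symm
  · have hMfix := hinv M hM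
    have hν : (Nat.card G : ℂ)⁻¹ * ∑ s : G, ρ.character (s * s) = 2 * (b : ℂ) - 1 := by
      rw [← hchar]; simpa [indicator] using hi
    rw [hν]
    interval_cases b
    · obtain ⟨X, hX0, hXT, hXfix⟩ := hskew Nat.zero_lt_one
      obtain ⟨c, hc⟩ := hv ⟨M, M, hfixP M hMfix⟩
      obtain ⟨d, hd⟩ := hv ⟨X, X, hfixP X hXfix⟩
      have hc' : c • v.1 = M := congrArg Subtype.val hc
      have hd' : d • v.1 = X := congrArg Subtype.val hd
      have hd0 : d ≠ 0 := fun h => hX0 (by rw [← hd', h, zero_smul])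
      have hvT : v.1.transpose = -v.1 := by
        have : d • v.1.transpose = d • (-v.1) := by rw [← Matrix.transpose_smul, hd', hXT, smul_neg, hd']
        exact smul_right_injective _ hd0 this
      rw [← hc', Matrix.transpose_smul, hvT]
      simp
    · rw [hsym rfl M hMfix]
      norm_num

end Cfsg.Agent.S4475
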