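import Cfsg.Statements.S4476
import Cfsg.Agent.Lib.Char.SquareRoots
import Cfsg.Agent.Lib.Blocks.Inflate
import Cfsg.Agent.Lib.Char.TICoherent

set_option autoImplicit false
open Cfsg

namespace Cfsg.Agent.S4476

open CfsgLib.Char
open scoped CfsgLib.Char

/-- Let G be a finite group of even order g with exactly t involutions, and put α = (g − 1)/t (a rational number). Then (a) some non-identity element x of G has at most α² conjugates; and (b) some non-principal real-valued irreducible character of G has degree at most α. -/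
theorem result {G : Type*} [Group G] [Fintype G] (heven : Even (Nat.card G)) (t : ℕ) (ht : Nat.card {x : G // orderOf x = 2} = t) : (∃ x : G, x ≠ 1 ∧ ((Subgroup.centralizer ({x} : Set G)).index : ℚ) ≤ (((Nat.card G : ℚ) - 1) / t) ^ 2) ∧ ∃ χ : Cfsg.IrrCharacter G, (χ : G → ℂ) ≠ (fun _ => 1) ∧ (∀ g : G, ((χ : G → ℂ) g).im = 0) ∧ (Cfsg.charDegree (χ : G → ℂ) : ℚ) ≤ ((Nat.card G : ℚ) - 1) / t := by
  classical
  haveI : Fact (Nat.Prime 2) := ⟨Nat.prime_two⟩
  set R := Finset.univ.filter (fun χ : Cfsg.IrrCharacter G =>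
    (χ : G → ℂ) ≠ (fun _ => 1) ∧ ∀ g : G, ((χ : G → ℂ) g).im = 0) with hR
  set n := Nat.card G with hn
  choose D hD0 hD using fun χ : Cfsg.IrrCharacter G => CfsgLib.Char.exists_nat_degree_irr χ.2
  have hcd : ∀ χ : Cfsg.IrrCharacter G, Cfsg.charDegree (χ : G → ℂ) = D χ := fun χ => by
    simp [Cfsg.charDegree, hD χ]
  set one : Cfsg.IrrCharacter G := ⟨fun _ => 1, CfsgLib.Char.isIrrCharacter_one⟩ with hone
  have honeR : one ∉ R := fun h => (Finset.mem_filter.mp h).2.1 rfl
  have htR : (t : ℝ) ≤ ∑ χ ∈ R, (D χ : ℝ) := by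
    have h := congrArg Complex.re (CfsgLib.Char.SquareRoots.card_involutions_add_one (G := G))
    rw [ht, ← Finset.add_sum_erase _ _ (Finset.mem_univ one)] at h
    have h1 : (CfsgLib.Char.indicator (one : G → ℂ) * (one : G → ℂ) 1).re = 1 := by
      rw [show (one : G → ℂ) = fun _ => 1 from rfl, CfsgLib.Char.SquareRoots.indicator_one, one_mul]
      rfl
    rw [Complex.add_re, h1, Complex.natCast_re, Complex.re_sum] at h
    push_cast at h
    have h2 : ∑ χ ∈ Finset.univ.erase one, (CfsgLib.Char.indicator (χ : G → ℂ) * (χ : G → ℂ) 1).re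
        ≤ ∑ χ ∈ Finset.univ.erase one, (if χ ∈ R then (D χ : ℝ) else 0) := by
      refine Finset.sum_le_sum fun χ hχ => ?_
      have hne : (χ : G → ℂ) ≠ fun _ => 1 := fun e => (Finset.ne_of_mem_erase hχ) (Subtype.ext e)
      rcases CfsgLib.Char.indicator_cases χ.2 with ⟨hreal, e | e⟩ | ⟨⟨g, hg⟩, e⟩
      · rw [e, if_pos (Finset.mem_filter.mpr ⟨Finset.mem_univ _, hne, hreal⟩), one_mul, hD]
        simp
      · rw [e, if_pos (Finset.mem_filter.mpr ⟨Finset.mem_univ _, hne, hreal⟩), hD]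
        simp
      · rw [e, if_neg (fun h => hg ((Finset.mem_filter.mp h).2.2 g)), zero_mul]
        simp
    rw [← Finset.sum_filter] at h2
    refine le_trans (by linarith) (Finset.sum_le_sum_of_subset_of_nonneg ?_ fun _ _ _ => by positivity)
    exact fun χ hχ => (Finset.mem_filter.mp hχ).2
  have hsq : ∑ χ ∈ R, (D χ : ℝ) ^ 2 ≤ (n : ℝ) - 1 := by
    have h : ∑ χ : Cfsg.IrrCharacter G, ((D χ * D χ : ℕ) : ℂ) = ((n : ℕ) : ℂ) := by
      rw [Finset.sum_congr rfl fun χ _ => by rw [Nat.cast_mul, ← hD χ]]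
      simpa [hn, Nat.card_eq_fintype_card] using CfsgLib.Char.sum_degree_mul_irr (G := G) 1
    rw [← Nat.cast_sum] at h
    have h' : ((∑ χ : Cfsg.IrrCharacter G, D χ * D χ : ℕ) : ℝ) = (n : ℝ) :=
      congrArg Nat.cast (Nat.cast_injective h)
    have h1 : (D one : ℝ) = 1 := by
      have : (D one : ℂ) = 1 := (hD one).symm
      exact_mod_cast this
    rw [Nat.cast_sum, ← Finset.add_sum_erase _ _ (Finset.mem_univ one), Nat.cast_mul, h1] at h'
    have hle : ∑ χ ∈ R, (D χ : ℝ) ^ 2 ≤ ∑ χ ∈ Finset.univ.erase one, ((D χ * D χ : ℕ) : ℝ) := by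
      rw [Finset.sum_congr rfl fun χ _ => by rw [sq, ← Nat.cast_mul]]
      exact Finset.sum_le_sum_of_subset_of_nonneg (fun χ hχ => Finset.mem_erase.mpr
        ⟨fun e => honeR (e ▸ hχ), Finset.mem_univ _⟩) fun _ _ _ => by positivity
    linarith
  obtain ⟨s₀, hs₀⟩ := exists_prime_orderOf_dvd_card' (G := G) 2 heven.two_dvd
  have htpos : (0 : ℝ) < t := by
    haveI : Nonempty {x : G // orderOf x = 2} := ⟨⟨s₀, hs₀⟩⟩
    have : 0 < t := ht ▸ Nat.card_pos
    exact_mod_cast this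
  obtain ⟨χ, hχR, hχd⟩ : ∃ χ ∈ R, (D χ : ℝ) * t ≤ (n : ℝ) - 1 := by
    by_contra h
    push_neg at h
    have hne : R.Nonempty := by
      by_contra he
      rw [Finset.not_nonempty_iff_eq_empty] at he
      rw [he, Finset.sum_empty] at htR
      linarith
    have h1 : ∑ χ ∈ R, (D χ : ℝ) * ((n : ℝ) - 1) < ∑ χ ∈ R, (D χ : ℝ) * ((D χ : ℝ) * t) :=
      Finset.sum_lt_sum_of_nonempty hne fun χ hχ =>
        mul_lt_mul_of_pos_left (h χ hχ) (by exact_mod_cast hD0 χ)
    have e : ∑ χ ∈ R, (D χ : ℝ) * ((D χ : ℝ) * t) = (∑ χ ∈ R, (D χ : ℝ) ^ 2) * t := by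
      rw [Finset.sum_mul]
      exact Finset.sum_congr rfl fun χ _ => by ring
    rw [← Finset.sum_mul, e] at h1
    have hn1 : (0 : ℝ) ≤ (n : ℝ) - 1 := le_trans (Finset.sum_nonneg fun _ _ => sq_nonneg _) hsq
    nlinarith [mul_le_mul_of_nonneg_right htR hn1, mul_le_mul_of_nonneg_right hsq htpos.le]
  refine ⟨?_, χ, (Finset.mem_filter.mp hχR).2.1, (Finset.mem_filter.mp hχR).2.2, ?_⟩
  · by_contra h
    push_neg at h
    have hsum : ∑ x : G, (Nat.card (Subgroup.centralizer ({x} : Set G)) : ℝ) =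
        (Nat.card (Cfsg.IrrCharacter G) : ℝ) * n := by
      rw [CfsgLib.Char.card_irr_eq_card_conjClasses, hn]
      have h1 := card_comm_eq_card_conjClasses_mul_card G
      rw [Nat.card_congr (Equiv.subtypeProdEquivSigmaSubtype Commute), Nat.card_sigma] at h1
      have h2 : ∀ x : G, Nat.card (Subgroup.centralizer ({x} : Set G)) = Nat.card {b : G // Commute x b} :=
        fun x => Nat.card_congr (Equiv.subtypeEquivRight fun b =>
          Subgroup.mem_centralizer_singleton_iff.trans ⟨fun e => e.symm, fun e => e.symm⟩)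
      simp only [h2]
      exact_mod_cast h1
    rw [← Finset.add_sum_erase _ _ (Finset.mem_univ (1 : G))] at hsum
    have hc1 : (Nat.card (Subgroup.centralizer ({(1 : G)} : Set G)) : ℝ) = n := by
      rw [Subgroup.centralizer_eq_top_iff_subset.mpr (by simp), Subgroup.card_top]
    rw [hc1] at hsum
    have hk : (R.card : ℝ) + 1 ≤ (Nat.card (Cfsg.IrrCharacter G) : ℝ) := by
      have : R.card + 1 ≤ Nat.card (Cfsg.IrrCharacter G) := by
        rw [Nat.card_eq_fintype_card, ← Finset.card_insert_of_notMem honeR]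
        exact Finset.card_le_univ _
      exact_mod_cast this
    have hCS : (∑ χ ∈ R, (D χ : ℝ)) ^ 2 ≤ (R.card : ℝ) * ∑ χ ∈ R, (D χ : ℝ) ^ 2 := sq_sum_le_card_mul_sum_sq
    have hone_lt : 1 < n := Finite.one_lt_card_iff_nontrivial.mpr ⟨⟨s₀, 1, fun e => by simp [e] at hs₀⟩⟩
    have hn1 : (0 : ℝ) < (n : ℝ) - 1 := by
      have : (1 : ℝ) < n := by exact_mod_cast hone_lt
      linarith
    have hstrict : ∑ x ∈ Finset.univ.erase (1 : G), (Nat.card (Subgroup.centralizer ({x} : Set G)) : ℝ) *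
        ((n : ℝ) - 1) ^ 2 < ((n : ℝ) - 1) * ((n : ℝ) * (t : ℝ) ^ 2) := by
      have hcard : ((Finset.univ.erase (1 : G)).card : ℝ) = (n : ℝ) - 1 := by
        rw [Finset.card_erase_of_mem (Finset.mem_univ _), Finset.card_univ, hn, Nat.card_eq_fintype_card,
          Nat.cast_sub (Fintype.card_pos), Nat.cast_one]
      rw [← hcard, ← nsmul_eq_mul, ← Finset.sum_const, hcard]
      refine Finset.sum_lt_sum_of_nonempty ⟨s₀, Finset.mem_erase.mpr
        ⟨fun e => by simp [e] at hs₀, Finset.mem_univ _⟩⟩ fun x hx => ?_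
      have hx1 := Finset.ne_of_mem_erase hx
      have hx' := h x hx1
      rw [div_pow, div_lt_iff₀ (by
        have : (0 : ℚ) < t := by exact_mod_cast htpos
        positivity)] at hx'
      have hx'' : ((n : ℝ) - 1) ^ 2 <
          ((Subgroup.centralizer ({x} : Set G)).index : ℝ) * (t : ℝ) ^ 2 := by exact_mod_cast hx'
      have hci : (Nat.card (Subgroup.centralizer ({x} : Set G)) : ℝ) *
          ((Subgroup.centralizer ({x} : Set G)).index : ℝ) = n := by
        exact_mod_cast (Subgroup.centralizer ({x} : Set G)).card_mul_index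
      rw [show (n : ℝ) * (t : ℝ) ^ 2 = (Nat.card (Subgroup.centralizer ({x} : Set G)) : ℝ) *
        (((Subgroup.centralizer ({x} : Set G)).index : ℝ) * (t : ℝ) ^ 2) by rw [← mul_assoc, hci]]
      exact mul_lt_mul_of_pos_left hx'' (by exact_mod_cast Nat.card_pos)
    rw [← Finset.sum_mul] at hstrict
    have hS : ∑ x ∈ Finset.univ.erase (1 : G), (Nat.card (Subgroup.centralizer ({x} : Set G)) : ℝ) =
        ((Nat.card (Cfsg.IrrCharacter G) : ℝ) - 1) * n := by linarith
    rw [hS] at hstrict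
    have hnpos : (0 : ℝ) < n := by linarith
    have h3 : ((Nat.card (Cfsg.IrrCharacter G) : ℝ) - 1) * ((n : ℝ) - 1) < (t : ℝ) ^ 2 :=
      lt_of_mul_lt_mul_left (a := (n : ℝ) * ((n : ℝ) - 1)) (by linarith) (mul_pos hnpos hn1).le
    have h4 : (t : ℝ) ^ 2 ≤ (R.card : ℝ) * ((n : ℝ) - 1) :=
      le_trans (pow_le_pow_left₀ htpos.le htR 2) (le_trans hCS
        (mul_le_mul_of_nonneg_left hsq (by positivity)))
    nlinarith [mul_le_mul_of_nonneg_right hk hn1.le]
  · rw [hcd, le_div_iff₀ (by exact_mod_cast htpos)]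
    exact_mod_cast hχd

end Cfsg.Agent.S4476
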