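import Cfsg.Statements.S4477
import Cfsg.Agent.Lib.Char.TwoGroupLinear
import Cfsg.Agent.Lib.Blocks.Inflate
import Cfsg.Agent.Lib.Char.TICoherent

set_option autoImplicit false
open Cfsg

namespace Cfsg.Agent.S4477

open CfsgLib.Char
open scoped CfsgLib.Char

/-- Let G be a finite 2-group whose number of involutions is congruent to 1 modulo 4. Then G is cyclic or its commutator subgroup has index 4. -/
theorem result {G : Type*} [Group G] [Finite G] (hG : IsPGroup 2 G) (ht : Nat.card {x : G // orderOf x = 2} % 4 = 1) : IsCyclic G ∨ (commutator G).index = 4 := by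
  classical
  haveI : Fact (Nat.Prime 2) := ⟨Nat.prime_two⟩
  haveI : Fintype G := Fintype.ofFinite G
  by_contra hcon
  push_neg at hcon
  obtain ⟨hcyc, hidx⟩ := hcon
  choose D hD0 hD using fun χ : Cfsg.IrrCharacter G => CfsgLib.Char.exists_nat_degree_irr χ.2
  have hpow : ∀ χ : Cfsg.IrrCharacter G, D χ = 1 ∨ D χ = 2 ∨ 4 ∣ D χ := by
    intro χ
    obtain ⟨d, hd, -, hdvd⟩ := CfsgLib.Char.exists_degree_dvd_card χ.2
    obtain ⟨N, hN⟩ := IsPGroup.iff_card.mp hG
    have hde : D χ = d := Nat.cast_injective ((hD χ).symm.trans hd)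
    rw [hN] at hdvd
    obtain ⟨i, -, hi⟩ := (Nat.dvd_prime_pow Nat.prime_two).mp hdvd
    rw [hde, hi]
    rcases i with _ | _ | i
    · exact Or.inl rfl
    · exact Or.inr (Or.inl rfl)
    · exact Or.inr (Or.inr ⟨2 ^ i, by ring⟩)
  have h4 := CfsgLib.Char.TwoGroupLinear.four_dvd_real_linear hG hcyc
  have h4A := CfsgLib.Char.TwoGroupLinear.four_le_abelianization hG hcyc
  set Real2 := Finset.univ.filter (fun χ : Cfsg.IrrCharacter G =>
    D χ = 2 ∧ ∀ g, ((χ : G → ℂ) g).im = 0) with hR2
  set All2 := Finset.univ.filter (fun χ : Cfsg.IrrCharacter G => D χ = 2) with hA2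
  have hint : ∀ χ : Cfsg.IrrCharacter G, ∃ e : ℤ,
      CfsgLib.Char.indicator (χ : G → ℂ) * (χ : G → ℂ) 1 =
        ((if D χ = 1 ∧ (∀ g, ((χ : G → ℂ) g).im = 0) then 1 else 0) +
          (if D χ = 2 ∧ (∀ g, ((χ : G → ℂ) g).im = 0) then 2 else 0) + 4 * e : ℤ) := by
    intro χ
    rw [hD χ]
    rcases CfsgLib.Char.indicator_cases χ.2 with ⟨hreal, hi⟩ | ⟨⟨g, hg⟩, hi⟩
    · rcases hpow χ with h | h | ⟨c, hc⟩
      · refine ⟨0, ?_⟩
        rw [CfsgLib.Char.indicator_eq_one_of_odd χ.2 hreal (hD χ) (by rw [h]; exact odd_one), h,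
          if_pos ⟨rfl, hreal⟩, if_neg (by simp)]
        norm_num
      · rw [h, if_neg (by simp), if_pos ⟨rfl, hreal⟩]
        rcases hi with hi | hi <;> rw [hi]
        · exact ⟨0, by norm_num⟩
        · exact ⟨-1, by norm_num⟩
      · have hc0 := hD0 χ
        rw [if_neg (fun e => by omega), if_neg (fun e => by omega)]
        rcases hi with hi | hi <;> rw [hi]
        · exact ⟨c, by rw [hc]; push_cast; ring⟩
        · exact ⟨-c, by rw [hc]; push_cast; ring⟩
    · refine ⟨0, ?_⟩
      rw [hi, if_neg (fun e => hg (e.2 g)), if_neg (fun e => hg (e.2 g))]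
      norm_num
  choose e he using hint
  have hodd2 : Odd Real2.card := by
    have h := CfsgLib.Char.SquareRoots.card_involutions_add_one (G := G)
    rw [Finset.sum_congr rfl fun χ _ => he χ, ← Int.cast_sum, ← Int.cast_natCast] at h
    have h' := Int.cast_injective h
    rw [Finset.sum_add_distrib, Finset.sum_add_distrib, Finset.sum_boole, ← Finset.mul_sum,
      ← Finset.sum_filter, Finset.sum_const] at h'
    simp only [nsmul_eq_mul] at h'
    have hlin : (Finset.univ.filter fun χ : Cfsg.IrrCharacter G =>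
        D χ = 1 ∧ ∀ g, ((χ : G → ℂ) g).im = 0).card =
        Nat.card {χ : Cfsg.IrrCharacter G // (χ : G → ℂ) 1 = 1 ∧ ∀ g, ((χ : G → ℂ) g).im = 0} := by
      rw [Nat.card_eq_fintype_card, Fintype.card_subtype]
      congr 1
      ext χ
      simp only [Finset.mem_filter, Finset.mem_univ, true_and, hD χ]
      norm_cast
    rw [hlin] at h'
    obtain ⟨c, hc⟩ := h4
    rw [hc, ← hR2] at h'
    push_cast at h'
    rw [Nat.odd_iff]
    omega
  have hpar : Odd All2.card := by
    let conjσ : {χ // χ ∈ All2} → {χ // χ ∈ All2} := fun χ => ⟨CfsgLib.Char.conjPerm χ.1, by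
      have h2 := (Finset.mem_filter.mp χ.2).2
      refine Finset.mem_filter.mpr ⟨Finset.mem_univ _, ?_⟩
      have h' := hD (CfsgLib.Char.conjPerm χ.1)
      rw [CfsgLib.Char.conjPerm_apply, hD χ.1, map_natCast, h2] at h'
      exact_mod_cast h'.symm⟩
    let cf : Function.End {χ // χ ∈ All2} := conjσ
    have hinv : cf ^ 2 ^ 1 = 1 := by
      rw [pow_one, sq]
      funext χ
      refine Subtype.ext (Subtype.ext (funext fun g => ?_))
      show (CfsgLib.Char.conjPerm (CfsgLib.Char.conjPerm χ.1) : G → ℂ) g = (χ.1 : G → ℂ) g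
      rw [CfsgLib.Char.conjPerm_apply, CfsgLib.Char.conjPerm_apply, Complex.conj_conj]
    have hmod := Equiv.Perm.card_fixedPoints_modEq hinv
    have hfix : Fintype.card (Function.fixedPoints conjσ) = Real2.card := by
      rw [← Fintype.card_coe Real2]
      refine Fintype.card_congr
        { toFun := fun χ => ⟨χ.1.1, Finset.mem_filter.mpr ⟨Finset.mem_univ _,
            (Finset.mem_filter.mp χ.1.2).2, fun g => Complex.conj_eq_iff_im.mp (by
              have := congrArg (fun z : {χ // χ ∈ All2} => (z.1 : G → ℂ) g) χ.2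
              simpa [conjσ, CfsgLib.Char.conjPerm_apply] using this)⟩⟩
          invFun := fun χ => ⟨⟨χ.1, Finset.mem_filter.mpr ⟨Finset.mem_univ _,
            (Finset.mem_filter.mp χ.2).2.1⟩⟩, Subtype.ext (Subtype.ext (funext fun g => by
              show (CfsgLib.Char.conjPerm χ.1 : G → ℂ) g = _
              rw [CfsgLib.Char.conjPerm_apply]
              exact Complex.conj_eq_iff_im.mpr ((Finset.mem_filter.mp χ.2).2.2 g)))⟩
          left_inv := fun _ => rfl
          right_inv := fun _ => rfl }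
    rw [hfix, Fintype.card_coe] at hmod
    rw [Nat.odd_iff] at hodd2 ⊢
    exact (show All2.card % 2 = Real2.card % 2 by simpa [Nat.ModEq] using hmod).trans hodd2
  have hsum : ∃ c : ℕ, Nat.card G = (commutator G).index + 4 * All2.card + 16 * c := by
    have h : ∑ χ : Cfsg.IrrCharacter G, D χ * D χ = Nat.card G := by
      have : ((∑ χ : Cfsg.IrrCharacter G, D χ * D χ : ℕ) : ℂ) = ((Nat.card G : ℕ) : ℂ) := by
        rw [Nat.cast_sum, Finset.sum_congr rfl fun χ _ => by rw [Nat.cast_mul, ← hD χ]]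
        simpa using CfsgLib.Char.sum_degree_mul_irr (G := G) 1
      exact Nat.cast_injective this
    have hterm : ∀ χ : Cfsg.IrrCharacter G, ∃ c : ℕ, D χ * D χ =
        (if D χ = 1 then 1 else 0) + (if D χ = 2 then 4 else 0) + 16 * c := by
      intro χ
      rcases hpow χ with h | h | ⟨c, hc⟩
      · exact ⟨0, by simp [h]⟩
      · exact ⟨0, by simp [h]⟩
      · have := hD0 χ
        exact ⟨c * c, by rw [if_neg (by omega), if_neg (by omega), hc]; ring⟩
    choose c hc using hterm
    refine ⟨∑ χ, c χ, ?_⟩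
    rw [← h, Finset.sum_congr rfl fun χ _ => hc χ, Finset.sum_add_distrib, Finset.sum_add_distrib,
      ← Finset.mul_sum, Finset.sum_boole,
      ← Finset.sum_filter, Finset.sum_const, smul_eq_mul,
      ← CfsgLib.Char.card_linear, Nat.card_eq_fintype_card, Fintype.card_subtype, Nat.cast_id,
      mul_comm 4 All2.card]
    congr 3
    ext χ
    simp only [Finset.mem_filter, Finset.mem_univ, true_and, hD χ]
    norm_cast
  obtain ⟨c, hc⟩ := hsum
  obtain ⟨N, hN⟩ := IsPGroup.iff_card.mp hG
  obtain ⟨j, -, hj⟩ := (Nat.dvd_prime_pow Nat.prime_two).mp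
    (hN ▸ (Subgroup.index_dvd_card (commutator G)))
  rw [Nat.odd_iff] at hpar
  have hj3 : 3 ≤ j := by
    by_contra hlt
    rw [hj] at h4A hidx
    interval_cases j <;> simp_all
  have hjN : j ≤ N := (Nat.pow_le_pow_iff_right (by norm_num : 1 < 2)).mp
    (by rw [← hj, ← hN]; exact Nat.le_of_dvd Nat.card_pos (Subgroup.index_dvd_card _))
  obtain ⟨a, ha⟩ := pow_dvd_pow 2 hj3
  obtain ⟨b, hb⟩ := pow_dvd_pow 2 (hj3.trans hjN)
  rw [hN, hj, ha, hb] at hc
  omega

end Cfsg.Agent.S4477
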