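import Cfsg.Statements.S4478
import Cfsg.Agent.Lib.Char.SquareRoots

set_option autoImplicit false
open Cfsg

namespace Cfsg.Agent.S4478

open CfsgLib.Char
open scoped CfsgLib.Char

/-- Let G be a finite group of even order and χ an irreducible character of G whose degree x is divisible by the full power of 2 dividing the order of G and, for every odd prime p such that G has an element of order 2p, by the full power of p dividing the order of G. Then all involutions of G are conjugate, the centralizer of every involution has order exactly x with x coprime to its index, and the Frobenius–Schur indicator of χ equals 1. -/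
theorem result {G : Type*} [Group G] [Fintype G] (heven : Even (Nat.card G)) (χ : Cfsg.IrrCharacter G) (h2 : 2 ^ (Nat.card G).factorization 2 ∣ Cfsg.charDegree (χ : G → ℂ)) (hp : ∀ p : ℕ, p.Prime → p ≠ 2 → (∃ g : G, orderOf g = 2 * p) → p ^ (Nat.card G).factorization p ∣ Cfsg.charDegree (χ : G → ℂ)) : (∀ s t : G, orderOf s = 2 → orderOf t = 2 → IsConj s t) ∧ (∀ s : G, orderOf s = 2 → Nat.card (Subgroup.centralizer ({s} : Set G)) = Cfsg.charDegree (χ : G → ℂ) ∧ (Nat.card (Subgroup.centralizer ({s} : Set G))).Coprime (Subgroup.centralizer ({s} : Set G)).index) ∧ (Nat.card G : ℂ)⁻¹ * ∑ g : G, (χ : G → ℂ) (g * g) = 1 := by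
  classical
  set t := Nat.card {x : G // orderOf x = 2} with ht
  have hdvd2 : 2 ∣ Nat.card G := heven.two_dvd
  haveI : Fact (Nat.Prime 2) := ⟨Nat.prime_two⟩
  obtain ⟨d, hd0, hd⟩ := CfsgLib.Char.exists_nat_degree_irr χ.2
  have hcd : Cfsg.charDegree (χ : G → ℂ) = d := by simp [Cfsg.charDegree, hd]
  rw [hcd] at h2 hp ⊢
  have hfull : ∀ q : ℕ, q.Prime → (q = 2 ∨ ∃ g : G, orderOf g = 2 * q) →
      q ^ (Nat.card G).factorization q ∣ d := by
    intro q hq hor
    by_cases e : q = 2
    · subst e; exact h2
    · exact hp q hq e (hor.resolve_left e)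
  have hvan : ∀ g : G, g ≠ 1 → Even (Nat.card (Subgroup.centralizer ({g} : Set G))) →
      (χ : G → ℂ) g = 0 := by
    intro g hg hev
    obtain ⟨s, hs⟩ := exists_prime_orderOf_dvd_card' (G := Subgroup.centralizer ({g} : Set G)) 2
      hev.two_dvd
    have hs' : orderOf (s : G) = 2 := by rw [Subgroup.orderOf_coe]; exact hs
    obtain ⟨q, hq, hqd⟩ := Nat.exists_prime_and_dvd (orderOf_eq_one_iff.not.mpr hg)
    refine CfsgLib.Char.SquareRoots.vanish_of_full_part χ hq ?_ hqd
    rw [hcd]
    refine hfull q hq ?_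
    by_cases e : q = 2
    · exact Or.inl e
    refine Or.inr ⟨(s : G) * g ^ (orderOf g / q), ?_⟩
    have ho : orderOf (g ^ (orderOf g / q)) = q := orderOf_pow_orderOf_div (orderOf_pos g).ne' hqd
    have hc : Commute (s : G) (g ^ (orderOf g / q)) :=
      Commute.pow_right (Subgroup.mem_centralizer_singleton_iff.mp s.2) _
    rw [hc.orderOf_mul_eq_mul_orderOf_of_coprime
      (by rw [hs', ho]; exact (Nat.coprime_primes Nat.prime_two hq).mpr (Ne.symm e)), hs', ho]
  have hne : (χ : G → ℂ) ≠ fun _ => 1 := by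
    intro e
    have hd1 : d = 1 := by
      have : (d : ℂ) = 1 := hd.symm.trans (congrFun e 1)
      exact_mod_cast this
    have h2' : 2 ∣ 2 ^ (Nat.card G).factorization 2 :=
      dvd_pow_self 2 (Nat.prime_two.factorization_pos_of_dvd Nat.card_pos.ne' hdvd2).ne'
    rw [hd1] at h2
    exact absurd (Nat.le_of_dvd Nat.one_pos (h2'.trans h2)) (by norm_num)
  have hsum0 : ∑ g : G, (χ : G → ℂ) g = 0 := by
    have h := CfsgLib.Char.classInner_irr_ne χ.2 CfsgLib.Char.isIrrCharacter_one hne
    simp only [Cfsg.classInner, map_one, mul_one, mul_eq_zero, inv_eq_zero, Nat.cast_eq_zero,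
      Nat.card_pos.ne', false_or] at h
    exact h
  have hsq : ∑ g : G, (χ : G → ℂ) (g * g) = (t : ℂ) * d := by
    rw [← Finset.sum_fiberwise_of_maps_to (s := Finset.univ) (t := Finset.univ)
      (g := fun x : G => x * x) (fun _ _ => Finset.mem_univ _)]
    have hterm : ∀ z : G, ∑ x ∈ Finset.univ.filter (fun x : G => x * x = z), (χ : G → ℂ) (x * x) =
        (χ : G → ℂ) z + if z = 1 then (t : ℂ) * d else 0 := by
      intro z
      rw [Finset.sum_congr rfl fun x hx => by rw [(Finset.mem_filter.mp hx).2], Finset.sum_const,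
        nsmul_eq_mul, ← Fintype.card_subtype, ← Nat.card_eq_fintype_card]
      split_ifs with hz
      · subst hz
        rw [CfsgLib.Char.SquareRoots.card_sqrt_one_eq, ← ht, hd]
        push_cast
        ring
      · rw [add_zero]
        by_cases hev : Even (Nat.card (Subgroup.centralizer ({z} : Set G)))
        · rw [hvan z hz hev, mul_zero]
        · rw [CfsgLib.Char.SquareRoots.card_sqrt_of_odd z (Nat.not_even_iff_odd.mp hev), Nat.cast_one,
            one_mul]
    rw [Finset.sum_congr rfl fun z _ => hterm z, Finset.sum_add_distrib, hsum0, zero_add,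
      Finset.sum_ite_eq', if_pos (Finset.mem_univ _)]
  obtain ⟨s₀, hs₀⟩ := exists_prime_orderOf_dvd_card' (G := G) 2 hdvd2
  have htd : t * d = Nat.card G ∧ CfsgLib.Char.indicator (χ : G → ℂ) = 1 := by
    have hpos : t * d ≠ 0 := Nat.mul_ne_zero (by
      haveI : Nonempty {x : G // orderOf x = 2} := ⟨⟨s₀, hs₀⟩⟩
      exact Nat.card_pos.ne') hd0.ne'
    have hG0 : (Nat.card G : ℂ) ≠ 0 := Nat.cast_ne_zero.mpr Nat.card_pos.ne'
    have hi : CfsgLib.Char.indicator (χ : G → ℂ) = (Nat.card G : ℂ)⁻¹ * ((t : ℂ) * d) := by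
      rw [CfsgLib.Char.indicator, hsq]
    rcases CfsgLib.Char.indicator_cases χ.2 with ⟨-, e | e⟩ | ⟨-, e⟩
    · refine ⟨?_, e⟩
      rw [e, inv_mul_eq_div, eq_div_iff hG0, one_mul] at hi
      exact_mod_cast hi.symm
    · exfalso
      rw [e, inv_mul_eq_div, eq_div_iff hG0] at hi
      have h' : ((t * d + Nat.card G : ℕ) : ℂ) = 0 := by push_cast; linear_combination -hi
      exact Nat.card_pos.ne' (Nat.eq_zero_of_add_eq_zero_left (Nat.cast_eq_zero.mp h'))
    · exfalso
      rw [e, inv_mul_eq_div, eq_div_iff hG0, zero_mul] at hi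
      exact hpos (by exact_mod_cast hi.symm)
  have hC : ∀ s : G, orderOf s = 2 → Nat.card (Subgroup.centralizer ({s} : Set G)) ∣ d ∧
      ∀ q : ℕ, q.Prime → q ∣ Nat.card (Subgroup.centralizer ({s} : Set G)) →
        q ^ (Nat.card G).factorization q ∣ d := by
    intro s hs
    have key : ∀ q : ℕ, q.Prime → q ∣ Nat.card (Subgroup.centralizer ({s} : Set G)) →
        q ^ (Nat.card G).factorization q ∣ d := by
      intro q hq hqC
      haveI := Fact.mk hq
      by_cases e : q = 2
      · subst e; exact h2
      obtain ⟨x, hx⟩ := exists_prime_orderOf_dvd_card' q hqC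
      have hx' : orderOf (x : G) = q := by rw [Subgroup.orderOf_coe]; exact hx
      refine hfull q hq (Or.inr ⟨s * (x : G), ?_⟩)
      rw [(show Commute s (x : G) from (Subgroup.mem_centralizer_singleton_iff.mp x.2).symm).orderOf_mul_eq_mul_orderOf_of_coprime
        (by rw [hs, hx']; exact (Nat.coprime_primes Nat.prime_two hq).mpr (Ne.symm e)), hs, hx']
    refine ⟨(Nat.dvd_iff_prime_pow_dvd_dvd _ _).mpr fun q k hq hqk => ?_, key⟩
    rcases Nat.eq_zero_or_pos k with rfl | hk
    · simp
    · refine (pow_dvd_pow q ?_).trans (key q hq ((dvd_pow_self q hk.ne').trans hqk))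
      exact (hq.pow_dvd_iff_le_factorization Nat.card_pos.ne').mp
        (hqk.trans (Subgroup.card_subgroup_dvd_card _))
  have hclass : ∀ s : G, orderOf s = 2 →
      Nat.card (Subgroup.centralizer ({s} : Set G)) = d ∧
        ∀ u : G, orderOf u = 2 → IsConj u s := by
    intro s hs
    have hsub : ∀ u : G, IsConj u s → orderOf u = 2 := fun u hu => by
      obtain ⟨c, rfl⟩ := isConj_iff.mp hu.symm
      exact (CfsgLib.Transfer.orderOf_conj c s).trans hs
    have hle : (Subgroup.centralizer ({s} : Set G)).index ≤ t := by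
      rw [← CfsgLib.Char.card_isConj_eq_index, ht]
      exact Nat.card_le_card_of_injective (fun u => ⟨u.1, hsub u.1 u.2⟩)
        (fun a b h => Subtype.ext (Subtype.ext_iff.mp h :))
    have hCd := Nat.le_of_dvd hd0 (hC s hs).1
    have hci := (Subgroup.centralizer ({s} : Set G)).card_mul_index
    have h1 : Nat.card (Subgroup.centralizer ({s} : Set G)) = d := by
      refine le_antisymm hCd (Nat.le_of_not_lt fun hlt => ?_)
      have htd' := htd.1
      have := Nat.mul_lt_mul_of_lt_of_le hlt hle (by
        haveI : Nonempty {x : G // orderOf x = 2} := ⟨⟨s, hs⟩⟩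
        exact Nat.card_pos)
      rw [hci, mul_comm d t, htd'] at this
      exact lt_irrefl _ this
    refine ⟨h1, fun u hu => ?_⟩
    by_contra hn
    have hlt : (Subgroup.centralizer ({s} : Set G)).index < t := by
      rw [← CfsgLib.Char.card_isConj_eq_index, ht, Nat.card_eq_fintype_card, Nat.card_eq_fintype_card,
        Fintype.card_subtype, Fintype.card_subtype]
      refine Finset.card_lt_card ⟨fun x hx => ?_, fun hss => hn ?_⟩
      · simp only [Finset.mem_filter, Finset.mem_univ, true_and] at hx ⊢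
        exact hsub x hx
      · simpa using hss (show u ∈ Finset.univ.filter (fun x : G => orderOf x = 2) by simpa using hu)
    have := Nat.mul_lt_mul_of_pos_left hlt hd0
    rw [mul_comm d t, htd.1] at this
    rw [h1] at hci
    omega
  refine ⟨fun s u hs hu => (hclass u hu).2 s hs, fun s hs => ⟨(hclass s hs).1, ?_⟩, htd.2⟩
  refine Nat.coprime_of_dvd fun q hq hqC hqI => ?_
  have h1 := (hC s hs).2 q hq hqC
  rw [← (hclass s hs).1] at h1
  have h2' := mul_dvd_mul h1 hqI
  rw [Subgroup.card_mul_index, ← pow_succ] at h2'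
  exact Nat.pow_succ_factorization_not_dvd Nat.card_pos.ne' hq h2'

end Cfsg.Agent.S4478
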