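import Cfsg.Statements.S4481
import Cfsg.Agent.Lib.DihBlock.Complete
import Cfsg.Agent.Lib.DihBlock.Setup

set_option autoImplicit false
open Cfsg
open scoped CfsgLib.Char

namespace Cfsg.Agent.S4481

/-- The principal 2-block of a group with dihedral Sylow 2-subgroups. Let G be a finite group whose Sylow 2-subgroup P is dihedral of order 2^n ≥ 8, let σ be an element of P of order 2^(n−1), ζ a primitive 2^(n−1)-th root of unity, and M a maximal ideal of the algebraic integers containing 2. Then the principal 2-block consists of exactly 3 + 2^(n−2) irreducible characters, which can be labelled 1, χ₁, χ₂, χ₃ and χ^(j) for 1 ≤ j ≤ 2^(n−2) − 1 (all distinct), with signs δ₁, δ₂, δ₃ such that for 0 < λ < 2^(n−1): χ₁(σ^λ) = δ₁, χ₂(σ^λ) = δ₂(−1)^(λ+1), χ₃(σ^λ) = δ₃(−1)^(λ+1) and χ^(j)(σ^λ) = δ₁(ζ^(jλ)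 + ζ^(−jλ)); and for every element ρ of odd order and every j: 1 + δ₁χ₁(ρ) = −δ₂χ₂(ρ) − δ₃χ₃(ρ) = δ₁χ^(j)(ρ). -/
theorem result {G : Type*} [Group G] [Finite G] (M : Ideal Cfsg.AlgInt) (hM : Cfsg.IsPModular 2 M) (n : ℕ) (hn : 3 ≤ n) (P : Sylow 2 G) (hP : Nonempty ((P : Subgroup G) ≃* DihedralGroup (2 ^ (n - 1)))) (σ : G) (hσ : σ ∈ (P : Subgroup G)) (hσo : orderOf σ = 2 ^ (n - 1)) (ζ : ℂ) (hζ : IsPrimitiveRoot ζ (2 ^ (n - 1))) : Nat.card (Cfsg.principalBlock M G) = 3 + 2 ^ (n - 2) ∧ ∃ (χ₁ χ₂ χ₃ : Cfsg.IrrCharacter G) (χ' : Fin (2 ^ (n - 2) - 1) → Cfsg.IrrCharacter G) (δ₁ δ₂ δ₃ : ℤ), (δ₁ = 1 ∨ δ₁ = -1) ∧ (δ₂ = 1 ∨ δ₂ = -1) ∧ (δ₃ = 1 ∨ δ₃ = -1) ∧ Function.Injective χ' ∧ (χ₁ : G → ℂ) ≠ (fun _ => 1) ∧ (χ₂ : G → ℂ) ≠ (fun _ => 1) ∧ (χ₃ : G → ℂ) ≠ (fun _ => 1) ∧ χ₁ ≠ χ₂ ∧ χ₁ ≠ χ₃ ∧ χ₂ ≠ χ₃ ∧ (∀ j,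 χ' j ≠ χ₁ ∧ χ' j ≠ χ₂ ∧ χ' j ≠ χ₃ ∧ (χ' j : G → ℂ) ≠ (fun _ => 1)) ∧ Cfsg.principalBlock M G = {χ : Cfsg.IrrCharacter G | (χ : G → ℂ) = (fun _ => 1) ∨ χ = χ₁ ∨ χ = χ₂ ∨ χ = χ₃ ∨ ∃ j, χ = χ' j} ∧ (∀ l : ℕ, 0 < l → l < 2 ^ (n - 1) → (χ₁ : G → ℂ) (σ ^ l) = δ₁ ∧ (χ₂ : G → ℂ) (σ ^ l) = δ₂ * (-1) ^ (l + 1) ∧ (χ₃ : G → ℂ) (σ ^ l) = δ₃ * (-1) ^ (l + 1) ∧ ∀ j : Fin (2 ^ (n - 2) - 1), (χ' j : G → ℂ) (σ ^ l) = δ₁ * (ζ ^ (((j : ℕ) + 1) * l) + (ζ ^ (((j : ℕ) + 1) * l))⁻¹)) ∧ ∀ ρ : G, Odd (orderOf ρ) → ∀ j : Fin (2 ^ (n - 2) - 1), 1 + δ₁ * (χ₁ : G → ℂ) ρ = -δ₂ * (χ₂ : G → ℂ) ρ - δ₃ * (χ₃ : G → ℂ) ρ ∧ 1 + δ₁ * (χ₁ : G → ℂ) ρ = δ₁ * (χ' j : G → ℂ) ρ := by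
  classical
  letI := Fintype.ofFinite G
  haveI := CfsgLib.Blocks.isPrime_of_isPModular hM
  obtain ⟨e⟩ := hP
  obtain ⟨k, rfl⟩ : ∃ k, n = k + 3 := ⟨n - 3, by omega⟩
  rw [show k + 3 - 2 = k + 1 by omega]
  rw [show k + 3 - 1 = k + 2 by omega] at e hσo hζ ⊢
  obtain ⟨τ, D⟩ := CfsgLib.DihBlock.data_of_iso P (N := 2 ^ (k + 2)) (k := k + 1) (Nat.succ_pos k)
    (by rw [pow_succ']) e hσ hσo
  rw [show 2 ^ (k + 2) = 2 * 2 ^ (k + 1) from pow_succ' 2 (k + 1)] at hζ ⊢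
  set m := 2 ^ (k + 1) with hm
  obtain ⟨R⟩ := CfsgLib.DihBlock.exists_rotations D hM hζ
  have hne : ∀ χ : Cfsg.IrrCharacter G, χ ≠ CfsgLib.Blocks.trivIrr G → (χ : G → ℂ) ≠ fun _ => 1 :=
    fun χ h e => h (Subtype.ext e)
  have hj : ∀ j : Fin (m - 1), 0 < (j : ℕ) + 1 ∧ (j : ℕ) + 1 < m := fun j => ⟨Nat.succ_pos _, by
    have := j.2; omega⟩
  refine ⟨R.card_block D hM, R.a, R.c, R.e, fun j => R.b ((j : ℕ) + 1), R.δ, R.δc, R.δe, R.signδ, R.signc,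
    R.signe, fun i j h => Fin.ext (Nat.succ_injective (R.inj _ _ (hj i).1 (hj i).2 (hj j).1 (hj j).2 h)),
    hne _ R.ne_a, hne _ R.ne_c, hne _ R.ne_e, R.ne_ca.symm, R.ne_ea.symm, R.ne_ce,
    fun j => ⟨(R.ne_b _ (hj j).1 (hj j).2).2.1, (R.ne_b _ (hj j).1 (hj j).2).2.2.1,
      (R.ne_b _ (hj j).1 (hj j).2).2.2.2, hne _ (R.ne_b _ (hj j).1 (hj j).2).1⟩, ?_, ?_, ?_⟩
  · ext χ
    simp only [Set.mem_ofPred_eq]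
    constructor
    · intro h
      rcases R.cases D hM h with h' | h' | h' | h' | ⟨j, hj0, hjm, h'⟩
      · exact Or.inl (by rw [h']; rfl)
      · exact Or.inr (Or.inl h')
      · exact Or.inr (Or.inr (Or.inl h'))
      · exact Or.inr (Or.inr (Or.inr (Or.inl h')))
      · refine Or.inr (Or.inr (Or.inr (Or.inr ⟨⟨j - 1, by omega⟩, ?_⟩)))
        rw [h']; exact congrArg R.b (by simp only; omega)
    · rintro (h | rfl | rfl | rfl | ⟨j, rfl⟩)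
      · rw [show χ = CfsgLib.Blocks.trivIrr G from Subtype.ext h]
        exact CfsgLib.Blocks.mem_blockOf_self (CfsgLib.Blocks.trivIrr G)
      exacts [R.mem_a, R.mem_c, R.mem_e, R.mem_b _ (hj j).1 (hj j).2]
  · intro l hl hlm
    exact ⟨R.val_a l hl hlm, R.val_c l hl hlm, R.val_e l hl hlm, fun j => R.val_b _ (hj j).1 (hj j).2 l hl hlm⟩
  · intro ρ hρ j
    have hodd : ¬ 2 ∣ orderOf ρ := fun h => by obtain ⟨c, hc⟩ := hρ; omega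
    exact ⟨R.rel_ce ρ hodd, R.rel_b _ (hj j).1 (hj j).2 ρ hodd⟩

end Cfsg.Agent.S4481
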