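import Cfsg.Statements.S4484
import Cfsg.Agent.Lib.BlichfeldtArc.Cofactor
import Cfsg.Agent.Lib.Blocks.BrauerFeit

set_option autoImplicit false
open Cfsg

namespace Cfsg.Agent.S4484

/-- A refinement of Burnside's result on simple groups of order divisible by only two primes. Let G be a finite simple group of order p^a · q^b · g₀ with p, q distinct primes, a > 0, g₀ coprime to p and q, and the order of G different from p. Then g₀ − 1 > log p / log 6, that is 6^(g₀ − 1) > p. -/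
theorem result {G : Type*} [Group G] [Finite G] [IsSimpleGroup G] (p q a b g₀ : ℕ) (hp : p.Prime) (hq : q.Prime) (hpq : p ≠ q) (ha : 0 < a) (hg : Nat.card G = p ^ a * q ^ b * g₀) (hcop : ¬ p ∣ g₀) (hcoq : ¬ q ∣ g₀) (hne : Nat.card G ≠ p) : p < 6 ^ (g₀ - 1) := by
  letI : Fintype G := Fintype.ofFinite G
  by_contra hcon
  have hg0 : g₀ ≠ 0 := fun h => hcop (h ▸ dvd_zero p)
  haveI := Fact.mk hp
  have hpG : p ∣ Nat.card G := hg ▸ ((dvd_pow_self p ha.ne').mul_right _).mul_right _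
  have hnc : ¬ IsMulCommutative G := fun h => by
    letI : CommGroup G := { (inferInstance : Group G) with mul_comm := h.is_comm.comm }
    have hprime : (Nat.card G).Prime := IsSimpleGroup.prime_card
    exact hne ((Nat.prime_dvd_prime_iff_eq hp hprime).mp hpG).symm
  -- the element and the character
  obtain ⟨M, hM⟩ := CfsgLib.Blocks.exists_isPModular hp
  let P : Sylow p G := default
  haveI : Nontrivial P := by
    rw [← Finite.one_lt_card_iff_nontrivial]
    exact lt_of_lt_of_le hp.one_lt (Nat.le_of_dvd Nat.card_pos (P.dvd_card_of_dvd_card hpG))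
  haveI := P.isPGroup'.center_nontrivial
  obtain ⟨z, hz⟩ := exists_prime_orderOf_dvd_card' p
    (show p ∣ Nat.card (Subgroup.center P) from
      ((P.isPGroup'.to_subgroup _).nontrivial_iff_card.mp inferInstance).elim fun n hn =>
        hn.2 ▸ dvd_pow_self p hn.1.ne')
  set y : G := ((z : P) : G) with hydef
  have hy : orderOf y = p := by rw [hydef, Subgroup.orderOf_coe, Subgroup.orderOf_coe, hz]
  have hPC : (P : Subgroup G) ≤ Subgroup.centralizer ({y} : Set G) := fun w hw =>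
    Subgroup.mem_centralizer_singleton_iff.mpr
      (congrArg Subtype.val (Subgroup.mem_center_iff.mp z.2 ⟨w, hw⟩))
  have hidx : (Subgroup.centralizer ({y} : Set G)).index ∣ q ^ b * g₀ := by
    refine (Subgroup.index_dvd_of_le hPC).trans (dvd_of_eq ?_)
    have h := (P : Subgroup G).card_mul_index
    rw [hg, P.card_eq_multiplicity, hg, mul_assoc, Nat.factorization_mul (pow_ne_zero _ hp.ne_zero)
      (mul_ne_zero (pow_ne_zero _ hq.ne_zero) hg0), Finsupp.add_apply, Nat.factorization_pow_self hp,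
      Nat.factorization_eq_zero_of_not_dvd (n := q ^ b * g₀) (p := p) (fun h => (hp.dvd_mul.mp h).elim
        (fun h1 => hpq ((Nat.prime_dvd_prime_iff_eq hp hq).mp (hp.dvd_of_dvd_pow h1))) hcop),
      add_zero] at h
    exact Nat.eq_of_mul_eq_mul_left (pow_pos hp.pos a) h
  have hC : ¬ p ∣ (Subgroup.centralizer ({y} : Set G)).index := fun h =>
    (hp.dvd_mul.mp (h.trans hidx)).elim
      (fun h1 => hpq ((Nat.prime_dvd_prime_iff_eq hp hq).mp (hp.dvd_of_dvd_pow h1))) hcop
  obtain ⟨χ, hχ, hne1, hqn, -⟩ := CfsgLib.BlichfeldtArc.exists_char hM hy hq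
  obtain ⟨k, ρ, hρ, he⟩ := χ.2
  obtain ⟨bV, μ, hμ, hb⟩ := CfsgLib.Char.exists_eigenBasis ρ y
  rw [hy] at hμ
  have hcard := CfsgLib.BlichfeldtArc.support_small hM ρ he hχ hy hC hμ fun j => by
    rw [← he]
    exact CfsgLib.Char.trace_eq_sum_of_diag bV _ _ fun i => hb i j
  have hr : Nat.gcd (charDegree (χ : G → ℂ)) (Subgroup.centralizer ({y} : Set G)).index ∣ g₀ := by
    refine Nat.Coprime.dvd_of_dvd_mul_left ?_ ((Nat.gcd_dvd_right _ _).trans hidx)
    exact ((hq.coprime_iff_not_dvd.mpr fun h => hqn (h.trans (Nat.gcd_dvd_left _ _))).pow_left b).symm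
  obtain ⟨hn1, hn0⟩ := CfsgLib.Blocks.irr_degree_eq χ
  have hk : 0 < Module.finrank ℂ (Fin k → ℂ) := by
    rw [← he, Representation.char_one] at hn1
    have h : Module.finrank ℂ (Fin k → ℂ) = charDegree ρ.character := by exact_mod_cast hn1
    rw [h, he]
    exact hn0
  let i₀ : Fin (Module.finrank ℂ (Fin k → ℂ)) := ⟨0, hk⟩
  have hlt : 6 ^ ((Finset.univ.image μ).card - 1) < p := by
    have h1 : 6 ^ ((Finset.univ.image μ).card - 1) ≤ 6 ^ (g₀ - 1) :=
      Nat.pow_le_pow_right (by norm_num) (Nat.sub_le_sub_right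
        (hcard.trans (Nat.le_of_dvd (Nat.pos_of_ne_zero hg0) hr)) 1)
    refine lt_of_le_of_ne (h1.trans (not_lt.mp hcon)) fun heq => ?_
    rcases Nat.eq_zero_or_pos ((Finset.univ.image μ).card - 1) with h0 | h0
    · rw [h0, pow_zero] at heq
      exact hp.ne_one heq.symm
    · have h6 : 2 ∣ p ∧ 3 ∣ p := heq ▸ ⟨(by norm_num : 2 ∣ 6).trans (dvd_pow_self 6 h0.ne'),
        (by norm_num : 3 ∣ 6).trans (dvd_pow_self 6 h0.ne')⟩
      have h2 := (Nat.prime_dvd_prime_iff_eq Nat.prime_two hp).mp h6.1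
      have h3 := (Nat.prime_dvd_prime_iff_eq Nat.prime_three hp).mp h6.2
      omega
  obtain ⟨j, hj, hclose⟩ := CfsgLib.BlichfeldtArc.exists_close hp (S := Finset.univ.image μ)
    (fun a ha => by obtain ⟨i, -, rfl⟩ := Finset.mem_image.mp ha; exact hμ i)
    (Finset.mem_image_of_mem μ (Finset.mem_univ i₀)) hlt
  have hnorm : ∀ i, ‖μ i‖ = 1 := fun i => Complex.norm_eq_one_of_pow_eq_one (hμ i) hp.ne_zero
  have hμ0 : μ i₀ ^ j ≠ 0 := pow_ne_zero _ fun h => by simpa [h] using hnorm i₀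
  have hzj : y ^ j ≠ 1 := fun h => hj (hy ▸ orderOf_dvd_of_pow_eq_one h)
  have hall := CfsgLib.BlichfeldtArc.eigen_eq_one ρ bV hρ hzj (c := (μ i₀ ^ j)⁻¹)
    (μ := fun i => μ i ^ j) (fun i => hb i j) (fun i => by simp [norm_pow, hnorm])
    (fun i => hclose _ (Finset.mem_image_of_mem μ (Finset.mem_univ i))) (i₀ := i₀) (inv_mul_cancel₀ hμ0)
  have hscal : ρ (y ^ j) = (μ i₀ ^ j) • (1 : Module.End ℂ (Fin k → ℂ)) := bV.ext fun i => by
    rw [hb i j, LinearMap.smul_apply, Module.End.one_apply,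
      show μ i ^ j = μ i₀ ^ j from ((inv_mul_eq_one₀ hμ0).mp (hall i)).symm]
  have hcen : y ^ j ∈ Subgroup.center G := Subgroup.mem_center_iff.mpr fun x => by
    refine inv_mul_eq_one.mp (CfsgLib.BrauerReynolds.faithful_of_simple hne1 ?_)
    rw [← he]
    show LinearMap.trace ℂ _ (ρ ((x * y ^ j)⁻¹ * (y ^ j * x))) = LinearMap.trace ℂ _ (ρ 1)
    have h1 : ρ (x * y ^ j) = ρ (y ^ j * x) := by
      rw [map_mul, map_mul, hscal, mul_smul_comm, smul_mul_assoc, mul_one, one_mul]
    rw [map_mul, ← h1, ← map_mul, inv_mul_cancel]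
  rcases (inferInstance : (Subgroup.center G).Normal).eq_bot_or_eq_top with h0 | h0
  · exact hzj (Subgroup.mem_bot.mp (h0 ▸ hcen))
  · exact hnc ⟨⟨fun a c => Subgroup.mem_center_iff.mp (h0 ▸ Subgroup.mem_top c) a⟩⟩

end Cfsg.Agent.S4484
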