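import Cfsg.Statements.S4487
import Cfsg.Agent.Lib.Blocks.NormalPBlocks
import Cfsg.Agent.Lib.Blocks.Osima
import Cfsg.Agent.Lib.Fitting.Basic

set_option autoImplicit false
open Cfsg
open scoped CfsgLib.Char

namespace Cfsg.Agent.S4487

/-- Let G be a finite group and p a prime such that G has no non-trivial normal subgroup of order prime to p and C_G(O_p(G)) ≤ O_p(G). Then G has a single p-block: any two irreducible characters lie in the same block relative to every maximal ideal M of the algebraic integers containing p. -/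
theorem result {G : Type*} [Group G] [Finite G] (p : ℕ) [Fact p.Prime] (M : Ideal Cfsg.AlgInt) (hM : Cfsg.IsPModular p M) (hcore : Cfsg.pPrimeCore p G = ⊥) (hconstr : Subgroup.centralizer ((Cfsg.pCore p G) : Set G) ≤ Cfsg.pCore p G) (χ ψ : Cfsg.IrrCharacter G) : Cfsg.SameBlock M (χ : G → ℂ) (ψ : G → ℂ) := by
  classical
  have := Fintype.ofFinite G
  have := CfsgLib.Blocks.isPrime_of_isPModular hM
  have : (Cfsg.pCore p G).Normal := CfsgLib.Fitting.pCore_normal p
  have hQ : IsPGroup p (Cfsg.pCore p G) := CfsgLib.Fitting.pCore_isPGroup p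
  have hB : IsPBlock M (blockOf M (χ : G → ℂ)) := CfsgLib.Blocks.isPBlock_blockOf χ
  have hsupp : ∀ g : G, g ≠ 1 → blockCoeff (blockOf M (χ : G → ℂ)) g = 0 := by
    intro g hg
    by_cases hc : g ∈ Subgroup.centralizer ((Cfsg.pCore p G) : Set G)
    · refine CfsgLib.Blocks.blockCoeff_eq_zero_of_not_regular hM (CfsgLib.Blocks.IsPBlock.isBlockUnion hB) fun hreg => hg ?_
      obtain ⟨k, hk⟩ := hQ ⟨g, hconstr hc⟩
      have hdvd : orderOf g ∣ p ^ k := orderOf_dvd_of_pow_eq_one (congrArg Subtype.val hk)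
      obtain ⟨j, -, hj⟩ := (Nat.dvd_prime_pow hM.1).mp hdvd
      rcases j.eq_zero_or_pos with rfl | hpos
      · exact orderOf_eq_one_iff.mp (by simpa using hj)
      · exact absurd (hj ▸ dvd_pow_self p hpos.ne') hreg
    · exact CfsgLib.Blocks.blockCoeff_eq_zero_of_not_centralizing hM _ hQ hB hc
  have hval : ∀ θ : IrrCharacter G,
      CfsgLib.Blocks.indVec (blockOf M (χ : G → ℂ)) θ = blockCoeff (blockOf M (χ : G → ℂ)) 1 := by
    intro θ
    rw [← CfsgLib.Blocks.omega_blockCoeff, CfsgLib.Blocks.omega,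
      Finset.sum_eq_single 1 (fun g _ hg => by rw [hsupp g hg, zero_mul])
        (fun h => absurd (Finset.mem_univ _) h),
      mul_div_assoc, div_self (CfsgLib.Char.irr_degree_ne_zero θ.2), mul_one]
  have hψ : ψ ∈ blockOf M (χ : G → ℂ) := by
    by_contra h
    have e := hval ψ
    rw [← hval χ, CfsgLib.Blocks.indVec_of_notMem h,
      CfsgLib.Blocks.indVec_of_mem (CfsgLib.Blocks.mem_blockOf_self χ)] at e
    exact zero_ne_one e
  exact CfsgLib.Blocks.IsPBlock.sameBlock hB (CfsgLib.Blocks.mem_blockOf_self χ) hψ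

end Cfsg.Agent.S4487
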