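import Cfsg.Statements.S4488
import Cfsg.Agent.Lib.Char.Galois
import Cfsg.Agent.Lib.Char.Eigen
import Cfsg.Agent.Lib.Blocks.LocalRing
import Cfsg.Agent.Lib.Blocks.BrauerFeit
import Cfsg.Agent.Lib.Char.Orth

set_option autoImplicit false
open Cfsg

namespace Cfsg.Agent.S4488

open CfsgLib CfsgLib.Char CfsgLib.Blocks Polynomial
open scoped CfsgLib.Char ComplexConjugate

/-- An embedding fixing the roots of unity of order `r` and raising those of order `P` to the `s`-th power. -/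
theorem exists_embedding {P r s : ℕ} (hP : 0 < P) (hr : 0 < r) (hPr : P.Coprime r) (hs : s.Coprime P) :
    ∃ ψ : QBar →ₐ[ℚ] ℂ, (∀ z : QBar, (z : ℂ) ^ r = 1 → ψ z = z) ∧ (∀ z : QBar, (z : ℂ) ^ P = 1 → ψ z = (z : ℂ) ^ s) := by
  obtain ⟨k, hk1, hk2⟩ := Nat.chineseRemainder hPr s 1
  have hkc : k.Coprime (P * r) := by
    refine Nat.Coprime.mul_right ?_ ?_
    · rw [Nat.Coprime, hk1.gcd_eq]; exact hs
    · rw [Nat.Coprime, hk2.gcd_eq, Nat.gcd_one_left]
  set N := P * r with hN
  have hN0 : 0 < N := Nat.mul_pos hP hr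
  obtain ⟨ζ, hζ⟩ := exists_primitiveRoot_qbar N hN0.ne'
  have hmem : (ζ : ℂ) ^ k ∈ (minpoly ℚ ζ).rootSet ℂ := by
    have hmin : minpoly ℚ ζ = minpoly ℚ (ζ : ℂ) :=
      (minpoly.algebraMap_eq (algebraMap QBar ℂ).injective ζ).symm
    rw [hmin, Polynomial.mem_rootSet]
    refine ⟨minpoly.ne_zero ((hζ.isIntegral hN0).tower_top), ?_⟩
    have h1 := Polynomial.cyclotomic_eq_minpoly_rat hζ hN0
    haveI : NeZero ((N : ℕ) : ℂ) := ⟨Nat.cast_ne_zero.mpr hN0.ne'⟩
    have h2 := (Polynomial.isRoot_cyclotomic_iff).mpr (hζ.pow_of_coprime k hkc)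
    rw [← h1, Polynomial.aeval_def, ← Polynomial.eval_map, Polynomial.map_cyclotomic]
    exact h2
  rw [← Algebra.IsAlgebraic.range_eval_eq_rootSet_minpoly] at hmem
  obtain ⟨ψ, hψ⟩ := hmem
  haveI : NeZero N := ⟨hN0.ne'⟩
  have key : ∀ z : QBar, (z : ℂ) ^ N = 1 → ψ z = (z : ℂ) ^ k := fun z hz => by
    obtain ⟨i, -, hi⟩ := hζ.eq_pow_of_pow_eq_one hz
    have : z = ζ ^ i := Subtype.ext (by push_cast; exact hi.symm)
    rw [this, map_pow]
    push_cast
    rw [show ψ ζ = (ζ : ℂ) ^ k from hψ, ← pow_mul, ← pow_mul, mul_comm]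
  refine ⟨ψ, fun z hz => ?_, fun z hz => ?_⟩
  · rw [key z (by rw [hN, mul_comm, pow_mul, hz, one_pow]), ← pow_mod_orderOf,
      show k % orderOf (z : ℂ) = 1 % orderOf (z : ℂ) from (hk2.of_dvd (orderOf_dvd_of_pow_eq_one hz)), pow_mod_orderOf, pow_one]
  · rw [key z (by rw [hN, pow_mul, hz, one_pow]), ← pow_mod_orderOf,
      show k % orderOf (z : ℂ) = s % orderOf (z : ℂ) from (hk1.of_dvd (orderOf_dvd_of_pow_eq_one hz)), pow_mod_orderOf]

open Classical in
/-- The Ramanujan sum at a root of unity. -/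
theorem sum_coprime_pow {p K : ℕ} (hp : p.Prime) {μ : ℂ} (hμ : μ ^ p ^ (K + 1) = 1) :
    ∑ s ∈ (Finset.range (p ^ (K + 1))).filter (fun s => ¬ p ∣ s), μ ^ s =
      (if μ = 1 then (p : ℂ) ^ (K + 1) else 0) - (if μ ^ p = 1 then (p : ℂ) ^ K else 0) := by
  classical
  have hgeom : ∀ (N : ℕ) (x : ℂ), x ^ N = 1 → ∑ s ∈ Finset.range N, x ^ s = if x = 1 then (N : ℂ) else 0 := by
    intro N x hx
    split_ifs with h
    · simp [h]
    · rw [geom_sum_eq h, hx, sub_self, zero_div]
  have h1 := Finset.sum_filter_add_sum_filter_not (Finset.range (p ^ (K + 1))) (fun s => p ∣ s) (fun s => μ ^ s)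
  have h2 : ∑ s ∈ (Finset.range (p ^ (K + 1))).filter (fun s => p ∣ s), μ ^ s = ∑ t ∈ Finset.range (p ^ K), (μ ^ p) ^ t := by
    refine Finset.sum_bij' (fun s _ => s / p) (fun t _ => p * t) ?_ ?_ ?_ ?_ ?_
    · intro s hs
      rw [Finset.mem_filter, Finset.mem_range] at hs
      rw [Finset.mem_range, Nat.div_lt_iff_lt_mul hp.pos, ← pow_succ]
      exact hs.1
    · intro t ht
      rw [Finset.mem_range] at ht
      rw [Finset.mem_filter, Finset.mem_range, pow_succ']
      exact ⟨Nat.mul_lt_mul_of_pos_left ht hp.pos, dvd_mul_right p t⟩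
    · intro s hs
      exact Nat.mul_div_cancel' (Finset.mem_filter.mp hs).2
    · intro t _
      exact Nat.mul_div_cancel_left t hp.pos
    · intro s hs
      rw [← pow_mul, Nat.mul_div_cancel' (Finset.mem_filter.mp hs).2]
  rw [h2, hgeom _ μ hμ, hgeom _ (μ ^ p) (by rw [← pow_mul, ← pow_succ', hμ]), Nat.cast_pow, Nat.cast_pow] at h1
  linear_combination h1

/-- Values of a faithful `p`-rational character at non-trivial `p`-elements. -/
theorem value_eq {G : Type*} [Group G] [Finite G] {p : ℕ} [Fact p.Prime] {n : ℕ}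
    (ρ : Representation ℂ G (Fin n → ℂ)) {r : ℕ} (hr : 0 < r) (hpr : ¬ p ∣ r) {x : G}
    (hval : ρ.character x ∈ IntermediateField.adjoin ℚ ({Complex.exp (2 * Real.pi * Complex.I / r)} : Set ℂ))
    {K : ℕ} (hK : orderOf x = p ^ (K + 1)) (hne : ρ.character x ≠ n) :
    ∃ i ∈ Finset.Icc 1 (n / (p - 1)), ρ.character x = (n : ℂ) - (p * i : ℕ) := by
  classical
  have hp := (Fact.out : p.Prime)
  obtain ⟨μ, hμ1, hμ2⟩ := character_pow_eq_sum ρ x
  have hx1 : ρ.character x = ∑ i, μ i := by simpa using hμ2 1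
  have hint : ∀ i, IsIntegral ℤ (μ i) := fun i => IsIntegral.of_pow (orderOf_pos x) (hμ1 i ▸ isIntegral_one)
  have hPr : (p ^ (K + 1)).Coprime r := Nat.Coprime.pow_left _ (hp.coprime_iff_not_dvd.mpr hpr)
  -- invariance
  have hinv : ∀ s : ℕ, ¬ p ∣ s → ρ.character x = ∑ i, μ i ^ s := by
    intro s hs
    obtain ⟨ψ, hψ1, hψ2⟩ := exists_embedding (pow_pos hp.pos (K + 1)) hr hPr
      (Nat.Coprime.pow_right _ (hp.coprime_iff_not_dvd.mpr hs).symm)
    set ζr := Complex.exp (2 * Real.pi * Complex.I / r) with hζr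
    have hζrr : ζr ^ r = 1 := (Complex.isPrimitiveRoot_exp r hr.ne').pow_eq_one
    have hζrQ : ζr ∈ QBar := mem_qbar_of_isIntegral (IsIntegral.of_pow hr (hζrr ▸ isIntegral_one))
    have hle : IntermediateField.adjoin ℚ ({ζr} : Set ℂ) ≤ QBar := IntermediateField.adjoin_simple_le_iff.mpr hζrQ
    have heq : ψ.comp (IntermediateField.inclusion hle) = (IntermediateField.adjoin ℚ ({ζr} : Set ℂ)).val := by
      refine IntermediateField.adjoin_algHom_ext ℚ fun z hz => ?_
      rw [Set.mem_singleton_iff] at hz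
      subst hz
      exact hψ1 _ hζrr
    let z : Fin (Module.finrank ℂ (Fin n → ℂ)) → QBar := fun i => ⟨μ i, mem_qbar_of_isIntegral (hint i)⟩
    have h1 : ψ (∑ i, z i) = ρ.character x := by
      have e : (∑ i, z i) = IntermediateField.inclusion hle ⟨ρ.character x, hval⟩ := by
        apply Subtype.ext
        push_cast
        exact hx1.symm
      rw [e]
      exact DFunLike.congr_fun heq ⟨ρ.character x, hval⟩
    rw [map_sum] at h1
    rw [← h1]
    refine Finset.sum_congr rfl fun i _ => ?_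
    exact hψ2 _ (by rw [← hK]; exact hμ1 i)
  -- the average
  have hcount : ((p : ℂ) ^ K * ((p : ℂ) - 1)) * ρ.character x =
      (p : ℂ) ^ (K + 1) * ((Finset.univ.filter fun i => μ i = 1).card : ℂ) -
        (p : ℂ) ^ K * ((Finset.univ.filter fun i => μ i ^ p = 1).card : ℂ) := by
    set U := (Finset.range (p ^ (K + 1))).filter (fun s => ¬ p ∣ s)
    have hU : (U.card : ℂ) = (p : ℂ) ^ K * ((p : ℂ) - 1) := by
      have h := sum_coprime_pow hp (K := K) (μ := 1) (one_pow _)
      rw [if_pos rfl, if_pos (one_pow p)] at h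
      simp only [one_pow, Finset.sum_const, nsmul_eq_mul, mul_one] at h
      rw [h]; ring
    calc ((p : ℂ) ^ K * ((p : ℂ) - 1)) * ρ.character x = ∑ s ∈ U, ρ.character x := by
          rw [Finset.sum_const, nsmul_eq_mul, hU]
      _ = ∑ s ∈ U, ∑ i, μ i ^ s := Finset.sum_congr rfl fun s hs => hinv s (Finset.mem_filter.mp hs).2
      _ = ∑ i, ∑ s ∈ U, μ i ^ s := Finset.sum_comm
      _ = ∑ i, ((if μ i = 1 then (p : ℂ) ^ (K + 1) else 0) - (if μ i ^ p = 1 then (p : ℂ) ^ K else 0)) :=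
          Finset.sum_congr rfl fun i _ => sum_coprime_pow hp (by rw [← hK]; exact hμ1 i)
      _ = _ := by
          rw [Finset.sum_sub_distrib, ← Finset.sum_filter, ← Finset.sum_filter, Finset.sum_const, Finset.sum_const,
            nsmul_eq_mul, nsmul_eq_mul]
          ring
  set N1 := (Finset.univ.filter fun i => μ i = 1).card
  set Np := (Finset.univ.filter fun i => μ i ^ p = 1).card
  have hle1 : N1 ≤ Np := Finset.card_le_card fun i hi => by
    rw [Finset.mem_filter] at hi ⊢; exact ⟨hi.1, by rw [hi.2, one_pow]⟩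
  have hle2 : Np ≤ n := by
    refine (Finset.card_filter_le _ _).trans ?_
    simp
  have hval' : ((p : ℂ) - 1) * ρ.character x = (p : ℂ) * N1 - Np := by
    refine mul_left_cancel₀ (pow_ne_zero K (Nat.cast_ne_zero.mpr hp.ne_zero : (p : ℂ) ≠ 0)) ?_
    linear_combination hcount
  -- integrality
  have hp1 : ((p : ℂ) - 1) ≠ 0 := sub_ne_zero.mpr (by exact_mod_cast hp.one_lt.ne')
  obtain ⟨c, hc⟩ : ∃ c : ℤ, ρ.character x = (c : ℂ) := by
    have hq : ρ.character x = algebraMap ℚ ℂ (((p : ℚ) * N1 - Np) / ((p : ℚ) - 1)) := by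
      rw [map_div₀, eq_div_iff (by simpa using hp1), mul_comm]
      simpa using hval'
    have hi : IsIntegral ℤ (ρ.character x) := by rw [hx1]; exact IsIntegral.sum _ fun i _ => hint i
    rw [hq, isIntegral_algebraMap_iff (algebraMap ℚ ℂ).injective] at hi
    obtain ⟨c, hc⟩ := IsIntegrallyClosed.isIntegral_iff.mp hi
    exact ⟨c, by rw [hq, ← hc]; simp⟩
  rw [hc] at hval' hne
  have hvalZ : ((p : ℤ) - 1) * c = (p : ℤ) * N1 - Np := by exact_mod_cast hval'
  -- congruence
  obtain ⟨M, hM⟩ := exists_isPModular (p := p) hp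
  haveI := isPrime_of_isPModular hM
  have hcong : (p : ℤ) ∣ (n : ℤ) - c := by
    have h : MemLocalIdeal M ((c : ℂ) - (n : ℂ)) := by
      have e : (c : ℂ) - (n : ℂ) = ∑ i : Fin (Module.finrank ℂ (Fin n → ℂ)), (μ i - 1) := by
        rw [Finset.sum_sub_distrib, ← hx1, hc]
        simp
      rw [e]
      exact memLocalIdeal_sum _ _ fun i _ => memLocalIdeal_root_sub_one hM (k := K + 1) (by rw [← hK]; exact hμ1 i)
    have h' : MemLocalIdeal M (((( n : ℤ) - c).natAbs : ℕ) : ℂ) := by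
      rcases Int.natAbs_eq ((n : ℤ) - c) with e | e
      · have e' : ((((n : ℤ) - c).natAbs : ℕ) : ℂ) = -((c : ℂ) - (n : ℂ)) := by
          rw [neg_sub, ← Int.cast_natCast, ← e]; push_cast; ring
        rw [e']; exact memLocalIdeal_neg h
      · have e' : ((((n : ℤ) - c).natAbs : ℕ) : ℂ) = (c : ℂ) - (n : ℂ) := by
          rw [← Int.cast_natCast, show ((((n : ℤ) - c).natAbs : ℕ) : ℤ) = -((n : ℤ) - c) by omega]; push_cast; ring
        rw [e']; exact h
    exact Int.natCast_dvd.mpr ((memLocalIdeal_natCast_iff hM).mp h')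
  obtain ⟨i, hi⟩ := hcong
  have hp2 : (2 : ℤ) ≤ p := by exact_mod_cast hp.two_le
  have hN1n : (N1 : ℤ) ≤ Np := by exact_mod_cast hle1
  have hNpn : (Np : ℤ) ≤ n := by exact_mod_cast hle2
  have hcn : c ≤ n := by
    have : ((p : ℤ) - 1) * c ≤ ((p : ℤ) - 1) * n := by rw [hvalZ]; nlinarith
    exact le_of_mul_le_mul_left this (by linarith)
  have hcn' : c ≠ n := fun h => hne (by rw [h]; simp)
  have hipos : 0 < i := by
    have : 0 < (p : ℤ) * i := by omega
    exact pos_of_mul_pos_right this (by linarith)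
  have hib : ((p : ℤ) - 1) * i ≤ n := by
    have h1 : (p : ℤ) * (((p : ℤ) - 1) * i) ≤ (p : ℤ) * n := by
      calc (p : ℤ) * (((p : ℤ) - 1) * i) = ((p : ℤ) - 1) * n - ((p : ℤ) - 1) * c := by rw [← mul_sub, hi]; ring
        _ = ((p : ℤ) - 1) * n - ((p : ℤ) * N1 - Np) := by rw [hvalZ]
        _ ≤ _ := by nlinarith
    exact le_of_mul_le_mul_left h1 (by linarith)
  lift i to ℕ using hipos.le
  refine ⟨i, Finset.mem_Icc.mpr ⟨by omega, (Nat.le_div_iff_mul_le (by omega)).mpr ?_⟩, ?_⟩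
  · have : (((p - 1 : ℕ) : ℤ)) * i ≤ n := by rwa [Nat.cast_sub hp.one_le, Nat.cast_one]
    rw [mul_comm]; exact_mod_cast this
  · rw [hc]
    have : (c : ℂ) = (n : ℂ) - ((p : ℂ) * i) := by
      have : c = (n : ℤ) - (p : ℤ) * i := by linarith
      rw [this]; push_cast; ring
    rw [this]; push_cast; ring

/-- Let the finite group G have a faithful p-rational character χ of degree n (all values of χ lie in the field generated over ℚ by a root of unity of order prime to p), and let p^a be the order of a Sylow p-subgroup of G. Then a ≤ Σ_{i ≥ 0} ⌊n / ((p − 1)·p^i)⌋ (a finite sum; the terms vanish once (p − 1)p^i > n). -/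
theorem result {G : Type*} [Group G] [Finite G] (p : ℕ) (hp : p.Prime) (χ : G → ℂ) (hχ : Cfsg.IsCharacter G χ) (hfaith : ∀ g : G, χ g = χ 1 → g = 1) (hrat : (∃ r : ℕ, 0 < r ∧ ¬ p ∣ r ∧ ∀ g : G, χ g ∈ IntermediateField.adjoin ℚ ({Complex.exp (2 * Real.pi * Complex.I / r)} : Set ℂ))) (n : ℕ) (hn : Cfsg.charDegree χ = n) : (Nat.card G).factorization p ≤ ∑ i ∈ Finset.range (n + 1), n / ((p - 1) * p ^ i) := by
  classical
  haveI := Fact.mk hp
  obtain ⟨r, hr0, hr, hval⟩ := hrat
  obtain ⟨m', ρ, rfl⟩ := hχ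
  have hmn : m' = n := by
    rw [← hn, Cfsg.charDegree, Representation.char_one, Module.finrank_fin_fun, Complex.natCast_re, Nat.floor_natCast]
  subst hmn
  obtain ⟨P⟩ : Nonempty (Sylow p G) := inferInstance
  haveI := Fintype.ofFinite (P : Subgroup G)
  set m := m' / (p - 1) with hm
  set F : Polynomial ℤ := ∏ i ∈ Finset.Icc 1 m, (Polynomial.X - Polynomial.C ((m' : ℤ) - (p * i : ℕ))) with hF
  let ev : ↥(P : Subgroup G) → ℂ := fun x => Polynomial.aeval (ρ.character (x : G)) F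
  have hev : ∀ x, ev x = ∏ i ∈ Finset.Icc 1 m, (ρ.character (x : G) - ((m' : ℂ) - (p * i : ℕ))) := fun x => by
    simp [ev, hF, map_prod]
  have hzero : ∀ x : (P : Subgroup G), x ≠ 1 → ev x = 0 := by
    intro x hx
    obtain ⟨k, hk⟩ := IsPGroup.iff_orderOf.mp P.2 x
    rw [← Subgroup.orderOf_coe] at hk
    rcases k with _ | K
    · exact absurd (Subtype.ext (orderOf_eq_one_iff.mp (by simpa using hk)) : x = 1) hx
    obtain ⟨i, hi, hiv⟩ := value_eq ρ hr0 hr (hval (x : G)) hk (fun h => hx (Subtype.ext (hfaith _ (by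
      rw [h, Representation.char_one, Module.finrank_fin_fun]))))
    rw [hev]
    exact Finset.prod_eq_zero hi (by rw [hiv, sub_self])
  have hone : ev 1 = ((p ^ m * m.factorial : ℕ) : ℂ) := by
    rw [hev]
    calc (∏ i ∈ Finset.Icc 1 m, (ρ.character ((1 : (P : Subgroup G)) : G) - ((m' : ℂ) - (p * i : ℕ)))) =
        ∏ i ∈ Finset.Icc 1 m, ((p * i : ℕ) : ℂ) := Finset.prod_congr rfl fun i _ => by
          rw [OneMemClass.coe_one, Representation.char_one, Module.finrank_fin_fun]; ring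
      _ = _ := by
          rw [← Nat.cast_prod, Finset.prod_mul_distrib, Finset.prod_const, Nat.card_Icc, Nat.add_sub_cancel]
          congr 2
          exact Finset.prod_Ico_id_eq_factorial m
  have hpow : ∀ e : ℕ, ∃ N : ℕ, ∑ x : (P : Subgroup G), ρ.character (x : G) ^ e = (Nat.card (P : Subgroup G) : ℂ) * N := by
    intro e
    have hc : ∀ e : ℕ, Cfsg.IsCharacter (P : Subgroup G) (fun x => ρ.character (x : G) ^ e) := by
      intro e
      induction e with
      | zero => simpa using (isCharacter_one : Cfsg.IsCharacter (P : Subgroup G) _)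
      | succ e ih =>
        have := isCharacter_mul ih (isCharacter_restrict (P : Subgroup G) ⟨m', ρ, rfl⟩)
        simpa [pow_succ, Pi.mul_def] using this
    obtain ⟨N, hN⟩ := exists_nat_classInner (hc e) (isCharacter_one : Cfsg.IsCharacter (P : Subgroup G) _)
    refine ⟨N, ?_⟩
    simp only [Cfsg.classInner, map_one, mul_one] at hN
    rw [← hN, mul_inv_cancel_left₀ (Nat.cast_ne_zero.mpr Nat.card_pos.ne')]
  choose Ne hNe using hpow
  have hdvd : (Nat.card (P : Subgroup G) : ℤ) ∣ ((p ^ m * m.factorial : ℕ) : ℤ) := by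
    refine ⟨∑ e ∈ Finset.range (F.natDegree + 1), F.coeff e * (Ne e : ℤ), ?_⟩
    apply Int.cast_injective (α := ℂ)
    push_cast
    have h1 : ev 1 = ∑ x, ev x := (Finset.sum_eq_single 1 (fun x _ hx => hzero x hx) (by simp)).symm
    rw [hone] at h1
    push_cast at h1
    rw [h1]
    simp only [ev, Polynomial.aeval_eq_sum_range, zsmul_eq_mul]
    rw [Finset.sum_comm, Finset.mul_sum]
    refine Finset.sum_congr rfl fun e _ => ?_
    rw [← Finset.mul_sum, hNe]
    ring
  rw [P.card_eq_multiplicity, Int.natCast_dvd_natCast] at hdvd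
  have ha := (hp.pow_dvd_iff_le_factorization (Nat.mul_ne_zero (pow_ne_zero _ hp.ne_zero) (Nat.factorial_ne_zero m))).mp hdvd
  rw [Nat.factorization_mul (pow_ne_zero _ hp.ne_zero) (Nat.factorial_ne_zero m), Finsupp.add_apply, Nat.factorization_pow,
    Finsupp.smul_apply, hp.factorization_self, smul_eq_mul, mul_one] at ha
  refine ha.trans (le_of_eq ?_)
  have hlog : Nat.log p m < m' + 1 := Nat.lt_succ_of_le ((Nat.log_le_self p m).trans (Nat.div_le_self _ _))
  rw [Nat.factorization_factorial hp hlog, Finset.range_eq_Ico, Finset.sum_eq_sum_Ico_succ_bot (Nat.succ_pos m')]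
  simp [hm, Nat.div_div_eq_div_mul]
end Cfsg.Agent.S4488
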