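import Cfsg.Statements.S4489
import Cfsg.Agent.Lib.Char.Monomial
import Cfsg.Agent.Lib.Char.Galois
import Cfsg.Agent.Lib.Char.Kernel
import Cfsg.Agent.Lib.Char.Twist
import Cfsg.Agent.Lib.Char.Clifford
import Cfsg.Agent.Lib.Blocks.Inflate
import Cfsg.Agent.Lib.Blocks.CentralChar

set_option autoImplicit false
set_option linter.style.haveILetI false
open Cfsg
open CfsgLib
open scoped CfsgLib.Char ComplexConjugate

namespace Cfsg.Agent.S4489

universe u

/-- The set of twists of a function by the powers prime to `p`. -/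
def twists {P : Type*} [Monoid P] (p : ℕ) (χ : P → ℂ) : Set (P → ℂ) :=
  {f | ∃ k : ℕ, k.Coprime p ∧ f = fun g => χ (g ^ k)}

variable {p : ℕ}

theorem coprime_card {P : Type*} [Group P] {a : ℕ} (hP : Nat.card P = p ^ a) {k : ℕ}
    (hk : k.Coprime p) : k.Coprime (Nat.card P) := hP ▸ hk.pow_right a

theorem twists_finite {P : Type*} [Group P] [Finite P] {a : ℕ} (hP : Nat.card P = p ^ a)
    {χ : P → ℂ} (hχ : IsIrrCharacter P χ) : (twists p χ).Finite := by
  have : Finite (IrrCharacter P) := Char.finite_irrCharacter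
  refine (Set.finite_range (fun ψ : IrrCharacter P => (ψ : P → ℂ))).subset ?_
  rintro f ⟨k, hk, rfl⟩
  exact ⟨⟨_, Char.isIrrCharacter_pow (coprime_card hP hk) hχ⟩, rfl⟩

theorem exists_inv {P : Type*} [Group P] [Finite P] {a : ℕ} (hP : Nat.card P = p ^ a)
    (hp : p.Prime) {k : ℕ} (hk : k.Coprime p) :
    ∃ j : ℕ, j.Coprime p ∧ ∀ g : P, (g ^ k) ^ j = g := by
  rcases Nat.eq_zero_or_pos a with rfl | ha
  · refine ⟨1, Nat.coprime_one_left p, fun g => ?_⟩
    have : Subsingleton P := (Nat.card_eq_one_iff_unique.mp (by rw [hP, pow_zero])).1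
    exact Subsingleton.elim _ _
  · obtain ⟨j, -, hj⟩ := Nat.exists_mul_mod_eq_one_of_coprime (hk.pow_right a)
      (Nat.one_lt_pow ha.ne' hp.one_lt)
    refine ⟨j, ?_, fun g => ?_⟩
    · rw [Nat.coprime_comm, hp.coprime_iff_not_dvd]
      intro h
      have h1 : p ∣ k * j % p ^ a :=
        (Nat.dvd_mod_iff (dvd_pow_self p ha.ne')).mpr (dvd_mul_of_dvd_right h k)
      rw [hj] at h1
      exact hp.not_dvd_one h1
    · rw [← pow_mul, ← pow_mod_natCard, hP, hj, pow_one]

/-- The bound, by induction on the exponent. -/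
theorem bound (hp : p.Prime) : ∀ (a : ℕ) (P : Type u) [Group P] [Finite P],
    Nat.card P = p ^ a → ∀ χ : P → ℂ, IsIrrCharacter P χ → (∀ g, χ g = χ 1 → g = 1) →
    ∀ f : ℕ, χ 1 = f → ∀ t : ℕ, Nat.card (twists p χ) ≤ (p - 1) * p ^ t →
    (p - 1) * a + 1 ≤ f + (p - 1) * (t + 1) * f := by
  classical
  intro a
  induction a using Nat.strong_induction_on with
  | _ a ih => ?_
  intro P _ _ hP χ hχ hfaith f hf t ht
  have : Fintype P := Fintype.ofFinite P
  have : Fact p.Prime := ⟨hp⟩
  have hPp : IsPGroup p P := IsPGroup.of_card hP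
  have : Group.IsNilpotent P := hPp.isNilpotent
  have hf1 : 1 ≤ f := Nat.pos_of_ne_zero fun h => Char.irr_degree_ne_zero hχ (by
    rw [hf, h, Nat.cast_zero])
  rcases Nat.eq_zero_or_pos a with rfl | ha
  · rw [mul_zero]; omega
  have hfin := twists_finite hP hχ
  have hpp : 1 ≤ p - 1 := by have := hp.two_le; omega
  by_cases hlin : f = 1
  · -- linear characters
    subst hlin
    rw [Nat.cast_one] at hf
    have hc := Char.isCharacter_of_isIrr hχ
    set lam := Char.linearHom hc hf with hlam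
    have hinj : Function.Injective lam := by
      refine (injective_iff_map_eq_one lam).mpr fun g hg => hfaith g ?_
      rw [hf, ← Char.linearHom_apply hc hf g, ← hlam, hg, Units.val_one]
    have : IsCyclic P := isCyclic_of_injective_ringHom ((Units.coeHom ℂ).comp lam)
      (Units.val_injective.comp hinj)
    obtain ⟨g, hg⟩ := IsCyclic.exists_ofOrder_eq_natCard (α := P)
    have : NeZero (p ^ a) := ⟨pow_ne_zero a hp.ne_zero⟩
    have : Finite (twists p χ) := hfin.to_subtype
    have h1 : Nat.card (ZMod (p ^ a))ˣ ≤ Nat.card (twists p χ) := by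
      refine Nat.card_le_card_of_injective (fun u => ⟨fun h => χ (h ^ (u : ZMod (p ^ a)).val),
        _, ((Nat.coprime_pow_right_iff ha _ _).mp (ZMod.val_coe_unit_coprime u)), rfl⟩) ?_
      intro u v huv
      have h2 := congrFun (congrArg Subtype.val huv) g
      simp only [← Char.linearHom_apply hc hf, ← hlam] at h2
      have h3 : g ^ (u : ZMod (p ^ a)).val = g ^ (v : ZMod (p ^ a)).val := hinj (Units.ext h2)
      have h4 : (u : ZMod (p ^ a)).val = (v : ZMod (p ^ a)).val := by
        have hlt : ∀ w : ZMod (p ^ a), w.val < orderOf g := fun w => by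
          rw [hg, hP]; exact ZMod.val_lt w
        exact pow_injOn_Iio_orderOf (hlt _) (hlt _) h3
      exact Units.ext (ZMod.val_injective _ h4)
    rw [Nat.card_eq_fintype_card, ZMod.card_units_eq_totient, Nat.totient_prime_pow hp ha,
      mul_comm] at h1
    have h5 := Nat.le_of_mul_le_mul_left (h1.trans ht) hpp
    have h6 := (Nat.pow_le_pow_iff_right hp.one_lt).mp h5
    have h7 : (p - 1) * a ≤ (p - 1) * (t + 1) := Nat.mul_le_mul_left _ (by omega)
    omega
  -- the maximal subgroup containing a monomial one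
  obtain ⟨H, lam, hHlam⟩ := Char.monomial hχ
  have hH : H ≠ ⊤ := by
    intro h
    subst h
    rw [hHlam, Char.indFun_one, Subgroup.index_top, Nat.cast_one, one_mul, map_one,
      Units.val_one] at hf
    exact hlin (by exact_mod_cast hf.symm)
  obtain ⟨A, hAco, hHA⟩ := (eq_top_or_exists_le_coatom H).resolve_left hH
  have hAn : A.Normal := Subgroup.NormalizerCondition.normal_of_coatom A Group.normalizerCondition_of_isNilpotent hAco
  have : Nontrivial (P ⧸ A) := QuotientGroup.nontrivial_iff.mpr hAco.1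
  obtain ⟨j, hj0, hj⟩ := (IsPGroup.nontrivial_iff_card (hPp.to_quotient A)).mp this
  obtain ⟨q, hq⟩ := exists_prime_orderOf_dvd_card' (G := P ⧸ A) p (hj ▸ dvd_pow_self p hj0.ne')
  have hgen : ∀ x : P, x ∉ A → ∀ h : P, ∃ i : ℕ, ∃ y ∈ A, h = y * x ^ i := by
    intro x hx h
    have htop : (Subgroup.zpowers (QuotientGroup.mk' A x)).comap (QuotientGroup.mk' A) = ⊤ := by
      refine hAco.2 _ (lt_of_le_of_ne (fun y hy => ?_) fun he => hx ?_)
      · show QuotientGroup.mk' A y ∈ Subgroup.zpowers _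
        rw [show QuotientGroup.mk' A y = 1 from (QuotientGroup.eq_one_iff y).mpr hy]
        exact one_mem _
      · rw [he]; exact Subgroup.mem_zpowers _
    have hh : QuotientGroup.mk' A h ∈ Subgroup.zpowers (QuotientGroup.mk' A x) :=
      (htop ▸ Subgroup.mem_top h :
        h ∈ (Subgroup.zpowers (QuotientGroup.mk' A x)).comap (QuotientGroup.mk' A))
    obtain ⟨i, hi⟩ := mem_powers_iff_mem_zpowers.mpr hh
    refine ⟨i, h * (x ^ i)⁻¹, (QuotientGroup.eq_one_iff _).mp ?_, by rw [inv_mul_cancel_right]⟩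
    show QuotientGroup.mk' A (h * (x ^ i)⁻¹) = 1
    rw [map_mul, map_inv, map_pow, mul_inv_eq_one]
    exact hi.symm
  have hidx : A.index = p := by
    obtain ⟨x, rfl⟩ := QuotientGroup.mk'_surjective A q
    have hx : x ∉ A := fun h => hp.ne_one (by
      rw [← hq, show QuotientGroup.mk' A x = 1 from (QuotientGroup.eq_one_iff x).mpr h, orderOf_one])
    rw [Subgroup.index_eq_card, ← hq, eq_comm]
    refine orderOf_eq_card_of_forall_mem_zpowers fun y => ?_
    obtain ⟨h, rfl⟩ := QuotientGroup.mk'_surjective A y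
    obtain ⟨i, z, hz, rfl⟩ := hgen x hx h
    rw [map_mul, show QuotientGroup.mk' A z = 1 from (QuotientGroup.eq_one_iff z).mpr hz, one_mul,
      map_pow]
    exact pow_mem (Subgroup.mem_zpowers _) i
  have hAcard : Nat.card A * p = p ^ a := by rw [← hP, ← A.card_mul_index, hidx]
  -- vanishing outside
  have hvan : ∀ g, g ∉ A → χ g = 0 := by
    intro g hg
    rw [hHlam]
    simp only [indFun]
    rw [Finset.sum_eq_zero, mul_zero]
    intro x _
    exact Char.extendByZero_notMem H _ fun h => hg (by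
      have := hAn.conj_mem _ (hHA h) x
      simpa [mul_assoc] using this)
  have hc := Char.isCharacter_of_isIrr hχ
  obtain ⟨ψ, hψ⟩ := Char.exists_constituent A hc (Char.irr_degree_ne_zero hχ)
  set O := Char.orbit A (ψ : A → ℂ) with hO
  have hres := Char.clifford A hχ ψ.2 hψ
  obtain ⟨c, hcψ⟩ := Char.exists_nat_classInner (Char.isCharacter_restrict A hc)
    (Char.isCharacter_of_isIrr ψ.2)
  rw [hcψ] at hres
  have hnorm : classInner (fun n : A => χ n) (fun n : A => χ n) = (p : ℂ) := by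
    have h := Char.classInner_irr_self hχ
    unfold classInner at h ⊢
    rw [← Fintype.sum_subtype_add_sum_subtype (fun g => g ∈ A),
      Finset.sum_eq_zero (s := (Finset.univ : Finset {g // g ∉ A})) (fun g _ => by
        rw [hvan g g.2, zero_mul]), add_zero] at h
    have hA0 : (Nat.card A : ℂ) ≠ 0 := Nat.cast_ne_zero.mpr Nat.card_pos.ne'
    have hP0 : (Nat.card P : ℂ) ≠ 0 := Nat.cast_ne_zero.mpr Nat.card_pos.ne'
    rw [inv_mul_eq_one₀ hP0] at h
    rw [inv_mul_eq_iff_eq_mul₀ hA0, ← Nat.cast_mul, hAcard, ← hP, h]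
  have hOcard : O.card = p := by
    have hdvd : O.card ∣ p := by
      rw [hO, Char.card_orbit_eq_index, ← hidx]
      exact Subgroup.index_dvd_of_le (Char.le_inertia A (Char.isClassFunction_irr ψ))
    refine (hp.eq_one_or_self_of_dvd _ hdvd).resolve_left fun h1 => ?_
    obtain ⟨φ, hφ⟩ := Finset.card_eq_one.mp h1
    have hs : (ψ : A → ℂ) ∈ O := Char.self_mem_orbit A _
    rw [hφ, Finset.mem_singleton] at hs
    rw [← hO, hφ, Finset.sum_singleton, ← hs] at hres
    rw [hres, Char.classInner_smul_left, Char.classInner_smul_right, Char.classInner_irr_self ψ.2,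
      map_natCast, mul_one, ← Nat.cast_mul] at hnorm
    exact hp.not_isSquare ⟨c, (Nat.cast_injective hnorm).symm⟩ |>.elim
  -- degrees
  obtain ⟨f', hf'pos, hf'⟩ := Char.exists_nat_degree_irr ψ.2
  have hdeg : p * f' ≤ f := by
    have h1 := congrFun hres 1
    simp only [Pi.smul_apply, Finset.sum_apply, Subgroup.coe_one, smul_eq_mul, hf] at h1
    rw [Finset.sum_congr rfl (g := fun _ => (f' : ℂ)) fun φ hφ => by
      obtain ⟨g, rfl⟩ := (Char.mem_orbit A).mp hφ
      rw [Char.conjBy_apply_one, hf'], Finset.sum_const, ← hO, hOcard, nsmul_eq_mul,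
      ← Nat.cast_mul, ← Nat.cast_mul] at h1
    have h2 := Nat.cast_injective h1
    have hc0 : 1 ≤ c := Nat.pos_of_ne_zero fun h0 => by rw [h0, zero_mul] at h2; omega
    calc p * f' ≤ c * (p * f') := Nat.le_mul_of_pos_left _ hc0
      _ = f := h2.symm
  have hker : ∀ u : A, (∀ g, Char.conjBy A (ψ : A → ℂ) g u = (ψ : A → ℂ) 1) → u = 1 := by
    intro u hu
    refine Subtype.ext (hfaith u ?_)
    have h1 := congrFun hres u
    have h2 := congrFun hres 1
    simp only [Pi.smul_apply, Finset.sum_apply, Subgroup.coe_one] at h1 h2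
    rw [h1, h2]
    congr 1
    refine Finset.sum_congr rfl fun φ hφ => ?_
    obtain ⟨g, rfl⟩ := (Char.mem_orbit A).mp hφ
    rw [hu, Char.conjBy_apply_one]
  -- powers preserve the subgroup
  have hAa : Nat.card A = p ^ (a - 1) := by
    refine Nat.eq_of_mul_eq_mul_right hp.pos ?_
    rw [hAcard, ← pow_succ, Nat.sub_add_cancel ha]
  have hrk : ∀ k : ℕ, k.Coprime p → ∀ g, g ∉ A → g ^ k ∉ A := fun k hk g hg h =>
    hg (Char.mem_of_pow_mem_of_coprime (coprime_card hP hk) A h)
  have hcoeA : ∀ (u : A) (k : ℕ), ((u ^ k : A) : P) = (u : P) ^ k := fun u k => Subgroup.coe_pow _ _ _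
  have hsame : ∀ k j : ℕ, k.Coprime p → j.Coprime p →
      (fun u : A => (ψ : A → ℂ) (u ^ k)) = (fun u : A => (ψ : A → ℂ) (u ^ j)) →
      (fun g => χ (g ^ k)) = fun g => χ (g ^ j) := by
    intro k j hk hj' he
    funext g
    by_cases hg : g ∈ A
    · have h1 := congrFun hres ((⟨g, hg⟩ : A) ^ k)
      have h2 := congrFun hres ((⟨g, hg⟩ : A) ^ j)
      rw [hcoeA] at h1 h2
      refine h1.trans (Eq.trans ?_ h2.symm)
      simp only [Pi.smul_apply, Finset.sum_apply]
      congr 1
      refine Finset.sum_congr rfl fun φ hφ => ?_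
      obtain ⟨x, rfl⟩ := (Char.mem_orbit A).mp hφ
      have e : ∀ i : ℕ, Char.conjBy A (ψ : A → ℂ) x ((⟨g, hg⟩ : A) ^ i) =
          (ψ : A → ℂ) ((⟨x * g * x⁻¹, hAn.conj_mem g hg x⟩ : A) ^ i) := fun i => by
        refine congrArg (ψ : A → ℂ) (Subtype.ext ?_)
        show x * (((⟨g, hg⟩ : A) ^ i : A) : P) * x⁻¹ = _
        rw [hcoeA, hcoeA, conj_pow]
      rw [e, e]
      exact congrFun he _
    · rw [hvan _ (hrk k hk g hg), hvan _ (hrk j hj' g hg)]
  have hfinψ := twists_finite hAa ψ.2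
  have : Finite (twists p (ψ : A → ℂ)) := hfinψ.to_subtype
  have : Finite (twists p χ) := hfin.to_subtype
  by_cases hS : ∀ k : ℕ, k.Coprime p → (fun g => χ (g ^ k)) = χ →
      (fun u : A => (ψ : A → ℂ) (u ^ k)) = (ψ : A → ℂ)
  · -- the constituent has no more twists: pass to its kernel
    obtain ⟨K, hKn, hKmem, -⟩ := Char.exists_kernel (Char.isCharacter_of_isIrr ψ.2)
    obtain ⟨η, hη⟩ := Blocks.exists_inflate_eq_of_ker K ψ fun u hu => (hKmem u).mp hu
    obtain ⟨a', ha'⟩ := IsPGroup.iff_card.mp ((IsPGroup.of_card hAa).to_quotient K)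
    have hψη : ∀ u : A, (ψ : A → ℂ) u = (η : A ⧸ K → ℂ) (QuotientGroup.mk' K u) := fun u =>
      congrFun (congrArg Subtype.val hη) u
    have haa : a - 1 ≤ p * a' := by
      refine (Nat.pow_le_pow_iff_right hp.one_lt).mp ?_
      rw [mul_comm, pow_mul, ← ha', ← hAa]
      choose x hx using fun φ : O => (Char.mem_orbit A).mp φ.2
      have hle := Nat.card_le_card_of_injective
        (fun u : A => fun φ : O => QuotientGroup.mk' K
          (⟨x φ * (u : P) * (x φ)⁻¹, hAn.conj_mem _ u.2 _⟩ : A)) ?_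
      · rwa [Nat.card_fun, Nat.card_eq_fintype_card (α := O), Fintype.card_coe, hOcard] at hle
      intro u v huv
      refine inv_mul_eq_one.mp (hker _ fun g => ?_)
      have hgO : Char.conjBy A (ψ : A → ℂ) g ∈ O := (Char.mem_orbit A).mpr ⟨g, rfl⟩
      refine (congrFun (hx ⟨_, hgO⟩) (u⁻¹ * v)).symm.trans ?_
      refine (hKmem _).mp ((QuotientGroup.eq_one_iff _).mp ?_)
      have h2 := congrFun huv ⟨_, hgO⟩
      show QuotientGroup.mk' K _ = 1
      rw [show (⟨x ⟨_, hgO⟩ * ((u⁻¹ * v : A) : P) * (x ⟨_, hgO⟩)⁻¹, hAn.conj_mem _ (u⁻¹ * v).2 _⟩ : A) =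
        (⟨x ⟨_, hgO⟩ * (u : P) * (x ⟨_, hgO⟩)⁻¹, hAn.conj_mem _ u.2 _⟩ : A)⁻¹ *
          ⟨x ⟨_, hgO⟩ * (v : P) * (x ⟨_, hgO⟩)⁻¹, hAn.conj_mem _ v.2 _⟩ from Subtype.ext (by
            push_cast; group), map_mul, map_inv, inv_mul_eq_one]
      exact h2
    have hηfaith : ∀ y : A ⧸ K, (η : A ⧸ K → ℂ) y = (η : A ⧸ K → ℂ) 1 → y = 1 := by
      intro y hy
      obtain ⟨u, rfl⟩ := QuotientGroup.mk'_surjective K y
      refine (QuotientGroup.eq_one_iff u).mpr ((hKmem u).mpr ?_)
      rw [hψη, hψη, map_one]; exact hy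
    have hlt : a' < a := by
      have h1 : Nat.card (A ⧸ K) ≤ Nat.card A :=
        Nat.card_le_card_of_surjective _ (QuotientGroup.mk'_surjective K)
      rw [ha', hAa, Nat.pow_le_pow_iff_right hp.one_lt] at h1
      omega
    have hcard : Nat.card (twists p (η : A ⧸ K → ℂ)) ≤ Nat.card (twists p χ) := by
      have e : ∀ φ : twists p (η : A ⧸ K → ℂ), ∃ k : ℕ, k.Coprime p ∧
          (φ : A ⧸ K → ℂ) = fun y => (η : A ⧸ K → ℂ) (y ^ k) := fun φ => φ.2
      choose k hk1 hk2 using e
      refine Nat.card_le_card_of_injective (fun φ => ⟨_, k φ, hk1 φ, rfl⟩) fun φ φ' h => ?_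
      have h' : (fun g => χ (g ^ k φ)) = fun g => χ (g ^ k φ') := congrArg Subtype.val h
      obtain ⟨i, hi, hinv⟩ := exists_inv hP hp (hk1 φ')
      have hψk := hS (k φ * i) ((hk1 φ).mul_left hi) (funext fun g => by
        rw [pow_mul]
        have h3 := congrFun h' (g ^ i)
        rw [← pow_mul, mul_comm, pow_mul] at h3
        rw [h3, ← pow_mul, mul_comm, pow_mul, hinv])
      refine Subtype.ext ((hk2 φ).trans (Eq.trans ?_ (hk2 φ').symm))
      funext y
      obtain ⟨u, rfl⟩ := QuotientGroup.mk'_surjective K y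
      rw [← map_pow, ← map_pow, ← hψη, ← hψη]
      refine Eq.trans ?_ (congrFun hψk (u ^ k φ'))
      show (ψ : A → ℂ) (u ^ k φ) = (ψ : A → ℂ) ((u ^ k φ') ^ (k φ * i))
      refine congrArg (ψ : A → ℂ) (Subtype.ext ?_)
      rw [hcoeA, hcoeA, hcoeA, pow_mul, ← pow_mul (u : P), mul_comm, pow_mul, hinv]
    have hf'' : (η : A ⧸ K → ℂ) 1 = f' := by rw [← map_one (QuotientGroup.mk' K), ← hψη, hf']
    have hrec := ih a' hlt (A ⧸ K) ha' η η.2 hηfaith f' hf'' t (hcard.trans ht)
    obtain ⟨r, rfl⟩ : ∃ r, p = r + 1 := ⟨p - 1, by omega⟩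
    simp only [Nat.add_sub_cancel] at hrec hpp ⊢
    have hra := Nat.mul_le_mul_left r haa
    have hrf := Nat.mul_le_mul_left (r * (t + 1)) hdeg
    have hrec' := Nat.mul_le_mul_left (r + 1) hrec
    obtain ⟨b, rfl⟩ : ∃ b, a = b + 1 := ⟨a - 1, by omega⟩
    simp only [Nat.add_sub_cancel] at hra
    nlinarith
  · -- all conjugates are twists: the constituent is faithful
    push Not at hS
    obtain ⟨k, hk, hχk, hψk⟩ := hS
    have hkA : k.Coprime (Nat.card A) := coprime_card hAa hk
    set ψk : IrrCharacter A := ⟨_, Char.isIrrCharacter_pow hkA ψ.2⟩ with hψkdef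
    have hmemO : (fun u : A => (ψ : A → ℂ) (u ^ k)) ∈ O := by
      by_contra hno
      have h1 : classInner (fun n : A => χ n) (ψk : A → ℂ) = 0 := by
        rw [hres, Char.classInner_smul_left, Char.classInner_sum_left, Finset.sum_eq_zero, mul_zero]
        intro φ hφ
        obtain ⟨x, rfl⟩ := (Char.mem_orbit A).mp hφ
        exact Char.classInner_irr_ne (Char.isIrrCharacter_conjBy A ψ.2 x) ψk.2 fun e =>
          hno (by
            show (ψk : A → ℂ) ∈ O
            rw [← e]; exact hφ)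
      have h2 : classInner (fun n : A => χ n) (ψk : A → ℂ) =
          classInner (fun n : A => χ n) (ψ : A → ℂ) := by
        rw [← Char.classInner_pow hkA (fun n : A => χ n) (ψ : A → ℂ)]
        refine congrArg₂ classInner (funext fun u => ?_) rfl
        show χ u = χ ((u ^ k : A) : P)
        rw [hcoeA]
        exact (congrFun hχk (u : P)).symm
      exact hψ (h2.symm.trans h1)
    obtain ⟨x, hx⟩ := (Char.mem_orbit A).mp hmemO
    have hxA : x ∉ A := fun h => hψk (by
      rw [← hx]; exact Char.conjBy_mem A (Char.isClassFunction_irr ψ) h)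
    have hpow : ∀ i : ℕ, Char.conjBy A (ψ : A → ℂ) (x ^ i) =
        fun u => (ψ : A → ℂ) (u ^ (k ^ i)) := by
      intro i
      induction i with
      | zero => simp [Char.conjBy_one]
      | succ i hi =>
        rw [pow_succ, Char.conjBy_mul, hi]
        funext u
        show (ψ : A → ℂ) ((⟨x * (u : P) * x⁻¹, hAn.conj_mem _ u.2 x⟩ : A) ^ (k ^ i)) = _
        rw [pow_succ, pow_mul]
        refine Eq.trans ?_ (congrFun hx (u ^ (k ^ i)))
        refine congrArg (ψ : A → ℂ) (Subtype.ext ?_)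
        show ((⟨x * (u : P) * x⁻¹, _⟩ : A) ^ (k ^ i) : A).1 = x * ((u ^ (k ^ i) : A) : P) * x⁻¹
        rw [hcoeA, hcoeA, conj_pow]
    have hψfaith : ∀ u : A, (ψ : A → ℂ) u = (ψ : A → ℂ) 1 → u = 1 := by
      intro u hu
      refine hker u fun g => ?_
      obtain ⟨i, y, hy, rfl⟩ := hgen x hxA g
      rw [Char.conjBy_mul, Char.conjBy_mem A (Char.isClassFunction_irr ψ) hy, hpow]
      obtain ⟨K, -, hKmem, -⟩ := Char.exists_kernel (Char.isCharacter_of_isIrr ψ.2)
      exact (hKmem _).mp (K.pow_mem ((hKmem u).mpr hu) _)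
    have hcard : Nat.card (twists p (ψ : A → ℂ)) ≤ p * Nat.card (twists p χ) := by
      have e : ∀ φ : twists p (ψ : A → ℂ), ∃ k : ℕ, k.Coprime p ∧
          (φ : A → ℂ) = fun y => (ψ : A → ℂ) (y ^ k) := fun φ => φ.2
      choose l hl1 hl2 using e
      let F : twists p (ψ : A → ℂ) → twists p χ := fun φ => ⟨_, l φ, hl1 φ, rfl⟩
      have : Fintype (twists p (ψ : A → ℂ)) := Fintype.ofFinite _
      have : Fintype (twists p χ) := Fintype.ofFinite _
      rw [Nat.card_eq_fintype_card, Nat.card_eq_fintype_card, ← Finset.card_univ,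
        ← Finset.card_univ (α := twists p χ)]
      refine (Finset.card_le_mul_card_image_of_maps_to (f := F) (fun φ _ => Finset.mem_univ _) p
        fun φ₀ _ => ?_)
      rcases (Finset.univ.filter fun φ => F φ = φ₀).eq_empty_or_nonempty with h0 | ⟨φ₁, hφ₁⟩
      · rw [h0]; exact Nat.zero_le _
      refine (Finset.card_image_of_injective _ Subtype.val_injective).symm.le.trans (le_trans ?_
        ((Finset.card_image_of_injective O (f := fun φ : A → ℂ => fun u => φ (u ^ l φ₁)) ?_).trans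
          hOcard).le)
      · refine Finset.card_le_card fun φ hφ => ?_
        obtain ⟨φ₂, hφ₂, rfl⟩ := Finset.mem_image.mp hφ
        have heq : (fun g => χ (g ^ l φ₂)) = fun g => χ (g ^ l φ₁) :=
          congrArg Subtype.val ((Finset.mem_filter.mp hφ₂).2.trans (Finset.mem_filter.mp hφ₁).2.symm)
        obtain ⟨i, hi, hinv⟩ := exists_inv hP hp (hl1 φ₁)
        have hkk : (l φ₂ * i).Coprime p := (hl1 φ₂).mul_left hi
        have hχkk : (fun g => χ (g ^ (l φ₂ * i))) = χ := funext fun g => by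
          rw [mul_comm, pow_mul]
          exact (congrFun heq (g ^ i)).trans (by rw [← pow_mul, mul_comm, pow_mul, hinv])
        refine Finset.mem_image.mpr ⟨fun u => (ψ : A → ℂ) (u ^ (l φ₂ * i)), ?_, ?_⟩
        · by_contra hno
          have hkkA : (l φ₂ * i).Coprime (Nat.card A) := coprime_card hAa hkk
          have h1 : classInner (fun n : A => χ n) (fun u => (ψ : A → ℂ) (u ^ (l φ₂ * i))) = 0 := by
            rw [hres, Char.classInner_smul_left, Char.classInner_sum_left, Finset.sum_eq_zero,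
              mul_zero]
            intro φ hφ'
            obtain ⟨x, rfl⟩ := (Char.mem_orbit A).mp hφ'
            exact Char.classInner_irr_ne (Char.isIrrCharacter_conjBy A ψ.2 x)
              (Char.isIrrCharacter_pow hkkA ψ.2) fun e => hno (by rw [← e]; exact hφ')
          have h2 := Char.classInner_pow hkkA (fun n : A => χ n) (ψ : A → ℂ)
          have h3 : (fun u : A => χ ((u ^ (l φ₂ * i) : A) : P)) = fun u : A => χ u :=
            funext fun u => by rw [hcoeA]; exact congrFun hχkk (u : P)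
          rw [h3, h1] at h2
          exact hψ h2.symm
        · rw [hl2 φ₂]
          funext u
          refine congrArg (ψ : A → ℂ) (Subtype.ext ?_)
          rw [hcoeA, hcoeA, hcoeA, mul_comm, pow_mul, hinv]
      · intro φ φ' h
        obtain ⟨i, hi, hinv⟩ := exists_inv hAa hp (hl1 φ₁)
        funext u
        have := congrFun h (u ^ i)
        simp only [← pow_mul] at this
        rw [mul_comm, pow_mul, hinv] at this
        exact this
    have hrec := ih (a - 1) (by omega) A hAa ψ ψ.2 hψfaith f' hf' (t + 1)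
      (hcard.trans (by rw [pow_succ, ← mul_assoc, mul_comm _ p]; exact Nat.mul_le_mul_left _ ht))
    obtain ⟨r, rfl⟩ : ∃ r, p = r + 1 := ⟨p - 1, by omega⟩
    simp only [Nat.add_sub_cancel] at hrec hpp ⊢
    obtain ⟨b, rfl⟩ : ∃ b, a = b + 1 := ⟨a - 1, by omega⟩
    simp only [Nat.add_sub_cancel] at hrec
    have hrf := Nat.mul_le_mul_left (r * (t + 1)) hdeg
    have h1 : r ≤ r * f' := Nat.le_mul_of_pos_right r hf'pos
    have h2 : r * f' ≤ r * r * f' := Nat.mul_le_mul_right _ (Nat.le_mul_of_pos_left r hpp)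
    nlinarith

/-- Let P be a finite p-group of order p^a with a > 0, and χ a faithful irreducible character of P of degree f whose field of values ℚ(χ) has degree (p − 1)·p^t over ℚ. Then a ≤ (f − 1)/(p − 1) + (t + 1)·f; in integer form, (p − 1)·a ≤ (f − 1) + (p − 1)(t + 1)·f. -/
theorem result {P : Type*} [Group P] [Finite P] (p a : ℕ) (hp : p.Prime) (ha : 0 < a) (hP : Nat.card P = p ^ a) (χ : Cfsg.IrrCharacter P) (hfaith : ∀ g : P, (χ : P → ℂ) g = (χ : P → ℂ) 1 → g = 1) (f t : ℕ) (hf : Cfsg.charDegree (χ : P → ℂ) = f) (hfield : Module.finrank ℚ (IntermediateField.adjoin ℚ (Set.range (χ : P → ℂ))) = (p - 1) * p ^ t) : (p - 1) * a ≤ (f - 1) + (p - 1) * (t + 1) * f := by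
  classical
  have hc := Char.isCharacter_of_isIrr χ.2
  have : Fintype P := Fintype.ofFinite P
  have hf1 : (χ : P → ℂ) 1 = f := by
    rw [← hf]
    exact (Blocks.irr_degree_eq χ).1
  set K := IntermediateField.adjoin ℚ (Set.range (χ : P → ℂ)) with hK
  have hKle : K ≤ Char.QBar := IntermediateField.adjoin_le_iff.mpr (by
    rintro _ ⟨g, rfl⟩; exact Char.value_mem hc g)
  have : FiniteDimensional ℚ K := FiniteDimensional.of_finrank_pos (by
    rw [hfield]; exact Nat.mul_pos (by have := hp.two_le; omega) (pow_pos hp.pos _))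
  have hcard : Nat.card (twists p (χ : P → ℂ)) ≤ (p - 1) * p ^ t := by
    rw [← hfield]
    have hgal : ∀ φ : twists p (χ : P → ℂ), ∃ σ : Char.QBar →ₐ[ℚ] ℂ,
        ∀ g, σ (Char.value hc g) = (φ : P → ℂ) g := by
      rintro ⟨φ, k, hk, rfl⟩
      obtain ⟨σ, hσ⟩ := Char.exists_galois_of_coprime (G := P) (coprime_card hP hk)
      exact ⟨σ, fun g => hσ hc g⟩
    choose σ hσ using hgal
    refine (Nat.card_le_card_of_injective (fun φ => (σ φ).comp (IntermediateField.inclusion hKle))
      fun φ φ' h => ?_).trans ?_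
    · refine Subtype.ext (funext fun g => ?_)
      rw [← hσ φ g, ← hσ φ' g]
      have h1 := congrArg (fun (τ : K →ₐ[ℚ] ℂ) =>
        τ ⟨(χ : P → ℂ) g, IntermediateField.subset_adjoin ℚ _ ⟨g, rfl⟩⟩) h
      exact h1
    · rw [Nat.card_eq_fintype_card, AlgHom.card]
  have h := bound hp a P hP (χ : P → ℂ) χ.2 hfaith f hf1 t hcard
  omega

end Cfsg.Agent.S4489
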