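import Cfsg.Statements.S4490
import Cfsg.Agent.Lib.Blocks.RealBlock

set_option autoImplicit false
open Cfsg
open scoped CfsgLib.Char

namespace Cfsg.Agent.S4490

/-- Let G be a finite group and M a maximal ideal of the algebraic integers containing 2. Every 2-block B of G whose defect groups are the Sylow 2-subgroups of G (a block of full defect) and which is not the principal block is different from its complex-conjugate block, the block formed by the complex conjugates of the members of B. -/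
theorem result {G : Type*} [Group G] [Finite G] (M : Ideal Cfsg.AlgInt) (hM : Cfsg.IsPModular 2 M) (B : Set (Cfsg.IrrCharacter G)) (hB : Cfsg.IsPBlock M B) (P : Sylow 2 G) (hfull : Cfsg.IsDefectGroup 2 M B (P : Subgroup G)) (hnp : B ≠ Cfsg.principalBlock M G) : {ψ : Cfsg.IrrCharacter G | ∃ χ ∈ B, (ψ : G → ℂ) = fun g => (starRingEnd ℂ) ((χ : G → ℂ) g)} ≠ B := by
  classical
  intro heq
  refine hnp ?_
  have := Fintype.ofFinite G
  have : Fact (Nat.Prime 2) := ⟨hM.1⟩
  have := CfsgLib.Blocks.isPrime_of_isPModular hM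
  obtain ⟨-, -, -, χ, hχ, hdeg⟩ := CfsgLib.Blocks.blockDefect_le_and_degree hM hB
  have hd : blockDefect 2 B = (Nat.card G).factorization 2 := by
    have h := CfsgLib.Blocks.IsDefectGroup.card_eq hM hB hfull
    rw [P.card_eq_multiplicity] at h
    exact (Nat.pow_right_injective le_rfl h).symm
  rw [hd, Nat.sub_self] at hdeg
  have hodd : Odd (charDegree (χ : G → ℂ)) := by
    rw [← Nat.not_even_iff_odd, even_iff_two_dvd]
    exact fun h => (hM.1.factorization_pos_of_dvd
      (CfsgLib.Blocks.irr_degree_eq χ).2.ne' h).ne' hdeg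
  have hn : 0 < Nat.card G := Nat.card_pos
  refine CfsgLib.Blocks.eq_principalBlock_of_stable hM hB (k := Nat.card G - 1) ?_ ?_ hχ hodd ?_
  · exact (Nat.coprime_self_sub_left hn).mpr (Nat.coprime_one_left _)
  · intro g _
    refine eq_inv_of_mul_eq_one_left ?_
    rw [← pow_succ, Nat.sub_add_cancel hn, pow_card_eq_one']
  · intro θ hθ
    obtain ⟨θ', hθ', hval⟩ : ∃ θ' ∈ B, (θ' : G → ℂ) = fun g => (starRingEnd ℂ) ((θ : G → ℂ) g) :=
      ⟨⟨fun g => (starRingEnd ℂ) ((θ : G → ℂ) g), CfsgLib.Char.isIrrCharacter_conj θ.2⟩,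
        heq ▸ ⟨θ, hθ, rfl⟩, rfl⟩
    refine ⟨θ', hθ', fun g => ?_⟩
    rw [show g ^ (Nat.card G - 1) = g⁻¹ from eq_inv_of_mul_eq_one_left (by
      rw [← pow_succ, Nat.sub_add_cancel hn, pow_card_eq_one']), hval]
    exact (CfsgLib.Blocks.irr_value_inv θ.2 g).symm

end Cfsg.Agent.S4490
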