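import Cfsg.Statements.S4493
import Cfsg.Agent.Lib.Char.ItoMichler

set_option autoImplicit false
open Cfsg

namespace Cfsg.Agent.S4493

open CfsgLib.Char
open scoped CfsgLib.Char

/-- Let G be a finite solvable group and p a prime. Then G has a normal abelian Sylow p-subgroup if and only if no irreducible character degree of G is divisible by p. -/
theorem result {G : Type*} [Group G] [Finite G] (hsolv : Group.IsSolvable G) (p : ℕ) (hp : p.Prime) : (∃ P : Subgroup G, P.Normal ∧ (∀ x ∈ P, ∀ y ∈ P, x * y = y * x) ∧ IsPGroup p P ∧ ¬ p ∣ P.index) ↔ ∀ χ : Cfsg.IrrCharacter G, ¬ p ∣ Cfsg.charDegree (χ : G → ℂ) := by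
  haveI := Fact.mk hp
  constructor
  · rintro ⟨P, hPn, hab, -, hidx⟩ χ
    haveI := hPn
    exact CfsgLib.Char.ItoMichler.not_dvd_of_normal_abelian P hab hidx χ
  · intro h
    obtain ⟨P, hPn, hP, hidx, hab⟩ := CfsgLib.Char.ItoMichler.aux p _ G rfl
      (CfsgLib.PSolvable.isPSolvable_of_isSolvable hsolv) (fun χ d hd =>
        CfsgLib.Char.Extraspecial.charDegree_eq hd ▸ h χ)
    exact ⟨P, hPn, hab, hP, hidx⟩

end Cfsg.Agent.S4493
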