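import Cfsg.Statements.S4497
import Cfsg.Agent.Lib.Groups.SelfCentPrime
open CfsgLib.SelfCent

set_option autoImplicit false
open Cfsg

namespace Cfsg.Agent.S4497

/-- Let the finite group G contain an element x of prime order p with C_G(x) = ⟨x⟩, let t be the number of conjugacy classes of elements of order p, and let S* = O_{p′}(G) be the largest normal subgroup of order prime to p. Then S* ≤ G′; if t ≠ p − 1 the quotient G′/S* is simple (in particular non-trivial); if t = p − 1 then G′ = S*. -/
theorem result {G : Type*} [Group G] [Finite G] (p : ℕ) (hp : p.Prime) (x : G) (hx : orderOf x = p) (hC : Subgroup.centralizer ({x} : Set G) = Subgroup.zpowers x) (t : ℕ) (ht : Nat.card {C : ConjClasses G // ∃ g ∈ C.carrier, orderOf g = p} = t) : Cfsg.pPrimeCore p G ≤ commutator G ∧ (t ≠ p - 1 → ∀ h : ((Cfsg.pPrimeCore p G).subgroupOf (commutator G)).Normal, IsSimpleGroup (↥(commutator G) ⧸ (Cfsg.pPrimeCore p G).subgroupOf (commutator G))) ∧ (t = p - 1 → commutator G = Cfsg.pPrimeCore p G) := by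
  have h : IsSelfCent p x := ⟨hp, hx, hC⟩
  refine ⟨core_le_commutator h, fun h1 hn => ?_,
    fun h1 => (index_commutator_of_eq h ((t_eq_iff h ht).mp h1)).1⟩
  have he : eIdx x ≠ 1 := fun e => h1 ((t_eq_iff h ht).mpr e)
  set D := commutator G with hD
  set K := Cfsg.pPrimeCore p G with hK
  haveI := pPrimeCore_normal' (G := G) p
  have hKd : ¬ p ∣ Nat.card K := hp.coprime_iff_not_dvd.mp (pPrimeCore_coprime p).symm
  have hdD : p ∣ Nat.card D := dvd_commutator_of_ne h he
  haveI := hn
  haveI : Nontrivial (↥D ⧸ K.subgroupOf D) := by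
    refine QuotientGroup.nontrivial_iff.mpr fun e => hKd ?_
    rw [Subgroup.subgroupOf_eq_top] at e
    exact hdD.trans (Subgroup.card_dvd_of_le e)
  refine ⟨fun L hL => ?_⟩
  haveI : L.Normal := hL
  set L' := L.comap (QuotientGroup.mk' (K.subgroupOf D)) with hL'
  have hinj : L'.map (QuotientGroup.mk' (K.subgroupOf D)) = L :=
    Subgroup.map_comap_eq_self_of_surjective (QuotientGroup.mk'_surjective _) L
  by_cases hd : p ∣ Nat.card L'
  · right
    have hLtop : L' = ⊤ := by
      haveI : Fact p.Prime := ⟨hp⟩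
      obtain ⟨y, hy⟩ := exists_prime_orderOf_dvd_card' (G := L') p hd
      have hy' : orderOf ((y : D) : G) = p := by
        rw [Subgroup.orderOf_coe, Subgroup.orderOf_coe, hy]
      obtain ⟨g, hg⟩ := card_P_mem_conj h
        (H := Subgroup.zpowers ((y : D) : G)) (by rw [Nat.card_zpowers, hy'])
      have hdec : ∀ g : G, ∀ q ∈ Subgroup.zpowers x, ∃ c : D, ∃ r ∈ Subgroup.zpowers x,
          g * q * g⁻¹ = (c : G) * r * (c : G)⁻¹ := by
        intro g q hq
        have hg : g ∈ D ⊔ nzr x := by rw [sup_nzr_eq_top h D hdD]; trivial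
        obtain ⟨c, hc, m, hm, rfl⟩ := Subgroup.mem_sup_of_normal_left.mp hg
        exact ⟨⟨c, hc⟩, m * q * m⁻¹, (Subgroup.mem_normalizer_iff.mp hm q).mp hq, by group⟩
      have hPD : Subgroup.zpowers x ≤ D := zpowers_le_of_dvd h D hdD
      obtain ⟨q, hq, hqe⟩ : ∃ q ∈ Subgroup.zpowers x, g * q * g⁻¹ = ((y : D) : G) := by
        obtain ⟨q, hq, hqe⟩ := (hg.symm ▸ Subgroup.mem_zpowers ((y : D) : G) :
          ((y : D) : G) ∈ (Subgroup.zpowers x).map (MulAut.conj g).toMonoidHom)
        exact ⟨q, hq, by simpa using hqe⟩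
      obtain ⟨c, r, hr, hcr⟩ := hdec g q hq
      have hrL : (⟨r, hPD hr⟩ : D) ∈ L' := by
        have h2 : (⟨r, hPD hr⟩ : D) = c⁻¹ * (y : D) * c⁻¹⁻¹ := by
          apply Subtype.ext
          simp only [Subgroup.coe_mul, InvMemClass.coe_inv]
          rw [← hqe, hcr]
          group
        rw [h2]
        exact (inferInstance : L'.Normal).conj_mem _ y.2 _
      have hr1 : r ≠ 1 := by
        rintro rfl
        apply hp.ne_one
        rw [← hy', ← hqe, hcr]
        simp
      have hPL : Subgroup.zpowers x ≤ L'.map D.subtype := by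
        rw [← eq_zpowers_of_card hp h.card_P hr hr1, Subgroup.zpowers_le]
        exact ⟨_, hrL, rfl⟩
      have hclos : Subgroup.normalClosure ({x} : Set G) ≤ L'.map D.subtype := by
        rw [Subgroup.normalClosure, Subgroup.closure_le]
        intro z hz
        obtain ⟨a, ha, hz'⟩ := Group.mem_conjugatesOfSet_iff.mp hz
        rw [Set.mem_singleton_iff] at ha
        subst ha
        obtain ⟨g', hg'⟩ := isConj_iff.mp hz'
        obtain ⟨c', r', hr', e⟩ := hdec g' _ (Subgroup.mem_zpowers _)
        rw [SetLike.mem_coe, ← hg', e]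
        obtain ⟨w, hw, hwe⟩ := hPL hr'
        refine ⟨c' * w * c'⁻¹, (inferInstance : L'.Normal).conj_mem _ hw _, ?_⟩
        simp only [map_mul, map_inv, hwe]
        rfl
      have hxc : p ∣ Nat.card (Subgroup.normalClosure ({x} : Set G)) := by
        rw [← h.card_P]
        exact Subgroup.card_dvd_of_le (Subgroup.zpowers_le.mpr
          (Subgroup.subset_normalClosure (Set.mem_singleton x)))
      have := (commutator_le_of_dvd h _ hxc).trans hclos
      rw [eq_top_iff]
      intro d _
      obtain ⟨w, hw, hwe⟩ := this d.2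
      exact (Subtype.ext hwe : w = d) ▸ hw
    rw [← hinj, hLtop, Subgroup.map_top_of_surjective _ (QuotientGroup.mk'_surjective _)]
  · left
    have hA : (Cfsg.pPrimeCore p ↥D).map D.subtype ≤ K := by
      haveI := pPrimeCore_normal' (G := ↥D) p
      refine le_pPrimeCore ⟨fun a ha g => ?_⟩ ?_
      · obtain ⟨w, hw, rfl⟩ := ha
        have hle : (Cfsg.pPrimeCore p ↥D).map (MulAut.conjNormal (H := D) g).toMonoidHom
            ≤ Cfsg.pPrimeCore p ↥D := by
          refine le_pPrimeCore (Subgroup.Normal.map inferInstance _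
            (MulAut.conjNormal (H := D) g).surjective) ?_
          have e := Nat.card_congr (Subgroup.equivMapOfInjective (Cfsg.pPrimeCore p ↥D)
            (MulAut.conjNormal (H := D) g).toMonoidHom (MulAut.conjNormal (H := D) g).injective).toEquiv
          exact e ▸ pPrimeCore_coprime p
        exact ⟨_, hle ⟨w, hw, rfl⟩, by simp⟩
      · rw [← Nat.card_congr (Subgroup.equivMapOfInjective _ _ D.subtype_injective).toEquiv]
        exact pPrimeCore_coprime p
    have hle : L' ≤ K.subgroupOf D := fun w hw => hA ⟨w,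
      le_pPrimeCore inferInstance (hp.coprime_iff_not_dvd.mpr hd).symm hw, rfl⟩
    rw [eq_bot_iff, ← hinj, Subgroup.map_le_iff_le_comap, MonoidHom.comap_bot, QuotientGroup.ker_mk']
    exact hle

end Cfsg.Agent.S4497
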