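import Cfsg.Statements.S4498
import Cfsg.Agent.Lib.Blocks.Osima

set_option autoImplicit false
open Cfsg
open scoped CfsgLib.Char

set_option autoImplicit false
open Cfsg

namespace Cfsg.Agent.S4498

/-- Let p and q be distinct primes dividing the order of the finite group G, and suppose G has no element of order p·q. Fix maximal ideals M_p over p and M_q over q of the algebraic integers. Then the principal p-block and the principal q-block of G have a non-principal irreducible character in common. -/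
theorem result {G : Type*} [Group G] [Finite G] (p q : ℕ) [Fact p.Prime] [Fact q.Prime] (hpq : p ≠ q) (hp : p ∣ Nat.card G) (hq : q ∣ Nat.card G) (hno : ∀ g : G, orderOf g ≠ p * q) (Mp Mq : Ideal Cfsg.AlgInt) (hMp : Cfsg.IsPModular p Mp) (hMq : Cfsg.IsPModular q Mq) : ∃ χ : Cfsg.IrrCharacter G, (χ : G → ℂ) ≠ (fun _ => 1) ∧ χ ∈ Cfsg.principalBlock Mp G ∧ χ ∈ Cfsg.principalBlock Mq G := by
  classical
  have := Fintype.ofFinite G
  by_contra hcon
  push Not at hcon
  have := CfsgLib.Blocks.isPrime_of_isPModular hMp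
  have := CfsgLib.Blocks.isPrime_of_isPModular hMq
  obtain ⟨x, hx⟩ := exists_prime_orderOf_dvd_card' p hp
  obtain ⟨y, hy⟩ := exists_prime_orderOf_dvd_card' q hq
  set a : IrrCharacter G → ℂ := fun χ =>
    if χ ∈ principalBlock Mp G then (starRingEnd ℂ) ((χ : G → ℂ) x) else 0
  set b : IrrCharacter G → ℂ := fun χ =>
    if χ ∈ principalBlock Mq G then (starRingEnd ℂ) ((χ : G → ℂ) y) else 0
  have hz : ∀ (r : ℕ) [Fact r.Prime] (N : Ideal AlgInt) (w : G) (c : IrrCharacter G → ℂ),
      IsPModular r N → orderOf w = r →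
      (∀ χ, c χ = if χ ∈ principalBlock N G then (starRingEnd ℂ) ((χ : G → ℂ) w) else 0) →
      ∀ g : G, ¬ r ∣ orderOf g → (∑ χ : IrrCharacter G, c χ • (χ : G → ℂ)) g = 0 := by
    intro r _ N w c hN hw hc g hg
    have := CfsgLib.Blocks.isPrime_of_isPModular hN
    have h := CfsgLib.Blocks.sum_block_mul_conj_eq_zero hN
      (S := Finset.univ.filter (· ∈ principalBlock N G))
      (by simpa using CfsgLib.Blocks.IsPBlock.isBlockUnion CfsgLib.Blocks.isPBlock_principalBlock)
      (x := g) (y := w) hg (fun h => h (by rw [hw]))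
    rw [← h, Finset.sum_apply, Finset.sum_filter]
    refine Finset.sum_congr rfl fun χ _ => ?_
    rw [Pi.smul_apply, smul_eq_mul, hc]
    split <;> simp [mul_comm]
  have h0 : classInner (∑ χ : IrrCharacter G, a χ • (χ : G → ℂ))
      (∑ χ : IrrCharacter G, b χ • (χ : G → ℂ)) = 0 := by
    rw [classInner, Finset.sum_eq_zero fun g _ => ?_, mul_zero]
    by_cases hg : p ∣ orderOf g
    · by_cases hg' : q ∣ orderOf g
      · have hd : p * q ∣ orderOf g := Nat.Coprime.mul_dvd_of_dvd_of_dvd
          ((Nat.coprime_primes Fact.out Fact.out).mpr hpq) hg hg'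
        exact absurd (orderOf_pow_orderOf_div (orderOf_pos g).ne' hd) (hno _)
      · rw [hz q Mq y b hMq hy (fun _ => rfl) g hg', map_zero, mul_zero]
    · rw [hz p Mp x a hMp hx (fun _ => rfl) g hg, zero_mul]
  rw [CfsgLib.Char.classInner_sum_smul_sum_smul,
    Finset.sum_eq_single_of_mem (CfsgLib.Blocks.trivIrr G) (Finset.mem_univ _)] at h0
  · simp only [a, b] at h0
    rw [CfsgLib.Blocks.principalBlock_eq, CfsgLib.Blocks.principalBlock_eq,
      if_pos (CfsgLib.Blocks.mem_blockOf_self _), if_pos (CfsgLib.Blocks.mem_blockOf_self _)] at h0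
    simp [CfsgLib.Blocks.trivIrr] at h0
  · intro χ _ hne
    by_cases hχ : χ ∈ principalBlock Mp G
    · have hne' : (χ : G → ℂ) ≠ fun _ => 1 := fun h => hne (Subtype.ext h)
      simp [b, if_neg (hcon χ hne' hχ)]
    · simp [a, if_neg hχ]

end Cfsg.Agent.S4498
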