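import Cfsg.Statements.S4502
import Cfsg.Agent.Lib.Blocks.PrimeDefect.Count

set_option autoImplicit false
open Cfsg
open scoped CfsgLib.Char

namespace Cfsg.Agent.S4502

/-- Let G be a finite group whose order is divisible by the prime p exactly once, and let P be a Sylow p-subgroup. Then the number of irreducible characters of G of degree not divisible by p equals the number of conjugacy classes of the normalizer of P. -/
theorem result {G : Type*} [Group G] [Finite G] (p : ℕ) [Fact p.Prime] (hdiv : p ∣ Nat.card G) (hsq : ¬ p ^ 2 ∣ Nat.card G) (P : Sylow p G) : Nat.card {χ : Cfsg.IrrCharacter G // ¬ p ∣ Cfsg.charDegree (χ : G → ℂ)} = Nat.card (ConjClasses (Subgroup.normalizer ((P : Subgroup G) : Set G))) := by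
  classical
  haveI : Fintype G := Fintype.ofFinite G
  obtain ⟨M, hM⟩ := CfsgLib.Blocks.exists_isPModular (Fact.out : p.Prime)
  have h1 := CfsgLib.Blocks.PrimeDefect.factorization_eq_one hdiv hsq
  have hP : Nat.card (P : Subgroup G) = p := by rw [P.card_eq_multiplicity, h1, pow_one]
  set N := Subgroup.normalizer ((P : Subgroup G) : Set G) with hN
  set Q := (P : Subgroup G).subgroupOf N with hQ
  haveI : Fintype N := Fintype.ofFinite N
  have hle : (P : Subgroup G) ≤ N := Subgroup.le_normalizer
  have hmap : Q.map N.subtype = (P : Subgroup G) := by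
    rw [hQ, Subgroup.subgroupOf_map_subtype, inf_eq_left.mpr hle]
  have hQc : Nat.card Q = p :=
    (Nat.card_congr (Subgroup.subgroupOfEquivOfLe hle).toEquiv).trans hP
  have hdivN : p ∣ Nat.card N := hQc ▸ Subgroup.card_subgroup_dvd_card Q
  have hsqN : ¬ p ^ 2 ∣ Nat.card N := fun h => hsq (h.trans (Subgroup.card_subgroup_dvd_card N))
  have hG := CfsgLib.Blocks.PrimeDefect.count_eq (M := M) hM hP hdiv hsq
  have hH := CfsgLib.Blocks.PrimeDefect.count_eq (M := M) hM hQc hdivN hsqN
  rw [CfsgLib.Blocks.PrimeDefect.weight_map N.subtype Subtype.val_injective Q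
    (by rw [hmap, Subgroup.range_subtype]), hmap, ← hG] at hH
  haveI : Q.Normal := Subgroup.normal_in_normalizer
  have hab : ∀ a ∈ Q, ∀ b ∈ Q, a * b = b * a := by
    intro a ha b hb
    haveI : IsCyclic Q := isCyclic_of_prime_card hQc
    letI := IsCyclic.commGroup (α := Q)
    exact congrArg Subtype.val (mul_comm (⟨a, ha⟩ : Q) ⟨b, hb⟩)
  have hall : Nat.card {χ : Cfsg.IrrCharacter N // ¬ p ∣ Cfsg.charDegree (χ : N → ℂ)} =
      Nat.card (ConjClasses N) := by
    rw [← CfsgLib.Char.card_irr_eq_card_conjClasses]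
    exact Nat.card_congr (Equiv.subtypeUnivEquiv fun χ =>
      CfsgLib.Char.ItoMichler.not_dvd_of_normal_abelian Q hab
        (CfsgLib.Blocks.PrimeDefect.not_dvd_index hQc hsqN) χ)
  have hC : Subgroup.centralizer (Q : Set N) =
      (Subgroup.centralizer ((P : Subgroup G) : Set G)).subgroupOf N := by
    ext x
    rw [Subgroup.mem_subgroupOf, Subgroup.mem_centralizer_iff, Subgroup.mem_centralizer_iff]
    exact ⟨fun h y hy => congrArg Subtype.val (h ⟨y, hle hy⟩ hy),
      fun h y hy => Subtype.ext (h _ hy)⟩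
  rw [hall, hC, Subgroup.normalizer_eq_top, Subgroup.relIndex_top_right] at hH
  refine (Nat.eq_of_mul_eq_mul_left ?_ hH).symm
  exact Nat.pos_of_ne_zero Subgroup.index_ne_zero_of_finite

end Cfsg.Agent.S4502
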