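import Cfsg.Statements.S4506
import Cfsg.Agent.Lib.Char.ComplexAut
import Cfsg.Agent.Lib.Char.Twist
import Cfsg.Agent.Lib.Char.Table
import Cfsg.Agent.Lib.Char.Central
import Cfsg.Agent.Lib.Blocks.CentralChar
import Mathlib.NumberTheory.NumberField.Cyclotomic.Basic

set_option autoImplicit false
set_option linter.style.haveILetI false
set_option linter.unusedSectionVars false
open Cfsg
open CfsgLib
open scoped CfsgLib.Char ComplexConjugate

namespace Cfsg.Agent.S4506

/-- An algebraic integer divisible by `k`. -/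
def Dvd' (k : ℕ) (z : ℂ) : Prop := ∃ w : ℂ, IsIntegral ℤ w ∧ z = (k : ℂ) * w

theorem Dvd'.sum {k : ℕ} {ι : Type*} (s : Finset ι) (f : ι → ℂ) (h : ∀ i ∈ s, Dvd' k (f i)) :
    Dvd' k (∑ i ∈ s, f i) := by
  classical
  induction s using Finset.induction with
  | empty => exact ⟨0, isIntegral_zero, by simp⟩
  | insert a s ha ih =>
    obtain ⟨w, hw, e⟩ := h a (Finset.mem_insert_self a s)
    obtain ⟨w', hw', e'⟩ := ih fun i hi => h i (Finset.mem_insert_of_mem hi)
    exact ⟨w + w', hw.add hw', by rw [Finset.sum_insert ha, e, e', mul_add]⟩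

theorem Dvd'.mul_left {k : ℕ} {z : ℂ} (h : Dvd' k z) {c : ℂ} (hc : IsIntegral ℤ c) :
    Dvd' k (c * z) := by
  obtain ⟨w, hw, rfl⟩ := h
  exact ⟨c * w, hc.mul hw, by ring⟩

theorem isIntegral_of_pow {z : ℂ} {m : ℕ} (hm : 0 < m) (h : z ^ m = 1) : IsIntegral ℤ z :=
  IsIntegral.of_pow hm (h ▸ isIntegral_one)

/-- Cancelling an integral factor prime to the denominator. -/
theorem integral_div_of_coprime {z : ℂ} {q P : ℕ} (hP : P ≠ 0) (hco : q.Coprime P)
    (hz : IsIntegral ℤ z) (h : IsIntegral ℤ ((q : ℂ) * z / P)) : IsIntegral ℤ (z / P) := by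
  have hb := Nat.gcd_eq_gcd_ab q P
  rw [hco.gcd_eq_one] at hb
  have hbc : (1 : ℂ) = (q : ℂ) * (q.gcdA P : ℂ) + (P : ℂ) * (q.gcdB P : ℂ) := by exact_mod_cast hb
  have e : z / P = (q.gcdA P : ℂ) * ((q : ℂ) * z / P) + (q.gcdB P : ℂ) * z := by
    have hPc : (P : ℂ) ≠ 0 := Nat.cast_ne_zero.mpr hP
    field_simp
    linear_combination z * hbc
  have hint : ∀ i : ℤ, IsIntegral ℤ (i : ℂ) := fun i =>
    (isIntegral_algebraMap (R := ℤ) (A := ℂ) (x := i))
  rw [e]
  exact ((hint _).mul h).add ((hint _).mul hz)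

/-- The sum of the powers of a root of unity of `p`-power order prime to `p`. -/
theorem ramanujan {p a : ℕ} (hp : p.Prime) (ha : a ≠ 0) {ρ : ℂ} (hρ : ρ ^ (p ^ a) = 1) :
    (∑ j ∈ (Finset.range (p ^ a)).filter (fun j => j.Coprime p), ρ ^ j) =
      (if ρ = 1 then ((p ^ a : ℕ) : ℂ) else 0) -
        (if ρ ^ p = 1 then ((p ^ (a - 1) : ℕ) : ℂ) else 0) := by
  classical
  have hsum : ∀ (z : ℂ) (k : ℕ), z ^ k = 1 →
      ∑ j ∈ Finset.range k, z ^ j = if z = 1 then (k : ℂ) else 0 := by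
    intro z k hz
    split_ifs with h
    · simp [h]
    · rw [geom_sum_eq h, hz, sub_self, zero_div]
  have hpa : p ^ (a - 1) * p = p ^ a := by rw [← pow_succ, Nat.sub_add_cancel (Nat.pos_of_ne_zero ha)]
  have hset : (Finset.range (p ^ a)).filter (fun j => ¬ j.Coprime p) =
      (Finset.range (p ^ (a - 1))).image (fun i => p * i) := by
    ext j
    simp only [Finset.mem_filter, Finset.mem_range, Finset.mem_image]
    constructor
    · rintro ⟨hj, hjp⟩
      obtain ⟨i, rfl⟩ : p ∣ j := by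
        by_contra h
        exact hjp (Nat.coprime_comm.mp (hp.coprime_iff_not_dvd.mpr h))
      refine ⟨i, ?_, rfl⟩
      rw [← hpa, mul_comm (p ^ (a - 1))] at hj
      exact Nat.lt_of_mul_lt_mul_left hj
    · rintro ⟨i, hi, rfl⟩
      refine ⟨?_, fun h => hp.not_dvd_one ?_⟩
      · rw [← hpa, mul_comm (p ^ (a - 1))]
        exact Nat.mul_lt_mul_of_pos_left hi hp.pos
      · exact (Nat.coprime_self p).mp ((Nat.Coprime.coprime_dvd_left (dvd_mul_right p i) h)) ▸ dvd_rfl
  have h1 := Finset.sum_filter_add_sum_filter_not (Finset.range (p ^ a)) (fun j => j.Coprime p)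
    (fun j => ρ ^ j)
  rw [hset, Finset.sum_image fun x _ y _ h => Nat.eq_of_mul_eq_mul_left hp.pos h,
    hsum ρ _ hρ] at h1
  simp only [pow_mul] at h1
  rw [hsum (ρ ^ p) _ (by rw [← pow_mul, mul_comm, hpa, hρ])] at h1
  linear_combination h1

theorem dvd_ramanujan {p a : ℕ} (hp : p.Prime) (ha : a ≠ 0) {ρ : ℂ} (hρ : ρ ^ (p ^ a) = 1) :
    Dvd' (p ^ (a - 1)) (∑ j ∈ (Finset.range (p ^ a)).filter (fun j => j.Coprime p), ρ ^ j) := by
  rw [ramanujan hp ha hρ]
  have hpa : p ^ a = p ^ (a - 1) * p := by rw [← pow_succ, Nat.sub_add_cancel (Nat.pos_of_ne_zero ha)]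
  refine ⟨(if ρ = 1 then (p : ℂ) else 0) - (if ρ ^ p = 1 then 1 else 0), ?_, ?_⟩
  · refine IsIntegral.sub ?_ ?_
    · split
      · exact isIntegral_algebraMap (R := ℤ) (A := ℂ) (x := (p : ℤ))
      · exact isIntegral_zero
    · split
      · exact isIntegral_one
      · exact isIntegral_zero
  · rw [mul_sub, mul_ite, mul_ite, mul_zero, mul_one, hpa, Nat.cast_mul]

section Gamma

variable {n m q : ℕ} [NeZero n] (hmn : m ∣ n) (hqn : q ∣ n)

/-- The exponents prime to `n` that are congruent to `1` modulo `m`. -/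
abbrev Gam : Subgroup (ZMod n)ˣ := (ZMod.unitsMap hmn).ker

/-- The projection of those exponents. -/
noncomputable def proj : Gam hmn →* (ZMod q)ˣ := (ZMod.unitsMap hqn).comp (Gam hmn).subtype

theorem proj_val (u : Gam hmn) :
    ((proj hmn hqn u : (ZMod q)ˣ) : ZMod q) = (((u : (ZMod n)ˣ) : ZMod n).val : ZMod q) := by
  show ZMod.castHom hqn (ZMod q) ((u : (ZMod n)ˣ) : ZMod n) = _
  rw [ZMod.natCast_val, ZMod.castHom_apply]

theorem val_mod_m (u : Gam hmn) : (((u : (ZMod n)ˣ) : ZMod n).val : ZMod m) = 1 := by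
  have h : ZMod.castHom hmn (ZMod m) ((u : (ZMod n)ˣ) : ZMod n) = 1 :=
    congrArg Units.val (MonoidHom.mem_ker.mp u.2)
  rw [ZMod.castHom_apply] at h
  rw [ZMod.natCast_val]
  exact h

theorem proj_injective (hcop : m.Coprime q) (hn : n = m * q) : Function.Injective (proj hmn hqn) := by
  intro u v h
  refine Subtype.ext (Units.ext (ZMod.val_injective n ?_))
  have h1 : ((u : (ZMod n)ˣ) : ZMod n).val ≡ ((v : (ZMod n)ˣ) : ZMod n).val [MOD m] :=
    (ZMod.natCast_eq_natCast_iff _ _ _).mp ((val_mod_m hmn u).trans (val_mod_m hmn v).symm)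
  have h2 : ((u : (ZMod n)ˣ) : ZMod n).val ≡ ((v : (ZMod n)ˣ) : ZMod n).val [MOD q] :=
    (ZMod.natCast_eq_natCast_iff _ _ _).mp (by rw [← proj_val hmn hqn, ← proj_val hmn hqn, h])
  have h3 := (Nat.modEq_and_modEq_iff_modEq_mul hcop).mp ⟨h1, h2⟩
  rw [← hn] at h3
  exact Nat.ModEq.eq_of_lt_of_lt h3 (ZMod.val_lt _) (ZMod.val_lt _)

theorem proj_surjective (hcop : m.Coprime q) (hn : n = m * q) :
    Function.Surjective (proj hmn hqn) := by
  intro v
  have hm : NeZero m := ⟨fun h => NeZero.ne n (by rw [hn, h, zero_mul])⟩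
  have hq : NeZero q := ⟨fun h => NeZero.ne n (by rw [hn, h, mul_zero])⟩
  obtain ⟨x, hx1, hx2⟩ := Nat.chineseRemainder hcop 1 ((v : ZMod q).val)
  have hxn : x.Coprime n := by
    rw [hn]
    refine Nat.Coprime.mul_right ?_ ?_
    · rw [Nat.Coprime, hx1.gcd_eq, Nat.gcd_one_left]
    · rw [Nat.Coprime, hx2.gcd_eq]
      exact ZMod.val_coe_unit_coprime v
  refine ⟨⟨ZMod.unitOfCoprime x hxn, MonoidHom.mem_ker.mpr (Units.ext ?_)⟩, Units.ext ?_⟩
  · show ZMod.castHom hmn (ZMod m) ((x : ℕ) : ZMod n) = 1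
    rw [map_natCast, (ZMod.natCast_eq_natCast_iff _ _ _).mpr hx1, Nat.cast_one]
  · show ZMod.castHom hqn (ZMod q) ((x : ℕ) : ZMod n) = _
    rw [map_natCast, (ZMod.natCast_eq_natCast_iff _ _ _).mpr hx2, ZMod.natCast_zmod_val]

include hqn in
/-- Sums of the twists of a root of unity. -/
theorem twist_sum [Fintype (Gam hmn)] {p a : ℕ} (hp : p.Prime) (ha : a ≠ 0) (hq : q = p ^ a)
    (hcop : m.Coprime q) (hn : n = m * q) {μ : ℂ} (hμ : μ ^ n = 1) :
    Dvd' (p ^ (a - 1)) (∑ u : Gam hmn, μ ^ (((u : (ZMod n)ˣ) : ZMod n).val)) ∧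
      ((μ ^ m) ^ p ≠ 1 → ∑ u : Gam hmn, μ ^ (((u : (ZMod n)ˣ) : ZMod n).val) = 0) ∧
      (μ = 1 → ∑ u : Gam hmn, μ ^ (((u : (ZMod n)ˣ) : ZMod n).val) = (Nat.card (Gam hmn) : ℂ)) := by
  classical
  have hq0 : NeZero q := ⟨by rw [hq]; exact pow_ne_zero a hp.ne_zero⟩
  refine ⟨?_, ?_, fun h => by simp [h, Nat.card_eq_fintype_card]⟩
  all_goals
    have hμ0 : μ ≠ 0 := fun h => by rw [h, zero_pow (NeZero.ne n)] at hμ; exact zero_ne_one hμ
    set A : ℤ := m.gcdA q
    set B : ℤ := m.gcdB q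
    have hAB : (m : ℤ) * A + (q : ℤ) * B = 1 := by
      rw [← Nat.gcd_eq_gcd_ab, hcop.gcd_eq_one, Nat.cast_one]
    set ρ := (μ ^ m) ^ A
    set ν := (μ ^ q) ^ B
    have hdec : μ = ρ * ν := by
      show μ = (μ ^ m) ^ A * (μ ^ q) ^ B
      rw [← zpow_natCast μ m, ← zpow_natCast μ q, ← zpow_mul, ← zpow_mul, ← zpow_add₀ hμ0, hAB,
        zpow_one]
    have hρ : ρ ^ q = 1 := by
      show ((μ ^ m) ^ A) ^ q = 1
      rw [← zpow_natCast ((μ ^ m) ^ A), ← zpow_mul, mul_comm A, zpow_mul, zpow_natCast, ← pow_mul,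
        ← hn, hμ, one_zpow]
    have hν : ν ^ m = 1 := by
      show ((μ ^ q) ^ B) ^ m = 1
      rw [← zpow_natCast ((μ ^ q) ^ B), ← zpow_mul, mul_comm B, zpow_mul, zpow_natCast, ← pow_mul,
        mul_comm q, ← hn, hμ, one_zpow]
    have hterm : ∀ u : Gam hmn, μ ^ (((u : (ZMod n)ˣ) : ZMod n).val) =
        ν * ρ ^ (((proj hmn hqn u : (ZMod q)ˣ) : ZMod q).val) := by
      intro u
      rw [hdec, mul_pow, mul_comm]
      congr 1
      · rw [pow_eq_pow_mod _ hν]
        conv_rhs => rw [← pow_one ν, pow_eq_pow_mod _ hν]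
        congr 1
        exact (ZMod.natCast_eq_natCast_iff _ _ _).mp (by rw [val_mod_m hmn u, Nat.cast_one])
      · rw [pow_eq_pow_mod _ hρ, proj_val hmn hqn u, ZMod.val_natCast]
    have hbij : Function.Bijective (proj hmn hqn) :=
      ⟨proj_injective hmn hqn hcop hn, proj_surjective hmn hqn hcop hn⟩
    have hS : ∑ u : Gam hmn, μ ^ (((u : (ZMod n)ˣ) : ZMod n).val) =
        ν * ∑ j ∈ (Finset.range (p ^ a)).filter (fun j => j.Coprime p), ρ ^ j := by
      rw [Finset.sum_congr rfl fun u _ => hterm u, ← Finset.mul_sum]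
      congr 1
      rw [Fintype.sum_bijective _ hbij (fun u => ρ ^ (((proj hmn hqn u : (ZMod q)ˣ) : ZMod q).val))
        (fun v : (ZMod q)ˣ => ρ ^ ((v : ZMod q).val)) (fun _ => rfl)]
      refine Finset.sum_bij (fun (v : (ZMod q)ˣ) _ => (v : ZMod q).val) (fun v _ => ?_)
        (fun v _ w _ h => Units.ext (ZMod.val_injective q h)) (fun j hj => ?_) (fun _ _ => rfl)
      · rw [Finset.mem_filter, Finset.mem_range, ← hq]
        refine ⟨ZMod.val_lt _, ?_⟩
        have h := ZMod.val_coe_unit_coprime v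
        exact h.coprime_dvd_right (by rw [hq]; exact dvd_pow_self p ha)
      · rw [Finset.mem_filter, Finset.mem_range, ← hq] at hj
        have hj' : j.Coprime q := by rw [hq]; exact hj.2.pow_right a
        refine ⟨ZMod.unitOfCoprime j hj', Finset.mem_univ _, ?_⟩
        show ((j : ZMod q)).val = j
        rw [ZMod.val_natCast, Nat.mod_eq_of_lt hj.1]
  · rw [hS]
    exact (dvd_ramanujan hp ha (hq ▸ hρ)).mul_left
      (isIntegral_of_pow (Nat.pos_of_ne_zero fun h => NeZero.ne n (by rw [hn, h, zero_mul])) hν)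
  · intro hne
    have hμm : μ ^ m = ρ ^ m := by rw [hdec, mul_pow, hν, mul_one]
    have hρp : ρ ^ p ≠ 1 := fun h => hne (by
      rw [hμm, ← pow_mul, mul_comm, pow_mul, h, one_pow])
    have hρ1 : ρ ≠ 1 := fun h => hρp (by rw [h, one_pow])
    rw [hS, ramanujan hp ha (hq ▸ hρ), if_neg hρ1, if_neg hρp, sub_zero, mul_zero]

end Gamma

/-- An algebraic integer of a cyclotomic field is a polynomial in the root of unity. -/
theorem exists_aeval {n : ℕ} [NeZero n] {ζ : ℂ} (hζ : IsPrimitiveRoot ζ n) {z : ℂ}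
    (hz : IsIntegral ℤ z) (hK : z ∈ IntermediateField.adjoin ℚ ({ζ} : Set ℂ)) :
    ∃ f : Polynomial ℤ, Polynomial.aeval ζ f = z := by
  set K := IntermediateField.adjoin ℚ ({ζ} : Set ℂ)
  have : IsCyclotomicExtension {n} ℚ K := by
    have := (hζ.isIntegral (NeZero.pos n)).tower_top (A := ℚ)
    change IsCyclotomicExtension {n} ℚ K.toSubalgebra
    rw [IntermediateField.adjoin_simple_toSubalgebra_of_isAlgebraic this.isAlgebraic]
    exact hζ.adjoin_isCyclotomicExtension ℚ
  let ζK : K := ⟨ζ, IntermediateField.subset_adjoin ℚ _ rfl⟩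
  have hζK : IsPrimitiveRoot ζK n :=
    IsPrimitiveRoot.of_map_of_injective (f := algebraMap K ℂ) hζ (algebraMap K ℂ).injective
  have hcl := IsCyclotomicExtension.Rat.isIntegralClosure_adjoin_singleton hζK
  have hzK : IsIntegral ℤ (⟨z, hK⟩ : K) :=
    (isIntegral_algebraMap_iff (B := ℂ) (algebraMap K ℂ).injective).mp hz
  obtain ⟨y, hy⟩ := hcl.isIntegral_iff.mp hzK
  have hy2 : (y : K) ∈ Algebra.adjoin ℤ ({ζK} : Set K) := y.2
  obtain ⟨f, hf⟩ := (SetLike.ext_iff.mp
    (Algebra.adjoin_singleton_eq_range_aeval ℤ ζK) (y : K)).mp hy2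
  refine ⟨f, ?_⟩
  have h2 : Polynomial.aeval ζK f = (⟨z, hK⟩ : K) := hf.trans hy
  rw [show ζ = algebraMap K ℂ ζK from rfl, Polynomial.aeval_algebraMap_apply, h2]
  rfl

/-- Integral elements of the cyclotomic field have twist sums divisible by `p ^ (a - 1)`. -/
theorem twist_sum_integral {n m q p a : ℕ} [NeZero n] (hmn : m ∣ n) (hqn : q ∣ n)
    [Fintype (Gam hmn)] (hp : p.Prime) (ha : a ≠ 0) (hq : q = p ^ a) (hcop : m.Coprime q)
    (hn : n = m * q) {ζ : Char.QBar} (hζ : IsPrimitiveRoot (ζ : ℂ) n)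
    (ψ : Gam hmn → (Char.QBar →ₐ[ℚ] ℂ))
    (hψ : ∀ u, ψ u ζ = (ζ : ℂ) ^ (((u : (ZMod n)ˣ) : ZMod n).val))
    (z : Char.QBar) (hz : IsIntegral ℤ (z : ℂ))
    (hK : (z : ℂ) ∈ IntermediateField.adjoin ℚ ({(ζ : ℂ)} : Set ℂ)) :
    Dvd' (p ^ (a - 1)) (∑ u, ψ u z) := by
  classical
  obtain ⟨f, hf⟩ := exists_aeval hζ hz hK
  have hzf : z = ∑ i ∈ Finset.range (f.natDegree + 1), (f.coeff i : Char.QBar) * ζ ^ i := by
    refine Subtype.ext ?_
    rw [← hf, Polynomial.aeval_eq_sum_range]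
    push_cast
    exact Finset.sum_congr rfl fun i _ => zsmul_eq_mul _ _
  have hsum : ∑ u, ψ u z = ∑ i ∈ Finset.range (f.natDegree + 1),
      (f.coeff i : ℂ) * ∑ u : Gam hmn, ((ζ : ℂ) ^ i) ^ (((u : (ZMod n)ˣ) : ZMod n).val) := by
    simp only [Finset.mul_sum]
    rw [Finset.sum_comm]
    refine Finset.sum_congr rfl fun u _ => ?_
    rw [hzf, map_sum]
    refine Finset.sum_congr rfl fun i _ => ?_
    rw [map_mul, map_intCast, map_pow, hψ, ← pow_mul, ← pow_mul]
    ring
  rw [hsum]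
  refine Dvd'.sum _ _ fun i _ => Dvd'.mul_left ?_ (isIntegral_algebraMap (R := ℤ) (A := ℂ))
  exact (twist_sum hmn hqn hp ha hq hcop hn (by
    rw [← pow_mul, mul_comm, pow_mul, hζ.pow_eq_one, one_pow])).1

/-- Embeddings realise every exponent prime to `n`. -/
theorem exists_emb {n : ℕ} [NeZero n] {ζ : Char.QBar} (hζ : IsPrimitiveRoot (ζ : ℂ) n) {k : ℕ}
    (hk : k.Coprime n) : ∃ ψ : Char.QBar →ₐ[ℚ] ℂ, ψ ζ = (ζ : ℂ) ^ k := by
  have hmem : (ζ : ℂ) ^ k ∈ (minpoly ℚ ζ).rootSet ℂ := by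
    have hmin : minpoly ℚ ζ = minpoly ℚ (ζ : ℂ) :=
      (minpoly.algebraMap_eq (algebraMap Char.QBar ℂ).injective ζ).symm
    rw [hmin, Polynomial.mem_rootSet]
    refine ⟨minpoly.ne_zero ((hζ.isIntegral (NeZero.pos n)).tower_top), ?_⟩
    have h1 := Polynomial.cyclotomic_eq_minpoly_rat hζ (NeZero.pos n)
    haveI : NeZero ((n : ℕ) : ℂ) := ⟨Nat.cast_ne_zero.mpr (NeZero.ne n)⟩
    have h2 := (Polynomial.isRoot_cyclotomic_iff).mpr (hζ.pow_of_coprime k hk)
    rw [← h1, Polynomial.aeval_def, ← Polynomial.eval_map, Polynomial.map_cyclotomic]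
    exact h2
  rw [← Algebra.IsAlgebraic.range_eval_eq_rootSet_minpoly] at hmem
  exact hmem

/-- Let G be a finite group, p a prime, p^a the p-part of the order of G and g′ its p′-part. Call two irreducible characters p-conjugate when one is obtained from the other by applying a field automorphism of ℂ that fixes the g′-th roots of unity, and let r be the number of characters p-conjugate to the irreducible character χ (χ included). Then the exponent of p in r·χ(1) is at most a; and if p^a divides r·χ(1) then p^a already divides χ(1). -/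
theorem result {G : Type*} [Group G] [Finite G] (p : ℕ) (hp : p.Prime) (χ : Cfsg.IrrCharacter G) (r : ℕ) (hr : Nat.card {ψ : Cfsg.IrrCharacter G // ∃ σ : ℂ ≃+* ℂ, σ (Complex.exp (2 * Real.pi * Complex.I / ((Nat.card G / p ^ (Nat.card G).factorization p) : ℕ))) = Complex.exp (2 * Real.pi * Complex.I / ((Nat.card G / p ^ (Nat.card G).factorization p) : ℕ)) ∧ (ψ : G → ℂ) = fun g => σ ((χ : G → ℂ) g)} = r) : (r * Cfsg.charDegree (χ : G → ℂ)).factorization p ≤ (Nat.card G).factorization p ∧ (p ^ (Nat.card G).factorization p ∣ r * Cfsg.charDegree (χ : G → ℂ) → p ^ (Nat.card G).factorization p ∣ Cfsg.charDegree (χ : G → ℂ)) := by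
  classical
  have : Fintype G := Fintype.ofFinite G
  have hχc := Char.isCharacter_of_isIrr χ.2
  set n := Nat.card G with hndef
  have hn0 : n ≠ 0 := Nat.card_pos.ne'
  have : NeZero n := ⟨hn0⟩
  set a := n.factorization p with hadef
  set m := n / p ^ a with hmdef
  have hnm : n = m * p ^ a := (Nat.div_mul_cancel (Nat.ordProj_dvd n p)).symm
  have hcop : m.Coprime (p ^ a) :=
    ((hp.coprime_iff_not_dvd.mpr (Nat.not_dvd_ordCompl hp hn0)).pow_left a).symm
  have hm0 : m ≠ 0 := fun h => hn0 (by rw [hnm, h, zero_mul])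
  have hmn : m ∣ n := Dvd.intro _ hnm.symm
  have hqn : p ^ a ∣ n := Dvd.intro_left _ hnm.symm
  obtain ⟨ζ, hζ⟩ := Char.exists_primitiveRoot_qbar n hn0
  let vl : Gam hmn → ℕ := fun u => ((u : (ZMod n)ˣ) : ZMod n).val
  have hvcop : ∀ u, (vl u).Coprime n := fun u => ZMod.val_coe_unit_coprime _
  choose ψ hψ using fun u => exists_emb hζ (hvcop u)
  have hval : ∀ u g, ψ u (Char.value hχc g) = (χ : G → ℂ) (g ^ vl u) := fun u g =>
    Char.map_value_of_pow hζ (ψ u) (hψ u) hχc g
  let f : Gam hmn → (G → ℂ) := fun u g => (χ : G → ℂ) (g ^ vl u)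
  have hfirr : ∀ u, IsIrrCharacter G (f u) := fun u => Char.isIrrCharacter_pow (hvcop u) χ.2
  have hmulpow : ∀ (u v : Gam hmn) (g : G), g ^ vl (u * v) = (g ^ vl u) ^ vl v := fun u v g => by
    show g ^ ((((u : (ZMod n)ˣ) * (v : (ZMod n)ˣ) : (ZMod n)ˣ) : ZMod n).val) = _
    rw [Units.val_mul, ZMod.val_mul]
    exact (pow_mod_natCard g _).trans (pow_mul g _ _)
  have hone : ∀ g : G, g ^ vl 1 = g := fun g => by
    show g ^ ((1 : ZMod n).val) = g
    rw [ZMod.val_one_eq_one_mod]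
    exact (pow_mod_natCard g 1).trans (pow_one g)
  let S : Subgroup (Gam hmn) :=
    { carrier := {u | f u = (χ : G → ℂ)}
      one_mem' := funext fun g => by show (χ : G → ℂ) (g ^ vl 1) = _; rw [hone]
      mul_mem' := fun {u v} hu hv => funext fun g => by
        show (χ : G → ℂ) (g ^ vl (u * v)) = _
        rw [hmulpow]
        exact (congrFun hv (g ^ vl u)).trans (congrFun hu g)
      inv_mem' := fun {u} hu => funext fun g => by
        show (χ : G → ℂ) (g ^ vl u⁻¹) = _
        refine (congrFun hu (g ^ vl u⁻¹)).symm.trans ?_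
        show (χ : G → ℂ) ((g ^ vl u⁻¹) ^ vl u) = _
        rw [← hmulpow, inv_mul_cancel, hone] }
  -- the number of conjugates is the index of the stabiliser
  have hrS : r = S.index := by
    rw [← hr, Subgroup.index_eq_card]
    have hfix : ∀ σ : ℂ ≃+* ℂ, σ (Complex.exp (2 * Real.pi * Complex.I / (m : ℕ))) =
        Complex.exp (2 * Real.pi * Complex.I / (m : ℕ)) ↔ σ ((ζ : ℂ) ^ p ^ a) = (ζ : ℂ) ^ p ^ a := by
      intro σ
      have h1 : IsPrimitiveRoot ((ζ : ℂ) ^ p ^ a) m := hζ.pow (NeZero.pos n) (by rw [hnm, mul_comm])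
      have h2 := Complex.isPrimitiveRoot_exp m hm0
      have : NeZero m := ⟨hm0⟩
      obtain ⟨i, -, hi⟩ := h1.eq_pow_of_pow_eq_one h2.pow_eq_one
      obtain ⟨j, -, hj⟩ := h2.eq_pow_of_pow_eq_one h1.pow_eq_one
      constructor
      · intro h; rw [← hj, map_pow, h]
      · intro h; rw [← hi, map_pow, h]
    let F : Gam hmn ⧸ S → (G → ℂ) := fun q => Quotient.liftOn' q f (fun u v huv => by
        have h : u⁻¹ * v ∈ S := QuotientGroup.leftRel_apply.mp huv
        funext g
        show (χ : G → ℂ) (g ^ vl u) = (χ : G → ℂ) (g ^ vl v)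
        conv_rhs => rw [show v = u * (u⁻¹ * v) by group, hmulpow]
        exact (congrFun h (g ^ vl u)).symm)
    have hG : Function.Injective F := by
      intro q q' h
      induction q using QuotientGroup.induction_on with
      | H u =>
      induction q' using QuotientGroup.induction_on with
      | H v =>
      refine QuotientGroup.eq.mpr (funext fun g => ?_)
      show (χ : G → ℂ) (g ^ vl (u⁻¹ * v)) = _
      have h' : f u = f v := h
      rw [hmulpow]
      refine (congrFun h' (g ^ vl u⁻¹)).symm.trans ?_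
      show (χ : G → ℂ) ((g ^ vl u⁻¹) ^ vl u) = _
      rw [← hmulpow, inv_mul_cancel, hone]
    refine (Nat.card_congr (Equiv.ofBijective (fun q : Gam hmn ⧸ S =>
      (⟨⟨F q, ?_⟩, ?_⟩ :
        {φ : IrrCharacter G // ∃ σ : ℂ ≃+* ℂ, σ (Complex.exp (2 * Real.pi * Complex.I / (m : ℕ))) =
          Complex.exp (2 * Real.pi * Complex.I / (m : ℕ)) ∧
          (φ : G → ℂ) = fun g => σ ((χ : G → ℂ) g)})) ⟨?_, ?_⟩)).symm
    · induction q using QuotientGroup.induction_on with
      | H u => exact hfirr u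
    · induction q using QuotientGroup.induction_on with
      | H u =>
      obtain ⟨σ, hσ⟩ := Char.exists_ringEquiv_extend (ψ u)
      refine ⟨σ, (hfix σ).mpr ?_, funext fun g => ?_⟩
      · have e : σ ((ζ : ℂ) ^ p ^ a) = ((ζ : ℂ) ^ vl u) ^ p ^ a := by rw [map_pow, hσ, hψ]
        rw [e, ← pow_mul, mul_comm, pow_mul]
        have : ((ζ : ℂ) ^ p ^ a) ^ m = 1 := by rw [← pow_mul, mul_comm, ← hnm, hζ.pow_eq_one]
        conv_rhs => rw [← pow_one ((ζ : ℂ) ^ p ^ a)]
        rw [pow_eq_pow_mod _ this, pow_eq_pow_mod 1 this]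
        congr 1
        exact (ZMod.natCast_eq_natCast_iff _ _ _).mp (by rw [val_mod_m hmn u, Nat.cast_one])
      · show (χ : G → ℂ) (g ^ vl u) = σ ((χ : G → ℂ) g)
        rw [← hval, ← hσ]
        rfl
    · intro q q' h
      exact hG (congrArg (fun φ : {φ : IrrCharacter G // _} => (φ.1 : G → ℂ)) h)
    · rintro ⟨φ, σ, hσ, hφ⟩
      have h2 : IsPrimitiveRoot ζ n :=
        IsPrimitiveRoot.of_map_of_injective (f := algebraMap Char.QBar ℂ) hζ
          (algebraMap Char.QBar ℂ).injective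
      have h3 := h2.map_of_injective (Char.restrictQBar σ).injective
      obtain ⟨k, hkn, hk, hke⟩ := (hζ.isPrimitiveRoot_iff).mp h3
      have hkmem : ZMod.unitOfCoprime k hk ∈ Gam hmn := by
        refine MonoidHom.mem_ker.mpr (Units.ext ?_)
        show ZMod.castHom hmn (ZMod m) ((k : ℕ) : ZMod n) = 1
        rw [map_natCast, ← Nat.cast_one, ZMod.natCast_eq_natCast_iff]
        have h4 := (hfix σ).mp hσ
        have hke' : (ζ : ℂ) ^ k = Char.restrictQBar σ ζ := hke
        rw [map_pow, ← Char.restrictQBar_apply, ← hke', ← pow_mul, mul_comm, pow_mul] at h4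
        have h1 : IsPrimitiveRoot ((ζ : ℂ) ^ p ^ a) m := hζ.pow (NeZero.pos n) (by rw [hnm, mul_comm])
        conv_rhs at h4 => rw [← pow_one ((ζ : ℂ) ^ p ^ a)]
        have hm : NeZero m := ⟨hm0⟩
        rw [pow_eq_pow_mod k h1.pow_eq_one, pow_eq_pow_mod 1 h1.pow_eq_one] at h4
        exact h1.pow_inj (Nat.mod_lt _ (Nat.pos_of_ne_zero hm0))
          (Nat.mod_lt _ (Nat.pos_of_ne_zero hm0)) h4
      refine ⟨QuotientGroup.mk ⟨_, hkmem⟩, Subtype.ext (Subtype.ext ?_)⟩
      show f ⟨_, hkmem⟩ = (φ : G → ℂ)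
      rw [hφ]
      funext g
      show (χ : G → ℂ) (g ^ ((k : ℕ) : ZMod n).val) = _
      rw [ZMod.val_natCast, Nat.mod_eq_of_lt hkn, ← Char.map_value_of_pow hζ (Char.restrictQBar σ) hke.symm hχc g]
      rfl
  -- sizes
  have hproj := proj_injective hmn hqn hcop hnm
  have hprojs := proj_surjective hmn hqn hcop hnm
  have : NeZero (p ^ a) := ⟨pow_ne_zero a hp.ne_zero⟩
  have hΓ : Nat.card (Gam hmn) = (p ^ a).totient := by
    rw [Nat.card_congr (Equiv.ofBijective _ ⟨hproj, hprojs⟩), Nat.card_eq_fintype_card,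
      ZMod.card_units_eq_totient]
  set c1 := charDegree (χ : G → ℂ) with hc1def
  obtain ⟨hc1, hc1pos⟩ := Blocks.irr_degree_eq χ
  rw [← hc1def] at hc1 hc1pos
  have hc1n : c1 ∣ n := by
    obtain ⟨d, hd, -, hdvd⟩ := Char.exists_degree_dvd_card χ.2
    rw [hd] at hc1
    rwa [← Nat.cast_injective hc1]
  have hr0 : r ≠ 0 := by rw [hrS]; exact Subgroup.index_ne_zero_of_finite
  have hrΓ : r * Nat.card S = Nat.card (Gam hmn) := by rw [hrS, mul_comm]; exact S.card_mul_index
  rw [Nat.factorization_mul hr0 hc1pos.ne', Finsupp.add_apply]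
  have hcle : c1.factorization p ≤ a := by
    have h := (Nat.factorization_le_iff_dvd hc1pos.ne' hn0).mpr hc1n p
    exact h
  by_cases ha : a = 0
  · have hr1 : r = 1 := by
      have := Dvd.intro _ hrΓ
      rw [hΓ, ha, pow_zero, Nat.totient_one] at this
      exact Nat.dvd_one.mp this
    subst hr1
    refine ⟨by simp only [Nat.factorization_one, Finsupp.coe_zero, Pi.zero_apply]; omega, fun _ => ?_⟩
    rw [ha, pow_zero]; exact one_dvd _
  have hφ : (p ^ a).totient = p ^ (a - 1) * (p - 1) := Nat.totient_prime_pow hp (Nat.pos_of_ne_zero ha)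
  have hp1 : ¬ p ∣ p - 1 := fun h => by
    have := Nat.le_of_dvd (by have := hp.two_le; omega) h
    have := hp.two_le
    omega
  have hp10 : p - 1 ≠ 0 := by have := hp.two_le; omega
  have hvS : r.factorization p + (Nat.card S).factorization p = a - 1 := by
    have := congrArg (fun k => k.factorization p) (hrΓ.trans (hΓ.trans hφ))
    simp only [Nat.factorization_mul hr0 Nat.card_pos.ne',
      Nat.factorization_mul (pow_ne_zero _ hp.ne_zero) hp10, Finsupp.coe_add, Pi.add_apply,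
      Nat.factorization_eq_zero_of_not_dvd hp1, Nat.factorization_pow, Finsupp.coe_smul,
      Pi.smul_apply, hp.factorization_self, smul_eq_mul, mul_one, add_zero] at this
    exact this
  have horth : ∀ u, ∑ g, f u g * conj ((χ : G → ℂ) g) = if u ∈ S then (n : ℂ) else 0 := by
    intro u
    have hnC : (n : ℂ) ≠ 0 := Nat.cast_ne_zero.mpr hn0
    split_ifs with hu
    · have h := Char.classInner_irr_self χ.2
      unfold classInner at h
      rw [← hndef, inv_mul_eq_one₀ hnC] at h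
      rw [show f u = (χ : G → ℂ) from hu]
      exact h.symm
    · have h := Char.classInner_irr_ne (hfirr u) χ.2 hu
      unfold classInner at h
      exact (mul_eq_zero.mp h).resolve_left (inv_ne_zero (Nat.cast_ne_zero.mpr hn0))
  have hdeg0 : (χ : G → ℂ) 1 ≠ 0 := Char.irr_degree_ne_zero χ.2
  -- a test function gives integrality
  have key : ∀ (c : Gam hmn → ℂ) (P : ℕ),
      (∀ g : G, Dvd' P (∑ u, c u * (χ : G → ℂ) (g ^ vl u))) → P ≠ 0 →
      IsIntegral ℤ ((n : ℂ) * (∑ u ∈ Finset.univ.filter (· ∈ S), c u) / (c1 * P)) := by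
    intro c P h hP
    choose w hw hweq using h
    let F : G → ℂ := fun g => (∑ u, c u * (χ : G → ℂ) (g ^ vl u)) * conj ((χ : G → ℂ) g) / (c1 * P)
    have hF : IsClassFunction G F := fun g h => by
      simp only [F]
      congr 1
      congr 1
      · exact Finset.sum_congr rfl fun u _ => by rw [conj_pow, Char.isClassFunction_irr χ]
      · rw [Char.isClassFunction_irr χ]
    have hint : IsIntegral ℤ (∑ g, F g) := by
      refine Char.isIntegral_sum_classFunction (fun g => ?_) hF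
      have e : ((Subgroup.centralizer ({g} : Set G)).index : ℂ) * F g =
          w g * conj (Char.omega (χ : G → ℂ) g) := by
        simp only [F, Char.omega, map_div₀, map_mul, map_natCast, hweq g, hc1]
        have : (c1 : ℂ) ≠ 0 := Nat.cast_ne_zero.mpr hc1pos.ne'
        have : (P : ℂ) ≠ 0 := Nat.cast_ne_zero.mpr hP
        field_simp
      rw [e]
      exact (hw g).mul (Char.isIntegral_conj (Char.isIntegral_omega_irr χ.2 g))
    suffices e : ∑ g, F g =
        (n : ℂ) * (∑ u ∈ Finset.univ.filter (· ∈ S), c u) / (c1 * P) by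
      rw [← e]; exact hint
    simp only [F]
    rw [← Finset.sum_div]
    congr 1
    simp only [Finset.sum_mul]
    rw [Finset.sum_comm, Finset.mul_sum, Finset.sum_filter]
    refine Finset.sum_congr rfl fun u _ => ?_
    simp only [mul_assoc, ← Finset.mul_sum]
    rw [show ∑ g, (χ : G → ℂ) (g ^ vl u) * conj ((χ : G → ℂ) g) = _ from horth u]
    split_ifs <;> ring
  -- the bound
  have hmain : r.factorization p + c1.factorization p ≤ a := by
    have hdvd : ∀ g : G, Dvd' (p ^ (a - 1)) (∑ u, (1 : ℂ) * (χ : G → ℂ) (g ^ vl u)) := by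
      intro g
      obtain ⟨d, ρ, -, hρ⟩ := χ.2
      obtain ⟨μ, hμ, hμk⟩ := Char.character_pow_eq_sum ρ g
      simp only [one_mul, ← hρ, hμk]
      rw [Finset.sum_comm]
      exact Dvd'.sum _ _ fun i _ => (twist_sum hmn hqn hp ha rfl hcop hnm
        (orderOf_dvd_iff_pow_eq_one.mp (Dvd.dvd.trans
          (orderOf_dvd_of_pow_eq_one (hμ i)) (orderOf_dvd_natCard g)))).1
    have h := key (fun _ => 1) (p ^ (a - 1)) hdvd (pow_ne_zero _ hp.ne_zero)
    rw [Finset.sum_const, nsmul_one, ← Fintype.card_subtype, ← Nat.card_eq_fintype_card,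
      ← Nat.cast_mul, ← Nat.cast_mul] at h
    have h2 := Char.dvd_of_isIntegral_div (Nat.mul_ne_zero hc1pos.ne' (pow_ne_zero _ hp.ne_zero)) h
    have hS0 : Nat.card {u // u ∈ S} ≠ 0 := Nat.card_pos.ne'
    have h3 : (c1 * p ^ (a - 1)).factorization p ≤ (n * Nat.card {u // u ∈ S}).factorization p :=
      (Nat.factorization_le_iff_dvd (Nat.mul_ne_zero hc1pos.ne' (pow_ne_zero _ hp.ne_zero))
        (Nat.mul_ne_zero hn0 hS0)).mpr h2 p
    have h4 : (c1 * p ^ (a - 1)).factorization p = c1.factorization p + (a - 1) := by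
      simp [Nat.factorization_mul hc1pos.ne' (pow_ne_zero _ hp.ne_zero), hp.factorization_self]
    have h5 : (n * Nat.card {u // u ∈ S}).factorization p = a + (Nat.card S).factorization p := by
      rw [Nat.factorization_mul hn0 hS0, Finsupp.add_apply]
    omega
  refine ⟨hmain, fun hdvd => ?_⟩
  have heq : r.factorization p + c1.factorization p = a := by
    refine le_antisymm hmain ?_
    have := (hp.pow_dvd_iff_le_factorization (Nat.mul_ne_zero hr0 hc1pos.ne')).mp hdvd
    rwa [Nat.factorization_mul hr0 hc1pos.ne', Finsupp.add_apply] at this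
  rw [hp.pow_dvd_iff_le_factorization hc1pos.ne']
  set d := r.factorization p with hd
  by_contra hlt
  have hd1 : 1 ≤ d := by omega
  have had : d + 1 ≤ a := by omega
  -- the levels
  have hdi : ∀ i : ℕ, p ^ (min i a) ∣ n := fun i => (pow_dvd_pow p (min_le_right i a)).trans hqn
  let U : ℕ → Subgroup (Gam hmn) := fun i => (proj hmn (hdi i)).ker
  have hUmem : ∀ i, i ≤ a → ∀ u, u ∈ U i ↔ ((vl u : ℕ) : ZMod (p ^ i)) = 1 := by
    intro i hi u
    have h1 : u ∈ U i ↔ ((vl u : ℕ) : ZMod (p ^ min i a)) = 1 := by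
      rw [MonoidHom.mem_ker, Units.ext_iff, proj_val, Units.val_one]
    rwa [min_eq_left hi] at h1
  have hUa : U a = ⊥ := by
    rw [Subgroup.eq_bot_iff_forall]
    intro u hu
    apply hproj
    rw [map_one]
    refine Units.ext ?_
    rw [proj_val, Units.val_one]
    exact (hUmem a le_rfl u).mp hu
  have hUcard : ∀ i, 1 ≤ i → i ≤ a → Nat.card (U i) = p ^ (a - i) := by
    intro i hi1 hia
    have : NeZero (p ^ min i a) := ⟨pow_ne_zero _ hp.ne_zero⟩
    have hsurj : Function.Surjective (proj hmn (hdi i)) := by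
      intro v
      obtain ⟨w, hw⟩ := ZMod.unitsMap_surjective (pow_dvd_pow p (min_le_right i a)) v
      obtain ⟨u, hu⟩ := hprojs w
      refine ⟨u, ?_⟩
      rw [← hw, ← hu]
      show ZMod.unitsMap (hdi i) (u : (ZMod n)ˣ) =
        ZMod.unitsMap (pow_dvd_pow p (min_le_right i a)) (ZMod.unitsMap hqn (u : (ZMod n)ˣ))
      rw [← MonoidHom.comp_apply, ZMod.unitsMap_comp]
    have h1 := (U i).card_mul_index
    rw [Subgroup.index_ker, MonoidHom.range_eq_top.mpr hsurj, Subgroup.card_top,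
      Nat.card_eq_fintype_card (α := (ZMod (p ^ min i a))ˣ), ZMod.card_units_eq_totient, hΓ,
      min_eq_left hia, Nat.totient_prime_pow hp hi1, hφ] at h1
    refine Nat.eq_of_mul_eq_mul_right (Nat.mul_pos (pow_pos hp.pos (i - 1)) (Nat.pos_of_ne_zero hp10)) ?_
    rw [h1, ← mul_assoc, ← pow_add]
    congr 2
    omega
  have hex : ∃ j, U j ≤ S ∧ 1 ≤ j ∧ j ≤ a := ⟨a, hUa ▸ bot_le, Nat.pos_of_ne_zero ha, le_rfl⟩
  obtain ⟨j, ⟨hjS, hj1, hja⟩, hjmin⟩ : ∃ j, (U j ≤ S ∧ 1 ≤ j ∧ j ≤ a) ∧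
      ∀ i < j, ¬ (U i ≤ S ∧ 1 ≤ i ∧ i ≤ a) :=
    ⟨Nat.find hex, Nat.find_spec hex, fun i hi => Nat.find_min hex hi⟩
  have hjd : d + 1 ≤ j := by
    have h1 : p ^ (a - j) ∣ Nat.card S := hUcard j hj1 hja ▸ Subgroup.card_dvd_of_le hjS
    have h2 := (hp.pow_dvd_iff_le_factorization Nat.card_pos.ne').mp h1
    omega
  have hUle : U j ≤ U (j - 1) := fun u hu => by
    rw [hUmem (j - 1) (by omega) u]
    have h := (hUmem j hja u).mp hu
    have h2 := congrArg (ZMod.castHom (pow_dvd_pow p (Nat.sub_le j 1)) (ZMod (p ^ (j - 1)))) h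
    rwa [map_natCast, map_one] at h2
  have hcap : ∀ s ∈ S, s ∈ U (j - 1) → s ∈ U j := by
    have hne : S ⊓ U (j - 1) ≠ U (j - 1) := fun he =>
      hjmin (j - 1) (by omega) ⟨he ▸ inf_le_left, by omega, by omega⟩
    have hle : U j ≤ S ⊓ U (j - 1) := le_inf hjS hUle
    intro s hs hs1
    suffices h : U j = S ⊓ U (j - 1) from h ▸ Subgroup.mem_inf.mpr ⟨hs, hs1⟩
    refine Subgroup.eq_of_le_of_card_ge hle ?_
    have h1 := Subgroup.card_dvd_of_le (inf_le_right : S ⊓ U (j - 1) ≤ U (j - 1))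
    rw [hUcard (j - 1) (by omega) (by omega)] at h1
    obtain ⟨i, hi, hie⟩ := (Nat.dvd_prime_pow hp).mp h1
    have hi' : i ≠ a - (j - 1) := fun h => hne (Subgroup.eq_of_le_of_card_ge inf_le_right (by
      rw [hUcard (j - 1) (by omega) (by omega), hie, h]))
    rw [hie, hUcard j hj1 hja]
    exact Nat.pow_le_pow_right hp.pos (by omega)
  -- the test root of unity
  set E := n / p ^ j with hEdef
  have hjn : p ^ j ∣ n := (pow_dvd_pow p hja).trans hqn
  have hEn : E * p ^ j = n := Nat.div_mul_cancel hjn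
  let x : Char.QBar := ζ ^ E
  have hx : IsPrimitiveRoot (x : ℂ) (p ^ j) := by
    show IsPrimitiveRoot (((ζ ^ E : Char.QBar)) : ℂ) (p ^ j)
    push_cast
    exact hζ.pow (NeZero.pos n) hEn.symm
  have hxn : (x : ℂ) ^ n = 1 := by rw [← hEn, mul_comm, pow_mul, hx.pow_eq_one, one_pow]
  have hψx : ∀ u, ψ u x = (x : ℂ) ^ vl u := fun u => by
    show ψ u (ζ ^ E) = (((ζ ^ E : Char.QBar)) : ℂ) ^ vl u
    push_cast
    rw [map_pow, hψ, ← pow_mul, ← pow_mul, mul_comm]
  set K := IntermediateField.adjoin ℚ ({(ζ : ℂ)} : Set ℂ) with hK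
  have hζK : (ζ : ℂ) ∈ K := IntermediateField.subset_adjoin ℚ _ rfl
  have hxK : (x : ℂ) ∈ K := by
    show (((ζ ^ E : Char.QBar)) : ℂ) ∈ K
    push_cast
    exact pow_mem hζK E
  have hxint : IsIntegral ℤ (x : ℂ) := isIntegral_of_pow (NeZero.pos n) hxn
  have hb : c1.factorization p = a - d := by omega
  have htest : ∀ g : G, Dvd' (p ^ a) (∑ u, (x : ℂ) ^ vl u * (χ : G → ℂ) (g ^ vl u)) := by
    intro g
    obtain ⟨dd, ρ, -, hρ⟩ := χ.2
    obtain ⟨μ, hμ, hμk⟩ := Char.character_pow_eq_sum ρ g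
    have hμn : ∀ i, μ i ^ n = 1 := fun i => orderOf_dvd_iff_pow_eq_one.mp
      ((orderOf_dvd_of_pow_eq_one (hμ i)).trans (orderOf_dvd_natCard g))
    by_cases hlev : orderOf g ∣ m * p ^ d
    · -- small level
      refine ⟨0, isIntegral_zero, ?_⟩
      rw [mul_zero]
      simp only [← hρ, hμk, Finset.mul_sum, ← mul_pow]
      rw [Finset.sum_comm]
      refine Finset.sum_eq_zero fun i _ => (twist_sum hmn hqn hp ha rfl hcop hnm
        (μ := (x : ℂ) * μ i) ?_).2.1 fun h => ?_
      · rw [mul_pow, hxn, hμn, one_mul]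
      · have h1 : ((x : ℂ) * μ i) ^ (m * p ^ d) = 1 := by
          rw [show m * p ^ d = m * p * p ^ (d - 1) by
            rw [mul_assoc, ← pow_succ', Nat.sub_add_cancel hd1], pow_mul, pow_mul, h, one_pow]
        rw [mul_pow, show μ i ^ (m * p ^ d) = 1 from orderOf_dvd_iff_pow_eq_one.mp
          ((orderOf_dvd_of_pow_eq_one (hμ i)).trans hlev), mul_one, hx.pow_eq_one_iff_dvd] at h1
        have h2 : p ^ j ∣ p ^ d := Nat.Coprime.dvd_of_dvd_mul_left
          ((hcop.coprime_dvd_right (pow_dvd_pow p hja)).symm) h1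
        have := (Nat.pow_dvd_pow_iff_le_right hp.one_lt).mp h2
        omega
    · -- large level: the value is divisible by `p`
      have hog : orderOf g ∣ m * p ^ a := hnm ▸ orderOf_dvd_natCard g
      obtain ⟨y, z, hy, hz, hyz⟩ := Nat.dvd_mul.mp hog
      obtain ⟨i, hia, rfl⟩ := (Nat.dvd_prime_pow hp).mp hz
      have hid : d + 1 ≤ i := by
        by_contra hc
        exact hlev (hyz ▸ Nat.mul_dvd_mul hy (pow_dvd_pow p (by omega)))
      set ix := (Subgroup.centralizer ({g} : Set G)).index with hix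
      have hix0 : ix ≠ 0 := Subgroup.index_ne_zero_of_finite
      have hci : p ^ i ∣ Nat.card (Subgroup.centralizer ({g} : Set G)) :=
        (Dvd.intro_left y hyz).trans (Subgroup.orderOf_dvd_natCard _
          (Subgroup.mem_centralizer_singleton_iff.mpr rfl))
      have hixv : ix.factorization p + i ≤ a := by
        have h1 := (hp.pow_dvd_iff_le_factorization Nat.card_pos.ne').mp hci
        have h2 := congrArg (fun k => k.factorization p) (Subgroup.centralizer ({g} : Set G)).card_mul_index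
        simp only [Nat.factorization_mul Nat.card_pos.ne' hix0, Finsupp.add_apply, ← hix] at h2
        rw [← hndef, ← hadef] at h2
        omega
      set e := ix.factorization p
      have hω := Char.isIntegral_omega_irr χ.2 g
      set qq := ix / p ^ e with hqq
      have hixe : ix = qq * p ^ e := (Nat.div_mul_cancel (Nat.ordProj_dvd ix p)).symm
      set b := c1 / p ^ (a - d) with hbdef
      have hcb : c1 = b * p ^ (a - d) := by
        rw [hbdef, ← hb]; exact (Nat.div_mul_cancel (Nat.ordProj_dvd c1 p)).symm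
      have hqdiv : IsIntegral ℤ ((qq : ℂ) * (χ : G → ℂ) g / (p : ℕ)) := by
        have h1 : (qq : ℂ) * (χ : G → ℂ) g / (p : ℕ) =
            ((b * p ^ (a - d - e - 1) : ℕ) : ℂ) * Char.omega (χ : G → ℂ) g := by
          rw [Char.omega, hc1, ← hix, hixe, hcb, show a - d = (a - d - e - 1) + 1 + e by omega,
            show (a - d - e - 1) + 1 + e - e - 1 = a - d - e - 1 by omega, pow_add, pow_add]
          have hpc : (p : ℂ) ≠ 0 := Nat.cast_ne_zero.mpr hp.ne_zero
          have hbc : (b : ℂ) ≠ 0 := by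
            intro h0
            rw [Nat.cast_eq_zero] at h0
            rw [h0, zero_mul] at hcb
            omega
          push_cast
          field_simp
        rw [h1]
        exact (isIntegral_algebraMap (R := ℤ) (A := ℂ)
          (x := ((b * p ^ (a - d - e - 1) : ℕ) : ℤ))).mul hω
      have hqcop : qq.Coprime p :=
        Nat.coprime_comm.mp (hp.coprime_iff_not_dvd.mpr (Nat.not_dvd_ordCompl hp hix0))
      have hχp : IsIntegral ℤ ((χ : G → ℂ) g / (p : ℕ)) :=
        integral_div_of_coprime hp.ne_zero hqcop (Char.isIntegral_value hχc g) hqdiv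
      let zq : Char.QBar := x * (Char.value hχc g / (p : Char.QBar))
      have hzq : (zq : ℂ) = (x : ℂ) * ((χ : G → ℂ) g / (p : ℕ)) := by
        simp [zq, Char.coe_value]
      have hχK : (χ : G → ℂ) g ∈ K := by
        rw [← hρ, ← pow_one g, hμk]
        refine sum_mem fun k _ => ?_
        have : NeZero n := ⟨hn0⟩
        obtain ⟨l, -, hl⟩ := hζ.eq_pow_of_pow_eq_one (hμn k)
        rw [pow_one, ← hl]
        exact pow_mem hζK l
      obtain ⟨w, hw, hweq⟩ := twist_sum_integral hmn hqn hp ha rfl hcop hnm hζ ψ hψ zq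
        (by rw [hzq]; exact hxint.mul hχp)
        (by rw [hzq]; exact mul_mem hxK (div_mem hχK (natCast_mem K p)))
      refine ⟨w, hw, ?_⟩
      have hterm : ∀ u, (x : ℂ) ^ vl u * (χ : G → ℂ) (g ^ vl u) = (p : ℂ) * ψ u zq := fun u => by
        simp only [zq, map_mul, map_div₀, map_natCast, hψx, hval]
        field_simp [Nat.cast_ne_zero.mpr hp.ne_zero]
      rw [Finset.sum_congr rfl fun u _ => hterm u, ← Finset.mul_sum, hweq, ← mul_assoc]
      congr 1
      rw [← Nat.cast_mul, ← pow_succ', Nat.sub_add_cancel (Nat.pos_of_ne_zero ha)]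
  have hy := key (fun u => (x : ℂ) ^ vl u) (p ^ a) htest (pow_ne_zero _ hp.ne_zero)
  set y := ∑ u ∈ Finset.univ.filter (· ∈ S), (x : ℂ) ^ vl u with hydef
  set b := c1 / p ^ (a - d) with hbdef
  have hcb : c1 = b * p ^ (a - d) := by
    rw [hbdef, ← hb]; exact (Nat.div_mul_cancel (Nat.ordProj_dvd c1 p)).symm
  have hyint : IsIntegral ℤ y := IsIntegral.sum _ fun u _ => hxint.pow _
  have hydiv : IsIntegral ℤ (y / (p ^ (a - d) : ℕ)) := by
    refine integral_div_of_coprime (pow_ne_zero _ hp.ne_zero) (hcop.coprime_dvd_right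
      (pow_dvd_pow p (Nat.sub_le a d))) hyint ?_
    have e : (m : ℂ) * y / (p ^ (a - d) : ℕ) = (b : ℂ) * ((n : ℂ) * y / (c1 * (p ^ a : ℕ))) := by
      have hpc : (p : ℂ) ≠ 0 := Nat.cast_ne_zero.mpr hp.ne_zero
      have hbc : (b : ℂ) ≠ 0 := by
        intro h0
        rw [Nat.cast_eq_zero] at h0
        rw [h0, zero_mul] at hcb
        omega
      rw [hcb, hnm]
      push_cast
      field_simp
    rw [e]
    exact (isIntegral_algebraMap (R := ℤ) (A := ℂ) (x := (b : ℤ))).mul hy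
  let zq : Char.QBar := ((∑ u ∈ Finset.univ.filter (· ∈ S), x ^ vl u) * x ^ (n - 1)) /
    ((p ^ (a - d) : ℕ) : Char.QBar)
  have hzq : (zq : ℂ) = y / (p ^ (a - d) : ℕ) * (x : ℂ) ^ (n - 1) := by
    simp only [zq, hydef]
    push_cast
    ring
  obtain ⟨w, hw, hweq⟩ := twist_sum_integral hmn hqn hp ha rfl hcop hnm hζ ψ hψ zq
    (by rw [hzq]; exact hydiv.mul (hxint.pow _))
    (by
      rw [hzq]
      exact mul_mem (div_mem (sum_mem fun u _ => pow_mem hxK _) (natCast_mem K _)) (pow_mem hxK _))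
  have hcalc : (∑ u, ψ u zq) * (p ^ (a - d) : ℕ) = ((p ^ (a - j) * (p ^ a).totient : ℕ) : ℂ) := by
    have hterm : ∀ u, ψ u zq * (p ^ (a - d) : ℕ) =
        ∑ s ∈ Finset.univ.filter (· ∈ S), ((x : ℂ) ^ (vl s + (n - 1))) ^ vl u := fun u => by
      simp only [zq, map_div₀, map_natCast, map_mul, map_sum, map_pow, hψx]
      rw [div_mul_cancel₀ _ (Nat.cast_ne_zero.mpr (pow_ne_zero _ hp.ne_zero)), Finset.sum_mul]
      refine Finset.sum_congr rfl fun s _ => ?_
      rw [← pow_mul, ← pow_mul, ← pow_mul, ← pow_add]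
      congr 1
      ring
    rw [Finset.sum_mul, Finset.sum_congr rfl fun u _ => hterm u, Finset.sum_comm]
    have hexp : ∀ (s : Gam hmn) (i : ℕ), i ≤ a → (p ^ i ∣ vl s + (n - 1) ↔ s ∈ U i) := by
      intro s i hi
      rw [hUmem i hi, ← ZMod.natCast_eq_zero_iff, Nat.cast_add, Nat.cast_sub (NeZero.pos n),
        Nat.cast_one, (ZMod.natCast_eq_zero_iff n (p ^ i)).mpr
          ((pow_dvd_pow p hi).trans hqn), zero_sub, ← sub_eq_add_neg, sub_eq_zero]
    rw [Finset.sum_congr rfl (g := fun s => if s ∈ U j then (Nat.card (Gam hmn) : ℂ) else 0)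
      fun s hs => ?_]
    · rw [Finset.sum_ite, Finset.sum_const_zero, add_zero, Finset.sum_const, nsmul_eq_mul,
        Finset.filter_filter, Finset.filter_congr (q := fun s => s ∈ U j)
          (fun s _ => ⟨fun h => h.2, fun h => ⟨hjS h, h⟩⟩),
        ← Fintype.card_subtype, ← Nat.card_eq_fintype_card,
        show Nat.card {s // s ∈ U j} = p ^ (a - j) from hUcard j hj1 hja, hΓ, Nat.cast_mul]
    · have hsS := (Finset.mem_filter.mp hs).2
      have hμn : ((x : ℂ) ^ (vl s + (n - 1))) ^ n = 1 := by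
        rw [← pow_mul, mul_comm, pow_mul, hxn, one_pow]
      split_ifs with hsU
      · exact (twist_sum hmn hqn hp ha rfl hcop hnm hμn).2.2
          ((hx.pow_eq_one_iff_dvd _).mpr ((hexp s j hja).mpr hsU))
      · refine (twist_sum hmn hqn hp ha rfl hcop hnm hμn).2.1 fun h => hsU (hcap s hsS ?_)
        rw [← pow_mul, ← pow_mul, hx.pow_eq_one_iff_dvd] at h
        refine (hexp s (j - 1) (by omega)).mp ?_
        have h1 : p ^ j ∣ (vl s + (n - 1)) * p :=
          Nat.Coprime.dvd_of_dvd_mul_left ((hcop.coprime_dvd_right (pow_dvd_pow p hja)).symm)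
            (by rwa [mul_left_comm] at h)
        rw [show p ^ j = p ^ (j - 1) * p by rw [← pow_succ, Nat.sub_add_cancel hj1]] at h1
        exact Nat.dvd_of_mul_dvd_mul_right hp.pos h1
  rw [hweq] at hcalc
  have hfin : IsIntegral ℤ (((p ^ (a - j) * (p ^ a).totient : ℕ) : ℂ) /
      ((p ^ (a - 1) * p ^ (a - d) : ℕ) : ℂ)) := by
    rw [← hcalc, Nat.cast_mul]
    have h1 : ((p ^ (a - 1) : ℕ) : ℂ) ≠ 0 := Nat.cast_ne_zero.mpr (pow_ne_zero _ hp.ne_zero)
    have h2 : ((p ^ (a - d) : ℕ) : ℂ) ≠ 0 := Nat.cast_ne_zero.mpr (pow_ne_zero _ hp.ne_zero)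
    field_simp
    exact hw
  have h2 := Char.dvd_of_isIntegral_div (Nat.mul_ne_zero (pow_ne_zero _ hp.ne_zero)
    (pow_ne_zero _ hp.ne_zero)) hfin
  rw [hφ, ← mul_assoc, ← pow_add, ← pow_add] at h2
  have h3 := Nat.Coprime.dvd_of_dvd_mul_right
    ((hp.coprime_iff_not_dvd.mpr hp1).pow_left _) h2
  have h4 := (Nat.pow_dvd_pow_iff_le_right hp.one_lt).mp h3
  omega

end Cfsg.Agent.S4506
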