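import Cfsg.Statements.S4507
import Cfsg.Agent.Lib.Blocks.PrimeDefect.Full

set_option autoImplicit false
open Cfsg
open scoped CfsgLib.Char

namespace Cfsg.Agent.S4507

/-- Let G be a finite group whose order g is divisible by the prime p exactly once, g′ = g/p, and fix a maximal ideal M of the algebraic integers containing p. Call two irreducible characters p-conjugate when a field automorphism of ℂ fixing the g′-th roots of unity carries one to the other. Let B be a p-block of positive defect (its defect group is a Sylow p-subgroup). Then B contains a subset Y (the exceptional family) such that: Y is a full p-conjugacy class (its members are pairwise p-conjugate and every p-conjugate of a member of Y lies in Y); every member of B outside Y is p-conjugate only to itself; the size t of Y divides p − 1 and B has exactly t + (p − 1)/t members; and there are signs δ_χ = ±1 (χ ∈ B) such that for every p-regular element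 x and every θ ∈ Y, Σ_{χ ∈ B ∖ Y} δ_χ χ(x) + δ_θ θ(x) = 0. -/
theorem result {G : Type*} [Group G] [Finite G] (p : ℕ) [Fact p.Prime] (M : Ideal Cfsg.AlgInt) (hM : Cfsg.IsPModular p M) (hdiv : p ∣ Nat.card G) (hsq : ¬ p ^ 2 ∣ Nat.card G) (B : Set (Cfsg.IrrCharacter G)) (hB : Cfsg.IsPBlock M B) (hd : 0 < Cfsg.blockDefect p B) : ∃ Y : Set (Cfsg.IrrCharacter G), Y ⊆ B ∧ Y.Nonempty ∧ (∀ θ ∈ Y, ∀ ψ : Cfsg.IrrCharacter G, (∃ σ : ℂ ≃+* ℂ, σ (Complex.exp (2 * Real.pi * Complex.I / ((Nat.card G / p ^ (Nat.card G).factorization p) : ℕ))) = Complex.exp (2 * Real.pi * Complex.I / ((Nat.card G / p ^ (Nat.card G).factorization p) : ℕ)) ∧ (ψ : G → ℂ) = fun g => σ ((θ : G → ℂ) g)) ↔ ψ ∈ Y) ∧ (∀ χ ∈ B, χ ∉ Y → ∀ ψ : Cfsg.IrrCharacter G, (∃ σ : ℂ ≃+* ℂ, σ (Complex.exp (2 * Real.pi * Complex.I / ((Nat.card G / p ^ (Nat.card G).factorization p) : ℕ))) = Complex.exp (2 * Real.pi * Complex.I / ((Nat.card G / p ^ (Nat.card G).factorization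 p) : ℕ)) ∧ (ψ : G → ℂ) = fun g => σ ((χ : G → ℂ) g)) → ψ = χ) ∧ Nat.card Y ∣ p - 1 ∧ Nat.card B = Nat.card Y + (p - 1) / Nat.card Y ∧ ∃ δ : Cfsg.IrrCharacter G → ℤ, (∀ χ ∈ B, δ χ = 1 ∨ δ χ = -1) ∧ ∀ x : G, ¬ p ∣ orderOf x → ∀ θ ∈ Y, (∑ᶠ χ ∈ B \ Y, (δ χ : ℂ) * (χ : G → ℂ) x) + (δ θ : ℂ) * (θ : G → ℂ) x = 0 := by
  classical
  haveI : Fintype G := Fintype.ofFinite G
  obtain ⟨S, rfl⟩ := CfsgLib.Blocks.PrimeDefect.exists_setup hM hB hdiv hsq hd
  have hm : Nat.card G / p ^ (Nat.card G).factorization p ≠ 0 :=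
    (Nat.ordCompl_pos p Nat.card_pos.ne').ne'
  obtain ⟨Y, δ, hYc, hdvd, hYB, hBc, horb, hfix, hδ, hrel⟩ :=
    S.galois_families (Complex.isPrimitiveRoot_exp _ hm)
  have hp1 : p - 1 ≠ 0 := Nat.sub_ne_zero_of_lt (Fact.out : p.Prime).one_lt
  have hY : Nat.card (Y : Set (Cfsg.IrrCharacter G)) = (p - 1) / S.e := by
    rw [Nat.card_eq_card_toFinset, Finset.toFinset_coe, hYc]
  refine ⟨(Y : Set _), fun ψ hψ => hYB ψ hψ, ?_, fun θ hθ ψ => ?_, fun χ hχ hχY ψ hψ => ?_, ?_, ?_,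
    δ, hδ, fun x hx θ hθ => hrel θ hθ x hx⟩
  · rw [Finset.coe_nonempty, ← Finset.card_pos, hYc]
    exact Nat.div_pos (Nat.le_of_dvd (Nat.pos_of_ne_zero hp1) hdvd) S.e_pos
  · rw [Finset.mem_coe, ← horb θ hθ ψ]
    exact exists_congr fun σ => and_congr_right'
      (Subtype.ext_iff (a1 := ψ) (a2 := CfsgLib.Blocks.PrimeDefect.galIrr σ θ)).symm
  · obtain ⟨σ, hσ, h⟩ := hψ
    rw [← hfix χ hχ hχY σ hσ]
    exact Subtype.ext h
  · rw [hY]; exact Nat.div_dvd_of_dvd hdvd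
  · rw [hY, hBc, Nat.div_div_self hdvd hp1]

end Cfsg.Agent.S4507
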