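import Cfsg.Statements.S4508
import Cfsg.Agent.Lib.Char.CanonicalExtension
import Cfsg.Agent.Lib.Char.PResidual
import Cfsg.Agent.Lib.Char.Artin
import Cfsg.Agent.Lib.Char.Table

set_option autoImplicit false
set_option linter.style.haveILetI false
open Cfsg
open CfsgLib
open scoped CfsgLib.Char ComplexConjugate Pointwise

namespace Cfsg.Agent.S4508

/-- For a commutative group the norm of a character is at least the square of the multiplicity of
the trivial character plus the rest of the degree. -/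
theorem inner_bound {H : Type*} [Group H] [Fintype H] (hc : ∀ a b : H, a * b = b * a) {φ : H → ℂ}
    (hφ : IsCharacter H φ) (d : ℕ) (hd : φ 1 = d) :
    ∃ m N : ℕ, classInner φ (fun _ => 1) = m ∧ classInner φ φ = N ∧ m * m + d ≤ N + m := by
  classical
  obtain ⟨c, hcφ⟩ := Char.exists_multiplicities hφ
  let o : IrrCharacter H := ⟨fun _ => 1, Char.isIrrCharacter_one⟩
  refine ⟨c o, ∑ ψ, c ψ * c ψ, ?_, ?_, ?_⟩
  · rw [hcφ]
    exact Char.classInner_sum_smul_irr (fun ψ => (c ψ : ℂ)) o
  · rw [hcφ, Char.classInner_sum_smul_sum_smul]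
    push_cast
    exact Finset.sum_congr rfl fun ψ _ => by rw [map_natCast]
  · have hdc : d = ∑ ψ, c ψ := by
      have : (d : ℂ) = ((∑ ψ, c ψ : ℕ) : ℂ) := by
        rw [← hd, hcφ, Finset.sum_apply]
        push_cast
        exact Finset.sum_congr rfl fun ψ _ => by
          rw [Pi.smul_apply, Char.degree_one_of_comm hc ψ, smul_eq_mul, mul_one]
      exact_mod_cast this
    rw [hdc, ← Finset.add_sum_erase _ c (Finset.mem_univ o),
      ← Finset.add_sum_erase _ (fun ψ => c ψ * c ψ) (Finset.mem_univ o)]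
    have : ∑ ψ ∈ Finset.univ.erase o, c ψ ≤ ∑ ψ ∈ Finset.univ.erase o, c ψ * c ψ :=
      Finset.sum_le_sum fun ψ _ => Nat.le_mul_self _
    omega

/-- Without fixed vectors the operators of a group sum to zero. -/
theorem sum_eq_zero_of_inner {H : Type*} [Group H] [Fintype H] {d : ℕ}
    (σ : Representation ℂ H (Fin d → ℂ)) (h : classInner σ.character (fun _ => 1) = 0) :
    ∑ w : H, σ w = 0 := by
  have : Invertible (Nat.card H : ℂ) := invertibleOfNonzero (Nat.cast_ne_zero.mpr Nat.card_pos.ne')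
  have h1 : (Module.finrank ℂ σ.invariants : ℂ) = 0 := by
    rw [← Representation.card_inv_mul_sum_char_eq_finrank, ← h]
    simp [classInner]
  have h2 : σ.invariants = ⊥ := Submodule.finrank_eq_zero.mp (by exact_mod_cast h1)
  refine LinearMap.ext fun v => ?_
  have h3 : (∑ w : H, σ w) v ∈ σ.invariants := by
    rw [Representation.mem_invariants]
    intro u
    rw [LinearMap.sum_apply, map_sum]
    refine Fintype.sum_equiv (Equiv.mulLeft u) _ _ fun w => ?_
    show σ u (σ w v) = σ (u * w) v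
    rw [map_mul]; rfl
  rw [h2, Submodule.mem_bot] at h3
  exact h3

/-- Vanishing at the elements acting without fixed points on such a subgroup. -/
theorem vanish_of_fpf {G : Type*} [Group G] [Finite G] {d : ℕ}
    (ρ : Representation ℂ G (Fin d → ℂ)) (P : Subgroup G) [Fintype P]
    (hzero : ∑ w : P, ρ (w : G) = 0) {s : G} (hs : s ∈ Subgroup.normalizer (P : Set G))
    (hfix : ∀ y ∈ P, Commute y s → y = 1) : ρ.character s = 0 := by
  have hz : ∀ y : P, s⁻¹ * (y : G) * s * (y : G)⁻¹ ∈ P := fun y =>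
    mul_mem ((Subgroup.mem_normalizer_iff''.mp hs _).mp y.2) (inv_mem y.2)
  have hinj : Function.Injective (fun y : P => (⟨_, hz y⟩ : P)) := by
    intro y y' h
    have h' : s⁻¹ * (y : G) * s * (y : G)⁻¹ = s⁻¹ * (y' : G) * s * (y' : G)⁻¹ :=
      congrArg Subtype.val h
    simp only [mul_assoc, mul_right_inj] at h'
    have hc : Commute ((y' : G)⁻¹ * (y : G)) s := by
      show (y' : G)⁻¹ * y * s = s * ((y' : G)⁻¹ * y)
      calc (y' : G)⁻¹ * y * s = (y' : G)⁻¹ * ((y : G) * (s * (y : G)⁻¹)) * y := by group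
        _ = s * ((y' : G)⁻¹ * y) := by rw [h']; group
    exact Subtype.ext (inv_mul_eq_one.mp (hfix _ (mul_mem (inv_mem y'.2) y.2) hc)).symm
  have h1 : ∑ w : P, ρ.character (s * (w : G)) = 0 := by
    simp only [Representation.character, map_mul, ← map_sum, ← Finset.mul_sum, hzero, mul_zero,
      map_zero]
  rw [← Fintype.sum_bijective _ (Finite.injective_iff_bijective.mp hinj)
    (fun _ => ρ.character s) (fun w => ρ.character (s * (w : G))) (fun y => ?_),
    Finset.sum_const, Finset.card_univ, nsmul_eq_mul] at h1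
  · exact (mul_eq_zero.mp h1).resolve_left (Nat.cast_ne_zero.mpr Fintype.card_ne_zero)
  · have e : s * (s⁻¹ * (y : G) * s * (y : G)⁻¹) = (y : G) * s * (y : G)⁻¹ := by group
    show ρ.character s = ρ.character (s * (s⁻¹ * (y : G) * s * (y : G)⁻¹))
    rw [e, Representation.char_conj]

/-- An element whose character is an odd multiple of the regular one has determinant `-1`. -/
theorem det_eq_neg_one {G : Type*} [Group G] [Finite G] {d : ℕ}
    (ρ : Representation ℂ G (Fin d → ℂ)) (g : G) {m : ℕ} (hm : orderOf g = m) (hme : Even m)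
    (k : ℕ) (hk : k * m = d) (hko : Odd k)
    (hvan : ∀ l : ℕ, g ^ l ≠ 1 → ρ.character (g ^ l) = 0) :
    (Char.detHom ρ g : ℂ) = -1 := by
  classical
  obtain ⟨b, μ, h1, h2⟩ := Char.exists_eigenBasis ρ g
  rw [hm] at h1
  have hm0 : m ≠ 0 := hm ▸ (orderOf_pos g).ne'
  have hdet : (Char.detHom ρ g : ℂ) = ∏ i, μ i := by
    rw [Char.detHom_apply, ← LinearMap.det_toMatrix b]
    have e : LinearMap.toMatrix b b (ρ g) = Matrix.diagonal μ := by
      ext i j
      rw [LinearMap.toMatrix_apply, ← pow_one g, h2 j 1]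
      by_cases hij : i = j
      · subst hij; simp
      · simp [hij]
    rw [e, Matrix.det_diagonal]
  obtain ⟨ζ, hζ⟩ : ∃ ζ : ℂ, IsPrimitiveRoot ζ m := ⟨_, Complex.isPrimitiveRoot_exp m hm0⟩
  have hprod := Char.prod_eq_of_power_sums (κ := Fin k × Fin m) hm0 μ
    (fun q => ζ ^ (q.2 : ℕ)) h1 (fun q => by rw [← pow_mul, mul_comm, pow_mul, hζ.pow_eq_one,
      one_pow]) (fun l => ?_)
  · rw [hdet, hprod, Fintype.prod_prod_type]
    dsimp only
    rw [Finset.prod_const, Finset.card_univ,
      Fintype.card_fin, Fin.prod_univ_eq_prod_range (fun j => ζ ^ j) m,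
      Finset.prod_pow_eq_pow_sum, Finset.sum_range_id]
    obtain ⟨r, hr⟩ := hme
    have hr2 : m * (m - 1) / 2 = r * (2 * r - 1) := by
      have : m = 2 * r := by omega
      subst this
      rw [mul_assoc, Nat.mul_div_cancel_left _ two_pos]
    have hζr : ζ ^ r = -1 := by
      have h4 : ζ ^ r * ζ ^ r = 1 := by rw [← pow_add, ← hr, hζ.pow_eq_one]
      rcases mul_self_eq_one_iff.mp h4 with h | h
      · exact absurd ((hζ.pow_eq_one_iff_dvd r).mp h) (fun h' => by
          have := Nat.le_of_dvd (by omega) h'; omega)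
      · exact h
    have hodd : Odd (2 * r - 1) := ⟨r - 1, by omega⟩
    rw [hr2, pow_mul, hζr, hodd.neg_one_pow, hko.neg_one_pow]
  · have hl : ρ.character (g ^ l) = ∑ i, μ i ^ l :=
      Char.trace_eq_sum_of_diag b _ _ fun i => h2 i l
    rw [← hl, Fintype.sum_prod_type]
    dsimp only
    rw [Finset.sum_const, Finset.card_univ, Fintype.card_fin,
      nsmul_eq_mul]
    simp only [← pow_mul, mul_comm _ l]
    simp only [pow_mul]
    rw [Fin.sum_univ_eq_sum_range (fun j => (ζ ^ l) ^ j) m]
    by_cases h : g ^ l = 1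
    · have : ζ ^ l = 1 := (hζ.pow_eq_one_iff_dvd l).mpr (hm ▸ orderOf_dvd_of_pow_eq_one h)
      rw [h, Representation.char_one, Module.finrank_fin_fun, this, ← hk]
      simp
    · have : ζ ^ l ≠ 1 := fun h' => h (orderOf_dvd_iff_pow_eq_one.mp
        (hm ▸ (hζ.pow_eq_one_iff_dvd l).mp h'))
      rw [hvan l h, geom_sum_eq this, ← pow_mul, mul_comm l, pow_mul, hζ.pow_eq_one, one_pow,
        sub_self, zero_div, mul_zero]

/-- Let the finite group G contain an element x of prime order p with C_G(x) = ⟨x⟩, and let t be the number of conjugacy classes of elements of order p. If G has an irreducible character of degree p − 1, then t is even or the commutator subgroup has even index. -/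
theorem result {G : Type*} [Group G] [Finite G] (p : ℕ) (hp : p.Prime) (x : G) (hx : orderOf x = p) (hC : Subgroup.centralizer ({x} : Set G) = Subgroup.zpowers x) (t : ℕ) (ht : Nat.card {C : ConjClasses G // ∃ g ∈ C.carrier, orderOf g = p} = t) (χ : Cfsg.IrrCharacter G) (hχ : Cfsg.charDegree (χ : G → ℂ) + 1 = p) : Even t ∨ Even (commutator G).index := by
  classical
  have : Fintype G := Fintype.ofFinite G
  have : Fact p.Prime := ⟨hp⟩
  set P := Subgroup.zpowers x with hPdef
  have hPcard : Nat.card P = p := by rw [hPdef, Nat.card_zpowers, hx]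
  -- elements of `P`
  have hgen : ∀ y ∈ P, y ≠ 1 → Subgroup.zpowers y = P := by
    intro y hy hy1
    have hle : Subgroup.zpowers y ≤ P := Subgroup.zpowers_le.mpr hy
    refine Subgroup.eq_of_le_of_card_ge hle ?_
    rw [hPcard, Nat.card_zpowers]
    rcases hp.eq_one_or_self_of_dvd _ (hPcard ▸ Subgroup.orderOf_dvd_natCard P hy) with h | h
    · exact absurd (orderOf_eq_one_iff.mp h) hy1
    · exact h.ge
  have hord : ∀ y ∈ P, y ≠ 1 → orderOf y = p := by
    intro y hy hy1
    rw [← Nat.card_zpowers, hgen y hy hy1, hPcard]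
  have hcomm : ∀ y ∈ P, y ≠ 1 → ∀ z : G, Commute y z → z ∈ P := by
    intro y hy hy1 z hz
    rw [← hC, Subgroup.mem_centralizer_singleton_iff]
    obtain ⟨k, hk⟩ := Subgroup.mem_zpowers_iff.mp
      (show x ∈ Subgroup.zpowers y from (hgen y hy hy1).symm ▸ Subgroup.mem_zpowers x)
    rw [← hk]
    exact ((hz.zpow_left k).eq).symm
  have hCy : ∀ y ∈ P, y ≠ 1 → Subgroup.centralizer ({y} : Set G) = P := by
    intro y hy hy1
    refine le_antisymm (fun z hz => hcomm y hy hy1 z
      (Subgroup.mem_centralizer_singleton_iff.mp hz).symm) fun z hz => ?_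
    rw [Subgroup.mem_centralizer_singleton_iff]
    obtain ⟨k, hk⟩ := Subgroup.mem_zpowers_iff.mp
      (show z ∈ Subgroup.zpowers y from (hgen y hy hy1).symm ▸ hz)
    rw [← hk]
    exact ((Commute.refl y).zpow_left k).eq
  -- `P` is a Sylow subgroup
  have hPp : IsPGroup p P := IsPGroup.of_card (n := 1) (by rw [hPcard, pow_one])
  obtain ⟨Q0, hQ0⟩ := hPp.exists_le_sylow
  have hQeq : (Q0 : Subgroup G) = P := by
    refine le_antisymm ?_ hQ0
    have : Nontrivial (Q0 : Subgroup G) := by
      refine ⟨⟨1, ⟨x, hQ0 (Subgroup.mem_zpowers x)⟩, fun e => ?_⟩⟩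
      exact hp.ne_one (hx ▸ orderOf_eq_one_iff.mpr (congrArg Subtype.val e).symm)
    have := Q0.2.center_nontrivial
    obtain ⟨z, hz1⟩ := exists_ne (1 : Subgroup.center (Q0 : Subgroup G))
    have hzc : ∀ w : (Q0 : Subgroup G), w * (z : (Q0 : Subgroup G)) = z * w := fun w =>
      Subgroup.mem_center_iff.mp z.2 w
    have hzP : (((z : (Q0 : Subgroup G))) : G) ∈ P := by
      rw [← hC, Subgroup.mem_centralizer_singleton_iff]
      exact (congrArg Subtype.val (hzc ⟨x, hQ0 (Subgroup.mem_zpowers x)⟩)).symm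
    intro w hw
    refine hcomm _ hzP (fun e => hz1 (Subtype.ext (Subtype.ext e))) w ?_
    exact (congrArg Subtype.val (hzc ⟨w, hw⟩)).symm
  have hintoP : ∀ g : G, orderOf g = p → ∃ c : G, c * g * c⁻¹ ∈ P ∧ c * g * c⁻¹ ≠ 1 := by
    intro g hg
    have hgp : IsPGroup p (Subgroup.zpowers g) :=
      IsPGroup.of_card (n := 1) (by rw [Nat.card_zpowers, hg, pow_one])
    obtain ⟨Q, hQ⟩ := hgp.exists_le_sylow
    obtain ⟨c, hc⟩ := MulAction.exists_smul_eq G Q Q0
    refine ⟨c, ?_, ?_⟩
    · rw [← hQeq, ← hc]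
      have : c * g * c⁻¹ ∈ (MulAut.conj c • (Q : Subgroup G)) :=
        ⟨g, hQ (Subgroup.mem_zpowers g), rfl⟩
      exact this
    · intro e
      rw [conj_eq_one_iff] at e
      rw [e, orderOf_one] at hg
      exact hp.ne_one hg.symm
  -- fusion in `P` happens in the normaliser
  have hfus : ∀ y ∈ P, y ≠ 1 → ∀ c : G, c * y * c⁻¹ ∈ P →
      c ∈ Subgroup.normalizer (P : Set G) := by
    intro y hy hy1 c hc
    have hz1 : c * y * c⁻¹ ≠ 1 := fun e => hy1 (conj_eq_one_iff.mp e)
    rw [Subgroup.mem_normalizer_iff]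
    intro w
    constructor
    · intro hw
      obtain ⟨k, rfl⟩ := Subgroup.mem_zpowers_iff.mp
        (show w ∈ Subgroup.zpowers y from (hgen y hy hy1).symm ▸ hw)
      rw [← conj_zpow]
      exact zpow_mem hc k
    · intro hw
      obtain ⟨k, hk⟩ := Subgroup.mem_zpowers_iff.mp
        (show c * w * c⁻¹ ∈ Subgroup.zpowers (c * y * c⁻¹) from (hgen _ hc hz1).symm ▸ hw)
      rw [conj_zpow] at hk
      rw [← mul_left_cancel (mul_right_cancel hk)]
      exact zpow_mem hy k
  -- the sets of nontrivial elements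
  set e := Nat.card P.normalizerMonoidHom.range with hedef
  let sP : Finset G := (Finset.univ.filter fun g => g ∈ P).erase 1
  let sG : Finset G := Finset.univ.filter fun g => orderOf g = p
  let T : Finset (ConjClasses G) := sP.image ConjClasses.mk
  have hsP : ∀ g, g ∈ sP ↔ g ∈ P ∧ g ≠ 1 := fun g => by simp [sP, and_comm]
  have hfibP : ∀ y ∈ sP, (sP.filter fun g => ConjClasses.mk g = ConjClasses.mk y).card = e := by
    intro y hy
    obtain ⟨hy, hy1⟩ := (hsP y).mp hy
    rw [hedef, ← Nat.card_eq_finsetCard]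
    refine (Nat.card_congr (Equiv.ofBijective (fun φ : P.normalizerMonoidHom.range =>
      (⟨(((φ : MulAut P) ⟨y, hy⟩ : P) : G), ?_⟩ :
        ↥(sP.filter fun g => ConjClasses.mk g = ConjClasses.mk y))) ⟨?_, ?_⟩)).symm
    · obtain ⟨φ, n, rfl⟩ := φ
      have e1 : ((P.normalizerMonoidHom n ⟨y, hy⟩ : P) : G) = (n : G) * y * (n : G)⁻¹ := rfl
      rw [Finset.mem_filter, hsP, e1]
      refine ⟨⟨(Subgroup.mem_normalizer_iff.mp n.2 y).mp hy, fun e => hy1 (conj_eq_one_iff.mp e)⟩,
        ConjClasses.mk_eq_mk_iff_isConj.mpr (isConj_iff.mpr ⟨(n : G), rfl⟩).symm⟩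
    · rintro ⟨φ, hφ⟩ ⟨ψ, hψ⟩ h
      have h'' := congrArg Subtype.val h
      have h' : φ ⟨y, hy⟩ = ψ ⟨y, hy⟩ := Subtype.ext h''
      refine Subtype.ext (MulEquiv.ext fun w => ?_)
      obtain ⟨k, hk⟩ := Subgroup.mem_zpowers_iff.mp
        (show (w : G) ∈ Subgroup.zpowers y from (hgen y hy hy1).symm ▸ w.2)
      have hw : w = (⟨y, hy⟩ : P) ^ k := Subtype.ext (by simp [hk])
      show φ w = ψ w
      rw [hw, map_zpow, map_zpow, h']
    · rintro ⟨z, hz⟩
      rw [Finset.mem_filter, hsP] at hz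
      obtain ⟨c, hc⟩ := isConj_iff.mp (ConjClasses.mk_eq_mk_iff_isConj.mp hz.2).symm
      exact ⟨⟨_, ⟨c, hfus y hy hy1 c (hc ▸ hz.1.1)⟩, rfl⟩, Subtype.ext hc⟩
  have hmapG : ∀ g ∈ sG, ConjClasses.mk g ∈ T := by
    intro g hg
    obtain ⟨c, hc, hc1⟩ := hintoP g (Finset.mem_filter.mp hg).2
    exact Finset.mem_image.mpr ⟨_, (hsP _).mpr ⟨hc, hc1⟩,
      ConjClasses.mk_eq_mk_iff_isConj.mpr (isConj_iff.mpr ⟨c, rfl⟩).symm⟩
  have hfibG : ∀ y ∈ sP, (sG.filter fun g => ConjClasses.mk g = ConjClasses.mk y).card = P.index := by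
    intro y hy
    obtain ⟨hy, hy1⟩ := (hsP y).mp hy
    rw [← hCy y hy hy1, ← Char.card_isConj_eq_index, ← Nat.card_eq_finsetCard]
    refine Nat.card_congr (Equiv.subtypeEquivRight fun g => ?_)
    rw [Finset.mem_filter, ConjClasses.mk_eq_mk_iff_isConj]
    refine ⟨fun h => h.2, fun h => ⟨?_, h⟩⟩
    obtain ⟨c, hc⟩ := isConj_iff.mp h.symm
    simp only [sG, Finset.mem_filter, Finset.mem_univ, true_and]
    rw [← hc, ← hord y hy hy1]
    exact MulEquiv.orderOf_eq (MulAut.conj c) y
  have hTt : T.card = t := by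
    rw [← ht, ← Nat.card_eq_finsetCard]
    refine Nat.card_congr (Equiv.subtypeEquivRight fun C => ?_)
    simp only [T, Finset.mem_image]
    constructor
    · rintro ⟨y, hy, rfl⟩
      exact ⟨y, ConjClasses.mem_carrier_mk, hord y ((hsP y).mp hy).1 ((hsP y).mp hy).2⟩
    · rintro ⟨g, hg, hgo⟩
      rw [ConjClasses.mem_carrier_iff_mk_eq] at hg
      rw [← hg]
      exact Finset.mem_image.mp (hmapG g (by simp [sG, hgo]))
  -- sums of class functions
  have hsumP : ∀ {M : Type} [AddCommMonoid M] (F : G → M),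
      (∀ a b : G, IsConj a b → F a = F b) → ∑ g ∈ sP, F g = e • ∑ C ∈ T, F C.out := by
    intro M _ F hF
    rw [← Finset.sum_fiberwise_of_maps_to (t := T) (g := ConjClasses.mk)
      (fun g hg => Finset.mem_image_of_mem _ hg), Finset.smul_sum]
    refine Finset.sum_congr rfl fun C hC' => ?_
    obtain ⟨y, hy, rfl⟩ := Finset.mem_image.mp hC'
    rw [Finset.sum_congr rfl (g := fun _ => F (ConjClasses.mk y).out) fun g hg => ?_,
      Finset.sum_const, hfibP y hy]
    exact hF _ _ (ConjClasses.mk_eq_mk_iff_isConj.mp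
      ((Finset.mem_filter.mp hg).2.trans (Quotient.out_eq _).symm))
  have hsumG : ∀ {M : Type} [AddCommMonoid M] (F : G → M),
      (∀ a b : G, IsConj a b → F a = F b) → ∑ g ∈ sG, F g = P.index • ∑ C ∈ T, F C.out := by
    intro M _ F hF
    rw [← Finset.sum_fiberwise_of_maps_to (t := T) (g := ConjClasses.mk) hmapG, Finset.smul_sum]
    refine Finset.sum_congr rfl fun C hC' => ?_
    obtain ⟨y, hy, rfl⟩ := Finset.mem_image.mp hC'
    rw [Finset.sum_congr rfl (g := fun _ => F (ConjClasses.mk y).out) fun g hg => ?_,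
      Finset.sum_const, hfibG y hy]
    exact hF _ _ (ConjClasses.mk_eq_mk_iff_isConj.mp
      ((Finset.mem_filter.mp hg).2.trans (Quotient.out_eq _).symm))
  have hte : t * e = p - 1 := by
    have h1 := hsumP (fun _ => (1 : ℕ)) (fun _ _ _ => rfl)
    simp only [Finset.sum_const, smul_eq_mul, mul_one, hTt] at h1
    rw [mul_comm, ← h1]
    simp only [sP]
    rw [Finset.card_erase_of_mem (by simp [one_mem]), ← hPcard,
      Nat.card_eq_fintype_card, Fintype.card_subtype]
  rcases Nat.even_or_odd t with hte0 | hto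
  · exact Or.inl hte0
  refine Or.inr ?_
  rcases hp.eq_two_or_odd' with hp2 | hpodd
  · -- transfer for the prime two
    subst hp2
    have hN : Subgroup.normalizer ((Q0 : Subgroup G) : Set G) ≤
        Subgroup.centralizer ((Q0 : Subgroup G) : Set G) := by
      rw [hQeq]
      intro n hn
      rw [Subgroup.mem_centralizer_iff]
      intro w hw
      by_cases hw1 : w = 1
      · simp [hw1]
      have hw' : n * w * n⁻¹ ∈ P := (Subgroup.mem_normalizer_iff.mp hn w).mp hw
      have h2 : ∀ u ∈ P, u ≠ 1 → u = x := by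
        intro u hu hu1
        obtain ⟨k, hk⟩ := Subgroup.mem_zpowers_iff.mp hu
        rw [← zpow_mod_orderOf, hx] at hk
        rcases Int.emod_two_eq_zero_or_one k with h | h <;>
          rw [Nat.cast_two, h] at hk
        · exact absurd (hk.symm.trans (zpow_zero x)) hu1
        · rw [← hk, zpow_one]
      have : n * w * n⁻¹ = w :=
        (h2 _ hw' fun e => hw1 (conj_eq_one_iff.mp e)).trans (h2 w hw hw1).symm
      calc w * n = n * w * n⁻¹ * n := by rw [this]
        _ = n * w := by group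
    have hK := MonoidHom.ker_transferSylow_isComplement' Q0 hN
    have hidx : (MonoidHom.transferSylow Q0 hN).ker.index = 2 := by
      rw [hK.symm.index_eq_card, hQeq, hPcard]
    have hle : commutator G ≤ (MonoidHom.transferSylow Q0 hN).ker := by
      rw [commutator_def, Subgroup.commutator_le]
      intro a _ b _
      rw [MonoidHom.mem_ker, commutatorElement_def]
      simp only [map_mul, map_inv]
      have hQc : IsMulCommutative (Q0 : Subgroup G) := by
        have : IsCyclic (Q0 : Subgroup G) := isCyclic_of_prime_card (p := 2) (hQeq ▸ hPcard)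
        infer_instance
      rw [mul_comm' (MonoidHom.transferSylow Q0 hN a)]
      group
    obtain ⟨c, hc⟩ := Subgroup.index_dvd_of_le hle
    exact ⟨c, by rw [hc, hidx, two_mul]⟩
  -- the odd case
  have hp3 : 3 ≤ p := by
    obtain ⟨r, hr⟩ := hpodd
    have := hp.two_le
    omega
  have he0 : e ≠ 0 := Nat.card_pos.ne'
  have heven : Even e := by
    have h : Even (t * e) := by rw [hte]; exact Nat.Odd.sub_odd hpodd odd_one
    exact (Nat.even_mul.mp h).resolve_left (Nat.not_even_iff_odd.mpr hto)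
  have he2 : 2 ≤ e := by obtain ⟨r, hr⟩ := heven; omega
  obtain ⟨d, ρ, hρirr, hρ⟩ := χ.2
  have hχc : ∀ a b : G, IsConj a b → (χ : G → ℂ) a = (χ : G → ℂ) b := by
    intro a b hab
    obtain ⟨c, rfl⟩ := isConj_iff.mp hab
    exact (Char.isClassFunction_irr χ a c).symm
  have hd : d + 1 = p := by
    rw [← hρ] at hχ
    rw [charDegree, Representation.char_one, Module.finrank_fin_fun, Complex.natCast_re,
      Nat.floor_natCast] at hχ
    exact hχ
  have hd1 : (χ : G → ℂ) 1 = d := by
    rw [← hρ, Representation.char_one, Module.finrank_fin_fun]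
  have hPcomm : ∀ a b : P, a * b = b * a := fun a b => mul_comm' a b
  obtain ⟨m0, N, hm0, hN, hineq⟩ := inner_bound hPcomm
    (Char.isCharacter_restrict P (Char.isCharacter_of_isIrr χ.2)) d hd1
  have hsumsub : ∀ {M : Type} [AddCommMonoid M] (F : G → M),
      ∑ w : P, F w = F 1 + ∑ g ∈ sP, F g := by
    intro M _ F
    rw [Finset.add_sum_erase _ _ (by simp [one_mem]),
      ← Finset.sum_subtype (Finset.univ.filter fun g => g ∈ P) (by simp)]
  have hpC : (p : ℂ) ≠ 0 := Nat.cast_ne_zero.mpr hp.ne_zero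
  -- `e` divides the multiplicity of the trivial character
  have hdvd : e ∣ m0 := by
    have h1 : (p : ℂ) * m0 = d + (e : ℂ) * ∑ C ∈ T, (χ : G → ℂ) C.out := by
      rw [← hm0]
      simp only [classInner, map_one, mul_one]
      rw [hPcard, mul_inv_cancel_left₀ hpC, hsumsub (fun g => (χ : G → ℂ) g), hd1,
        hsumP _ hχc, nsmul_eq_mul]
    have hS : IsIntegral ℤ (∑ C ∈ T, (χ : G → ℂ) C.out) := by
      refine IsIntegral.sum _ fun C _ => ?_
      rw [← hρ]
      exact Char.isIntegral_character ρ _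
    have hS' : ∑ C ∈ T, (χ : G → ℂ) C.out =
        (((((p * m0 : ℕ) : ℤ) - d : ℤ) : ℚ) / e : ℚ) := by
      push_cast
      rw [eq_div_iff (Nat.cast_ne_zero.mpr he0)]
      linear_combination -h1
    rw [hS'] at hS
    have hS'' : IsIntegral ℤ (((((p * m0 : ℕ) : ℤ) - d : ℤ) : ℚ) / e : ℚ) :=
      (isIntegral_algebraMap_iff (B := ℂ) (algebraMap ℚ ℂ).injective).mp hS
    obtain ⟨k, hk⟩ := IsIntegrallyClosed.isIntegral_iff.mp hS''
    have hk' : (k : ℚ) * e = ((((p * m0 : ℕ) : ℤ) - d : ℤ) : ℚ) := by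
      rw [eq_div_iff (Nat.cast_ne_zero.mpr he0)] at hk
      simpa using hk
    have hk2 : k * (e : ℤ) = ((p * m0 : ℕ) : ℤ) - d := by exact_mod_cast hk'
    have hde : e ∣ d := ⟨t, by rw [mul_comm, hte]; omega⟩
    have h3 : e ∣ p * m0 := by
      have : (e : ℤ) ∣ ((p * m0 : ℕ) : ℤ) := by
        have h4 : ((p * m0 : ℕ) : ℤ) = k * e + d := by omega
        rw [h4]
        exact dvd_add (dvd_mul_left _ _) (by exact_mod_cast hde)
      exact_mod_cast this
    refine ((Nat.Coprime.symm ?_).dvd_mul_left).mp h3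
    rw [hp.coprime_iff_not_dvd]
    intro h
    have h5 := Nat.le_of_dvd (Nat.pos_of_ne_zero he0) h
    have h6 : e ≤ t * e := Nat.le_mul_of_pos_left e (by obtain ⟨r, hr⟩ := hto; omega)
    omega
  -- the trivial character does not occur on `P`
  have hm00 : m0 = 0 := by
    set U : ℝ := ∑ C ∈ T, Complex.normSq ((χ : G → ℂ) C.out) with hU
    have hUc : ∀ a b : G, IsConj a b →
        Complex.normSq ((χ : G → ℂ) a) = Complex.normSq ((χ : G → ℂ) b) := fun a b h => by
      rw [hχc a b h]
    have hall : ∑ g : G, Complex.normSq ((χ : G → ℂ) g) = (Nat.card G : ℝ) := by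
      have h := Char.classInner_irr_self χ.2
      unfold classInner at h
      simp only [Complex.mul_conj] at h
      rw [inv_mul_eq_one₀ (Nat.cast_ne_zero.mpr Nat.card_pos.ne'), ← Complex.ofReal_sum] at h
      exact_mod_cast h.symm
    have hlt : U < p := by
      have hsub : ∑ g ∈ insert (1 : G) sG, Complex.normSq ((χ : G → ℂ) g) ≤ (Nat.card G : ℝ) :=
        hall ▸ Finset.sum_le_univ_sum_of_nonneg fun g => Complex.normSq_nonneg _
      rw [Finset.sum_insert (by simp [sG, hp.ne_one.symm]), hsumG _ hUc, nsmul_eq_mul, hd1,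
        Complex.normSq_natCast, ← hU, ← P.card_mul_index, hPcard, Nat.cast_mul] at hsub
      have hdpos : (1 : ℝ) ≤ d := by exact_mod_cast (by omega : 1 ≤ d)
      have hi : (0 : ℝ) < P.index := by exact_mod_cast Nat.pos_of_ne_zero P.index_ne_zero_of_finite
      nlinarith [mul_le_mul hdpos hdpos zero_le_one (by linarith)]
    have hPn : (d : ℝ) * d + e * U = (p : ℝ) * N := by
      have h := hN
      unfold classInner at h
      simp only [Complex.mul_conj] at h
      rw [hPcard, inv_mul_eq_iff_eq_mul₀ hpC, ← Complex.ofReal_sum] at h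
      have h' : ∑ w : P, Complex.normSq ((χ : G → ℂ) w) = (p : ℝ) * N := by exact_mod_cast h
      rw [hsumsub (fun g => Complex.normSq ((χ : G → ℂ) g)), hd1, Complex.normSq_natCast,
        hsumP _ hUc, nsmul_eq_mul] at h'
      exact h'
    have hineq' : (m0 : ℝ) * m0 + d ≤ N + m0 := by exact_mod_cast hineq
    have hdR : (d : ℝ) + 1 = p := by exact_mod_cast hd
    by_contra hm
    obtain ⟨D, hD⟩ := hdvd
    have hD1 : e ≤ m0 := by
      rw [hD]; exact Nat.le_mul_of_pos_right e (Nat.pos_of_ne_zero fun h => hm (by simp [hD, h]))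
    have hD' : (e : ℝ) ≤ m0 := by exact_mod_cast hD1
    have he2' : (2 : ℝ) ≤ e := by exact_mod_cast he2
    have hmm : (e : ℝ) ≤ m0 * m0 - m0 := by nlinarith
    have hp0 : (0 : ℝ) ≤ p := by positivity
    nlinarith [mul_le_mul_of_nonneg_left hineq' hp0, mul_le_mul_of_nonneg_left hmm hp0,
      mul_lt_mul_of_pos_left hlt (show (0 : ℝ) < e by linarith)]
  subst hm00
  have hzero : ∑ w : P, ρ (w : G) = 0 :=
    sum_eq_zero_of_inner (ρ.comp P.subtype) (by
      have h := hm0
      rw [← hρ, Nat.cast_zero] at h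
      exact h)
  -- a two-element of the normaliser
  have hcyc : IsCyclic P.normalizerMonoidHom.range := by
    have : IsCyclic P := isCyclic_of_prime_card hPcard
    have : IsCyclic (ZMod (Nat.card P))ˣ := by rw [hPcard]; exact ZMod.isCyclic_units_prime hp
    have : IsCyclic (MulAut P) :=
      isCyclic_of_surjective (IsCyclic.mulAutMulEquiv P).symm.toMonoidHom
        (IsCyclic.mulAutMulEquiv P).symm.surjective
    infer_instance
  obtain ⟨⟨φ, hφr⟩, hφ⟩ := IsCyclic.exists_ofOrder_eq_natCard (α := P.normalizerMonoidHom.range)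
  obtain ⟨n, hn⟩ := hφr
  have hen : e ∣ orderOf n := by
    have h : orderOf φ = e := by rw [hedef, ← hφ]; exact (Subgroup.orderOf_mk _ _).symm
    rw [← h, ← hn]
    exact orderOf_map_dvd _ n
  obtain ⟨a, q, hq, heq⟩ := Nat.exists_eq_two_pow_mul_odd he0
  have ha : a ≠ 0 := by
    intro h
    rw [h, pow_zero, one_mul] at heq
    exact Nat.not_even_iff_odd.mpr (heq ▸ hq) heven
  have hgn : orderOf ((n : G) ^ (orderOf (n : G) / 2 ^ a)) = 2 ^ a :=
    orderOf_pow_orderOf_div (orderOf_pos _).ne'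
      (by rw [Subgroup.orderOf_coe]; exact (Dvd.intro q heq.symm).trans hen)
  set g := (n : G) ^ (orderOf (n : G) / 2 ^ a) with hg
  have hgN : g ∈ Subgroup.normalizer (P : Set G) := pow_mem n.2 _
  have hvan : ∀ l : ℕ, g ^ l ≠ 1 → ρ.character (g ^ l) = 0 := by
    intro l hl
    refine vanish_of_fpf ρ P hzero (pow_mem hgN l) fun y hy hyc => ?_
    by_contra hy1
    have h1 := hord _ (hcomm y hy hy1 _ hyc) hl
    have h2 : p ∣ 2 ^ a := by
      rw [← h1, ← hgn]
      exact orderOf_dvd_of_pow_eq_one (by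
        rw [← pow_mul, mul_comm, pow_mul, pow_orderOf_eq_one, one_pow])
    have := (Nat.prime_dvd_prime_iff_eq hp Nat.prime_two).mp (hp.dvd_of_dvd_pow h2)
    omega
  have hdet := det_eq_neg_one ρ g hgn (Nat.even_pow.mpr ⟨even_two, ha⟩) (t * q)
    (by rw [mul_assoc, mul_comm q, ← heq, hte]; omega) (hto.mul hq) hvan
  have h1 := Char.PResidual.detChar_pow_eq_one (Char.isCharacter_character ρ) g
  rw [Char.detChar_character] at h1
  dsimp only at h1
  rw [hdet] at h1
  exact (neg_one_pow_eq_one_iff_even (by norm_num)).mp h1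

end Cfsg.Agent.S4508
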