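import Cfsg.Statements.S4509
import Cfsg.Agent.Lib.Groups.SelfCentPrime
open CfsgLib.SelfCent
open scoped commutatorElement

set_option autoImplicit false
open Cfsg

namespace Cfsg.Agent.S4509

/-- Let the finite group G contain an element x of prime order p with C_G(x) = ⟨x⟩; let t be the number of conjugacy classes of elements of order p and 1 + n·p the number of subgroups of order p. Then G has a normal subgroup of order 1 + n·p if and only if either t = p − 1, or t < p − 1 and G″ ≠ G′. Moreover, if t = p − 1 then G′ has order 1 + n·p and G/G′ is cyclic of order p; and if t < p − 1 and G″ ≠ G′ then G″ has order 1 + n·p and G′ has order p·(1 + n·p). -/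
theorem result {G : Type*} [Group G] [Finite G] (p : ℕ) (hp : p.Prime) (x : G) (hx : orderOf x = p) (hC : Subgroup.centralizer ({x} : Set G) = Subgroup.zpowers x) (t : ℕ) (ht : Nat.card {C : ConjClasses G // ∃ g ∈ C.carrier, orderOf g = p} = t) (n : ℕ) (hn : Nat.card {H : Subgroup G // Nat.card H = p} = 1 + n * p) : ((∃ S : Subgroup G, S.Normal ∧ Nat.card S = 1 + n * p) ↔ (t = p - 1 ∨ (t < p - 1 ∧ derivedSeries G 2 ≠ derivedSeries G 1))) ∧ (t = p - 1 → Nat.card (commutator G) = 1 + n * p ∧ IsCyclic (G ⧸ commutator G) ∧ (commutator G).index = p) ∧ (t < p - 1 → derivedSeries G 2 ≠ derivedSeries G 1 → Nat.card (derivedSeries G 2) = 1 + n * p ∧ Nat.card (commutator G) = p * (1 + n * p)) := by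
  have h : IsSelfCent p x := ⟨hp, hx, hC⟩
  haveI : Fact p.Prime := ⟨hp⟩
  have hte := classes_mul_eIdx h
  rw [ht] at hte
  rw [card_order_p_subgroups h] at hn
  have htle : t ≤ p - 1 := hte ▸ Nat.le_mul_of_pos_right t eIdx_pos
  have hd1 : derivedSeries G 1 = commutator G := derivedSeries_one G
  have hA : t = p - 1 → Nat.card (commutator G) = 1 + n * p ∧ IsCyclic (G ⧸ commutator G) ∧
      (commutator G).index = p := by
    intro h1
    obtain ⟨-, hi, hc⟩ := index_commutator_of_eq h ((t_eq_iff h ht).mp h1)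
    exact ⟨hc.trans hn, isCyclic_of_prime_card (p := p) hi, hi⟩
  have hB : t < p - 1 → derivedSeries G 2 ≠ derivedSeries G 1 →
      Nat.card (derivedSeries G 2) = 1 + n * p ∧ Nat.card (commutator G) = p * (1 + n * p) := by
    intro h1 h2
    have he : eIdx x ≠ 1 := fun e => h1.ne ((t_eq_iff h ht).mpr e)
    set S := derivedSeries G 2 with hS
    haveI : S.Normal := derivedSeries_normal G 2
    have hSle : S ≤ commutator G := by
      rw [← hd1, hS]
      exact derivedSeries_antitone G (by norm_num)
    have hd : ¬ p ∣ Nat.card S := fun hd =>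
      h2 (by rw [hd1]; exact le_antisymm hSle (commutator_le_of_dvd h S hd))
    have hdD := dvd_commutator_of_ne h he
    have hPD := zpowers_le_of_dvd h _ hdD
    have hDtop := sup_nzr_eq_top h _ hdD
    have hDeq : commutator G = S ⊔ Subgroup.zpowers x := by
      refine le_antisymm ?_ (sup_le hSle hPD)
      refine (commutator_le_of_dvd h (Subgroup.normalClosure {x}) ?_).trans ?_
      · rw [← h.card_P]
        exact Subgroup.card_dvd_of_le (Subgroup.zpowers_le.mpr
          (Subgroup.subset_normalClosure (Set.mem_singleton x)))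
      rw [Subgroup.normalClosure, Subgroup.closure_le]
      intro z hz
      obtain ⟨a, ha, hz'⟩ := Group.mem_conjugatesOfSet_iff.mp hz
      rw [Set.mem_singleton_iff] at ha
      subst ha
      obtain ⟨g', rfl⟩ := isConj_iff.mp hz'
      have hg : g' ∈ commutator G ⊔ nzr a := by rw [hDtop]; trivial
      obtain ⟨c, hc, m, hm, rfl⟩ := Subgroup.mem_sup_of_normal_left.mp hg
      have hr : m * a * m⁻¹ ∈ Subgroup.zpowers a :=
        (Subgroup.mem_normalizer_iff.mp hm a).mp (Subgroup.mem_zpowers a)
      have e : c * m * a * (c * m)⁻¹ = (c * (m * a * m⁻¹) * c⁻¹ * (m * a * m⁻¹)⁻¹) * (m * a * m⁻¹) := by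
        group
      rw [SetLike.mem_coe, e]
      refine Subgroup.mul_mem _ (Subgroup.mem_sup_left ?_) (Subgroup.mem_sup_right hr)
      rw [hS, derivedSeries_succ, hd1]
      exact Subgroup.commutator_mem_commutator hc (hPD hr)
    have htop : S ⊔ nzr x = ⊤ := by
      rw [eq_top_iff, ← hDtop, hDeq]
      exact sup_le (sup_le le_sup_left (le_sup_of_le_right self_le_nzr)) le_sup_right
    have hmap : (nzr x).map (QuotientGroup.mk' S) = ⊤ := by
      have := congrArg (Subgroup.map (QuotientGroup.mk' S)) htop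
      rwa [Subgroup.map_sup, QuotientGroup.map_mk'_self, bot_sup_eq,
        Subgroup.map_top_of_surjective _ (QuotientGroup.mk'_surjective _)] at this
    have hcard : Nat.card S = (nzr x).index := by
      have h3 := card_map_nzr h S hd
      rw [hmap, Subgroup.card_top] at h3
      have h4 : Nat.card (nzr x) * Nat.card S = Nat.card (nzr x) * (nzr x).index := by
        rw [Subgroup.card_mul_index, ← h3, ← Subgroup.index_eq_card, Subgroup.index_mul_card]
      exact Nat.eq_of_mul_eq_mul_left Nat.card_pos h4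
    refine ⟨hcard.trans hn, ?_⟩
    rw [← hn, ← hcard, hDeq, sup_comm]
    refine Nat.dvd_antisymm (h.card_P ▸ card_sup_dvd_mul (Subgroup.zpowers x) S) ?_
    refine Nat.Coprime.mul_dvd_of_dvd_of_dvd (hp.coprime_iff_not_dvd.mpr hd) ?_
      (Subgroup.card_dvd_of_le le_sup_right)
    exact h.card_P ▸ Subgroup.card_dvd_of_le le_sup_left
  refine ⟨⟨?_, ?_⟩, hA, hB⟩
  · rintro ⟨S, hSn, hSc⟩
    rcases htle.eq_or_lt with h1 | h1
    · exact Or.inl h1
    refine Or.inr ⟨h1, ?_⟩
    haveI := hSn
    have he : eIdx x ≠ 1 := fun e => h1.ne ((t_eq_iff h ht).mpr e)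
    have hd : ¬ p ∣ Nat.card S := by
      rw [hSc, Nat.dvd_add_left (Dvd.intro_left n rfl)]
      exact hp.not_dvd_one
    have hmap : (nzr x).map (QuotientGroup.mk' S) = ⊤ := by
      rw [← Subgroup.card_eq_iff_eq_top, card_map_nzr h S hd, ← Subgroup.index_eq_card]
      have := (Subgroup.card_mul_index (nzr x)).trans (Subgroup.index_mul_card S).symm
      rw [hn, ← hSc] at this
      exact Nat.eq_of_mul_eq_mul_right Nat.card_pos this
    have hcomm : derivedSeries (G ⧸ S) 1 ≤
        (Subgroup.zpowers x).map (QuotientGroup.mk' S) := by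
      rw [derivedSeries_one, commutator_def, Subgroup.commutator_le]
      intro q _ r _
      obtain ⟨a, ha, rfl⟩ := (hmap.symm ▸ Subgroup.mem_top q :
        q ∈ (nzr x).map (QuotientGroup.mk' S))
      obtain ⟨b, hb, rfl⟩ := (hmap.symm ▸ Subgroup.mem_top r :
        r ∈ (nzr x).map (QuotientGroup.mk' S))
      exact ⟨_, comm_mem_of_mem_nzr h ha hb, by simp [commutatorElement_def]⟩
    have h20 : derivedSeries (G ⧸ S) 2 = ⊥ := by
      rw [derivedSeries_succ, eq_bot_iff]
      refine (Subgroup.commutator_mono hcomm hcomm).trans ?_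
      rw [Subgroup.commutator_le]
      rintro _ ⟨u, hu, rfl⟩ _ ⟨v, hv, rfl⟩
      obtain ⟨i, rfl⟩ := Subgroup.mem_zpowers_iff.mp hu
      obtain ⟨j, rfl⟩ := Subgroup.mem_zpowers_iff.mp hv
      rw [Subgroup.mem_bot, ← map_commutatorElement]
      rw [show ⁅x ^ i, x ^ j⁆ = 1 from commutatorElement_eq_one_iff_mul_comm.mpr
        (((Commute.refl x).zpow_left i).zpow_right j).eq, map_one]
    intro e
    have h3 := map_derivedSeries_eq (QuotientGroup.mk'_surjective S) 2
    rw [h20, e, hd1, Subgroup.map_eq_bot_iff, QuotientGroup.ker_mk'] at h3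
    exact hd ((dvd_commutator_of_ne h he).trans (Subgroup.card_dvd_of_le h3))
  · rintro (h1 | ⟨h1, h2⟩)
    · exact ⟨commutator G, inferInstance, (hA h1).1⟩
    · exact ⟨derivedSeries G 2, derivedSeries_normal G 2, (hB h1 h2).1⟩

end Cfsg.Agent.S4509
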