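import Cfsg.Statements.S4510
import Cfsg.Agent.Lib.Blocks.DefectClasses

set_option autoImplicit false
open Cfsg
open scoped CfsgLib.Char

set_option autoImplicit false
open Cfsg

namespace Cfsg.Agent.S4510

/-- Let G be a finite group, p a prime, M a maximal ideal of the algebraic integers containing p, and call the defect of a conjugacy class the exponent of p in the order of the centralizer of its elements. Two irreducible characters lying in p-blocks of defect exactly d lie in the same block if and only if their central characters (class size times χ(x)/χ(1)) agree modulo the local ideal at M at every p-regular element x whose class has defect exactly d. -/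
theorem result {G : Type*} [Group G] [Finite G] (p : ℕ) [Fact p.Prime] (M : Ideal Cfsg.AlgInt) (hM : Cfsg.IsPModular p M) (d : ℕ) (χ ψ : Cfsg.IrrCharacter G) (hχ : Cfsg.blockDefect p (Cfsg.blockOf M (χ : G → ℂ)) = d) (hψ : Cfsg.blockDefect p (Cfsg.blockOf M (ψ : G → ℂ)) = d) : Cfsg.SameBlock M (χ : G → ℂ) (ψ : G → ℂ) ↔ ∀ x : G, ¬ p ∣ orderOf x → (Nat.card (Subgroup.centralizer ({x} : Set G))).factorization p = d → Cfsg.MemLocalIdeal M (Cfsg.centralChar (χ : G → ℂ) x - Cfsg.centralChar (ψ : G → ℂ) x) := by
  classical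
  have := Fintype.ofFinite G
  have := Fintype.ofFinite (ConjClasses G)
  have := CfsgLib.Blocks.isPrime_of_isPModular hM
  refine ⟨fun h x _ _ => h x, fun h => ?_⟩
  set B := blockOf M (χ : G → ℂ) with hBdef
  have hB : IsPBlock M B := CfsgLib.Blocks.isPBlock_blockOf χ
  set S : Finset (ConjClasses G) := {c | ∃ g : G, ConjClasses.mk g = c ∧ IsPRegular p g ∧
    (Nat.card (Subgroup.centralizer ({g} : Set G))).factorization p = d}
  have hS : ∀ g : G, IsPRegular p g →
      (Nat.card (Subgroup.centralizer ({g} : Set G))).factorization p = d →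
      ConjClasses.mk g ∈ S := fun g hg hd =>
    Finset.mem_filter.mpr ⟨Finset.mem_univ _, g, rfl, hg, hd⟩
  have h1 := CfsgLib.Blocks.memLocalIdeal_indVec_sub_sum hM hB hB hχ hχ
    (CfsgLib.Blocks.mem_blockOf_self χ) S hS
  have h2 := CfsgLib.Blocks.memLocalIdeal_indVec_sub_sum hM
    (CfsgLib.Blocks.isPBlock_blockOf ψ) hB hψ hχ (CfsgLib.Blocks.mem_blockOf_self ψ) S hS
  have hd : MemLocalIdeal M (
      (∑ c ∈ S, blockCoeff B (Quotient.out c) * centralChar (χ : G → ℂ) (Quotient.out c)) -
      ∑ c ∈ S, blockCoeff B (Quotient.out c) * centralChar (ψ : G → ℂ) (Quotient.out c)) := by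
    rw [← Finset.sum_sub_distrib]
    refine CfsgLib.Blocks.memLocalIdeal_sum _ _ fun c hc => ?_
    obtain ⟨g, hgc, hg, hgd⟩ := (Finset.mem_filter.mp hc).2
    have hconj : IsConj g (Quotient.out c) :=
      ConjClasses.mk_eq_mk_iff_isConj.mp (hgc.trans (Quotient.out_eq c).symm)
    rw [← mul_sub, ← CfsgLib.Blocks.centralChar_eq_of_isConj χ hconj,
      ← CfsgLib.Blocks.centralChar_eq_of_isConj ψ hconj]
    exact CfsgLib.Blocks.memLocalIdeal_mul_left
      (CfsgLib.Blocks.IsPBlock.memLocalRing_blockCoeff hB _) (h g hg hgd)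
  have hmem : ψ ∈ B := by
    by_contra hn
    rw [CfsgLib.Blocks.indVec_of_mem (CfsgLib.Blocks.mem_blockOf_self χ)] at h1
    rw [CfsgLib.Blocks.indVec_of_notMem hn] at h2
    exact CfsgLib.Blocks.not_memLocalIdeal_one (M := M) (by
      simpa using CfsgLib.Blocks.memLocalIdeal_sub
        (CfsgLib.Blocks.memLocalIdeal_add h1 hd) h2)
  exact CfsgLib.Blocks.mem_blockOf_iff.mp hmem

end Cfsg.Agent.S4510
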