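import Cfsg.Statements.S4513
import Cfsg.Agent.Lib.Blocks.CentralDefect
import Cfsg.Agent.Lib.Blocks.BrauerFeit
import Cfsg.Agent.Lib.Blocks.ExtendedFirst
import Cfsg.Agent.Lib.Blocks.MainThird
import Cfsg.Agent.Lib.Blocks.Sections
import Cfsg.Agent.Lib.Char.MeanValue

set_option autoImplicit false
open Cfsg
open scoped CfsgLib.Char

namespace Cfsg.Agent.S4513

/-- Blocks of defect one for p = 2. Let M be a maximal ideal of the algebraic integers containing 2, B a 2-block of the finite group G whose defect group is the subgroup generated by an involution x, C = C_G(x), b a block of C inducing B and θ a member of b taking the same value at x as at 1 (there is exactly one). Then B consists of exactly two irreducible characters, which agree on every element of odd order, and they can be labelled χ₁, χ₂ with signs ε₁, ε₂ = ±1, ε₁ε₂ = −1, such that χᵢ(x y) = εᵢ θ(y) for every element y of C of odd order. -/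
theorem result {G : Type*} [Group G] [Finite G] (M : Ideal Cfsg.AlgInt) (hM : Cfsg.IsPModular 2 M) (x : G) (hx : orderOf x = 2)
    (B : Set (Cfsg.IrrCharacter G)) (hB : Cfsg.IsPBlock M B) (hBD : Cfsg.IsDefectGroup 2 M B (Subgroup.zpowers x))
    (b : Set (Cfsg.IrrCharacter ↥(Subgroup.centralizer ({x} : Set G)))) (hb : Cfsg.IsInducedBlock M (Subgroup.centralizer ({x} : Set G)) b B)
    (θ : Cfsg.IrrCharacter ↥(Subgroup.centralizer ({x} : Set G))) (hθ : θ ∈ b)
    (hθx : ∀ z : ↥(Subgroup.centralizer ({x} : Set G)), (z : G) = x → (θ : ↥(Subgroup.centralizer ({x} : Set G)) → ℂ) z = (θ : ↥(Subgroup.centralizer ({x} : Set G)) → ℂ) 1) :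
    Nat.card B = 2 ∧ (∀ χ ∈ B, ∀ ψ ∈ B, ∀ g : G, ¬ 2 ∣ orderOf g → (χ : G → ℂ) g = (ψ : G → ℂ) g) ∧
      ∃ χ₁ ∈ B, ∃ χ₂ ∈ B, χ₁ ≠ χ₂ ∧ ∃ ε₁ ε₂ : ℤ, (ε₁ = 1 ∨ ε₁ = -1) ∧ (ε₂ = 1 ∨ ε₂ = -1) ∧ ε₁ * ε₂ = -1 ∧
        ∀ y : ↥(Subgroup.centralizer ({x} : Set G)), ¬ 2 ∣ orderOf y →
          (χ₁ : G → ℂ) (x * y) = (ε₁ : ℂ) * (θ : ↥(Subgroup.centralizer ({x} : Set G)) → ℂ) y ∧ (χ₂ : G → ℂ) (x * y) = (ε₂ : ℂ) * (θ : ↥(Subgroup.centralizer ({x} : Set G)) → ℂ) y := by
  classical
  have : Fact (Nat.Prime 2) := ⟨hM.1⟩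
  have : Fintype G := Fintype.ofFinite G
  have := CfsgLib.Blocks.isPrime_of_isPModular hM
  have : Fintype (Subgroup.centralizer ({x} : Set G)) := Fintype.ofFinite _
  have hxp : ∃ k : ℕ, orderOf x = 2 ^ k := ⟨1, by rw [hx, pow_one]⟩
  set x' : Subgroup.centralizer ({x} : Set G) :=
    ⟨x, Subgroup.mem_centralizer_singleton_iff.mpr rfl⟩ with hx'
  have hx'ord : orderOf x' = 2 := by rw [← Subgroup.orderOf_coe]; exact hx
  have hxcard : Nat.card (Subgroup.zpowers x) = 2 := (Nat.card_zpowers x).trans hx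
  have hx2 : x' * x' = 1 := by rw [← pow_two, ← hx'ord, pow_orderOf_eq_one]
  have hd : blockDefect 2 B = 1 := by
    have h := CfsgLib.Blocks.IsDefectGroup.card_eq hM hB hBD
    rw [hxcard] at h
    exact (Nat.pow_right_injective le_rfl (h.symm.trans (pow_one 2).symm))
  -- the block of the centralizer
  set P : Subgroup (Subgroup.centralizer ({x} : Set G)) := Subgroup.zpowers x' with hP
  have hPcard : Nat.card P = 2 := by rw [hP, Nat.card_zpowers, hx'ord]
  have hcen : ∀ c : Subgroup.centralizer ({x} : Set G), Commute x' c := fun c =>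
    Subtype.ext (Subgroup.mem_centralizer_singleton_iff.mp c.2).symm
  have hcenter : x' ∈ Subgroup.center (Subgroup.centralizer ({x} : Set G)) :=
    Subgroup.mem_center_iff.mpr fun c => (hcen c).eq.symm
  have hPn : P.Normal := ⟨fun n hn g => by
    obtain ⟨i, rfl⟩ := Subgroup.mem_zpowers_iff.mp hn
    rw [((hcen g).zpow_left i).symm.eq, mul_inv_cancel_right]
    exact Subgroup.zpow_mem _ (Subgroup.mem_zpowers x') i⟩
  have hPp : IsPGroup 2 P := IsPGroup.of_card (n := 1) (by rw [hPcard, pow_one])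
  have hPeq : ∀ v ∈ P, v = 1 ∨ v = x' := by
    intro v hv
    have hfin : IsOfFinOrder x' := isOfFinOrder_of_finite x'
    obtain ⟨i, hi, rfl⟩ := (hfin.mem_powers_iff_mem_range_orderOf).mp
      (mem_powers_iff_mem_zpowers.mpr hv) |> Finset.mem_image.mp
    rw [hx'ord, Finset.mem_range] at hi
    interval_cases i
    · exact Or.inl (pow_zero _)
    · exact Or.inr (pow_one _)
  have hbP : IsDefectGroup 2 M b P := by
    obtain ⟨D₁, hD₁⟩ := CfsgLib.Blocks.exists_isDefectGroup hM hb.1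
    have hle : P ≤ D₁ := CfsgLib.Blocks.IsDefectGroup.normal_le hM hb.1 hD₁ P hPp
    obtain ⟨E, hE, hDE⟩ := CfsgLib.Blocks.IsInducedBlock.exists_defectGroup_le hM hb hD₁
    have h1 := Subgroup.card_le_of_le hDE
    rw [Subgroup.card_map_of_injective (Subgroup.subtype_injective _),
      CfsgLib.Blocks.IsDefectGroup.card_eq hM hB hE, hd, pow_one, ← hPcard] at h1
    rw [Subgroup.eq_of_le_of_card_ge hle h1]
    exact hD₁
  have hsup : P ⊔ Subgroup.centralizer (P : Set (Subgroup.centralizer ({x} : Set G))) = ⊤ := by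
    rw [eq_top_iff]
    refine le_trans ?_ le_sup_right
    intro g _
    refine Subgroup.mem_centralizer_iff.mpr fun v hv => ?_
    obtain ⟨i, rfl⟩ := Subgroup.mem_zpowers_iff.mp hv
    exact ((hcen g).zpow_left i).eq
  obtain ⟨θ₀, hθ₀, hθ₀P, huniq, -, hform, hvan, hcard⟩ :=
    CfsgLib.Blocks.central_defect_structure 2 M hM P hPp hsup b hb.1 hbP
  have hθθ : θ = θ₀ := huniq θ hθ fun v hv => by
    rcases hPeq v hv with rfl | rfl
    · rfl
    · exact hθx x' rfl
  subst hθθ
  have hbcard : Nat.card b = 2 := by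
    rw [hcard, ← hPcard]
    refine (Nat.card_eq_of_bijective ConjClasses.mk ⟨fun u v h => ?_, ConjClasses.mk_surjective⟩).symm
    obtain ⟨w, hw⟩ := isConj_iff.mp (ConjClasses.mk_eq_mk_iff_isConj.mp h)
    obtain ⟨i, hi⟩ := Subgroup.mem_zpowers_iff.mp u.2
    have hcw : (u : Subgroup.centralizer ({x} : Set G)) * w = w * u := by
      rw [← hi]; exact ((hcen _).zpow_left i).eq
    rw [← hw, show w * u = u * w from Subtype.ext hcw.symm, mul_inv_cancel_right]
  have hθ1 : (θ : Subgroup.centralizer ({x} : Set G) → ℂ) 1 ≠ 0 :=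
    CfsgLib.Char.irr_degree_ne_zero θ.2
  have hsign : ∀ ξ : IrrCharacter (Subgroup.centralizer ({x} : Set G)),
      ∃ s : ℤ, (s = 1 ∨ s = -1) ∧ (ξ : Subgroup.centralizer ({x} : Set G) → ℂ) x' =
        (s : ℂ) * (ξ : Subgroup.centralizer ({x} : Set G) → ℂ) 1 := by
    intro ξ
    have h := CfsgLib.Char.central_mul ξ.2 hcenter x'
    rw [hx2] at h
    rcases mul_self_eq_mul_self_iff.mp h.symm with h' | h'
    · exact ⟨1, Or.inl rfl, by simpa using h'⟩
    · exact ⟨-1, Or.inr rfl, by simpa using h'⟩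
  have hdeg : ∀ ξ ∈ b, (ξ : Subgroup.centralizer ({x} : Set G) → ℂ) 1 =
      (θ : Subgroup.centralizer ({x} : Set G) → ℂ) 1 := by
    intro ξ hξ
    have hdξ := (CfsgLib.Blocks.irr_degree_eq ξ).1
    have hdθ := (CfsgLib.Blocks.irr_degree_eq θ).1
    have e := CfsgLib.Char.classInner_irr_self ξ.2
    have e' := CfsgLib.Char.classInner_irr_self θ.2
    have hsq : ∀ g, (ξ : Subgroup.centralizer ({x} : Set G) → ℂ) g *
        (starRingEnd ℂ) ((ξ : Subgroup.centralizer ({x} : Set G) → ℂ) g) =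
        ((ξ : Subgroup.centralizer ({x} : Set G) → ℂ) 1 /
          (θ : Subgroup.centralizer ({x} : Set G) → ℂ) 1) ^ 2 *
        ((θ : Subgroup.centralizer ({x} : Set G) → ℂ) g *
          (starRingEnd ℂ) ((θ : Subgroup.centralizer ({x} : Set G) → ℂ) g)) := by
      intro g
      obtain ⟨v, hv, -⟩ := CfsgLib.Blocks.exists_isPPart hM.1 g
      by_cases hvP : v ∈ P
      · obtain ⟨s, rfl, -, -, hs⟩ := id hv
        have hvv : ∃ t : ℂ, (t = 1 ∨ t = -1) ∧ (ξ : Subgroup.centralizer ({x} : Set G) → ℂ) v =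
            t * (ξ : Subgroup.centralizer ({x} : Set G) → ℂ) 1 := by
          rcases hPeq v hvP with rfl | rfl
          · exact ⟨1, Or.inl rfl, (one_mul _).symm⟩
          · obtain ⟨t, ht, ht'⟩ := hsign ξ
            rcases ht with rfl | rfl
            · exact ⟨1, Or.inl rfl, by simpa using ht'⟩
            · exact ⟨-1, Or.inr rfl, by simpa using ht'⟩
        obtain ⟨t, ht, ht'⟩ := hvv
        rw [hform ξ hξ v hvP s hs, hform θ hθ v hvP s hs, hθ₀P v hvP, ht', div_self hθ1, one_mul,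
          hdξ, hdθ]
        simp only [map_mul, map_div₀, Complex.conj_natCast]
        rcases ht with rfl | rfl
        · simp only [map_one]; ring
        · simp only [map_neg, map_one]; ring
      · rw [hvan ξ hξ g v hv hvP, hvan θ hθ g v hv hvP]
        simp
    rw [classInner, Finset.sum_congr rfl fun g _ => hsq g, ← Finset.mul_sum,
      mul_left_comm] at e
    rw [classInner] at e'
    rw [e', mul_one, div_pow, div_eq_one_iff_eq (pow_ne_zero 2 hθ1), hdξ, hdθ] at e
    rw [hdξ, hdθ]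
    exact_mod_cast Nat.pow_left_injective two_ne_zero (by exact_mod_cast e)
  have hregval : ∀ ξ ∈ b, ∀ y : Subgroup.centralizer ({x} : Set G), ¬ 2 ∣ orderOf y →
      (ξ : Subgroup.centralizer ({x} : Set G) → ℂ) y =
        (θ : Subgroup.centralizer ({x} : Set G) → ℂ) y := by
    intro ξ hξ y hy
    have h := hform ξ hξ 1 P.one_mem y hy
    rw [one_mul, hdeg ξ hξ, div_self hθ1, one_mul] at h
    exact h
  have hpart : ∀ χ : IrrCharacter G, ∃ c : ℤ, ∀ y : Subgroup.centralizer ({x} : Set G),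
      ¬ 2 ∣ orderOf y → blockPart b (fun k : Subgroup.centralizer ({x} : Set G) =>
        (χ : G → ℂ) (x * (k : G))) y =
        (c : ℂ) * (θ : Subgroup.centralizer ({x} : Set G) → ℂ) y := by
    intro χ
    obtain ⟨m, hm⟩ := CfsgLib.Char.exists_multiplicities (CfsgLib.Char.isCharacter_restrict
      (Subgroup.centralizer ({x} : Set G)) (CfsgLib.Char.isCharacter_of_isIrr χ.2))
    choose s hs hs' using hsign
    have hf : (fun k : Subgroup.centralizer ({x} : Set G) => (χ : G → ℂ) (x * (k : G))) =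
        ∑ ξ : IrrCharacter (Subgroup.centralizer ({x} : Set G)),
          ((m ξ : ℂ) * (s ξ : ℂ)) • (ξ : Subgroup.centralizer ({x} : Set G) → ℂ) := by
      funext k
      have h := congrFun hm (k * x')
      rw [show ((k * x' : Subgroup.centralizer ({x} : Set G)) : G) = x * (k : G) from
        congrArg Subtype.val (hcen k).eq.symm] at h
      rw [h, Finset.sum_apply, Finset.sum_apply]
      refine Finset.sum_congr rfl fun ξ _ => ?_
      have hc := CfsgLib.Char.central_mul ξ.2 hcenter k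
      simp only [Pi.smul_apply, smul_eq_mul]
      have hne := CfsgLib.Char.irr_degree_ne_zero ξ.2
      apply mul_right_cancel₀ hne
      rw [hs' ξ] at hc
      linear_combination (m ξ : ℂ) * hc
    refine ⟨∑ ξ : IrrCharacter (Subgroup.centralizer ({x} : Set G)) with ξ ∈ b, (m ξ : ℤ) * s ξ,
      fun y hy => ?_⟩
    rw [CfsgLib.Blocks.blockPart_eq_filter, hf]
    simp only [Int.cast_sum, Int.cast_mul, Int.cast_natCast, Finset.sum_mul,
      CfsgLib.Char.classInner_sum_smul_irr]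
    exact Finset.sum_congr rfl fun ξ hξ => by rw [hregval ξ (Finset.mem_filter.mp hξ).2 y hy]
  choose c hc using hpart
  have hh0 : ∀ χ ∈ B, blockHeight 2 B (χ : G → ℂ) = 0 := by
    intro χ hχ
    by_contra hne
    obtain ⟨h, -⟩ := CfsgLib.Blocks.height_lt_and_sum_height_zero_le hM hB hχ hne
    omega
  have hcard2 : Nat.card B ≤ 2 := by
    have h := CfsgLib.Blocks.sum_pow_heights_le hM hB
    rw [hd, Finset.sum_congr rfl (g := fun _ => 1) fun χ hχ => by
      rw [hh0 χ (Finset.mem_filter.mp hχ).2, mul_zero, pow_zero], Finset.sum_const, smul_eq_mul,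
      mul_one] at h
    norm_num at h
    rw [show Nat.card B = (Finset.univ.filter fun χ : IrrCharacter G => χ ∈ B).card by
      rw [← Fintype.card_subtype, ← Nat.card_eq_fintype_card]]
    omega
  have hone : ¬ 2 ∣ orderOf (1 : Subgroup.centralizer ({x} : Set G)) := by
    rw [orderOf_one]; norm_num
  have hcne : ∀ χ ∈ B, c χ ≠ 0 := by
    intro χ hχ h0
    obtain ⟨y, hy, hne⟩ := CfsgLib.Blocks.exists_blockPart_ne_zero_of_height_zero hM hxp hχ
      (hh0 χ hχ) hb
    rw [hc χ y hy, h0, Int.cast_zero, zero_mul] at hne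
    exact hne rfl
  set s : Finset (IrrCharacter G) := {χ | χ ∈ B} with hs
  have hsum : ∑ χ ∈ s, c χ ^ 2 = 2 := by
    have h := CfsgLib.Blocks.sum_blockPart_mul_conj_blockPart hM hxp hB (b := b) (e := b) hb hb.1
      hone hone
    simp only [hc _ 1 hone, and_self, map_mul, map_intCast] at h
    rw [Finset.sum_congr rfl (s₂ := ({ξ | ξ ∈ b} : Finset _))
      (g := fun _ => (θ : Subgroup.centralizer ({x} : Set G) → ℂ) 1 *
        (starRingEnd ℂ) ((θ : Subgroup.centralizer ({x} : Set G) → ℂ) 1))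
      fun ξ hξ => by rw [hdeg ξ (Finset.mem_filter.mp hξ).2],
      Finset.sum_const, ← Fintype.card_subtype, ← Nat.card_eq_fintype_card] at h
    rw [show Nat.card {ξ // ξ ∈ b} = 2 from hbcard, nsmul_eq_mul] at h
    have hne : (θ : Subgroup.centralizer ({x} : Set G) → ℂ) 1 *
        (starRingEnd ℂ) ((θ : Subgroup.centralizer ({x} : Set G) → ℂ) 1) ≠ 0 :=
      mul_ne_zero hθ1 ((map_ne_zero _).mpr hθ1)
    have h2 : ((∑ χ ∈ s, c χ ^ 2 : ℤ) : ℂ) = ((2 : ℤ) : ℂ) := by
      push_cast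
      apply mul_right_cancel₀ hne
      refine Eq.trans ?_ h
      rw [Finset.sum_mul]
      exact Finset.sum_congr rfl fun χ _ => by ring
    exact_mod_cast h2
  have hscard : s.card = Nat.card B := by
    rw [hs, ← Fintype.card_subtype, ← Nat.card_eq_fintype_card]
  have hs2 : s.card = 2 := by
    by_contra hne
    have hle : s.card ≤ 1 := by omega
    obtain ⟨χ, hχ⟩ := CfsgLib.Blocks.IsPBlock.nonempty hB
    have hmem : χ ∈ s := by simp [hs, hχ]
    rw [Finset.eq_singleton_iff_unique_mem.mpr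
      ⟨hmem, fun ψ hψ => Finset.card_le_one.mp hle ψ hψ χ hmem⟩, Finset.sum_singleton] at hsum
    have h1 : c χ ≤ 1 := by nlinarith
    have h2 : -1 ≤ c χ := by nlinarith
    interval_cases c χ <;> norm_num at hsum
  obtain ⟨χ₁, χ₂, hne, hseq⟩ := Finset.card_eq_two.mp hs2
  have hχ₁ : χ₁ ∈ B := (Finset.mem_filter.mp (hseq ▸ Finset.mem_insert_self χ₁ {χ₂} : χ₁ ∈ s)).2
  have hχ₂ : χ₂ ∈ B := (Finset.mem_filter.mp
    (hseq ▸ Finset.mem_insert_of_mem (Finset.mem_singleton_self χ₂) : χ₂ ∈ s)).2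
  rw [hseq, Finset.sum_pair hne] at hsum
  have hc₁ := hcne χ₁ hχ₁
  have hc₂ := hcne χ₂ hχ₂
  have hc₁2 : c χ₁ = 1 ∨ c χ₁ = -1 := by
    have h1 : c χ₁ ≤ 1 := by nlinarith [sq_nonneg (c χ₁ - 1), mul_self_pos.mpr hc₂]
    have h2 : -1 ≤ c χ₁ := by nlinarith [sq_nonneg (c χ₁ + 1), mul_self_pos.mpr hc₂]
    omega
  have hc₂2 : c χ₂ = 1 ∨ c χ₂ = -1 := by
    have h1 : c χ₂ ≤ 1 := by nlinarith [sq_nonneg (c χ₂ - 1), mul_self_pos.mpr hc₁]
    have h2 : -1 ≤ c χ₂ := by nlinarith [sq_nonneg (c χ₂ + 1), mul_self_pos.mpr hc₁]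
    omega
  have hblock : ∀ (K : Subgroup G) [Fintype K], K = Subgroup.normalizer (Subgroup.zpowers x : Set G) →
      ∀ e e' : Set (IrrCharacter K), IsInducedBlock M K e B → IsInducedBlock M K e' B → e = e' := by
    rintro K _ rfl e e' he he'
    exact CfsgLib.Blocks.inducing_block_unique hM
      (CfsgLib.Blocks.IsDefectGroup.isPGroup hM hBD)
      (CfsgLib.Blocks.isDefectGroup_subgroupOf_of_induced hM Subgroup.le_normalizer le_rfl hBD he)
      he he'
  have hKN : Subgroup.centralizer ({x} : Set G) = Subgroup.normalizer (Subgroup.zpowers x : Set G) := by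
    refine le_antisymm (fun g hg => ?_) fun g hg => ?_
    · refine Subgroup.centralizer_le_normalizer _ (Subgroup.mem_centralizer_iff.mpr fun q hq => ?_)
      obtain ⟨i, rfl⟩ := Subgroup.mem_zpowers_iff.mp hq
      exact (Commute.zpow_left (Subgroup.mem_centralizer_singleton_iff.mp hg : Commute g x).symm i).eq
    · obtain ⟨i, hi, hgx⟩ := ((isOfFinOrder_of_finite x).mem_powers_iff_mem_range_orderOf.mp
        (mem_powers_iff_mem_zpowers.mpr ((Subgroup.mem_normalizer_iff.mp hg x).mp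
          (Subgroup.mem_zpowers x)))) |> Finset.mem_image.mp
      rw [hx, Finset.mem_range] at hi
      refine Subgroup.mem_centralizer_singleton_iff.mpr ?_
      interval_cases i
      · exfalso
        have hx1 : g * x * g⁻¹ = 1 := hgx.symm.trans (pow_zero x)
        have : x = 1 := by
          have := congrArg (fun z => g⁻¹ * z * g) hx1
          simpa [mul_assoc] using this
        rw [this, orderOf_one] at hx
        exact absurd hx (by norm_num)
      · have hx1 : g * x * g⁻¹ = x := hgx.symm.trans (pow_one x)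
        calc g * x = g * x * g⁻¹ * g := by group
          _ = x * g := by rw [hx1]
  have hval : ∀ χ ∈ B, ∀ y : Subgroup.centralizer ({x} : Set G), ¬ 2 ∣ orderOf y →
      (χ : G → ℂ) (x * (y : G)) = (c χ : ℂ) * (θ : Subgroup.centralizer ({x} : Set G) → ℂ) y := by
    intro χ hχ y hy
    have hcls : IsClassFunction (Subgroup.centralizer ({x} : Set G))
        (fun k : Subgroup.centralizer ({x} : Set G) => (χ : G → ℂ) (x * (k : G))) :=
      CfsgLib.Blocks.isClassFunction_translate (CfsgLib.Blocks.irr_classFunction χ)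
    rw [← hc χ y hy]
    refine (CfsgLib.Blocks.sum_blockCoeff_mul (M := M) (fun k : Subgroup.centralizer ({x} : Set G) =>
        (χ : G → ℂ) (x * (k : G))) y).symm.trans ?_
    rw [Finset.sum_eq_single b]
    · exact (CfsgLib.Blocks.blockPart_eq_sum b hcls y).symm
    · intro e he hne'
      rw [← CfsgLib.Blocks.blockPart_eq_sum e hcls y]
      refine CfsgLib.Blocks.blockPart_eq_zero_of_not_induced hM hxp hB hχ
        (CfsgLib.Blocks.mem_blocks.mp he) (fun hi => hne' ?_) hy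
      exact hblock _ hKN e b hi hb
    · exact fun h => absurd (CfsgLib.Blocks.mem_blocks.mpr hb.1) h
  have horth : ∀ g : G, ¬ 2 ∣ orderOf g →
      (c χ₁ : ℂ) * (χ₁ : G → ℂ) g + (c χ₂ : ℂ) * (χ₂ : G → ℂ) g = 0 := by
    intro g hg
    have hU : CfsgLib.Blocks.IsBlockUnion M (s : Set (IrrCharacter G)) := by
      simpa [hs] using CfsgLib.Blocks.IsPBlock.isBlockUnion hB
    have hxs : ¬ IsPRegular 2 x := fun h => h (by rw [hx])
    have h := CfsgLib.Blocks.sum_block_mul_conj_eq_zero hM hU hg hxs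
    rw [hseq, Finset.sum_pair hne] at h
    have hv : ∀ χ ∈ B, (χ : G → ℂ) x = (c χ : ℂ) * (θ : Subgroup.centralizer ({x} : Set G) → ℂ) 1 :=
      fun χ hχ => by simpa using hval χ hχ 1 hone
    rw [hv χ₁ hχ₁, hv χ₂ hχ₂] at h
    simp only [map_mul, map_intCast] at h
    have h' : ((c χ₁ : ℂ) * (χ₁ : G → ℂ) g + (c χ₂ : ℂ) * (χ₂ : G → ℂ) g) *
        (starRingEnd ℂ) ((θ : Subgroup.centralizer ({x} : Set G) → ℂ) 1) = 0 := by
      rw [← h]; ring
    exact (mul_eq_zero.mp h').resolve_right ((map_ne_zero _).mpr hθ1)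
  have hprod : c χ₁ * c χ₂ = -1 := by
    have h := horth 1 (by rw [orderOf_one]; norm_num)
    rw [(CfsgLib.Blocks.irr_degree_eq χ₁).1, (CfsgLib.Blocks.irr_degree_eq χ₂).1] at h
    have h' : c χ₁ * (charDegree (χ₁ : G → ℂ) : ℤ) + c χ₂ * (charDegree (χ₂ : G → ℂ) : ℤ) = 0 := by
      exact_mod_cast h
    have p1 := (CfsgLib.Blocks.irr_degree_eq χ₁).2
    have p2 := (CfsgLib.Blocks.irr_degree_eq χ₂).2
    rcases hc₁2 with e1 | e1 <;> rcases hc₂2 with e2 | e2 <;> rw [e1, e2] at h' ⊢ <;> omega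
  refine ⟨hscard ▸ hs2, fun χ hχ ψ hψ g hg => ?_, χ₁, hχ₁, χ₂, hχ₂, hne, c χ₁, c χ₂, hc₁2, hc₂2,
    hprod, fun y hy => ⟨hval χ₁ hχ₁ y hy, hval χ₂ hχ₂ y hy⟩⟩
  have hcq : (c χ₁ : ℂ) * (c χ₂ : ℂ) = -1 := by exact_mod_cast hprod
  have hc2' : (c χ₂ : ℂ) * (c χ₂ : ℂ) = 1 := by
    rcases hc₂2 with e | e <;> rw [e] <;> norm_num
  have heq : (χ₁ : G → ℂ) g = (χ₂ : G → ℂ) g := by
    linear_combination (-(c χ₂ : ℂ)) * horth g hg + (χ₁ : G → ℂ) g * hcq + (χ₂ : G → ℂ) g * hc2'
  have hmem : ∀ χ ∈ B, χ = χ₁ ∨ χ = χ₂ := fun χ hχ => by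
    have : χ ∈ s := by simp [hs, hχ]
    rw [hseq] at this
    simpa using this
  rcases hmem χ hχ with rfl | rfl <;> rcases hmem ψ hψ with rfl | rfl
  · rfl
  · exact heq
  · exact heq.symm
  · rfl

end Cfsg.Agent.S4513
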