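import Cfsg.Statements.S4518
import Cfsg.Agent.Lib.Char.Clifford
import Cfsg.Agent.Lib.Char.Twist

set_option autoImplicit false
open Cfsg

namespace Cfsg.Agent.S4518

open CfsgLib.Char
open scoped CfsgLib.Char

/-- Let N be a normal subgroup of the finite group G whose index is not divisible by the prime p, and let k be coprime to the order of G with k ^ (p ^ e) ≡ 1 modulo the order of G for some e (so g ↦ g ^ k induces a field automorphism of p-power order on character values). If an irreducible character χ of G satisfies χ (g ^ k) = χ g for all g, then every irreducible constituent θ of the restriction of χ to N satisfies θ (n ^ k) = θ n for all n. -/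
theorem result {G : Type*} [Group G] [Fintype G] (p : ℕ) [Fact p.Prime] (N : Subgroup G) [N.Normal] [Fintype N] (hidx : ¬ p ∣ N.index) (k e : ℕ) (hk : Nat.Coprime k (Nat.card G)) (hke : k ^ (p ^ e) ≡ 1 [MOD Nat.card G]) (χ : Cfsg.IrrCharacter G) (hχ : ∀ g : G, (χ : G → ℂ) (g ^ k) = (χ : G → ℂ) g) (θ : Cfsg.IrrCharacter N) (hθ : Cfsg.classInner (fun n : N => (χ : G → ℂ) n) (θ : N → ℂ) ≠ 0) : ∀ n : N, (θ : N → ℂ) (n ^ k) = (θ : N → ℂ) n := by
  classical
  have hkN : k.Coprime (Nat.card N) := hk.coprime_dvd_right (Subgroup.card_subgroup_dvd_card N)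
  have hord : ∀ n : N, orderOf n ∣ Nat.card G := fun n =>
    (orderOf_dvd_natCard n).trans (Subgroup.card_subgroup_dvd_card N)
  have hθ' : Cfsg.classInner (fun n : N => (χ : G → ℂ) n) (fun n : N => (θ : N → ℂ) (n ^ k)) ≠ 0 := by
    rw [← show (fun n : N => (χ : G → ℂ) (((n ^ k : N)) : G)) = fun n : N => (χ : G → ℂ) n from
      funext fun n => by rw [SubmonoidClass.coe_pow, hχ]]
    rw [classInner_pow hkN (fun n : N => (χ : G → ℂ) n) (θ : N → ℂ)]
    exact hθ
  obtain ⟨g, hg⟩ : ∃ g, conjBy N (θ : N → ℂ) g = fun n : N => (θ : N → ℂ) (n ^ k) := by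
    rw [← mem_orbit]
    by_contra hno
    refine hθ' ?_
    rw [clifford N χ.2 θ.2 hθ, classInner_smul_left, classInner_sum_left]
    refine mul_eq_zero_of_right _ (Finset.sum_eq_zero fun φ hφ => ?_)
    obtain ⟨h, rfl⟩ := (mem_orbit N).mp hφ
    exact classInner_irr_ne (isIrrCharacter_conjBy N θ.2 h) (isIrrCharacter_pow hkN θ.2) fun e =>
      hno (e ▸ hφ)
  have hiter : ∀ (j : ℕ) (n : N), (θ : N → ℂ) (n ^ (k ^ j)) = conjBy N (θ : N → ℂ) (g ^ j) n := by
    intro j
    induction j with
    | zero => intro n; rw [pow_zero, pow_zero, pow_one, conjBy_one]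
    | succ j ih =>
      intro n
      rw [pow_succ' k j, pow_mul, ih, pow_succ' g j, conjBy_mul, hg]
      simp only [conjBy]
      refine congrArg (θ : N → ℂ) (Subtype.ext ?_)
      push_cast
      rw [conj_pow]
  have hgp : g ^ (p ^ e) ∈ inertia N (θ : N → ℂ) := by
    rw [mem_inertia]
    funext n
    rw [← hiter, pow_eq_self_of_modEq_one (hord n) hke]
  have hgi : g ^ N.index ∈ inertia N (θ : N → ℂ) :=
    le_inertia N (isClassFunction_irr θ) (N.pow_index_mem g)
  have hcop : Nat.gcd (p ^ e) N.index = 1 :=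
    Nat.Coprime.pow_left e ((Fact.out : p.Prime).coprime_iff_not_dvd.mpr hidx)
  have hgmem : g ∈ inertia N (θ : N → ℂ) := by
    have hb := Nat.gcd_eq_gcd_ab (p ^ e) N.index
    rw [hcop, Nat.cast_one] at hb
    rw [← zpow_one g, hb, zpow_add, zpow_mul, zpow_mul, zpow_natCast, zpow_natCast]
    exact Subgroup.mul_mem _ (Subgroup.zpow_mem _ hgp _) (Subgroup.zpow_mem _ hgi _)
  intro n
  rw [mem_inertia] at hgmem
  exact congrFun (hg.symm.trans hgmem) n

end Cfsg.Agent.S4518
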