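import Cfsg.Statements.S4520
import Cfsg.Agent.Lib.Blocks.RealBlock
import Cfsg.Agent.Lib.Blocks.CoveringConstituents
import Cfsg.Agent.Lib.Blocks.Inflate
import Cfsg.Agent.Lib.Char.OddIndexFixed
import Cfsg.Agent.Lib.Char.Central

set_option linter.style.haveILetI false

set_option autoImplicit false
open Cfsg

namespace Cfsg.Agent.S4520

open CfsgLib
open scoped CfsgLib.Char

private theorem centralizer_pow_eq {G : Type*} [Group G] [Finite G] {k : ℕ}
    (hk : Nat.Coprime k (Nat.card G)) (g : G) :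
    Subgroup.centralizer ({g ^ k} : Set G) = Subgroup.centralizer ({g} : Set G) := by
  obtain ⟨m, hm⟩ := exists_pow_eq_self_of_coprime (x := g)
    (hk.coprime_dvd_right (orderOf_dvd_natCard g))
  ext w
  simp only [Subgroup.mem_centralizer_singleton_iff]
  refine ⟨fun h => ?_, fun h => ((show Commute w g from h).pow_right k).eq⟩
  have h' := (show Commute w (g ^ k) from h).pow_right m
  rw [hm] at h'
  exact h'.eq

/-- Let N be a normal subgroup of odd index in the finite group G, M a maximal ideal of the algebraic integers containing 2, and k coprime to the order of G with k ^ (2 ^ e) ≡ 1 modulo the order of G for some e and g ^ k = g⁻¹ for every element g of odd order. Let θ be an irreducible character of N and χ an irreducible character of G over θ, both unchanged by composing with g ↦ g ^ k. Then χ lies in the principal 2-block of G if and only if θ lies in the principal 2-block of N. -/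
theorem result {G : Type*} [Group G] [Fintype G] (M : Ideal Cfsg.AlgInt) (hM : Cfsg.IsPModular 2 M) (N : Subgroup G) [N.Normal] [Fintype N] (hidx : Odd N.index) (k e : ℕ) (hk : Nat.Coprime k (Nat.card G)) (hke : k ^ (2 ^ e) ≡ 1 [MOD Nat.card G]) (hk₂ : ∀ g : G, Odd (orderOf g) → g ^ k = g⁻¹) (θ : Cfsg.IrrCharacter N) (hθ : ∀ n : N, (θ : N → ℂ) (n ^ k) = (θ : N → ℂ) n) (χ : Cfsg.IrrCharacter G) (hχ : ∀ g : G, (χ : G → ℂ) (g ^ k) = (χ : G → ℂ) g) (hover : Cfsg.classInner (fun n : N => (χ : G → ℂ) n) (θ : N → ℂ) ≠ 0) : χ ∈ Cfsg.principalBlock M G ↔ θ ∈ Cfsg.principalBlock M N := by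
  classical
  haveI := Blocks.isPrime_of_isPModular hM
  have hB := Blocks.isPBlock_blockOf (M := M) χ
  have hb := Blocks.isPBlock_blockOf (M := M) θ
  have hb₀ : IsPBlock M (principalBlock M ↥N) := Blocks.isPBlock_principalBlock
  have hB₀ : IsPBlock M (principalBlock M G) := Blocks.isPBlock_principalBlock
  constructor
  · intro hχB
    -- the trivial characters cover, so `θ` is conjugate into the principal block
    have hcon1 : classInner (fun n : N => (Blocks.trivIrr G : G → ℂ) n) (Blocks.trivIrr N : N → ℂ) ≠ 0 := by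
      rw [show (fun n : N => (Blocks.trivIrr G : G → ℂ) n) = (Blocks.trivIrr N : N → ℂ) from rfl,
        Char.classInner_irr_self (Blocks.trivIrr N).2]
      exact one_ne_zero
    obtain ⟨g, hg⟩ := Blocks.exists_conjI_mem_of_congr (χ := χ) hb₀
      (θ := Blocks.trivIrr N) (Blocks.mem_blockOf_self (Blocks.trivIrr N))
      (fun v hv hl hsupp => Blocks.omega_congr_of_covering hB₀ hb₀ (χ := Blocks.trivIrr G)
        (Blocks.mem_blockOf_self (Blocks.trivIrr G)) (Blocks.mem_blockOf_self (Blocks.trivIrr N))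
        hcon1 hχB (Blocks.mem_blockOf_self (Blocks.trivIrr N)) hv hl hsupp) hover
    have h := Blocks.sameBlock_inflate (M := M)
      (MulAut.conjNormal g⁻¹ : MulAut N).toMonoidHom (MulAut.conjNormal g⁻¹ : MulAut N).surjective
      (Blocks.IsPBlock.sameBlock hb₀ (Blocks.mem_blockOf_self (Blocks.trivIrr N)) hg)
    have h2 : SameBlock M (Blocks.conjI g⁻¹ (Blocks.trivIrr N) : N → ℂ)
        (Blocks.conjI g⁻¹ (Blocks.conjI g θ) : N → ℂ) := h
    rw [← Blocks.conjI_mul, mul_inv_cancel, Blocks.conjI_one] at h2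
    exact Blocks.IsPBlock.mem_of_sameBlock hb₀ (Blocks.mem_blockOf_self (Blocks.trivIrr N)) h2
  · intro hθB
    obtain ⟨χ₁, hχ₁, hcon₁⟩ := Blocks.exists_constituent_mem_of_covering hM hb₀ hB
      (Blocks.mem_blockOf_self χ) hθB hover (θ₁ := Blocks.trivIrr N)
      (Blocks.mem_blockOf_self (Blocks.trivIrr N))
    have hker : ∀ u ∈ N, (χ₁ : G → ℂ) u = (χ₁ : G → ℂ) 1 := by
      intro u hu
      have h := Char.clifford N χ₁.2 (Blocks.trivIrr N).2 hcon₁
      have e1 := congrFun h ⟨u, hu⟩
      have e2 := congrFun h 1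
      have eorb : ∀ φ ∈ Char.orbit N (Blocks.trivIrr N : N → ℂ), φ = fun _ => 1 := fun φ hφ => by
        obtain ⟨a, rfl⟩ := (Char.mem_orbit N).mp hφ
        rfl
      simp only [Pi.smul_apply, Finset.sum_apply] at e1 e2
      rw [Finset.sum_congr rfl fun φ hφ => congrFun (eorb φ hφ) ⟨u, hu⟩] at e1
      rw [Finset.sum_congr rfl fun φ hφ => congrFun (eorb φ hφ) 1] at e2
      rw [e1, ← e2]
      rfl
    have hodd : Odd (charDegree (χ₁ : G → ℂ)) := by
      obtain ⟨η, hη⟩ := Blocks.exists_inflate_eq_of_ker N χ₁ hker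
      have hdeg : charDegree (χ₁ : G → ℂ) = charDegree (η : G ⧸ N → ℂ) := by
        rw [hη]
        show ⌊((η : G ⧸ N → ℂ) (QuotientGroup.mk' N 1)).re⌋₊ = _
        rw [map_one]; rfl
      obtain ⟨n, ρ, hρ, hηρ⟩ := η.2
      haveI := hρ
      have hd := Char.degree_dvd_card ρ
      rw [hdeg, show charDegree (η : G ⧸ N → ℂ) = Module.finrank ℂ (Fin n → ℂ) by
        rw [charDegree, ← hηρ, Representation.char_one, Complex.natCast_re, Nat.floor_natCast]]
      rw [← Subgroup.index_eq_card] at hd
      exact hidx.of_dvd_nat hd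
    have hinv : ∀ g : G, IsPRegular 2 g → g ^ k = g⁻¹ := fun g hg =>
      hk₂ g (Nat.odd_iff.mpr (Nat.two_dvd_ne_zero.mp hg))
    have hstab : ∀ η ∈ blockOf M (χ : G → ℂ), ∃ ψ ∈ blockOf M (χ : G → ℂ),
        ∀ g : G, (ψ : G → ℂ) g = (η : G → ℂ) (g ^ k) := fun η hη =>
      ⟨Char.OddFixed.powIrr hk η, fun g => by
        have h := hη (g ^ k)
        show MemLocalIdeal M (centralChar (χ : G → ℂ) g -
          centralChar (fun x => (η : G → ℂ) (x ^ k)) g)
        simp only [centralChar, centralizer_pow_eq hk, hχ] at h ⊢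
        rwa [one_pow], fun g => rfl⟩
    have hBeq := Blocks.eq_principalBlock_of_stable hM hB hk hinv hχ₁ hodd hstab
    exact hBeq ▸ Blocks.mem_blockOf_self χ

end Cfsg.Agent.S4520
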