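import Cfsg.Statements.S4521
import Cfsg.Agent.Lib.Blocks.RegularCriterion
import Cfsg.Agent.Lib.Char.Clifford

set_option autoImplicit false
open Cfsg
open scoped CfsgLib.Char

namespace Cfsg.Agent.S4521

/-- Let the finite group G be generated by subgroups U₁ and U₂ that commute elementwise and whose intersection is a p-group, and let M be a maximal ideal of the algebraic integers containing the prime p. If the irreducible character χ of G has the irreducible constituents ψ₁ on U₁ and ψ₂ on U₂, then χ lies in the principal block of G if and only if ψ₁ and ψ₂ lie in the principal blocks of U₁ and U₂. -/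
theorem result {G : Type*} [Group G] [Fintype G] (p : ℕ) [Fact p.Prime] (M : Ideal Cfsg.AlgInt) (hM : Cfsg.IsPModular p M) (U₁ U₂ : Subgroup G) [Fintype U₁] [Fintype U₂] (hcomm : ∀ u ∈ U₁, ∀ v ∈ U₂, u * v = v * u) (hgen : U₁ ⊔ U₂ = ⊤) (hZ : IsPGroup p ↥(U₁ ⊓ U₂)) (χ : Cfsg.IrrCharacter G) (ψ₁ : Cfsg.IrrCharacter U₁) (ψ₂ : Cfsg.IrrCharacter U₂) (h₁ : Cfsg.classInner (fun u : U₁ => (χ : G → ℂ) u) (ψ₁ : U₁ → ℂ) ≠ 0) (h₂ : Cfsg.classInner (fun u : U₂ => (χ : G → ℂ) u) (ψ₂ : U₂ → ℂ) ≠ 0) : χ ∈ Cfsg.principalBlock M G ↔ (ψ₁ ∈ Cfsg.principalBlock M U₁ ∧ ψ₂ ∈ Cfsg.principalBlock M U₂) := by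
  classical
  have := CfsgLib.Blocks.isPrime_of_isPModular hM
  have hC12 : U₂ ≤ Subgroup.centralizer (U₁ : Set G) := fun v hv =>
    Subgroup.mem_centralizer_iff.mpr fun u hu => hcomm u hu v hv
  have hdec : ∀ g : G, ∃ u ∈ U₁, ∃ v ∈ U₂, g = u * v := by
    intro g
    have h := MonoidHom.noncommCoprod_range U₁.subtype U₂.subtype fun m n => hcomm m m.2 n n.2
    rw [Subgroup.range_subtype, Subgroup.range_subtype, hgen] at h
    obtain ⟨⟨a, c⟩, hac⟩ : g ∈ (MonoidHom.noncommCoprod U₁.subtype U₂.subtype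
        fun m n => hcomm m m.2 n n.2).range := by rw [h]; exact Subgroup.mem_top g
    exact ⟨a, a.2, c, c.2, hac.symm⟩
  have hdec' : ∀ g : G, ∃ v ∈ U₂, ∃ u ∈ U₁, g = v * u := fun g => by
    obtain ⟨u, hu, v, hv, rfl⟩ := hdec g
    exact ⟨v, hv, u, hu, hcomm u hu v hv⟩
  have hreg : ∀ g : G, IsPRegular p g →
      ∃ u ∈ U₁, ∃ v ∈ U₂, IsPRegular p u ∧ IsPRegular p v ∧ g = u * v := by
    intro g hg
    obtain ⟨u, hu, v, hv, rfl⟩ := hdec g
    set n := Nat.card G
    have hn : n ≠ 0 := Nat.card_pos.ne'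
    set q := p ^ n.factorization p
    set r := n / q
    have hco : q.Coprime r := Nat.Coprime.pow_left _ (Nat.coprime_ordCompl hM.1 hn)
    obtain ⟨k, hk0, hk1⟩ := Nat.chineseRemainder hco 0 1
    have hr : ¬ p ∣ r := Nat.not_dvd_ordCompl hM.1 hn
    have hreg' : ∀ x : G, IsPRegular p (x ^ k) := by
      intro x hp
      obtain ⟨c, hc⟩ := Nat.modEq_zero_iff_dvd.mp hk0
      refine hr (hp.trans (orderOf_dvd_of_pow_eq_one ?_))
      rw [← pow_mul, hc, show q * c * r = q * r * c by ring,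
        show q * r = n from Nat.ordProj_mul_ordCompl_eq_self n p, pow_mul, pow_card_eq_one', one_pow]
    refine ⟨u ^ k, U₁.pow_mem hu k, v ^ k, U₂.pow_mem hv k, hreg' u, hreg' v, ?_⟩
    have hdvd : orderOf (u * v) ∣ r := by
      have h : orderOf (u * v) ∣ q * r := by
        rw [show q * r = n from Nat.ordProj_mul_ordCompl_eq_self n p]; exact orderOf_dvd_natCard _
      exact Nat.Coprime.dvd_of_dvd_mul_left
        (Nat.Coprime.pow_right _ ((Nat.Prime.coprime_iff_not_dvd hM.1).mpr hg).symm) h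
    rw [← (show Commute u v from hcomm u hu v hv).mul_pow,
      pow_eq_pow_iff_modEq.mpr (Nat.ModEq.of_dvd hdvd hk1), pow_one]
  have hnormal : ∀ (A B : Subgroup G), (∀ g : G, ∃ a ∈ A, ∃ b ∈ B, g = a * b) →
      (∀ a ∈ A, ∀ b ∈ B, a * b = b * a) → A.Normal := by
    intro A B hd hc
    refine ⟨fun n hn g => ?_⟩
    obtain ⟨a, ha, b, hb, rfl⟩ := hd g
    rw [show a * b * n * (a * b)⁻¹ = a * (b * n * b⁻¹) * a⁻¹ by group, ← hc n hn b hb,
      mul_inv_cancel_right]
    exact A.mul_mem (A.mul_mem ha hn) (A.inv_mem ha)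
  have hrest : ∀ (A B : Subgroup G) [Fintype A], (∀ g : G, ∃ a ∈ A, ∃ b ∈ B, g = a * b) →
      (∀ a ∈ A, ∀ b ∈ B, a * b = b * a) → ∀ θ : IrrCharacter A,
      classInner (fun u : A => (χ : G → ℂ) u) (θ : A → ℂ) ≠ 0 →
      ∀ a : A, centralChar (χ : G → ℂ) (a : G) = centralChar (θ : A → ℂ) a ∧
        (Subgroup.centralizer ({(a : G)} : Set G)).index =
          (Subgroup.centralizer ({a} : Set A)).index := by
    intro A B _ hd hc θ hθ a
    have := hnormal A B hd hc
    have hinv : ∀ g, CfsgLib.Char.conjBy A (θ : A → ℂ) g = θ := by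
      intro g
      obtain ⟨x, hx, b, hb, rfl⟩ := hd g
      rw [CfsgLib.Char.conjBy_mul, CfsgLib.Char.conjBy_mem A (CfsgLib.Blocks.irr_classFunction θ) hx]
      funext n
      rw [CfsgLib.Char.conjBy_apply]
      refine congrArg (θ : A → ℂ) (Subtype.ext ?_)
      show b * (n : G) * b⁻¹ = (n : G)
      rw [← hc n n.2 b hb, mul_inv_cancel_right]
    have hres := CfsgLib.Char.clifford_invariant A χ.2 θ.2 hinv hθ
    have hidx : (Subgroup.centralizer ({(a : G)} : Set G)).index =
        (Subgroup.centralizer ({a} : Set A)).index := by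
      rw [CfsgLib.Blocks.index_eq_relIndex_of_mul A _ fun g => by
        obtain ⟨x, hx, b, hb, rfl⟩ := hd g
        exact ⟨x, hx, b, Subgroup.mem_centralizer_singleton_iff.mpr (hc a a.2 b hb).symm, rfl⟩,
        Subgroup.relIndex]
      congr 1
      ext y
      simp [Subgroup.mem_subgroupOf, Subgroup.mem_centralizer_singleton_iff, Subtype.ext_iff]
    refine ⟨?_, hidx⟩
    have ha := congrFun hres a
    have h1 := congrFun hres 1
    simp only [Pi.smul_apply, smul_eq_mul, OneMemClass.coe_one] at ha h1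
    rw [centralChar, centralChar, hidx, ha, h1]
    have h0 := CfsgLib.Char.irr_degree_ne_zero θ.2
    field_simp
  have hfun : ∀ u ∈ U₁, ∀ v ∈ U₂,
      centralChar (χ : G → ℂ) (u * v) * (((Subgroup.centralizer ({u} : Set G)).index : ℂ) *
        (Subgroup.centralizer ({v} : Set G)).index) =
      centralChar (χ : G → ℂ) u * centralChar (χ : G → ℂ) v *
        (Subgroup.centralizer ({u * v} : Set G)).index := by
    intro u hu v hv
    have hG : (Nat.card G : ℂ) ≠ 0 := Nat.cast_ne_zero.mpr Nat.card_pos.ne'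
    have hχ1 : (χ : G → ℂ) 1 ≠ 0 := CfsgLib.Char.irr_degree_ne_zero χ.2
    have h := CfsgLib.Blocks.sum_conj_mul_irr χ v u
    rw [Finset.sum_congr rfl (g := fun _ => (χ : G → ℂ) (u * v)) fun y _ => ?_, Finset.sum_const,
      Finset.card_univ, ← Nat.card_eq_fintype_card, nsmul_eq_mul, eq_div_iff hχ1, mul_assoc,
      mul_assoc, mul_right_inj' hG] at h
    · simp only [centralChar]
      rw [show (χ : G → ℂ) (u * v) = (χ : G → ℂ) u * (χ : G → ℂ) v / (χ : G → ℂ) 1 from
        (eq_div_iff hχ1).mpr (by linear_combination h)]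
      field_simp
    · obtain ⟨a, ha, b, hb, rfl⟩ := hdec' y
      calc (χ : G → ℂ) (a * b * v * (a * b)⁻¹ * u) = (χ : G → ℂ) (a * (v * u) * a⁻¹) := by
            congr 1
            have e1 : b * v * b⁻¹ = v := by rw [hcomm b hb v hv, mul_inv_cancel_right]
            rw [show a * b * v * (a * b)⁻¹ * u = a * (b * v * b⁻¹) * (a⁻¹ * u) by group, e1,
              show a⁻¹ * u = u * a⁻¹ from ((show Commute u a from hcomm u hu a ha).inv_right).eq.symm]
            group
        _ = (χ : G → ℂ) (u * v) := by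
            rw [← hcomm u hu v hv]; exact CfsgLib.Blocks.irr_classFunction χ _ a
  have hprod : ∀ u ∈ U₁, ∀ v ∈ U₂, IsPRegular p u → IsPRegular p v →
      (Subgroup.centralizer ({u * v} : Set G)).index =
        (Subgroup.centralizer ({u} : Set G)).index * (Subgroup.centralizer ({v} : Set G)).index := by
    intro u hu v hv hur hvr
    set Cu := Subgroup.centralizer ({u} : Set G) with hCu
    set Cv := Subgroup.centralizer ({v} : Set G) with hCv
    have heq : Subgroup.centralizer ({u * v} : Set G) = Cu ⊓ Cv := by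
      ext g
      simp only [hCu, hCv, Subgroup.mem_inf, Subgroup.mem_centralizer_singleton_iff]
      constructor
      · intro hg
        obtain ⟨a, ha, b, hb, rfl⟩ := hdec g
        have e1 : a * b * u * (a * b)⁻¹ = a * u * a⁻¹ := by
          rw [show a * b * u * (a * b)⁻¹ = a * (b * u * b⁻¹) * a⁻¹ by group, ← hcomm u hu b hb,
            mul_inv_cancel_right]
        have e2 : a * b * v * (a * b)⁻¹ = b * v * b⁻¹ := by
          rw [show a * b * v * (a * b)⁻¹ = a * (b * v * b⁻¹) * a⁻¹ by group,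
            hcomm a ha _ (U₂.mul_mem (U₂.mul_mem hb hv) (U₂.inv_mem hb)), mul_inv_cancel_right]
        have e : a * u * a⁻¹ * (b * v * b⁻¹) = u * v := by
          rw [← e1, ← e2,
            show a * b * u * (a * b)⁻¹ * (a * b * v * (a * b)⁻¹) = a * b * (u * v) * (a * b)⁻¹ by group,
            hg, mul_inv_cancel_right]
        set z := u⁻¹ * (a * u * a⁻¹) with hz
        have hzU : z ∈ U₁ ⊓ U₂ := by
          refine ⟨U₁.mul_mem (U₁.inv_mem hu) (U₁.mul_mem (U₁.mul_mem ha hu) (U₁.inv_mem ha)), ?_⟩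
          show z ∈ U₂
          have : z = v * (b * v * b⁻¹)⁻¹ := by
            rw [hz, eq_mul_inv_iff_mul_eq, mul_assoc, e]; group
          rw [this]
          exact U₂.mul_mem hv (U₂.inv_mem (U₂.mul_mem (U₂.mul_mem hb hv) (U₂.inv_mem hb)))
        have hz1 : z = 1 := by
          obtain ⟨j, hj⟩ := hZ ⟨z, hzU⟩
          have hzp : z ^ p ^ j = 1 := congrArg Subtype.val hj
          have hcz : Commute u z := hcomm u hu z hzU.2
          have hconj : (u * z) ^ orderOf u = 1 := by
            rw [show u * z = a * u * a⁻¹ by rw [hz]; group, conj_pow, pow_orderOf_eq_one]; group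
          rw [hcz.mul_pow, pow_orderOf_eq_one, one_mul] at hconj
          refine orderOf_eq_one_iff.mp (Nat.eq_one_of_dvd_coprimes
            (Nat.Coprime.pow_left j ((Nat.Prime.coprime_iff_not_dvd hM.1).mpr hur))
            (orderOf_dvd_of_pow_eq_one hzp) (orderOf_dvd_of_pow_eq_one hconj))
        have hau : a * u * a⁻¹ = u := by
          have := congrArg (u * ·) hz1
          simpa [hz] using this
        have hbv : b * v * b⁻¹ = v := mul_left_cancel (by rw [hau] at e; exact e)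
        exact ⟨eq_mul_of_mul_inv_eq (e1.trans hau), eq_mul_of_mul_inv_eq (e2.trans hbv)⟩
      · rintro ⟨h, h'⟩
        rw [← mul_assoc, h, mul_assoc, h', mul_assoc]
    have hd : ∀ g : G, ∃ a ∈ Cv, ∃ c ∈ Cu, g = a * c := fun g => by
      obtain ⟨a, ha, b, hb, rfl⟩ := hdec g
      exact ⟨a, Subgroup.mem_centralizer_singleton_iff.mpr (hcomm a ha v hv), b,
        Subgroup.mem_centralizer_singleton_iff.mpr (hcomm u hu b hb).symm, rfl⟩
    rw [heq, ← Subgroup.relIndex_mul_index (inf_le_right : Cu ⊓ Cv ≤ Cv),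
      Subgroup.inf_relIndex_right, ← CfsgLib.Blocks.index_eq_relIndex_of_mul Cv Cu hd]
  have hord : ∀ {A : Subgroup G} (a : A), IsPRegular p (a : G) ↔ IsPRegular p a := fun a => by
    simp only [IsPRegular, Subgroup.orderOf_coe]
  constructor
  · intro hχ
    rw [CfsgLib.Blocks.mem_principalBlock_iff] at hχ
    constructor
    · refine CfsgLib.Blocks.mem_principalBlock_of_regular hM fun a _ => ?_
      obtain ⟨e, ei⟩ := hrest U₁ U₂ hdec hcomm ψ₁ h₁ a
      rw [← e, ← ei]
      exact hχ _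
    · refine CfsgLib.Blocks.mem_principalBlock_of_regular hM fun a _ => ?_
      obtain ⟨e, ei⟩ := hrest U₂ U₁ hdec' (fun b hb c hc => (hcomm c hc b hb).symm) ψ₂ h₂ a
      rw [← e, ← ei]
      exact hχ _
  · rintro ⟨hm₁, hm₂⟩
    rw [CfsgLib.Blocks.mem_principalBlock_iff] at hm₁ hm₂
    refine CfsgLib.Blocks.mem_principalBlock_of_regular hM fun g hg => ?_
    obtain ⟨u, hu, v, hv, hur, hvr, rfl⟩ := hreg g hg
    obtain ⟨e₁, ei₁⟩ := hrest U₁ U₂ hdec hcomm ψ₁ h₁ ⟨u, hu⟩
    obtain ⟨e₂, ei₂⟩ := hrest U₂ U₁ hdec' (fun b hb c hc => (hcomm c hc b hb).symm) ψ₂ h₂ ⟨v, hv⟩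
    have hf := hfun u hu v hv
    rw [hprod u hu v hv hur hvr, Nat.cast_mul] at hf
    have hne : ((Subgroup.centralizer ({u} : Set G)).index : ℂ) *
        (Subgroup.centralizer ({v} : Set G)).index ≠ 0 :=
      mul_ne_zero (Nat.cast_ne_zero.mpr Subgroup.index_ne_zero_of_finite)
        (Nat.cast_ne_zero.mpr Subgroup.index_ne_zero_of_finite)
    rw [mul_left_inj' hne] at hf
    rw [hf, hprod u hu v hv hur hvr, Nat.cast_mul]
    have a1 : MemLocalIdeal M (centralChar (χ : G → ℂ) u -
        ((Subgroup.centralizer ({u} : Set G)).index : ℂ)) := by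
      have h := hm₁ ⟨u, hu⟩
      rwa [← e₁, ← ei₁] at h
    have a2 : MemLocalIdeal M (centralChar (χ : G → ℂ) v -
        ((Subgroup.centralizer ({v} : Set G)).index : ℂ)) := by
      have h := hm₂ ⟨v, hv⟩
      rwa [← e₂, ← ei₂] at h
    have := CfsgLib.Blocks.memLocalIdeal_add
      (CfsgLib.Blocks.memLocalIdeal_mul_right a1 (CfsgLib.Blocks.memLocalRing_centralChar χ v))
      (CfsgLib.Blocks.memLocalIdeal_mul_left
        (CfsgLib.Blocks.memLocalRing_natCast (Subgroup.centralizer ({u} : Set G)).index) a2)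
    rw [sub_mul, mul_sub, sub_add_sub_cancel] at this
    exact this

end Cfsg.Agent.S4521
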