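import Cfsg.Statements.S4523
import Cfsg.Agent.Lib.GaloisFixed.Twisted
import Cfsg.Agent.Lib.GaloisFixed.Count
import Cfsg.Agent.S0205

set_option autoImplicit false
open Cfsg

namespace Cfsg.Agent.S4523

/-- Let S be a non-abelian finite simple group with commutative Sylow 2-subgroups and M a maximal ideal of the algebraic integers containing 2. Let k be a natural number with g ^ k = g for every 2-element g and g ^ k = g⁻¹ for every element g of odd order. Then S has an irreducible character χ₁ of even degree with χ₁ (g ^ k) = χ₁ g for all g, and its principal 2-block contains a character χ₂ other than the principal character with χ₂ (g ^ k) = χ₂ g for all g. -/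
theorem result {S : Type*} [Group S] [Finite S] [IsSimpleGroup S] (hna : ¬ IsMulCommutative S) (P : Sylow 2 S) (hP : IsMulCommutative P) (M : Ideal Cfsg.AlgInt) (hM : Cfsg.IsPModular 2 M) (k : ℕ) (hk₁ : ∀ g : S, (∃ j : ℕ, orderOf g = 2 ^ j) → g ^ k = g) (hk₂ : ∀ g : S, Odd (orderOf g) → g ^ k = g⁻¹) : (∃ χ₁ : Cfsg.IrrCharacter S, Even (Cfsg.charDegree (χ₁ : S → ℂ)) ∧ ∀ g : S, (χ₁ : S → ℂ) (g ^ k) = (χ₁ : S → ℂ) g) ∧ ∃ χ₂ ∈ Cfsg.principalBlock M S, (χ₂ : S → ℂ) ≠ (fun _ => 1) ∧ ∀ g : S, (χ₂ : S → ℂ) (g ^ k) = (χ₂ : S → ℂ) g := by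
  classical
  haveI := Fintype.ofFinite S
  haveI : Fact (Nat.Prime 2) := ⟨Nat.prime_two⟩
  have h2 : 2 ∣ Nat.card S := by
    by_contra h
    haveI := Cfsg.Agent.S0205.result (Nat.odd_iff.mpr (Nat.two_dvd_ne_zero.mp h))
    exact hna ⟨⟨IsSimpleGroup.comm_iff_isSolvable.mpr inferInstance⟩⟩
  obtain ⟨t, ht⟩ := exists_prime_orderOf_dvd_card' 2 h2
  have hcomm : ∀ H : Subgroup S, IsPGroup 2 H → ∀ a ∈ H, ∀ b ∈ H, a * b = b * a := by
    intro H hH a ha b hb
    obtain ⟨T, hT⟩ := hH.exists_le_sylow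
    obtain ⟨g, hg⟩ := MulAction.exists_smul_eq S T P
    have hmem : ∀ x ∈ H, g * x * g⁻¹ ∈ (P : Subgroup S) := fun x hx => by
      rw [← hg]
      exact Subgroup.mem_pointwise_smul_iff_inv_smul_mem.mpr (by
        simpa [MulAut.conj_apply, mul_assoc] using hT hx)
    have h := congrArg Subtype.val (hP.is_comm.comm ⟨_, hmem a ha⟩ ⟨_, hmem b hb⟩)
    simp only [Subgroup.coe_mul, mul_assoc, inv_mul_cancel_left] at h
    simp only [← mul_assoc, mul_left_inj] at h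
    exact mul_left_cancel (by rw [← mul_assoc, ← mul_assoc]; exact h : g * (a * b) = g * (b * a))
  refine ⟨?_, CfsgLib.GaloisFixed.exists_fixed_mem_principalBlock hk₁ hk₂ hM ht⟩
  by_contra hcon
  have hall : ∀ χ : Cfsg.IrrCharacter S, (∀ g, (χ : S → ℂ) (g ^ k) = (χ : S → ℂ) g) →
      Odd (Cfsg.charDegree (χ : S → ℂ)) := fun χ h =>
    Nat.not_even_iff_odd.mp fun he => hcon ⟨χ, he, h⟩
  obtain ⟨z, hz⟩ : ∃ z : S, CfsgLib.GaloisFixed.IsInv z := by
    rcases CfsgLib.CaminaHerzog.exists_inverted_or_mem_two_core ht with ⟨N, hN, hN2, htN⟩ | ⟨c, hc⟩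
    · exfalso
      rcases hN.eq_bot_or_eq_top with h | h
      · rw [h, Subgroup.mem_bot] at htN
        rw [htN, orderOf_one] at ht
        omega
      · rw [h] at hN2
        exact hna ⟨⟨fun a b => hcomm ⊤ hN2 a trivial b trivial⟩⟩
    · exact ⟨c, hc.2.1, hc.1, t, ht, hc.2.2⟩
  obtain ⟨y, hy, hmax⟩ := ({s | CfsgLib.GaloisFixed.IsInv s} : Finset S).exists_max_image
    CfsgLib.GaloisFixed.twoExp ⟨z, by simpa using hz⟩
  rw [Finset.mem_filter] at hy
  have hy' := hy.2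
  obtain ⟨hyodd, hy1, u, hu, huy⟩ := hy.2
  obtain ⟨Q, C⟩ := CfsgLib.GaloisFixed.exists_config hcomm hy'
    (fun s hs => hmax s (by simp [hs])) hu huy
  obtain ⟨K, hK⟩ : ∃ K : Finset S, K = ({s | CfsgLib.GaloisFixed.IsInv s ∧
      CfsgLib.GaloisFixed.twoExp s = CfsgLib.GaloisFixed.twoExp y} : Finset S) := ⟨_, rfl⟩
  have hKmem : ∀ s, s ∈ K ↔ CfsgLib.GaloisFixed.IsInv s ∧
      CfsgLib.GaloisFixed.twoExp s = CfsgLib.GaloisFixed.twoExp y := fun s => by simp [hK]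
  refine C.odd_count hcomm K hKmem (CfsgLib.GaloisFixed.even_card_mul hk₁ hk₂ hM K
    (fun s hs g => ?_) (fun s hs => ?_) hall hyodd (isConj_iff.mpr ⟨u, huy⟩))
  · obtain ⟨h1, h3⟩ := (hKmem s).mp hs
    exact (hKmem _).mpr ⟨h1.conj g, by rw [CfsgLib.GaloisFixed.twoExp_conj, h3]⟩
  · obtain ⟨⟨ho, h1, v, hv, hvs⟩, -⟩ := (hKmem s).mp hs
    exact ⟨ho, h1, isConj_iff.mpr ⟨v, hvs⟩⟩

end Cfsg.Agent.S4523
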