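import Cfsg.Statements.S4531
import Cfsg.Agent.Lib.Blocks.TameTwo.ThreeRank

set_option autoImplicit false
open Cfsg

namespace Cfsg.Agent.S4531

/-- Let the finite group G have a 2-block B (relative to a maximal ideal M of the algebraic integers containing 2) of 2-regular rank three (three irreducible Brauer characters) whose defect group D is dihedral of order 2 ^ n with n ≥ 3 or semidihedral. Then the centre of G has odd order and G is not solvable. -/
theorem result {G : Type*} [Group G] [Finite G] (M : Ideal Cfsg.AlgInt) (hM : Cfsg.IsPModular 2 M) (B : Set (Cfsg.IrrCharacter G)) (hB : Cfsg.IsPBlock M B) (D : Subgroup G) (hD : Cfsg.IsDefectGroup 2 M B D) (hD' : (∃ n : ℕ, 3 ≤ n ∧ Nonempty (D ≃* DihedralGroup (2 ^ (n - 1)))) ∨ Cfsg.IsQuasiDihedral D) (hl : Cfsg.blockRank 2 B = 3) : Odd (Nat.card (Subgroup.center G)) ∧ ¬ Group.IsSolvable G := by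
  classical
  have := Fintype.ofFinite G
  have := CfsgLib.Blocks.isPrime_of_isPModular hM
  have : Fact (Nat.Prime 2) := ⟨Nat.prime_two⟩
  obtain ⟨q, S, hS⟩ : ∃ q, ∃ S : CfsgLib.Blocks.TameTwo.Shape D q, S.IsDih ∨ S.IsSemi := by
    rcases hD' with ⟨n, hn, ⟨φ⟩⟩ | hsd
    · obtain ⟨k, rfl⟩ : ∃ k, n = k + 3 := ⟨n - 3, by omega⟩
      obtain ⟨S, hS⟩ := CfsgLib.Blocks.TameTwo.Shape.exists_dihedral (D := D) (k := k) φ
      exact ⟨_, S, Or.inl hS⟩
    · obtain ⟨n, hn, hcard, hrest⟩ := hsd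
      obtain ⟨k, rfl⟩ : ∃ k, n = k + 3 := ⟨n - 3, by omega⟩
      obtain ⟨S, hS⟩ := CfsgLib.Blocks.TameTwo.Shape.exists_semidihedral (D := D) (k := k)
        ⟨k + 3, hn, hcard, hrest⟩ hcard
      exact ⟨_, S, Or.inr hS⟩
  have := S.neZero
  obtain ⟨e, he⟩ := CfsgLib.Blocks.exists_pair_of_defectGroup hM hB hD
  have hmax := CfsgLib.Blocks.isMaximalBrauerPair_of_defectGroup hM hD he
  exact ⟨CfsgLib.Blocks.TameTwo.odd_center_of_rank_three hM hmax S hS hl, fun hsol =>
    CfsgLib.Blocks.TameTwo.rank_ne_three_of_pSolvable (Nat.card G) G rfl M hM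
      (CfsgLib.PSolvable.isPSolvable_of_isSolvable hsol) B hB D hD q S hS hl⟩

end Cfsg.Agent.S4531
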