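import Cfsg.Statements.S4539
import Cfsg.Agent.Lib.Blocks.MajorCoordinates

set_option autoImplicit false
open Cfsg
open scoped CfsgLib.Char ComplexConjugate Matrix

namespace Cfsg.Agent.S4539

open CfsgLib

/-- Values of a binary form with integral coefficients. -/
noncomputable def formVal {H : Type*} (a b c : ℤ) (X Y : H → ℂ) (v : H) : ℝ :=
  (a : ℝ) * Complex.normSq (X v) + 2 * (b : ℝ) * (X v * conj (Y v)).re +
    (c : ℝ) * Complex.normSq (Y v)

/-- A binary form without the value one is at least two on average. -/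
theorem two_le_form {H : Type*} [Group H] [Fintype H] {u : H} (S : Finset H)
    (hS : ∀ v, v ∈ S ↔ Subgroup.zpowers v = Subgroup.zpowers u) (n : ℕ) :
    ∀ a b c : ℤ, a + c ≤ (n : ℤ) →
      (∀ i j : ℤ, i ≠ 0 ∨ j ≠ 0 → 2 ≤ a * i * i + 2 * b * i * j + c * j * j) →
      ∀ X Y : H → ℂ, IsGeneralizedCharacter H X → IsGeneralizedCharacter H Y →
        (X u ≠ 0 ∨ Y u ≠ 0) → 2 * (S.card : ℝ) ≤ ∑ v ∈ S, formVal a b c X Y v := by
  have hclosed : ∀ x y, Subgroup.zpowers x = Subgroup.zpowers y → x ∈ S → y ∈ S :=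
    fun x y hxy hx => (hS y).mpr (hxy ▸ (hS x).mp hx)
  have havg : ∀ {Z : H → ℂ}, IsGeneralizedCharacter H Z → Z u ≠ 0 →
      (S.card : ℝ) ≤ ∑ v ∈ S, Complex.normSq (Z v) := fun {Z} hZ h =>
    Char.card_le_sum_normSq_generalized hZ S hclosed fun v hv h0 => by
      have h' := Char.eq_of_zpowers_eq_of_rat hZ ((hS v).mp hv) (q := 0) (by simp [h0])
      exact h (by rw [h', Rat.cast_zero])
  have hvan : ∀ {Z : H → ℂ}, IsGeneralizedCharacter H Z → Z u = 0 → ∀ v ∈ S, Z v = 0 :=
    fun {Z} hZ h v hv => by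
      have h' := Char.eq_of_zpowers_eq_of_rat hZ ((hS v).mp hv).symm (q := 0) (by simp [h])
      rw [h', Rat.cast_zero]
  induction n using Nat.strong_induction_on with
  | _ n ih =>
  intro a b c hn hmin X Y hX hY hne
  have ha : 2 ≤ a := by simpa using hmin 1 0 (Or.inl one_ne_zero)
  have hc : 2 ≤ c := by simpa using hmin 0 1 (Or.inr one_ne_zero)
  by_cases hred : 2 * |b| ≤ a ∧ 2 * |b| ≤ c
  · rcases eq_or_ne (X u) 0 with h | h
    · have hy := havg hY (hne.resolve_left fun h' => h' h)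
      rw [Finset.sum_congr rfl fun v hv => show formVal a b c X Y v = (c : ℝ) * Complex.normSq (Y v) by
        simp [formVal, hvan hX h v hv], ← Finset.mul_sum]
      exact mul_le_mul (by exact_mod_cast hc) hy (Nat.cast_nonneg _) (by positivity)
    rcases eq_or_ne (Y u) 0 with h' | h'
    · rw [Finset.sum_congr rfl fun v hv => show formVal a b c X Y v = (a : ℝ) * Complex.normSq (X v) by
        simp [formVal, hvan hY h' v hv], ← Finset.mul_sum]
      exact mul_le_mul (by exact_mod_cast ha) (havg hX h) (Nat.cast_nonneg _) (by positivity)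
    have hle : ∀ v, Complex.normSq (X v) + Complex.normSq (Y v) ≤ formVal a b c X Y v := fun v => by
      have h1 : (0 : ℝ) ≤ Complex.normSq (X v + Y v) := Complex.normSq_nonneg _
      have h2 : (0 : ℝ) ≤ Complex.normSq (X v - Y v) := Complex.normSq_nonneg _
      rw [Complex.normSq_add] at h1
      rw [Complex.normSq_sub] at h2
      have hb1 : |(b : ℝ)| + 1 ≤ (a : ℝ) := by
        rw [← Int.cast_abs]; exact_mod_cast (show |b| + 1 ≤ a by omega)
      have hb2 : |(b : ℝ)| + 1 ≤ (c : ℝ) := by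
        rw [← Int.cast_abs]; exact_mod_cast (show |b| + 1 ≤ c by omega)
      have hn1 := Complex.normSq_nonneg (X v)
      have hn2 := Complex.normSq_nonneg (Y v)
      rw [formVal]
      rcases abs_choice (b : ℝ) with hb | hb <;> rw [hb] at hb1 hb2
      · have hb0 : (0 : ℝ) ≤ b := hb ▸ abs_nonneg _
        nlinarith [mul_nonneg hb0 h1, mul_le_mul_of_nonneg_right hb1 hn1,
          mul_le_mul_of_nonneg_right hb2 hn2]
      · have hb0 : (0 : ℝ) ≤ -b := hb ▸ abs_nonneg _
        nlinarith [mul_nonneg hb0 h2, mul_le_mul_of_nonneg_right hb1 hn1,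
          mul_le_mul_of_nonneg_right hb2 hn2]
    refine le_trans ?_ (Finset.sum_le_sum fun v _ => hle v)
    rw [Finset.sum_add_distrib, two_mul]
    exact add_le_add (havg hX h) (havg hY h')
  · obtain ⟨ε, hε, hεb⟩ : ∃ ε : ℤ, (ε = 1 ∨ ε = -1) ∧ ε * b = |b| := by
      rcases abs_choice b with hb | hb
      · exact ⟨1, Or.inl rfl, by rw [one_mul, hb]⟩
      · exact ⟨-1, Or.inr rfl, by rw [hb]; ring⟩
    have hε2 : ε * ε = 1 := by rcases hε with rfl | rfl <;> rfl
    have hε2r : (ε : ℝ) * ε = 1 := by exact_mod_cast hε2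
    have hεc : (ε : ℂ) * ε = 1 := by exact_mod_cast hε2
    rcases not_and_or.mp hred with hr | hr
    · -- decrease `c`
      set c' := c - 2 * |b| + a with hc'
      have hlt : (a + c').toNat < n := by omega
      have hsub : IsGeneralizedCharacter H (X + (ε : ℂ) • Y) :=
        Char.isGeneralized_add hX (Char.isGeneralized_intCast_smul hY ε)
      refine le_of_le_of_eq (ih _ hlt a (b - ε * a) c' (Int.self_le_toNat _) (fun i j hij => ?_)
        (X + (ε : ℂ) • Y) Y hsub hY ?_) (Finset.sum_congr rfl fun v _ => ?_)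
      · have h := hmin (i - ε * j) j (hij.elim (fun hi => by
          by_cases hj : j = 0
          · exact Or.inl (by rw [hj]; simpa using hi)
          · exact Or.inr hj) Or.inr)
        rw [hc', ← hεb]
        linear_combination h + a * j * j * hε2
      · rcases eq_or_ne (Y u) 0 with h | h
        · exact Or.inl (by simpa [h] using hne.resolve_right fun h' => h' h)
        · exact Or.inr h
      · simp only [formVal, Pi.add_apply, Pi.smul_apply, smul_eq_mul, Complex.normSq_apply,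
          Complex.mul_re, Complex.mul_im, Complex.add_re, Complex.add_im, Complex.intCast_re,
          Complex.intCast_im, Complex.conj_re, Complex.conj_im, hc', ← hεb]
        push_cast
        linear_combination (-(a : ℝ) * ((Y v).re * (Y v).re + (Y v).im * (Y v).im)) * hε2r
    · -- decrease `a`
      set a' := a - 2 * |b| + c with ha'
      have hlt : (a' + c).toNat < n := by omega
      have hsub : IsGeneralizedCharacter H (Y + (ε : ℂ) • X) :=
        Char.isGeneralized_add hY (Char.isGeneralized_intCast_smul hX ε)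
      refine le_of_le_of_eq (ih _ hlt a' (b - ε * c) c (Int.self_le_toNat _) (fun i j hij => ?_)
        X (Y + (ε : ℂ) • X) hX hsub ?_) (Finset.sum_congr rfl fun v _ => ?_)
      · have h := hmin i (j - ε * i) (hij.elim Or.inl fun hj => by
          by_cases hi : i = 0
          · exact Or.inr (by rw [hi]; simpa using hj)
          · exact Or.inl hi)
        rw [ha', ← hεb]
        linear_combination h + c * i * i * hε2
      · rcases eq_or_ne (X u) 0 with h | h
        · exact Or.inr (by simpa [h] using hne.resolve_left fun h' => h' h)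
        · exact Or.inl h
      · simp only [formVal, Pi.add_apply, Pi.smul_apply, smul_eq_mul, Complex.normSq_apply,
          Complex.mul_re, Complex.mul_im, Complex.add_re, Complex.add_im, Complex.intCast_re,
          Complex.intCast_im, Complex.conj_re, Complex.conj_im, ha', ← hεb]
        push_cast
        linear_combination (-(c : ℝ) * ((X v).re * (X v).re + (X v).im * (X v).im)) * hε2r

/-- Let B be a p-block of the finite group G (relative to a maximal ideal M of the algebraic integers containing p) of defect d with defect group D. Let z be an element of D commuting with every element of D, and let b be a block of the centralizer C of z with defect group D that induces B (a major subsection (z, b)). If b has p-regular rank at most two, then B contains at most p ^ d irreducible characters. -/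
theorem result {G : Type*} [Group G] [Finite G] (p : ℕ) [Fact p.Prime] (M : Ideal Cfsg.AlgInt) (hM : Cfsg.IsPModular p M) (B : Set (Cfsg.IrrCharacter G)) (hB : Cfsg.IsPBlock M B) (D : Subgroup G) (hD : Cfsg.IsDefectGroup p M B D) (z : G) (hzD : z ∈ D) (hzc : ∀ d ∈ D, d * z = z * d) (b : Set (Cfsg.IrrCharacter ↥(Subgroup.centralizer ({z} : Set G)))) (hb : Cfsg.IsInducedBlock M (Subgroup.centralizer ({z} : Set G)) b B) (hbD : Cfsg.IsDefectGroup p M b (D.subgroupOf (Subgroup.centralizer ({z} : Set G)))) (hl : Cfsg.blockRank p b ≤ 2) : Nat.card B ≤ p ^ Cfsg.blockDefect p B := by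
  classical
  have : Fintype G := Fintype.ofFinite _
  have : Fintype (Subgroup.centralizer ({z} : Set G)) := Fintype.ofFinite _
  have : Fintype (Subgroup.zpowers z) := Fintype.ofFinite _
  have hp1 : (1 : ℝ) ≤ p := Nat.one_le_cast.mpr hM.1.pos
  obtain ⟨hx, hd⟩ := Blocks.major_data hM hB hD hzD hzc hb hbD
  obtain ⟨F, hF⟩ := Blocks.exists_system hM hx hB hb
  set d := blockDefect p B
  set u := Blocks.zpow₀ z with hu
  set S : Finset (Subgroup.zpowers z) := {v | Subgroup.zpowers v = Subgroup.zpowers u}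
  have hS : ∀ v, v ∈ S ↔ Subgroup.zpowers v = Subgroup.zpowers u := fun v => by simp [S]
  have hS0 : (0 : ℝ) < S.card := Nat.cast_pos.mpr (Finset.card_pos.mpr ⟨u, by simp [S]⟩)
  have hclosed : ∀ x y, Subgroup.zpowers x = Subgroup.zpowers y → x ∈ S → y ∈ S :=
    fun x y hxy hx => (hS y).mpr (hxy ▸ (hS x).mp hx)
  rw [show Nat.card B = (Finset.univ.filter fun χ : IrrCharacter G => χ ∈ B).card by
    rw [Nat.card_eq_fintype_card, Fintype.card_subtype]]
  suffices hgoal : ((Finset.univ.filter fun χ : IrrCharacter G => χ ∈ B).card : ℝ) ≤ (p : ℝ) ^ d by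
    exact_mod_cast hgoal
  set s : Finset (IrrCharacter G) := {χ | χ ∈ B} with hs
  have hms : ∀ {χ}, χ ∈ s ↔ χ ∈ B := fun {χ} => by simp [s]
  have htr : ∑ χ ∈ s, ∑ v ∈ S, (F χ χ v).re = (S.card : ℝ) * ((p : ℝ) ^ d * blockRank p b) := by
    rw [Finset.sum_comm, Finset.sum_congr rfl fun v hv => (show ∑ χ ∈ s, (F χ χ v).re =
      (p : ℝ) ^ d * blockRank p b by rw [← hd, hs]; exact hF.trace v ((hS v).mp hv)),
      Finset.sum_const, nsmul_eq_mul]
  have hfin : ∀ (w : ℝ) (f : IrrCharacter G → ℝ), 0 < w → (∀ χ ∈ s, w * S.card ≤ f χ) →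
      (∑ χ ∈ s, f χ) = (S.card : ℝ) * ((p : ℝ) ^ d * w) → (s.card : ℝ) ≤ (p : ℝ) ^ d := by
    intro w f hw hf he
    have h := Finset.card_nsmul_le_sum s f _ hf
    rw [nsmul_eq_mul, he] at h
    refine le_of_mul_le_mul_right (a := w * S.card) ?_ (mul_pos hw hS0)
    linarith
  rcases Nat.lt_or_ge (blockRank p b) 2 with hl1 | hl2
  · refine hfin 1 (fun χ => ∑ v ∈ S, (F χ χ v).re) one_pos (fun χ hχ => ?_) ?_
    · refine le_trans ?_ (hF.pow_mul_card_le_diag hM hx hB hb hd S hS (hms.mp hχ))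
      exact mul_le_mul_of_nonneg_right (one_le_pow₀ hp1) hS0.le
    · have hl0 : 1 ≤ blockRank p b := Blocks.blockRank_pos (Blocks.exists_blockHeight_eq_zero hM hb.1
        |>.imp fun _ h => h.1) hM.1.ne_one
      rw [htr, show blockRank p b = 1 by omega, Nat.cast_one]
  have hl' : blockRank p b = 2 := le_antisymm hl hl2
  suffices hall : (∀ χ ∈ s, 2 * (S.card : ℝ) ≤ ∑ v ∈ S, (F χ χ v).re) ∨ (s.card : ℝ) ≤ (p : ℝ) ^ d by
    rcases hall with h | h
    · exact hfin 2 _ two_pos h (by rw [htr, hl', Nat.cast_ofNat])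
    · exact h
  obtain ⟨q₂, X₂, hq₂⟩ := hF.exists_coordinates hM hx hB hb
  obtain ⟨q, X, hqs, hpos, hXg, hquad, hcol⟩ :
      ∃ (q : Matrix (Fin 2) (Fin 2) ℤ) (X : IrrCharacter G → Fin 2 → Subgroup.zpowers z → ℂ),
        qᵀ = q ∧ (∀ z, z ≠ 0 → 0 < z ⬝ᵥ (q *ᵥ z)) ∧
        (∀ χ i, IsGeneralizedCharacter (Subgroup.zpowers z) (X χ i)) ∧
        (∀ χ ψ v, Subgroup.zpowers v = Subgroup.zpowers u →
          F χ ψ v = ∑ i, ∑ j, (q i j : ℂ) * (X χ i v * conj (X ψ j v))) ∧
        ∀ (e : Fin 2 → ℤ) v, Subgroup.zpowers v = Subgroup.zpowers u →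
          ∑ χ ∈ s, Complex.normSq (∑ i, ((q *ᵥ e) i : ℂ) * X χ i v) =
            (p : ℝ) ^ d * ((e ⬝ᵥ (q *ᵥ e) : ℤ) : ℝ) := by
    rw [← hl', ← hd, hs]
    exact ⟨q₂, X₂, hq₂⟩
  set a := q 0 0 with ha
  set c := q 1 1 with hc
  set m := q 0 1 with hm
  have h10 : q 1 0 = m := congrFun (congrFun hqs 0) 1
  have hF2 : ∀ χ ψ v, Subgroup.zpowers v = Subgroup.zpowers u → F χ ψ v =
      (a : ℂ) * (X χ 0 v * conj (X ψ 0 v)) + (m : ℂ) * (X χ 0 v * conj (X ψ 1 v)) +
        ((m : ℂ) * (X χ 1 v * conj (X ψ 0 v)) + (c : ℂ) * (X χ 1 v * conj (X ψ 1 v))) := by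
    intro χ ψ v hv
    rw [hquad χ ψ v hv, Fin.sum_univ_two, Fin.sum_univ_two, Fin.sum_univ_two, h10]
  have hne : ∀ χ ∈ s, X χ 0 u ≠ 0 ∨ X χ 1 u ≠ 0 := by
    intro χ hχ
    by_contra hcon
    push Not at hcon
    have h := hF.diag_pos hM hx hB hb hd (hms.mp hχ) (v := u) rfl
    rw [hF2 χ χ u rfl, hcon.1, hcon.2] at h
    simp at h
  by_cases hone : ∃ e0 e1 : ℤ, a * e0 * e0 + 2 * m * e0 * e1 + c * e1 * e1 = 1
  swap
  · -- the form does not take the value one
    push Not at hone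
    left
    intro χ hχ
    have hmin : ∀ i j : ℤ, i ≠ 0 ∨ j ≠ 0 → 2 ≤ a * i * i + 2 * m * i * j + c * j * j := by
      intro i j hij
      have h := hpos ![i, j] (fun h0 => hij.elim (fun h' => h' (congrFun h0 0))
        fun h' => h' (congrFun h0 1))
      simp only [Matrix.mulVec, dotProduct, Fin.sum_univ_two, Matrix.cons_val_zero,
        Matrix.cons_val_one, h10, ← ha, ← hc, ← hm] at h
      have h1 := hone i j
      have e : i * (a * i + m * j) + j * (m * i + c * j) =
          a * i * i + 2 * m * i * j + c * j * j := by ring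
      omega
    refine le_of_le_of_eq (two_le_form S hS (a + c).toNat a m c (Int.self_le_toNat _) hmin
      (X χ 0) (X χ 1) (hXg χ 0) (hXg χ 1) (hne χ hχ)) (Finset.sum_congr rfl fun v hv => ?_)
    rw [hF2 χ χ v ((hS v).mp hv)]
    simp only [formVal, Complex.normSq_apply, Complex.mul_re, Complex.mul_im, Complex.add_re,
      Complex.intCast_re, Complex.intCast_im, Complex.conj_re, Complex.conj_im]
    ring
  -- the form takes the value one
  obtain ⟨e0, e1, he⟩ := hone
  set Δ := a * c - m * m with hΔ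
  have hΔ1 : 1 ≤ Δ := by
    have hA : 0 < a := by
      have h := hpos ![1, 0] (fun h0 => one_ne_zero (congrFun h0 0))
      simpa [Matrix.mulVec, dotProduct, Fin.sum_univ_two, h10, ← ha] using h
    have h := hpos ![-m, a] (fun h0 => hA.ne' (congrFun h0 1))
    simp only [Matrix.mulVec, dotProduct, Fin.sum_univ_two, Matrix.cons_val_zero,
      Matrix.cons_val_one, h10, ← ha, ← hc, ← hm] at h
    have e : -m * (a * -m + m * a) + a * (m * -m + c * a) = a * Δ := by rw [hΔ]; ring
    rw [e] at h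
    exact (pos_iff_pos_of_mul_pos h).mp hA
  set T : IrrCharacter G → Subgroup.zpowers z → ℂ := fun χ =>
    ((a * e0 + m * e1 : ℤ) : ℂ) • X χ 0 + ((m * e0 + c * e1 : ℤ) : ℂ) • X χ 1 with hT
  set R : IrrCharacter G → Subgroup.zpowers z → ℂ := fun χ =>
    (e0 : ℂ) • X χ 1 - (e1 : ℂ) • X χ 0 with hR
  have hTg : ∀ χ, IsGeneralizedCharacter (Subgroup.zpowers z) (T χ) := fun χ =>
    Char.isGeneralized_add (Char.isGeneralized_intCast_smul (hXg χ 0) _)
      (Char.isGeneralized_intCast_smul (hXg χ 1) _)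
  have hRg : ∀ χ, IsGeneralizedCharacter (Subgroup.zpowers z) (R χ) := fun χ =>
    Char.isGeneralized_sub (Char.isGeneralized_intCast_smul (hXg χ 1) _)
      (Char.isGeneralized_intCast_smul (hXg χ 0) _)
  have hec : (a : ℂ) * e0 * e0 + 2 * m * e0 * e1 + c * e1 * e1 = 1 := by exact_mod_cast he
  have hdec : ∀ χ ψ v, Subgroup.zpowers v = Subgroup.zpowers u →
      F χ ψ v = T χ v * conj (T ψ v) + (Δ : ℂ) * (R χ v * conj (R ψ v)) := by
    intro χ ψ v hv
    rw [hF2 χ ψ v hv]
    simp only [hT, hR, hΔ, Pi.add_apply, Pi.sub_apply, Pi.smul_apply, smul_eq_mul, map_add, map_sub,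
      map_mul, map_intCast]
    push_cast
    linear_combination (-((a : ℂ) * (X χ 0 v * conj (X ψ 0 v)) + (m : ℂ) * (X χ 0 v * conj (X ψ 1 v)) +
        ((m : ℂ) * (X χ 1 v * conj (X ψ 0 v)) + (c : ℂ) * (X χ 1 v * conj (X ψ 1 v))))) * hec
  have hdiag : ∀ χ, ∀ v ∈ S, (F χ χ v).re =
      Complex.normSq (T χ v) + (Δ : ℝ) * Complex.normSq (R χ v) := fun χ v hv => by
    rw [hdec χ χ v ((hS v).mp hv), Complex.mul_conj, Complex.mul_conj, ← Complex.ofReal_intCast,
      ← Complex.ofReal_mul, ← Complex.ofReal_add, Complex.ofReal_re]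
  have hTsum : ∀ v ∈ S, ∑ χ ∈ s, Complex.normSq (T χ v) = (p : ℝ) ^ d := fun v hv => by
    have h := hcol ![e0, e1] v ((hS v).mp hv)
    have e : ![e0, e1] ⬝ᵥ (q *ᵥ ![e0, e1]) = 1 := by
      simp only [Matrix.mulVec, dotProduct, Fin.sum_univ_two, Matrix.cons_val_zero,
        Matrix.cons_val_one, h10, ← ha, ← hc, ← hm]
      linear_combination he
    rw [e, Int.cast_one, mul_one] at h
    refine Eq.trans (Finset.sum_congr rfl fun χ _ => congrArg Complex.normSq ?_) h
    simp [hT, Matrix.mulVec, dotProduct, Fin.sum_univ_two, h10, ← ha, ← hc, ← hm]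
  have hcase : ∀ (f : IrrCharacter G → Subgroup.zpowers z → ℂ),
      (∀ χ, IsGeneralizedCharacter (Subgroup.zpowers z) (f χ)) →
      (∀ v ∈ S, ∑ χ ∈ s, Complex.normSq (f χ v) = (p : ℝ) ^ d) →
      (∀ χ ∈ s, f χ u ≠ 0) → (s.card : ℝ) ≤ (p : ℝ) ^ d := by
    intro f hfg hfs hf0
    refine hfin 1 (fun χ => ∑ v ∈ S, Complex.normSq (f χ v)) one_pos (fun χ hχ => ?_) ?_
    · rw [one_mul]
      refine Char.card_le_sum_normSq_generalized (hfg χ) S hclosed fun v hv h0 => hf0 χ hχ ?_
      have h' := Char.eq_of_zpowers_eq_of_rat (hfg χ) ((hS v).mp hv) (q := 0) (by simp [h0])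
      rw [h', Rat.cast_zero]
    · rw [Finset.sum_comm, Finset.sum_congr rfl hfs, Finset.sum_const, nsmul_eq_mul, mul_one]
  by_cases hT0 : ∀ χ ∈ s, T χ u ≠ 0
  · exact Or.inr (hcase T hTg hTsum hT0)
  by_cases hR0 : Δ = 1 ∧ ∀ χ ∈ s, R χ u ≠ 0
  · refine Or.inr (hcase R hRg (fun v hv => ?_) hR0.2)
    have h : ∑ χ ∈ s, (F χ χ v).re = (p : ℝ) ^ d * blockRank p b := by
      rw [← hd, hs]; exact hF.trace v ((hS v).mp hv)
    rw [Finset.sum_congr rfl fun χ _ => hdiag χ v hv, hR0.1, Finset.sum_add_distrib, hTsum v hv,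
      hl'] at h
    push_cast at h
    simp only [one_mul] at h
    linarith
  left
  push Not at hT0
  obtain ⟨χ₁, hχ₁, hχ₁0⟩ := hT0
  intro ψ hψ
  rcases Nat.eq_zero_or_pos (blockHeight p B (ψ : G → ℂ)) with h0 | h0
  swap
  · refine le_trans (mul_le_mul_of_nonneg_right ?_ hS0.le)
      (hF.pow_mul_card_le_diag hM hx hB hb hd S hS (hms.mp hψ))
    calc (2 : ℝ) ≤ (p : ℝ) := by exact_mod_cast hM.1.two_le
      _ ≤ _ := le_self_pow₀ hp1 h0.ne'
  have hFne : ∀ χ ∈ s, T χ u * conj (T ψ u) + (Δ : ℂ) * (R χ u * conj (R ψ u)) ≠ 0 := fun χ hχ => by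
    rw [← hdec χ ψ u rfl]
    exact hF.ne_zero_of_height_zero hM hx hB hb hd (hms.mp hχ) (hms.mp hψ) h0 rfl
  have hRψ : R ψ u ≠ 0 := fun h => hFne χ₁ hχ₁ (by simp [hχ₁0, h])
  have hgens : ∀ (f : IrrCharacter G → Subgroup.zpowers z → ℂ),
      (∀ χ, IsGeneralizedCharacter (Subgroup.zpowers z) (f χ)) → f ψ u ≠ 0 →
      (S.card : ℝ) ≤ ∑ v ∈ S, Complex.normSq (f ψ v) := by
    intro f hfg hf0
    refine Char.card_le_sum_normSq_generalized (hfg ψ) S hclosed fun v hv h0' => hf0 ?_
    have h' := Char.eq_of_zpowers_eq_of_rat (hfg ψ) ((hS v).mp hv) (q := 0) (by simp [h0'])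
    rw [h', Rat.cast_zero]
  rw [Finset.sum_congr rfl (hdiag ψ), Finset.sum_add_distrib, ← Finset.mul_sum]
  have h1 := hgens R hRg hRψ
  have h2 : (0 : ℝ) ≤ ∑ v ∈ S, Complex.normSq (T ψ v) :=
    Finset.sum_nonneg fun v _ => Complex.normSq_nonneg _
  rcases hΔ1.lt_or_eq with hΔ2 | hΔ2
  · have h3 := mul_le_mul (show (2 : ℝ) ≤ (Δ : ℝ) by exact_mod_cast hΔ2) h1 hS0.le
      (by exact_mod_cast (show (0 : ℤ) ≤ Δ by omega))
    linarith
  · push Not at hR0
    obtain ⟨χ₂, hχ₂, hχ₂0⟩ := hR0 hΔ2.symm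
    have h3 := hgens T hTg fun h => hFne χ₂ hχ₂ (by simp [hχ₂0, h])
    rw [← hΔ2, Int.cast_one, one_mul]
    linarith

end Cfsg.Agent.S4539
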