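import Cfsg.Statements.S4540
import Cfsg.Agent.Lib.Blocks.MajorTwoBound

-- import your own Cfsg.Agent.* helpers here

set_option autoImplicit false
open Cfsg
open scoped CfsgLib.Char

namespace Cfsg.Agent.S4540

/-- Let B be a 2-block of the finite group G (relative to a maximal ideal M of the algebraic integers containing 2) of defect d with defect group D. Let z be an element of D commuting with every element of D, and let b be a block of the centralizer C of z with defect group D that induces B (a major subsection (z, b)). If b has 2-regular rank at most three, then 3·k(B) ≤ 3·k₀(B) + 2·Σ 2 ^ h(χ), where k(B) is the number of members of B, k₀(B) the number of members of height zero, and the sum runs over the members χ of B of positive height h(χ); this bound is at most 3·2 ^ d, so in particular B contains at most 2 ^ d irreducible characters. -/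
theorem result {G : Type*} [Group G] [Finite G] (M : Ideal Cfsg.AlgInt) (hM : Cfsg.IsPModular 2 M) (B : Set (Cfsg.IrrCharacter G)) (hB : Cfsg.IsPBlock M B) (D : Subgroup G) (hD : Cfsg.IsDefectGroup 2 M B D) (z : G) (hzD : z ∈ D) (hzc : ∀ d ∈ D, d * z = z * d) (b : Set (Cfsg.IrrCharacter ↥(Subgroup.centralizer ({z} : Set G)))) (hb : Cfsg.IsInducedBlock M (Subgroup.centralizer ({z} : Set G)) b B) (hbD : Cfsg.IsDefectGroup 2 M b (D.subgroupOf (Subgroup.centralizer ({z} : Set G)))) (hl : Cfsg.blockRank 2 b ≤ 3) : 3 * Nat.card B ≤ 3 * Nat.card {χ : Cfsg.IrrCharacter G // χ ∈ B ∧ Cfsg.blockHeight 2 B (χ : G → ℂ) = 0} + 2 * (∑ᶠ χ ∈ {χ : Cfsg.IrrCharacter G | χ ∈ B ∧ 1 ≤ Cfsg.blockHeight 2 B (χ : G → ℂ)}, 2 ^ Cfsg.blockHeight 2 B (χ : G → ℂ)) ∧ 3 * Nat.card {χ : Cfsg.IrrCharacter G // χ ∈ B ∧ Cfsg.blockHeight 2 B (χ : G → ℂ) = 0} + 2 * (∑ᶠ χ ∈ {χ : Cfsg.IrrCharacter G | χ ∈ B ∧ 1 ≤ Cfsg.blockHeight 2 B (χ : G → ℂ)}, 2 ^ Cfsg.blockHeight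 2 B (χ : G → ℂ)) ≤ 3 * 2 ^ Cfsg.blockDefect 2 B := by
  classical
  have : Fintype G := Fintype.ofFinite _
  have : Fintype (Subgroup.centralizer ({z} : Set G)) := Fintype.ofFinite _
  have : Fintype (Subgroup.zpowers z) := Fintype.ofFinite _
  obtain ⟨hx, hd⟩ := CfsgLib.Blocks.major_data hM hB hD hzD hzc hb hbD
  obtain ⟨F, hF⟩ := CfsgLib.Blocks.exists_system hM hx hB hb
  set d := blockDefect 2 B with hdef
  set s : Finset (IrrCharacter G) := {χ | χ ∈ B} with hs
  set ht : IrrCharacter G → ℕ := fun χ => blockHeight 2 B (χ : G → ℂ) with hht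
  set S : Finset (Subgroup.zpowers z) :=
    {v | Subgroup.zpowers v = Subgroup.zpowers (CfsgLib.Blocks.zpow₀ z)} with hSdef
  have hS : ∀ v, v ∈ S ↔ Subgroup.zpowers v = Subgroup.zpowers (CfsgLib.Blocks.zpow₀ z) := fun v => by
    simp [S]
  have hS0 : (0 : ℝ) < S.card :=
    Nat.cast_pos.mpr (Finset.card_pos.mpr ⟨CfsgLib.Blocks.zpow₀ z, by simp [S]⟩)
  have hms : ∀ {χ}, χ ∈ s ↔ χ ∈ B := fun {χ} => by simp [s]
  have htr : ∀ v ∈ S, ∑ χ ∈ s, (F χ χ v).re = (2 : ℝ) ^ d * blockRank 2 b := fun v hv => by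
    rw [← hd, hs]
    exact_mod_cast hF.trace v ((hS v).mp hv)
  have hrw : ∀ ψ, ∀ v ∈ S, ∑ χ ∈ s, Complex.normSq (F χ ψ v) = (2 : ℝ) ^ d * (F ψ ψ v).re :=
    fun ψ v hv => by
      rw [← hd, hs]
      exact_mod_cast hF.row ψ v ((hS v).mp hv)
  have hk : Nat.card B = s.card := by rw [Nat.card_eq_fintype_card, Fintype.card_subtype]
  have hk0 : Nat.card {χ : IrrCharacter G // χ ∈ B ∧ blockHeight 2 B (χ : G → ℂ) = 0} =
      (s.filter fun χ => ht χ = 0).card := by
    rw [Nat.card_eq_fintype_card, Fintype.card_subtype, Finset.filter_filter]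
  have hsum : (∑ᶠ χ ∈ {χ : IrrCharacter G | χ ∈ B ∧ 1 ≤ blockHeight 2 B (χ : G → ℂ)},
      2 ^ blockHeight 2 B (χ : G → ℂ)) = ∑ χ ∈ s.filter (fun χ => ¬ ht χ = 0), 2 ^ ht χ := by
    rw [← finsum_mem_coe_finset]
    refine finsum_mem_congr (Set.ext fun χ => ?_) fun χ _ => rfl
    simp [s, ht, Nat.one_le_iff_ne_zero]
  rw [hk, hk0, hsum]
  refine ⟨?_, ?_⟩
  · have h1 := Finset.card_filter_add_card_filter_not (s := s) (fun χ => ht χ = 0)
    have h2 : (s.filter fun χ => ¬ ht χ = 0).card * 2 ≤ ∑ χ ∈ s.filter (fun χ => ¬ ht χ = 0), 2 ^ ht χ := by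
      rw [← smul_eq_mul]
      exact Finset.card_nsmul_le_sum _ _ _ fun χ hχ =>
        Nat.le_self_pow (Finset.mem_filter.mp hχ).2 2
    omega
  refine CfsgLib.Blocks.three_mul_bound s ht d (fun χ => (∑ v ∈ S, (F χ χ v).re) / S.card)
    (fun χ ψ => (∑ v ∈ S, Complex.normSq (F χ ψ v)) / S.card) ?_ ?_ ?_ ?_ ?_
  · rw [← Finset.sum_div, div_le_iff₀ hS0, Finset.sum_comm,
      Finset.sum_congr rfl htr, Finset.sum_const, nsmul_eq_mul]
    have : (blockRank 2 b : ℝ) ≤ 3 := by exact_mod_cast hl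
    have h0 : (0 : ℝ) ≤ (2 : ℝ) ^ d * S.card := by positivity
    nlinarith [mul_le_mul_of_nonneg_left this h0]
  · intro χ hχ h0
    obtain ⟨w, hw, he⟩ := hF.exists_odd_diag hM hx hB hb hd S hS (hms.mp hχ) h0
    refine ⟨w, hw, ?_, by rw [he, mul_div_cancel_left₀ _ hS0.ne']⟩
    have h1 := hF.pow_mul_card_le_diag hM hx hB hb hd S hS (hms.mp hχ)
    rw [show blockHeight 2 B (χ : G → ℂ) = 0 from h0, pow_zero, one_mul] at h1
    exact (one_le_div hS0).mpr h1
  · intro χ hχ h0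
    obtain ⟨g, hg, hgr, hgM, hge⟩ := hF.exists_mem_diag hM hx hB hb hd S hS (hms.mp hχ) h0
    obtain ⟨m, hm⟩ := id hx
    have h1 := CfsgLib.Blocks.CyclicValue.two_mul_card_le_sum hM CfsgLib.Blocks.zpow₀_gen (m := m)
      (by rw [← hm, ← Subgroup.orderOf_coe]; rfl) hg hgr hgM S hS fun v hv => by
        have h2 := hF.diag_pos hM hx hB hb hd (hms.mp hχ) ((hS v).mp hv)
        rw [hge v hv] at h2
        exact (mul_pos_iff_of_pos_left (by positivity)).mp h2
    rw [le_div_iff₀ hS0, Finset.sum_congr rfl hge, ← Finset.mul_sum, mul_comm (2 : ℝ), mul_assoc]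
    exact mul_le_mul_of_nonneg_left h1 (by positivity)
  · intro ψ hψ h0 h1
    rw [← Finset.sum_div, div_le_iff₀ hS0, Finset.sum_comm,
      Finset.sum_congr rfl (hrw ψ), ← Finset.mul_sum,
      (div_eq_one_iff_eq hS0.ne').mp h1]
  · intro χ hχ ψ hψ h0 _
    rw [le_div_iff₀ hS0]
    exact hF.pow_mul_card_le_normSq hM hx hB hb hd S hS (hms.mp hχ) (hms.mp hψ) h0

end Cfsg.Agent.S4540
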