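import Cfsg.Statements.S4541
import Cfsg.Agent.Lib.Blocks.SubsectionBound
import Cfsg.Agent.Lib.Char.CyclicTwoAverage

set_option autoImplicit false
open Cfsg
open scoped CfsgLib.Char

set_option autoImplicit false
open Cfsg

namespace Cfsg.Agent.S4541

theorem bounds {k A s l e : ℕ} (hA : Odd A) (hs : s * s ≤ l) (hl : l < (s + 1) * (s + 1))
    (h1 : k ≤ e * A) (h2 : k * A ≤ e * l) :
    (Odd s → k ≤ s * e) ∧ (¬ Odd s → (s + 1) * k ≤ l * e) ∧ (l ≤ 3 → k ≤ e) := by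
  have hA1 : 1 ≤ A := hA.pos
  have odd : Odd s → k ≤ s * e := fun hs' => by
    rcases Nat.lt_or_ge s A with h | h
    · obtain ⟨u, rfl⟩ := hs'
      obtain ⟨v, rfl⟩ := hA
      have h3 : k * (2 * u + 1 + 2) ≤ k * (2 * v + 1) := Nat.mul_le_mul_left _ (by omega)
      have h4 : e * l ≤ e * ((2 * u + 1) * (2 * u + 1 + 2)) := Nat.mul_le_mul_left _ (by nlinarith)
      have h5 : k * (2 * u + 1 + 2) ≤ ((2 * u + 1) * e) * (2 * u + 1 + 2) := by nlinarith
      exact Nat.le_of_mul_le_mul_right h5 (by omega)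
    · exact h1.trans (le_of_eq_of_le (mul_comm e A) (Nat.mul_le_mul_right _ h))
  refine ⟨odd, fun hs' => ?_, fun h3 => ?_⟩
  · rcases Nat.lt_or_ge s A with h | h
    · calc (s + 1) * k ≤ A * k := Nat.mul_le_mul_right _ h
        _ ≤ e * l := by rwa [mul_comm]
        _ = l * e := mul_comm _ _
    · have hne : A ≠ s := fun h' => hs' (h' ▸ hA)
      obtain ⟨r, rfl⟩ : ∃ r, s = r + 1 := ⟨s - 1, by omega⟩
      have hAr : A ≤ r := by omega
      calc (r + 1 + 1) * k ≤ (r + 1 + 1) * (e * r) :=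
            Nat.mul_le_mul_left _ (h1.trans (Nat.mul_le_mul_left _ hAr))
        _ ≤ l * e := by nlinarith
  · rcases Nat.eq_zero_or_pos s with rfl | hs0
    · have : l = 0 := by omega
      subst this
      have : k = 0 := by nlinarith
      omega
    · have : s = 1 := by nlinarith
      subst this
      simpa using odd odd_one

/-- Let B be a 2-block of the finite group G (relative to a maximal ideal M of the algebraic integers containing 2), u a 2-element, and b a block of the centralizer of u inducing B (a subsection (u, b)), of defect q and 2-regular rank l; write s for the integer square root of l and k₀(B) for the number of members of B of height zero. If s is odd then k₀(B) ≤ s·2 ^ q, and otherwise (s + 1)·k₀(B) ≤ l·2 ^ q; in particular k₀(B) ≤ 2 ^ q when l ≤ 3. -/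
theorem result {G : Type*} [Group G] [Finite G] (M : Ideal Cfsg.AlgInt) (hM : Cfsg.IsPModular 2 M) (B : Set (Cfsg.IrrCharacter G)) (hB : Cfsg.IsPBlock M B) (u : G) (hu : ∃ j : ℕ, orderOf u = 2 ^ j) (b : Set (Cfsg.IrrCharacter ↥(Subgroup.centralizer ({u} : Set G)))) (hb : Cfsg.IsInducedBlock M (Subgroup.centralizer ({u} : Set G)) b B) : (Odd (Nat.sqrt (Cfsg.blockRank 2 b)) → Nat.card {χ : Cfsg.IrrCharacter G // χ ∈ B ∧ Cfsg.blockHeight 2 B (χ : G → ℂ) = 0} ≤ Nat.sqrt (Cfsg.blockRank 2 b) * 2 ^ Cfsg.blockDefect 2 b) ∧ (¬ Odd (Nat.sqrt (Cfsg.blockRank 2 b)) → (Nat.sqrt (Cfsg.blockRank 2 b) + 1) * Nat.card {χ : Cfsg.IrrCharacter G // χ ∈ B ∧ Cfsg.blockHeight 2 B (χ : G → ℂ) = 0} ≤ Cfsg.blockRank 2 b * 2 ^ Cfsg.blockDefect 2 b) ∧ (Cfsg.blockRank 2 b ≤ 3 → Nat.card {χ : Cfsg.IrrCharacter G // χ ∈ B ∧ Cfsg.blockHeight 2 B (χ : G → ℂ) = 0} ≤ 2 ^ Cfsg.blockDefect 2 b) := by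
  classical
  have : Fintype G := Fintype.ofFinite _
  have : Fintype (Subgroup.centralizer ({u} : Set G)) := Fintype.ofFinite _
  have : Fintype (Subgroup.zpowers u) := Fintype.ofFinite _
  have : Fact (Nat.Prime 2) := ⟨Nat.prime_two⟩
  have := CfsgLib.Blocks.isPrime_of_isPModular hM
  set d := blockDefect 2 b
  set l := blockRank 2 b
  set s : Finset (IrrCharacter G) := {χ | χ ∈ B} with hs
  set s0 : Finset (IrrCharacter G) := {χ | χ ∈ B ∧ blockHeight 2 B (χ : G → ℂ) = 0} with hs0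
  set u₀ : Subgroup.zpowers u := ⟨u, Subgroup.mem_zpowers u⟩
  have hsub : s0 ⊆ s := fun χ hχ => by
    simp only [s, s0, Finset.mem_filter, Finset.mem_univ, true_and] at hχ ⊢
    exact hχ.1
  choose F hF hFy hFreal hFunit using fun χ ψ =>
    CfsgLib.Blocks.exists_contribution_unit hM hu hB hb χ ψ
  set S : Finset (Subgroup.zpowers u) := {v | Subgroup.zpowers v = Subgroup.zpowers u₀} with hS
  have hSc : ∀ a b, Subgroup.zpowers a = Subgroup.zpowers b → a ∈ S → b ∈ S := fun a b h ha => by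
    simp only [S, Finset.mem_filter, Finset.mem_univ, true_and] at ha ⊢
    rw [← h, ha]
  have hS0 : (0 : ℝ) < S.card := Nat.cast_pos.mpr (Finset.card_pos.mpr ⟨u₀, by simp [S]⟩)
  have hc : (Nat.card (Subgroup.centralizer ({u} : Set G)) : ℂ) ≠ 0 :=
    Nat.cast_ne_zero.mpr Nat.card_pos.ne'
  -- the trace
  set T : Subgroup.zpowers u → ℂ := ∑ χ ∈ s, F χ χ with hT
  have hTg : IsGeneralizedCharacter (Subgroup.zpowers u) T :=
    CfsgLib.Char.isGeneralized_sum _ _ fun χ _ => hF χ χ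
  have hTy : T u₀ = ((2 ^ d * l : ℕ) : ℂ) := by
    refine mul_left_cancel₀ hc ?_
    rw [Nat.cast_mul, Nat.cast_pow, mul_left_comm, ← CfsgLib.Blocks.sum_diag_columns hM hu hB hb,
      hT, Finset.sum_apply, Finset.mul_sum, Finset.mul_sum]
    exact Finset.sum_congr rfl fun χ _ => hFy χ χ
  have hTv : ∀ v ∈ S, T v = ((2 ^ d * l : ℕ) : ℂ) := fun v hv => by
    rw [CfsgLib.Char.eq_of_zpowers_eq_of_rat hTg (Finset.mem_filter.mp hv).2.symm
      (q := ((2 ^ d * l : ℕ) : ℚ)) (by rw [hTy, Rat.cast_natCast]), Rat.cast_natCast]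
  -- the rows
  have hrow : ∀ ψ, ∀ v ∈ S,
      ∑ χ ∈ s, (Complex.normSq (F χ ψ v) : ℂ) = (2 : ℂ) ^ d * F ψ ψ v := by
    intro ψ v hv
    set g : Subgroup.zpowers u → ℂ :=
      (∑ χ ∈ s, F χ ψ * fun w => (starRingEnd ℂ) (F χ ψ w)) - (((2 ^ d : ℕ) : ℤ) : ℂ) • F ψ ψ with hg
    have hgg : IsGeneralizedCharacter (Subgroup.zpowers u) g :=
      CfsgLib.Char.isGeneralized_sub (CfsgLib.Char.isGeneralized_sum _ _ fun χ _ =>
        CfsgLib.Char.isGeneralized_mul (hF χ ψ) (CfsgLib.Char.isGeneralized_conj (hF χ ψ)))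
        (CfsgLib.Char.isGeneralized_intCast_smul (hF ψ ψ) _)
    have hg0 : g u₀ = 0 := by
      refine mul_left_cancel₀ (pow_ne_zero 2 hc) ?_
      simp only [hg, Pi.sub_apply, Finset.sum_apply, Pi.mul_apply, Pi.smul_apply, smul_eq_mul,
        mul_zero, mul_sub, Finset.mul_sum, sub_eq_zero]
      push_cast
      have e : ∀ χ, (Nat.card (Subgroup.centralizer ({u} : Set G)) : ℂ) ^ 2 *
          (F χ ψ u₀ * (starRingEnd ℂ) (F χ ψ u₀)) =
          ((Nat.card (Subgroup.centralizer ({u} : Set G)) : ℂ) * F χ ψ u₀) *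
            (starRingEnd ℂ) ((Nat.card (Subgroup.centralizer ({u} : Set G)) : ℂ) * F χ ψ u₀) :=
        fun χ => by rw [map_mul, map_natCast]; ring
      simp only [e, u₀, hFy, map_mul, map_pow]
      rw [show (Nat.card (Subgroup.centralizer ({u} : Set G)) : ℂ) ^ 2 *
          ((2 : ℂ) ^ d * F ψ ψ ⟨u, Subgroup.mem_zpowers u⟩) =
        (2 : ℂ) ^ d * (Nat.card (Subgroup.centralizer ({u} : Set G)) : ℂ) *
          ((Nat.card (Subgroup.centralizer ({u} : Set G)) : ℂ) * F ψ ψ ⟨u, Subgroup.mem_zpowers u⟩) by ring,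
        hFy, Nat.cast_ofNat, show ∀ a b c : ℂ, a * b * (a * c) = a * a * (b * c) from fun a b c => by ring,
        ← CfsgLib.Blocks.sum_sq_row hM hu hB hb ψ, Finset.mul_sum]
      refine Finset.sum_congr rfl fun χ _ => ?_
      simp only [map_ofNat]
      ring
    have h0 := CfsgLib.Char.eq_of_zpowers_eq_of_rat hgg (Finset.mem_filter.mp hv).2.symm (q := 0)
      (by rw [hg0, Rat.cast_zero])
    rw [Rat.cast_zero] at h0
    simp only [hg, Pi.sub_apply, Finset.sum_apply, Pi.mul_apply, Pi.smul_apply, smul_eq_mul,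
      Complex.mul_conj, sub_eq_zero] at h0
    rw [h0]
    push_cast
    rfl
  have hrow' : ∀ ψ, ∀ v ∈ S, ∑ χ ∈ s, Complex.normSq (F χ ψ v) = (2 : ℝ) ^ d * (F ψ ψ v).re := by
    intro ψ v hv
    have h := congrArg Complex.re (hrow ψ v hv)
    rw [Complex.re_sum] at h
    simp only [Complex.ofReal_re] at h
    rw [h, show (2 : ℂ) ^ d = (((2 : ℝ) ^ d : ℝ) : ℂ) by push_cast; rfl, Complex.re_ofReal_mul]
  have hnn : ∀ ψ, ∀ v ∈ S, 0 ≤ (F ψ ψ v).re := fun ψ v hv => by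
    have h : 0 ≤ ∑ χ ∈ s, Complex.normSq (F χ ψ v) :=
      Finset.sum_nonneg fun χ _ => Complex.normSq_nonneg _
    rw [hrow' ψ v hv] at h
    exact (mul_nonneg_iff_of_pos_left (by positivity)).mp h
  -- the averages
  obtain ⟨m, hm⟩ := hu
  have havg : ∀ ψ ∈ s0, ∃ z : ℤ, Odd z ∧ ∑ v ∈ S, (F ψ ψ v).re = (S.card : ℝ) * z := by
    intro ψ hψ
    simp only [s0, Finset.mem_filter, Finset.mem_univ, true_and] at hψ
    obtain ⟨n, hn⟩ : ∃ n : ℤ, F ψ ψ 1 = n := by
      obtain ⟨f, g, hf, hg, e⟩ := hF ψ ψ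
      obtain ⟨a, ha⟩ := CfsgLib.Char.exists_nat_degree hf
      obtain ⟨c, hc'⟩ := CfsgLib.Char.exists_nat_degree hg
      exact ⟨(a : ℤ) - c, by rw [e, Pi.sub_apply, ha, hc']; push_cast; ring⟩
    have hodd : Odd n := by
      rw [← Int.not_even_iff_odd, even_iff_two_dvd]
      intro h
      have := hFunit ψ ψ hψ.1 hψ.1 hψ.2 hψ.2 1
      rw [hn, CfsgLib.Blocks.memLocalIdeal_intCast_iff hM] at this
      exact this h
    obtain ⟨z, hz, he⟩ := CfsgLib.Char.exists_odd_average (x := u₀) (m := m)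
      (fun v => by
        obtain ⟨k, hk⟩ := Subgroup.mem_zpowers_iff.mp v.2
        exact Subgroup.mem_zpowers_iff.mpr ⟨k, Subtype.ext (by simpa [u₀] using hk)⟩)
      (by rw [← hm, ← Subgroup.orderOf_coe]) (hF ψ ψ) (hFreal ψ ψ rfl) hn hodd S
      (fun v => by simp [S])
    refine ⟨z, hz, ?_⟩
    have h := congrArg Complex.re he
    rw [Complex.re_sum] at h
    rw [h, Complex.mul_re]
    simp
  choose z hz hze using havg
  have hk : Nat.card {χ : IrrCharacter G // χ ∈ B ∧ blockHeight 2 B (χ : G → ℂ) = 0} = s0.card := by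
    rw [Nat.card_eq_fintype_card, Fintype.card_subtype]
  obtain ⟨η, hη, hη0⟩ := CfsgLib.Blocks.exists_blockHeight_eq_zero hM hB
  obtain ⟨⟨ψ, hψ⟩, -, hmin⟩ := Finset.exists_min_image s0.attach (fun χ => z χ.1 χ.2)
    ⟨⟨η, by simp [s0, hη, hη0]⟩, Finset.mem_attach _ _⟩
  have h1 : (s0.card : ℝ) ≤ (2 : ℝ) ^ d * (z ψ hψ : ℝ) := by
    refine le_of_mul_le_mul_left (a := (S.card : ℝ)) ?_ hS0
    calc (S.card : ℝ) * s0.card = ∑ χ ∈ s0, (S.card : ℝ) := by
          rw [Finset.sum_const, nsmul_eq_mul, mul_comm]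
      _ ≤ ∑ χ ∈ s0, ∑ v ∈ S, Complex.normSq (F χ ψ v) := Finset.sum_le_sum fun χ hχ => by
          simp only [s0, Finset.mem_filter, Finset.mem_univ, true_and] at hχ hψ
          exact CfsgLib.Char.card_le_sum_normSq_generalized (hF χ ψ) S hSc fun v _ hv =>
            hFunit χ ψ hχ.1 hψ.1 hχ.2 hψ.2 v (by rw [hv]; exact CfsgLib.Blocks.memLocalIdeal_zero)
      _ ≤ ∑ χ ∈ s, ∑ v ∈ S, Complex.normSq (F χ ψ v) :=
          Finset.sum_le_sum_of_subset_of_nonneg hsub fun χ _ _ =>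
            Finset.sum_nonneg fun v _ => Complex.normSq_nonneg _
      _ = ∑ v ∈ S, (2 : ℝ) ^ d * (F ψ ψ v).re := by
          rw [Finset.sum_comm]; exact Finset.sum_congr rfl (hrow' ψ)
      _ = _ := by rw [← Finset.mul_sum, hze ψ hψ]; ring
  have hzpos : (0 : ℝ) < z ψ hψ := by
    have : (0 : ℝ) < s0.card := Nat.cast_pos.mpr (Finset.card_pos.mpr ⟨ψ, hψ⟩)
    exact (mul_pos_iff_of_pos_left (by positivity)).mp (this.trans_le h1)
  have h2 : (s0.card : ℝ) * (z ψ hψ : ℝ) ≤ (2 : ℝ) ^ d * l := by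
    refine le_of_mul_le_mul_left (a := (S.card : ℝ)) ?_ hS0
    calc (S.card : ℝ) * (s0.card * (z ψ hψ : ℝ)) = ∑ χ ∈ s0.attach, (S.card : ℝ) * z ψ hψ := by
          rw [Finset.sum_const, Finset.card_attach, nsmul_eq_mul]; ring
      _ ≤ ∑ χ ∈ s0.attach, ∑ v ∈ S, (F χ.1 χ.1 v).re := Finset.sum_le_sum fun χ hχ => by
          rw [hze χ.1 χ.2]
          exact mul_le_mul_of_nonneg_left (Int.cast_le.mpr (hmin χ hχ)) hS0.le
      _ = ∑ χ ∈ s0, ∑ v ∈ S, (F χ χ v).re :=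
          Finset.sum_attach s0 fun χ => ∑ v ∈ S, (F χ χ v).re
      _ ≤ ∑ χ ∈ s, ∑ v ∈ S, (F χ χ v).re :=
          Finset.sum_le_sum_of_subset_of_nonneg hsub fun χ _ _ =>
            Finset.sum_nonneg fun v hv => hnn χ v hv
      _ = ∑ v ∈ S, ((2 : ℝ) ^ d * l) := by
          rw [Finset.sum_comm]
          refine Finset.sum_congr rfl fun v hv => ?_
          have h := congrArg Complex.re (hTv v hv)
          rw [hT, Finset.sum_apply, Complex.re_sum, Complex.natCast_re] at h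
          rw [h]; push_cast; rfl
      _ = _ := by rw [Finset.sum_const, nsmul_eq_mul]
  obtain ⟨A, hA⟩ := Int.eq_ofNat_of_zero_le (Int.cast_pos.mp hzpos).le
  rw [hA, Int.cast_natCast] at h1 h2
  have hAodd : Odd A := by
    have := hz ψ hψ
    rwa [hA, Int.odd_coe_nat] at this
  rw [hk]
  exact bounds (e := 2 ^ d) hAodd (Nat.sqrt_le l) (Nat.lt_succ_sqrt l) (by exact_mod_cast h1)
    (by exact_mod_cast h2)

end Cfsg.Agent.S4541
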