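import Cfsg.Statements.S4549
import Cfsg.Agent.S4491
import Cfsg.Agent.S0081
import Cfsg.Agent.Lib.Blocks.RegularCriterion
import Cfsg.Agent.Lib.Blocks.KernelBlock
import Cfsg.Agent.Lib.Blocks.Inflate
import Cfsg.Agent.Lib.Char.Twist
import Cfsg.Agent.Lib.Char.Galois
import Cfsg.Agent.Lib.Char.Counting
import Cfsg.Agent.Lib.Blocks.PPart
import Cfsg.Agent.Lib.Conjugacy.TransferAverage

set_option autoImplicit false
set_option linter.style.haveILetI false
open Cfsg
open CfsgLib
open scoped CfsgLib.Char ComplexConjugate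

namespace Cfsg.Agent.S4549

/-- A galois-fixed member of odd degree and odd multiplicity of a given sign character of a Sylow 2-subgroup. -/
theorem exists_fixed {G : Type*} [Group G] [Finite G] (M : Ideal Cfsg.AlgInt) (hM : Cfsg.IsPModular 2 M)
    (k : ℕ) (hk₁ : ∀ g : G, (∃ j : ℕ, orderOf g = 2 ^ j) → g ^ k = g ^ 3)
    (hk₂ : ∀ g : G, Odd (orderOf g) → g ^ k = g)
    (P : Sylow 2 G) [Fintype (P : Subgroup G)] (l : (P : Subgroup G) →* ℂˣ) (hl : ∀ x, l x ^ 2 = 1) :
    ∃ χ ∈ Cfsg.principalBlock M G, Odd (Cfsg.charDegree (χ : G → ℂ)) ∧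
      (∀ g : G, (χ : G → ℂ) (g ^ k) = (χ : G → ℂ) g) ∧
      Cfsg.classInner (fun x : (P : Subgroup G) => (χ : G → ℂ) x) (fun x => (l x : ℂ)) ≠ 0 := by
  classical
  haveI := Fintype.ofFinite G
  haveI : Finite (Cfsg.IrrCharacter G) := Char.finite_irrCharacter
  haveI := Fintype.ofFinite (Cfsg.IrrCharacter G)
  have := Blocks.isPrime_of_isPModular hM
  haveI : Fact (Nat.Prime 2) := ⟨Nat.prime_two⟩
  have hspl : ∀ g : G, ∃ u v : G, u * v = g ∧ Commute u v ∧ (∃ j, orderOf u = 2 ^ j) ∧ Odd (orderOf v) := by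
    intro g
    obtain ⟨u, ⟨v, h1, h2, h3, h4⟩, -⟩ := Blocks.exists_isPPart (p := 2) Nat.prime_two g
    exact ⟨u, v, h1, h2, h3, Nat.odd_iff.mpr (Nat.two_dvd_ne_zero.mp h4)⟩
  -- iterating the power map
  have hiter : ∀ (j : ℕ) (g : G), ∀ u v : G, u * v = g → Commute u v → (∃ i, orderOf u = 2 ^ i) →
      Odd (orderOf v) → g ^ k ^ j = u ^ 3 ^ j * v := by
    intro j
    induction j with
    | zero => intro g u v h1 _ _ _; simp [h1]
    | succ j ih =>
      intro g u v h1 h2 h3 h4
      rw [pow_succ, pow_mul, ih g u v h1 h2 h3 h4, (h2.pow_left _).mul_pow, hk₂ v h4, hk₁ (u ^ 3 ^ j),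
        ← pow_mul, ← pow_succ]
      obtain ⟨i, hi⟩ := h3
      obtain ⟨l, -, hl⟩ := (Nat.dvd_prime_pow Nat.prime_two).mp (hi ▸ orderOf_pow_dvd (x := u) (3 ^ j))
      exact ⟨l, hl⟩
  have hkc : k.Coprime (Nat.card G) := by
    refine Nat.coprime_of_dvd fun q hq hqk hqG => ?_
    haveI := Fact.mk hq
    obtain ⟨g, hg⟩ := exists_prime_orderOf_dvd_card' q hqG
    have h1 : g ^ k = 1 := by rw [← orderOf_dvd_iff_pow_eq_one, hg]; exact hqk
    rcases hq.eq_two_or_odd' with rfl | hodd
    · have h3 := hk₁ g ⟨1, by rw [hg, pow_one]⟩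
      rw [h1, pow_succ, ← hg, pow_orderOf_eq_one, one_mul] at h3
      rw [← h3, orderOf_one] at hg
      omega
    · have h3 := hk₂ g (hg ▸ hodd)
      rw [h1] at h3
      rw [← h3, orderOf_one] at hg
      exact hq.one_lt.ne hg
  let F : Cfsg.IrrCharacter G → Cfsg.IrrCharacter G := fun χ =>
    ⟨fun g => (χ : G → ℂ) (g ^ k), Char.isIrrCharacter_pow hkc χ.2⟩
  have hreg : ∀ (χ : Cfsg.IrrCharacter G) (g : G), ¬ 2 ∣ orderOf g → (F χ : G → ℂ) g = (χ : G → ℂ) g :=
    fun χ g hg => congrArg (χ : G → ℂ) (hk₂ g (Nat.odd_iff.mpr (Nat.two_dvd_ne_zero.mp hg)))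
  have hdeg : ∀ χ : Cfsg.IrrCharacter G, (F χ : G → ℂ) 1 = (χ : G → ℂ) 1 := fun χ => by simp [F]
  have hblock : ∀ χ ∈ Cfsg.principalBlock M G, F χ ∈ Cfsg.principalBlock M G := by
    intro χ hχ
    rw [Blocks.principalBlock_eq] at hχ ⊢
    refine Blocks.SameBlock.trans hχ (Blocks.SameBlock.symm (Blocks.sameBlock_of_regular_congr hM fun g hg => ?_))
    rw [show Cfsg.centralChar (F χ : G → ℂ) g = Cfsg.centralChar (χ : G → ℂ) g by
      simp only [Cfsg.centralChar, hdeg, hreg χ g hg], sub_self]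
    exact Blocks.memLocalIdeal_zero
  -- multiplicities
  choose c hc using fun χ : Cfsg.IrrCharacter G => Char.exists_nat_classInner
    (Char.isCharacter_restrict (P : Subgroup G) (Char.isCharacter_of_isIrr χ.2))
    (Char.isCharacter_monoidHom l)
  have hord : ∀ x : (P : Subgroup G), ∃ j, orderOf (x : G) = 2 ^ j := fun x => by
    obtain ⟨j, hj⟩ := IsPGroup.iff_orderOf.mp P.2 x
    exact ⟨j, by rw [Subgroup.orderOf_coe, hj]⟩
  have hlk : ∀ x : (P : Subgroup G), l (x ^ k) = l x := fun x => by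
    have : x ^ k = x ^ 3 := Subtype.ext (by simpa using hk₁ (x : G) (hord x))
    rw [this, map_pow, pow_succ, hl, one_mul]
  have hcF : ∀ χ : Cfsg.IrrCharacter G, c (F χ) = c χ := fun χ => by
    have hkP : (Nat.card (P : Subgroup G)).Coprime k :=
      (hkc.coprime_dvd_right (Subgroup.card_subgroup_dvd_card _)).symm
    have h : ((c (F χ) : ℕ) : ℂ) = c χ := by
      rw [← hc, ← hc, Cfsg.classInner, Cfsg.classInner]
      congr 1
      refine Fintype.sum_equiv (powCoprime hkP) _ _ fun x => ?_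
      simp [F, powCoprime_apply, hlk]
    exact_mod_cast h
  set B : Finset (Cfsg.IrrCharacter G) := Finset.univ.filter (· ∈ Cfsg.principalBlock M G) with hBdef
  have hU : Blocks.IsBlockUnion M (B : Set (Cfsg.IrrCharacter G)) := by
    have := Blocks.IsPBlock.isBlockUnion (Blocks.isPBlock_principalBlock (M := M) (G := G))
    simpa [B] using this
  -- the weighted sum of the multiplicities
  have hsum : Nat.card (P : Subgroup G) * ∑ χ ∈ B, c χ * Cfsg.charDegree (χ : G → ℂ) =
      ∑ χ ∈ B, Cfsg.charDegree (χ : G → ℂ) ^ 2 := by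
    have h : ((Nat.card (P : Subgroup G) * ∑ χ ∈ B, c χ * Cfsg.charDegree (χ : G → ℂ) : ℕ) : ℂ) =
        ((∑ χ ∈ B, Cfsg.charDegree (χ : G → ℂ) ^ 2 : ℕ) : ℂ) := by
      push_cast
      simp only [← hc, Cfsg.classInner]
      have hne : (Nat.card (P : Subgroup G) : ℂ) ≠ 0 := Nat.cast_ne_zero.mpr Nat.card_pos.ne'
      rw [Finset.mul_sum]
      simp only [← mul_assoc, mul_inv_cancel₀ hne, one_mul, Finset.sum_mul]
      rw [Finset.sum_comm, Finset.sum_eq_single (1 : (P : Subgroup G))]
      · refine Finset.sum_congr rfl fun χ _ => ?_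
        simp [(Blocks.irr_degree_eq χ).1, sq]
      · intro x _ hx
        have hx' : ¬ Cfsg.IsPRegular 2 (x : G) := by
          obtain ⟨j, hj⟩ := hord x
          rcases j with _ | j
          · exact absurd (Subtype.ext (orderOf_eq_one_iff.mp (by simpa using hj))) hx
          · exact fun h => h (by rw [hj]; exact dvd_pow_self 2 j.succ_ne_zero)
        have h0 := Blocks.sum_block_mul_conj_eq_zero hM hU (x := (1 : G))
          (by simp [Cfsg.IsPRegular]) hx'
        have h1 := congrArg (starRingEnd ℂ) h0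
        simp only [map_sum, map_mul, Complex.conj_conj, map_zero, (Blocks.irr_degree_eq _).1,
          Complex.conj_natCast] at h1
        calc _ = conj (l x : ℂ) * ∑ χ ∈ B, (Cfsg.charDegree (χ : G → ℂ) : ℂ) * (χ : G → ℂ) x := by
              rw [Finset.mul_sum]
              exact Finset.sum_congr rfl fun χ _ => by ring
          _ = 0 := by rw [h1, mul_zero]
      · simp
    exact_mod_cast h
  have hoddsum : Odd (∑ χ ∈ B, c χ * Cfsg.charDegree (χ : G → ℂ)) := by
    have hB : IsPBlock M (principalBlock M G) := Blocks.isPBlock_principalBlock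
    have hv := Cfsg.Agent.S4491.result 2 M hM _ hB
    have hmem : Blocks.trivIrr G ∈ principalBlock M G := by
      rw [Blocks.principalBlock_eq]
      exact Blocks.mem_blockOf_self (M := M) (Blocks.trivIrr G)
    have hd : blockDefect 2 (principalBlock M G) = (Nat.card G).factorization 2 := by
      have h0 : sInf ((fun χ : IrrCharacter G => (charDegree (χ : G → ℂ)).factorization 2) ''
          principalBlock M G) = 0 :=
        Nat.sInf_eq_zero.mpr (Or.inl ⟨_, hmem, by simp [charDegree, Blocks.trivIrr]⟩)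
      rw [blockDefect, h0, Nat.sub_zero]
    rw [hd, show ∑ᶠ χ ∈ principalBlock M G, Cfsg.charDegree (χ : G → ℂ) ^ 2 =
      ∑ χ ∈ B, Cfsg.charDegree (χ : G → ℂ) ^ 2 by
        rw [← finsum_mem_coe_finset]; simp [B], ← hsum] at hv
    have hpos : 0 < Nat.card (P : Subgroup G) * ∑ χ ∈ B, c χ * Cfsg.charDegree (χ : G → ℂ) := by
      rw [hsum]
      exact Finset.sum_pos (fun χ _ => pow_pos (Blocks.irr_degree_eq χ).2 2)
        ⟨Blocks.trivIrr G, by simp [B, hmem]⟩
    obtain ⟨hP0, hs0⟩ := Nat.mul_ne_zero_iff.mp hpos.ne'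
    rw [Nat.factorization_mul hP0 hs0, Finsupp.add_apply, P.card_eq_multiplicity,
      Nat.prime_two.factorization_pow, Finsupp.single_eq_same] at hv
    rw [Nat.odd_iff, ← Nat.two_dvd_ne_zero]
    intro h
    have := (Nat.prime_two.dvd_iff_one_le_factorization hs0).mp h
    omega
  let S := {χ : Cfsg.IrrCharacter G // χ ∈ Cfsg.principalBlock M G ∧
    Odd (Cfsg.charDegree (χ : G → ℂ)) ∧ Odd (c χ)}
  haveI : Fintype S := Fintype.ofFinite S
  have hFi : Function.Injective F := by
    intro χ χ' h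
    refine Subtype.ext (funext fun x => ?_)
    obtain ⟨y, rfl⟩ := (powCoprime hkc.symm).surjective x
    exact congrFun (congrArg Subtype.val h) y
  let f : S → S := fun χ => ⟨F χ.1, hblock _ χ.2.1, by
    have h := χ.2.2.1
    simp only [Cfsg.charDegree, hdeg] at h ⊢
    exact h, by rw [hcF]; exact χ.2.2.2⟩
  have hfi : Function.Injective f := fun a b h => Subtype.ext (hFi (congrArg Subtype.val h))
  let σ : Equiv.Perm S := Equiv.ofBijective f (Finite.injective_iff_bijective.mp hfi)
  have hσ : ∀ (j : ℕ) (χ : S) (g : G), (((σ ^ j) χ).1 : G → ℂ) g = (χ.1 : G → ℂ) (g ^ k ^ j) := by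
    intro j
    induction j with
    | zero => intro χ g; simp
    | succ j ih =>
      intro χ g
      rw [pow_succ' σ, Equiv.Perm.mul_apply]
      show (((σ ^ j) χ).1 : G → ℂ) (g ^ k) = _
      rw [ih, ← pow_mul, ← pow_succ']
  have hpow : σ ^ 2 ^ (Nat.card G) = 1 := by
    refine Equiv.ext fun χ => Subtype.ext (Subtype.ext (funext fun g => ?_))
    rw [hσ, Equiv.Perm.one_apply]
    obtain ⟨u, v, h1, h2, ⟨j, hj⟩, h4⟩ := hspl g
    rw [hiter _ g u v h1 h2 ⟨j, hj⟩ h4]
    suffices u ^ 3 ^ 2 ^ Nat.card G = u by rw [this, h1]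
    have hjle : j ≤ Nat.card G := (Nat.lt_two_pow_self).le.trans (hj ▸ (orderOf_le_card).trans le_rfl)
    have hgen : ∀ i, 2 ^ (i + 1) ∣ (3 : ℤ) ^ 2 ^ i - 1 := by
      intro i
      induction i with
      | zero => norm_num
      | succ i ih =>
        rw [pow_succ 2 i, pow_mul, show ((3 : ℤ) ^ 2 ^ i) ^ 2 - 1 = ((3 : ℤ) ^ 2 ^ i - 1) * ((3 : ℤ) ^ 2 ^ i + 1) by ring,
          pow_succ (2 : ℤ) (i + 1)]
        exact mul_dvd_mul ih (by
          have : (2 : ℤ) ∣ 3 ^ 2 ^ i - 1 := (dvd_pow_self 2 (Nat.succ_ne_zero i)).trans ih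
          omega)
    have hd : (orderOf u : ℤ) ∣ ((3 ^ 2 ^ Nat.card G : ℕ) : ℤ) - ((1 : ℕ) : ℤ) := by
      rw [hj]
      push_cast
      exact (pow_dvd_pow 2 (by omega : j ≤ Nat.card G + 1)).trans (hgen _)
    conv_rhs => rw [← pow_one u]
    rw [pow_eq_pow_iff_modEq, Nat.modEq_iff_dvd]
    have := dvd_neg.mpr hd
    rwa [neg_sub] at this
  have hmod := Equiv.Perm.card_compl_support_modEq hpow
  have hSodd : ((Fintype.card S : ℕ) : ZMod 2) = 1 := by
    rw [show Fintype.card S = (B.filter fun χ : Cfsg.IrrCharacter G =>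
        Odd (Cfsg.charDegree (χ : G → ℂ)) ∧ Odd (c χ)).card by
      rw [← Nat.card_eq_fintype_card, Finset.filter_filter, ← Nat.card_eq_finsetCard]
      exact Nat.card_congr (Equiv.subtypeEquivRight fun χ => by simp),
      ← ZMod.natCast_eq_one_iff_odd.mpr hoddsum, Finset.card_filter, Nat.cast_sum, Nat.cast_sum]
    refine Finset.sum_congr rfl fun χ _ => ?_
    split_ifs with h
    · rw [ZMod.natCast_eq_one_iff_odd.mpr (h.2.mul h.1), Nat.cast_one]
    · rw [Nat.cast_zero, ZMod.natCast_eq_zero_iff_even.mpr]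
      rw [← Nat.not_odd_iff_even, Nat.odd_mul]
      exact fun e => h ⟨e.2, e.1⟩
  have hne : σ.supportᶜ.Nonempty := by
    rw [← Finset.card_pos]
    refine Nat.pos_of_ne_zero fun h => ?_
    rw [(ZMod.natCast_eq_natCast_iff _ _ 2).mpr hmod.symm] at hSodd
    simp [h] at hSodd
  obtain ⟨χ, hχ⟩ := hne
  rw [Finset.mem_compl, Equiv.Perm.notMem_support] at hχ
  refine ⟨χ.1, χ.2.1, χ.2.2.1, fun g => congrFun (congrArg (fun z : S => (z.1 : G → ℂ)) hχ) g, ?_⟩
  rw [hc]
  exact Nat.cast_ne_zero.mpr χ.2.2.2.pos.ne'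

/-- Let G be a finite group and M a maximal ideal of the algebraic integers containing 2. Let k be a natural number with g ^ k = g ^ 3 for every 2-element g and g ^ k = g for every element g of odd order (such k exist); an irreducible character χ is unchanged by g ↦ g ^ k exactly when it is fixed by the field automorphism that cubes the 2-power roots of unity and fixes the roots of unity of odd order. Then G has a normal 2-complement if and only if every member χ of the principal 2-block of odd degree with χ (g ^ k) = χ g for all g has degree one. -/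
theorem result {G : Type*} [Group G] [Finite G] (M : Ideal Cfsg.AlgInt) (hM : Cfsg.IsPModular 2 M) (k : ℕ) (hk₁ : ∀ g : G, (∃ j : ℕ, orderOf g = 2 ^ j) → g ^ k = g ^ 3) (hk₂ : ∀ g : G, Odd (orderOf g) → g ^ k = g) : Cfsg.HasNormalPComplement 2 G ↔ ∀ χ ∈ Cfsg.principalBlock M G, Odd (Cfsg.charDegree (χ : G → ℂ)) → (∀ g : G, (χ : G → ℂ) (g ^ k) = (χ : G → ℂ) g) → Cfsg.charDegree (χ : G → ℂ) = 1 := by
  classical
  haveI := Fintype.ofFinite G
  have := Blocks.isPrime_of_isPModular hM
  haveI : Fact (Nat.Prime 2) := ⟨Nat.prime_two⟩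
  haveI := Transfer.pResidual_normal 2 G
  set N := Cfsg.pResidual 2 G with hNdef
  constructor
  · intro h χ hχ hodd _
    obtain ⟨η, hη⟩ := Blocks.exists_inflate_eq_of_ker N χ
      (Blocks.trivial_on_of_mem_principalBlock hM N
        (Transfer.hasNormalPComplement_iff_pResidual.mp h) hχ)
    obtain ⟨n, hn, -, hdvd⟩ := Char.exists_degree_dvd_card η.2
    have h1 : Cfsg.charDegree (χ : G → ℂ) = n := by
      have e : (χ : G → ℂ) 1 = n := by
        rw [congrArg (fun z : IrrCharacter G => (z : G → ℂ) 1) hη, ← hn]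
        simp [Blocks.inflate]
      rw [Cfsg.charDegree, e, Complex.natCast_re, Nat.floor_natCast]
    obtain ⟨j, hj⟩ := IsPGroup.iff_card.mp (Transfer.isPGroup_quotient_pResidual (p := 2) (G := G))
    rw [hj, Nat.dvd_prime_pow Nat.prime_two] at hdvd
    obtain ⟨i, -, rfl⟩ := hdvd
    rw [h1] at hodd ⊢
    rcases i with _ | i
    · exact pow_zero 2
    · exact absurd hodd (by simp [parity_simps])
  · intro h
    let P : Sylow 2 G := default
    haveI := Fintype.ofFinite (P : Subgroup G)
    -- every sign character of `P` is trivial on `P ⊓ N`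
    have htriv : ∀ (l : (P : Subgroup G) →* ℂˣ), (∀ x, l x ^ 2 = 1) →
        ∀ x : (P : Subgroup G), (x : G) ∈ N → l x = 1 := by
      intro l hl x hx
      obtain ⟨χ, hχ, hodd, hfix, hne⟩ := exists_fixed M hM k hk₁ hk₂ P l hl
      have h1 : (χ : G → ℂ) 1 = 1 := by
        rw [(Blocks.irr_degree_eq χ).1, h χ hχ hodd hfix, Nat.cast_one]
      have hres : (fun y : (P : Subgroup G) => (χ : G → ℂ) y) = fun y => (l y : ℂ) := by
        by_contra hc
        refine hne (Char.classInner_irr_ne (Char.isIrrCharacter_of_degree_one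
          (Char.isCharacter_restrict _ (Char.isCharacter_of_isIrr χ.2)) (by simpa using h1))
          (Char.isIrrCharacter_monoidHom l) hc)
      set μ := Char.linearHom (Char.isCharacter_of_isIrr χ.2) h1 with hμ
      set m := ordCompl[2] (Nat.card G) with hm
      have hm2 : ¬ 2 ∣ m := Nat.not_dvd_ordCompl Nat.prime_two Nat.card_pos.ne'
      have hker : N ≤ (μ ^ m).ker := by
        refine (Subgroup.closure_le _).mpr fun g hg => ?_
        have hgm : g ^ m = 1 := by
          rw [← orderOf_dvd_iff_pow_eq_one]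
          have hd : orderOf g ∣ 2 ^ (Nat.card G).factorization 2 * m := by
            rw [hm, Nat.ordProj_mul_ordCompl_eq_self]
            exact orderOf_dvd_natCard g
          exact (Nat.Coprime.pow_right _ hg).dvd_of_dvd_mul_left hd
        rw [SetLike.mem_coe, MonoidHom.mem_ker, MonoidHom.pow_apply, ← map_pow, hgm, map_one]
      have hxm : μ (x : G) ^ m = 1 := by
        rw [← MonoidHom.pow_apply]; exact hker hx
      have hμx : μ (x : G) = l x := Units.ext ((Char.linearHom_apply _ _ _).trans (congrFun hres x))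
      rw [hμx] at hxm
      obtain ⟨q, hq⟩ : Odd m := Nat.odd_iff.mpr (Nat.two_dvd_ne_zero.mp hm2)
      rwa [hq, pow_succ, pow_mul, hl, one_pow, one_mul] at hxm
    have hle : N ⊓ (P : Subgroup G) ≤ (frattini (P : Subgroup G)).map (P : Subgroup G).subtype := by
      intro x hx
      refine ⟨⟨x, hx.2⟩, ?_, rfl⟩
      by_contra hnf
      obtain ⟨K, hK, hxK⟩ : ∃ K : Subgroup (P : Subgroup G), IsCoatom K ∧ (⟨x, hx.2⟩ : (P : Subgroup G)) ∉ K := by
        by_contra hc
        push Not at hc
        refine hnf ?_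
        simp only [frattini, Order.radical, SetLike.mem_coe, Subgroup.mem_iInf]
        exact fun K hK => hc K hK
      have hi := (Conjugacy.coatom_normal_index P.2 hK).2
      let l : (P : Subgroup G) →* ℂˣ :=
        { toFun := fun y => if y ∈ K then 1 else -1
          map_one' := if_pos (one_mem K)
          map_mul' := fun a b => by
            have := Subgroup.mul_mem_iff_of_index_two hi (a := a) (b := b)
            split_ifs <;> simp_all }
      have hl : ∀ y, l y ^ 2 = 1 := fun y => by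
        show (if y ∈ K then (1 : ℂˣ) else -1) ^ 2 = 1
        split_ifs <;> simp
      have := htriv l hl ⟨x, hx.2⟩ hx.1
      change (if (⟨x, hx.2⟩ : (P : Subgroup G)) ∈ K then (1 : ℂˣ) else -1) = 1 at this
      rw [if_neg hxK] at this
      have := congrArg Units.val this
      norm_num at this
    have hN := Cfsg.Agent.S0081.result P N hle
    rw [Transfer.hasNormalPComplement_iff_pResidual] at hN ⊢
    have hmap : (Cfsg.pResidual 2 N).map N.subtype = N := by
      refine le_antisymm (Subgroup.map_subtype_le _) ((Subgroup.closure_le _).mpr fun g hg => ?_)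
      have hgN : g ∈ N := Subgroup.subset_closure hg
      exact ⟨⟨g, hgN⟩, Subgroup.subset_closure (by
        show Nat.Coprime (orderOf (⟨g, hgN⟩ : N)) 2
        rw [← Subgroup.orderOf_coe]; exact hg), rfl⟩
    rwa [← hNdef, ← hmap, Subgroup.card_map_of_injective N.subtype_injective]

end Cfsg.Agent.S4549
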