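import Cfsg.Statements.S4550
import Cfsg.Agent.Lib.Blocks.RegularCriterion
import Cfsg.Agent.Lib.Char.Twist
import Cfsg.Agent.Lib.Char.Galois
import Cfsg.Agent.Lib.Blocks.PPart

set_option autoImplicit false
set_option linter.style.haveILetI false
open Cfsg
open CfsgLib
open scoped CfsgLib.Char ComplexConjugate

namespace Cfsg.Agent.S4550

/-- Let G be a finite group of even order and M a maximal ideal of the algebraic integers containing 2. Let k be a natural number with g ^ k = g ^ 3 for every 2-element g and g ^ k = g for every element g of odd order (such k exist); an irreducible character χ is unchanged by g ↦ g ^ k exactly when it is fixed by the field automorphism that cubes the 2-power roots of unity and fixes the roots of unity of odd order. Then the number of members χ of the principal 2-block of odd degree with χ (g ^ k) = χ g for all g is even. -/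
theorem result {G : Type*} [Group G] [Finite G] (M : Ideal Cfsg.AlgInt) (hM : Cfsg.IsPModular 2 M) (hev : Even (Nat.card G)) (k : ℕ) (hk₁ : ∀ g : G, (∃ j : ℕ, orderOf g = 2 ^ j) → g ^ k = g ^ 3) (hk₂ : ∀ g : G, Odd (orderOf g) → g ^ k = g) : Even (Nat.card {χ : Cfsg.IrrCharacter G // χ ∈ Cfsg.principalBlock M G ∧ Odd (Cfsg.charDegree (χ : G → ℂ)) ∧ ∀ g : G, (χ : G → ℂ) (g ^ k) = (χ : G → ℂ) g}) := by
  classical
  haveI := Fintype.ofFinite G
  haveI : Finite (Cfsg.IrrCharacter G) := Char.finite_irrCharacter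
  have := Blocks.isPrime_of_isPModular hM
  haveI : Fact (Nat.Prime 2) := ⟨Nat.prime_two⟩
  have hspl : ∀ g : G, ∃ u v : G, u * v = g ∧ Commute u v ∧ (∃ j, orderOf u = 2 ^ j) ∧ Odd (orderOf v) := by
    intro g
    obtain ⟨u, ⟨v, h1, h2, h3, h4⟩, -⟩ := Blocks.exists_isPPart (p := 2) Nat.prime_two g
    exact ⟨u, v, h1, h2, h3, Nat.odd_iff.mpr (Nat.two_dvd_ne_zero.mp h4)⟩
  -- iterating the power map
  have hiter : ∀ (j : ℕ) (g : G), ∀ u v : G, u * v = g → Commute u v → (∃ i, orderOf u = 2 ^ i) →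
      Odd (orderOf v) → g ^ k ^ j = u ^ 3 ^ j * v := by
    intro j
    induction j with
    | zero => intro g u v h1 _ _ _; simp [h1]
    | succ j ih =>
      intro g u v h1 h2 h3 h4
      rw [pow_succ, pow_mul, ih g u v h1 h2 h3 h4, (h2.pow_left _).mul_pow, hk₂ v h4, hk₁ (u ^ 3 ^ j),
        ← pow_mul, ← pow_succ]
      obtain ⟨i, hi⟩ := h3
      obtain ⟨l, -, hl⟩ := (Nat.dvd_prime_pow Nat.prime_two).mp (hi ▸ orderOf_pow_dvd (x := u) (3 ^ j))
      exact ⟨l, hl⟩
  have hkc : k.Coprime (Nat.card G) := by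
    refine Nat.coprime_of_dvd fun q hq hqk hqG => ?_
    haveI := Fact.mk hq
    obtain ⟨g, hg⟩ := exists_prime_orderOf_dvd_card' q hqG
    have h1 : g ^ k = 1 := by rw [← orderOf_dvd_iff_pow_eq_one, hg]; exact hqk
    rcases hq.eq_two_or_odd' with rfl | hodd
    · have h3 := hk₁ g ⟨1, by rw [hg, pow_one]⟩
      rw [h1, pow_succ, ← hg, pow_orderOf_eq_one, one_mul] at h3
      rw [← h3, orderOf_one] at hg
      omega
    · have h3 := hk₂ g (hg ▸ hodd)
      rw [h1] at h3
      rw [← h3, orderOf_one] at hg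
      exact hq.one_lt.ne hg
  let F : Cfsg.IrrCharacter G → Cfsg.IrrCharacter G := fun χ =>
    ⟨fun g => (χ : G → ℂ) (g ^ k), Char.isIrrCharacter_pow hkc χ.2⟩
  have hreg : ∀ (χ : Cfsg.IrrCharacter G) (g : G), ¬ 2 ∣ orderOf g → (F χ : G → ℂ) g = (χ : G → ℂ) g :=
    fun χ g hg => congrArg (χ : G → ℂ) (hk₂ g (Nat.odd_iff.mpr (Nat.two_dvd_ne_zero.mp hg)))
  have hdeg : ∀ χ : Cfsg.IrrCharacter G, (F χ : G → ℂ) 1 = (χ : G → ℂ) 1 := fun χ => by simp [F]
  have hblock : ∀ χ ∈ Cfsg.principalBlock M G, F χ ∈ Cfsg.principalBlock M G := by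
    intro χ hχ
    rw [Blocks.principalBlock_eq] at hχ ⊢
    refine Blocks.SameBlock.trans hχ (Blocks.SameBlock.symm (Blocks.sameBlock_of_regular_congr hM fun g hg => ?_))
    rw [show Cfsg.centralChar (F χ : G → ℂ) g = Cfsg.centralChar (χ : G → ℂ) g by
      simp only [Cfsg.centralChar, hdeg, hreg χ g hg], sub_self]
    exact Blocks.memLocalIdeal_zero
  let S := {χ : Cfsg.IrrCharacter G // χ ∈ Cfsg.principalBlock M G ∧ Odd (Cfsg.charDegree (χ : G → ℂ))}
  haveI : Fintype S := Fintype.ofFinite S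
  have hFi : Function.Injective F := by
    intro χ χ' h
    refine Subtype.ext (funext fun x => ?_)
    obtain ⟨y, rfl⟩ := (powCoprime hkc.symm).surjective x
    exact congrFun (congrArg Subtype.val h) y
  let f : S → S := fun χ => ⟨F χ.1, hblock _ χ.2.1, by
    have h := χ.2.2
    simp only [Cfsg.charDegree, hdeg] at h ⊢
    exact h⟩
  have hfi : Function.Injective f := fun a b h => Subtype.ext (hFi (congrArg Subtype.val h))
  let σ : Equiv.Perm S := Equiv.ofBijective f (Finite.injective_iff_bijective.mp hfi)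
  have hσ : ∀ (j : ℕ) (χ : S) (g : G), (((σ ^ j) χ).1 : G → ℂ) g = (χ.1 : G → ℂ) (g ^ k ^ j) := by
    intro j
    induction j with
    | zero => intro χ g; simp
    | succ j ih =>
      intro χ g
      rw [pow_succ' σ, Equiv.Perm.mul_apply]
      show (((σ ^ j) χ).1 : G → ℂ) (g ^ k) = _
      rw [ih, ← pow_mul, ← pow_succ']
  have hpow : σ ^ 2 ^ (Nat.card G) = 1 := by
    refine Equiv.ext fun χ => Subtype.ext (Subtype.ext (funext fun g => ?_))
    rw [hσ, Equiv.Perm.one_apply]
    obtain ⟨u, v, h1, h2, ⟨j, hj⟩, h4⟩ := hspl g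
    rw [hiter _ g u v h1 h2 ⟨j, hj⟩ h4]
    suffices u ^ 3 ^ 2 ^ Nat.card G = u by rw [this, h1]
    have hjle : j ≤ Nat.card G := (Nat.lt_two_pow_self).le.trans (hj ▸ (orderOf_le_card).trans le_rfl)
    have hgen : ∀ i, 2 ^ (i + 1) ∣ (3 : ℤ) ^ 2 ^ i - 1 := by
      intro i
      induction i with
      | zero => norm_num
      | succ i ih =>
        rw [pow_succ 2 i, pow_mul, show ((3 : ℤ) ^ 2 ^ i) ^ 2 - 1 = ((3 : ℤ) ^ 2 ^ i - 1) * ((3 : ℤ) ^ 2 ^ i + 1) by ring,
          pow_succ (2 : ℤ) (i + 1)]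
        exact mul_dvd_mul ih (by
          have : (2 : ℤ) ∣ 3 ^ 2 ^ i - 1 := (dvd_pow_self 2 (Nat.succ_ne_zero i)).trans ih
          omega)
    have hd : (orderOf u : ℤ) ∣ ((3 ^ 2 ^ Nat.card G : ℕ) : ℤ) - ((1 : ℕ) : ℤ) := by
      rw [hj]
      push_cast
      exact (pow_dvd_pow 2 (by omega : j ≤ Nat.card G + 1)).trans (hgen _)
    conv_rhs => rw [← pow_one u]
    rw [pow_eq_pow_iff_modEq, Nat.modEq_iff_dvd]
    have := dvd_neg.mpr hd
    rwa [neg_sub] at this
  have hmod := Equiv.Perm.card_compl_support_modEq hpow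
  have hfixcard : Nat.card {χ : Cfsg.IrrCharacter G // χ ∈ Cfsg.principalBlock M G ∧
      Odd (Cfsg.charDegree (χ : G → ℂ)) ∧ ∀ g : G, (χ : G → ℂ) (g ^ k) = (χ : G → ℂ) g} =
      σ.supportᶜ.card := by
    rw [← Nat.card_eq_finsetCard]
    refine Nat.card_congr
      { toFun := fun χ => ⟨⟨χ.1, χ.2.1, χ.2.2.1⟩, by
          rw [Finset.mem_compl, Equiv.Perm.notMem_support]
          exact Subtype.ext (Subtype.ext (funext χ.2.2.2))⟩
        invFun := fun χ => ⟨χ.1.1, χ.1.2.1, χ.1.2.2, fun g => by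
          have h := χ.2
          rw [Finset.mem_compl, Equiv.Perm.notMem_support] at h
          exact congrFun (congrArg (fun z : S => (z.1 : G → ℂ)) h) g⟩
        left_inv := fun χ => rfl
        right_inv := fun χ => rfl }
  -- parity of the number of principal characters of odd degree
  obtain ⟨t, ht⟩ := exists_prime_orderOf_dvd_card' (G := G) 2 (even_iff_two_dvd.mp hev)
  have ht' : ¬ Cfsg.IsPRegular 2 t := fun h => h (by rw [ht])
  set B : Finset (Cfsg.IrrCharacter G) := Finset.univ.filter (· ∈ Cfsg.principalBlock M G)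
  have hU : Blocks.IsBlockUnion M (B : Set (Cfsg.IrrCharacter G)) := by
    have := Blocks.IsPBlock.isBlockUnion (Blocks.isPBlock_principalBlock (M := M) (G := G))
    simpa [B] using this
  have h0 := Blocks.sum_block_mul_conj_eq_zero hM hU (x := (1 : G))
    (by simp [Cfsg.IsPRegular]) ht'
  have hval : ∀ χ : Cfsg.IrrCharacter G, ∃ u : ℤ, (χ : G → ℂ) t = u ∧
      ((u : ZMod 2)) = (Cfsg.charDegree (χ : G → ℂ) : ZMod 2) := by
    intro χ
    obtain ⟨n, ρ, hρ, hχ⟩ := χ.2
    obtain ⟨μ, h1, h2⟩ := Char.character_pow_eq_sum ρ t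
    have e : ∀ i, ∃ z : ℤ, μ i = z ∧ (z = 1 ∨ z = -1) := fun i => by
      have h := h1 i
      rw [ht, sq_eq_one_iff] at h
      rcases h with h | h
      exacts [⟨1, by simp [h]⟩, ⟨-1, by simp [h]⟩]
    choose z hz hz' using e
    refine ⟨∑ i, z i, ?_, ?_⟩
    · rw [← hχ, show t = t ^ 1 from (pow_one t).symm, h2, Int.cast_sum]
      exact Finset.sum_congr rfl fun i _ => by rw [pow_one, hz]
    · have h3 : (χ : G → ℂ) 1 = ((Fintype.card (Fin (Module.finrank ℂ (Fin n → ℂ))) : ℕ) : ℂ) := by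
        rw [← hχ, show (1 : G) = t ^ 0 from (pow_zero t).symm, h2]
        simp
      have h4 : Cfsg.charDegree (χ : G → ℂ) = Fintype.card (Fin (Module.finrank ℂ (Fin n → ℂ))) := by
        rw [(Blocks.irr_degree_eq χ).1] at h3
        exact_mod_cast h3
      rw [h4, Int.cast_sum]
      rw [Finset.sum_congr rfl fun i _ => show ((z i : ℤ) : ZMod 2) = 1 by
        rcases hz' i with e | e <;> simp [e]]
      simp
  choose u hu hu2 using hval
  have h1 : ∑ χ ∈ B, (Cfsg.charDegree (χ : G → ℂ) : ℤ) * u χ = 0 := by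
    have : ((∑ χ ∈ B, (Cfsg.charDegree (χ : G → ℂ) : ℤ) * u χ : ℤ) : ℂ) = 0 := by
      rw [← h0]
      push_cast
      exact Finset.sum_congr rfl fun χ _ => by
        rw [← (Blocks.irr_degree_eq χ).1, hu, map_intCast]
    exact_mod_cast this
  have h2 : ((Fintype.card S : ℕ) : ZMod 2) = 0 := by
    have h3 := congrArg (fun z : ℤ => (z : ZMod 2)) h1
    simp only [Int.cast_sum, Int.cast_mul, Int.cast_natCast, Int.cast_zero, hu2] at h3
    rw [← h3, show Fintype.card S = (B.filter fun χ : Cfsg.IrrCharacter G => Odd (Cfsg.charDegree (χ : G → ℂ))).card by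
      rw [← Nat.card_eq_fintype_card, Finset.filter_filter, ← Nat.card_eq_finsetCard]
      exact Nat.card_congr (Equiv.subtypeEquivRight fun χ => by simp)]
    rw [Finset.card_filter, Nat.cast_sum]
    refine Finset.sum_congr rfl fun χ _ => ?_
    split_ifs with h
    · simp [ZMod.natCast_eq_one_iff_odd.mpr h]
    · simp [ZMod.natCast_eq_zero_iff_even.mpr (Nat.not_odd_iff_even.mp h)]
  rw [hfixcard, even_iff_two_dvd, ← ZMod.natCast_eq_zero_iff _ 2]
  rw [(ZMod.natCast_eq_natCast_iff _ _ 2).mpr hmod]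
  exact h2

end Cfsg.Agent.S4550
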