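import Cfsg.Statements.S4551
import Cfsg.Agent.Lib.Blocks.AlperinDade

set_option autoImplicit false
open Cfsg
open scoped CfsgLib.Char

namespace Cfsg.Agent.S4551

/-- Let N be a normal subgroup of the finite group G of index prime to p, P a Sylow p-subgroup of G with G = N·C_G(P), and M a maximal ideal of the algebraic integers containing p. Then restriction to N is a bijection from the principal p-block of G onto the principal p-block of N: every member of the principal block of G restricts to a member of the principal block of N, and every member of the principal block of N is the restriction of exactly one member of the principal block of G. -/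
theorem result {G : Type*} [Group G] [Finite G] (p : ℕ) [Fact p.Prime] (M : Ideal Cfsg.AlgInt) (hM : Cfsg.IsPModular p M) (N : Subgroup G) [N.Normal] (hidx : ¬ p ∣ N.index) (P : Sylow p G) (hsup : N ⊔ Subgroup.centralizer ((P : Subgroup G) : Set G) = ⊤) : (∀ χ ∈ Cfsg.principalBlock M G, ∃ θ ∈ Cfsg.principalBlock M ↥N, ∀ n : N, (χ : G → ℂ) n = (θ : N → ℂ) n) ∧ ∀ θ ∈ Cfsg.principalBlock M ↥N, ∃! χ : Cfsg.IrrCharacter G, χ ∈ Cfsg.principalBlock M G ∧ ∀ n : N, (χ : G → ℂ) n = (θ : N → ℂ) n := by
  classical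
  haveI : Fintype G := Fintype.ofFinite _
  haveI : Fintype N := Fintype.ofFinite _
  have := CfsgLib.Blocks.isPrime_of_isPModular hM
  have hirr := fun χ hχ => CfsgLib.Blocks.isIrr_restrict_of_principal N hM hidx P hsup (χ := χ) hχ
  refine ⟨fun χ hχ => ⟨⟨_, hirr χ hχ⟩,
    CfsgLib.Blocks.restrict_mem_principal N hM hidx P hsup hχ rfl, fun n => rfl⟩, fun θ hθ => ?_⟩
  have hcon : classInner (fun n : N => (CfsgLib.Blocks.trivIrr G : G → ℂ) n)
      (CfsgLib.Blocks.trivIrr N : N → ℂ) ≠ 0 := by
    rw [show (fun n : N => (CfsgLib.Blocks.trivIrr G : G → ℂ) n) =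
        (CfsgLib.Blocks.trivIrr N : N → ℂ) from rfl,
      CfsgLib.Char.classInner_irr (CfsgLib.Blocks.trivIrr N).2 (CfsgLib.Blocks.trivIrr N).2, if_pos rfl]
    exact one_ne_zero
  obtain ⟨χ, hχ, hc⟩ := CfsgLib.Blocks.exists_constituent_mem_of_covering hM
    (CfsgLib.Blocks.isPBlock_principalBlock (M := M) (G := ↥N))
    (CfsgLib.Blocks.isPBlock_principalBlock (M := M) (G := G))
    (CfsgLib.Blocks.mem_blockOf_self (CfsgLib.Blocks.trivIrr G))
    (CfsgLib.Blocks.mem_blockOf_self (CfsgLib.Blocks.trivIrr N)) hcon hθ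
  have e : (fun n : N => (χ : G → ℂ) n) = (θ : N → ℂ) := by
    by_contra hne
    rw [CfsgLib.Char.classInner_irr (hirr χ hχ) θ.2, if_neg hne] at hc
    exact hc rfl
  refine ⟨χ, ⟨hχ, fun n => congrFun e n⟩, fun χ' h' => ?_⟩
  exact CfsgLib.Blocks.eq_of_restrict_eq N hM hidx P hsup hχ h'.1 fun n =>
    (h'.2 n).trans (congrFun e n).symm

end Cfsg.Agent.S4551
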