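import Cfsg.Statements.S4552
import Cfsg.Agent.Lib.Blocks.FreeQuotient.CountsFree

set_option autoImplicit false
open Cfsg
open scoped CfsgLib.Char

namespace Cfsg.Agent.S4552

/-- An automorphism of odd order of an abelian two-group fixing the involutions is trivial. -/
theorem eq_self_of_fix {A : Type*} [CommGroup A] (hA : IsPGroup 2 A) (w : MulAut A)
    (hw : Odd (orderOf w)) (hfix : ∀ t : A, t * t = 1 → w t = t) (x : A) : w x = x := by
  obtain ⟨j, hj⟩ := hA x
  induction j generalizing x with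
  | zero =>
    rw [pow_zero, pow_one] at hj
    rw [hj, map_one]
  | succ j ih =>
    have h2 : w (x * x) = x * x := ih (x * x) (by
      rw [← pow_two, ← pow_mul, ← pow_succ']; exact hj)
    set z := x⁻¹ * w x with hz
    have hz2 : z * z = 1 := by
      rw [map_mul] at h2
      rw [hz, mul_mul_mul_comm, h2]
      group
    have hwx : w x = x * z := by rw [hz, mul_inv_cancel_left]
    have hk : ∀ k : ℕ, (w ^ k) x = x * z ^ k := fun k => by
      induction k with
      | zero => simp
      | succ k ihk =>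
        rw [pow_succ', MulAut.mul_apply, ihk, map_mul, map_pow, hfix z hz2, hwx, pow_succ', mul_assoc]
    have h := hk (orderOf w)
    rw [pow_orderOf_eq_one, MulAut.one_apply, left_eq_mul] at h
    obtain ⟨k, hk'⟩ := hw
    rw [hk', pow_succ, pow_mul, pow_two, hz2, one_pow, one_mul] at h
    rw [hwx, h, mul_one]

theorem zmod_two_torsion {n : ℕ} {z : ZMod (2 ^ (n + 1))} (hz : z + z = 0) :
    z = 0 ∨ z = ((2 ^ n : ℕ) : ZMod (2 ^ (n + 1))) := by
  replace hz : ((z.val + z.val : ℕ) : ZMod (2 ^ (n + 1))) = 0 := by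
    rw [Nat.cast_add, ZMod.natCast_zmod_val, hz]
  rw [ZMod.natCast_eq_zero_iff] at hz
  have hlt := ZMod.val_lt z
  have hpe : 2 ^ (n + 1) = 2 ^ n * 2 := pow_succ 2 n
  obtain ⟨k, hk⟩ := hz
  have hk2 : k < 2 := by
    by_contra h
    have : 2 ^ (n + 1) * 2 ≤ 2 ^ (n + 1) * k := Nat.mul_le_mul_left _ (by omega)
    omega
  interval_cases k
  · left
    exact (ZMod.val_eq_zero z).mp (by omega)
  · right
    have hv : z.val = 2 ^ n := by omega
    rw [← hv, ZMod.natCast_zmod_val]


/-- Let B be a 2-block of the finite group G (relative to a maximal ideal M of the algebraic integers containing 2) whose defect group D is the direct product of two cyclic groups of the same order 2 ^ m, m ≥ 2. Then either B has 2-regular rank one and exactly 4 ^ m irreducible characters, or B has 2-regular rank three and exactly (4 ^ m + 8) / 3 irreducible characters. -/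
theorem result {G : Type*} [Group G] [Finite G] (M : Ideal Cfsg.AlgInt) (hM : Cfsg.IsPModular 2 M) (B : Set (Cfsg.IrrCharacter G)) (hB : Cfsg.IsPBlock M B) (D : Subgroup G) (hD : Cfsg.IsDefectGroup 2 M B D) (m : ℕ) (hm : 2 ≤ m) (hiso : Nonempty (D ≃* Multiplicative (ZMod (2 ^ m) × ZMod (2 ^ m)))) : (Cfsg.blockRank 2 B = 1 ∧ Nat.card B = 4 ^ m) ∨ (Cfsg.blockRank 2 B = 3 ∧ 3 * Nat.card B = 4 ^ m + 8) := by
  classical
  have := Fintype.ofFinite G
  have := CfsgLib.Blocks.isPrime_of_isPModular hM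
  have : Fact (Nat.Prime 2) := ⟨Nat.prime_two⟩
  obtain ⟨φ⟩ := hiso
  have hab : ∀ x ∈ D, ∀ y ∈ D, x * y = y * x := fun x hx y hy => by
    have h : (⟨x, hx⟩ : D) * ⟨y, hy⟩ = ⟨y, hy⟩ * ⟨x, hx⟩ :=
      φ.injective (by rw [map_mul, map_mul, mul_comm])
    exact congrArg Subtype.val h
  let : CommGroup D :=
    { (inferInstance : Group D) with mul_comm := fun a b => Subtype.ext (hab _ a.2 _ b.2) }
  have hcard : Nat.card D = 4 ^ m := by
    rw [Nat.card_congr φ.toEquiv, Nat.card_congr (Multiplicative.toAdd), Nat.card_prod,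
      Nat.card_zmod, show (4 : ℕ) = 2 * 2 from rfl, mul_pow]
  have hD1 : D ≠ ⊥ := fun h => by
    rw [h, Subgroup.card_bot] at hcard
    have : 4 ^ 1 ≤ 4 ^ m := Nat.pow_le_pow_right (by norm_num) (by omega)
    omega
  obtain ⟨c, hc⟩ := CfsgLib.Blocks.exists_pair_of_defectGroup hM hB hD
  have hmax := CfsgLib.Blocks.isMaximalBrauerPair_of_defectGroup hM hD hc
  obtain ⟨-, hodd⟩ := CfsgLib.Blocks.maximal_of_induced hM hD hab
    (CfsgLib.Blocks.FreeQuot.induced_of_maximal hM hmax hab)
  set E := CfsgLib.Blocks.FreeQuot.inertAut D c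
  have hE : Nat.card E =
      (Subgroup.centralizer (D : Set G)).relIndex (CfsgLib.Blocks.blockT D c) :=
    CfsgLib.Blocks.FreeQuot.card_inertAut
  have hEodd : Odd (Nat.card E) := by
    rw [hE]
    exact Nat.not_even_iff_odd.mp fun h => hodd (even_iff_two_dvd.mp h)
  -- the involutions
  obtain ⟨n, rfl⟩ : ∃ n, m = n + 1 := ⟨m - 1, by omega⟩
  set S : Finset D := ({(0, ((2 ^ n : ℕ) : ZMod (2 ^ (n + 1)))),
    (((2 ^ n : ℕ) : ZMod (2 ^ (n + 1))), 0),
    (((2 ^ n : ℕ) : ZMod (2 ^ (n + 1))), ((2 ^ n : ℕ) : ZMod (2 ^ (n + 1))))} :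
      Finset (ZMod (2 ^ (n + 1)) × ZMod (2 ^ (n + 1)))).image
    fun z => φ.symm (Multiplicative.ofAdd z) with hS
  have hScard : S.card ≤ 3 := Finset.card_image_le.trans Finset.card_le_three
  have hinv : ∀ t : D, t * t = 1 → t ≠ 1 → t ∈ S := by
    intro t ht ht1
    set z := Multiplicative.toAdd (φ t) with hz
    have h0 : z + z = 0 := by
      rw [hz, ← toAdd_mul, ← map_mul, ht, map_one, toAdd_one]
    have hz0 : z ≠ 0 := fun h => ht1 (φ.injective ((toAdd_eq_zero.mp h).trans (map_one φ).symm))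
    refine Finset.mem_image.mpr ⟨z, ?_, by rw [hz, ofAdd_toAdd, MulEquiv.symm_apply_apply]⟩
    obtain ⟨a, b⟩ := z
    rw [Prod.mk_add_mk, Prod.mk_eq_zero] at h0
    rcases zmod_two_torsion h0.1 with rfl | rfl <;> rcases zmod_two_torsion h0.2 with rfl | rfl
    · exact absurd rfl hz0
    all_goals simp
  have hDp : IsPGroup 2 D := CfsgLib.Blocks.IsDefectGroup.isPGroup hM hD
  have hord : ∀ w ∈ E, Odd (orderOf w) := fun w hw => by
    rw [← Subgroup.orderOf_mk w hw]
    exact hEodd.of_dvd_nat (orderOf_dvd_natCard _)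
  -- an element of the inertial group fixing an involution fixes all of them
  have hfix : ∀ w ∈ E, ∀ t : D, t * t = 1 → t ≠ 1 → w t = t → w = 1 := by
    intro w hw t ht ht1 hwt
    refine MulEquiv.ext fun x => eq_self_of_fix hDp w (hord w hw) (fun s hs => ?_) x
    rcases eq_or_ne s 1 with rfl | hs1
    · exact map_one w
    rcases eq_or_ne s t with rfl | hst
    · exact hwt
    have hst1 : t * s ≠ 1 := fun h => hst (mul_left_cancel (h.trans ht.symm))
    have hts2 : t * s * (t * s) = 1 := by rw [mul_mul_mul_comm, ht, hs, mul_one]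
    have key : ∀ r : D, r * r = 1 → r ≠ 1 → r ≠ t → r = s ∨ r = t * s := by
      intro r hr hr1 hrt
      by_contra hcon
      push Not at hcon
      have h4 : ({t, s, t * s, r} : Finset D) ⊆ S := by
        intro u hu
        simp only [Finset.mem_insert, Finset.mem_singleton] at hu
        rcases hu with rfl | rfl | rfl | rfl
        exacts [hinv _ ht ht1, hinv _ hs hs1, hinv _ hts2 hst1, hinv _ hr hr1]
      have h5 := (Finset.card_le_card h4).trans hScard
      rw [Finset.card_insert_of_notMem, Finset.card_insert_of_notMem,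
        Finset.card_insert_of_notMem, Finset.card_singleton] at h5
      · omega
      · simpa using Ne.symm hcon.2
      · simp only [Finset.mem_insert, Finset.mem_singleton, not_or]
        exact ⟨fun h => ht1 (right_eq_mul.mp h), Ne.symm hcon.1⟩
      · simp only [Finset.mem_insert, Finset.mem_singleton, not_or]
        exact ⟨Ne.symm hst, fun h => hs1 (left_eq_mul.mp h), Ne.symm hrt⟩
    have hws2 : w s * w s = 1 := by rw [← map_mul, hs, map_one]
    have hws1 : w s ≠ 1 := fun h => hs1 (w.injective (h.trans (map_one w).symm))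
    rcases key (w s) hws2 hws1 fun h => hst (w.injective (h.trans hwt.symm)) with h | h
    · exact h
    exfalso
    have hpar : ∀ k : ℕ, (w ^ k) s = if Even k then s else t * s := by
      intro k
      induction k with
      | zero => simp
      | succ k ihk =>
        rw [pow_succ', MulAut.mul_apply, ihk]
        by_cases hk : Even k
        · rw [if_pos hk, h, if_neg (by simpa [Nat.even_add_one] using hk)]
        · rw [if_neg hk, map_mul, hwt, h, ← mul_assoc, ht, one_mul,
            if_pos (Nat.even_add_one.mpr hk)]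
    have h3 := hpar (orderOf w)
    rw [pow_orderOf_eq_one, MulAut.one_apply, if_neg (Nat.not_even_iff_odd.mpr (hord w hw))] at h3
    exact ht1 (right_eq_mul.mp h3)
  have hsq : ∀ x : D, x ≠ 1 → ∃ k : ℕ, x ^ k * x ^ k = 1 ∧ x ^ k ≠ 1 := by
    intro x hx
    obtain ⟨j, hj⟩ := IsPGroup.iff_orderOf.mp hDp x
    have hj0 : j ≠ 0 := fun h => hx (orderOf_eq_one_iff.mp (by rw [hj, h, pow_zero]))
    refine ⟨2 ^ (j - 1), ?_, fun h => ?_⟩
    · rw [← pow_add, ← two_mul, ← pow_succ', Nat.sub_add_cancel (Nat.pos_of_ne_zero hj0), ← hj,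
        pow_orderOf_eq_one]
    · have := orderOf_dvd_of_pow_eq_one h
      rw [hj, Nat.pow_dvd_pow_iff_le_right (by norm_num)] at this
      omega
  have hfree : ∀ g ∈ CfsgLib.Blocks.blockT D c, ∀ x ∈ D, x ≠ 1 → g * x * g⁻¹ = x →
      g ∈ Subgroup.centralizer (D : Set G) := by
    intro g hg x hx hx1 hfx
    obtain ⟨k, hk2, hk1⟩ := hsq ⟨x, hx⟩ fun h => hx1 (congrArg Subtype.val h)
    have hw : CfsgLib.Blocks.FreeQuot.autT D c ⟨g, hg⟩ ⟨x, hx⟩ = ⟨x, hx⟩ :=
      Subtype.ext ((CfsgLib.Blocks.FreeQuot.autT_apply _ _).trans hfx)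
    have h := hfix _ (CfsgLib.Blocks.FreeQuot.autT_mem hg) _ hk2 hk1 (by rw [map_pow, hw])
    rw [← MonoidHom.mem_ker, CfsgLib.Blocks.FreeQuot.ker_autT] at h
    exact h
  have he3 : Nat.card E ≤ 3 := by
    obtain ⟨x, hx, hx1⟩ := D.bot_or_exists_ne_one.resolve_left hD1
    obtain ⟨k, hk2, hk1⟩ := hsq ⟨x, hx⟩ fun h => hx1 (congrArg Subtype.val h)
    set t := (⟨x, hx⟩ : D) ^ k
    refine (Nat.card_le_card_of_injective (β := S) (fun w : E => ⟨(w : MulAut D) t, hinv _
      (by rw [← map_mul, hk2, map_one])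
      fun h => hk1 ((w : MulAut D).injective (h.trans (map_one _).symm))⟩) fun a b hab' => ?_).trans
      (by rwa [Nat.card_eq_finsetCard])
    have h1 : ((a : MulAut D)) t = (b : MulAut D) t := congrArg Subtype.val hab'
    have h2 := hfix _ (mul_mem (inv_mem b.2) a.2) t hk2 hk1 (by
      rw [MulAut.mul_apply, h1, ← MulAut.mul_apply, inv_mul_cancel, MulAut.one_apply])
    exact Subtype.ext (inv_mul_eq_one.mp h2).symm
  obtain ⟨-, -, -, heq⟩ := CfsgLib.Blocks.FreeQuot.counts_free hM hmax hab hfree hD1 hodd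
  obtain ⟨hk, hl⟩ := heq (hE ▸ he3)
  rw [← hE, hcard] at hk
  rw [← hE] at hl
  have h4 : 4 ^ (n + 1) % 3 = 1 := by rw [Nat.pow_mod]; simp
  obtain ⟨a, ha⟩ := hEodd
  rcases (show a = 0 ∨ a = 1 by omega) with rfl | rfl
  · left
    rw [ha] at hk hl
    exact ⟨by omega, by omega⟩
  · right
    rw [ha] at hk hl
    exact ⟨by omega, by omega⟩

end Cfsg.Agent.S4552
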