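import Cfsg.Statements.S4553
import Cfsg.Agent.Lib.Blocks.Covering
import Cfsg.Agent.Lib.Blocks.CoveringConstituents
import Cfsg.Agent.Lib.Blocks.KernelBlock
import Cfsg.Agent.Lib.Char.CanonicalExtension
import Cfsg.Agent.Lib.Char.PowerExtension
import Cfsg.Agent.Lib.Char.PResidual
import Cfsg.Agent.Lib.Transfer.Basic

set_option autoImplicit false
set_option linter.style.haveILetI false
open Cfsg
open CfsgLib
open scoped CfsgLib.Char ComplexConjugate

namespace Cfsg.Agent.S4553

/-- Let G be a finite group, p a prime, P a Sylow p-subgroup, N the p-residual of G (the subgroup generated by the elements of order prime to p, the smallest normal subgroup with G/N a p-group), and M a maximal ideal of the algebraic integers containing p; suppose G/N is cyclic and nontrivial. Let k be a natural number with g ^ k = g ^ (1 + p) for every p-element g and g ^ k = g for every element g of order prime to p (so that χ (g ^ k) is the image of χ g under the field automorphism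 that raises p-power roots of unity to the power 1 + p and fixes the roots of unity of order prime to p). Then the number of members χ of the principal block of G of degree prime to p with χ (g ^ k) = χ g for all g equals p times the number of members θ of the principal block of N of degree prime to p that are invariant under conjugation by P and satisfy θ (n ^ k) = θ n for all n. -/
theorem result {G : Type*} [Group G] [Finite G] (p : ℕ) [Fact p.Prime] (M : Ideal Cfsg.AlgInt) (hM : Cfsg.IsPModular p M) (P : Sylow p G) (N : Subgroup G) [hN : N.Normal] (hNres : N = Cfsg.pResidual p G) (hcyc : IsCyclic (G ⧸ N)) (hnt : N ≠ ⊤) (k : ℕ) (hk₁ : ∀ g : G, (∃ j : ℕ, orderOf g = p ^ j) → g ^ k = g ^ (1 + p)) (hk₂ : ∀ g : G, Nat.Coprime (orderOf g) p → g ^ k = g) : Nat.card {χ : Cfsg.IrrCharacter G // χ ∈ Cfsg.principalBlock M G ∧ ¬ p ∣ Cfsg.charDegree (χ : G → ℂ) ∧ ∀ g : G, (χ : G → ℂ) (g ^ k) = (χ : G → ℂ) g} = p * Nat.card {θ : Cfsg.IrrCharacter ↥N // θ ∈ Cfsg.principalBlock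 M ↥N ∧ ¬ p ∣ Cfsg.charDegree (θ : ↥N → ℂ) ∧ (∀ x ∈ (P : Subgroup G), ∀ n : ↥N, (θ : ↥N → ℂ) ⟨x * n * x⁻¹, hN.conj_mem n n.2 x⟩ = (θ : ↥N → ℂ) n) ∧ ∀ n : ↥N, (θ : ↥N → ℂ) (n ^ k) = (θ : ↥N → ℂ) n} := by
  classical
  have : Fintype G := Fintype.ofFinite G
  subst hNres
  set N := Cfsg.pResidual p G
  have : M.IsPrime := Blocks.isPrime_of_isPModular hM
  have hp : p.Prime := Fact.out
  have hQ : IsPGroup p (G ⧸ N) := Transfer.isPGroup_quotient_pResidual
  obtain ⟨m, hm⟩ := Char.PResidual.index_eq_pow (G := G) (p := p)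
  have hpN : p ∣ N.index := by
    rw [hm]
    refine dvd_pow_self p fun h => hnt (Subgroup.index_eq_one.mp ?_)
    rw [hm, h, pow_zero]
  -- a `p`-element generating the quotient
  have hsup : (P : Subgroup G) ⊔ N = ⊤ := Transfer.sylow_sup_pResidual P
  have hdec : ∀ g : G, ∃ a ∈ (P : Subgroup G), ∃ n ∈ N, a * n = g := fun g =>
    Subgroup.mem_sup_of_normal_right.mp (hsup ▸ Subgroup.mem_top g)
  obtain ⟨c, hc⟩ := IsCyclic.exists_generator (α := G ⧸ N)
  obtain ⟨g₀, rfl⟩ := QuotientGroup.mk'_surjective N c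
  obtain ⟨x, hxP, n₀, hn₀, hxn⟩ := hdec g₀
  have hxgen : ∀ q : G ⧸ N, q ∈ Subgroup.zpowers (QuotientGroup.mk' N x) := fun q => by
    have e : QuotientGroup.mk' N x = QuotientGroup.mk' N g₀ := by
      rw [← hxn, map_mul]
      simp [(QuotientGroup.eq_one_iff n₀).mpr hn₀]
    rw [e]; exact hc q
  have hxdec : ∀ g : G, ∃ i : ℤ, ∃ n ∈ N, g = x ^ i * n := fun g => by
    obtain ⟨i, hi⟩ := Subgroup.mem_zpowers_iff.mp (hxgen (QuotientGroup.mk' N g))
    refine ⟨i, (x ^ i)⁻¹ * g, (QuotientGroup.eq_one_iff _).mp ?_, (mul_inv_cancel_left _ _).symm⟩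
    show QuotientGroup.mk' N ((x ^ i)⁻¹ * g) = 1
    rw [map_mul, map_inv, map_zpow, hi, inv_mul_cancel]
  have hxp : ∃ j, orderOf x = p ^ j := by
    obtain ⟨j, hj⟩ := IsPGroup.iff_orderOf.mp P.2 ⟨x, hxP⟩
    exact ⟨j, (Subgroup.orderOf_mk x hxP).symm.trans hj⟩
  -- the exponent is prime to the order
  have hk : k.Coprime (Nat.card G) := by
    refine Nat.coprime_of_dvd fun r hr hrk hrG => ?_
    have : Fact r.Prime := ⟨hr⟩
    obtain ⟨g, hg⟩ := exists_prime_orderOf_dvd_card' r hrG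
    have h1 : g ^ k = 1 := orderOf_dvd_iff_pow_eq_one.mp (hg ▸ hrk)
    by_cases hrp : r = p
    · subst hrp
      rw [hk₁ g ⟨1, by rw [hg, pow_one]⟩, pow_add, pow_one] at h1
      have h2 : g ^ r = 1 := by rw [← hg]; exact pow_orderOf_eq_one g
      rw [h2, mul_one] at h1
      rw [h1, orderOf_one] at hg
      exact hr.ne_one hg.symm
    · rw [hk₂ g (hg ▸ (Nat.coprime_primes hr hp).mpr hrp)] at h1
      rw [h1, orderOf_one] at hg
      exact hr.ne_one hg.symm
  have hkN : ∀ n : N, ((n ^ k : N) : G) = (n : G) ^ k := fun n => Subgroup.coe_pow _ _ _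
  have hxk : x ^ k = x ^ (1 + p) := hk₁ x hxp
  -- linear characters of the quotient and the twist
  have hβk : ∀ β : G →* ℂˣ, (∀ n : N, β n = 1) → ∀ g, β g ^ k = β g * β g ^ p := by
    intro β hβ g
    obtain ⟨i, n, hn, rfl⟩ := hxdec g
    rw [map_mul, hβ ⟨n, hn⟩, mul_one, map_zpow, ← zpow_natCast, ← zpow_mul, mul_comm i,
      zpow_mul, zpow_natCast, ← map_pow, hxk, map_pow, pow_add, pow_one, mul_zpow,
      ← zpow_natCast (β x) p, ← zpow_natCast (β x ^ i) p, ← zpow_mul, ← zpow_mul, mul_comm i]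
  let R := {β : G →* ℂˣ // (∀ n : N, β n = 1) ∧ ∀ g, β g ^ p = 1}
  have hR : Nat.card R = p := by
    refine (Nat.card_congr (Equiv.ofBijective (fun β : R => (⟨β.1 x, β.2.2 x⟩ :
      {z : ℂˣ // z ^ p = 1})) ⟨?_, ?_⟩)).trans ?_
    · rintro ⟨β, hβ, hβp⟩ ⟨β', hβ', hβp'⟩ h
      have h' : β x = β' x := congrArg Subtype.val h
      refine Subtype.ext (MonoidHom.ext fun g => ?_)
      obtain ⟨i, n, hn, rfl⟩ := hxdec g
      show β (x ^ i * n) = β' (x ^ i * n)
      rw [map_mul, map_mul, hβ ⟨n, hn⟩, hβ' ⟨n, hn⟩, map_zpow, map_zpow, h']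
    · rintro ⟨z, hz⟩
      have hord : orderOf z ∣ orderOf (QuotientGroup.mk' N x) := by
        rw [orderOf_eq_card_of_forall_mem_zpowers hxgen, ← Subgroup.index_eq_card]
        exact (orderOf_dvd_of_pow_eq_one hz).trans hpN
      let β : G →* ℂˣ :=
        (monoidHomOfForallMemZpowers hxgen hord).comp (QuotientGroup.mk' N)
      have hβN : ∀ n : N, β n = 1 := fun n => by
        show monoidHomOfForallMemZpowers hxgen hord (QuotientGroup.mk' N (n : G)) = 1
        rw [show QuotientGroup.mk' N (n : G) = 1 from (QuotientGroup.eq_one_iff _).mpr n.2,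
          map_one]
      have hβx : β x = z := monoidHomOfForallMemZpowers_apply_gen hxgen hord
      refine ⟨⟨β, hβN, fun g => ?_⟩, Subtype.ext hβx⟩
      obtain ⟨i, n, hn, rfl⟩ := hxdec g
      rw [map_mul, hβN ⟨n, hn⟩, mul_one, map_zpow, hβx, ← zpow_natCast, ← zpow_mul, mul_comm,
        zpow_mul, zpow_natCast, hz, one_zpow]
    · have : NeZero p := ⟨hp.ne_zero⟩
      exact (Nat.card_congr (Equiv.subtypeEquivRight fun z => (mem_rootsOfUnity p z).symm)).trans
        (Complex.card_rootsOfUnity p)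
  -- restriction
  have hdegN : ∀ (χ : G → ℂ), charDegree (fun n : N => χ n) = charDegree χ := fun χ => rfl
  have hres : ∀ χ : IrrCharacter G, ¬ p ∣ charDegree (χ : G → ℂ) →
      IsIrrCharacter N (fun n : N => (χ : G → ℂ) n) ∧
        ∀ g, Char.conjBy N (fun n : N => (χ : G → ℂ) n) g = fun n : N => (χ : G → ℂ) n :=
    fun χ h => Char.PResidual.restrict_irr N hm χ.2 (Blocks.irr_degree_eq χ).1 h
  have hGinv : ∀ θ : IrrCharacter N, (∀ x ∈ (P : Subgroup G), ∀ n : N,
      (θ : N → ℂ) ⟨x * n * x⁻¹, hN.conj_mem n n.2 x⟩ = (θ : N → ℂ) n) →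
      ∀ g, Char.conjBy N (θ : N → ℂ) g = θ := by
    intro θ h g
    funext n
    obtain ⟨a, ha, u, hu, rfl⟩ := hdec g
    refine Eq.trans ?_ (Char.isClassFunction_irr θ n ⟨u, hu⟩)
    refine Eq.trans ?_ (h a ha _)
    exact congrArg (θ : N → ℂ) (Subtype.ext (by
      show a * u * (n : G) * (a * u)⁻¹ = a * (u * (n : G) * u⁻¹) * a⁻¹
      group))
  -- blocks
  have hblock : ∀ (χ : IrrCharacter G) (θ : IrrCharacter N),
      (∀ g, Char.conjBy N (θ : N → ℂ) g = θ) → (∀ n : N, (χ : G → ℂ) n = (θ : N → ℂ) n) →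
      (χ ∈ principalBlock M G ↔ θ ∈ principalBlock M N) := by
    intro χ θ hinv hext
    have hcon : classInner (fun n : N => (χ : G → ℂ) n) (θ : N → ℂ) ≠ 0 := by
      rw [show (fun n : N => (χ : G → ℂ) n) = (θ : N → ℂ) from funext hext,
        Char.classInner_irr_self θ.2]
      exact one_ne_zero
    constructor
    · intro hχ
      have hT : Blocks.trivIrr G ∈ principalBlock M G := Blocks.mem_blockOf_self (Blocks.trivIrr G)
      have hTN : Blocks.trivIrr N ∈ principalBlock M N := Blocks.mem_blockOf_self (Blocks.trivIrr N)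
      have hcT : classInner (fun n : N => (Blocks.trivIrr G : G → ℂ) n)
          (Blocks.trivIrr N : N → ℂ) ≠ 0 := by
        show classInner (fun _ : N => (1 : ℂ)) (fun _ => 1) ≠ 0
        rw [Char.classInner_irr_self Char.isIrrCharacter_one]
        exact one_ne_zero
      have hBG : IsPBlock M (principalBlock M G) := Blocks.isPBlock_principalBlock
      have hBN : IsPBlock M (principalBlock M N) := Blocks.isPBlock_principalBlock
      obtain ⟨g, hg⟩ := Blocks.exists_conjI_mem_of_congr (χ := χ) (ψ := θ) hBN hTN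
        (fun v hv hl hsupp => Blocks.omega_congr_of_covering (χ := Blocks.trivIrr G)
          (θ := Blocks.trivIrr N) (χ' := χ) (θ' := Blocks.trivIrr N) hBG hBN hT hTN hcT hχ hTN
          hv hl hsupp) hcon
      rwa [show Blocks.conjI g θ = θ from Subtype.ext ((Blocks.coe_conjI g θ).trans (hinv g))]
        at hg
    · intro hθ
      obtain ⟨χ₁, hχ₁, hc₁⟩ := Blocks.exists_constituent_mem_of_covering hM
        (Blocks.isPBlock_principalBlock (M := M) (G := N)) (Blocks.isPBlock_blockOf χ)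
        (Blocks.mem_blockOf_self χ) hθ hcon (Blocks.mem_blockOf_self (Blocks.trivIrr N))
      have hker : ∀ u ∈ N, (χ₁ : G → ℂ) u = (χ₁ : G → ℂ) 1 := by
        intro u hu
        have h := Char.clifford N χ₁.2 (Blocks.trivIrr N).2 hc₁
        have h1 := congrFun h ⟨u, hu⟩
        have h2 := congrFun h 1
        simp only [Pi.smul_apply, Finset.sum_apply] at h1 h2
        refine h1.trans (Eq.trans ?_ h2.symm)
        congr 1
        refine Finset.sum_congr rfl fun φ hφ => ?_
        obtain ⟨g, -, rfl⟩ := Finset.mem_image.mp hφ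
        rfl
      obtain ⟨η, hη⟩ := Blocks.exists_inflate_eq_of_ker N χ₁ hker
      have : Fintype (G ⧸ N) := Fintype.ofFinite _
      have h0 := Blocks.sameBlock_inflate (M := M) (QuotientGroup.mk' N)
        (QuotientGroup.mk'_surjective N)
        (Blocks.sameBlock_of_isPGroup hM hQ η (Blocks.trivIrr (G ⧸ N)))
      have h2 : SameBlock M (χ : G → ℂ) (χ₁ : G → ℂ) := hχ₁
      have e : Blocks.inflate (QuotientGroup.mk' N) (QuotientGroup.mk'_surjective N)
          (Blocks.trivIrr (G ⧸ N)) = Blocks.trivIrr G := Subtype.ext rfl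
      rw [e, ← hη] at h0
      have h1 : SameBlock M (χ₁ : G → ℂ) (Blocks.trivIrr G : G → ℂ) := h0
      show SameBlock M (Blocks.trivIrr G : G → ℂ) (χ : G → ℂ)
      exact Blocks.SameBlock.symm (Blocks.SameBlock.trans h2 h1)
  -- the restriction map
  let X := {χ : IrrCharacter G // χ ∈ principalBlock M G ∧ ¬ p ∣ charDegree (χ : G → ℂ) ∧
    ∀ g : G, (χ : G → ℂ) (g ^ k) = (χ : G → ℂ) g}
  let Y := {θ : IrrCharacter N // θ ∈ principalBlock M N ∧ ¬ p ∣ charDegree (θ : N → ℂ) ∧
    (∀ x ∈ (P : Subgroup G), ∀ n : N,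
      (θ : N → ℂ) ⟨x * n * x⁻¹, hN.conj_mem n n.2 x⟩ = (θ : N → ℂ) n) ∧
    ∀ n : N, (θ : N → ℂ) (n ^ k) = (θ : N → ℂ) n}
  show Nat.card X = p * Nat.card Y
  let f : X → Y := fun χ => ⟨⟨fun n : N => (χ.1 : G → ℂ) n, (hres χ.1 χ.2.2.1).1⟩,
    (hblock χ.1 ⟨_, (hres χ.1 χ.2.2.1).1⟩ (hres χ.1 χ.2.2.1).2 fun _ => rfl).mp χ.2.1, χ.2.2.1,
    fun a _ n => congrFun ((hres χ.1 χ.2.2.1).2 a) n, fun n => by
      show (χ.1 : G → ℂ) ((n ^ k : N) : G) = (χ.1 : G → ℂ) n
      rw [hkN, χ.2.2.2]⟩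
  have hfib : ∀ θ : Y, Nat.card {χ : X // f χ = θ} = p := by
    rintro ⟨θ, hθB, hθd, hθP, hθk⟩
    have hinv := hGinv θ hθP
    set d := charDegree (θ : N → ℂ) with hddef
    have hd : (θ : N → ℂ) 1 = d := (Blocks.irr_degree_eq θ).1
    obtain ⟨χ₀, hχ₀, hχ₀θ⟩ := Char.PResidual.exists_extension θ.2 hinv hd hθd
    have hχ₀c := Char.isCharacter_of_isIrr hχ₀
    have hd0 : χ₀ 1 = d := (hχ₀θ 1).trans hd
    obtain ⟨μ, hμ⟩ := Char.exists_det_hom hχ₀c
    have htw : IsIrrCharacter G (fun g => χ₀ (g ^ k)) := Char.isIrrCharacter_pow hk hχ₀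
    have htwN : ∀ n : N, χ₀ ((n : G) ^ k) = (θ : N → ℂ) n := fun n => by
      rw [← hkN, hχ₀θ, hθk]
    obtain ⟨β, hβN, hβ⟩ := Char.extensions_differ N θ.2 hχ₀ htw hχ₀θ htwN
    have hdet : ∀ g, μ g ^ k = β g ^ d * μ g := fun g => by
      have h := Char.detChar_pow hχ₀c hk g
      rw [hβ, Char.detChar_linear_mul hχ₀c β d hd0, hμ] at h
      exact Units.ext (by rw [Units.val_mul, Units.val_pow_eq_pow_val, Units.val_pow_eq_pow_val]; exact h.symm)
    set a := (commutator N).index with hadef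
    have hda : (d * a).Coprime N.index := by
      rw [hm]
      exact ((hp.coprime_iff_not_dvd.mpr fun h => (hp.dvd_mul.mp h).elim hθd
        (Char.PResidual.not_dvd_commutator_index p Char.PResidual.pResidual_generated)).pow_left m).symm
    let ν : G →* ℂˣ := (powMonoidHom a).comp μ
    have hνN : ∀ n : N, ν n = 1 := fun n => by
      refine Units.ext ?_
      show (((μ (n : G)) ^ a : ℂˣ) : ℂ) = 1
      rw [Units.val_pow_eq_pow_val, ← congrFun hμ, ← Char.detChar_restrict N hχ₀c,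
        show (fun m : N => χ₀ m) = (θ : N → ℂ) from funext hχ₀θ]
      exact Char.PResidual.detChar_pow_eq_one (Char.isCharacter_of_isIrr θ.2) n
    have hq : ∀ (γ : G →* ℂˣ), (∀ n : N, γ n = 1) → ∀ g, γ g ^ N.index = 1 := fun γ hγ g => by
      rw [← map_pow]
      exact hγ ⟨_, N.pow_index_mem g⟩
    obtain ⟨j, -, hj⟩ := Nat.exists_mul_mod_eq_one_of_coprime hda (by
      rw [hm]
      refine Nat.one_lt_pow ?_ hp.one_lt
      intro h0
      rw [hm, h0, pow_zero] at hpN
      exact hp.not_dvd_one hpN)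
    let γ : G →* ℂˣ := (powMonoidHom j).comp ν
    have hγN : ∀ n : N, γ n = 1 := fun n => by
      show ν (n : G) ^ j = 1
      rw [hνN, one_pow]
    have hβγ : ∀ g, β g * γ g = γ g ^ k := fun g => by
      have h1 : (β g ^ d) ^ a * μ g ^ a = (μ g ^ a) ^ k := by
        rw [← mul_pow, ← hdet, ← pow_mul, ← pow_mul, mul_comm k]
      have h2 : β g ^ (d * a * j) = β g := by
        conv_rhs => rw [← pow_one (β g), ← hj]
        rw [← pow_mod_orderOf (β g) (d * a * j), ← pow_mod_orderOf (β g) (d * a * j % N.index),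
          Nat.mod_mod_of_dvd _ (orderOf_dvd_of_pow_eq_one (hq β hβN g))]
      show β g * (μ g ^ a) ^ j = ((μ g ^ a) ^ j) ^ k
      conv_lhs => rw [← h2]
      rw [pow_mul, pow_mul, ← mul_pow, h1, ← pow_mul, ← pow_mul _ j k, mul_comm j]
    let γi : G →* ℂˣ := γ⁻¹
    set χf : G → ℂ := fun g => (γi g : ℂ) * χ₀ g with hχf
    have hχfN : ∀ n : N, χf n = (θ : N → ℂ) n := fun n => by
      show (γi (n : G) : ℂ) * χ₀ n = _
      rw [show γi (n : G) = 1 by show (γ (n : G))⁻¹ = 1; rw [hγN, inv_one], Units.val_one, one_mul,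
        hχ₀θ]
    have hirr : IsIrrCharacter G χf := Char.isIrr_of_restrict N
      (Char.isCharacter_mul (Char.isCharacter_monoidHom γi) hχ₀c)
      (by rw [show (fun n : N => χf n) = (θ : N → ℂ) from funext hχfN]; exact θ.2)
    have hχfk : ∀ g, χf (g ^ k) = χf g := fun g => by
      have e := congrFun hβ g
      show (γi (g ^ k) : ℂ) * χ₀ (g ^ k) = (γi g : ℂ) * χ₀ g
      rw [e, ← mul_assoc, ← Units.val_mul]
      congr 2
      show (γ (g ^ k))⁻¹ * β g = (γ g)⁻¹
      rw [map_pow, ← hβγ, mul_inv_rev, mul_assoc, inv_mul_cancel, mul_one]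
    have hχfc := Char.isCharacter_of_isIrr hirr
    have hR' : ∀ b : R, IsIrrCharacter G (fun g => (b.1 g : ℂ) * χf g) := fun b =>
      Char.isIrr_of_restrict N (Char.isCharacter_mul (Char.isCharacter_monoidHom b.1) hχfc)
        (by
          rw [show (fun n : N => (b.1 n : ℂ) * χf n) = (θ : N → ℂ) from funext fun n => by
            rw [b.2.1, Units.val_one, one_mul, hχfN]]
          exact θ.2)
    have hbN : ∀ (b : R) (n : N), (b.1 n : ℂ) * χf n = (θ : N → ℂ) n := fun b n => by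
      rw [b.2.1, Units.val_one, one_mul, hχfN]
    have hbk : ∀ (b : R) g, (b.1 (g ^ k) : ℂ) * χf (g ^ k) = (b.1 g : ℂ) * χf g := fun b g => by
      rw [hχfk, map_pow, hβk b.1 b.2.1, b.2.2, mul_one]
    have hbd : ∀ b : R, charDegree (fun g => (b.1 g : ℂ) * χf g) = d := fun b => by
      rw [charDegree, map_one, Units.val_one, one_mul, ← OneMemClass.coe_one N, hχfN]
      rfl
    refine ((Nat.card_congr (Equiv.ofBijective (fun b : R =>
      (⟨⟨⟨_, hR' b⟩, (hblock ⟨_, hR' b⟩ θ hinv (hbN b)).mpr hθB, (hbd b).symm ▸ hθd, hbk b⟩,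
        Subtype.ext (Subtype.ext (funext (hbN b)))⟩ : {χ : X // f χ = ⟨θ, hθB, hθd, hθP, hθk⟩}))
      ⟨?_, ?_⟩)).symm).trans hR
    · rintro ⟨b, hb, hbp⟩ ⟨b', hb', hbp'⟩ h
      have h1 : (fun g => (b g : ℂ) * χf g) = fun g => (b' g : ℂ) * χf g :=
        congrArg (fun χ => ((χ : {χ : X // _}).1.1 : G → ℂ)) h
      have hd1 : χf 1 = d := by rw [← OneMemClass.coe_one N, hχfN]; exact hd
      obtain ⟨μ', hμ'⟩ := Char.exists_det_hom hχfc
      refine Subtype.ext (MonoidHom.ext fun g => ?_)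
      have h2 : b g ^ d = b' g ^ d := by
        have := congrArg (fun φ => detChar φ g) h1
        simp only [Char.detChar_linear_mul hχfc _ d hd1, hμ', ← Units.val_pow_eq_pow_val,
          ← Units.val_mul] at this
        exact mul_right_cancel (Units.ext this)
      have h3 : (b g / b' g) ^ Nat.gcd d p = 1 := pow_gcd_eq_one.mpr
        ⟨by rw [div_pow, h2, div_self'], by rw [div_pow, hbp, hbp', div_self']⟩
      rw [show Nat.gcd d p = 1 from ((hp.coprime_iff_not_dvd).mpr hθd).symm, pow_one, div_eq_one]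
        at h3
      exact h3
    · rintro ⟨⟨χ, hχB, hχd, hχk⟩, hfχ⟩
      have hχN : ∀ n : N, (χ : G → ℂ) n = (θ : N → ℂ) n := fun n =>
        congrFun (congrArg (fun t : Y => (t.1 : N → ℂ)) hfχ) n
      obtain ⟨b, hbN', hb⟩ := Char.extensions_differ N θ.2 hirr χ.2 hχfN hχN
      have hd1 : χf 1 = d := by rw [← OneMemClass.coe_one N, hχfN]; exact hd
      obtain ⟨μ', hμ'⟩ := Char.exists_det_hom hχfc
      have hbp : ∀ g, b g ^ p = 1 := by
        intro g
        have e1 : (fun g => (b g : ℂ) * χf g) = fun g => (((powMonoidHom k).comp b) g : ℂ) * χf g := by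
          funext u
          have h := hχk u
          rw [hb] at h
          simp only [hχfk, map_pow] at h
          exact h.symm
        have h2 := congrArg (fun φ => detChar φ g) e1
        simp only [Char.detChar_linear_mul hχfc _ d hd1, hμ', ← Units.val_pow_eq_pow_val,
          ← Units.val_mul] at h2
        have h3 : b g ^ d = (b g ^ k) ^ d := mul_right_cancel (Units.ext h2)
        rw [hβk b hbN', mul_pow] at h3
        have h4 : (b g ^ p) ^ d = 1 := mul_eq_left.mp h3.symm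
        have h5 : (b g ^ p) ^ N.index = 1 := by rw [← pow_mul, mul_comm, pow_mul, hq b hbN', one_pow]
        rw [← pow_one (b g ^ p), ← (Nat.Coprime.coprime_dvd_left (Dvd.intro a rfl) hda).gcd_eq_one]
        exact pow_gcd_eq_one.mpr ⟨h4, h5⟩
      exact ⟨⟨b, hbN', hbp⟩, Subtype.ext (Subtype.ext (Subtype.ext hb.symm))⟩
  rw [Nat.card_congr (Equiv.sigmaFiberEquiv f).symm, Nat.card_sigma, Finset.sum_congr rfl fun θ _ => hfib θ,
    Finset.sum_const, Finset.card_univ, smul_eq_mul, mul_comm, Nat.card_eq_fintype_card]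

end Cfsg.Agent.S4553
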