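import Cfsg.Statements.S4558
import Cfsg.Agent.Lib.Char.Convolution
import Cfsg.Agent.Lib.Char.MeanValue
import Cfsg.Agent.Lib.Char.Virtual
import Mathlib.RingTheory.Polynomial.Cyclotomic.Eval
import Mathlib.RingTheory.Polynomial.Cyclotomic.Roots

set_option autoImplicit false
open Cfsg

namespace Cfsg.Agent.S4558

open CfsgLib.Char
open scoped CfsgLib.Char

/-- Let χ be a character of the finite group G and g an element of p-power order for the prime p. If χ g = 0, then p divides the degree of χ. -/
theorem result {G : Type*} [Group G] [Finite G] (p : ℕ) [Fact p.Prime] (χ : G → ℂ) (hχ : Cfsg.IsCharacter G χ) (g : G) (hg : ∃ j : ℕ, orderOf g = p ^ j) (h0 : χ g = 0) : p ∣ Cfsg.charDegree χ := by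
  classical
  obtain ⟨j, hj⟩ := hg
  obtain ⟨n, ρ, rfl⟩ := hχ
  have hdeg : Cfsg.charDegree ρ.character = n := by
    simp [Cfsg.charDegree, Representation.char_one]
  rw [hdeg]
  obtain ⟨μ, h1, h2⟩ := character_pow_eq_sum ρ g
  have hp := (Fact.out : p.Prime)
  rcases Nat.eq_zero_or_pos j with rfl | hjp
  · rw [pow_zero] at hj
    have : g = 1 := orderOf_eq_one_iff.mp hj
    rw [this, Representation.char_one, Module.finrank_fin_fun, Nat.cast_eq_zero] at h0
    rw [h0]; exact dvd_zero p
  · haveI : NeZero (orderOf g) := ⟨(orderOf_pos g).ne'⟩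
    have hζ := Complex.isPrimitiveRoot_exp (orderOf g) (orderOf_pos g).ne'
    set ζ := Complex.exp (2 * Real.pi * Complex.I / (orderOf g : ℕ))
    choose e he1 he2 using fun i => hζ.eq_pow_of_pow_eq_one (h1 i)
    let P : Polynomial ℤ := ∑ i, Polynomial.X ^ e i
    have hroot : Polynomial.aeval ζ P = 0 := by
      simp only [P, map_sum, map_pow, Polynomial.aeval_X, he2]
      have := h2 1
      simp only [pow_one] at this
      rw [← this, h0]
    have hdvd : Polynomial.cyclotomic (orderOf g) ℤ ∣ P := by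
      rw [Polynomial.cyclotomic_eq_minpoly hζ (orderOf_pos g)]
      exact minpoly.isIntegrallyClosed_dvd (hζ.isIntegral (orderOf_pos g)) hroot
    obtain ⟨j', rfl⟩ : ∃ j', j = j' + 1 := ⟨j - 1, by omega⟩
    have hev := Polynomial.eval_dvd (x := (1 : ℤ)) hdvd
    rw [hj, Polynomial.eval_one_cyclotomic_prime_pow] at hev
    simp [P, Polynomial.eval_finsetSum] at hev
    exact_mod_cast hev

end Cfsg.Agent.S4558
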