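import Cfsg.Statements.S4560
import Cfsg.Agent.Lib.Perm.PermChar
import Cfsg.Agent.Lib.Char.Virtual
import Cfsg.Agent.Lib.Char.Counting
import Mathlib.GroupTheory.GroupAction.MultipleTransitivity
import Mathlib.GroupTheory.Perm.Fin
import Mathlib.Data.Sym.Sym2

set_option autoImplicit false
set_option linter.style.haveILetI false
set_option linter.unusedSectionVars false
open Cfsg
open CfsgLib
open scoped CfsgLib.Char

namespace Cfsg.Agent.S4560

open Equiv

section Moments

variable {G : Type*} [Group G] [Fintype G] {α : Type*} [MulAction G α] [Fintype α]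

/-- The number of tuples moved by `g` as prescribed by a permutation of the indices. -/
noncomputable def cnt {k : ℕ} (w : Fin k → Fin k) (g : G) : ℕ :=
  Nat.card {t : Fin k → α // ∀ i, g • t i = t (w i)}

/-- The patterns invariant under `w`. -/
def patterns {k : ℕ} (w : Fin k → Fin k) : Finset (Fin k → Fin k) :=
  Finset.univ.filter fun c => (∀ i, c i ≤ i) ∧ (∀ i, c (c i) = c i) ∧
    ∀ i j, c i = c j ↔ c (w i) = c (w j)

open Classical in
/-- The first index with the same value. -/
noncomputable def canon {k : ℕ} (t : Fin k → α) (i : Fin k) : Fin k :=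
  (Finset.univ.filter fun j => t j = t i).min' ⟨i, by simp⟩

theorem apply_canon {k : ℕ} (t : Fin k → α) (i : Fin k) : t (canon t i) = t i := by
  classical
  exact (Finset.mem_filter.mp ((Finset.univ.filter fun j => t j = t i).min'_mem ⟨i, by simp⟩)).2

theorem canon_eq_iff {k : ℕ} (t : Fin k → α) (i j : Fin k) : canon t i = canon t j ↔ t i = t j := by
  classical
  constructor
  · intro h
    exact (apply_canon t i).symm.trans ((congrArg t h).trans (apply_canon t j))
  · intro h
    simp only [canon]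
    congr 1
    ext a
    simp [h]

theorem canon_le {k : ℕ} (t : Fin k → α) (i : Fin k) : canon t i ≤ i := by
  classical
  exact Finset.min'_le _ _ (by simp)

theorem canon_canon {k : ℕ} (t : Fin k → α) (i : Fin k) : canon t (canon t i) = canon t i :=
  (canon_eq_iff t _ _).mpr (apply_canon t i)

theorem canon_comp {k : ℕ} (c : Fin k → Fin k) (h1 : ∀ i, c i ≤ i) (h2 : ∀ i, c (c i) = c i)
    (e : Fin k → α) (he : Function.Injective e) : canon (fun i => e (c i)) = c := by
  funext i
  refine le_antisymm ?_ ?_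
  · rw [canon]
    refine Finset.min'_le _ _ ?_
    simp [h2]
  · have h := apply_canon (fun i => e (c i)) i
    have h' : c (canon (fun i => e (c i)) i) = c i := he h
    rw [← h']
    exact h1 _

/-- Tuples with the same pattern are in one orbit. -/
theorem exists_smul_tuple {k : ℕ} [MulAction.IsMultiplyPretransitive G α k] (hk : k ≤ Fintype.card α)
    {t t' : Fin k → α} (h : ∀ i j, t i = t j ↔ t' i = t' j) : ∃ g : G, ∀ i, g • t i = t' i := by
  classical
  let J := {i : Fin k // canon t i = i}
  let e := (Fintype.equivFin J).symm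
  have hJk : Fintype.card J ≤ k := (Fintype.card_subtype_le _).trans_eq (Fintype.card_fin k)
  haveI := MulAction.isMultiplyPretransitive_of_le (G := G) (α := α) hJk
    (by rw [Nat.card_eq_fintype_card]; exact hk)
  have hinj : ∀ a b : J, t a.1 = t b.1 → a = b := fun a b hab =>
    Subtype.ext (a.2.symm.trans (((canon_eq_iff t _ _).mpr hab).trans b.2))
  let x : Fin (Fintype.card J) ↪ α := ⟨fun a => t (e a).1, fun a b hab => e.injective (hinj _ _ hab)⟩
  let y : Fin (Fintype.card J) ↪ α :=
    ⟨fun a => t' (e a).1, fun a b hab => e.injective (hinj _ _ ((h _ _).mpr hab))⟩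
  obtain ⟨g, hg⟩ := MulAction.exists_smul_eq G x y
  refine ⟨g, fun i => ?_⟩
  have h1 : g • t (e (e.symm ⟨canon t i, canon_canon t i⟩)).1 =
      t' (e (e.symm ⟨canon t i, canon_canon t i⟩)).1 :=
    congrArg (fun z : Fin (Fintype.card J) ↪ α => z (e.symm ⟨canon t i, canon_canon t i⟩)) hg
  rw [Equiv.apply_symm_apply] at h1
  show g • t i = t' i
  rw [← apply_canon t i, h1]
  exact (h _ _).mp (apply_canon t i)

variable (G α) in
/-- The average of the counts is the number of invariant patterns. -/
theorem sum_cnt {k : ℕ} [MulAction.IsMultiplyPretransitive G α k] (hk : k ≤ Fintype.card α)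
    (w : Fin k → Fin k) :
    ∑ g : G, cnt (α := α) w g = Fintype.card G * (patterns w).card := by
  classical
  have hA : ∀ g : G, cnt (α := α) w g =
      ∑ t : Fin k → α, if ∀ i, g • t i = t (w i) then 1 else 0 := by
    intro g
    rw [cnt, Nat.card_eq_fintype_card, Fintype.card_subtype, Finset.card_filter]
  simp only [hA]
  rw [Finset.sum_comm]
  let N : (Fin k → α) → (Fin k → α) → ℕ := fun t t' => ∑ g : G, if ∀ i, g • t i = t' i then 1 else 0
  have hN : ∀ t, ∑ g : G, (if ∀ i, g • t i = t (w i) then 1 else 0) = N t (fun i => t (w i)) := fun t => rfl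
  simp only [hN]
  -- vanishing for patterns that are not invariant
  have hzero : ∀ t : Fin k → α, canon t ∉ patterns w → N t (fun i => t (w i)) = 0 := by
    intro t ht
    refine Finset.sum_eq_zero fun g _ => if_neg fun hg0 => ht ?_
    have hg : ∀ i, g • t i = t (w i) := hg0
    simp only [patterns, Finset.mem_filter, Finset.mem_univ, true_and]
    refine ⟨canon_le t, canon_canon t, fun i j => ?_⟩
    rw [canon_eq_iff, canon_eq_iff, ← hg i, ← hg j]
    exact (MulAction.injective g).eq_iff.symm
  rw [← Finset.sum_fiberwise Finset.univ (fun t : Fin k → α => canon t),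
    ← Finset.sum_subset (Finset.subset_univ (patterns w)) (fun c _ hc =>
      Finset.sum_eq_zero fun t ht => hzero t (by rw [(Finset.mem_filter.mp ht).2]; exact hc)),
    Finset.sum_congr rfl (g := fun _ => Fintype.card G) fun c hc => ?_, Finset.sum_const,
    smul_eq_mul, mul_comm]
  simp only [patterns, Finset.mem_filter, Finset.mem_univ, true_and] at hc
  obtain ⟨hc1, hc2, hc3⟩ := hc
  obtain ⟨e⟩ : Nonempty (Fin k ↪ α) := Function.Embedding.nonempty_of_card_le (by simpa using hk)
  let t₀ : Fin k → α := fun i => e (c i)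
  have ht₀ : canon t₀ = c := canon_comp c hc1 hc2 e e.injective
  have hker : ∀ t : Fin k → α, canon t = c → ∀ i j, t i = t j ↔ c i = c j := by
    intro t ht i j
    rw [← canon_eq_iff t i j, ht]
  -- all the counts over one pattern agree
  have hconst : ∀ t t' : Fin k → α, canon t = c → (∀ i j, t' i = t' j ↔ c i = c j) →
      N t t' = N t₀ t₀ := by
    intro t t' ht ht'
    obtain ⟨a, ha⟩ := exists_smul_tuple (G := G) (k := k) hk (t := t₀) (t' := t)
      fun i j => ((hker t₀ ht₀ i j).trans (hker t ht i j).symm)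
    obtain ⟨b, hb⟩ := exists_smul_tuple (G := G) (k := k) hk (t := t₀) (t' := t')
      fun i j => ((hker t₀ ht₀ i j).trans (ht' i j).symm)
    refine Fintype.sum_equiv ((Equiv.mulRight a).trans (Equiv.mulLeft b⁻¹)) _ _ fun g => ?_
    refine if_congr (forall_congr' fun i => ?_) rfl rfl
    show g • t i = t' i ↔ (b⁻¹ * (g * a)) • t₀ i = t₀ i
    rw [mul_smul, mul_smul, ha, inv_smul_eq_iff, hb]
  have hN0 : ∀ t ∈ Finset.univ.filter (fun t : Fin k → α => canon t = c),
      N t (fun i => t (w i)) = N t₀ t := by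
    intro t ht
    have ht' := (Finset.mem_filter.mp ht).2
    rw [hconst t _ ht' fun i j => (hker t ht' _ _).trans (hc3 i j).symm]
    exact (hconst t₀ t ht₀ (hker t ht')).symm
  rw [Finset.sum_congr rfl hN0, Finset.sum_comm]
  rw [Finset.sum_congr rfl (g := fun _ => 1) fun g _ => ?_, Finset.sum_const, smul_eq_mul, mul_one,
    Finset.card_univ]
  have hmem : (fun i => g • t₀ i) ∈ Finset.univ.filter (fun t : Fin k → α => canon t = c) := by
    refine Finset.mem_filter.mpr ⟨Finset.mem_univ _, ?_⟩
    refine Eq.trans ?_ (canon_comp c hc1 hc2 (fun i => g • e i)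
      ((MulAction.injective g).comp e.injective))
    rfl
  rw [Finset.sum_eq_single_of_mem _ hmem (fun t _ hne => if_neg fun h => hne (funext fun i => (h i).symm)),
    if_pos fun i => rfl]

/-- Gluing two index permutations. -/
def glue {k l : ℕ} (v : Fin k → Fin k) (w : Fin l → Fin l) : Fin (k + l) → Fin (k + l) :=
  Fin.append (fun i => Fin.castAdd l (v i)) (fun j => Fin.natAdd k (w j))

theorem cnt_glue {k l : ℕ} (v : Fin k → Fin k) (w : Fin l → Fin l) (g : G) :
    cnt (α := α) (glue v w) g = cnt (α := α) v g * cnt (α := α) w g := by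
  classical
  rw [cnt, cnt, cnt, ← Nat.card_prod]
  refine Nat.card_congr
    { toFun := fun t => (⟨fun i => t.1 (Fin.castAdd l i), fun i => ?_⟩,
        ⟨fun j => t.1 (Fin.natAdd k j), fun j => ?_⟩)
      invFun := fun s => ⟨Fin.append s.1.1 s.2.1, fun i => ?_⟩
      left_inv := fun t => Subtype.ext ?_
      right_inv := fun s => ?_ }
  · simpa [glue] using t.2 (Fin.castAdd l i)
  · simpa [glue] using t.2 (Fin.natAdd k j)
  · refine Fin.addCases (fun i => ?_) (fun j => ?_) i
    · simpa [glue] using s.1.2 i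
    · simpa [glue] using s.2.2 j
  · funext i
    exact Fin.addCases (fun i => by simp) (fun j => by simp) i
  · exact Prod.ext (Subtype.ext (funext fun i => by simp)) (Subtype.ext (funext fun i => by simp))

/-- One fixed index. -/
def one1 : Fin 1 → Fin 1 := id

/-- Two swapped indices. -/
def two2 : Fin 2 → Fin 2 := ![1, 0]

variable (α) in
/-- Fixed points. -/
noncomputable def fx (g : G) : ℕ := Nat.card {a : α // g • a = a}

theorem cnt_one (g : G) : cnt (α := α) one1 g = fx α g :=
  Nat.card_congr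
    { toFun := fun t => ⟨t.1 0, t.2 0⟩
      invFun := fun a => ⟨fun _ => a.1, fun _ => a.2⟩
      left_inv := fun t => Subtype.ext (funext fun i => congrArg t.1 (Subsingleton.elim _ _))
      right_inv := fun a => rfl }

theorem cnt_two (g : G) : cnt (α := α) two2 g = fx α (g * g) :=
  Nat.card_congr
    { toFun := fun t => ⟨t.1 0, by
        rw [mul_smul, t.2 0]
        exact t.2 1⟩
      invFun := fun a => ⟨![a.1, g • a.1], fun i => by
        fin_cases i
        · rfl
        · show g • g • a.1 = a.1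
          rw [← mul_smul]; exact a.2⟩
      left_inv := fun t => Subtype.ext (funext fun i => by
        fin_cases i
        · rfl
        · exact t.2 0)
      right_inv := fun a => rfl }

/-- Fixed unordered pairs. -/
theorem two_mul_fixed_sym2 (g : G) :
    2 * Nat.card {z : Sym2 α // z.map (g • ·) = z} = fx α g * fx α g + fx α (g * g) := by
  classical
  have e1 : fx α g * fx α g = (Finset.univ.filter fun q : α × α => g • q.1 = q.1 ∧ g • q.2 = q.2).card := by
    rw [fx, ← Nat.card_prod, ← Fintype.card_subtype, ← Nat.card_eq_fintype_card]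
    exact Nat.card_congr (Equiv.subtypeProdEquivProd
      (p := fun a : α => g • a = a) (q := fun a : α => g • a = a)).symm
  have e2 : fx α (g * g) = (Finset.univ.filter fun q : α × α => g • q.1 = q.2 ∧ g • q.2 = q.1).card := by
    rw [fx, ← Fintype.card_subtype, ← Nat.card_eq_fintype_card]
    exact Nat.card_congr
      { toFun := fun a => ⟨(a.1, g • a.1), rfl, by rw [← mul_smul]; exact a.2⟩
        invFun := fun q => ⟨q.1.1, by rw [mul_smul, q.2.1, q.2.2]⟩
        left_inv := fun a => rfl
        right_inv := fun q => Subtype.ext (Prod.ext rfl q.2.1) }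
  rw [e1, e2, Nat.card_eq_fintype_card, Fintype.card_subtype,
    Finset.card_eq_sum_card_fiberwise (f := fun q : α × α => s(q.1, q.2))
      (t := Finset.univ.filter fun z : Sym2 α => z.map (g • ·) = z)
      (s := Finset.univ.filter fun q : α × α => g • q.1 = q.1 ∧ g • q.2 = q.2)
      (fun q hq => by
        simp only [Finset.coe_filter, Finset.mem_univ, true_and, Set.mem_setOf_eq] at hq ⊢
        simp [Sym2.map_mk, hq.1, hq.2]),
    Finset.card_eq_sum_card_fiberwise (f := fun q : α × α => s(q.1, q.2))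
      (t := Finset.univ.filter fun z : Sym2 α => z.map (g • ·) = z)
      (s := Finset.univ.filter fun q : α × α => g • q.1 = q.2 ∧ g • q.2 = q.1)
      (fun q hq => by
        simp only [Finset.coe_filter, Finset.mem_univ, true_and, Set.mem_setOf_eq] at hq ⊢
        simp [Sym2.map_mk, hq.1, hq.2, Sym2.eq_swap]),
    ← Finset.sum_add_distrib, Finset.sum_congr rfl (g := fun _ => 2) fun z hz => ?_,
    Finset.sum_const, smul_eq_mul, mul_comm]
  induction z using Sym2.ind with
  | _ a b =>
  simp only [Finset.mem_filter, Finset.mem_univ, true_and, Sym2.map_mk, Sym2.eq_iff] at hz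
  by_cases hab : a = b
  · subst hab
    have ha : g • a = a := by tauto
    rw [Finset.card_eq_one.mpr ⟨(a, a), ?_⟩, Finset.card_eq_one.mpr ⟨(a, a), ?_⟩] <;>
    · ext ⟨x, y⟩
      simp only [Finset.mem_filter, Finset.mem_univ, true_and, Finset.mem_singleton, Sym2.eq_iff,
        Prod.ext_iff]
      constructor
      · tauto
      · rintro ⟨rfl, rfl⟩; tauto
  · rcases hz with ⟨h1, h2⟩ | ⟨h1, h2⟩
    · rw [Finset.card_eq_two.mpr ⟨(a, b), (b, a), by simp [hab], ?_⟩, Finset.card_eq_zero.mpr ?_]
      · refine Finset.filter_eq_empty_iff.mpr fun q hq h => ?_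
        simp only [Finset.mem_filter, Finset.mem_univ, true_and] at hq
        rcases Sym2.eq_iff.mp h with ⟨e, e'⟩ | ⟨e, e'⟩ <;> rw [e, e'] at hq
        · exact hab (h1.symm.trans hq.1)
        · exact hab (h1.symm.trans hq.2)
      · ext ⟨x, y⟩
        simp only [Finset.mem_filter, Finset.mem_univ, true_and, Finset.mem_insert,
          Finset.mem_singleton, Sym2.eq_iff, Prod.ext_iff]
        constructor
        · tauto
        · rintro (⟨rfl, rfl⟩ | ⟨rfl, rfl⟩) <;> tauto
    · rw [Finset.card_eq_zero.mpr ?_, Finset.card_eq_two.mpr ⟨(a, b), (b, a), by simp [hab], ?_⟩]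
      · ext ⟨x, y⟩
        simp only [Finset.mem_filter, Finset.mem_univ, true_and, Finset.mem_insert,
          Finset.mem_singleton, Sym2.eq_iff, Prod.ext_iff]
        constructor
        · tauto
        · rintro (⟨rfl, rfl⟩ | ⟨rfl, rfl⟩) <;> tauto
      · refine Finset.filter_eq_empty_iff.mpr fun q hq h => ?_
        simp only [Finset.mem_filter, Finset.mem_univ, true_and] at hq
        rcases Sym2.eq_iff.mp h with ⟨e, e'⟩ | ⟨e, e'⟩ <;> rw [e, e'] at hq
        · exact hab (hq.1.symm.trans h1)
        · exact hab (hq.2.symm.trans h1)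

variable (α)

/-- The characters of degrees `n - 1`, `n (n - 3) / 2` and `(n - 1) (n - 2) / 2`. -/
noncomputable def c1 (g : G) : ℂ := (fx α g : ℂ) - 1

noncomputable def c2 (g : G) : ℂ :=
  ((fx α g : ℂ) * fx α g + fx α (g * g)) / 2 - 2 * fx α g

noncomputable def c3 (g : G) : ℂ :=
  ((fx α g : ℂ) * fx α g - fx α (g * g)) / 2 - fx α g + 1

theorem isGeneralized_c :
    IsGeneralizedCharacter G (c1 (G := G) α) ∧ IsGeneralizedCharacter G (c2 (G := G) α) ∧
      IsGeneralizedCharacter G (c3 (G := G) α) := by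
  classical
  letI : MulAction G (Sym2 α) :=
    { smul := fun g z => z.map (g • ·)
      one_smul := fun z => by
        show Sym2.map (fun a => (1 : G) • a) z = z
        simp
      mul_smul := fun g h z => by
        show Sym2.map (fun a => (g * h) • a) z = Sym2.map (fun a => g • a) (Sym2.map (fun a => h • a) z)
        rw [Sym2.map_map]
        simp only [mul_smul, Function.comp_def] }
  have hπ : IsGeneralizedCharacter G (fun g : G => (fx α g : ℂ)) := by
    refine Char.isGeneralized_of_isCharacter ?_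
    have h := Char.isCharacter_character (Cfsg.permRep ℂ G α)
    rw [Cfsg.Agent.Lib.Perm.permRep_character] at h
    exact h
  have hS : IsGeneralizedCharacter G
      (fun g : G => ((fx α g : ℂ) * fx α g + fx α (g * g)) / 2) := by
    refine Char.isGeneralized_of_isCharacter ?_
    have h := Char.isCharacter_character (Cfsg.permRep ℂ G (Sym2 α))
    rw [Cfsg.Agent.Lib.Perm.permRep_character] at h
    convert h using 1
    funext g
    rw [div_eq_iff two_ne_zero, mul_comm _ (2 : ℂ)]
    have e := congrArg (Nat.cast : ℕ → ℂ) (two_mul_fixed_sym2 (α := α) g)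
    push_cast at e
    rw [← e]
    congr 2
  refine ⟨Char.isGeneralized_sub hπ Char.isGeneralized_one, ?_, ?_⟩
  · convert Char.isGeneralized_sub hS (Char.isGeneralized_add hπ hπ) using 1
    funext g
    simp only [c2, Pi.sub_apply, Pi.add_apply]; ring
  · convert Char.isGeneralized_add (Char.isGeneralized_sub (Char.isGeneralized_sub
      (Char.isGeneralized_mul hπ hπ) hS) hπ) Char.isGeneralized_one using 1
    funext g
    simp only [c3, Pi.sub_apply, Pi.add_apply, Pi.mul_apply]; ring

theorem norms [MulAction.IsMultiplyPretransitive G α 4] (hα : 4 ≤ Fintype.card α) :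
    classInner (c1 (G := G) α) (c1 α) = 1 ∧ classInner (c2 (G := G) α) (c2 α) = 1 ∧
      classInner (c3 (G := G) α) (c3 α) = 1 := by
  classical
  haveI h1t : MulAction.IsMultiplyPretransitive G α 1 := MulAction.isMultiplyPretransitive_of_le
    (n := 4) (by norm_num) (by rw [Nat.card_eq_fintype_card]; exact hα)
  haveI h2t : MulAction.IsMultiplyPretransitive G α 2 := MulAction.isMultiplyPretransitive_of_le
    (n := 4) (by norm_num) (by rw [Nat.card_eq_fintype_card]; exact hα)
  haveI h3t : MulAction.IsMultiplyPretransitive G α 3 := MulAction.isMultiplyPretransitive_of_le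
    (n := 4) (by norm_num) (by rw [Nat.card_eq_fintype_card]; exact hα)
  haveI : MulAction.IsMultiplyPretransitive G α (1 + 1) := h2t
  haveI : MulAction.IsMultiplyPretransitive G α (1 + 1 + 1) := h3t
  haveI : MulAction.IsMultiplyPretransitive G α (1 + 1 + 1 + 1) := ‹MulAction.IsMultiplyPretransitive G α 4›
  haveI : MulAction.IsMultiplyPretransitive G α (2 + 1) := h3t
  haveI : MulAction.IsMultiplyPretransitive G α (2 + 1 + 1) := ‹MulAction.IsMultiplyPretransitive G α 4›
  haveI : MulAction.IsMultiplyPretransitive G α (2 + 2) := ‹MulAction.IsMultiplyPretransitive G α 4›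
  have hm : ∀ {k : ℕ} (w : Fin k → Fin k) [MulAction.IsMultiplyPretransitive G α k] (F : G → ℕ) (v : ℕ),
      k ≤ 4 → (∀ g, cnt (α := α) w g = F g) → (patterns w).card = v →
        ∑ g : G, (F g : ℂ) = (v : ℂ) * (Fintype.card G : ℂ) := by
    intro k w _ F v hk hF hv
    rw [← Nat.cast_sum, ← Finset.sum_congr rfl fun g _ => hF g, sum_cnt G α (hk.trans hα) w, hv,
      mul_comm, Nat.cast_mul]
  have E10 := hm one1 _ 1 (by norm_num) cnt_one (by decide +kernel)
  have E20 := hm (glue one1 one1) (fun g => fx α g * fx α g) 2 (by norm_num)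
    (fun g => by rw [cnt_glue, cnt_one]) (by decide +kernel)
  have E30 := hm (glue (glue one1 one1) one1) (fun g => fx α g * fx α g * fx α g) 5 (by norm_num)
    (fun g => by rw [cnt_glue, cnt_glue, cnt_one]) (by decide +kernel)
  have E40 := hm (glue (glue (glue one1 one1) one1) one1)
    (fun g => fx α g * fx α g * fx α g * fx α g) 15 (by norm_num)
    (fun g => by rw [cnt_glue, cnt_glue, cnt_glue, cnt_one]) (by decide +kernel)
  have E01 := hm two2 _ 2 (by norm_num) cnt_two (by decide +kernel)
  have E11 := hm (glue two2 one1) (fun g => fx α (g * g) * fx α g) 3 (by norm_num)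
    (fun g => by rw [cnt_glue, cnt_two, cnt_one]) (by decide +kernel)
  have E21 := hm (glue (glue two2 one1) one1) (fun g => fx α (g * g) * fx α g * fx α g) 7 (by norm_num)
    (fun g => by rw [cnt_glue, cnt_glue, cnt_two, cnt_one]) (by decide +kernel)
  have E02 := hm (glue two2 two2) (fun g => fx α (g * g) * fx α (g * g)) 7 (by norm_num)
    (fun g => by rw [cnt_glue, cnt_two]) (by decide +kernel)
  push_cast at E10 E20 E30 E40 E01 E11 E21 E02
  have hG : (Fintype.card G : ℂ) ≠ 0 := Nat.cast_ne_zero.mpr Fintype.card_ne_zero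
  have E00 : ∑ _g : G, (1 : ℂ) = (Fintype.card G : ℂ) := by simp
  refine ⟨?_, ?_, ?_⟩ <;> rw [classInner, Nat.card_eq_fintype_card, inv_mul_eq_one₀ hG]
  · rw [Finset.sum_congr rfl (g := fun g : G => (fx α g : ℂ) * fx α g - 2 * (fx α g : ℂ) + 1)
      fun g _ => by simp only [c1, map_sub, map_one, Complex.conj_natCast]; ring]
    simp only [Finset.sum_add_distrib, Finset.sum_sub_distrib, ← Finset.mul_sum, E00, E10, E20]
    ring
  · rw [Finset.sum_congr rfl (g := fun g : G =>
      (fx α g : ℂ) * fx α g * fx α g * fx α g / 4 + (fx α (g * g) : ℂ) * fx α g * fx α g / 2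
      + (fx α (g * g) : ℂ) * fx α (g * g) / 4 - 2 * ((fx α g : ℂ) * fx α g * fx α g)
      - 2 * ((fx α (g * g) : ℂ) * fx α g) + 4 * ((fx α g : ℂ) * fx α g))
      fun g _ => by simp only [c2, map_sub, map_div₀, map_add, map_mul, map_ofNat, Complex.conj_natCast]; ring]
    simp only [Finset.sum_add_distrib, Finset.sum_sub_distrib, ← Finset.mul_sum, ← Finset.sum_div,
      E20, E30, E40, E11, E21, E02]
    ring
  · rw [Finset.sum_congr rfl (g := fun g : G =>
      (fx α g : ℂ) * fx α g * fx α g * fx α g / 4 - (fx α (g * g) : ℂ) * fx α g * fx α g / 2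
      + (fx α (g * g) : ℂ) * fx α (g * g) / 4 - (fx α g : ℂ) * fx α g * fx α g
      + (fx α (g * g) : ℂ) * fx α g + (fx α g : ℂ) * fx α g + (fx α g : ℂ) * fx α g
      - (fx α (g * g) : ℂ) - 2 * (fx α g : ℂ) + 1)
      fun g _ => by
        simp only [c3, map_sub, map_div₀, map_add, map_mul, map_ofNat, map_one, Complex.conj_natCast]
        ring]
    simp only [Finset.sum_add_distrib, Finset.sum_sub_distrib, ← Finset.mul_sum, ← Finset.sum_div,
      E00, E10, E20, E30, E40, E01, E11, E21, E02]
    ring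

end Moments

/-- A norm-one generalized character of positive degree is irreducible. -/
theorem irr_of_pos {G : Type*} [Group G] [Fintype G] {φ : G → ℂ}
    (hφ : IsGeneralizedCharacter G φ) (h : classInner φ φ = 1) {d : ℝ} (hd : 0 < d) (h1 : φ 1 = (d : ℂ)) :
    IsIrrCharacter G φ := by
  obtain ⟨ε, hε, ψ, hψ⟩ := Char.exists_of_norm_one hφ h
  rcases hε with rfl | rfl
  · rw [hψ, one_smul]; exact ψ.2
  · exfalso
    obtain ⟨k, -, hk⟩ := Char.exists_nat_degree_irr ψ.2
    have h2 := congrFun hψ 1
    rw [h1, Pi.smul_apply, smul_eq_mul, hk, neg_one_mul] at h2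
    have h3 := congrArg Complex.re h2
    simp only [Complex.ofReal_re, Complex.neg_re, Complex.natCast_re] at h3
    have h4 : (0 : ℝ) ≤ k := Nat.cast_nonneg k
    linarith

section Elements

variable {β γ : Type*} [Fintype β] [Fintype γ] [DecidableEq β] [DecidableEq γ]

/-- Fixed points of a permutation. -/
abbrev pf (g : Perm β) : ℕ := (Finset.univ.filter fun a => g a = a).card

theorem fx_perm (g : Perm β) : fx β g = pf g := by
  rw [fx, Nat.card_eq_fintype_card, Fintype.card_subtype]
  rfl

theorem pf_sumCongr (g : Perm β) (h : Perm γ) : pf (Equiv.Perm.sumCongr g h) = pf g + pf h := by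
  classical
  simp only [pf, Finset.card_filter, Fintype.sum_sum_type]
  simp

/-- `c` copies of a permutation. -/
def blockHom (c : ℕ) : Perm β →* Perm (Fin c × β) where
  toFun g := Equiv.prodCongrRight fun _ => g
  map_one' := Equiv.ext fun _ => rfl
  map_mul' _ _ := Equiv.ext fun _ => rfl

theorem pf_block (c : ℕ) (g : Perm β) : pf (blockHom c g) = c * pf g := by
  classical
  simp only [pf, Finset.card_filter, Fintype.sum_prod_type]
  simp [blockHom]

theorem sign_block (c : ℕ) (g : Perm β) : Perm.sign (blockHom c g) = Perm.sign g ^ c := by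
  classical
  show Perm.sign (Equiv.prodCongrRight fun _ : Fin c => g) = _
  rw [Perm.sign_prodCongrRight, Finset.prod_const, Finset.card_univ, Fintype.card_fin]

/-- A permutation with given cycle data: `(sign, f, f of the square)` and exponent `N`. -/
structure Data (β : Type*) [Fintype β] [DecidableEq β] (N : ℕ) (s : ℤˣ) (a b : ℕ) : Prop where
  ex : ∃ g : Perm β, g ^ N = 1 ∧ Perm.sign g = s ∧ pf g = a ∧ pf (g * g) = b

theorem Data.rot {m N : ℕ} (s : ℤˣ) (a b : ℕ)
    (h : finRotate m ^ N = 1 ∧ Perm.sign (finRotate m) = s ∧ pf (finRotate m) = a ∧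
      pf (finRotate m * finRotate m) = b) : Data (Fin m) N s a b := ⟨⟨_, h⟩⟩

theorem Data.sum {N : ℕ} {s s' : ℤˣ} {a a' b b' : ℕ} (h : Data β N s a b) (h' : Data γ N s' a' b') :
    Data (β ⊕ γ) N (s * s') (a + a') (b + b') := by
  obtain ⟨g, h1, h2, h3, h4⟩ := h.ex
  obtain ⟨g', h1', h2', h3', h4'⟩ := h'.ex
  refine ⟨⟨Perm.sumCongr g g', ?_, by rw [Perm.sign_sumCongr, h2, h2'], by rw [pf_sumCongr, h3, h3'],
    by rw [Perm.sumCongr_mul, pf_sumCongr, h4, h4']⟩⟩
  have e : Perm.sumCongr g g' ^ N = Perm.sumCongrHom β γ ((g, g') ^ N) :=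
    (map_pow (Perm.sumCongrHom β γ) (g, g') N).symm
  rw [e, Prod.pow_mk, h1, h1']
  exact map_one _

theorem Data.block {N : ℕ} {s : ℤˣ} {a b : ℕ} (h : Data β N s a b) (c : ℕ) :
    Data (Fin c × β) N (s ^ c) (c * a) (c * b) := by
  obtain ⟨g, h1, h2, h3, h4⟩ := h.ex
  exact ⟨⟨blockHom c g, by rw [← map_pow, h1, map_one], by rw [sign_block, h2],
    by rw [pf_block, h3], by rw [← map_mul, pf_block, h4]⟩⟩

theorem Data.transfer {N n : ℕ} {a b : ℕ} (h : Data β N 1 a b) (hn : Fintype.card β = n) :
    ∃ x : alternatingGroup (Fin n), x ^ N = 1 ∧ fx (Fin n) x = a ∧ fx (Fin n) (x * x) = b := by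
  classical
  obtain ⟨g, h1, h2, h3, h4⟩ := h.ex
  let e : β ≃ Fin n := Fintype.equivFinOfCardEq hn
  have hpf : ∀ g : Perm β, fx (Fin n) (e.permCongrHom g) = pf g := by
    intro g
    rw [← fx_perm, fx, fx]
    refine Nat.card_congr (Equiv.subtypeEquiv e.symm fun a => ?_)
    show e (g (e.symm a)) = a ↔ g (e.symm a) = e.symm a
    rw [← Equiv.eq_symm_apply]
  have hs : Perm.sign (e.permCongrHom g) = 1 := by
    rw [← h2]
    exact Perm.sign_permCongr e g
  refine ⟨⟨e.permCongrHom g, hs⟩, Subtype.ext ?_, (hpf g).trans h3, ?_⟩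
  · show (e.permCongrHom g) ^ N = 1
    rw [← map_pow, h1, map_one]
  · rw [← h4, ← hpf, map_mul]
    rfl

end Elements

theorem fx_one_card (G : Type*) [Group G] (α : Type*) [MulAction G α] [Fintype α] :
    fx α (1 : G) = Fintype.card α := by
  rw [fx, Nat.card_congr (Equiv.subtypeUnivEquiv fun a : α => one_smul G a), Nat.card_eq_fintype_card]

theorem orderOf_two {n : ℕ} {x : alternatingGroup (Fin n)} (h : x ^ 8 = 1) :
    ∃ j : ℕ, orderOf x = 2 ^ j := by
  obtain ⟨j, -, hj⟩ := (Nat.dvd_prime_pow Nat.prime_two).mp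
    (show orderOf x ∣ 2 ^ 3 from orderOf_dvd_of_pow_eq_one h)
  exact ⟨j, hj⟩

theorem neg_one_pow_eq {c : ℕ} : ((-1 : ℤˣ) ^ c = 1) ↔ c % 2 = 0 := by
  constructor
  · intro h
    rcases Nat.even_or_odd c with hc | hc
    · exact Nat.even_iff.mp hc
    · rw [hc.neg_one_pow] at h; exact absurd h (by decide)
  · exact fun h => (Nat.even_iff.mpr h).neg_one_pow

/-- For n ≥ 7 the alternating group on n letters has an irreducible character that vanishes at some 2-element and is the restriction of an irreducible character of the symmetric group, and an irreducible character that vanishes at some element of order 3 and is the restriction of an irreducible character of the symmetric group. -/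
theorem result (n : ℕ) (hn : 7 ≤ n) : (∃ χ : Cfsg.IrrCharacter (alternatingGroup (Fin n)), (∃ x : alternatingGroup (Fin n), (∃ j : ℕ, orderOf x = 2 ^ j) ∧ (χ : alternatingGroup (Fin n) → ℂ) x = 0) ∧ ∃ ψ : Cfsg.IrrCharacter (Equiv.Perm (Fin n)), ∀ x : alternatingGroup (Fin n), (ψ : Equiv.Perm (Fin n) → ℂ) x = (χ : alternatingGroup (Fin n) → ℂ) x) ∧ (∃ χ : Cfsg.IrrCharacter (alternatingGroup (Fin n)), (∃ y : alternatingGroup (Fin n), orderOf y = 3 ∧ (χ : alternatingGroup (Fin n) → ℂ) y = 0) ∧ ∃ ψ : Cfsg.IrrCharacter (Equiv.Perm (Fin n)), ∀ x : alternatingGroup (Fin n), (ψ : Equiv.Perm (Fin n) → ℂ) x = (χ : alternatingGroup (Fin n) → ℂ) x) := by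
  classical
  haveI := Fintype.ofFinite (alternatingGroup (Fin n))
  haveI hA : MulAction.IsMultiplyPretransitive (alternatingGroup (Fin n)) (Fin n) 4 := by
    haveI := alternatingGroup.isMultiplyPretransitive (Fin n)
    exact MulAction.isMultiplyPretransitive_of_le (n := Nat.card (Fin n) - 2)
      (by rw [Nat.card_fin]; omega) (Nat.sub_le _ _)
  haveI hP : MulAction.IsMultiplyPretransitive (Perm (Fin n)) (Fin n) 4 := by
    haveI := Equiv.Perm.isMultiplyPretransitive (Fin n) (Nat.card (Fin n))
    exact MulAction.isMultiplyPretransitive_of_le (n := Nat.card (Fin n))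
      (by rw [Nat.card_fin]; omega) le_rfl
  have hcard : 4 ≤ Fintype.card (Fin n) := by rw [Fintype.card_fin]; omega
  obtain ⟨gA1, gA2, gA3⟩ := isGeneralized_c (G := alternatingGroup (Fin n)) (Fin n)
  obtain ⟨gP1, gP2, gP3⟩ := isGeneralized_c (G := Perm (Fin n)) (Fin n)
  obtain ⟨nA1, nA2, nA3⟩ := norms (G := alternatingGroup (Fin n)) (Fin n) hcard
  obtain ⟨nP1, nP2, nP3⟩ := norms (G := Perm (Fin n)) (Fin n) hcard
  have hn7 : (7 : ℝ) ≤ n := by exact_mod_cast hn
  have d1 : (0 : ℝ) < (n : ℝ) - 1 := by linarith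
  have d2 : (0 : ℝ) < ((n : ℝ) * n + n) / 2 - 2 * n := by nlinarith
  have d3 : (0 : ℝ) < ((n : ℝ) * n - n) / 2 - n + 1 := by nlinarith
  have v1 : ∀ {G : Type} [Group G] [MulAction G (Fin n)], c1 (G := G) (Fin n) 1 = (((n : ℝ) - 1 : ℝ) : ℂ) ∧
      c2 (G := G) (Fin n) 1 = ((((n : ℝ) * n + n) / 2 - 2 * n : ℝ) : ℂ) ∧
      c3 (G := G) (Fin n) 1 = ((((n : ℝ) * n - n) / 2 - n + 1 : ℝ) : ℂ) := by
    intro G _ _
    simp only [c1, c2, c3, mul_one, fx_one_card, Fintype.card_fin]
    push_cast
    exact ⟨rfl, rfl, rfl⟩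
  let A1 : IrrCharacter (alternatingGroup (Fin n)) := ⟨_, irr_of_pos gA1 nA1 d1 v1.1⟩
  let A2 : IrrCharacter (alternatingGroup (Fin n)) := ⟨_, irr_of_pos gA2 nA2 d2 v1.2.1⟩
  let A3 : IrrCharacter (alternatingGroup (Fin n)) := ⟨_, irr_of_pos gA3 nA3 d3 v1.2.2⟩
  let P1 : IrrCharacter (Perm (Fin n)) := ⟨_, irr_of_pos gP1 nP1 d1 v1.1⟩
  let P2 : IrrCharacter (Perm (Fin n)) := ⟨_, irr_of_pos gP2 nP2 d2 v1.2.1⟩
  let P3 : IrrCharacter (Perm (Fin n)) := ⟨_, irr_of_pos gP3 nP3 d3 v1.2.2⟩
  have R1 : ∀ x : alternatingGroup (Fin n), (P1 : Perm (Fin n) → ℂ) x = (A1 : _ → ℂ) x := fun x => rfl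
  have R2 : ∀ x : alternatingGroup (Fin n), (P2 : Perm (Fin n) → ℂ) x = (A2 : _ → ℂ) x := fun x => rfl
  have R3 : ∀ x : alternatingGroup (Fin n), (P3 : Perm (Fin n) → ℂ) x = (A3 : _ → ℂ) x := fun x => rfl
  -- vanishing criteria
  have z1 : ∀ x : alternatingGroup (Fin n), fx (Fin n) x = 1 → (A1 : _ → ℂ) x = 0 := fun x h => by
    show c1 (Fin n) x = 0
    simp [c1, h]
  have z2 : ∀ x : alternatingGroup (Fin n), fx (Fin n) x = 0 → fx (Fin n) (x * x) = 0 →
      (A2 : _ → ℂ) x = 0 := fun x h h' => by
    show c2 (Fin n) x = 0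
    simp [c2, h, h']
  constructor
  · -- a 2-element
    have R8 := Data.rot (m := 8) (N := 8) (-1) 0 0 (by decide +kernel)
    have R4 := Data.rot (m := 4) (N := 8) (-1) 0 0 (by decide +kernel)
    have R22 := Data.rot (m := 2) (N := 8) (-1) 0 2 (by decide +kernel)
    have R11 := Data.rot (m := 1) (N := 8) 1 1 1 (by decide +kernel)
    rcases Nat.even_or_odd n with he | ho
    · obtain ⟨m, hm | hm⟩ : ∃ m, n = 4 * m ∨ n = 4 * m + 2 := ⟨n / 4, by
        obtain ⟨r, rfl⟩ := he; omega⟩
      · obtain ⟨x, hx, hf, hf2⟩ : ∃ x : alternatingGroup (Fin n), x ^ 8 = 1 ∧ fx (Fin n) x = 0 ∧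
            fx (Fin n) (x * x) = 0 := by
          rcases Nat.mod_two_eq_zero_or_one m with h | h
          · have hd := R4.block m
            rw [neg_one_pow_eq.mpr h, mul_zero] at hd
            exact hd.transfer (by simp; omega)
          · have hd := R8.sum (R4.block (m - 2))
            rw [← pow_succ', neg_one_pow_eq.mpr (show (m - 2 + 1) % 2 = 0 by omega), mul_zero,
              zero_add] at hd
            exact hd.transfer (by simp; omega)
        exact ⟨A2, ⟨x, orderOf_two hx, z2 x hf hf2⟩, P2, R2⟩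
      · obtain ⟨x, hx, hf, hf2⟩ : ∃ x : alternatingGroup (Fin n), x ^ 8 = 1 ∧ fx (Fin n) x = 0 ∧
            fx (Fin n) (x * x) = 2 := by
          rcases Nat.mod_two_eq_zero_or_one m with h | h
          · have hd := R22.sum (R8.sum (R4.block (m - 2)))
            rw [← pow_succ', ← pow_succ', neg_one_pow_eq.mpr (show (m - 2 + 1 + 1) % 2 = 0 by omega),
              mul_zero] at hd
            exact hd.transfer (by simp; omega)
          · have hd := R22.sum (R4.block m)
            rw [← pow_succ', neg_one_pow_eq.mpr (show (m + 1) % 2 = 0 by omega), mul_zero] at hd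
            exact hd.transfer (by simp; omega)
        refine ⟨A3, ⟨x, orderOf_two hx, ?_⟩, P3, R3⟩
        show c3 (Fin n) x = 0
        simp [c3, hf, hf2]
    · obtain ⟨m, hm⟩ := ho
      obtain ⟨x, hx, hf⟩ : ∃ x : alternatingGroup (Fin n), x ^ 8 = 1 ∧ fx (Fin n) x = 1 := by
        rcases Nat.mod_two_eq_zero_or_one m with h | h
        · have hd := R11.sum (R22.block m)
          rw [one_mul, neg_one_pow_eq.mpr h, mul_zero, add_zero] at hd
          obtain ⟨x, h1, h2, -⟩ := hd.transfer (n := n) (by simp; omega)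
          exact ⟨x, h1, h2⟩
        · have hd := R11.sum (R4.sum (R22.block (m - 2)))
          rw [one_mul, ← pow_succ', neg_one_pow_eq.mpr (show (m - 2 + 1) % 2 = 0 by omega),
            mul_zero, add_zero, add_zero] at hd
          obtain ⟨x, h1, h2, -⟩ := hd.transfer (n := n) (by simp; omega)
          exact ⟨x, h1, h2⟩
      exact ⟨A1, ⟨x, orderOf_two hx, z1 x hf⟩, P1, R1⟩
  · -- an element of order three
    have R33 := Data.rot (m := 3) (N := 3) 1 0 0 (by decide +kernel)
    have R11 := Data.rot (m := 1) (N := 3) 1 1 1 (by decide +kernel)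
    obtain ⟨y, hy, hf, hf2⟩ : ∃ y : alternatingGroup (Fin n), y ^ 3 = 1 ∧ fx (Fin n) y = n % 3 ∧
        fx (Fin n) (y * y) = n % 3 := by
      have hd := (R33.block (n / 3)).sum (R11.block (n % 3))
      rw [one_pow, one_pow, one_mul, mul_zero, zero_add, mul_one] at hd
      exact hd.transfer (by simp; omega)
    have hyo : orderOf y = 3 := by
      haveI : Fact (Nat.Prime 3) := ⟨Nat.prime_three⟩
      refine orderOf_eq_prime hy fun h1 => ?_
      rw [h1, fx_one_card, Fintype.card_fin] at hf
      omega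
    rcases (show n % 3 = 0 ∨ n % 3 = 1 ∨ n % 3 = 2 by omega) with h | h | h <;> rw [h] at hf hf2
    · exact ⟨A2, ⟨y, hyo, z2 y hf hf2⟩, P2, R2⟩
    · exact ⟨A1, ⟨y, hyo, z1 y hf⟩, P1, R1⟩
    · refine ⟨A3, ⟨y, hyo, ?_⟩, P3, R3⟩
      show c3 (Fin n) y = 0
      simp [c3, hf, hf2]
      norm_num

end Cfsg.Agent.S4560
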