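import Cfsg.Statements.S4565
import Cfsg.Agent.Lib.Char.ExtensionCoset
import Cfsg.Agent.Lib.Blocks.Inflate

set_option autoImplicit false
open Cfsg

namespace Cfsg.Agent.S4565

open CfsgLib.Char
open scoped CfsgLib.Char ComplexConjugate

/-- Let χ be an irreducible character of the finite group H that is fully ramified over the normal subgroup Z: the restriction of χ to Z is e times an irreducible character of Z with e ^ 2 equal to the index of Z. If Z ≠ H, then H/Z has no cyclic subgroup that is its own centralizer. -/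
theorem result {H : Type*} [Group H] [Finite H] (Z : Subgroup H) [Z.Normal] (χ : Cfsg.IrrCharacter H) (hfr : ∃ (θ : Cfsg.IrrCharacter ↥Z) (e : ℕ), e ^ 2 = Z.index ∧ ∀ z : ↥Z, (χ : H → ℂ) z = (e : ℂ) * (θ : ↥Z → ℂ) z) (hZ : Z ≠ ⊤) (C : Subgroup (H ⧸ Z)) (hC : IsCyclic C) : Subgroup.centralizer (C : Set (H ⧸ Z)) ≠ C := by
  classical
  haveI : Fintype H := Fintype.ofFinite H
  haveI : Fintype Z := Fintype.ofFinite Z
  intro hCC
  obtain ⟨θ, e, he, hres⟩ := hfr
  have he0 : (e : ℂ) ≠ 0 := by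
    intro h
    rw [Nat.cast_eq_zero.mp h] at he
    exact Subgroup.index_ne_zero_of_finite he.symm
  have hinv : ∀ g, conjBy Z (θ : Z → ℂ) g = θ := by
    intro g
    funext z
    refine mul_left_cancel₀ he0 ?_
    rw [conjBy_apply, ← hres, ← hres]
    exact isClassFunction_irr χ z g
  -- characters of the whole group
  have hχZ : Cfsg.classInner (fun z : Z => (χ : H → ℂ) z) (θ : Z → ℂ) = e := by
    rw [show (fun z : Z => (χ : H → ℂ) z) = (e : ℂ) • (θ : Z → ℂ) from funext hres,
      classInner_smul_left, classInner_irr_self θ.2, mul_one]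
  have hother : ∀ ξ : Cfsg.IrrCharacter H, ξ ≠ χ →
      Cfsg.classInner (fun z : Z => (ξ : H → ℂ) z) (θ : Z → ℂ) = 0 := by
    intro ξ hξ
    have hnorm := classInner_indFun_self_of_invariant Z θ.2 hinv
    obtain ⟨m, hm⟩ := exists_multiplicities (isCharacter_indFun Z (isCharacter_of_isIrr θ.2))
    have hmc : ∀ ω : Cfsg.IrrCharacter H,
        Cfsg.classInner (fun z : Z => (ω : H → ℂ) z) (θ : Z → ℂ) = m ω := by
      intro ω
      rw [← frobenius_reciprocity' Z (θ : Z → ℂ) (isClassFunction_irr ω), ← classInner_conj_symm, hm,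
        classInner_sum_smul_irr, Complex.conj_natCast]
    rw [hm, classInner_sum_smul_sum_smul] at hnorm
    simp only [map_natCast] at hnorm
    have hn : ∑ ω, m ω * m ω = e * e := by
      rw [← sq e, he]
      exact_mod_cast hnorm
    have hme : m χ = e := by exact_mod_cast (hmc χ).symm.trans hχZ
    rw [← Finset.add_sum_erase _ _ (Finset.mem_univ χ), hme] at hn
    have h0 : m ξ * m ξ = 0 := Finset.sum_eq_zero_iff.mp (Nat.add_eq_left.mp hn) ξ
      (Finset.mem_erase.mpr ⟨hξ, Finset.mem_univ _⟩)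
    rw [hmc, mul_self_eq_zero.mp h0, Nat.cast_zero]
  have hvan : ∀ h : H, h ∉ Z → (χ : H → ℂ) h = 0 := by
    intro h hh
    have hN := classInner_irr_self χ.2
    rw [classInner, inv_mul_eq_one₀ (Nat.cast_ne_zero.mpr Nat.card_pos.ne')] at hN
    have hZsum : ∑ z : Z, Complex.normSq ((χ : H → ℂ) z) = (Nat.card H : ℝ) := by
      have h1 := classInner_irr_self θ.2
      rw [classInner, inv_mul_eq_one₀ (Nat.cast_ne_zero.mpr Nat.card_pos.ne')] at h1
      have h2 : ∑ z : Z, (χ : H → ℂ) z * conj ((χ : H → ℂ) z) = (Nat.card H : ℂ) := by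
        rw [Finset.sum_congr rfl (g := fun z => (e : ℂ) ^ 2 * ((θ : Z → ℂ) z * conj ((θ : Z → ℂ) z)))
          fun z _ => by rw [hres z, map_mul, Complex.conj_natCast]; ring,
          ← Finset.mul_sum, ← h1, ← Nat.cast_pow, he, ← Z.card_mul_index, Nat.cast_mul, mul_comm]
      simp only [Complex.mul_conj] at h2
      exact_mod_cast h2
    simp only [Complex.mul_conj] at hN
    have hN' : ∑ g : H, Complex.normSq ((χ : H → ℂ) g) = (Nat.card H : ℝ) := by exact_mod_cast hN.symm
    rw [← Finset.sum_filter_add_sum_filter_not Finset.univ (fun g => g ∈ Z),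
      Finset.sum_subtype (p := fun g => g ∈ Z) _ (fun g => by simp)
        (fun g => Complex.normSq ((χ : H → ℂ) g)), hZsum, add_eq_left] at hN'
    exact Complex.normSq_eq_zero.mp
      ((Finset.sum_eq_zero_iff_of_nonneg fun g _ => Complex.normSq_nonneg _).mp hN' h
        (Finset.mem_filter.mpr ⟨Finset.mem_univ _, hh⟩))
  -- the cyclic subgroup
  obtain ⟨⟨xq, hxC⟩, hgen⟩ := hC.exists_generator
  obtain ⟨x, rfl⟩ := QuotientGroup.mk_surjective xq
  have hCx : C = Subgroup.zpowers (x : H ⧸ Z) := by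
    refine le_antisymm (fun q hq => ?_) (Subgroup.zpowers_le.mpr hxC)
    obtain ⟨i, hi⟩ := Subgroup.mem_zpowers_iff.mp (hgen ⟨q, hq⟩)
    exact Subgroup.mem_zpowers_iff.mpr ⟨i, congrArg Subtype.val hi⟩
  have hcent : ∀ q : H ⧸ Z, Commute q (x : H ⧸ Z) → q ∈ C := by
    intro q hq
    rw [← hCC, Subgroup.mem_centralizer_iff]
    intro c hc
    rw [hCx] at hc
    obtain ⟨i, rfl⟩ := Subgroup.mem_zpowers_iff.mp hc
    exact (hq.zpow_right i).eq.symm
  have hxZ : x ∉ Z := by
    intro hx
    rw [(QuotientGroup.eq_one_iff x).mpr hx, Subgroup.zpowers_one_eq_bot] at hCx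
    refine hZ (eq_top_iff.mpr fun h _ => (QuotientGroup.eq_one_iff h).mp ?_)
    have := hcent (h : H ⧸ Z) (by rw [(QuotientGroup.eq_one_iff x).mpr hx]; exact Commute.one_right _)
    rwa [hCx, Subgroup.mem_bot] at this
  set U := C.comap (QuotientGroup.mk' Z) with hU
  have hZU : Z ≤ U := fun z hz => by
    show (z : H ⧸ Z) ∈ C
    rw [(QuotientGroup.eq_one_iff z).mpr hz]
    exact C.one_mem
  have hxU : x ∈ U := hxC
  set Z' := Z.subgroupOf U with hZ'
  haveI : Fintype U := Fintype.ofFinite U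
  haveI : Fintype Z' := Fintype.ofFinite Z'
  set θ' : Z' → ℂ := fun z => (θ : Z → ℂ) ⟨((z : U) : H), z.2⟩ with hθ'
  have hθ'irr : Cfsg.IsIrrCharacter Z' θ' :=
    CfsgLib.Blocks.isIrrCharacter_comp_of_surjective θ.2
      (Subgroup.subgroupOfEquivOfLe hZU).toMonoidHom (Subgroup.subgroupOfEquivOfLe hZU).surjective
  have hinv' : ∀ u, conjBy Z' θ' u = θ' := fun u => funext fun z =>
    congrFun (hinv (u : H)) ⟨((z : U) : H), z.2⟩
  have hcyc : IsCyclic (U ⧸ Z') := by
    refine ⟨⟨((⟨x, hxU⟩ : U) : U ⧸ Z'), fun q => ?_⟩⟩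
    induction q using QuotientGroup.induction_on with
    | _ u =>
      obtain ⟨i, hi⟩ := Subgroup.mem_zpowers_iff.mp (hCx ▸ u.2 : ((u : H) : H ⧸ Z) ∈ Subgroup.zpowers (x : H ⧸ Z))
      refine Subgroup.mem_zpowers_iff.mpr ⟨i, ?_⟩
      rw [← QuotientGroup.mk_zpow, QuotientGroup.eq, hZ', Subgroup.mem_subgroupOf]
      rw [← QuotientGroup.mk_zpow, QuotientGroup.eq] at hi
      simpa using hi
  obtain ⟨η, hη, hext⟩ := extends_of_cyclic Z' hθ'irr hinv' hcyc
  -- the class function on the coset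
  set f : U → ℂ := fun u => if ((u : H) : H ⧸ Z) = (x : H ⧸ Z) then η u else 0 with hf
  have hfcl : Cfsg.IsClassFunction U f := by
    intro u v
    have hq : (((v * u * v⁻¹ : U) : H) : H ⧸ Z) = ((u : H) : H ⧸ Z) := by
      obtain ⟨i, hi⟩ := Subgroup.mem_zpowers_iff.mp (hCx ▸ u.2 : ((u : H) : H ⧸ Z) ∈ Subgroup.zpowers (x : H ⧸ Z))
      obtain ⟨j, hj⟩ := Subgroup.mem_zpowers_iff.mp (hCx ▸ v.2 : ((v : H) : H ⧸ Z) ∈ Subgroup.zpowers (x : H ⧸ Z))
      rw [Subgroup.coe_mul, Subgroup.coe_mul, Subgroup.coe_inv, QuotientGroup.mk_mul, QuotientGroup.mk_mul,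
        QuotientGroup.mk_inv, ← hi, ← hj, ← zpow_add, add_comm, zpow_add, mul_inv_cancel_right]
    simp only [hf, hq, isClassFunction_of_isCharacter (isCharacter_of_isIrr hη) u v]
  have hI : indFun U f = 0 := by
    rw [classFunction_expansion (isClassFunction_indFun U f)]
    refine Finset.sum_eq_zero fun ξ _ => ?_
    rw [frobenius_reciprocity U f (isClassFunction_irr ξ)]
    suffices h : ∑ u : U, f u * conj ((ξ : H → ℂ) u) = 0 by
      rw [classInner, h, mul_zero, zero_smul]
    by_cases hξ : ξ = χ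
    · refine Finset.sum_eq_zero fun u _ => ?_
      by_cases hu : ((u : H) : H ⧸ Z) = (x : H ⧸ Z)
      · have : (u : H) ∉ Z := fun h => hxZ ((QuotientGroup.eq_one_iff x).mp
          (hu ▸ (QuotientGroup.eq_one_iff (u : H)).mpr h))
        rw [hξ, hvan _ this, map_zero, mul_zero]
      · simp [hf, hu]
    · have h0 : Cfsg.classInner (fun z : Z' => (ξ : H → ℂ) ((z : U) : H)) θ' = 0 := by
        rw [← hother ξ hξ, classInner, classInner, Nat.card_congr (Subgroup.subgroupOfEquivOfLe hZU).toEquiv]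
        congr 1
        exact Fintype.sum_equiv (Subgroup.subgroupOfEquivOfLe hZU).toEquiv _ _ fun z => rfl
      have h := congrFun (avgN_mul_conj_extension_eq_zero Z' hθ'irr hη hext
        (isCharacter_restrict U (isCharacter_of_isIrr ξ.2)) h0) ⟨x, hxU⟩
      simp only [avgN, Pi.zero_apply, mul_eq_zero, inv_eq_zero,
        Nat.cast_eq_zero, Nat.card_pos.ne', false_or] at h
      have h' := congrArg conj h
      rw [map_sum, map_zero] at h'
      rw [← h', ← Finset.sum_filter_add_sum_filter_not Finset.univ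
        (fun u : U => ((u : H) : H ⧸ Z) = (x : H ⧸ Z))]
      rw [Finset.sum_eq_zero (s := Finset.univ.filter fun u : U => ¬ ((u : H) : H ⧸ Z) = (x : H ⧸ Z))
        (fun u hu => by simp [hf, (Finset.mem_filter.mp hu).2]), add_zero]
      symm
      refine Finset.sum_nbij' (fun z : Z' => (z : U) * ⟨x, hxU⟩)
        (fun u => if hu : u * (⟨x, hxU⟩ : U)⁻¹ ∈ Z' then ⟨_, hu⟩ else 1) ?_ ?_ ?_ ?_ ?_
      · intro z _
        refine Finset.mem_coe.mpr (Finset.mem_filter.mpr ⟨Finset.mem_univ _, ?_⟩)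
        have hz : (((z : U) : H) : H ⧸ Z) = 1 := (QuotientGroup.eq_one_iff _).mpr z.2
        rw [Subgroup.coe_mul, QuotientGroup.mk_mul, hz, one_mul]
      · intro u _; simp
      · intro z _
        rw [dif_pos (by rw [mul_inv_cancel_right]; exact z.2)]
        exact Subtype.ext (mul_inv_cancel_right _ _)
      · intro u hu
        have hu' := (Finset.mem_filter.mp (Finset.mem_coe.mp hu)).2
        rw [dif_pos]
        · exact inv_mul_cancel_right _ _
        · rw [hZ', Subgroup.mem_subgroupOf, ← QuotientGroup.eq_one_iff]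
          simp [hu']
      · intro z _
        have hz : (((z : U) : H) : H ⧸ Z) = 1 := (QuotientGroup.eq_one_iff _).mpr z.2
        simp only [hf]
        rw [if_pos (by rw [Subgroup.coe_mul, QuotientGroup.mk_mul, hz, one_mul]), map_mul,
          Complex.conj_conj, mul_comm]
  have h1 := congrFun (avgN_mul_conj_extension_self Z' hθ'irr hη hext) ⟨x, hxU⟩
  obtain ⟨z, hz⟩ : ∃ z : Z', η ((z : U) * ⟨x, hxU⟩) ≠ 0 := by
    by_contra hc
    push_neg at hc
    simp [avgN, hc] at h1
  set g : U := (z : U) * ⟨x, hxU⟩ with hg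
  have hgx : (((g : U) : H) : H ⧸ Z) = (x : H ⧸ Z) := by
    have hz' : (((z : U) : H) : H ⧸ Z) = 1 := (QuotientGroup.eq_one_iff _).mpr z.2
    rw [hg, Subgroup.coe_mul, QuotientGroup.mk_mul, hz', one_mul]
  have hval := congrFun hI (g : H)
  have hterm : ∀ h : H, extendByZero U f (h⁻¹ * (g : H) * h) = if h ∈ U then f g else 0 := by
    intro h
    by_cases hh : h ∈ U
    · rw [if_pos hh, show h⁻¹ * (g : H) * h = (((⟨h, hh⟩ : U)⁻¹ * g * (⟨h, hh⟩ : U)) : U) from rfl,
        extendByZero_coe]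
      simpa using hfcl g (⟨h, hh⟩ : U)⁻¹
    · rw [if_neg hh]
      by_cases hm : h⁻¹ * (g : H) * h ∈ U
      · rw [extendByZero_mem U f hm, hf]
        simp only
        rw [if_neg]
        intro hc
        refine hh (hcent (h : H ⧸ Z) ?_)
        rw [QuotientGroup.mk_mul, QuotientGroup.mk_mul, QuotientGroup.mk_inv, hgx, mul_assoc,
          inv_mul_eq_iff_eq_mul] at hc
        exact hc.symm
      · exact extendByZero_notMem U f hm
  simp only [indFun, Pi.zero_apply] at hval
  rw [Finset.sum_congr rfl fun h _ => hterm h, ← Finset.sum_filter, Finset.sum_const, nsmul_eq_mul] at hval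
  have hU0 : (Finset.univ.filter fun h : H => h ∈ U).card ≠ 0 :=
    Finset.card_ne_zero.mpr ⟨1, by simp [U.one_mem]⟩
  have hfg : f g = η g := by simp only [hf]; rw [if_pos hgx]
  rw [hfg] at hval
  simp [hz, hU0] at hval

end Cfsg.Agent.S4565
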