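import Cfsg.Statements.S4566
import Cfsg.Agent.Lib.Char.Convolution
import Cfsg.Agent.Lib.Char.MeanValue
import Cfsg.Agent.Lib.Char.Virtual
import Mathlib.RingTheory.Polynomial.Cyclotomic.Eval
import Mathlib.RingTheory.Polynomial.Cyclotomic.Roots

set_option autoImplicit false
open Cfsg

namespace Cfsg.Agent.S4566

open CfsgLib.Char
open scoped CfsgLib.Char

/-- Let N be a central subgroup of the finite group G, ψ a faithful irreducible (hence degree-one) character of N, and χ an irreducible character of G whose restriction to N contains ψ. If g ∈ G and some x ∈ G has commutator x⁻¹ g⁻¹ x g in N but different from 1, then χ g = 0. -/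
theorem result {G : Type*} [Group G] [Fintype G] (N : Subgroup G) [Fintype N] (hN : N ≤ Subgroup.center G) (ψ : Cfsg.IrrCharacter ↥N) (hfaith : ∀ n : ↥N, (ψ : ↥N → ℂ) n = (ψ : ↥N → ℂ) 1 → n = 1) (χ : Cfsg.IrrCharacter G) (hover : Cfsg.classInner (fun n : ↥N => (χ : G → ℂ) n) (ψ : ↥N → ℂ) ≠ 0) (g x : G) (hcomm : x⁻¹ * g⁻¹ * x * g ∈ N) (hne : x⁻¹ * g⁻¹ * x * g ≠ 1) : (χ : G → ℂ) g = 0 := by
  classical
  have hχi := χ.2
  have hcN : (x⁻¹ * g⁻¹ * x * g)⁻¹ ∈ N := N.inv_mem hcomm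
  set c : ↥N := ⟨_, hcN⟩ with hc
  have hcc : (c : G) ∈ Subgroup.center G := hN c.2
  haveI : N.Normal := ⟨fun a ha b => by
    rw [Subgroup.mem_center_iff.mp (hN ha) b, mul_inv_cancel_right]; exact ha⟩
  have hconj : (χ : G → ℂ) g = (χ : G → ℂ) (g * c) := by
    have h := isClassFunction_irr χ g x⁻¹
    rw [inv_inv] at h
    rw [← h]
    congr 1
    simp only [hc]
    group
  have hmul := central_mul hχi hcc g
  have hi : ∀ y : G, conjBy N (ψ : ↥N → ℂ) y = (ψ : ↥N → ℂ) := fun y => by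
    funext m
    rw [conjBy_apply]
    refine congrArg (ψ : ↥N → ℂ) (Subtype.ext ?_)
    show y * (m : G) * y⁻¹ = m
    rw [Subgroup.mem_center_iff.mp (hN m.2) y, mul_inv_cancel_right]
  have hcl := clifford N hχi ψ.2 hover
  have ho : orbit N (ψ : ↥N → ℂ) = {(ψ : ↥N → ℂ)} := by
    ext φ; rw [mem_orbit, Finset.mem_singleton]
    exact ⟨fun ⟨y, hy⟩ => hy ▸ hi y, fun h => ⟨1, h ▸ conjBy_one N (ψ : ↥N → ℂ)⟩⟩
  rw [ho, Finset.sum_singleton] at hcl
  have hv : ∀ m : ↥N, (χ : G → ℂ) m = Cfsg.classInner (fun n : ↥N => (χ : G → ℂ) n) (ψ : ↥N → ℂ) * (ψ : ↥N → ℂ) m :=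
    fun m => congrFun hcl m
  have h1 := hv 1
  rw [Subgroup.coe_one] at h1
  rw [← hconj] at hmul
  by_contra hne0
  have hc1 : (χ : G → ℂ) c = (χ : G → ℂ) 1 := (mul_left_cancel₀ hne0 hmul).symm
  rw [hv c, h1] at hc1
  have := hfaith c (mul_left_cancel₀ hover hc1)
  apply hne
  have h3 : (x⁻¹ * g⁻¹ * x * g)⁻¹ = 1 := congrArg Subtype.val this
  exact inv_eq_one.mp h3

end Cfsg.Agent.S4566
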