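import Cfsg.Statements.S4567
import Cfsg.Agent.Lib.Char.Clifford
import Cfsg.Agent.Lib.Char.MeanValue
import Cfsg.Agent.Lib.Char.Counting
import Cfsg.Agent.Lib.Char.Artin
import Cfsg.Agent.Lib.Char.Table

set_option autoImplicit false
open Cfsg

namespace Cfsg.Agent.S4567

open CfsgLib.Char
open scoped CfsgLib.Char ComplexConjugate

/-- Let N be a central subgroup of the finite group G and ψ a faithful irreducible (hence degree-one) character of N. Call a coset g N special when every x ∈ G whose commutator x⁻¹ g⁻¹ x g lies in N actually commutes with g (this depends only on the coset). Then the number of irreducible characters of G whose restriction to N contains ψ equals the number of conjugacy classes of G/N consisting of special cosets. -/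
theorem result {G : Type*} [Group G] [Fintype G] (N : Subgroup G) [N.Normal] [Fintype N] (hN : N ≤ Subgroup.center G) (ψ : Cfsg.IrrCharacter ↥N) (hfaith : ∀ n : ↥N, (ψ : ↥N → ℂ) n = (ψ : ↥N → ℂ) 1 → n = 1) : Nat.card {χ : Cfsg.IrrCharacter G // Cfsg.classInner (fun n : ↥N => (χ : G → ℂ) n) (ψ : ↥N → ℂ) ≠ 0} = Nat.card {C : ConjClasses (G ⧸ N) // ∃ g : G, ConjClasses.mk (g : G ⧸ N) = C ∧ ∀ x : G, x⁻¹ * g⁻¹ * x * g ∈ N → x * g = g * x} := by
  classical
  haveI : Fintype (G ⧸ N) := Fintype.ofFinite _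
  haveI : Fintype (ConjClasses (G ⧸ N)) := Fintype.ofFinite _
  have hNc : ∀ (n : N) (x : G), x * (n : G) = (n : G) * x := fun n x =>
    Subgroup.mem_center_iff.mp (hN n.2) x
  have hlin : ∀ l : Cfsg.IrrCharacter N, (l : N → ℂ) 1 = 1 := fun l =>
    degree_one_of_comm (fun a b => Subtype.ext (hNc b (a : G))) l
  have hconst : ∀ χ : Cfsg.IrrCharacter G, ∃ l : Cfsg.IrrCharacter N,
      (∀ (g : G) (n : N), (χ : G → ℂ) (g * n) = (χ : G → ℂ) g * (l : N → ℂ) n) ∧
      Cfsg.classInner (fun n : N => (χ : G → ℂ) n) (ψ : N → ℂ) =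
        (χ : G → ℂ) 1 * Cfsg.classInner (l : N → ℂ) (ψ : N → ℂ) := by
    intro χ
    obtain ⟨l, hl⟩ := exists_constituent N (isCharacter_of_isIrr χ.2) (irr_degree_ne_zero χ.2)
    have hinv : ∀ g, conjBy N (l : N → ℂ) g = l := by
      intro g
      funext n
      rw [conjBy_apply]
      refine congrArg (l : N → ℂ) (Subtype.ext ?_)
      show g * (n : G) * g⁻¹ = n
      rw [hNc n g, mul_inv_cancel_right]
    have h := clifford_invariant N χ.2 l.2 hinv hl
    set c := Cfsg.classInner (fun n : N => (χ : G → ℂ) n) (l : N → ℂ)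
    have h1 : (χ : G → ℂ) 1 = c := by
      have := congrFun h 1
      simpa [hlin l] using this
    refine ⟨l, fun g n => mul_right_cancel₀ (irr_degree_ne_zero χ.2) ?_, ?_⟩
    · have hn : (χ : G → ℂ) n = c * (l : N → ℂ) n := congrFun h n
      rw [central_mul χ.2 (hN n.2) g, hn, h1]; ring
    · rw [h, classInner_smul_left, h1]
  choose l hl hlψ using hconst
  let good : G → Prop := fun g => ∀ x : G, x⁻¹ * g⁻¹ * x * g ∈ N → x * g = g * x
  set S : Finset (ConjClasses (G ⧸ N)) := Finset.univ.filter fun C =>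
    ∃ g : G, ConjClasses.mk (g : G ⧸ N) = C ∧ good g with hS
  have hgood : ∀ g : G, ConjClasses.mk (g : G ⧸ N) ∈ S ↔ good g := by
    refine fun g => ⟨fun h => ?_, fun h => Finset.mem_filter.mpr ⟨Finset.mem_univ _, g, rfl, h⟩⟩
    obtain ⟨g0, he, h0⟩ := (Finset.mem_filter.mp h).2
    obtain ⟨c', hc⟩ := isConj_iff.mp (ConjClasses.mk_eq_mk_iff_isConj.mp he)
    obtain ⟨c, rfl⟩ := QuotientGroup.mk_surjective c'
    rw [← QuotientGroup.mk_inv, ← QuotientGroup.mk_mul, ← QuotientGroup.mk_mul, QuotientGroup.eq] at hc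
    obtain ⟨n, hn⟩ : ∃ n : N, g = c * g0 * c⁻¹ * (n : G) := ⟨⟨_, hc⟩, by group⟩
    subst hn
    intro x hx
    have hninv : ∀ y : G, (n : G)⁻¹ * y = y * (n : G)⁻¹ := fun y => by
      have := hNc n⁻¹ y
      rw [Subgroup.coe_inv] at this
      exact this.symm
    have e : x⁻¹ * (c * g0 * c⁻¹ * (n : G))⁻¹ * x * (c * g0 * c⁻¹ * (n : G)) =
        c * ((c⁻¹ * x * c)⁻¹ * g0⁻¹ * (c⁻¹ * x * c) * g0) * c⁻¹ := by
      calc _ = x⁻¹ * ((n : G)⁻¹ * ((c * g0 * c⁻¹)⁻¹ * x * (c * g0 * c⁻¹))) * (n : G) := by group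
        _ = x⁻¹ * ((c * g0 * c⁻¹)⁻¹ * x * (c * g0 * c⁻¹) * (n : G)⁻¹) * (n : G) := by rw [hninv]
        _ = _ := by group
    rw [e] at hx
    have hx' := h0 (c⁻¹ * x * c) (by
      have := Subgroup.Normal.conj_mem ‹N.Normal› _ hx c⁻¹
      simpa [mul_assoc] using this)
    calc x * (c * g0 * c⁻¹ * (n : G)) = c * ((c⁻¹ * x * c) * g0) * c⁻¹ * (n : G) := by group
      _ = c * (g0 * (c⁻¹ * x * c)) * c⁻¹ * (n : G) := by rw [hx']
      _ = c * g0 * c⁻¹ * (x * (n : G)) := by group
      _ = c * g0 * c⁻¹ * ((n : G) * x) := by rw [hNc n x]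
      _ = _ := by group
  have hcentr : ∀ g : G, good g → Nat.card (Subgroup.centralizer ({g} : Set G)) =
      Nat.card N * Nat.card (Subgroup.centralizer ({(g : G ⧸ N)} : Set (G ⧸ N))) := by
    intro g hg
    have e : Subgroup.centralizer ({g} : Set G) =
        (Subgroup.centralizer ({(g : G ⧸ N)} : Set (G ⧸ N))).comap (QuotientGroup.mk' N) := by
      ext x
      rw [Subgroup.mem_comap, Subgroup.mem_centralizer_singleton_iff,
        Subgroup.mem_centralizer_singleton_iff, QuotientGroup.mk'_apply, ← QuotientGroup.mk_mul,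
        ← QuotientGroup.mk_mul]
      refine ⟨fun h => by rw [h], fun h => (hg x ?_)⟩
      have h' := (QuotientGroup.eq).mp h.symm
      rwa [show (g * x)⁻¹ * (x * g) = x⁻¹ * g⁻¹ * x * g by group] at h'
    have hi := Subgroup.index_comap_of_surjective
      (Subgroup.centralizer ({(g : G ⧸ N)} : Set (G ⧸ N))) (QuotientGroup.mk'_surjective N)
    rw [← e] at hi
    have h1 := (Subgroup.centralizer ({g} : Set G)).card_mul_index
    rw [hi, ← (N : Subgroup G).card_mul_index, Subgroup.index_eq_card N,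
      ← (Subgroup.centralizer ({(g : G ⧸ N)} : Set (G ⧸ N))).card_mul_index, ← mul_assoc] at h1
    exact Nat.eq_of_mul_eq_mul_right (Nat.pos_of_ne_zero Subgroup.index_ne_zero_of_finite) h1
  have hN0 : (Nat.card N : ℂ) ≠ 0 := Nat.cast_ne_zero.mpr Nat.card_pos.ne'
  have hG0 : (Nat.card G : ℂ) ≠ 0 := Nat.cast_ne_zero.mpr Nat.card_pos.ne'
  have hpoint : ∀ g : G, (∑ χ : Cfsg.IrrCharacter G, if l χ = ψ then
      (χ : G → ℂ) g * conj ((χ : G → ℂ) g) else 0) =
      if good g then (Nat.card (Subgroup.centralizer ({(g : G ⧸ N)} : Set (G ⧸ N))) : ℂ) else 0 := by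
    intro g
    have hA : (∑ χ : Cfsg.IrrCharacter G, if l χ = ψ then
        (χ : G → ℂ) g * conj ((χ : G → ℂ) g) else 0) * (Nat.card N : ℂ) =
        ∑ n : N, conj ((ψ : N → ℂ) n) *
          (if IsConj (g * (n : G)) g then (Nat.card (Subgroup.centralizer ({g} : Set G)) : ℂ) else 0) := by
      have step : ∀ n : N, conj ((ψ : N → ℂ) n) *
          (if IsConj (g * (n : G)) g then (Nat.card (Subgroup.centralizer ({g} : Set G)) : ℂ) else 0) =
          ∑ χ : Cfsg.IrrCharacter G, (χ : G → ℂ) g * conj ((χ : G → ℂ) g) *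
            ((l χ : N → ℂ) n * conj ((ψ : N → ℂ) n)) := by
        intro n
        have h := column_orthogonality (g * (n : G)) g
        rw [Finset.sum_congr rfl fun χ _ => by rw [hl χ g n]] at h
        have h' : (if IsConj (g * (n : G)) g then (Nat.card (Subgroup.centralizer ({g} : Set G)) : ℂ) else 0) = _ :=
          (by convert h.symm)
        rw [h', Finset.mul_sum]
        exact Finset.sum_congr rfl fun χ _ => by ring
      rw [Finset.sum_congr rfl fun n _ => step n, Finset.sum_comm, Finset.sum_mul]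
      refine Finset.sum_congr rfl fun χ _ => ?_
      rw [← Finset.mul_sum]
      have h1 : ∑ n : N, (l χ : N → ℂ) n * conj ((ψ : N → ℂ) n) =
          (Nat.card N : ℂ) * Cfsg.classInner (l χ : N → ℂ) (ψ : N → ℂ) := by
        rw [classInner, Nat.card_eq_fintype_card, ← mul_assoc, mul_inv_cancel₀, one_mul]
        rw [← Nat.card_eq_fintype_card]; exact hN0
      rw [h1, classInner_coe]
      split_ifs <;> ring
    refine mul_right_cancel₀ hN0 (hA.trans ?_)
    by_cases hg : good g
    · rw [if_pos hg, hcentr g hg, Finset.sum_eq_single (1 : N)]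
      · rw [hlin ψ, map_one, one_mul, OneMemClass.coe_one, mul_one, if_pos (IsConj.refl g),
          Nat.cast_mul, mul_comm]
      · intro n _ hn
        rw [if_neg, mul_zero]
        intro hc
        obtain ⟨c, hc⟩ := isConj_iff.mp hc.symm
        have e : c⁻¹⁻¹ * g⁻¹ * c⁻¹ * g = (n : G)⁻¹ := by
          rw [show c⁻¹⁻¹ * g⁻¹ * c⁻¹ * g = (c * g * c⁻¹)⁻¹ * g by group, hc]; group
        have := hg c⁻¹ (e ▸ N.inv_mem n.2)
        refine hn (Subtype.ext ?_)
        rw [OneMemClass.coe_one]
        have h2 : c * g * c⁻¹ = g := by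
          rw [mul_assoc, ← this]; group
        rw [h2] at hc
        exact mul_eq_left.mp hc.symm
      · intro h; exact absurd (Finset.mem_univ _) h
    · rw [if_neg hg, zero_mul]
      simp only [good, not_forall] at hg
      obtain ⟨x, hxN, hxne⟩ := hg
      set n0 : N := ⟨_, hxN⟩ with hn0
      have hn0ne : n0 ≠ 1 := by
        intro e
        refine hxne ?_
        have : x⁻¹ * g⁻¹ * x * g = 1 := congrArg Subtype.val e
        calc x * g = g * x * (x⁻¹ * g⁻¹ * x * g) := by group
          _ = g * x := by rw [this, mul_one]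
      have hconj : IsConj (g * (n0 : G)) g := by
        have e : g * (n0 : G)⁻¹ = x⁻¹ * g * x := by
          have h := hNc n0⁻¹ g
          rw [Subgroup.coe_inv] at h
          rw [h]
          show (x⁻¹ * g⁻¹ * x * g)⁻¹ * g = _
          calc _ = g⁻¹ * (x⁻¹ * g * x) * g := by group
            _ = g⁻¹ * ((x⁻¹ * g * x * g⁻¹) * g) * g := by group
            _ = _ := by
              have h' := hNc ⟨_, (show x⁻¹ * g * x * g⁻¹ ∈ N by
                have := Subgroup.Normal.conj_mem ‹N.Normal› _ (N.inv_mem hxN) g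
                simpa [mul_assoc] using this)⟩ g
              simp only at h'
              rw [← h']
              group
        refine isConj_iff.mpr ⟨x⁻¹, ?_⟩
        rw [inv_inv]
        calc x⁻¹ * (g * (n0 : G)) * x = x⁻¹ * g * ((n0 : G) * x) := by group
          _ = x⁻¹ * g * (x * (n0 : G)) := by rw [hNc n0 x]
          _ = (g * (n0 : G)⁻¹) * (n0 : G) := by rw [e]; group
          _ = g := by group
      have hiff : ∀ n : N, IsConj (g * ((n * n0 : N) : G)) g ↔ IsConj (g * (n : G)) g := by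
        intro n
        have h1 : IsConj (g * ((n * n0 : N) : G)) (g * (n : G)) := by
          obtain ⟨c, hc⟩ := isConj_iff.mp hconj
          refine isConj_iff.mpr ⟨c, ?_⟩
          rw [Subgroup.coe_mul]
          calc c * (g * ((n : G) * (n0 : G))) * c⁻¹
              = c * (g * ((n0 : G) * (n : G))) * c⁻¹ := by rw [hNc n (n0 : G)]
            _ = c * (g * (n0 : G)) * ((n : G) * c⁻¹) := by group
            _ = c * (g * (n0 : G)) * (c⁻¹ * (n : G)) := by rw [hNc n c⁻¹]
            _ = c * (g * (n0 : G)) * c⁻¹ * (n : G) := by group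
            _ = _ := by rw [hc]
        exact ⟨fun h => h1.symm.trans h, fun h => h1.trans h⟩
      set s := ∑ n : N, conj ((ψ : N → ℂ) n) *
          (if IsConj (g * (n : G)) g then (Nat.card (Subgroup.centralizer ({g} : Set G)) : ℂ) else 0)
      have hs : s = conj ((ψ : N → ℂ) n0) * s := by
        conv_lhs => rw [show s = ∑ n : N, conj ((ψ : N → ℂ) (n * n0)) *
          (if IsConj (g * ((n * n0 : N) : G)) g then (Nat.card (Subgroup.centralizer ({g} : Set G)) : ℂ) else 0)
          from (Equiv.sum_comp (Equiv.mulRight n0) _).symm]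
        rw [Finset.mul_sum]
        refine Finset.sum_congr rfl fun n _ => ?_
        rw [linear_mul (isCharacter_of_isIrr ψ.2) (hlin ψ), map_mul, if_congr (hiff n) rfl rfl]; ring
      by_contra hs0
      have h1 := mul_eq_right₀ hs0 |>.mp hs.symm
      refine hn0ne (hfaith n0 ?_)
      rw [hlin ψ]
      simpa using congrArg conj h1
  have hiff : ∀ χ : Cfsg.IrrCharacter G,
      Cfsg.classInner (fun n : N => (χ : G → ℂ) n) (ψ : N → ℂ) ≠ 0 ↔ l χ = ψ := fun χ => by
    rw [hlψ χ, classInner_coe]
    by_cases h : l χ = ψ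
    · simp [h, irr_degree_ne_zero χ.2]
    · simp [h]
  rw [Nat.card_congr (Equiv.subtypeEquivRight hiff), Nat.card_eq_fintype_card, Fintype.card_subtype]
  have hR : Nat.card {C : ConjClasses (G ⧸ N) // ∃ g : G, ConjClasses.mk (g : G ⧸ N) = C ∧
      ∀ x : G, x⁻¹ * g⁻¹ * x * g ∈ N → x * g = g * x} = S.card := by
    rw [Nat.card_eq_fintype_card, Fintype.card_subtype]
  rw [hR]
  have hclass : ∀ C : ConjClasses (G ⧸ N), ∑ q ∈ Finset.univ.filter (fun q => ConjClasses.mk q = C),
      (Nat.card (Subgroup.centralizer ({q} : Set (G ⧸ N))) : ℂ) = (Nat.card (G ⧸ N) : ℂ) := by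
    intro C
    obtain ⟨a, rfl⟩ := ConjClasses.exists_rep C
    rw [Finset.sum_congr rfl (g := fun _ => (Nat.card (Subgroup.centralizer ({a} : Set (G ⧸ N))) : ℂ))
      fun q hq => by rw [card_centralizer_eq_of_isConj
        (ConjClasses.mk_eq_mk_iff_isConj.mp (Finset.mem_filter.mp hq).2)],
      Finset.sum_const, nsmul_eq_mul, ← Nat.cast_mul]
    congr 1
    rw [show (Finset.univ.filter fun q => ConjClasses.mk q = ConjClasses.mk a).card =
      Nat.card {q : G ⧸ N // IsConj q a} by
        rw [Nat.card_eq_fintype_card, Fintype.card_subtype]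
        exact congrArg Finset.card (Finset.filter_congr fun q _ => ConjClasses.mk_eq_mk_iff_isConj),
      card_isConj_eq_index, mul_comm, Subgroup.card_mul_index]
  have htot : ((Finset.univ.filter fun χ : Cfsg.IrrCharacter G => l χ = ψ).card : ℂ) * (Nat.card G : ℂ) =
      (S.card : ℂ) * (Nat.card G : ℂ) := by
    have e1 : ((Finset.univ.filter fun χ : Cfsg.IrrCharacter G => l χ = ψ).card : ℂ) * (Nat.card G : ℂ) =
        ∑ g : G, ∑ χ : Cfsg.IrrCharacter G,
          if l χ = ψ then (χ : G → ℂ) g * conj ((χ : G → ℂ) g) else 0 := by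
      rw [Finset.sum_comm, ← nsmul_eq_mul, ← Finset.sum_const, Finset.sum_filter]
      refine Finset.sum_congr rfl fun χ _ => ?_
      split_ifs with h
      · have := classInner_irr_self χ.2
        rw [classInner, inv_mul_eq_one₀ hG0] at this
        rw [← this, Nat.card_eq_fintype_card]
      · simp
    rw [e1, Finset.sum_congr rfl fun g _ => hpoint g]
    let F : G ⧸ N → ℂ := fun q => if ConjClasses.mk q ∈ S then
      (Nat.card (Subgroup.centralizer ({q} : Set (G ⧸ N))) : ℂ) else 0
    have e2 : ∀ g : G, (if good g then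
        (Nat.card (Subgroup.centralizer ({(g : G ⧸ N)} : Set (G ⧸ N))) : ℂ) else 0) = F (g : G ⧸ N) :=
      fun g => by simp only [F, hgood g]
    rw [Finset.sum_congr rfl fun g _ => e2 g,
      Fintype.sum_equiv (Subgroup.groupEquivQuotientProdSubgroup (s := N)) (fun g : G => F (g : G ⧸ N))
        (fun z => F z.1) (fun g => rfl),
      Fintype.sum_prod_type, ← Finset.sum_fiberwise Finset.univ ConjClasses.mk]
    simp only [Finset.sum_const, Finset.card_univ, nsmul_eq_mul]
    rw [Finset.sum_congr rfl (g := fun C => if C ∈ S then (Nat.card G : ℂ) else 0) fun C _ => ?_,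
      Finset.sum_ite_mem, Finset.univ_inter, Finset.sum_const, nsmul_eq_mul]
    rw [Finset.sum_congr rfl (g := fun q => (Fintype.card N : ℂ) * if C ∈ S then
      (Nat.card (Subgroup.centralizer ({q} : Set (G ⧸ N))) : ℂ) else 0) fun q hq => by
        simp only [F, (Finset.mem_filter.mp hq).2]]
    split_ifs with h
    · rw [← Finset.mul_sum, hclass, Subgroup.card_eq_card_quotient_mul_card_subgroup N,
        Nat.card_eq_fintype_card (α := N), Nat.cast_mul, mul_comm]
    · simp
  exact_mod_cast mul_right_cancel₀ hG0 htot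

end Cfsg.Agent.S4567
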