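import Cfsg.Statements.S4570
import Cfsg.Agent.Lib.EightSeven.Cases
import Cfsg.Agent.Lib.EightSeven.FpfThree
import Cfsg.Agent.Lib.EightSeven.FpfFive
import Cfsg.Agent.Lib.EightSeven.Transitive

set_option autoImplicit false
set_option linter.style.haveILetI false
open Cfsg

namespace Cfsg.Agent.S4570

open CfsgLib.Blocks CfsgLib.EightSeven in
/-- A fixed point free action is a Frobenius action. -/
theorem isFrob_of_fixedPart {G : Type*} [Group G] [Fintype G] (P : Sylow 2 G)
    (h : IsFixedPart (P : Subgroup G) ⊥) : AbelianFrob.IsFrob P := fun y hy hy1 =>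
  le_antisymm
    (fun n hn => h.2.2 y hy (fun e => hy1 (Subgroup.mem_bot.mp e)) n (Subgroup.mem_inf.mp hn).2
      (mul_inv_eq_iff_eq_mul.mpr
        (Subgroup.mem_centralizer_singleton_iff.mp (Subgroup.mem_inf.mp hn).1)))
    (fun n hn => Subgroup.mem_inf.mpr ⟨Subgroup.mem_centralizer_singleton_iff.mpr
      (Subgroup.mem_centralizer_iff.mp hn y hy).symm, centralizer_le_normalizer _ hn⟩)

open CfsgLib.Blocks CfsgLib.EightSeven in
/-- A transitive fixed point free action forces exponent two. -/
theorem exp_of_transitive {G : Type*} [Group G] [Fintype G] (P : Sylow 2 G) (h2 : 2 ∣ Nat.card (P : Subgroup G))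
    (hfix : IsFixedPart (P : Subgroup G) ⊥)
    (he : inertia (P : Subgroup G) + 1 = Nat.card (P : Subgroup G)) :
    ∀ z ∈ (P : Subgroup G), z * z = 1 := by
  classical
  haveI : Fact (Nat.Prime 2) := ⟨Nat.prime_two⟩
  obtain ⟨z₀, hz₀⟩ := exists_prime_orderOf_dvd_card' 2 h2
  have hne : (z₀ : G) ≠ 1 := fun h => by
    rw [← Subgroup.orderOf_coe, h, orderOf_one] at hz₀
    omega
  have hx : IsRegularPoint P z₀ := ⟨hz₀, fun w hw hwz => by
    obtain ⟨n, rfl⟩ := hw
    rw [← MonoidHom.mem_ker, Subgroup.normalizerMonoidHom_ker, Subgroup.mem_subgroupOf]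
    exact hfix.2.2 _ z₀.2 (fun e => hne (Subgroup.mem_bot.mp e)) _ n.2
      ((AbelianFrob.normalizerMonoidHom_coe P n z₀).symm.trans (congrArg Subtype.val hwz))⟩
  have hlt := card_autG_lt hx
  rw [← inertia_eq] at hlt
  have hle := Nat.card_le_card_of_injective
    (Subtype.val : {z : (P : Subgroup G) // z ^ 2 = 1} → (P : Subgroup G)) Subtype.val_injective
  have hsur := ((Nat.bijective_iff_injective_and_card
    (Subtype.val : {z : (P : Subgroup G) // z ^ 2 = 1} → (P : Subgroup G))).mpr
    ⟨Subtype.val_injective, by omega⟩).2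
  intro z hz
  obtain ⟨⟨w, hw⟩, he'⟩ := hsur ⟨z, hz⟩
  subst he'
  rw [← sq]
  exact congrArg Subtype.val hw

/-- Let G be a finite group with a commutative Sylow 2-subgroup P and M a maximal ideal of the algebraic integers containing 2, and suppose some involution x of G has the property that the principal 2-block of its centralizer has 2-regular rank one. If P has order 8 then the principal 2-block of G contains exactly 8 irreducible characters, and if P has order 16 it contains 8 or 16. -/
theorem result {G : Type*} [Group G] [Finite G] (M : Ideal Cfsg.AlgInt) (hM : Cfsg.IsPModular 2 M) (P : Sylow 2 G) (hab : IsMulCommutative P) (x : G) (hx : orderOf x = 2) (hl : Cfsg.blockRank 2 (Cfsg.principalBlock M ↥(Subgroup.centralizer ({x} : Set G))) = 1) : (Nat.card P = 8 → Nat.card (Cfsg.principalBlock M G) = 8) ∧ (Nat.card P = 16 → Nat.card (Cfsg.principalBlock M G) = 8 ∨ Nat.card (Cfsg.principalBlock M G) = 16) := by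
  classical
  have := Fintype.ofFinite G
  have : Fact (Nat.Prime 2) := ⟨Nat.prime_two⟩
  have := CfsgLib.Blocks.isPrime_of_isPModular hM
  obtain ⟨Q, hQ⟩ := (IsPGroup.of_card (p := 2) (G := Subgroup.zpowers x) (n := 1)
    (by rw [Nat.card_zpowers, hx, pow_one])).exists_le_sylow
  have hxQ : x ∈ (Q : Subgroup G) := hQ (Subgroup.mem_zpowers x)
  have eQ : (P : Subgroup G) ≃* (Q : Subgroup G) := P.equiv Q
  have habQ : IsMulCommutative (Q : Subgroup G) := ⟨⟨fun a b => by
    obtain ⟨a, rfl⟩ := eQ.surjective a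
    obtain ⟨b, rfl⟩ := eQ.surjective b
    rw [← map_mul, hab.is_comm.comm, map_mul]⟩⟩
  have hcard : Nat.card P = Nat.card (Q : Subgroup G) := Nat.card_congr eQ.toEquiv
  rw [hcard]
  refine CfsgLib.EightSeven.of_bases hM Q habQ
    (CfsgLib.EightSeven.isRegularPoint_of_rank Q hM habQ (x := ⟨x, hxQ⟩)
      ((Subgroup.orderOf_mk x hxQ).trans hx) hl) ?_ ?_ ?_ ?_ ?_
  · intro G _ _ P hab h4 hfix he
    have hexp := exp_of_transitive P (by omega) hfix (by omega)
    exact ((CfsgLib.EightSeven.card_transitive P hM (fun a ha b hb =>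
      congrArg Subtype.val (hab.is_comm.comm ⟨a, ha⟩ ⟨b, hb⟩)) hexp hfix (by omega) (by omega)).2.1
      (by omega)).trans h4
  · intro G _ _ P hab h8 hfix he
    have hexp := exp_of_transitive P (by omega) hfix (by omega)
    exact ((CfsgLib.EightSeven.card_transitive P hM (fun a ha b hb =>
      congrArg Subtype.val (hab.is_comm.comm ⟨a, ha⟩ ⟨b, hb⟩)) hexp hfix (by omega) (by omega)).2.1
      (by omega)).trans h8
  · intro G _ _ P hab h16 hfix he
    have h := CfsgLib.EightSeven.card_principal_three P hM hab (isFrob_of_fixedPart P hfix)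
      ((CfsgLib.EightSeven.inertia_eq P).symm.trans he) (by rw [h16]; norm_num)
    rw [h16] at h
    omega
  · intro G _ _ P hab h16 hexp hfix he
    refine CfsgLib.EightSeven.card_principal_five P hM hab (isFrob_of_fixedPart P hfix) (fun z hz => ?_)
      h16 ((CfsgLib.EightSeven.inertia_eq P).symm.trans he)
    have := congrArg Subtype.val (hexp ⟨z, hz⟩)
    simpa [sq] using this
  · intro G _ _ P hab h16 hexp hfix he
    have hexp' : ∀ z ∈ (P : Subgroup G), z * z = 1 := fun z hz => by
      have := congrArg Subtype.val (hexp ⟨z, hz⟩)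
      simpa [sq] using this
    exact (CfsgLib.EightSeven.card_transitive P hM (fun a ha b hb =>
      congrArg Subtype.val (hab.is_comm.comm ⟨a, ha⟩ ⟨b, hb⟩)) hexp' hfix (by omega) (by omega)).2.2 h16

end Cfsg.Agent.S4570
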