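import Cfsg.Statements.S4571
import Cfsg.Agent.Lib.Blocks.RegularCriterion
import Cfsg.Agent.Lib.Blocks.CentralDefect
import Cfsg.Agent.Lib.Blocks.Rank
import Cfsg.Agent.Lib.Blocks.Inflate
import Cfsg.Agent.Lib.Blocks.BrauerFeit

set_option autoImplicit false
open Cfsg
open scoped CfsgLib.Char

namespace Cfsg.Agent.S4571

/-- Let Q be a normal p-subgroup of the finite group G with G = Q·C_G(Q), and M a maximal ideal of the algebraic integers containing p. Then the principal p-blocks of G and of G/Q have the same p-regular rank (the same number of irreducible Brauer characters). -/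
theorem result {G : Type*} [Group G] [Finite G] (p : ℕ) [Fact p.Prime] (M : Ideal Cfsg.AlgInt) (hM : Cfsg.IsPModular p M) (Q : Subgroup G) [Q.Normal] (hQ : IsPGroup p Q) (hsup : Q ⊔ Subgroup.centralizer (Q : Set G) = ⊤) : Cfsg.blockRank p (Cfsg.principalBlock M G) = Cfsg.blockRank p (Cfsg.principalBlock M (G ⧸ Q)) := by
  classical
  have : Fintype G := Fintype.ofFinite G
  have : Fintype (G ⧸ Q) := Fintype.ofFinite _
  have := CfsgLib.Blocks.isPrime_of_isPModular hM
  set π := QuotientGroup.mk' Q with hπ
  have hπs : Function.Surjective π := QuotientGroup.mk'_surjective Q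
  let inf : IrrCharacter (G ⧸ Q) → IrrCharacter G := CfsgLib.Blocks.inflate π hπs
  have hconj : ∀ (x g : G), IsPRegular p g → IsPRegular p (x * g * x⁻¹) := fun x g hg => by
    rwa [IsPRegular, show orderOf (x * g * x⁻¹) = orderOf g from
      orderOf_injective (MulAut.conj x).toMonoidHom (MulAut.conj x).injective g]
  have hlu : ∀ s t : G, IsPRegular p s → IsPRegular p t → π s = π t → s = t := fun s t hs ht h =>
    CfsgLib.Blocks.lift_unique hQ hsup hs ht (QuotientGroup.eq.mp h)
  have himg : ∀ s : G, IsPRegular p s → IsPRegular p (π s) := fun s hs h =>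
    hs (h.trans (orderOf_map_dvd π s))
  have hlift : ∀ q : G ⧸ Q, IsPRegular p q → ∃ s : G, IsPRegular p s ∧ π s = q := by
    intro q hq
    obtain ⟨g, rfl⟩ := hπs q
    obtain ⟨x, hx, -⟩ := CfsgLib.Blocks.exists_isPPart (Fact.out : p.Prime) g
    have hxQ := CfsgLib.Blocks.pPart_mem_of_regular_image hx hq
    refine ⟨x⁻¹ * g, CfsgLib.Blocks.pPart_mul_eq hx, ?_⟩
    rw [map_mul, map_inv, show π x = 1 from (QuotientGroup.eq_one_iff x).mpr hxQ, inv_one, one_mul]
  have hcc : ∀ η : IrrCharacter (G ⧸ Q), ∀ s : G, IsPRegular p s →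
      centralChar (inf η : G → ℂ) s = centralChar (η : G ⧸ Q → ℂ) (π s) := by
    intro η s hs
    have : Subsingleton {h : G // IsConj s h ∧ π h = π s} := ⟨fun a b => by
      obtain ⟨x, hx⟩ := isConj_iff.mp a.2.1
      obtain ⟨y, hy⟩ := isConj_iff.mp b.2.1
      exact Subtype.ext (hlu _ _ (hx ▸ hconj x s hs) (hy ▸ hconj y s hs) (a.2.2.trans b.2.2.symm))⟩
    have : Nonempty {h : G // IsConj s h ∧ π h = π s} := ⟨⟨s, IsConj.refl s, rfl⟩⟩
    show centralChar ((η : G ⧸ Q → ℂ) ∘ π) s = _
    rw [CfsgLib.Blocks.centralChar_comp π hπs, Nat.card_unique, Nat.cast_one, one_mul]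
  have hmem : ∀ η, inf η ∈ principalBlock M G ↔ η ∈ principalBlock M (G ⧸ Q) := by
    intro η
    have hidx : ∀ s : G, IsPRegular p s → (Subgroup.centralizer ({s} : Set G)).index =
        (Subgroup.centralizer ({π s} : Set (G ⧸ Q))).index := by
      intro s hs
      have h : centralChar ((fun _ : G ⧸ Q => (1 : ℂ)) ∘ π) s =
          centralChar (fun _ : G ⧸ Q => (1 : ℂ)) (π s) := hcc (CfsgLib.Blocks.trivIrr _) s hs
      simpa [centralChar] using h
    constructor
    · intro h
      rw [CfsgLib.Blocks.mem_principalBlock_iff] at h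
      refine CfsgLib.Blocks.mem_principalBlock_of_regular hM fun q hq => ?_
      obtain ⟨s, hs, rfl⟩ := hlift q hq
      rw [← hcc η s hs, ← hidx s hs]
      exact h s
    · intro h
      rw [CfsgLib.Blocks.mem_principalBlock_iff] at h
      refine CfsgLib.Blocks.mem_principalBlock_of_regular hM fun s hs => ?_
      rw [hcc η s hs, hidx s hs]
      exact h _
  set Φ : (G ⧸ Q → ℂ) →ₗ[ℂ] (G → ℂ) :=
    { toFun := fun f g => if IsPRegular p g then f (π g) else 0
      map_add' := fun f f' => by funext g; by_cases h : IsPRegular p g <;> simp [h]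
      map_smul' := fun c f => by funext g; by_cases h : IsPRegular p g <;> simp [h] }
  have hΦapp : ∀ f g, Φ f g = if IsPRegular p g then f (π g) else 0 := fun f g => rfl
  have hΦ : ∀ η : IrrCharacter (G ⧸ Q),
      Φ (pRegularPart p (η : G ⧸ Q → ℂ)) = pRegularPart p (inf η : G → ℂ) := by
    intro η
    funext g
    rw [hΦapp, CfsgLib.Blocks.pRegularPart_eq_regPart, CfsgLib.Blocks.pRegularPart_eq_regPart]
    by_cases h : IsPRegular p g
    · rw [if_pos h, CfsgLib.Blocks.regPart_of_regular h, CfsgLib.Blocks.regPart_of_regular (himg g h)]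
      rfl
    · rw [if_neg h, CfsgLib.Blocks.regPart_of_singular h]
  have hB : CfsgLib.Blocks.IsBlockUnion M (principalBlock M G) :=
    CfsgLib.Blocks.IsPBlock.isBlockUnion CfsgLib.Blocks.isPBlock_principalBlock
  set V := Submodule.span ℂ
    ((fun χ : IrrCharacter G => pRegularPart p (χ : G → ℂ)) '' principalBlock M G)
  set W := Submodule.span ℂ
    ((fun η : IrrCharacter (G ⧸ Q) => pRegularPart p (η : G ⧸ Q → ℂ)) '' principalBlock M (G ⧸ Q))
  have hsuppW : ∀ f ∈ W, ∀ q, ¬ IsPRegular p q → f q = 0 := by
    intro f hf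
    induction hf using Submodule.span_induction with
    | mem x hx =>
      obtain ⟨η, -, rfl⟩ := hx
      exact fun q hq => CfsgLib.Blocks.regPart_of_singular hq
    | zero => exact fun _ _ => rfl
    | add x y _ _ hx hy => exact fun q hq => by simp [hx q hq, hy q hq]
    | smul c x _ hx => exact fun q hq => by simp [hx q hq]
  have hmap : W.map Φ = V := by
    refine le_antisymm ?_ (Submodule.span_le.mpr ?_)
    · rw [Submodule.map_span, Submodule.span_le]
      rintro _ ⟨_, ⟨η, hη, rfl⟩, rfl⟩
      exact Submodule.subset_span ⟨inf η, (hmem η).mpr hη, (hΦ η).symm⟩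
    · rintro _ ⟨χ, hχ, rfl⟩
      set f : G ⧸ Q → ℂ := fun q =>
        if h : IsPRegular p q then (χ : G → ℂ) (hlift q h).choose else 0
      have hfs : ∀ s : G, IsPRegular p s → f (π s) = (χ : G → ℂ) s := fun s hs => by
        simp only [f, dif_pos (himg s hs)]
        rw [hlu _ s (hlift _ (himg s hs)).choose_spec.1 hs (hlift _ (himg s hs)).choose_spec.2]
      have hfc : IsClassFunction (G ⧸ Q) f := by
        intro q y
        obtain ⟨z, rfl⟩ := hπs y
        by_cases hq : IsPRegular p q
        · obtain ⟨s, hs, rfl⟩ := hlift q hq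
          rw [← map_inv, ← map_mul, ← map_mul, hfs s hs, hfs _ (hconj z s hs),
            CfsgLib.Blocks.irr_classFunction χ s z]
        · have hq' : ¬ IsPRegular p (π z * q * (π z)⁻¹) := by
            rwa [IsPRegular, show orderOf (π z * q * (π z)⁻¹) = orderOf q from
              orderOf_injective (MulAut.conj (π z)).toMonoidHom (MulAut.conj _).injective q]
          simp only [f, dif_neg hq, dif_neg hq']
      set c := fun η : IrrCharacter (G ⧸ Q) => classInner f (η : G ⧸ Q → ℂ)
      have hexp : pRegularPart p (χ : G → ℂ) =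
          ∑ η : IrrCharacter (G ⧸ Q), c η • pRegularPart p (inf η : G → ℂ) := by
        funext g
        rw [CfsgLib.Blocks.pRegularPart_eq_regPart, Finset.sum_apply]
        by_cases h : IsPRegular p g
        · rw [CfsgLib.Blocks.regPart_of_regular h, ← hfs g h]
          conv_lhs => rw [CfsgLib.Char.classFunction_expansion hfc]
          rw [Finset.sum_apply]
          refine Finset.sum_congr rfl fun η _ => ?_
          rw [Pi.smul_apply, Pi.smul_apply, CfsgLib.Blocks.pRegularPart_eq_regPart,
            CfsgLib.Blocks.regPart_of_regular h]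
          rfl
        · rw [CfsgLib.Blocks.regPart_of_singular h, Finset.sum_eq_zero fun η _ => ?_]
          rw [Pi.smul_apply, CfsgLib.Blocks.pRegularPart_eq_regPart,
            CfsgLib.Blocks.regPart_of_singular h, smul_zero]
      set t : Finset (IrrCharacter (G ⧸ Q)) := {η | η ∈ principalBlock M (G ⧸ Q)}
      set w : G → ℂ := ∑ η ∈ tᶜ, c η • pRegularPart p (inf η : G → ℂ)
      have hw0 : w = 0 := by
        have horth : ∀ η ∈ tᶜ, ∀ ψ : IrrCharacter G, ψ ∈ principalBlock M G →
            classInner (pRegularPart p (inf η : G → ℂ)) (pRegularPart p (ψ : G → ℂ)) = 0 := by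
          intro η hη ψ hψ
          rw [CfsgLib.Blocks.pRegularPart_eq_regPart, CfsgLib.Blocks.pRegularPart_eq_regPart,
            CfsgLib.Blocks.classInner_regPart_regPart, CfsgLib.Blocks.classInner_regPart_comm]
          refine CfsgLib.Blocks.classInner_regPart_eq_zero hM hB hψ fun h => ?_
          exact (Finset.mem_compl.mp hη) (Finset.mem_filter.mpr ⟨Finset.mem_univ _, (hmem η).mp h⟩)
        have hwV : w ∈ V := by
          have hsplit := Finset.sum_add_sum_compl t fun η => c η • pRegularPart p (inf η : G → ℂ)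
          rw [← hexp] at hsplit
          rw [show w = pRegularPart p (χ : G → ℂ) - ∑ η ∈ t, c η • pRegularPart p (inf η : G → ℂ)
            from eq_sub_of_add_eq' hsplit]
          exact V.sub_mem (Submodule.subset_span ⟨χ, hχ, rfl⟩) (V.sum_mem fun η hη =>
            V.smul_mem _ (Submodule.subset_span
              ⟨inf η, (hmem η).mpr (Finset.mem_filter.mp hη).2, rfl⟩))
        have hwo : ∀ v ∈ V, classInner w v = 0 := by
          intro v hv
          induction hv using Submodule.span_induction with
          | mem x hx =>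
            obtain ⟨ψ, hψ, rfl⟩ := hx
            rw [CfsgLib.Char.classInner_sum_left]
            refine Finset.sum_eq_zero fun η hη => ?_
            rw [CfsgLib.Char.classInner_smul_left, horth η hη ψ hψ, mul_zero]
          | zero => exact CfsgLib.Char.classInner_zero_right _
          | add x y _ _ hx hy => rw [CfsgLib.Char.classInner_add_right, hx, hy, add_zero]
          | smul a x _ hx => rw [CfsgLib.Char.classInner_smul_right, hx, mul_zero]
        exact CfsgLib.Char.eq_zero_of_classInner_self (hwo w hwV)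
      refine ⟨∑ η ∈ t, c η • pRegularPart p (η : G ⧸ Q → ℂ), W.sum_mem fun η hη =>
        W.smul_mem _ (Submodule.subset_span ⟨η, (Finset.mem_filter.mp hη).2, rfl⟩), ?_⟩
      rw [map_sum]
      show _ = pRegularPart p (χ : G → ℂ)
      rw [hexp, ← Finset.sum_add_sum_compl t, show (∑ η ∈ tᶜ, _) = (0 : G → ℂ) from hw0, add_zero]
      exact Finset.sum_congr rfl fun η _ => by rw [map_smul, hΦ]
  have hinj : LinearMap.ker (Φ.domRestrict W) = ⊥ := by
    rw [LinearMap.ker_eq_bot']
    intro f hf
    refine Subtype.ext (funext fun q => ?_)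
    by_cases hq : IsPRegular p q
    · obtain ⟨s, hs, rfl⟩ := hlift q hq
      have h : (if IsPRegular p s then (f : G ⧸ Q → ℂ) (π s) else 0) = 0 := congrFun hf s
      rwa [if_pos hs] at h
    · exact hsuppW f f.2 q hq
  unfold blockRank
  show Module.finrank ℂ V = Module.finrank ℂ W
  rw [← hmap, ← LinearMap.range_domRestrict, LinearMap.finrank_range_of_inj
    (LinearMap.ker_eq_bot.mp hinj)]

end Cfsg.Agent.S4571
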