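import Cfsg.Statements.S4573
import Mathlib
import Cfsg.Agent.Lib.Char.Monomial

set_option autoImplicit false
universe u
open Cfsg
open scoped ComplexConjugate

namespace Cfsg.Agent.S4573

open CfsgLib.Char

/-- Every irreducible character is induced from a linear character. -/
def Mono (M : Type u) [Group M] : Prop :=
  ∀ [Fintype M] (χ : M → ℂ), IsIrrCharacter M χ →
    ∃ (H : Subgroup M) (lam : H →* ℂˣ), χ = indFun H (fun h => (lam h : ℂ))

section wreath

variable {X : Type u} [Group X] {p : ℕ} [hp : Fact p.Prime]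

variable (K : (Multiplicative (ZMod p)) → Subgroup X) (l : ∀ k, K k →* ℂˣ)

/-- Elements of the base group with all coordinates in the given subgroups. -/
def base : Subgroup (X ≀ᵣ (Multiplicative (ZMod p))) where
  carrier := {w | w.right = 1 ∧ ∀ k, w.left k ∈ K k}
  one_mem' := ⟨rfl, fun k => (K k).one_mem⟩
  mul_mem' {a b} ha hb := ⟨by simp [ha.1, hb.1], fun k => by
    simpa [ha.1] using (K k).mul_mem (ha.2 k) (hb.2 k)⟩
  inv_mem' {a} ha := ⟨by simp [ha.1], fun k => by simpa [ha.1] using (K k).inv_mem (ha.2 k)⟩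

/-- The product linear character of the base subgroup. -/
noncomputable def baseHom : base K →* ℂˣ where
  toFun w := ∏ k, l k ⟨(w : X ≀ᵣ (Multiplicative (ZMod p))).left k, w.2.2 k⟩
  map_one' := Finset.prod_eq_one fun k _ => map_one (l k)
  map_mul' v w := by
    rw [← Finset.prod_mul_distrib]
    refine Finset.prod_congr rfl fun k _ => ?_
    rw [← map_mul]
    congr 1
    apply Subtype.ext
    simp [v.2.1]

theorem ext_base (z : (Multiplicative (ZMod p)) → X) :
    extendByZero (base K) (fun h => (baseHom K l h : ℂ)) ⟨z, 1⟩ =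
      ∏ k, extendByZero (K k) (fun h => (l k h : ℂ)) (z k) := by
  classical
  by_cases hz : ∀ k, z k ∈ K k
  · rw [extendByZero_mem (base K) _ (x := ⟨z, 1⟩) ⟨rfl, hz⟩]
    simp only [baseHom, MonoidHom.coe_mk, OneHom.coe_mk, Units.coe_prod]
    exact Finset.prod_congr rfl fun k _ =>
      (extendByZero_mem (K k) (fun h => (l k h : ℂ)) (hz k)).symm
  · rw [extendByZero_notMem (base K) _ (x := ⟨z, 1⟩) fun h => hz h.2]
    push Not at hz
    obtain ⟨k, hk⟩ := hz
    exact (Finset.prod_eq_zero (Finset.mem_univ k) (extendByZero_notMem (K k) _ hk)).symm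

theorem card_base [Finite X] : Nat.card (base K) = ∏ k, Nat.card (K k) := by
  rw [← Nat.card_pi]
  exact Nat.card_congr
    { toFun := fun w k => ⟨(w : X ≀ᵣ (Multiplicative (ZMod p))).left k, w.2.2 k⟩
      invFun := fun z => ⟨⟨fun k => z k, 1⟩, rfl, fun k => (z k).2⟩
      left_inv := fun w => Subtype.ext (RegularWreathProduct.ext rfl w.2.1.symm)
      right_inv := fun z => rfl }

variable [Fintype X] [Fintype (X ≀ᵣ (Multiplicative (ZMod p)))]

theorem ind_base_off (w : X ≀ᵣ (Multiplicative (ZMod p))) (hw : w.right ≠ 1) :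
    indFun (base K) (fun h => (baseHom K l h : ℂ)) w = 0 := by
  refine mul_eq_zero_of_right _ (Finset.sum_eq_zero fun y _ => extendByZero_notMem _ _ fun h => hw ?_)
  simpa [mul_comm] using h.1

theorem ind_base_on (x : (Multiplicative (ZMod p)) → X) :
    indFun (base K) (fun h => (baseHom K l h : ℂ)) ⟨x, 1⟩ =
      ∑ q : (Multiplicative (ZMod p)), ∏ k, indFun (K k) (fun h => (l k h : ℂ)) (x (q * k)) := by
  classical
  simp only [indFun]
  rw [card_base, Nat.cast_prod]
  rw [Fintype.sum_equiv (RegularWreathProduct.equivProd X (Multiplicative (ZMod p)))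
      (fun y => extendByZero (base K) (fun h => (baseHom K l h : ℂ)) (y⁻¹ * ⟨x, 1⟩ * y))
      (fun y => ∏ k, extendByZero (K k) (fun h => (l k h : ℂ))
        ((y.1 (y.2 * k))⁻¹ * x (y.2 * k) * y.1 (y.2 * k))) fun y => by
      rw [show y⁻¹ * ⟨x, 1⟩ * y =
        (⟨fun k => (y.left (y.right * k))⁻¹ * x (y.right * k) * y.left (y.right * k), 1⟩ :
          X ≀ᵣ (Multiplicative (ZMod p))) by ext <;> simp [mul_comm y.right] ]
      rw [ext_base]
      rfl]
  rw [Fintype.sum_prod_type_right, Finset.mul_sum]
  refine Finset.sum_congr rfl fun q _ => ?_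
  rw [Fintype.sum_equiv ((Equiv.mulLeft q).symm.arrowCongr (Equiv.refl X))
      (fun a => ∏ k, extendByZero (K k) (fun h => (l k h : ℂ))
        ((a (q * k))⁻¹ * x (q * k) * a (q * k)))
      (fun b => ∏ k, extendByZero (K k) (fun h => (l k h : ℂ)) ((b k)⁻¹ * x (q * k) * b k))
      fun a => by simp]
  rw [← Fintype.prod_sum (fun k z => extendByZero (K k) (fun h => (l k h : ℂ))
    (z⁻¹ * x (q * k) * z)), ← Finset.prod_inv_distrib, ← Finset.prod_mul_distrib]

/-- Elements with all coordinates in a fixed subgroup. -/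
def full (H : Subgroup X) : Subgroup (X ≀ᵣ (Multiplicative (ZMod p))) where
  carrier := {w | ∀ k, w.left k ∈ H}
  one_mem' _ := H.one_mem
  mul_mem' {a b} ha hb k := by simpa using H.mul_mem (ha k) (hb _)
  inv_mem' {a} ha k := by simpa using H.inv_mem (ha _)

/-- The product character of the full subgroup. -/
noncomputable def prodHom (H : Subgroup X) (l₀ : H →* ℂˣ) : full (p := p) H →* ℂˣ where
  toFun w := ∏ k, l₀ ⟨(w : X ≀ᵣ (Multiplicative (ZMod p))).left k, w.2 k⟩
  map_one' := Finset.prod_eq_one fun k _ => map_one l₀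
  map_mul' v w := by
    refine (Finset.prod_congr rfl fun k _ => ?_).trans ((Finset.prod_mul_distrib).trans
      (congrArg (_ * ·) (Equiv.prod_comp (Equiv.mulLeft ((v : X ≀ᵣ (Multiplicative (ZMod p))).right)⁻¹)
        fun k => l₀ ⟨(w : X ≀ᵣ (Multiplicative (ZMod p))).left k, w.2 k⟩)))
    rw [← map_mul]
    exact congrArg l₀ (Subtype.ext rfl)

/-- The characters of the cyclic group. -/
noncomputable def cycHom (a : ZMod p) : (Multiplicative (ZMod p)) →* ℂˣ :=
  (AddChar.toMonoidHom (ZMod.stdAddChar.mulShift a)).toHomUnits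

theorem cycHom_apply (a : ZMod p) (q : (Multiplicative (ZMod p))) :
    (cycHom a q : ℂ) = ZMod.stdAddChar (a * Multiplicative.toAdd q) := rfl

/-- The extensions of the product character to the full subgroup. -/
noncomputable def fullHom (H : Subgroup X) (l₀ : H →* ℂˣ) (a : ZMod p) :
    full (p := p) H →* ℂˣ :=
  prodHom H l₀ * (cycHom a).comp (RegularWreathProduct.rightHom.comp (full (p := p) H).subtype)

theorem fullHom_apply (H : Subgroup X) (l₀ : H →* ℂˣ) (a : ZMod p) (w : full (p := p) H) :
    (fullHom H l₀ a w : ℂ) = (∏ k, (l₀ ⟨(w : X ≀ᵣ (Multiplicative (ZMod p))).left k, w.2 k⟩ : ℂ)) *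
      ZMod.stdAddChar (a * Multiplicative.toAdd (w : X ≀ᵣ (Multiplicative (ZMod p))).right) := by
  rw [← cycHom_apply, ← Units.coe_prod, ← Units.val_mul]
  rfl

/-- Translation of the coordinates. -/
def shift (q : (Multiplicative (ZMod p))) : ((Multiplicative (ZMod p)) → X) ≃ ((Multiplicative (ZMod p)) → X) where
  toFun x k := x (q * k)
  invFun x k := x (q⁻¹ * k)
  left_inv x := funext fun k => by simp
  right_inv x := funext fun k => by simp

theorem conj_shift (q : (Multiplicative (ZMod p))) (x : (Multiplicative (ZMod p)) → X) :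
    (RegularWreathProduct.inl q : X ≀ᵣ (Multiplicative (ZMod p)))⁻¹ * ⟨x, 1⟩ *
      ((RegularWreathProduct.inl q : X ≀ᵣ (Multiplicative (ZMod p)))⁻¹)⁻¹ = ⟨shift q x, 1⟩ := by
  ext k
  · simp [shift]
  · simp [shift]

theorem sum_fullHom (H : Subgroup X) (l₀ : H →* ℂˣ) (w : X ≀ᵣ (Multiplicative (ZMod p))) :
    extendByZero (full H) (∑ a : ZMod p, fun h => (fullHom H l₀ a h : ℂ)) w =
      p * extendByZero (base fun _ => H) (fun h => (baseHom (fun _ => H) (fun _ => l₀) h : ℂ)) w := by
  classical
  by_cases hw : w ∈ full H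
  · rw [extendByZero_mem _ _ hw, Finset.sum_apply]
    simp only [fullHom_apply, ← Finset.mul_sum]
    have hs : ∑ a : ZMod p, ZMod.stdAddChar (a * Multiplicative.toAdd w.right) =
        if Multiplicative.toAdd w.right = 0 then (p : ℂ) else 0 := by
      have := AddChar.sum_mulShift (Multiplicative.toAdd w.right) (ZMod.isPrimitive_stdAddChar p)
      rw [ZMod.card] at this
      simpa using this
    rw [hs]
    by_cases hr : w.right = 1
    · rw [if_pos (by simp [hr]), extendByZero_mem (base fun _ => H) _ (x := w) ⟨hr, hw⟩]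
      simp [baseHom, mul_comm]
    · rw [if_neg (by simpa using hr),
        extendByZero_notMem (base fun _ => H) _ (x := w) fun h => hr h.1, mul_zero, mul_zero]
  · rw [extendByZero_notMem _ _ hw,
      extendByZero_notMem (base fun _ => H) _ (x := w) fun h => hw h.2, mul_zero]

theorem ind_full (H : Subgroup X) (l₀ : H →* ℂˣ) :
    ∑ a : ZMod p, indFun (full (p := p) H) (fun h => (fullHom H l₀ a h : ℂ)) =
      indFun (base fun _ : (Multiplicative (ZMod p)) => H) (fun h => (baseHom (fun _ => H) (fun _ => l₀) h : ℂ)) := by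
  classical
  rw [← indFun_sum]
  funext w
  have hc : Nat.card (full (p := p) H) = p * Nat.card (base fun _ : (Multiplicative (ZMod p)) => H) := by
    rw [card_base, Finset.prod_const, Finset.card_univ]
    rw [Nat.card_congr ({ toFun := fun w => (⟨fun k => ⟨_, w.2 k⟩, w.1.right⟩ : ((Multiplicative (ZMod p)) → H) × (Multiplicative (ZMod p)))
                          invFun := fun z => ⟨⟨fun k => z.1 k, z.2⟩, fun k => (z.1 k).2⟩
                          left_inv := fun w => rfl
                          right_inv := fun z => rfl } : full (p := p) H ≃ ((Multiplicative (ZMod p)) → H) × (Multiplicative (ZMod p)))]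
    simp [Nat.card_prod, Nat.card_fun, mul_comm]
  have hp0 : (p : ℂ) ≠ 0 := Nat.cast_ne_zero.mpr hp.out.ne_zero
  simp only [indFun, hc, sum_fullHom, ← Finset.mul_sum, Nat.cast_mul, mul_inv]
  field_simp

omit [Fintype X] in
theorem inner_base [Fintype X] (φ ψ : X ≀ᵣ (Multiplicative (ZMod p)) → ℂ) (h : ∀ w : X ≀ᵣ (Multiplicative (ZMod p)), w.right ≠ 1 → φ w = 0) :
    classInner φ ψ = ((Nat.card X : ℂ) ^ p * p)⁻¹ * ∑ x : (Multiplicative (ZMod p)) → X, φ ⟨x, 1⟩ * conj (ψ ⟨x, 1⟩) := by
  classical
  rw [classInner, RegularWreathProduct.card]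
  simp only [Nat.card_eq_fintype_card (α := (Multiplicative (ZMod p))), Fintype.card_multiplicative, ZMod.card, Nat.cast_mul,
    Nat.cast_pow]
  congr 1
  rw [Fintype.sum_equiv (RegularWreathProduct.equivProd X (Multiplicative (ZMod p))) (fun w => φ w * conj (ψ w))
    (fun y => φ ⟨y.1, y.2⟩ * conj (ψ ⟨y.1, y.2⟩)) fun w => rfl, Fintype.sum_prod_type]
  refine Finset.sum_congr rfl fun x _ => Fintype.sum_eq_single 1 fun q hq => ?_
  rw [h ⟨x, q⟩ hq, zero_mul]

/-- The regular wreath product of an M-group with a group of prime order is an M-group. -/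
theorem mono_wreath (hX : Mono X) {χ : X ≀ᵣ (Multiplicative (ZMod p)) → ℂ} (hχ : IsIrrCharacter _ χ) :
    ∃ (H : Subgroup (X ≀ᵣ (Multiplicative (ZMod p)))) (lam : H →* ℂˣ), χ = indFun H (fun h => (lam h : ℂ)) := by
  classical
  choose Hc lc hlc using fun θ : IrrCharacter X => hX θ.1 θ.2
  let Φ : ((Multiplicative (ZMod p)) → IrrCharacter X) → ((Multiplicative (ZMod p)) → X) → ℂ := fun t x => ∏ k, (t k).1 (x k)
  let J := fun t : (Multiplicative (ZMod p)) → IrrCharacter X => indFun (base fun k => Hc (t k))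
    (fun h => (baseHom (fun k => Hc (t k)) (fun k => lc (t k)) h : ℂ))
  have hJchar : ∀ t, IsCharacter _ (J t) := fun t =>
    isCharacter_indFun _ (isCharacter_monoidHom _)
  have hJoff : ∀ t, ∀ w : X ≀ᵣ (Multiplicative (ZMod p)), w.right ≠ 1 → J t w = 0 := fun t => ind_base_off _ _
  have hJon : ∀ t x, J t ⟨x, 1⟩ = ∑ q : (Multiplicative (ZMod p)), Φ t (fun k => x (q * k)) := fun t x => by
    simp only [J, Φ, ind_base_on, ← hlc]
  have hcl : IsClassFunction _ χ := isClassFunction_of_isCharacter (isCharacter_of_isIrr hχ)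
  have hX0 : (Nat.card X : ℂ) ≠ 0 := Nat.cast_ne_zero.mpr Nat.card_pos.ne'
  have hp0 : (p : ℂ) ≠ 0 := Nat.cast_ne_zero.mpr hp.out.ne_zero
  have hcQ : (Fintype.card (Multiplicative (ZMod p)) : ℂ) = p := by simp
  -- pairing with χ
  have hpair : ∀ t, classInner (J t) χ =
      ((Nat.card X : ℂ) ^ p)⁻¹ * ∑ x : (Multiplicative (ZMod p)) → X, Φ t x * conj (χ ⟨x, 1⟩) := by
    intro t
    rw [inner_base _ _ (hJoff t)]
    simp only [hJon, Finset.sum_mul]
    rw [Finset.sum_comm]
    have hsh : ∀ q : (Multiplicative (ZMod p)), ∑ x : (Multiplicative (ZMod p)) → X, Φ t (fun k => x (q * k)) * conj (χ ⟨x, 1⟩) =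
        ∑ x : (Multiplicative (ZMod p)) → X, Φ t x * conj (χ ⟨x, 1⟩) := fun q =>
      Fintype.sum_equiv (shift q) _ _ fun x => by
        rw [← hcl ⟨x, 1⟩ (RegularWreathProduct.inl q)⁻¹, conj_shift]
        rfl
    simp only [hsh, Finset.sum_const, Finset.card_univ, nsmul_eq_mul, hcQ]
    field_simp
  obtain ⟨t, ht⟩ : ∃ t, classInner (J t) χ ≠ 0 := by
    by_contra hall
    push Not at hall
    let δ : X → ℂ := fun z => if z = 1 then 1 else 0
    have hδ : IsClassFunction X δ := fun g h => by
      simp [δ, mul_inv_eq_iff_eq_mul]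
    have hexp : ∀ z, δ z = ∑ θ : IrrCharacter X, classInner δ θ.1 * θ.1 z := fun z => by
      conv_lhs => rw [classFunction_expansion hδ]
      simp
    have key : ∑ x : (Multiplicative (ZMod p)) → X, (∏ k, δ (x k)) * conj (χ ⟨x, 1⟩) = 0 := by
      have h2 : ∀ x : (Multiplicative (ZMod p)) → X, (∏ k, δ (x k)) =
          ∑ t : (Multiplicative (ZMod p)) → IrrCharacter X, (∏ k, classInner δ (t k).1) * Φ t x := fun x => by
        simp only [hexp, Φ, ← Finset.prod_mul_distrib]
        rw [Fintype.prod_sum]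
      simp only [h2, Finset.sum_mul]
      rw [Finset.sum_comm]
      refine Finset.sum_eq_zero fun t _ => ?_
      have h3 := hall t
      rw [hpair, mul_eq_zero] at h3
      simp only [mul_assoc, ← Finset.mul_sum]
      rw [h3.resolve_left (inv_ne_zero (pow_ne_zero _ hX0)), mul_zero]
    rw [Fintype.sum_eq_single (1 : (Multiplicative (ZMod p)) → X) fun x hx => by
      obtain ⟨k, hk⟩ : ∃ k, x k ≠ 1 := by
        by_contra h; push Not at h; exact hx (funext h)
      rw [Finset.prod_eq_zero (Finset.mem_univ k) (by simp [δ, hk]), zero_mul]] at key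
    simp [δ] at key
    exact irr_degree_ne_zero hχ key
  -- the norm
  have hnorm : classInner (J t) (J t) =
      ((Finset.univ.filter fun q : (Multiplicative (ZMod p)) => ∀ k, t (q⁻¹ * k) = t k).card : ℂ) := by
    have hcl' : IsClassFunction _ (J t) := isClassFunction_indFun _ _
    rw [inner_base _ _ (hJoff t)]
    have hsh : ∀ q : (Multiplicative (ZMod p)), ∑ x : (Multiplicative (ZMod p)) → X, Φ t (fun k => x (q * k)) * conj (J t ⟨x, 1⟩) =
        ∑ x : (Multiplicative (ZMod p)) → X, Φ t x * conj (J t ⟨x, 1⟩) := fun q =>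
      Fintype.sum_equiv (shift q) _ _ fun x => by
        rw [← hcl' ⟨x, 1⟩ (RegularWreathProduct.inl q)⁻¹, conj_shift]
        rfl
    have h1 : ∑ x : (Multiplicative (ZMod p)) → X, J t ⟨x, 1⟩ * conj (J t ⟨x, 1⟩) =
        p * ∑ x : (Multiplicative (ZMod p)) → X, Φ t x * conj (J t ⟨x, 1⟩) := by
      conv_lhs => arg 2; intro x; arg 1; rw [hJon]
      simp only [Finset.sum_mul]
      rw [Finset.sum_comm]
      simp only [hsh, Finset.sum_const, Finset.card_univ, nsmul_eq_mul, hcQ]
    have h2 : ∀ q : (Multiplicative (ZMod p)), ∑ x : (Multiplicative (ZMod p)) → X, Φ t x * conj (Φ t (fun k => x (q * k))) =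
        if ∀ k, t (q⁻¹ * k) = t k then (Nat.card X : ℂ) ^ p else 0 := by
      intro q
      have h3 : ∀ x : (Multiplicative (ZMod p)) → X, Φ t x * conj (Φ t (fun k => x (q * k))) =
          ∏ k, (t k).1 (x k) * conj ((t (q⁻¹ * k)).1 (x k)) := fun x => by
        simp only [Φ, map_prod, Finset.prod_mul_distrib]
        congr 1
        exact Fintype.prod_equiv (Equiv.mulLeft q) _ _ fun k => by simp
      simp only [h3]
      rw [← Fintype.prod_sum fun k z => (t k).1 z * conj ((t (q⁻¹ * k)).1 z)]
      have h4 : ∀ k, ∑ z : X, (t k).1 z * conj ((t (q⁻¹ * k)).1 z) =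
          if t (q⁻¹ * k) = t k then (Nat.card X : ℂ) else 0 := by
        intro k
        have h5 : ∀ φ ψ : X → ℂ, ∑ z, φ z * conj (ψ z) = Nat.card X * classInner φ ψ := fun φ ψ => by
          rw [classInner]; field_simp
        rw [h5, classInner_coe]
        rcases eq_or_ne (t (q⁻¹ * k)) (t k) with h | h
        · rw [if_pos h, h, if_pos rfl, mul_one]
        · rw [if_neg h, if_neg (Ne.symm h), mul_zero]
      simp only [h4]
      split_ifs with h
      · simp [Finset.prod_congr rfl fun k _ => if_pos (h k)]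
      · push Not at h
        obtain ⟨k, hk⟩ := h
        exact Finset.prod_eq_zero (Finset.mem_univ k) (if_neg hk)
    rw [h1]
    simp only [hJon, map_sum, Finset.mul_sum]
    rw [Finset.sum_comm]
    simp only [← Finset.mul_sum, h2]
    rw [Finset.sum_ite, Finset.sum_const_zero, add_zero, Finset.sum_const, nsmul_eq_mul]
    field_simp
  by_cases hconst : ∀ q k : (Multiplicative (ZMod p)), t (q⁻¹ * k) = t k
  · have htc : t = fun _ => t 1 := funext fun k => by simpa using hconst k k |>.symm
    obtain ⟨θ, rfl⟩ : ∃ θ, t = fun _ => θ := ⟨_, htc⟩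
    set c := fun a : ZMod p => indFun (full (p := p) (Hc θ))
      (fun h => (fullHom (Hc θ) (lc θ) a h : ℂ)) with hc
    have hsum : ∑ a, c a = J (fun _ => θ) := ind_full (Hc θ) (lc θ)
    have hcc : ∀ a, IsCharacter _ (c a) := fun a => isCharacter_indFun _ (isCharacter_monoidHom _)
    choose n hn using fun a b => exists_nat_classInner (hcc a) (hcc b)
    have htot : ∑ a, ∑ b, n a b = p := by
      have := hnorm
      rw [← hsum, classInner_sum_left] at this
      simp only [classInner_sum_right, hn] at this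
      simp at this
      exact_mod_cast this
    have hpos : ∀ a, 1 ≤ n a a := by
      intro a
      refine Nat.one_le_iff_ne_zero.mpr fun h0 => ?_
      have h1 : c a = 0 := eq_zero_of_classInner_self (by rw [hn, h0, Nat.cast_zero])
      have h2 := congrFun h1 1
      simp [c, indFun_one, Subgroup.index_ne_zero_of_finite] at h2
    have hone : ∀ a, n a a = 1 := by
      intro a
      by_contra hne
      have h1 : ∑ _b : ZMod p, 1 < ∑ b, n b b :=
        Finset.sum_lt_sum (fun b _ => hpos b) ⟨a, Finset.mem_univ a, by have := hpos a; omega⟩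
      have h2 : ∑ b, n b b ≤ ∑ b, ∑ b', n b b' :=
        Finset.sum_le_sum fun b _ => Finset.single_le_sum (fun b' _ => Nat.zero_le (n b b'))
          (Finset.mem_univ b)
      simp at h1
      omega
    obtain ⟨a, ha⟩ : ∃ a, classInner (c a) χ ≠ 0 := by
      by_contra h
      push Not at h
      exact ht (by rw [← hsum, classInner_sum_left]; exact Finset.sum_eq_zero fun a _ => h a)
    have hi : IsIrrCharacter _ (c a) :=
      isIrr_of_norm_one (hcc a) (by rw [hn, hone, Nat.cast_one])
    refine ⟨_, fullHom (Hc θ) (lc θ) a, ?_⟩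
    by_contra hne
    exact ha (classInner_irr_ne hi hχ (Ne.symm hne))
  · have hS : (Finset.univ.filter fun q : (Multiplicative (ZMod p)) => ∀ k, t (q⁻¹ * k) = t k) = {1} := by
      ext q
      simp only [Finset.mem_filter, Finset.mem_univ, true_and, Finset.mem_singleton]
      refine ⟨fun hq => by_contra fun hq1 => hconst fun r => ?_, fun h => by simp [h]⟩
      let S : Subgroup (Multiplicative (ZMod p)) :=
        { carrier := {r | ∀ k, t (r * k) = t k}
          one_mem' := fun k => by rw [one_mul]
          mul_mem' := fun {a b} ha hb k => by rw [mul_assoc, ha, hb]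
          inv_mem' := fun {a} ha k => by rw [← ha (a⁻¹ * k), mul_inv_cancel_left] }
      haveI : Fact (Nat.card (Multiplicative (ZMod p))).Prime := ⟨by simpa using hp.out⟩
      rcases S.eq_bot_or_eq_top_of_prime_card with h | h
      · exact absurd ((Subgroup.eq_bot_iff_forall S).mp h q⁻¹ hq) (by simpa using hq1)
      · exact (h ▸ Subgroup.mem_top r⁻¹ : r⁻¹ ∈ S)
    have hi : IsIrrCharacter _ (J t) :=
      isIrr_of_norm_one (hJchar t) (by rw [hnorm, hS]; simp)
    refine ⟨_, baseHom (fun k => Hc (t k)) (fun k => lc (t k)), ?_⟩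
    by_contra hne
    exact ht (classInner_irr_ne hi hχ (Ne.symm hne))

end wreath

/-- An extension by a group of prime order embeds in a regular wreath product. -/
theorem exists_embedding {G M : Type u} [Group G] [Group M] {Q : Type*} [Group Q] (f : G →* Q)
    (hf : Function.Surjective f) (e : f.ker →* M) (he : Function.Injective e) :
    ∃ φ : G →* M ≀ᵣ Q, Function.Injective φ := by
  choose s hs using hf
  have hmem : ∀ g q, (s q)⁻¹ * g * s ((f g)⁻¹ * q) ∈ f.ker := fun g q => by
    simp [MonoidHom.mem_ker, hs, mul_assoc]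
  refine ⟨MonoidHom.mk' (fun g => ⟨fun q => e ⟨_, hmem g q⟩, f g⟩) ?_, ?_⟩
  · intro a b
    ext q
    · simp only [RegularWreathProduct.mul_left, Pi.mul_apply, ← map_mul]
      congr 1
      apply Subtype.ext
      simp [mul_assoc]
    · simp
  · intro a b h
    obtain ⟨hl, hr⟩ := RegularWreathProduct.ext_iff.mp h
    have h1 := congrArg Subtype.val (he (congrFun hl 1))
    simp only [MonoidHom.mk'_apply] at hr
    simpa [hr] using h1

/-- A nontrivial finite solvable group maps onto a group of prime order. -/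
theorem exists_prime_quot {G : Type u} [Group G] [Finite G] [Group.IsSolvable G] [Nontrivial G] :
    ∃ p : ℕ, p.Prime ∧ ∃ f : G →* Multiplicative (ZMod p), Function.Surjective f := by
  obtain ⟨N, hN, hle⟩ := (eq_top_or_exists_le_coatom (commutator G)).resolve_left
    (Group.IsSolvable.commutator_lt_top_of_nontrivial (G := G)).ne
  haveI : N.Normal := Subgroup.Normal.of_commutator_le G hle
  obtain ⟨x, hx⟩ : ∃ x, x ∉ N := by
    by_contra h; push Not at h; exact hN.1 ((Subgroup.eq_top_iff' N).mpr h)
  have hne : Nat.card (G ⧸ N) ≠ 1 := fun h => by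
    obtain ⟨hs, -⟩ := Nat.card_eq_one_iff_unique.mp h
    exact hx ((QuotientGroup.eq_one_iff x).mp (hs.elim _ _))
  obtain ⟨p, hp, hdvd⟩ := Nat.exists_prime_and_dvd hne
  haveI := Fact.mk hp
  obtain ⟨y, hy⟩ := exists_prime_orderOf_dvd_card' p hdvd
  have htop : Subgroup.zpowers y = ⊤ := by
    have h1 : N < (Subgroup.zpowers y).comap (QuotientGroup.mk' N) := by
      obtain ⟨g, rfl⟩ := QuotientGroup.mk'_surjective N y
      refine lt_of_le_of_ne (fun n hn => ?_) fun h => ?_
      · rw [Subgroup.mem_comap,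
          show (QuotientGroup.mk' N) n = 1 from (QuotientGroup.eq_one_iff n).mpr hn]
        exact Subgroup.one_mem _
      · have hg : g ∈ N := h.symm ▸ Subgroup.mem_zpowers (QuotientGroup.mk' N g)
        rw [QuotientGroup.mk'_apply, (QuotientGroup.eq_one_iff g).mpr hg, orderOf_one] at hy
        exact hp.one_lt.ne hy
    have h2 := hN.2 _ h1
    rw [← Subgroup.map_comap_eq_self_of_surjective (QuotientGroup.mk'_surjective N)
      (Subgroup.zpowers y), h2, Subgroup.map_top_of_surjective _ (QuotientGroup.mk'_surjective N)]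
  have hcard : Nat.card (G ⧸ N) = p := by
    rw [← hy, ← Nat.card_zpowers, htop, Subgroup.card_top]
  exact ⟨p, hp,
    (mulEquivOfPrimeCardEq hcard (by simp) : G ⧸ N ≃* Multiplicative (ZMod p)).toMonoidHom.comp
      (QuotientGroup.mk' N),
    fun b => by
      obtain ⟨g, hg⟩ := QuotientGroup.mk'_surjective N
        ((mulEquivOfPrimeCardEq hcard (by simp) : G ⧸ N ≃* Multiplicative (ZMod p)).symm b)
      exact ⟨g, by rw [MonoidHom.comp_apply, hg]; exact MulEquiv.apply_symm_apply _ _⟩⟩

theorem aux : ∀ (n : ℕ) (G : Type u) [Group G] [Finite G] [Group.IsSolvable G], Nat.card G = n →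
    ∃ (M : Type u) (_ : Group M) (_ : Finite M), Mono M ∧
      ∃ f : G →* M, Function.Injective f := by
  intro n
  induction n using Nat.strong_induction_on with
  | _ n ih =>
    intro G _ _ _ hn
    rcases subsingleton_or_nontrivial G with hG | hG
    · exact ⟨G, inferInstance, inferInstance, fun χ hχ => CfsgLib.Char.monomial hχ,
        MonoidHom.id G, fun a b h => h⟩
    obtain ⟨p, hp, f, hf⟩ := exists_prime_quot (G := G)
    haveI := Fact.mk hp
    have hlt : Nat.card f.ker < n := by
      subst hn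
      refine lt_of_le_of_ne (Nat.card_le_card_of_injective _ Subtype.val_injective) fun h => ?_
      have htop := Subgroup.eq_top_of_card_eq f.ker h
      obtain ⟨g, hg⟩ := hf (Multiplicative.ofAdd 1)
      have : f g = 1 := MonoidHom.mem_ker.mp (by rw [htop]; exact Subgroup.mem_top g)
      rw [hg] at this
      simp at this
    obtain ⟨M, _, _, hM, e, he⟩ := ih _ hlt f.ker rfl
    haveI : Fintype M := Fintype.ofFinite M
    refine ⟨M ≀ᵣ Multiplicative (ZMod p), inferInstance, inferInstance, fun χ hχ => ?_,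
      exists_embedding f hf e he⟩
    exact mono_wreath (fun χ hχ => hM χ hχ) hχ

/-- Every finite solvable group is isomorphic to a subgroup of a finite M-group, a group each of whose irreducible characters is induced from a homomorphism of some subgroup into ℂˣ. -/
theorem result {G : Type u} [Group G] [Finite G] (hsolv : Group.IsSolvable G) : ∃ (M : Type u) (_ : Group M) (_ : Fintype M), (∀ χ : M → ℂ, Cfsg.IsIrrCharacter M χ → (∃ (H : Subgroup M) (lam : ↥H →* ℂˣ), χ = Cfsg.indFun H (fun h => (lam h : ℂ)))) ∧ ∃ f : G →* M, Function.Injective f := by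
  obtain ⟨M, _, _, hM, e⟩ := aux _ G rfl
  exact ⟨M, inferInstance, Fintype.ofFinite M, fun χ hχ => @hM (Fintype.ofFinite M) χ hχ, e⟩

end Cfsg.Agent.S4573
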