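import Cfsg.Statements.S4574
import Cfsg.Agent.Lib.Char.MeanValue

set_option autoImplicit false
open Cfsg

namespace Cfsg.Agent.S4574

open CfsgLib.Char
open scoped CfsgLib.Char

/-- Let χ be an irreducible character of the finite group G, of degree d, and let Z(χ) be the set of elements g with |χ g| = d (the centre of χ). Then χ vanishes on at least (d ^ 2 - 1) · |Z(χ)| elements of G, with equality when every value |χ g| is 0, 1 or d. -/
theorem result {G : Type*} [Group G] [Fintype G] [DecidableEq G] (χ : G → ℂ) (hχ : Cfsg.IsIrrCharacter G χ) : (Cfsg.charDegree χ ^ 2 - 1) * (Finset.univ.filter (fun g : G => ‖χ g‖ = (Cfsg.charDegree χ : ℝ))).card ≤ (Finset.univ.filter (fun g : G => χ g = 0)).card ∧ ((∀ g : G, ‖χ g‖ = 0 ∨ ‖χ g‖ = 1 ∨ ‖χ g‖ = (Cfsg.charDegree χ : ℝ)) → (Cfsg.charDegree χ ^ 2 - 1) * (Finset.univ.filter (fun g : G => ‖χ g‖ = (Cfsg.charDegree χ : ℝ))).card = (Finset.univ.filter (fun g : G => χ g = 0)).card) := by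
  classical
  have hχc := isCharacter_of_isIrr hχ
  obtain ⟨d, hd0, hd⟩ := exists_nat_degree_irr hχ
  have hdeg : Cfsg.charDegree χ = d := by simp [Cfsg.charDegree, hd]
  rw [hdeg]
  set F := Finset.univ.filter (fun g : G => ‖χ g‖ = (d : ℝ)) with hF
  set Z := Finset.univ.filter (fun g : G => χ g = 0) with hZ
  set T := Finset.univ.filter (fun g : G => ¬ ‖χ g‖ = (d : ℝ)) with hT
  have hnorm : ∀ a b, Subgroup.zpowers a = Subgroup.zpowers b → ‖χ a‖ = (d : ℝ) → ‖χ b‖ = (d : ℝ) := by
    intro a b h ha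
    obtain ⟨n, ρ, hρ, rfl⟩ := hχ
    have hfin : Module.finrank ℂ (Fin n → ℂ) = d := by
      rw [Representation.char_one] at hd; exact_mod_cast hd
    rw [← hfin] at ha ⊢
    obtain ⟨ω, hω⟩ := (norm_character_eq_iff ρ a).mp ha
    obtain ⟨k, -, rfl⟩ := exists_pow_eq_of_zpowers_eq h
    refine (norm_character_eq_iff ρ _).mpr ⟨ω ^ k, ?_⟩
    rw [map_pow, hω]
    show (ω • (1 : Module.End ℂ (Fin n → ℂ))) ^ k = ω ^ k • 1
    rw [smul_pow, one_pow]
  have hclosed : ∀ a b, Subgroup.zpowers a = Subgroup.zpowers b → a ∈ T → b ∈ T := by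
    intro a b h ha
    simp only [hT, Finset.mem_filter, Finset.mem_univ, true_and] at ha ⊢
    exact fun hb => ha (hnorm b a h.symm hb)
  have hb := card_support_le_sum_normSq hχc T hclosed
  have hsupp : (T.filter fun a => χ a ≠ 0).card + Z.card = T.card := by
    rw [← Finset.card_filter_add_card_filter_not (s := T) (fun a => χ a ≠ 0)]
    congr 2
    ext a
    simp only [hZ, hT, Finset.mem_filter, Finset.mem_univ, true_and, not_not, iff_and_self]
    intro h0
    rw [h0, norm_zero]
    exact fun e => hd0.ne (Nat.cast_eq_zero.mp e.symm).symm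
  have hFT := Finset.card_filter_add_card_filter_not (s := (Finset.univ : Finset G)) (fun g : G => ‖χ g‖ = (d : ℝ))
  rw [← hF, ← hT, Finset.card_univ, ← Nat.card_eq_fintype_card] at hFT
  have htot : ∑ a : G, Complex.normSq (χ a) = (Nat.card G : ℝ) := by
    have h1 := classInner_irr_self hχ
    unfold Cfsg.classInner at h1
    rw [inv_mul_eq_one₀ (Nat.cast_ne_zero.mpr Nat.card_pos.ne')] at h1
    simp only [Complex.mul_conj] at h1
    exact_mod_cast h1.symm
  rw [← Finset.sum_filter_add_sum_filter_not Finset.univ (fun g : G => ‖χ g‖ = (d : ℝ)), ← hF, ← hT,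
    Finset.sum_congr rfl (fun a ha => by
      rw [Complex.normSq_eq_norm_sq, (Finset.mem_filter.mp ha).2] :
      ∀ a ∈ F, Complex.normSq (χ a) = (d : ℝ) ^ 2)] at htot
  simp only [Finset.sum_const, nsmul_eq_mul] at htot
  have hG : (Nat.card G : ℝ) = F.card + ((T.filter fun a => χ a ≠ 0).card + Z.card) := by
    rw [← hFT, ← hsupp]; push_cast; ring
  have hd1 : 1 ≤ d ^ 2 := Nat.one_le_pow _ _ hd0
  have hcast : (((d ^ 2 - 1) * F.card : ℕ) : ℝ) = ((d : ℝ) ^ 2 - 1) * F.card := by
    rw [Nat.cast_mul, Nat.cast_sub hd1]; push_cast; ring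
  refine ⟨?_, fun hall => ?_⟩
  · have : (((d ^ 2 - 1) * F.card : ℕ) : ℝ) ≤ (Z.card : ℝ) := by rw [hcast]; nlinarith
    exact_mod_cast this
  · have heq : ∑ a ∈ T, Complex.normSq (χ a) = ((T.filter fun a => χ a ≠ 0).card : ℝ) := by
      rw [Finset.card_filter, Nat.cast_sum]
      refine Finset.sum_congr rfl fun a ha => ?_
      rcases hall a with h | h | h
      · rw [norm_eq_zero] at h; simp [h]
      · have hne : χ a ≠ 0 := fun e => by rw [e, norm_zero] at h; exact zero_ne_one h
        rw [Complex.normSq_eq_norm_sq, h, if_pos hne]; simp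
      · exact absurd h (Finset.mem_filter.mp ha).2
    have : (((d ^ 2 - 1) * F.card : ℕ) : ℝ) = (Z.card : ℝ) := by rw [hcast]; nlinarith
    exact_mod_cast this

end Cfsg.Agent.S4574
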