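import Cfsg.Statements.S4575
import Cfsg.Agent.Lib.Blocks.MajorTwoBound

-- import your own Cfsg.Agent.* helpers here

set_option autoImplicit false
open Cfsg
open scoped CfsgLib.Char

namespace Cfsg.Agent.S4575

/-- Let B be a 2-block of the finite group G (relative to a maximal ideal M of the algebraic integers containing 2) of defect d with defect group D. Let z be an element of D commuting with every element of D, and let b be a block of the centralizer of z with defect group D that induces B (a major subsection (z, b)). If the number of irreducible characters in B exceeds the 2-regular rank of b by at most three, then B contains at most 2 ^ d irreducible characters. -/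
theorem result {G : Type*} [Group G] [Finite G] (M : Ideal Cfsg.AlgInt) (hM : Cfsg.IsPModular 2 M) (B : Set (Cfsg.IrrCharacter G)) (hB : Cfsg.IsPBlock M B) (D : Subgroup G) (hD : Cfsg.IsDefectGroup 2 M B D) (z : G) (hzD : z ∈ D) (hzc : ∀ d ∈ D, d * z = z * d) (b : Set (Cfsg.IrrCharacter ↥(Subgroup.centralizer ({z} : Set G)))) (hb : Cfsg.IsInducedBlock M (Subgroup.centralizer ({z} : Set G)) b B) (hbD : Cfsg.IsDefectGroup 2 M b (D.subgroupOf (Subgroup.centralizer ({z} : Set G)))) (h : Nat.card B ≤ Cfsg.blockRank 2 b + 3) : Nat.card B ≤ 2 ^ Cfsg.blockDefect 2 B := by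
  classical
  have : Fintype G := Fintype.ofFinite _
  have : Fintype (Subgroup.centralizer ({z} : Set G)) := Fintype.ofFinite _
  have : Fintype (Subgroup.zpowers z) := Fintype.ofFinite _
  obtain ⟨hx, hd⟩ := CfsgLib.Blocks.major_data hM hB hD hzD hzc hb hbD
  obtain ⟨F, hF⟩ := CfsgLib.Blocks.exists_system hM hx hB hb
  set d := blockDefect 2 B with hdef
  set s : Finset (IrrCharacter G) := {χ | χ ∈ B} with hs
  set ht : IrrCharacter G → ℕ := fun χ => blockHeight 2 B (χ : G → ℂ) with hht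
  set S : Finset (Subgroup.zpowers z) :=
    {v | Subgroup.zpowers v = Subgroup.zpowers (CfsgLib.Blocks.zpow₀ z)} with hSdef
  have hS : ∀ v, v ∈ S ↔ Subgroup.zpowers v = Subgroup.zpowers (CfsgLib.Blocks.zpow₀ z) := fun v => by
    simp [S]
  have hS0 : (0 : ℝ) < S.card :=
    Nat.cast_pos.mpr (Finset.card_pos.mpr ⟨CfsgLib.Blocks.zpow₀ z, by simp [S]⟩)
  have hms : ∀ {χ}, χ ∈ s ↔ χ ∈ B := fun {χ} => by simp [s]
  have htr : ∀ v ∈ S, ∑ χ ∈ s, (F χ χ v).re = (2 : ℝ) ^ d * blockRank 2 b := fun v hv => by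
    rw [← hd, hs]
    exact_mod_cast hF.trace v ((hS v).mp hv)
  have hrw : ∀ ψ, ∀ v ∈ S, ∑ χ ∈ s, Complex.normSq (F χ ψ v) = (2 : ℝ) ^ d * (F ψ ψ v).re :=
    fun ψ v hv => by
      rw [← hd, hs]
      exact_mod_cast hF.row ψ v ((hS v).mp hv)
  have hk : Nat.card B = s.card := by rw [Nat.card_eq_fintype_card, Fintype.card_subtype]
  rw [hk] at h ⊢
  by_cases hk1 : s.card ≤ 1
  · exact hk1.trans Nat.one_le_two_pow
  have hlt : ∀ χ ∈ s, ∀ v ∈ S, (F χ χ v).re < (2 : ℝ) ^ d := by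
    intro χ hχ v hv
    obtain ⟨χ', hχ', hne, hnz⟩ : ∃ χ' ∈ s, χ' ≠ χ ∧ F χ' χ v ≠ 0 := by
      rcases Nat.eq_zero_or_pos (ht χ) with h0 | h0
      · obtain ⟨χ', hχ', hne⟩ := Finset.exists_mem_ne (by omega : 1 < s.card) χ
        exact ⟨χ', hχ', hne, hF.ne_zero_of_height_zero hM hx hB hb hd (hms.mp hχ') (hms.mp hχ) h0
          ((hS v).mp hv)⟩
      · obtain ⟨η, hη, hη0⟩ := CfsgLib.Blocks.exists_blockHeight_eq_zero hM hB
        refine ⟨η, hms.mpr hη, fun e => ?_, ?_⟩
        · rw [e] at hη0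
          exact h0.ne' hη0
        · rw [← hF.symm χ η v ((hS v).mp hv), map_ne_zero]
          exact hF.ne_zero_of_height_zero hM hx hB hb hd (hms.mp hχ) hη hη0 ((hS v).mp hv)
    have h1 := hrw χ v hv
    rw [← Finset.add_sum_erase s _ hχ] at h1
    have h2 : Complex.normSq (F χ' χ v) ≤ ∑ η ∈ s.erase χ, Complex.normSq (F η χ v) :=
      Finset.single_le_sum (f := fun η => Complex.normSq (F η χ v)) (fun η _ => Complex.normSq_nonneg _)
        (Finset.mem_erase.mpr ⟨hne, hχ'⟩)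
    have h3 := Complex.normSq_pos.mpr hnz
    have h4 := Complex.normSq_apply (F χ χ v)
    rw [hF.im_eq_zero χ v] at h4
    have h5 := hF.diag_pos hM hx hB hb hd (hms.mp hχ) ((hS v).mp hv)
    by_contra hcon
    push Not at hcon
    nlinarith [mul_le_mul_of_nonneg_left hcon h5.le]
  have hSne : S.Nonempty := ⟨CfsgLib.Blocks.zpow₀ z, by simp [S]⟩
  have hheight : ∀ χ ∈ s, ht χ < d := by
    intro χ hχ
    by_contra hcon
    push Not at hcon
    have h1 := hF.pow_mul_card_le_diag hM hx hB hb hd S hS (hms.mp hχ)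
    have h2 := Finset.sum_lt_sum_of_nonempty hSne (hlt χ hχ)
    rw [Finset.sum_const, nsmul_eq_mul] at h2
    have h3 : (2 : ℝ) ^ d ≤ (2 : ℝ) ^ ht χ := pow_le_pow_right₀ one_le_two hcon
    simp only [Nat.cast_ofNat] at h1
    nlinarith [mul_le_mul_of_nonneg_left h3 hS0.le]
  have hbound := CfsgLib.Blocks.three_mul_bound s ht d
    (fun χ => (∑ v ∈ S, ((2 : ℝ) ^ d - (F χ χ v).re)) / S.card)
    (fun χ ψ => (∑ v ∈ S, Complex.normSq ((if χ = ψ then (2 : ℂ) ^ d else 0) - F χ ψ v)) / S.card)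
    ?_ ?_ ?_ ?_ ?_
  · have h1 := Finset.card_filter_add_card_filter_not (s := s) (fun χ => ht χ = 0)
    have h2 : (s.filter fun χ => ¬ ht χ = 0).card * 2 ≤ ∑ χ ∈ s.filter (fun χ => ¬ ht χ = 0), 2 ^ ht χ := by
      rw [← smul_eq_mul]
      exact Finset.card_nsmul_le_sum _ _ _ fun χ hχ =>
        Nat.le_self_pow (Finset.mem_filter.mp hχ).2 2
    omega
  · rw [← Finset.sum_div, div_le_iff₀ hS0, Finset.sum_comm]
    simp only [Finset.sum_sub_distrib, Finset.sum_const, nsmul_eq_mul]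
    rw [Finset.sum_congr rfl htr, Finset.sum_const, nsmul_eq_mul]
    have h' : (s.card : ℝ) ≤ blockRank 2 b + 3 := by exact_mod_cast h
    have h0 : (0 : ℝ) ≤ (2 : ℝ) ^ d * S.card := by positivity
    nlinarith [mul_le_mul_of_nonneg_left h' h0]
  · intro χ hχ h0
    obtain ⟨w, hw, he⟩ := hF.exists_odd_diag hM hx hB hb hd S hS (hms.mp hχ) h0
    have hd1 : d ≠ 0 := by have := hheight χ hχ; omega
    have e : (∑ v ∈ S, ((2 : ℝ) ^ d - (F χ χ v).re)) / S.card = (((2 : ℤ) ^ d - w : ℤ) : ℝ) := by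
      rw [Finset.sum_sub_distrib, Finset.sum_const, nsmul_eq_mul, he]
      push_cast
      field_simp
    refine ⟨(2 : ℤ) ^ d - w, (Even.sub_odd (Even.pow_of_ne_zero even_two hd1) hw), ?_, e⟩
    show (1 : ℝ) ≤ (∑ v ∈ S, ((2 : ℝ) ^ d - (F χ χ v).re)) / S.card
    have h1 : (0 : ℝ) < (∑ v ∈ S, ((2 : ℝ) ^ d - (F χ χ v).re)) / S.card :=
      div_pos (Finset.sum_pos (fun v hv => sub_pos.mpr (hlt χ hχ v hv)) hSne) hS0
    rw [e] at h1 ⊢
    exact_mod_cast Int.cast_pos.mp h1
  · intro χ hχ h0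
    obtain ⟨g, hg, hgr, hgM, hge⟩ := hF.exists_mem_diag hM hx hB hb hd S hS (hms.mp hχ) h0
    obtain ⟨m, hm⟩ := id hx
    have := CfsgLib.Blocks.isPrime_of_isPModular hM
    have hhd := hheight χ hχ
    set c : ℤ := (2 : ℤ) ^ (d - ht χ) with hc
    have hcast : (2 : ℝ) ^ d = (2 : ℝ) ^ ht χ * (c : ℝ) := by
      rw [hc, Int.cast_pow, Int.cast_ofNat, ← pow_add, Nat.add_sub_cancel' hhd.le]
    have hval : ∀ v ∈ S, (2 : ℝ) ^ d - (F χ χ v).re =
        (2 : ℝ) ^ ht χ * (((c : ℂ) - g v).re) := fun v hv => by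
      rw [hge v hv, hcast, Complex.sub_re, Complex.intCast_re, mul_sub]
    have hgc : IsGeneralizedCharacter (Subgroup.zpowers z) (fun v => (c : ℂ) - g v) := by
      have h1 : IsGeneralizedCharacter (Subgroup.zpowers z) (fun _ => (c : ℂ)) := by
        have h2 := CfsgLib.Char.isGeneralized_intCast_smul (CfsgLib.Char.isGeneralized_of_isCharacter
          (CfsgLib.Char.isCharacter_monoidHom (1 : Subgroup.zpowers z →* ℂˣ))) c
        simpa [Pi.smul_def] using h2
      exact CfsgLib.Char.isGeneralized_sub h1 hg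
    have h1 := CfsgLib.Blocks.CyclicValue.two_mul_card_le_sum hM CfsgLib.Blocks.zpow₀_gen (m := m)
      (f := fun v => (c : ℂ) - g v) (by rw [← hm, ← Subgroup.orderOf_coe]; rfl) hgc
      (by rw [map_sub, map_intCast, hgr])
      (CfsgLib.Blocks.memLocalIdeal_sub ((CfsgLib.Blocks.memLocalIdeal_intCast_iff hM).mpr
        (dvd_pow_self _ (by omega))) hgM) S hS fun v hv => by
        have h2 := sub_pos.mpr (hlt χ hχ v hv)
        rw [hval v hv] at h2
        exact (mul_pos_iff_of_pos_left (by positivity)).mp h2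
    rw [le_div_iff₀ hS0, Finset.sum_congr rfl hval, ← Finset.mul_sum, mul_comm (2 : ℝ), mul_assoc]
    exact mul_le_mul_of_nonneg_left h1 (by positivity)
  · intro ψ hψ h0 h1
    rw [← Finset.sum_div, div_le_iff₀ hS0, Finset.sum_comm,
      ← (div_eq_one_iff_eq hS0.ne').mp h1, Finset.mul_sum]
    refine Finset.sum_le_sum fun v hv => ?_
    have e1 := hrw ψ v hv
    rw [← Finset.add_sum_erase s _ hψ] at e1 ⊢
    rw [Finset.sum_congr rfl fun η hη => by
      rw [if_neg (Finset.ne_of_mem_erase hη), zero_sub, Complex.normSq_neg], if_pos rfl]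
    have h4 := Complex.normSq_apply (F ψ ψ v)
    rw [hF.im_eq_zero ψ v] at h4
    have h5 : Complex.normSq ((2 : ℂ) ^ d - F ψ ψ v) = ((2 : ℝ) ^ d - (F ψ ψ v).re) ^ 2 := by
      rw [Complex.normSq_apply, show (2 : ℂ) ^ d = (((2 : ℝ) ^ d : ℝ) : ℂ) by push_cast; rfl,
        Complex.sub_re, Complex.sub_im, Complex.ofReal_re, Complex.ofReal_im, hF.im_eq_zero ψ v]
      ring
    rw [h5]
    nlinarith
  · intro χ hχ ψ hψ h0 _
    rw [le_div_iff₀ hS0]
    by_cases e : χ = ψ
    · subst e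
      simp only [if_true]
      rw [h0, pow_zero, one_pow, one_mul]
      have hgc : IsGeneralizedCharacter (Subgroup.zpowers z) (fun v => (2 : ℂ) ^ d - F χ χ v) := by
        have h2 := CfsgLib.Char.isGeneralized_intCast_smul (CfsgLib.Char.isGeneralized_of_isCharacter
          (CfsgLib.Char.isCharacter_monoidHom (1 : Subgroup.zpowers z →* ℂˣ))) ((2 : ℤ) ^ d)
        exact CfsgLib.Char.isGeneralized_sub (by simpa [Pi.smul_def] using h2) (hF.gen χ χ)
      refine CfsgLib.Char.card_le_sum_normSq_generalized hgc S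
        (fun a c hac ha => (hS c).mpr (hac ▸ (hS a).mp ha)) fun v hv h2 => ?_
      have h3 := congrArg Complex.re h2
      rw [show (2 : ℂ) ^ d = (((2 : ℝ) ^ d : ℝ) : ℂ) by push_cast; rfl, Complex.sub_re,
        Complex.ofReal_re, Complex.zero_re] at h3
      linarith [hlt χ hχ v hv]
    · simp only [if_neg e, zero_sub, Complex.normSq_neg]
      exact hF.pow_mul_card_le_normSq hM hx hB hb hd S hS (hms.mp hχ) (hms.mp hψ) h0

end Cfsg.Agent.S4575
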