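import Cfsg.Statements.S4582
import Cfsg.Agent.Lib.Coprime.Action

set_option autoImplicit false
set_option linter.style.haveILetI false
open Cfsg
open CfsgLib
open scoped Pointwise

namespace Cfsg.Agent.S4582

/-- Let N be a normal subgroup of the finite group G, P a Sylow 2-subgroup of G and Q = P ∩ N. Suppose that P/QP' and Q/Q' are elementary abelian (every square of an element of P lies in the subgroup generated by Q and the derived subgroup of P, and every square of an element of Q lies in the derived subgroup of Q), and that the commutator factor group N/N' has odd order. Then P/P' is elementary abelian. -/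
theorem result {G : Type*} [Group G] [Finite G] (N : Subgroup G) [N.Normal] (P : Sylow 2 G)
    (hP : ∀ x ∈ (P : Subgroup G), x ^ 2 ∈ ((P : Subgroup G) ⊓ N) ⊔ ⁅(P : Subgroup G), (P : Subgroup G)⁆)
    (hQ : ∀ x ∈ (P : Subgroup G) ⊓ N, x ^ 2 ∈ ⁅(P : Subgroup G) ⊓ N, (P : Subgroup G) ⊓ N⁆)
    (hodd : Odd (Nat.card (Abelianization N))) :
    ∀ x ∈ (P : Subgroup G), x ^ 2 ∈ ⁅(P : Subgroup G), (P : Subgroup G)⁆ := by
  classical
  intro x hx
  set H := N ⊔ (P : Subgroup G) with hH
  have hPH : (P : Subgroup G) ≤ H := le_sup_right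
  have hNH : N ≤ H := le_sup_left
  set PH := (P : Subgroup G).subgroupOf H
  let e : PH ≃* (P : Subgroup G) := Subgroup.subgroupOfEquivOfLe hPH
  let ϕ : PH →* Abelianization (P : Subgroup G) := Abelianization.of.comp e.toMonoidHom
  have hker : ∀ (z : G) (hz : z ∈ (P : Subgroup G)),
      Abelianization.of (⟨z, hz⟩ : (P : Subgroup G)) = 1 ↔ z ∈ ⁅(P : Subgroup G), (P : Subgroup G)⁆ := by
    intro z hz
    rw [← MonoidHom.mem_ker, Abelianization.ker_of]
    constructor
    · intro h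
      have := Subgroup.mem_map_of_mem (P : Subgroup G).subtype h
      rwa [Subgroup.map_subtype_commutator] at this
    · intro h
      rw [← Subgroup.map_subtype_commutator] at h
      obtain ⟨w, hw, hwz⟩ := h
      rwa [show (⟨z, hz⟩ : (P : Subgroup G)) = w from Subtype.ext hwz.symm]
  -- elements of `P ∩ N` square into `P'`
  have hsq : ∀ (z : G) (hz : z ∈ (P : Subgroup G)), z ∈ N →
      Abelianization.of (⟨z, hz⟩ : (P : Subgroup G)) ^ 2 = 1 := by
    intro z hz hzN
    rw [← map_pow, show (⟨z, hz⟩ : (P : Subgroup G)) ^ 2 = ⟨z ^ 2, pow_mem hz 2⟩ from rfl, hker]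
    exact Subgroup.commutator_mono inf_le_left inf_le_left (hQ z (Subgroup.mem_inf.mpr ⟨hz, hzN⟩))
  let V := MonoidHom.transfer ϕ
  let A := Abelianization (P : Subgroup G)
  have hA : IsPGroup 2 A := by
    intro a
    obtain ⟨b, rfl⟩ := QuotientGroup.mk_surjective a
    obtain ⟨k, hk⟩ := P.2 b
    exact ⟨k, (congrArg (fun z => (Abelianization.of z : A)) hk |> fun h => by rw [map_pow, map_one] at h; exact h)⟩
  -- the transfer kills `N`
  have hVN : ∀ (n : G) (hn : n ∈ N), V ⟨n, hNH hn⟩ = 1 := by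
    intro n hn
    let r : Abelianization N →* A := Abelianization.lift (V.comp (Subgroup.inclusion hNH))
    have h1 : orderOf (r (Abelianization.of ⟨n, hn⟩)) ∣ Nat.card (Abelianization N) :=
      (orderOf_map_dvd r _).trans (orderOf_dvd_natCard _)
    obtain ⟨k, hk⟩ := IsPGroup.iff_orderOf.mp hA (r (Abelianization.of ⟨n, hn⟩))
    haveI : Fact (Nat.Prime 2) := ⟨Nat.prime_two⟩
    have h2 : k = 0 := by
      by_contra h0
      exact (Nat.not_even_iff_odd.mpr hodd) (even_iff_two_dvd.mpr ((dvd_pow_self 2 h0).trans (hk ▸ h1)))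
    rw [h2, pow_zero, orderOf_eq_one_iff, Abelianization.lift_apply_of] at hk
    exact hk
  have hVP : ∀ (c : G) (hc : c ∈ ⁅(P : Subgroup G), (P : Subgroup G)⁆) (hcH : c ∈ H), V ⟨c, hcH⟩ = 1 := by
    intro c hc hcH
    rw [← Subgroup.map_subtype_commutator] at hc
    obtain ⟨w, hw, hwc⟩ := hc
    have : (Subgroup.inclusion hPH w : H) = ⟨c, hcH⟩ := Subtype.ext hwc
    rw [← this]
    exact MonoidHom.mem_ker.mp (Abelianization.commutator_subset_ker (V.comp (Subgroup.inclusion hPH)) hw)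
  set xP : (P : Subgroup G) := ⟨x, hx⟩
  set xH : H := ⟨x, hPH hx⟩
  have hV2 : V xH ^ 2 = 1 := by
    have h1 := hP x hx
    obtain ⟨a, ha, c, hc, hac⟩ : ∃ a ∈ ((P : Subgroup G) ⊓ N), ∃ c ∈ ⁅(P : Subgroup G), (P : Subgroup G)⁆, a * c = x ^ 2 := by
      have hn : (P : Subgroup G) ⊓ N ≤ Subgroup.normalizer ((⁅(P : Subgroup G), (P : Subgroup G)⁆ : Subgroup G) : Set G) :=
        inf_le_left.trans (Coprime.le_normalizer_commutator Subgroup.le_normalizer Subgroup.le_normalizer)
      rw [← SetLike.mem_coe, Subgroup.coe_mul_of_left_le_normalizer_right _ _ hn] at h1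
      exact h1
    have haH : a ∈ H := hNH (Subgroup.mem_inf.mp ha).2
    have hcH : c ∈ H := hPH ((Subgroup.commutator_le_self (P : Subgroup G)) hc)
    rw [← map_pow, show xH ^ 2 = ⟨a, haH⟩ * ⟨c, hcH⟩ from Subtype.ext hac.symm, map_mul,
      hVN a (Subgroup.mem_inf.mp ha).2, hVP c hc hcH, one_mul]
  haveI : Fintype (Quotient (MulAction.orbitRel (Subgroup.zpowers xH) (H ⧸ PH))) := Fintype.ofFinite _
  haveI : Fintype (H ⧸ PH) := Fintype.ofFinite _
  have hval : V xH ^ 2 = (Abelianization.of xP ^ 2) ^ PH.index := by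
    show MonoidHom.transfer ϕ xH ^ 2 = _
    rw [MonoidHom.transfer_eq_prod_quotient_orbitRel_zpowers_quot, ← Finset.prod_pow,
      Subgroup.index_eq_sum_minimalPeriod PH xH, ← Finset.prod_pow_eq_pow_sum]
    refine Finset.prod_congr rfl fun o _ => ?_
    set f := Function.minimalPeriod (xH • ·) o.out
    set y : H := o.out.out
    have hz := QuotientGroup.out_conj_pow_minimalPeriod_mem PH xH o.out
    have hzP : (y : G)⁻¹ * x ^ f * y ∈ (P : Subgroup G) := hz
    obtain ⟨s, hs, n, hn, hsn⟩ : ∃ s ∈ (P : Subgroup G), ∃ n ∈ N, s * n = (y : G) := by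
      have h1 : (y : G) ∈ ((P : Subgroup G) ⊔ N : Subgroup G) := by rw [sup_comm]; exact y.2
      rw [← SetLike.mem_coe, Subgroup.mul_normal (P : Subgroup G) N] at h1
      exact h1
    have hw : s⁻¹ * x ^ f * s ∈ (P : Subgroup G) := mul_mem (mul_mem (inv_mem hs) (pow_mem hx f)) hs
    set m := (s⁻¹ * x ^ f * s)⁻¹ * ((y : G)⁻¹ * x ^ f * y)
    have hmP : m ∈ (P : Subgroup G) := mul_mem (inv_mem hw) hzP
    have hmN : m ∈ N := by
      rw [show m = ((s⁻¹ * x ^ f * s)⁻¹ * n⁻¹ * (s⁻¹ * x ^ f * s)) * n by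
        simp only [m, ← hsn]; group]
      refine mul_mem ?_ hn
      have := (inferInstance : N.Normal).conj_mem n⁻¹ (inv_mem hn) (s⁻¹ * x ^ f * s)⁻¹
      rwa [inv_inv] at this
    have h3 : ϕ ⟨_, hz⟩ = Abelianization.of xP ^ f * Abelianization.of (⟨m, hmP⟩ : (P : Subgroup G)) := by
      show Abelianization.of (e ⟨_, hz⟩) = _
      rw [show e ⟨_, hz⟩ = (⟨s, hs⟩⁻¹ * xP ^ f * ⟨s, hs⟩) * (⟨m, hmP⟩ : (P : Subgroup G)) from
        Subtype.ext (show (y : G)⁻¹ * x ^ f * y = s⁻¹ * x ^ f * s * m by simp only [m]; group),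
        map_mul, map_mul, map_mul, map_inv, map_pow]
      congr 1
      rw [mul_comm, ← mul_assoc, mul_inv_cancel, one_mul]
    rw [h3, mul_pow, hsq m hmP hmN, mul_one, ← pow_mul, ← pow_mul, mul_comm]
  rw [hV2] at hval
  have hindex : ¬ 2 ∣ PH.index := fun h => P.not_dvd_index (h.trans
    (Subgroup.relIndex_dvd_index_of_le hPH))
  obtain ⟨k, hk⟩ := IsPGroup.iff_orderOf.mp hA (Abelianization.of xP ^ 2)
  have h0 : k = 0 := by
    by_contra h0
    exact hindex ((dvd_pow_self 2 h0).trans (hk ▸ orderOf_dvd_of_pow_eq_one hval.symm))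
  rw [h0, pow_zero, orderOf_eq_one_iff, ← map_pow,
    show xP ^ 2 = (⟨x ^ 2, pow_mem hx 2⟩ : (P : Subgroup G)) from rfl, hker] at hk
  exact hk

end Cfsg.Agent.S4582
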