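import Cfsg.Statements.S4583
import Cfsg.Agent.Lib.Blocks.PairConj
import Cfsg.Agent.Lib.Blocks.MainThird
import Cfsg.Agent.Lib.Blocks.Osima
import Cfsg.Agent.Lib.Blocks.KernelBlock
import Cfsg.Agent.Lib.Blocks.Inflate
import Cfsg.Agent.Lib.Char.Central

set_option autoImplicit false
open Cfsg
open CfsgLib CfsgLib.Blocks
open scoped ComplexConjugate CfsgLib.Char

namespace Cfsg.Agent.S4583

theorem omega_congr_sameBlock {p : ℕ} {M : Ideal AlgInt} (hM : IsPModular p M) {G : Type*} [Group G]
    [Fintype G] {B : Set (IrrCharacter G)} (hB : IsPBlock M B) {χ ψ : IrrCharacter G} (hχ : χ ∈ B)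
    (hψ : ψ ∈ B) {f : G → ℂ} (hf : IsClassFunction G f) (hl : ∀ g, MemLocalRing M (f g)) :
    MemLocalIdeal M (omega (χ : G → ℂ) f - omega (ψ : G → ℂ) f) := by
  classical
  have := isPrime_of_isPModular hM
  have : Fintype (ConjClasses G) := Fintype.ofFinite _
  rw [omega_eq_sum_classes χ hf, omega_eq_sum_classes ψ hf, ← Finset.sum_sub_distrib]
  refine memLocalIdeal_sum _ _ fun c _ => ?_
  rw [← mul_sub]
  exact memLocalIdeal_mul_left (hl _) (IsPBlock.sameBlock hB hχ hψ _)

open scoped Classical in
/-- The sum of the principal block idempotent over a normal subgroup is a unit. -/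
theorem not_memLocalIdeal_sum_normal {p : ℕ} [hp : Fact p.Prime] {M : Ideal AlgInt}
    (hM : IsPModular p M) {G : Type*} [Group G] [Fintype G] (N : Subgroup G) [N.Normal] :
    ¬ MemLocalIdeal M (∑ g ∈ Finset.univ.filter (· ∈ N), blockCoeff (principalBlock M G) g) := by
  classical
  have := isPrime_of_isPModular hM
  obtain ⟨P⟩ : Nonempty (Sylow p G) := inferInstance
  set e := blockCoeff (principalBlock M G) with hedef
  set Cp := Subgroup.centralizer ((P : Subgroup G) : Set G) with hCp
  set H : Subgroup G := (P : Subgroup G) ⊔ Cp with hHdef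
  haveI := Fintype.ofFinite H
  have hPH : (P : Subgroup G) ≤ H := le_sup_left
  have hCH : Cp ≤ H := le_sup_right
  have hHN : H ≤ Subgroup.normalizer ((P : Subgroup G) : Set G) :=
    sup_le Subgroup.le_normalizer (Subgroup.centralizer_le_normalizer _)
  -- the congruence with the local subgroup
  let f : G → ℂ := fun g => if g ∈ N then e g else 0
  have hf : IsClassFunction G f := fun g x => by
    simp only [f]
    have hN : x * g * x⁻¹ ∈ N ↔ g ∈ N :=
      ⟨fun h => by simpa [mul_assoc] using Subgroup.Normal.conj_mem inferInstance _ h x⁻¹,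
        fun h => Subgroup.Normal.conj_mem inferInstance g h x⟩
    exact if_congr hN (isClassFunction_blockCoeff _ g x) rfl
  have hel : ∀ g, MemLocalRing M (e g) := fun g => IsPBlock.memLocalRing_blockCoeff isPBlock_principalBlock g
  have hfl : ∀ g, MemLocalRing M (f g) := fun g => by
    simp only [f]; split
    · exact hel g
    · exact memLocalRing_zero
  have hdef : ∀ {b : Set (IrrCharacter H)}, IsPBlock M b → InducedBlockDefined M H b := fun hb =>
    inducedBlockDefined_of_le_normalizer hM P.isPGroup' hPH hCH hHN hb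
  have hind := isInducedBlock_principal hM (hdef (isPBlock_principalBlock (G := H)))
  have hcong := IsInducedBlock.omega_congr hind (trivIrr_mem_principalBlock H) (trivIrr_mem_principalBlock G) hf hfl
  have e1 : omega (trivIrr G : G → ℂ) f = ∑ g ∈ Finset.univ.filter (· ∈ N), e g := by
    simp only [omega, trivIrr, mul_one, div_one, f, Finset.sum_filter]
  rw [e1] at hcong
  intro hbad
  -- the structure of `H`
  set P' := (P : Subgroup G).subgroupOf H with hP'
  haveI : P'.Normal := (Subgroup.normal_subgroupOf_iff_le_normalizer hPH).mpr hHN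
  have hP'p : IsPGroup p P' := P.isPGroup'.comap_of_injective _ H.subtype_injective
  have hP'i : ¬ p ∣ P'.index := fun h =>
    P.not_dvd_index (h.trans (Subgroup.relIndex_dvd_index_of_le hPH))
  obtain ⟨k, hk⟩ := IsPGroup.iff_card.mp hP'p
  obtain ⟨W, hW⟩ := Subgroup.exists_right_complement'_of_coprime (N := P')
    (by rw [hk]; exact (hp.out.coprime_iff_not_dvd.mpr hP'i).pow_left k)
  have hWcard : Nat.card W = P'.index := hW.symm.index_eq_card.symm
  set π := QuotientGroup.mk' P' with hπ
  haveI := Fintype.ofFinite (H ⧸ P')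
  -- regular elements of `H` lie in `W`
  have hcomm : ∀ w ∈ W, ∀ u ∈ P', w * u = u * w := by
    intro w hw u hu
    obtain ⟨a, ha, c, hc, hac⟩ := (Subgroup.mem_sup_of_normal_left
      (s := P') (t := Cp.subgroupOf H)).mp
        (show w ∈ P' ⊔ Cp.subgroupOf H by
          rw [hP', ← Subgroup.subgroupOf_sup hPH hCH, ← hHdef, Subgroup.subgroupOf_self]
          exact Subgroup.mem_top w)
    have hcu : ∀ u ∈ P', c * u = u * c := fun u hu =>
      Subtype.ext ((Subgroup.mem_centralizer_iff.mp (Subgroup.mem_subgroupOf.mp hc) _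
        (Subgroup.mem_subgroupOf.mp hu)).symm)
    have hca : Commute a c := (hcu a ha).symm
    set m := Nat.card W
    have hwm : w ^ m = 1 := by
      have := pow_card_eq_one' (x := (⟨w, hw⟩ : W))
      exact congrArg Subtype.val this
    rw [← hac, hca.mul_pow] at hwm
    have ham : ∀ v ∈ P', Commute (a ^ m) v := fun v hv => by
      rw [mul_eq_one_iff_eq_inv.mp hwm]
      exact (Commute.pow_left (hcu v hv) m).inv_left
    obtain ⟨j, hj⟩ := hP'p ⟨a, ha⟩
    have hj' : a ^ p ^ j = 1 := congrArg Subtype.val hj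
    have hau : Commute a u := by
      have hco : m.Coprime (p ^ j) := by
        rw [hWcard]
        exact ((hp.out.coprime_iff_not_dvd.mpr hP'i).pow_left j).symm
      have hbez := Nat.gcd_eq_gcd_ab m (p ^ j)
      rw [hco.gcd_eq_one, Nat.cast_one] at hbez
      have he : a = (a ^ m) ^ m.gcdA (p ^ j) := by
        conv_lhs => rw [← zpow_one a, hbez, zpow_add, zpow_mul, zpow_mul, zpow_natCast, zpow_natCast,
          hj', one_zpow, mul_one]
      rw [he]
      exact (ham u hu).zpow_left _
    rw [← hac]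
    exact (hau.mul_left (hcu u hu)).eq
  have hreg : ∀ h : H, IsPRegular p (h : G) → h ∈ W := by
    intro h hr
    obtain ⟨⟨u, w⟩, huw, -⟩ := hW.existsUnique h
    have hcom : Commute (u : H) w := (hcomm w w.2 u u.2).symm
    have hwo : (orderOf (w : H)).Coprime p :=
      ((hp.out.coprime_iff_not_dvd.mpr hP'i).symm).coprime_dvd_left
        (hWcard ▸ (Subgroup.orderOf_coe w ▸ orderOf_dvd_natCard w))
    have huo : orderOf (u : H) ∣ orderOf h := by
      have h1 : (u : H) ^ orderOf h * (w : H) ^ orderOf h = 1 := by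
        rw [← hcom.mul_pow, huw, pow_orderOf_eq_one]
      have h2 : (u : H) ^ orderOf h ∈ P' ⊓ W := by
        refine Subgroup.mem_inf.mpr ⟨P'.pow_mem u.2 _, ?_⟩
        rw [mul_eq_one_iff_eq_inv.mp h1]
        exact W.inv_mem (W.pow_mem w.2 _)
      rw [disjoint_iff.mp hW.disjoint, Subgroup.mem_bot] at h2
      exact orderOf_dvd_of_pow_eq_one h2
    obtain ⟨j, hj⟩ := IsPGroup.iff_orderOf.mp hP'p u
    rw [← Subgroup.orderOf_coe] at hj
    rcases Nat.eq_zero_or_pos j with rfl | hj0
    · rw [← huw, show (u : H) = 1 from orderOf_eq_one_iff.mp (by rw [hj, pow_zero]), one_mul]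
      exact w.2
    · refine absurd ?_ hr
      rw [Subgroup.orderOf_coe]
      exact ((hj ▸ dvd_pow_self p hj0.ne')).trans huo
  have hsupp : ∀ h : H, h ∉ W → e h = 0 := fun h hh =>
    blockCoeff_eq_zero_of_not_regular hM (IsPBlock.isBlockUnion isPBlock_principalBlock)
      fun hr => hh (hreg h hr)
  -- `W` maps bijectively onto the quotient
  have hWbij : Function.Bijective fun w : W => π w := by
    refine (Nat.bijective_iff_injective_and_card _).mpr ⟨fun v w hvw => ?_, hWcard.trans P'.index_eq_card⟩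
    have h1 : (v : H)⁻¹ * w ∈ P' ⊓ W :=
      Subgroup.mem_inf.mpr ⟨QuotientGroup.eq.mp hvw, W.mul_mem (W.inv_mem v.2) w.2⟩
    rw [disjoint_iff.mp hW.disjoint, Subgroup.mem_bot] at h1
    exact Subtype.ext (inv_mul_eq_one.mp h1)
  let σ := (Equiv.ofBijective _ hWbij).symm
  let g : H ⧸ P' → ℂ := fun q => e ((σ q : H) : G)
  have hσ : ∀ q, π (σ q : H) = q := fun q => (Equiv.ofBijective _ hWbij).apply_symm_apply q
  have hsum : ∀ F : H → ℂ, ∑ h : H, e h * F h = ∑ q : H ⧸ P', g q * F (σ q : H) := by
    intro F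
    rw [← Finset.sum_filter_add_sum_filter_not Finset.univ (fun h : H => h ∈ W),
      Finset.sum_eq_zero (s := Finset.univ.filter fun h : H => h ∉ W) (fun h hh => by
        rw [hsupp h (Finset.mem_filter.mp hh).2, zero_mul]), add_zero,
      Finset.sum_subtype (p := fun h : H => h ∈ W) _ (fun h => by simp)]
    exact (Fintype.sum_equiv σ _ _ fun q => rfl).symm
  have hgc : IsClassFunction (H ⧸ P') g := by
    intro q r
    show e _ = e _
    refine (IsClassFunction.eq_of_isConj (isClassFunction_blockCoeff _) (isConj_iff.mpr ?_)).symm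
    refine ⟨((σ r : H) : G), ?_⟩
    have h1 : π ((σ r : H) * (σ q : H) * (σ r : H)⁻¹) = π (σ (r * q * r⁻¹) : H) := by
      rw [map_mul, map_mul, map_inv, hσ, hσ, hσ]
    have h2 := congrArg Subtype.val (hWbij.1 (a₁ := ⟨_, mul_mem (mul_mem (σ r).2 (σ q).2)
      (inv_mem (σ r).2)⟩) (a₂ := σ (r * q * r⁻¹)) h1)
    simpa using congrArg Subtype.val h2
  have homega : ∀ ξ : IrrCharacter (H ⧸ P'),
      MemLocalIdeal M (omega (ξ : H ⧸ P' → ℂ) g - if ξ = trivIrr (H ⧸ P') then 1 else 0) := by
    intro ξ
    set ζ := inflate π (QuotientGroup.mk'_surjective P') ξ with hζ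
    have e2 : omega (ζ : H → ℂ) (fun h : H => e h) = omega (ξ : H ⧸ P' → ℂ) g := by
      simp only [omega]
      congr 1
      · rw [hsum]
        refine Finset.sum_congr rfl fun q _ => ?_
        show g q * (ξ : H ⧸ P' → ℂ) (π (σ q : H)) = _
        rw [hσ]
    rw [← e2]
    split_ifs with hξ
    · have h := IsInducedBlock.omega_congr hind (ξ := ζ) (χ := trivIrr G)
        (by rw [hζ, hξ]; exact trivIrr_mem_principalBlock H) (trivIrr_mem_principalBlock G)
        (isClassFunction_blockCoeff _) hel
      rwa [omega_blockCoeff, indVec_of_mem (trivIrr_mem_principalBlock G)] at h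
    · obtain ⟨B', hB'⟩ := hdef (isPBlock_blockOf ζ)
      obtain ⟨χ, hχ⟩ := IsPBlock.nonempty hB'.2.1
      have hne : B' ≠ principalBlock M G := fun hc => by
        have hb := (third_main_theorem hM ⟨B', hB'⟩).mp (hc ▸ hB')
        have hmem : ζ ∈ principalBlock M H := hb ▸ mem_blockOf_self ζ
        -- `ξ` is a nonprincipal character of the `p'`-group `W`
        have hWn : W.Normal := ⟨fun w hw h => hreg _ (by
          show ¬ p ∣ orderOf ((h * w * h⁻¹ : H) : G)
          rw [Subgroup.orderOf_coe, show h * w * h⁻¹ = MulAut.conj h w from rfl, MulEquiv.orderOf_eq]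
          intro hpd
          exact hP'i (hWcard ▸ hpd.trans (Subgroup.orderOf_coe (⟨w, hw⟩ : W) ▸
            orderOf_dvd_natCard (⟨w, hw⟩ : W))))⟩
        have htriv := trivial_on_of_mem_principalBlock hM W (hWcard ▸ hP'i) hmem
        have hall : ∀ q, (ξ : H ⧸ P' → ℂ) q = (ξ : H ⧸ P' → ℂ) 1 := fun q => by
          have h := htriv _ (σ q).2
          rw [hζ] at h
          change (ξ : H ⧸ P' → ℂ) (π (σ q : H)) = (ξ : H ⧸ P' → ℂ) (π 1) at h
          rwa [hσ, map_one] at h
        refine hξ (Subtype.ext (funext fun q => ?_))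
        by_contra hq
        have h0 := Char.classInner_irr_ne ξ.2 (trivIrr (H ⧸ P')).2
          fun h => hq (congrFun h q)
        simp only [classInner, trivIrr, map_one, mul_one, hall, Finset.sum_const, nsmul_eq_mul] at h0
        exact mul_ne_zero (inv_ne_zero (Nat.cast_ne_zero.mpr Nat.card_pos.ne'))
          (mul_ne_zero (Nat.cast_ne_zero.mpr (Finset.card_ne_zero.mpr Finset.univ_nonempty))
            (Char.irr_degree_ne_zero ξ.2)) h0
      have hχ' : χ ∉ principalBlock M G := fun h =>
        hne (IsPBlock.eq_of_mem_of_mem hB'.2.1 isPBlock_principalBlock hχ h)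
      have h := IsInducedBlock.omega_congr hB' (mem_blockOf_self ζ) hχ (isClassFunction_blockCoeff
        (principalBlock M G)) hel
      rwa [omega_blockCoeff, indVec_of_notMem hχ'] at h
  set w := Nat.card (H ⧸ P') with hw
  have hwp : ¬ p ∣ w := hP'i
  have hval : ∀ q, MemLocalIdeal M (g q - (w : ℂ)⁻¹) := by
    intro q
    rw [← congrFun (ofOmega_omega hgc) q, ofOmega]
    have e3 : (w : ℂ)⁻¹ = (w : ℂ)⁻¹ * ∑ ξ : IrrCharacter (H ⧸ P'),
        (if ξ = trivIrr (H ⧸ P') then (1 : ℂ) else 0) * (ξ : H ⧸ P' → ℂ) 1 *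
          conj ((ξ : H ⧸ P' → ℂ) q) := by
      rw [Finset.sum_eq_single (trivIrr (H ⧸ P')) (fun ξ _ h => by rw [if_neg h, zero_mul, zero_mul])
        (fun h => absurd (Finset.mem_univ _) h), if_pos rfl]
      simp [trivIrr]
    conv =>
      arg 2
      arg 2
      rw [e3]
    rw [← mul_sub, ← Finset.sum_sub_distrib]
    refine memLocalIdeal_mul_left (memLocalRing_natCast_inv hM hwp) (memLocalIdeal_sum _ _ fun ξ _ => ?_)
    rw [← sub_mul, ← sub_mul, mul_assoc, mul_comm]
    refine memLocalIdeal_mul_left (memLocalRing_of_isIntegral ?_) (homega ξ)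
    exact (Char.isIntegral_value (Char.isCharacter_of_isIrr ξ.2) _).mul
      (Char.isIntegral_conj (Char.isIntegral_value (Char.isCharacter_of_isIrr ξ.2) q))
  -- the restricted sum
  let Wn : Finset (H ⧸ P') := Finset.univ.filter fun q => ((σ q : H) : G) ∈ N
  have e4 : omega (trivIrr H : H → ℂ) (fun h : H => f h) = ∑ q ∈ Wn, g q := by
    simp only [omega, trivIrr, mul_one, div_one, Wn, Finset.sum_filter]
    calc ∑ h : H, f h = ∑ h : H, e h * (if (h : G) ∈ N then 1 else 0) :=
          Finset.sum_congr rfl fun h _ => by simp only [f]; split_ifs <;> simp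
      _ = _ := by
          rw [hsum]
          exact Finset.sum_congr rfl fun q _ => by split_ifs <;> simp
  have hbad' := memLocalIdeal_add hcong hbad
  rw [sub_add_cancel, e4] at hbad'
  have h5 : MemLocalIdeal M ((Wn.card : ℂ) * (w : ℂ)⁻¹) := by
    have h6 := memLocalIdeal_sub hbad' (memLocalIdeal_sum Wn _ fun q _ => hval q)
    rwa [Finset.sum_sub_distrib, sub_sub_cancel, Finset.sum_const, nsmul_eq_mul] at h6
  have h7 := memLocalIdeal_mul_left (memLocalRing_natCast (M := M) w) h5
  rw [mul_left_comm, mul_inv_cancel₀ (Nat.cast_ne_zero.mpr (Nat.card_pos.ne' : w ≠ 0)), mul_one,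
    memLocalIdeal_natCast_iff hM] at h7
  let S : Subgroup W := (N.subgroupOf H).subgroupOf W
  have hS : Wn.card = Nat.card S := by
    rw [Nat.card_congr (Equiv.subtypeEquiv σ.symm (q := fun q : H ⧸ P' => ((σ q : H) : G) ∈ N)
      fun v => by simp [S, Subgroup.mem_subgroupOf]), Nat.card_eq_fintype_card, Fintype.card_subtype]
  exact hP'i (hWcard ▸ (hS ▸ h7).trans S.card_subgroup_dvd_card)

/-- Let N be a normal subgroup of the finite group G, p a prime, M a maximal ideal of the algebraic integers containing p, and P a Sylow p-subgroup of G. Let θ be an irreducible character of N of degree prime to p lying in the principal p-block of N, and suppose θ extends to the subgroup NP (some irreducible character of NP restricts to θ). Then some irreducible character χ of G of degree prime to p in the principal p-block of G lies over θ (θ is a constituent of the restriction of χ to N). -/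
theorem result {G : Type*} [Group G] [Finite G] (N : Subgroup G) [N.Normal] (p : ℕ) [Fact p.Prime] (M : Ideal Cfsg.AlgInt) (hM : Cfsg.IsPModular p M) (P : Sylow p G)
    (θ : Cfsg.IrrCharacter N) (hθ : θ ∈ Cfsg.principalBlock M N) (hdeg : ¬ p ∣ Cfsg.charDegree (θ : N → ℂ))
    (hext : ∃ η : Cfsg.IrrCharacter ↥(N ⊔ (P : Subgroup G)), ∀ n : N, (η : ↥(N ⊔ (P : Subgroup G)) → ℂ) (Subgroup.inclusion le_sup_left n) = (θ : N → ℂ) n) :
    ∃ χ : Cfsg.IrrCharacter G, χ ∈ Cfsg.principalBlock M G ∧ ¬ p ∣ Cfsg.charDegree (χ : G → ℂ) ∧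
      haveI := Fintype.ofFinite N; Cfsg.classInner (fun n : N => (χ : G → ℂ) n) (θ : N → ℂ) ≠ 0 := by
  classical
  haveI := Fintype.ofFinite G
  letI : Fintype N := Fintype.ofFinite N
  have := isPrime_of_isPModular hM
  set H := N ⊔ (P : Subgroup G) with hH
  haveI := Fintype.ofFinite H
  obtain ⟨η, hη⟩ := hext
  set e := blockCoeff (principalBlock M G) with hedef
  have hel : ∀ g, MemLocalRing M (e g) := fun g => IsPBlock.memLocalRing_blockCoeff isPBlock_principalBlock g
  have hecl : IsClassFunction G e := isClassFunction_blockCoeff _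
  have hι : N ≤ H := le_sup_left
  have hη1 : (η : H → ℂ) 1 = (θ : N → ℂ) 1 := by
    rw [← hη 1]
    rfl
  obtain ⟨hθd, hθpos⟩ := irr_degree_eq θ
  -- regular elements of `H` lie in `N`
  have hreg : ∀ h : H, IsPRegular p (h : G) → (h : G) ∈ N := by
    intro h hr
    by_contra hn
    obtain ⟨u, hu, n, hn', huv⟩ := (Subgroup.mem_sup_of_normal_left (s := N)).mp h.2
    have h1 : QuotientGroup.mk' N (h : G) = QuotientGroup.mk' N n := by
      rw [← huv, map_mul, show QuotientGroup.mk' N u = 1 from (QuotientGroup.eq_one_iff u).mpr hu,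
        one_mul]
    obtain ⟨j, hj⟩ := P.isPGroup' ⟨n, hn'⟩
    have hj' : n ^ p ^ j = 1 := congrArg Subtype.val hj
    have hd1 : orderOf (QuotientGroup.mk' N (h : G)) ∣ p ^ j := by
      rw [h1]; exact orderOf_dvd_of_pow_eq_one (by rw [← map_pow, hj', map_one])
    have hd2 : orderOf (QuotientGroup.mk' N (h : G)) ∣ orderOf (h : G) := orderOf_map_dvd _ _
    refine hn ((QuotientGroup.eq_one_iff _).mp (orderOf_eq_one_iff.mp
      (Nat.eq_one_of_dvd_coprimes ?_ hd1 hd2)))
    exact (hM.1.coprime_iff_not_dvd.mpr hr).pow_left j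
  -- the sum over `N` is a unit
  have hU : ¬ MemLocalIdeal M (∑ h : H, e h * (η : H → ℂ) h) := by
    have e1 : ∑ h : H, e h * (η : H → ℂ) h = ∑ n : N, e n * (θ : N → ℂ) n := by
      rw [← Finset.sum_filter_add_sum_filter_not Finset.univ (fun h : H => (h : G) ∈ N),
        Finset.sum_eq_zero (s := Finset.univ.filter fun h : H => ¬ (h : G) ∈ N) (fun h hh => by
          rw [hedef, blockCoeff_eq_zero_of_not_regular hM
            (IsPBlock.isBlockUnion isPBlock_principalBlock)
            (fun hr => (Finset.mem_filter.mp hh).2 (hreg h hr)), zero_mul]), add_zero]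
      refine Finset.sum_bij (fun h hh => (⟨(h : G), (Finset.mem_filter.mp hh).2⟩ : N))
        (fun _ _ => Finset.mem_univ _)
        (fun a _ b _ hab => Subtype.ext (congrArg (fun n : N => (n : G)) hab))
        (fun n _ => ⟨⟨(n : G), hι n.2⟩, by simp, rfl⟩) fun h hh => ?_
      rw [← hη]
      rfl
    have e2 : ∑ n : N, e n * (θ : N → ℂ) n =
        (θ : N → ℂ) 1 * omega (θ : N → ℂ) (fun n : N => e n) := by
      rw [omega, mul_div_cancel₀ _ (Char.irr_degree_ne_zero θ.2)]
    rw [e1, e2, hθd]
    have hs := not_memLocalIdeal_sum_normal hM N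
    have e3 : omega (trivIrr N : N → ℂ) (fun n : N => e n) =
        ∑ g ∈ Finset.univ.filter (· ∈ N), e g := by
      simp only [omega, trivIrr, mul_one, div_one]
      exact (Finset.sum_subtype _ (fun g => by simp) e).symm
    intro hbad
    have hclN : IsClassFunction N (fun n : N => e n) := fun g x => hecl g x
    have h1 := omega_congr_sameBlock hM isPBlock_principalBlock hθ (trivIrr_mem_principalBlock N)
      hclN (fun n => hel n)
    have hinv : MemLocalRing M ((charDegree (θ : N → ℂ) : ℂ))⁻¹ := memLocalRing_natCast_inv hM hdeg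
    have h2 := memLocalIdeal_mul_left hinv hbad
    rw [← mul_assoc, inv_mul_cancel₀ (Nat.cast_ne_zero.mpr hθpos.ne'), one_mul] at h2
    have h3 := memLocalIdeal_sub h2 h1
    rw [sub_sub_cancel, e3] at h3
    exact hs h3
  -- the principal part of the induced character
  have hidx : ¬ p ∣ H.index := fun h => P.not_dvd_index
    (h.trans (Subgroup.index_dvd_of_le le_sup_right))
  choose a ha using fun χ : IrrCharacter G => Char.exists_nat_classInner
    (Char.isCharacter_of_isIrr η.2)
    (Char.isCharacter_comp H.subtype (Char.isCharacter_of_isIrr χ.2))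
  have hkey : ∑ χ ∈ Finset.univ.filter (· ∈ principalBlock M G), ((a χ : ℕ) : ℂ) * (χ : G → ℂ) 1 =
      (H.index : ℂ) * ∑ h : H, e h * (η : H → ℂ) h := by
    simp only [← ha]
    have hc : ((H.index : ℂ)) * (Nat.card H : ℂ) = (Nat.card G : ℂ) := by
      rw [← Nat.cast_mul, mul_comm, Subgroup.card_mul_index]
    have hH0 : (Nat.card H : ℂ) ≠ 0 := Nat.cast_ne_zero.mpr Nat.card_pos.ne'
    have hG0 : (Nat.card G : ℂ) ≠ 0 := Nat.cast_ne_zero.mpr Nat.card_pos.ne'
    have he : ∀ h : H, e h = (Nat.card G : ℂ)⁻¹ *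
        ∑ χ ∈ Finset.univ.filter (· ∈ principalBlock M G), (χ : G → ℂ) 1 * conj ((χ : G → ℂ) h) := by
      intro h
      rw [hedef, blockCoeff, finsum_mem_eq_sum_of_inter_support_eq
        (t := Finset.univ.filter (· ∈ principalBlock M G)) _ (by simp)]
    simp only [he, classInner, Finset.mul_sum, Finset.sum_mul]
    rw [Finset.sum_comm]
    refine Finset.sum_congr rfl fun h _ => Finset.sum_congr rfl fun χ _ => ?_
    have hci : (H.index : ℂ) * (Nat.card G : ℂ)⁻¹ = (Nat.card H : ℂ)⁻¹ := by
      have hi : (H.index : ℂ) ≠ 0 := Nat.cast_ne_zero.mpr H.index_ne_zero_of_finite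
      rw [← hc]
      field_simp
    rw [← hci]
    show _ * ((η : H → ℂ) h * conj ((χ : G → ℂ) h)) * _ = _
    ring
  have hne : ¬ MemLocalIdeal M (∑ χ ∈ Finset.univ.filter (· ∈ principalBlock M G),
      ((a χ : ℕ) : ℂ) * (χ : G → ℂ) 1) := by
    rw [hkey]
    intro hbad
    have h2 := memLocalIdeal_mul_left (memLocalRing_natCast_inv hM hidx) hbad
    rw [← mul_assoc, inv_mul_cancel₀ (Nat.cast_ne_zero.mpr H.index_ne_zero_of_finite), one_mul] at h2
    exact hU h2
  obtain ⟨χ, hχ, hχne⟩ : ∃ χ ∈ Finset.univ.filter (· ∈ principalBlock M G),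
      ¬ MemLocalIdeal M (((a χ : ℕ) : ℂ) * (χ : G → ℂ) 1) := by
    by_contra hc
    push Not at hc
    exact hne (memLocalIdeal_sum _ _ hc)
  rw [(irr_degree_eq χ).1, ← Nat.cast_mul, memLocalIdeal_natCast_iff hM] at hχne
  refine ⟨χ, (Finset.mem_filter.mp hχ).2, fun h => hχne (h.mul_left _), ?_⟩
  have ha0 : a χ ≠ 0 := fun h => hχne (by rw [h, zero_mul]; exact dvd_zero p)
  obtain ⟨c, hc⟩ := Char.exists_multiplicities (Char.isCharacter_comp H.subtype (Char.isCharacter_of_isIrr χ.2))
  have hcη : c η = a χ := by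
    have h1 := ha χ
    rw [← Char.classInner_conj_symm] at h1
    have h2 : classInner (fun h : H => (χ : G → ℂ) (H.subtype h)) (η : H → ℂ) = (c η : ℂ) := by
      rw [hc, Char.classInner_sum_smul_irr]
    have h3 := congrArg (starRingEnd ℂ) h1
    simp only [Complex.conj_conj, map_natCast] at h3
    exact Nat.cast_injective (h2.symm.trans h3)
  let ι : N →* H := Subgroup.inclusion hι
  have hres : (fun n : N => (χ : G → ℂ) n) = ∑ ξ : IrrCharacter H,
      (c ξ : ℂ) • fun n : N => (ξ : H → ℂ) (ι n) := funext fun n => by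
    have := congrFun hc (ι n)
    simp only [Finset.sum_apply, Pi.smul_apply] at this ⊢
    exact this
  choose b hb using fun ξ : IrrCharacter H => Char.exists_nat_classInner
    (Char.isCharacter_comp ι (Char.isCharacter_of_isIrr ξ.2)) (Char.isCharacter_of_isIrr θ.2)
  have hbη : b η = 1 := by
    have := hb η
    rw [show (fun n : N => (η : H → ℂ) (ι n)) = (θ : N → ℂ) from funext hη,
      Char.classInner_irr_self θ.2] at this
    exact_mod_cast this.symm
  rw [hres, Char.classInner_sum_left]
  simp only [Char.classInner_smul_left, hb, ← Nat.cast_mul, ← Nat.cast_sum]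
  rw [Nat.cast_ne_zero]
  refine fun h0 => ha0 ?_
  have := Finset.sum_eq_zero_iff.mp h0 η (Finset.mem_univ _)
  rwa [hbη, mul_one, hcη] at this

end Cfsg.Agent.S4583
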