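import Cfsg.Statements.S4584
import Cfsg.Agent.Lib.Group.CentralCyclic
import Cfsg.Agent.Lib.Critical.Basic

set_option autoImplicit false
set_option linter.style.haveILetI false
open Cfsg
open scoped commutatorElement

namespace Cfsg.Agent.S4584

/-- Let p be a prime and P a group of order p^4. Then the derived subgroup P' has order p if and only if the centre Z(P) has index p^2 in P. -/
theorem result {P : Type*} [Group P] [Finite P] (p : ℕ) [Fact p.Prime] (hP : Nat.card P = p ^ 4) :
    Nat.card (commutator P) = p ↔ (Subgroup.center P).index = p ^ 2 := by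
  classical
  have hp : p.Prime := Fact.out
  have hG : IsPGroup p P := IsPGroup.of_card hP
  set Z := Subgroup.center P with hZ
  obtain ⟨i, -, hi⟩ := (Nat.dvd_prime_pow hp).mp (hP ▸ Subgroup.card_subgroup_dvd_card Z)
  have hdvd : ∀ (H : Subgroup P), ∀ k, Nat.card H = p ^ k → k ≤ 4 → H.index = p ^ (4 - k) := by
    intro H k hk hk4
    have h := H.card_mul_index
    rw [hk, hP, show p ^ 4 = p ^ k * p ^ (4 - k) by rw [← pow_add, Nat.add_sub_cancel' hk4]] at h
    exact Nat.eq_of_mul_eq_mul_left (pow_pos hp.pos k) h
  have hi4 : i ≤ 4 := (Nat.pow_le_pow_iff_right hp.one_lt).mp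
    (hi ▸ hP ▸ Nat.le_of_dvd (hP ▸ Nat.card_pos) (Subgroup.card_subgroup_dvd_card Z))
  constructor
  · intro hc
    have hcen : commutator P ≤ Z := by
      have hn : (commutator P).Normal := inferInstance
      haveI := hG.isNilpotent
      haveI : Nontrivial (commutator P) := Finite.one_lt_card_iff_nontrivial.mp (hc ▸ hp.one_lt)
      intro z hz
      by_contra hzZ
      have h1 : (commutator P) ⊓ Z = ⊥ := by
        refine Subgroup.eq_bot_of_card_eq _ ?_
        rcases (Nat.dvd_prime hp).mp (hc ▸ Subgroup.card_dvd_of_le (inf_le_left (b := Z))) with h | h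
        · exact h
        · exfalso
          have := Subgroup.eq_of_le_of_card_ge (inf_le_left (b := Z) (a := commutator P)) (by omega)
          exact hzZ (inf_eq_left.mp this hz)
      exact CfsgLib.Critical.inf_center_ne_bot (commutator P) (fun hbot => by
        rw [hbot, Subgroup.card_bot] at hc; exact hp.one_lt.ne hc) h1
    have hna : ∀ k, Nat.card Z = p ^ k → 3 ≤ k → False := by
      intro k hk h3
      have hk4 : k ≤ 4 := (Nat.pow_le_pow_iff_right hp.one_lt).mp
        (hk ▸ hP ▸ Nat.le_of_dvd (hP ▸ Nat.card_pos) (Subgroup.card_subgroup_dvd_card Z))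
      have hab := CfsgLib.Group.mul_comm_of_index_dvd_prime (p := p) Z le_rfl
        (by rw [hdvd Z k hk hk4]; exact (pow_dvd_pow p (by omega : 4 - k ≤ 1)).trans (by rw [pow_one]))
      have : commutator P = ⊥ := by
        rw [commutator_def, eq_bot_iff, Subgroup.commutator_le]
        intro a _ b _
        rw [Subgroup.mem_bot, commutatorElement_eq_one_iff_mul_comm]
        exact hab a b
      rw [this, Subgroup.card_bot] at hc
      exact hp.one_lt.ne hc
    have hi2 : i ≤ 2 := by
      by_contra h
      exact hna i hi (by omega)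
    suffices 2 ≤ i by rw [hdvd Z i hi hi4]; congr 1; omega
    by_contra hi'
    have hi1 : Nat.card Z ≤ p := by rw [hi]; exact Nat.pow_le_pow_right hp.pos (by omega : i ≤ 1) |>.trans_eq (pow_one p)
    have hCidx : ∀ a : P, (Subgroup.centralizer ({a} : Set P)).index ∣ p := by
      intro a
      let f : P →* commutator P :=
        { toFun := fun x => ⟨⁅x, a⁆, Subgroup.commutator_mem_commutator (Subgroup.mem_top _) (Subgroup.mem_top _)⟩
          map_one' := Subtype.ext (commutatorElement_one_left a)
          map_mul' := fun x y => Subtype.ext (by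
            show ⁅x * y, a⁆ = ⁅x, a⁆ * ⁅y, a⁆
            have hy := Subgroup.mem_center_iff.mp (hcen (Subgroup.commutator_mem_commutator
              (Subgroup.mem_top y) (Subgroup.mem_top a)))
            calc ⁅x * y, a⁆ = x * ⁅y, a⁆ * x⁻¹ * ⁅x, a⁆ := by simp only [commutatorElement_def]; group
              _ = ⁅y, a⁆ * ⁅x, a⁆ := by rw [hy x, mul_inv_cancel_right]
              _ = ⁅x, a⁆ * ⁅y, a⁆ := (hy _).symm) }
      have hker : f.ker = Subgroup.centralizer ({a} : Set P) := by
        ext x
        rw [MonoidHom.mem_ker, Subgroup.mem_centralizer_singleton_iff, ← commutatorElement_eq_one_iff_mul_comm]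
        exact Subtype.ext_iff
      rw [← hker, Subgroup.index_ker, ← hc]
      exact Subgroup.card_subgroup_dvd_card f.range
    obtain ⟨a, ha⟩ : ∃ a, a ∉ Z := by
      by_contra h
      push Not at h
      have h4 : Nat.card Z = p ^ 4 := by
        rw [← hP]; exact Nat.card_congr (Equiv.subtypeUnivEquiv h)
      exact hna 4 h4 (by norm_num)
    set A := Subgroup.centralizer ({a} : Set P)
    have haA : a ∈ A := Subgroup.mem_centralizer_singleton_iff.mpr rfl
    have hA3 : p ^ 3 ≤ Nat.card A := by
      have h := A.card_mul_index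
      have h2 : A.index ≤ p := Nat.le_of_dvd hp.pos (hCidx a)
      rw [hP] at h
      nlinarith [Nat.card_pos (α := A), hp.pos]
    have hAab : ∀ u v : A, u * v = v * u := by
      let W : Subgroup A := (Z ⊔ Subgroup.zpowers a).subgroupOf A
      have hle : Z ⊔ Subgroup.zpowers a ≤ A := sup_le (fun z hz =>
        Subgroup.mem_centralizer_singleton_iff.mpr ((Subgroup.mem_center_iff.mp hz a).symm))
        (Subgroup.zpowers_le.mpr haA)
      have hW : W ≤ Subgroup.center A := by
        intro w hw
        rw [Subgroup.mem_center_iff]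
        intro v
        have hv : Subgroup.zpowers a ⊔ Z ≤ Subgroup.centralizer ({(v : P)} : Set P) :=
          sup_le (Subgroup.zpowers_le.mpr (Subgroup.mem_centralizer_singleton_iff.mpr
            (Subgroup.mem_centralizer_singleton_iff.mp v.2).symm))
            (fun z hz => Subgroup.mem_centralizer_singleton_iff.mpr ((Subgroup.mem_center_iff.mp hz v).symm))
        have := Subgroup.mem_centralizer_singleton_iff.mp (hv (by rw [sup_comm]; exact hw))
        exact Subtype.ext this.symm
      refine CfsgLib.Group.mul_comm_of_index_dvd_prime (p := p) W hW ?_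
      obtain ⟨k, -, hk⟩ := (Nat.dvd_prime_pow hp).mp (hP ▸ Subgroup.card_subgroup_dvd_card (Z ⊔ Subgroup.zpowers a))
      obtain ⟨l, hl4, hl⟩ := (Nat.dvd_prime_pow hp).mp (hP ▸ Subgroup.card_subgroup_dvd_card A)
      have hl3 : l ≤ 3 := by
        by_contra h
        have hA : A = ⊤ := Subgroup.eq_top_of_card_eq _ (by rw [hl, hP, show l = 4 by omega])
        exact ha (Subgroup.mem_center_iff.mpr fun g =>
          Subgroup.mem_centralizer_singleton_iff.mp (hA ▸ Subgroup.mem_top g : g ∈ A))
      have hZlt : Nat.card Z < p ^ k := by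
        rw [← hk]
        refine lt_of_le_of_ne (Subgroup.card_le_of_le le_sup_left) fun h => ha ?_
        rw [Subgroup.eq_of_le_of_card_ge (le_sup_left : Z ≤ Z ⊔ Subgroup.zpowers a) h.ge]
        exact Subgroup.mem_sup_right (Subgroup.mem_zpowers a)
      have hk2 : 2 ≤ k := by
        haveI := hG.isNilpotent
        by_contra h
        have hZ1 : Nat.card Z = 1 := by
          have : p ^ k ≤ p := (Nat.pow_le_pow_right hp.pos (by omega : k ≤ 1)).trans_eq (pow_one p)
          obtain rfl | hi0 := Nat.eq_zero_or_pos i
          · simpa using hi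
          · have : p ≤ Nat.card Z := hi ▸ Nat.le_self_pow hi0.ne' p
            omega
        haveI : Nontrivial P := Finite.one_lt_card_iff_nontrivial.mp (hP ▸ Nat.one_lt_pow (by norm_num) hp.one_lt)
        haveI := hG.center_nontrivial
        exact Finite.one_lt_card.ne' hZ1
      have hWc : Nat.card W = p ^ k := by
        rw [Nat.card_congr (Subgroup.subgroupOfEquivOfLe hle).toEquiv, hk]
      have h := W.card_mul_index
      rw [hWc, hl] at h
      have : W.index ∣ p ^ l := ⟨p ^ k, by rw [mul_comm, h]⟩
      obtain ⟨j, -, hj⟩ := (Nat.dvd_prime_pow hp).mp this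
      rw [hj, ← pow_add] at h
      have := Nat.pow_right_injective hp.two_le h
      rw [hj]
      exact (pow_dvd_pow p (by omega : j ≤ 1)).trans (by rw [pow_one])
    obtain ⟨b, hb⟩ : ∃ b, b ∉ A := by
      by_contra h
      push Not at h
      exact ha (Subgroup.mem_center_iff.mpr fun g => Subgroup.mem_centralizer_singleton_iff.mp (h g))
    set B := Subgroup.centralizer ({b} : Set P)
    have hAB : A ⊓ B ≤ Z := by
      intro z hz
      obtain ⟨hzA, hzB⟩ := Subgroup.mem_inf.mp hz
      have hc' : A ⊔ Subgroup.zpowers b ≤ Subgroup.centralizer ({z} : Set P) := by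
        refine sup_le (fun u hu => Subgroup.mem_centralizer_singleton_iff.mpr
          (congrArg Subtype.val (hAab ⟨u, hu⟩ ⟨z, hzA⟩))) (Subgroup.zpowers_le.mpr ?_)
        exact Subgroup.mem_centralizer_singleton_iff.mpr (Subgroup.mem_centralizer_singleton_iff.mp hzB).symm
      have htop : A ⊔ Subgroup.zpowers b = ⊤ := by
        refine Subgroup.eq_top_of_card_eq _ ?_
        obtain ⟨k, hk4, hk⟩ := (Nat.dvd_prime_pow hp).mp (hP ▸ Subgroup.card_subgroup_dvd_card (A ⊔ Subgroup.zpowers b))
        rw [hk, hP]
        congr 1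
        refine le_antisymm hk4 ?_
        by_contra h4
        have h3 : Nat.card ↥(A ⊔ Subgroup.zpowers b) ≤ p ^ 3 := hk ▸ Nat.pow_le_pow_right hp.pos (by omega)
        have := Subgroup.eq_of_le_of_card_ge (le_sup_left : A ≤ A ⊔ Subgroup.zpowers b) (h3.trans hA3)
        exact hb (this ▸ Subgroup.mem_sup_right (Subgroup.mem_zpowers b))
      rw [htop] at hc'
      exact Subgroup.mem_center_iff.mpr fun g =>
        Subgroup.mem_centralizer_singleton_iff.mp (hc' (Subgroup.mem_top g))
    have hcard : p ^ 2 ≤ Nat.card Z := by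
      have h1 : B.relIndex A ≤ p := by
        have h := Subgroup.relIndex_le_of_le_right (H := B) (le_top : A ≤ ⊤)
          (by rw [Subgroup.relIndex_top_right]; exact Subgroup.index_ne_zero_of_finite)
        rw [Subgroup.relIndex_top_right] at h
        exact h.trans (Nat.le_of_dvd hp.pos (hCidx b))
      have h2 := Subgroup.card_mul_index ((B).subgroupOf A)
      have h3 : Nat.card (B.subgroupOf A) = Nat.card ↥(B ⊓ A) := by
        rw [← Subgroup.subgroupOf_map_subtype, Subgroup.card_map_of_injective A.subtype_injective]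
      have h4 := Subgroup.card_le_of_le (inf_comm A B ▸ hAB)
      change _ * B.relIndex A = _ at h2
      rw [h3] at h2
      nlinarith [hp.pos]
    have := hp.two_le
    nlinarith
  · intro hidx
    have hZc : Nat.card Z = p ^ 2 := by
      have h := Z.card_mul_index
      rw [hidx, hP, show p ^ 4 = p ^ 2 * p ^ 2 by ring] at h
      exact Nat.eq_of_mul_eq_mul_right (pow_pos hp.pos 2) h
    obtain ⟨a, ha⟩ : ∃ a, a ∉ Z := by
      by_contra h
      push Not at h
      rw [Z.eq_top_iff'.mpr h, Subgroup.index_top] at hidx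
      exact (Nat.one_lt_pow (by norm_num) hp.one_lt).ne hidx
    haveI hZn : Z.Normal := inferInstance
    have hab := (IsPGroup.isMulCommutative_of_card_eq_prime_sq (p := p) (G := P ⧸ Z) hidx).is_comm.comm
    have hcen : ∀ x y : P, ⁅x, y⁆ ∈ Z := fun x y => by
      rw [← QuotientGroup.eq_one_iff]
      show QuotientGroup.mk' Z ⁅x, y⁆ = 1
      rw [map_commutatorElement, commutatorElement_eq_one_iff_mul_comm]
      exact hab _ _
    set C := Subgroup.centralizer ({a} : Set P)
    have hC : C.index = p := by
      have hle : Z ⊔ Subgroup.zpowers a ≤ C := sup_le (fun z hz =>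
        Subgroup.mem_centralizer_singleton_iff.mpr ((Subgroup.mem_center_iff.mp hz a).symm))
        (Subgroup.zpowers_le.mpr (Subgroup.mem_centralizer_singleton_iff.mpr rfl))
      obtain ⟨k, hk4, hk⟩ := (Nat.dvd_prime_pow hp).mp (hP ▸ Subgroup.card_subgroup_dvd_card C)
      have hk2 : 2 < k := by
        by_contra h
        have h2 : Nat.card C ≤ Nat.card Z := hZc ▸ hk ▸ Nat.pow_le_pow_right hp.pos (by omega)
        have := Subgroup.eq_of_le_of_card_ge (le_sup_left.trans hle : Z ≤ C) h2
        exact ha (this ▸ Subgroup.mem_centralizer_singleton_iff.mpr rfl)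
      have hk3 : k ≠ 4 := fun h => ha (Subgroup.mem_center_iff.mpr fun g =>
        Subgroup.mem_centralizer_singleton_iff.mp
          ((Subgroup.eq_top_of_card_eq C (by rw [hk, h, hP])) ▸ Subgroup.mem_top g : g ∈ C))
      rw [hdvd C k hk hk4, show 4 - k = 1 by omega, pow_one]
    obtain ⟨x, hx⟩ : ∃ x, x ∉ C := by
      by_contra h
      push Not at h
      rw [C.eq_top_iff'.mpr h, Subgroup.index_top] at hC
      exact hp.one_lt.ne hC
    -- `C` is abelian, so the commutators with `x` exhaust `P'`
    let f : C →* Z :=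
      { toFun := fun c => ⟨⁅x, (c : P)⁆, hcen _ _⟩
        map_one' := Subtype.ext (commutatorElement_one_right x)
        map_mul' := fun c d => Subtype.ext (by
          show ⁅x, (c : P) * d⁆ = ⁅x, (c : P)⁆ * ⁅x, (d : P)⁆
          have hy := Subgroup.mem_center_iff.mp (hcen x (d : P))
          calc ⁅x, (c : P) * d⁆ = ⁅x, (c : P)⁆ * ((c : P) * ⁅x, (d : P)⁆ * (c : P)⁻¹) := by
                simp only [commutatorElement_def]; group
            _ = _ := by rw [hy c, mul_inv_cancel_right]) }
    set J := f.range.map Z.subtype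
    have hJZ : J ≤ Z := Subgroup.map_subtype_le _
    haveI : J.Normal := ⟨fun z hz g => by
      rw [Subgroup.mem_center_iff.mp (hJZ hz) g, mul_inv_cancel_right]; exact hz⟩
    have hCab : ∀ u v : C, u * v = v * u := by
      have hle : Z ⊔ Subgroup.zpowers a ≤ C := sup_le (fun z hz =>
        Subgroup.mem_centralizer_singleton_iff.mpr ((Subgroup.mem_center_iff.mp hz a).symm))
        (Subgroup.zpowers_le.mpr (Subgroup.mem_centralizer_singleton_iff.mpr rfl))
      refine CfsgLib.Group.mul_comm_of_index_dvd_prime (p := p) (Z.subgroupOf C) ?_ ?_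
      · intro w hw
        rw [Subgroup.mem_center_iff]
        exact fun v => Subtype.ext (Subgroup.mem_center_iff.mp hw v)
      · have h := Subgroup.relIndex_mul_index (le_sup_left.trans hle : Z ≤ C)
        rw [hidx, hC, pow_two] at h
        exact dvd_of_eq (Nat.eq_of_mul_eq_mul_right hp.pos h)
    have hle := CfsgLib.Group.commutator_le_of_index_prime C J hC hx
      (fun u hu v hv => by
        rw [commutatorElement_eq_one_iff_mul_comm.mpr (congrArg Subtype.val (hCab ⟨u, hu⟩ ⟨v, hv⟩))]
        exact one_mem J)
      (fun u hu => ⟨_, ⟨⟨u, hu⟩, rfl⟩, rfl⟩)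
    have hcJ : Nat.card J ∣ p := by
      rw [Subgroup.card_map_of_injective Z.subtype_injective]
      have hker : Z.subgroupOf C ≤ f.ker := fun c hc => Subtype.ext
        (commutatorElement_eq_one_iff_mul_comm.mpr (Subgroup.mem_center_iff.mp hc x))
      rw [← Subgroup.index_ker]
      refine (Subgroup.index_dvd_of_le hker).trans ?_
      have hle : Z ≤ C := fun z hz =>
        Subgroup.mem_centralizer_singleton_iff.mpr ((Subgroup.mem_center_iff.mp hz a).symm)
      have h := Subgroup.relIndex_mul_index hle
      rw [hidx, hC, pow_two] at h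
      exact dvd_of_eq (Nat.eq_of_mul_eq_mul_right hp.pos h)
    refine ((Nat.dvd_prime hp).mp ((Subgroup.card_dvd_of_le hle).trans hcJ)).resolve_left fun h => hx ?_
    rw [Subgroup.mem_centralizer_singleton_iff, ← commutatorElement_eq_one_iff_mul_comm, ← Subgroup.mem_bot,
      ← Subgroup.eq_bot_of_card_eq _ h]
    exact Subgroup.commutator_mem_commutator (Subgroup.mem_top _) (Subgroup.mem_top _)

end Cfsg.Agent.S4584
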