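import Cfsg.Statements.S4585
import Cfsg.Agent.Lib.PGroup.MaximalClass
import Cfsg.Agent.Lib.PSolvable.Omega

set_option autoImplicit false
open Cfsg
open scoped commutatorElement

namespace Cfsg.Agent.S4585

/-- Let p be a prime and P a group of order p^4. Then P' has index p^2 in P if and only if P has maximal nilpotency class, that is, nilpotency class exactly 3. -/
theorem result {P : Type*} [Group P] [Finite P] (p : ℕ) [Fact p.Prime] (hP : Nat.card P = p ^ 4) :
    (commutator P).index = p ^ 2 ↔ Group.nilpotencyClass P = 3 := by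
  have hp : p.Prime := Fact.out
  have hPp : IsPGroup p P := IsPGroup.of_card hP
  haveI := hPp.isNilpotent
  have hci := (commutator P).card_mul_index
  constructor
  · intro hi
    rw [hi, hP, show p ^ 4 = p ^ 2 * p ^ 2 by ring] at hci
    have hG' : Nat.card (commutator P) = p ^ 2 := Nat.eq_of_mul_eq_mul_right (pow_pos hp.pos 2) hci
    have hlcs : (⊤ : Subgroup P).lowerCentralSeries 3 = ⊥ := by
      refine Subgroup.eq_bot_of_card_le _ ?_
      simpa using CfsgLib.MaxClass.card_lcs_succ_le hP 2
    refine le_antisymm (Subgroup.lowerCentralSeries_eq_bot_iff_nilpotencyClass_le.mp hlcs) ?_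
    by_contra hlt
    have hcz : commutator P ≤ Subgroup.center P := by
      have h2 : (⊤ : Subgroup P).lowerCentralSeries 2 = ⊥ :=
        Subgroup.lowerCentralSeries_eq_bot_iff_nilpotencyClass_le.mpr (by omega)
      intro a ha
      rw [Subgroup.mem_center_iff]
      intro g
      rw [eq_comm, ← commutatorElement_eq_one_iff_mul_comm, ← Subgroup.mem_bot, ← h2,
        Subgroup.lowerCentralSeries_succ, Subgroup.top_lowerCentralSeries_one]
      exact Subgroup.commutator_mem_commutator ha (Subgroup.mem_top g)
    -- two generators
    obtain ⟨a, ha⟩ : ∃ a, a ∉ commutator P := by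
      by_contra hall
      push Not at hall
      rw [(Subgroup.eq_top_iff' _).mpr hall, Subgroup.index_top] at hi
      exact (Nat.one_lt_pow two_ne_zero hp.one_lt).ne hi
    obtain ⟨b, hb⟩ : ∃ b, b ∉ commutator P ⊔ Subgroup.zpowers a := by
      by_contra hall
      push Not at hall
      have hcyc : Subgroup.zpowers a = ⊤ := by
        refine frattini_nongenerating (le_antisymm le_top ((((Subgroup.eq_top_iff' _).mpr hall)).ge.trans ?_))
        rw [sup_comm]
        exact sup_le_sup_left (CfsgLib.PSolvable.commutator_le_frattini hPp).1 _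
      rw [show commutator P = ⊥ by
        rw [commutator_def, Subgroup.commutator_eq_bot_iff_le_centralizer, ← hcyc]
        exact Subgroup.le_centralizer _, Subgroup.card_bot] at hG'
      exact (Nat.one_lt_pow two_ne_zero hp.one_lt).ne hG'
    set H := Subgroup.closure ({a, b} : Set P) with hH
    have hHtop : H = ⊤ := by
      set K₁ := commutator P ⊔ Subgroup.zpowers a
      set K₂ := commutator P ⊔ H
      have h01 : commutator P < K₁ :=
        lt_of_le_of_ne le_sup_left fun e => ha (e ▸ Subgroup.mem_sup_right (Subgroup.mem_zpowers a))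
      have h12 : K₁ < K₂ := by
        refine lt_of_le_of_ne (sup_le_sup_left (Subgroup.zpowers_le.mpr
          (Subgroup.subset_closure (Set.mem_insert a _))) _) fun e => hb ?_
        rw [e]
        exact Subgroup.mem_sup_right (Subgroup.subset_closure (Set.mem_insert_of_mem a rfl))
      obtain ⟨k₁, hk₁⟩ := IsPGroup.iff_card.mp (hPp.to_subgroup K₁)
      obtain ⟨k₂, hk₂⟩ := IsPGroup.iff_card.mp (hPp.to_subgroup K₂)
      have e1 : Nat.card (commutator P) < Nat.card K₁ := lt_of_le_of_ne (Subgroup.card_le_of_le h01.le)
        fun e => h01.ne (Subgroup.eq_of_le_of_card_ge h01.le e.ge)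
      have e2 : Nat.card K₁ < Nat.card K₂ := lt_of_le_of_ne (Subgroup.card_le_of_le h12.le)
        fun e => h12.ne (Subgroup.eq_of_le_of_card_ge h12.le e.ge)
      rw [hG', hk₁] at e1
      rw [hk₁, hk₂] at e2
      have f1 := (Nat.pow_lt_pow_iff_right hp.one_lt).mp e1
      have f2 := (Nat.pow_lt_pow_iff_right hp.one_lt).mp e2
      have hK₂ : K₂ = ⊤ := by
        refine Subgroup.eq_top_of_card_eq _ (le_antisymm (Subgroup.card_le_card_group _) ?_)
        rw [hP, hk₂]
        exact Nat.pow_le_pow_right hp.pos (by omega)
      refine frattini_nongenerating (le_antisymm le_top (hK₂.ge.trans ?_))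
      show commutator P ⊔ H ≤ H ⊔ frattini P
      rw [sup_comm]
      exact sup_le_sup_left (CfsgLib.PSolvable.commutator_le_frattini hPp).1 _
    set c := ⁅a, b⁆ with hc
    have hcc : c ∈ commutator P := by
      rw [commutator_def]; exact Subgroup.commutator_mem_commutator (Subgroup.mem_top a) (Subgroup.mem_top b)
    haveI : (Subgroup.zpowers c).Normal := ⟨fun w hw g => by
      rw [Subgroup.mem_center_iff.mp ((Subgroup.zpowers_le.mpr (hcz hcc)) hw) g, mul_inv_cancel_right]
      exact hw⟩
    have hle : commutator P ≤ Subgroup.zpowers c := by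
      set f := QuotientGroup.mk' (Subgroup.zpowers c)
      have hab : f a * f b = f b * f a := by
        rw [← commutatorElement_eq_one_iff_mul_comm, ← map_commutatorElement, ← hc,
          ← MonoidHom.mem_ker, QuotientGroup.ker_mk']
        exact Subgroup.mem_zpowers c
      rw [← QuotientGroup.ker_mk' (Subgroup.zpowers c), ← Subgroup.map_eq_bot_iff, commutator_def,
        Subgroup.map_commutator, ← hHtop, hH, MonoidHom.map_closure,
        Subgroup.commutator_eq_bot_iff_le_centralizer]
      haveI : IsMulCommutative (Subgroup.closure (f '' {a, b})) := Subgroup.isMulCommutative_closure (by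
        rw [Set.image_pair]
        rintro u (rfl | rfl) v (rfl | rfl)
        exacts [rfl, hab, hab.symm, rfl])
      exact Subgroup.le_centralizer _
    have hap : a ^ p ∈ Subgroup.center P := by
      have hsq : a ^ p ∈ commutator P := by
        have hq : Nat.card (P ⧸ commutator P) = p ^ 2 := by rw [← Subgroup.index_eq_card, hi]
        rw [← QuotientGroup.eq_one_iff, QuotientGroup.mk_pow]
        by_contra hne
        have hqa : orderOf (QuotientGroup.mk a : P ⧸ commutator P) = p ^ 2 := by
          obtain ⟨i, hi2, hio⟩ := (Nat.dvd_prime_pow hp).mp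
            (hq ▸ orderOf_dvd_natCard (QuotientGroup.mk a : P ⧸ commutator P))
          rcases eq_or_lt_of_le hi2 with rfl | h'
          · exact hio
          · exact absurd (orderOf_dvd_iff_pow_eq_one.mp (hio ▸
              (show p ^ i ∣ p by simpa using pow_dvd_pow p (show i ≤ 1 by omega)))) hne
        refine hb ?_
        have htop : Subgroup.zpowers (QuotientGroup.mk' (commutator P) a) = ⊤ :=
          Subgroup.eq_top_of_card_eq _ (by
            rw [Nat.card_zpowers, hq]; exact hqa)
        rw [sup_comm, ← QuotientGroup.ker_mk' (commutator P), ← Subgroup.comap_map_eq,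
          MonoidHom.map_zpowers, htop, Subgroup.comap_top]
        exact Subgroup.mem_top b
      exact hcz hsq
    have hcp : c ^ p = 1 := by
      have h1 : a * b * a⁻¹ = c * b := by rw [hc, commutatorElement_def]; group
      have h2 : ∀ m : ℕ, a ^ m * b * (a ^ m)⁻¹ = c ^ m * b := by
        intro m
        induction m with
        | zero => simp
        | succ m ih =>
          calc a ^ (m + 1) * b * (a ^ (m + 1))⁻¹ = a * (a ^ m * b * (a ^ m)⁻¹) * a⁻¹ := by
                rw [pow_succ']; group
            _ = (a * c ^ m) * b * a⁻¹ := by rw [ih]; group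
            _ = c ^ m * (a * b * a⁻¹) := by
              rw [Subgroup.mem_center_iff.mp (pow_mem (hcz hcc) m) a]; group
            _ = c ^ (m + 1) * b := by rw [h1, pow_succ c m]; group
      have h3 := h2 p
      rw [← Subgroup.mem_center_iff.mp hap b, mul_inv_cancel_right] at h3
      exact mul_eq_right.mp h3.symm
    have h4 := Subgroup.card_le_of_le hle
    rw [hG', Nat.card_zpowers] at h4
    have h5 : p < p ^ 2 := by
      calc p = p ^ 1 := (pow_one p).symm
        _ < p ^ 2 := Nat.pow_lt_pow_right hp.one_lt (by norm_num)
    have := Nat.le_of_dvd hp.pos (orderOf_dvd_of_pow_eq_one hcp)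
    omega
  · intro hc
    have := CfsgLib.MaxClass.card_lcs_eq hP hc (by norm_num) 0 (by norm_num)
    rw [zero_add, Subgroup.top_lowerCentralSeries_one] at this
    rw [this, hP, show p ^ 4 = p ^ (4 - 2 - 0) * p ^ 2 by norm_num [← pow_add]] at hci
    exact Nat.eq_of_mul_eq_mul_left (pow_pos hp.pos _) hci

end Cfsg.Agent.S4585
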