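import Cfsg.Statements.S4586
import Cfsg.Agent.Lib.Group.CentralCyclic

set_option autoImplicit false
set_option linter.style.haveILetI false
open Cfsg
open scoped commutatorElement

namespace Cfsg.Agent.S4586

/-- Let p be a prime, P a finite p-group and N a normal subgroup of P of index p. For x ∈ P write c(x) for the number of elements n of N whose commutator x n x⁻¹ n⁻¹ lies in the derived subgroup N' (so c(x)/#N' is the order of the centralizer of x acting on N/N'). Then [P : P'] = p² if and only if c(x) = p·#N' for every x ∈ P outside N, and also if and only if c(x) = p·#N' for some x ∈ P outside N. -/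
theorem result {P : Type*} [Group P] [Finite P] (p : ℕ) [Fact p.Prime] (hP : IsPGroup p P) (N : Subgroup P) [N.Normal] (hN : N.index = p) :
    ((commutator P).index = p ^ 2 ↔ ∀ x : P, x ∉ N →
        Nat.card {n : N // x * n * x⁻¹ * (n : P)⁻¹ ∈ (commutator N).map N.subtype} = p * Nat.card (commutator N)) ∧
    ((commutator P).index = p ^ 2 ↔ ∃ x : P, x ∉ N ∧
        Nat.card {n : N // x * n * x⁻¹ * (n : P)⁻¹ ∈ (commutator N).map N.subtype} = p * Nat.card (commutator N)) := by
  classical
  have hp : p.Prime := Fact.out
  have hPN : commutator P ≤ N := by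
    have hab : ∀ a b : P ⧸ N, a * b = b * a := by
      haveI : IsCyclic (P ⧸ N) := isCyclic_of_prime_card (p := p) hN
      exact (IsCyclic.isMulCommutative (α := P ⧸ N)).is_comm.comm
    rw [commutator_def, Subgroup.commutator_le]
    intro a _ b _
    rw [← QuotientGroup.eq_one_iff]
    show QuotientGroup.mk' N ⁅a, b⁆ = 1
    rw [map_commutatorElement, commutatorElement_eq_one_iff_mul_comm]
    exact hab _ _
  set D := (commutator N).map N.subtype with hD
  haveI : D.Normal := by
    rw [hD, Subgroup.map_subtype_commutator]
    exact Subgroup.commutator_normal N N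
  have hDN : ∀ {a : N}, ((a : P) ∈ D) ↔ a ∈ (commutator N) := fun {a} =>
    ⟨fun ⟨b, hb, e⟩ => (Subtype.ext e : b = a) ▸ hb, fun h => ⟨a, h, rfl⟩⟩
  have main : ∀ x : P, x ∉ N → ((commutator P).index = p ^ 2 ↔
      Nat.card {n : N // x * n * x⁻¹ * (n : P)⁻¹ ∈ D} = p * Nat.card (commutator N)) := by
    intro x hx
    let c : MulAut N := MulAut.conjNormal x
    let g : N →* Abelianization N :=
      { toFun := fun n => Abelianization.of (c n * n⁻¹)
        map_one' := by simp
        map_mul' := fun a b => by
          simp only [map_mul, mul_inv_rev, map_inv]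
          simp [mul_comm, mul_left_comm, mul_assoc] }
    let F : Subgroup N := g.ker
    have hF : ∀ n : N, n ∈ F ↔ x * n * x⁻¹ * (n : P)⁻¹ ∈ D := by
      intro n
      have hcoe : ((c n * n⁻¹ : N) : P) = x * n * x⁻¹ * (n : P)⁻¹ := by
        simp [c, MulAut.conjNormal_apply]
      rw [← hcoe, hDN, MonoidHom.mem_ker]
      show Abelianization.of (c n * n⁻¹) = 1 ↔ _
      rw [← MonoidHom.mem_ker, Abelianization.ker_of]
    rw [show Nat.card {n : N // x * n * x⁻¹ * (n : P)⁻¹ ∈ D} = Nat.card F from
      Nat.card_congr (Equiv.subtypeEquivRight fun n => (hF n).symm)]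
    -- the derived subgroup is the preimage of the image of `g`
    set J₀ : Subgroup N := g.range.comap Abelianization.of
    set J := J₀.map N.subtype
    have hxn : ∀ n : N, ⁅x, (n : P)⁆ = ((c n * n⁻¹ : N) : P) := fun n => by
      simp [c, MulAut.conjNormal_apply, commutatorElement_def]
    have hJ1 : J ≤ commutator P := by
      rintro - ⟨m, ⟨n, hn⟩, rfl⟩
      have h2 : m * (c n * n⁻¹)⁻¹ ∈ (commutator N) := by
        rw [← Abelianization.ker_of N, MonoidHom.mem_ker, map_mul, map_inv,
          show Abelianization.of (c n * n⁻¹) = Abelianization.of m from hn, mul_inv_cancel]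
      have h3 : ((m * (c n * n⁻¹)⁻¹ : N) : P) ∈ commutator P := by
        have := Subgroup.mem_map_of_mem N.subtype h2
        rw [Subgroup.map_subtype_commutator] at this
        exact Subgroup.commutator_mono le_top le_top this
      have h4 : ((c n * n⁻¹ : N) : P) ∈ commutator P := hxn n ▸
        Subgroup.commutator_mem_commutator (Subgroup.mem_top _) (Subgroup.mem_top _)
      have h5 := mul_mem h3 h4
      rw [← Subgroup.coe_mul, inv_mul_cancel_right] at h5
      exact h5
    have hJN : J ≤ N := Subgroup.map_subtype_le _
    have hD' : D ≤ J := Subgroup.map_mono fun m hm => by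
      show Abelianization.of m ∈ g.range
      rw [← Abelianization.ker_of N, MonoidHom.mem_ker] at hm
      rw [hm]; exact one_mem _
    have hxJ : ∀ n ∈ N, ⁅x, n⁆ ∈ J := fun n hn => by
      rw [show n = ((⟨n, hn⟩ : N) : P) from rfl, hxn]
      exact ⟨_, ⟨⟨n, hn⟩, rfl⟩, rfl⟩
    have hNN : ∀ a ∈ N, ∀ b ∈ N, ⁅a, b⁆ ∈ J := fun a ha b hb => hD' (by
      rw [hD, Subgroup.map_subtype_commutator]; exact Subgroup.commutator_mem_commutator ha hb)
    have htop : N ⊔ Subgroup.zpowers x = ⊤ := by
      rw [← Subgroup.index_eq_one]
      refine ((Nat.dvd_prime hp).mp (hN ▸ Subgroup.index_dvd_of_le le_sup_left)).resolve_right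
        fun he => hx ?_
      have hle : N ≤ N ⊔ Subgroup.zpowers x := le_sup_left
      have h2 : N ⊔ Subgroup.zpowers x = N := by
        refine (Subgroup.eq_of_le_of_card_ge hle ?_).symm
        have e1 := N.card_mul_index
        have e2 := (N ⊔ Subgroup.zpowers x).card_mul_index
        rw [hN] at e1
        rw [he] at e2
        exact (Nat.eq_of_mul_eq_mul_right hp.pos (e2.trans e1.symm)).le
      rw [← h2]
      exact Subgroup.mem_sup_right (Subgroup.mem_zpowers x)
    haveI : J.Normal := by
      rw [← Subgroup.normalizer_eq_top_iff, eq_top_iff, ← htop]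
      refine sup_le (fun a ha => ?_) (Subgroup.zpowers_le.mpr ?_)
      · -- `N` centralizes `J` modulo `N'`
        have key : ∀ a ∈ N, ∀ j ∈ J, a * j * a⁻¹ ∈ J := fun a ha j hj => by
          have := J.mul_mem (hNN a ha j (hJN hj)) hj
          simpa [commutatorElement_def, mul_assoc] using this
        rw [Subgroup.mem_normalizer_iff]
        refine fun j => ⟨key a ha j, fun h => ?_⟩
        simpa [mul_assoc] using key a⁻¹ (inv_mem ha) _ h
      · have key : ∀ y : P, y ∈ Subgroup.zpowers x → ∀ j ∈ J, y * j * y⁻¹ ∈ J := by
          intro y hy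
          rw [← mem_powers_iff_mem_zpowers] at hy
          obtain ⟨k, rfl⟩ := hy
          induction k with
          | zero => simp
          | succ k ih =>
            intro j hj
            have h1 := J.mul_mem (hxJ _ (hJN (ih j hj))) (ih j hj)
            show x ^ (k + 1) * j * (x ^ (k + 1))⁻¹ ∈ J
            rw [pow_succ']
            simpa [commutatorElement_def, mul_assoc] using h1
        rw [Subgroup.mem_normalizer_iff]
        refine fun j => ⟨key x (Subgroup.mem_zpowers x) j, fun h => ?_⟩
        simpa [mul_assoc] using key x⁻¹ (inv_mem (Subgroup.mem_zpowers x)) _ h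
    have hJ : commutator P = J :=
      le_antisymm (CfsgLib.Group.commutator_le_of_index_prime (p := p) N J hN hx hNN hxJ) hJ1
    have hcount : (commutator P).index * Nat.card (commutator N) = p * Nat.card F := by
      have h1 : (commutator P).index = p * J₀.index := by
        rw [hJ, Subgroup.index_map_subtype, hN, mul_comm]
      have h2 : J₀.index = g.range.index :=
        Subgroup.index_comap_of_surjective _ (QuotientGroup.mk_surjective : Function.Surjective (Abelianization.of : N →* Abelianization N))
      have h3 : g.range.index * Nat.card g.range = Nat.card (Abelianization N) := g.range.index_mul_card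
      have h4 : Nat.card F * Nat.card g.range = Nat.card N := by
        rw [← Subgroup.index_ker]; exact g.ker.card_mul_index
      have h5 : Nat.card (Abelianization N) * Nat.card (commutator N) = Nat.card N :=
        ((commutator N).card_eq_card_quotient_mul_card_subgroup).symm
      have hr : 0 < Nat.card g.range := Nat.card_pos
      rw [h1, h2, mul_assoc]
      congr 1
      refine Nat.eq_of_mul_eq_mul_right hr ?_
      rw [h4, ← h5, ← h3]
      ring
    constructor
    · intro h
      rw [h, pow_two, mul_assoc] at hcount
      exact (Nat.eq_of_mul_eq_mul_left hp.pos hcount).symm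
    · intro h
      rw [h, ← mul_assoc, ← pow_two] at hcount
      exact Nat.eq_of_mul_eq_mul_right Nat.card_pos hcount
  refine ⟨⟨fun h x hx => (main x hx).mp h, fun h => ?_⟩, ⟨fun h => ?_, fun ⟨x, hx, h⟩ => (main x hx).mpr h⟩⟩
  all_goals
    obtain ⟨x, hx⟩ : ∃ x, x ∉ N := by
      by_contra hc
      push Not at hc
      rw [N.eq_top_iff'.mpr hc, Subgroup.index_top] at hN
      exact hp.one_lt.ne hN
  · exact (main x hx).mpr (h x hx)
  · exact ⟨x, hx, (main x hx).mp h⟩

end Cfsg.Agent.S4586
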