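import Cfsg.Statements.S4587
import Cfsg.Agent.Lib.AbelPSq.Minimal
-- import your own Cfsg.Agent.* helpers here

set_option autoImplicit false
open Cfsg

namespace Cfsg.Agent.S4587

/-- Let G be a finite group, p a prime and P a Sylow p-subgroup of order at least p². Assume that G has no nontrivial normal subgroup of order prime to p, that the derived subgroup P' of P contains no nontrivial normal subgroup of G, and that G is not almost simple (there is no non-abelian simple normal subgroup of G with trivial centralizer). Then [P : P'] = p² if and only if some p-element x of G has centralizer whose order has p-part exactly p². -/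
theorem result {G : Type*} [Group G] [Finite G] (p : ℕ) [Fact p.Prime] (P : Sylow p G) (hbig : p ^ 2 ∣ Nat.card G) (hcore : Cfsg.pPrimeCore p G = ⊥)
    (hcore' : (⁅(P : Subgroup G), (P : Subgroup G)⁆).normalCore = ⊥) (hnas : ¬ ∃ S : Subgroup G, S.Normal ∧ IsSimpleGroup S ∧ ¬ IsMulCommutative S ∧ Subgroup.centralizer (S : Set G) = ⊥) :
    (⁅(P : Subgroup G), (P : Subgroup G)⁆).relIndex (P : Subgroup G) = p ^ 2 ↔
      ∃ x : G, (∃ k : ℕ, orderOf x = p ^ k) ∧ (Nat.card (Subgroup.centralizer ({x} : Set G))).factorization p = 2 := by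
  classical
  set Q := (P : Subgroup G) with hQdef
  have hp : p.Prime := Fact.out
  have hQ : IsPGroup p Q := P.2
  have hrel : (⁅Q, Q⁆).relIndex Q = (commutator Q).index := by
    have he : (⁅Q, Q⁆).subgroupOf Q = commutator Q := by
      rw [← Subgroup.map_subtype_commutator, Subgroup.subgroupOf,
        Subgroup.comap_map_eq_self_of_injective Q.subtype_injective]
    rw [Subgroup.relIndex, he]
  rw [hrel]
  have hQbig : p ^ 2 ≤ Nat.card Q := by
    rw [hQdef, Sylow.card_eq_multiplicity]
    exact Nat.pow_le_pow_right hp.pos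
      ((hp.pow_dvd_iff_le_factorization Nat.card_pos.ne').mp hbig)
  have hcard2 : ∀ x : G, ∀ R : Subgroup G, IsPGroup p R → R ≤ Subgroup.centralizer ({x} : Set G) →
      Nat.card R ∣ p ^ (Nat.card (Subgroup.centralizer ({x} : Set G))).factorization p := by
    intro x R hR hle
    obtain ⟨k, hk⟩ := IsPGroup.iff_card.mp hR
    rw [hk]
    exact Nat.pow_dvd_pow p ((hp.pow_dvd_iff_le_factorization Nat.card_pos.ne').mp
      (hk ▸ Subgroup.card_dvd_of_le hle))
  -- centralisers inside conjugates of `P`
  have hmove : ∀ (x : G) (R : Subgroup G), IsPGroup p R → x ∈ R → R ≤ Subgroup.centralizer ({x} : Set G) →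
      ∃ (g : G) (h : g * x * g⁻¹ ∈ Q),
        Nat.card R ∣ Nat.card (Subgroup.centralizer ({(⟨g * x * g⁻¹, h⟩ : Q)} : Set Q)) := by
    intro x R hR hxR hle
    obtain ⟨P2, hP2⟩ := hR.exists_le_sylow
    obtain ⟨g, hg⟩ := MulAction.exists_smul_eq G P2 P
    have hmem : ∀ r ∈ R, g * r * g⁻¹ ∈ Q := fun r hr => by
      rw [hQdef, ← hg, Sylow.coe_subgroup_smul]
      exact ⟨r, hP2 hr, rfl⟩
    refine ⟨g, hmem x hxR, ?_⟩
    let f : R →* Subgroup.centralizer ({(⟨g * x * g⁻¹, hmem x hxR⟩ : Q)} : Set Q) :=
      { toFun := fun r => ⟨⟨g * r * g⁻¹, hmem r r.2⟩, Subgroup.mem_centralizer_singleton_iff.mpr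
          (Subtype.ext (by
            show g * (r : G) * g⁻¹ * (g * x * g⁻¹) = g * x * g⁻¹ * (g * (r : G) * g⁻¹)
            rw [show g * (r : G) * g⁻¹ * (g * x * g⁻¹) = g * ((r : G) * x) * g⁻¹ by group,
              Subgroup.mem_centralizer_singleton_iff.mp (hle r.2)]
            group))⟩
        map_one' := Subtype.ext (Subtype.ext (by simp))
        map_mul' := fun a b => Subtype.ext (Subtype.ext (by simp [mul_assoc])) }
    exact Subgroup.card_dvd_of_injective f fun a b h => Subtype.ext (by
      have h' : g * (a : G) * g⁻¹ = g * (b : G) * g⁻¹ :=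
        congrArg (fun z : Subgroup.centralizer ({(⟨g * x * g⁻¹, hmem x hxR⟩ : Q)} : Set Q) => ((z : Q) : G)) h
      simpa using h')
  have hsyl : ∀ x : G, (∃ k : ℕ, orderOf x = p ^ k) → ∃ R : Subgroup G, IsPGroup p R ∧ x ∈ R ∧
      R ≤ Subgroup.centralizer ({x} : Set G) ∧
      Nat.card R = p ^ (Nat.card (Subgroup.centralizer ({x} : Set G))).factorization p := by
    rintro x ⟨k, hk⟩
    set C := Subgroup.centralizer ({x} : Set G)
    let z : C := ⟨x, Subgroup.mem_centralizer_singleton_iff.mpr rfl⟩
    haveI : (Subgroup.zpowers z).Normal := ⟨fun n hn c => by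
      have hzc : z ∈ Subgroup.center C := Subgroup.mem_center_iff.mpr fun c =>
        Subtype.ext (Subgroup.mem_centralizer_singleton_iff.mp c.2)
      have hn' := (Subgroup.zpowers_le.mpr hzc) hn
      rw [Subgroup.mem_center_iff.mp hn' c, mul_inv_cancel_right]
      exact hn⟩
    obtain ⟨T⟩ : Nonempty (Sylow p C) := inferInstance
    have hzp : IsPGroup p (Subgroup.zpowers z) := IsPGroup.of_card (n := k) (by
      rw [Nat.card_zpowers, ← Subgroup.orderOf_coe, hk])
    have hsup := T.3 (T.2.to_sup_of_normal_right hzp) le_sup_left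
    refine ⟨(T : Subgroup C).map C.subtype, T.2.map _,
      ⟨z, hsup ▸ Subgroup.mem_sup_right (Subgroup.mem_zpowers z), rfl⟩, Subgroup.map_subtype_le _, ?_⟩
    rw [Subgroup.card_map_of_injective C.subtype_injective, Sylow.card_eq_multiplicity]
  constructor
  · intro hd
    by_cases hna : commutator Q = ⊥
    · refine ⟨1, ⟨0, by simp⟩, ?_⟩
      rw [hna, Subgroup.index_bot] at hd
      have hf := Sylow.card_eq_multiplicity P
      rw [← hQdef, hd] at hf
      have : Subgroup.centralizer ({(1 : G)} : Set G) = ⊤ :=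
        eq_top_iff.mpr fun g _ => Subgroup.mem_centralizer_singleton_iff.mpr (by simp)
      rw [this, Subgroup.card_top]
      exact (Nat.pow_right_injective hp.two_le hf).symm
    obtain ⟨N, hN, hab, hidx⟩ :=
      CfsgLib.AbelPSq.abelian_of_minimal P hd hna hcore hcore' hnas
    haveI := hN
    obtain ⟨y, hy⟩ : ∃ y : Q, y ∉ N.subgroupOf Q := by
      by_contra h
      push Not at h
      rw [show N.subgroupOf Q = ⊤ from eq_top_iff.mpr fun z _ => h z, Subgroup.index_top] at hidx
      exact hp.ne_one hidx.symm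
    have hC : ∀ z : Q, z ∉ N.subgroupOf Q →
        Nat.card (Subgroup.centralizer ({z} : Set Q)) = p ^ 2 := fun z hz =>
      CfsgLib.AbelPSq.centralizer_card (N.subgroupOf Q)
        (fun a ha b hb => Subtype.ext (hab a ⟨ha, a.2⟩ b ⟨hb, b.2⟩)) hd hidx hz
    obtain ⟨k, hk⟩ := IsPGroup.iff_orderOf.mp hQ y
    refine ⟨y, ⟨k, by rw [Subgroup.orderOf_coe, hk]⟩, ?_⟩
    set C := Subgroup.centralizer ({(y : G)} : Set G)
    obtain ⟨S, hS⟩ : ∃ S : Subgroup G, S = Subgroup.map Q.subtype (Subgroup.centralizer ({y} : Set Q)) :=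
      ⟨_, rfl⟩
    have hSC : S ≤ C := by
      rw [hS]
      rintro _ ⟨z, hz, rfl⟩
      exact Subgroup.mem_centralizer_singleton_iff.mpr
        (congrArg Subtype.val (Subgroup.mem_centralizer_singleton_iff.mp hz))
    have hScard : Nat.card S = p ^ 2 := by
      rw [hS, Subgroup.card_map_of_injective Q.subtype_injective, hC y hy]
    have hge : 2 ≤ (Nat.card C).factorization p :=
      (hp.pow_dvd_iff_le_factorization Nat.card_pos.ne').mp (hScard ▸ Subgroup.card_dvd_of_le hSC)
    refine le_antisymm ?_ hge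
    haveI := Fact.mk hp
    obtain ⟨R, hRp, hyR, hRC, hRcard⟩ := hsyl (y : G) ⟨k, by rw [Subgroup.orderOf_coe, hk]⟩
    obtain ⟨g, hgmem, hdvd⟩ := hmove (y : G) R hRp hyR hRC
    have hout : (⟨g * y * g⁻¹, hgmem⟩ : Q) ∉ N.subgroupOf Q := fun h => hy (by
      show (y : G) ∈ N
      have := hN.conj_mem _ (show g * (y : G) * g⁻¹ ∈ N from h) g⁻¹
      simpa [mul_assoc] using this)
    rw [hC _ hout, hRcard] at hdvd
    exact (Nat.pow_dvd_pow_iff_le_right hp.one_lt).mp hdvd
  · rintro ⟨x, hx, hf⟩
    obtain ⟨R, hRp, hxR, hRC, hRcard⟩ := hsyl x hx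
    obtain ⟨g, hgmem, -⟩ := hmove x R hRp hxR hRC
    set x' : Q := ⟨g * x * g⁻¹, hgmem⟩
    set C := Subgroup.centralizer ({x'} : Set Q)
    -- the centraliser in `P` has order at most `p²`
    have hCle : Nat.card C ≤ p ^ 2 := by
      let f : C →* Subgroup.centralizer ({x} : Set G) :=
        { toFun := fun c => ⟨g⁻¹ * ((c : Q) : G) * g, Subgroup.mem_centralizer_singleton_iff.mpr (by
            have h : ((c : Q) : G) * (g * x * g⁻¹) = g * x * g⁻¹ * ((c : Q) : G) :=
              congrArg Subtype.val (Subgroup.mem_centralizer_singleton_iff.mp c.2)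
            calc g⁻¹ * ((c : Q) : G) * g * x = g⁻¹ * (((c : Q) : G) * (g * x * g⁻¹)) * g := by group
              _ = g⁻¹ * (g * x * g⁻¹ * ((c : Q) : G)) * g := by rw [h]
              _ = x * (g⁻¹ * ((c : Q) : G) * g) := by group)⟩
          map_one' := Subtype.ext (by simp)
          map_mul' := fun a b => Subtype.ext (by simp [mul_assoc]) }
      have hd := Subgroup.card_dvd_of_injective f fun a b h => Subtype.ext (Subtype.ext (by
        have h' : g⁻¹ * ((a : Q) : G) * g = g⁻¹ * ((b : Q) : G) * g := congrArg Subtype.val h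
        simpa using h'))
      obtain ⟨k, hk⟩ := IsPGroup.iff_card.mp (hQ.to_subgroup C)
      rw [hk] at hd ⊢
      exact Nat.pow_le_pow_right hp.pos (hf ▸ (hp.pow_dvd_iff_le_factorization Nat.card_pos.ne').mp hd)
    have hle : (commutator Q).index ≤ p ^ 2 := by
      have hsub : MulAction.orbit (ConjAct Q) x' ⊆ (fun c => c * x') '' (commutator Q : Set Q) := by
        rintro _ ⟨u, rfl⟩
        refine ⟨ConjAct.ofConjAct u * x' * (ConjAct.ofConjAct u)⁻¹ * x'⁻¹, ?_, ?_⟩
        · rw [SetLike.mem_coe, commutator_def]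
          exact Subgroup.commutator_mem_commutator (Subgroup.mem_top _) (Subgroup.mem_top _)
        · show _ * x' = u • x'
          rw [ConjAct.smul_def]; group
      have h1 : (MulAction.orbit (ConjAct Q) x').ncard ≤ Nat.card (commutator Q) :=
        (Set.ncard_le_ncard hsub (Set.toFinite _)).trans ((Set.ncard_image_le (Set.toFinite _)).trans
          (Nat.card_coe_set_eq _).ge)
      rw [← MulAction.index_stabilizer] at h1
      have h2 : (MulAction.stabilizer (ConjAct Q) x').index = C.index := by
        have e : (MulAction.stabilizer (ConjAct Q) x').map ConjAct.ofConjAct.toMonoidHom = C := by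
          ext c
          show _ ↔ c ∈ Subgroup.centralizer ({x'} : Set Q); rw [Subgroup.mem_centralizer_singleton_iff]
          constructor
          · rintro ⟨u, hu, rfl⟩
            have hu' : u • x' = x' := hu
            rw [ConjAct.smul_def] at hu'
            exact mul_inv_eq_iff_eq_mul.mp hu'
          · intro hc
            refine ⟨ConjAct.toConjAct c, ?_, rfl⟩
            show ConjAct.toConjAct c • x' = x'
            rw [ConjAct.toConjAct_smul, hc, mul_inv_cancel_right]
        rw [← e]
        exact (Subgroup.index_map_of_bijective ConjAct.ofConjAct.bijective _).symm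
      rw [h2] at h1
      have h3 := C.card_mul_index
      have h4 := (commutator Q).card_mul_index
      have h5 : Nat.card (commutator Q) * (commutator Q).index
          ≤ Nat.card (commutator Q) * p ^ 2 := by
        rw [h4, ← h3, mul_comm (Nat.card C)]
        exact Nat.mul_le_mul h1 hCle
      exact Nat.le_of_mul_le_mul_left h5 Nat.card_pos
    obtain ⟨k, hk⟩ := IsPGroup.iff_card.mp hQ
    obtain ⟨i, -, hi⟩ := (Nat.dvd_prime_pow hp).mp (hk ▸ (commutator Q).index_dvd_card)
    rw [hi] at hle ⊢
    have hi2 : i ≤ 2 := (Nat.pow_le_pow_iff_right hp.one_lt).mp hle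
    congr 1
    refine le_antisymm hi2 ?_
    by_contra hlt
    haveI : IsCyclic Q := CfsgLib.AbelPSq.isCyclic_of_index hQ (by
      rw [hi]
      exact le_of_le_of_eq (Nat.pow_le_pow_right hp.pos (show i ≤ 1 by omega)) (pow_one p))
    haveI := (IsCyclic.isMulCommutative : IsMulCommutative Q)
    have hbot : commutator Q = ⊥ := by
      rw [eq_bot_iff, commutator_def, Subgroup.commutator_le]
      intro a _ b _
      rw [Subgroup.mem_bot, commutatorElement_eq_one_iff_commute]
      exact IsMulCommutative.is_comm.comm a b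
    rw [hbot, Subgroup.index_bot] at hi
    rw [hi] at hQbig
    have := (Nat.pow_le_pow_iff_right hp.one_lt).mp hQbig
    omega

end Cfsg.Agent.S4587
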