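import Cfsg.Statements.S4588
import Cfsg.Agent.Lib.Blocks.RankTwo.Subsection
import Cfsg.Agent.Lib.Blocks.PrincipalColumn

set_option linter.style.haveILetI false

set_option autoImplicit false
open Cfsg
open scoped CfsgLib.Char

namespace Cfsg.Agent.S4588

/-- Let G be a finite group, p a prime and M a maximal ideal of the algebraic integers containing p. If some p-element x of G (possibly x = 1) has centralizer whose order has p-part at most p², then the principal p-block of G contains at most p² irreducible characters of degree prime to p. -/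
theorem result {G : Type*} [Group G] [Finite G] (p : ℕ) [Fact p.Prime] (M : Ideal Cfsg.AlgInt) (hM : Cfsg.IsPModular p M)
    (hx : ∃ x : G, (∃ k : ℕ, orderOf x = p ^ k) ∧ (Nat.card (Subgroup.centralizer ({x} : Set G))).factorization p ≤ 2) :
    Nat.card {χ : Cfsg.IrrCharacter G // χ ∈ Cfsg.principalBlock M G ∧ ¬ p ∣ Cfsg.charDegree (χ : G → ℂ)} ≤ p ^ 2 := by
  classical
  haveI := Fintype.ofFinite G
  have hp : p.Prime := Fact.out
  have := CfsgLib.Blocks.isPrime_of_isPModular hM
  obtain ⟨u, n, hu, hC, hn⟩ : ∃ (u : G) (n : ℕ), orderOf u = p ^ n ∧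
      (Nat.card (Subgroup.centralizer ({u} : Set G))).factorization p ≤ 2 ∧
      (n ≠ 0 ∨ (Nat.card (Subgroup.centralizer ({u} : Set G))).factorization p ≤ 1) := by
    obtain ⟨x, ⟨k, hk⟩, hx2⟩ := hx
    by_cases hk0 : k = 0
    · have hx1 : x = 1 := orderOf_eq_one_iff.mp (by rw [hk, hk0, pow_zero])
      have hle : ∀ y : G, (Nat.card (Subgroup.centralizer ({y} : Set G))).factorization p ≤
          (Nat.card G).factorization p := fun y =>
        (Nat.factorization_le_iff_dvd Nat.card_pos.ne' Nat.card_pos.ne').mpr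
          (Subgroup.card_subgroup_dvd_card _) p
      have htop : Subgroup.centralizer ({x} : Set G) = ⊤ := by
        rw [hx1]
        exact (Subgroup.eq_top_iff' _).mpr fun g => Subgroup.mem_centralizer_singleton_iff.mpr (by simp)
      rw [htop, Subgroup.card_top] at hx2
      by_cases hpG : p ∣ Nat.card G
      · obtain ⟨y, hy⟩ := exists_prime_orderOf_dvd_card' p hpG
        exact ⟨y, 1, by rw [hy, pow_one], (hle y).trans hx2, Or.inl one_ne_zero⟩
      · refine ⟨x, k, hk, (hle x).trans hx2, Or.inr ((hle x).trans ?_)⟩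
        rw [Nat.factorization_eq_zero_of_not_dvd hpG]
        exact zero_le_one
    · exact ⟨x, k, hk, hx2, Or.inl hk0⟩
  haveI : Fintype (Subgroup.centralizer ({u} : Set G)) := Fintype.ofFinite _
  have hux : ∃ k : ℕ, orderOf u = p ^ k := ⟨n, hu⟩
  have h := CfsgLib.Blocks.RankTwo.card_nonzero_le_sq hM hu CfsgLib.Blocks.isPBlock_principalBlock
    ((CfsgLib.Blocks.isInducedBlock_centralizer_principal_iff hM hux _).mpr rfl) hC hn
  refine le_trans ?_ h
  refine Nat.card_le_card_of_injective
    (fun χ => ⟨χ.1, χ.2.1, fun h0 => χ.2.2 ?_⟩) (fun a b hab => Subtype.ext (congrArg Subtype.val hab :))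
  have hval := CfsgLib.Blocks.value_eq_principal_blockPart hM hux χ.2.1
    (y := (1 : Subgroup.centralizer ({u} : Set G))) (by rw [orderOf_one]; exact hp.not_dvd_one)
  rw [h0, Subgroup.coe_one] at hval
  have hres := CfsgLib.Blocks.res_value_mul_pElement hM χ.1.2 (Commute.one_right u) hux
  rw [hval, (CfsgLib.Blocks.irr_degree_eq χ.1).1,
    CfsgLib.Blocks.res_eq_iff (CfsgLib.Blocks.memLocalRing_zero) (CfsgLib.Blocks.memLocalRing_natCast _),
    zero_sub] at hres
  have h2 := CfsgLib.Blocks.memLocalIdeal_neg hres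
  rw [neg_neg] at h2
  exact (CfsgLib.Blocks.memLocalIdeal_natCast_iff hM).mp h2

end Cfsg.Agent.S4588
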