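import Cfsg.Statements.S4591
import Cfsg.Agent.Lib.Char.Clifford
import Cfsg.Agent.Lib.Char.Kernel
import Cfsg.Agent.Lib.Char.Extraspecial
import Cfsg.Agent.Lib.Transfer.TateFrattini
import Cfsg.Agent.Lib.PSolvable.Omega

set_option autoImplicit false
open Cfsg

open scoped ComplexConjugate CfsgLib.Char Pointwise

open CfsgLib.Char CfsgLib.Char.Extraspecial

section Helpers

variable {G : Type*} [Group G]

/-- The trivial irreducible character of a group. -/
noncomputable def trivChar (H : Type*) [Group H] : Cfsg.IrrCharacter H :=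
  ⟨fun g => (((1 : H →* ℂˣ) g : ℂˣ) : ℂ), isIrrCharacter_monoidHom 1⟩

theorem trivChar_apply {H : Type*} [Group H] (g : H) : (trivChar H : H → ℂ) g = 1 := by
  simp [trivChar]

theorem exists_nat_sum [Fintype G] {f : G → ℂ} (hf : Cfsg.IsCharacter G f) (f' : G →* ℂˣ) :
    ∃ m : ℕ, ∑ x, f x * conj ((f' x : ℂˣ) : ℂ) = (Nat.card G : ℂ) * m := by
  obtain ⟨m, hm⟩ := exists_nat_classInner hf (isCharacter_of_isIrr (isIrrCharacter_monoidHom f'))
  refine ⟨m, ?_⟩
  rw [← hm, Cfsg.classInner, ← mul_assoc, mul_inv_cancel₀ (Nat.cast_ne_zero.mpr Nat.card_pos.ne'),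
    one_mul]

variable [Finite G]

/-- A character with a trivial constituent on a subgroup has one on every smaller subgroup. -/
theorem sum_ne_of_le (J L : Subgroup G) [Fintype J] [Fintype L] (hLJ : L ≤ J) {f : G → ℂ}
    (hf : Cfsg.IsCharacter G f) (h : ∑ x : J, f x ≠ 0) : ∑ x : L, f x ≠ 0 := by
  classical
  obtain ⟨m, hm⟩ := exists_multiplicities (isCharacter_comp J.subtype hf)
  have hval : ∀ x : J, f x = ∑ ψ : Cfsg.IrrCharacter J, (m ψ : ℂ) * (ψ : J → ℂ) x := fun x => by
    have := congrFun hm x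
    simpa [Finset.sum_apply] using this
  have hJ : ∀ ψ : Cfsg.IrrCharacter J, ∑ x : J, (ψ : J → ℂ) x =
      if ψ = trivChar J then (Nat.card J : ℂ) else 0 := by
    intro ψ
    have h1 := classInner_coe ψ (trivChar J)
    simp only [Cfsg.classInner, trivChar_apply, map_one, mul_one] at h1
    rw [inv_mul_eq_iff_eq_mul₀ (Nat.cast_ne_zero.mpr Nat.card_pos.ne')] at h1
    rw [h1]
    split_ifs <;> simp
  have hm1 : m (trivChar J) ≠ 0 := by
    intro e
    apply h
    rw [Finset.sum_congr rfl fun x _ => hval x, Finset.sum_comm]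
    refine Finset.sum_eq_zero fun ψ _ => ?_
    rw [← Finset.mul_sum, hJ]
    split_ifs with e'
    · rw [e', e]; simp
    · simp
  choose n hn using fun ψ : Cfsg.IrrCharacter J =>
    exists_nat_sum (G := L) (isCharacter_comp (Subgroup.inclusion hLJ) (isCharacter_of_isIrr ψ.2)) 1
  have hn' : ∀ ψ : Cfsg.IrrCharacter J,
      ∑ x : L, (ψ : J → ℂ) (Subgroup.inclusion hLJ x) = (Nat.card L : ℂ) * n ψ := fun ψ => by
    simpa using hn ψ
  have htot : ∑ x : L, f x = (Nat.card L : ℂ) * ((∑ ψ, m ψ * n ψ : ℕ) : ℂ) := by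
    calc ∑ x : L, f x = ∑ x : L, ∑ ψ : Cfsg.IrrCharacter J,
          (m ψ : ℂ) * (ψ : J → ℂ) (Subgroup.inclusion hLJ x) :=
        Finset.sum_congr rfl fun x _ => hval (Subgroup.inclusion hLJ x)
      _ = _ := by
        rw [Finset.sum_comm, Nat.cast_sum, Finset.mul_sum]
        refine Finset.sum_congr rfl fun ψ _ => ?_
        rw [← Finset.mul_sum, hn' ψ]
        push_cast
        ring
  rw [htot, mul_ne_zero_iff]
  refine ⟨Nat.cast_ne_zero.mpr Nat.card_pos.ne', Nat.cast_ne_zero.mpr fun e => hm1 ?_⟩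
  have h0 := Finset.sum_eq_zero_iff.mp e (trivChar J) (Finset.mem_univ _)
  rcases Nat.mul_eq_zero.mp h0 with h1 | h1
  · exact h1
  · have h2 := hn' (trivChar J)
    simp [trivChar_apply, h1] at h2

/-- A trivial constituent on a normal subgroup puts the subgroup in the kernel. -/
theorem trivial_of_sum_ne (L : Subgroup G) [L.Normal] [Fintype L] {χ : G → ℂ}
    (hχ : Cfsg.IsIrrCharacter G χ) (h : ∑ x : L, χ x ≠ 0) : ∀ l ∈ L, χ l = χ 1 := by
  classical
  haveI := Fintype.ofFinite G
  have hinv : ∀ g, conjBy L (trivChar L : L → ℂ) g = (trivChar L : L → ℂ) := fun g => by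
    funext x; simp [conjBy_apply, trivChar_apply]
  have hcon : Cfsg.classInner (fun x : L => χ x) (trivChar L : L → ℂ) ≠ 0 := by
    simp only [Cfsg.classInner, trivChar_apply, map_one, mul_one]
    exact mul_ne_zero (inv_ne_zero (Nat.cast_ne_zero.mpr Nat.card_pos.ne')) h
  have he := clifford_invariant L hχ (trivChar L).2 hinv hcon
  intro l hl
  have h1 := congrFun he ⟨l, hl⟩
  have h2 := congrFun he 1
  simp only [Pi.smul_apply, trivChar_apply] at h1 h2
  rw [h1]
  exact h2.symm

/-- Where the class size is prime to `p`, the value is divisible by `p` along with the degree. -/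
theorem isIntegral_div {χ : G → ℂ} (hχ : Cfsg.IsIrrCharacter G χ) {p d : ℕ} [Fact p.Prime]
    (hd : χ 1 = d) (hpd : p ∣ d) {c : G}
    (hc : ¬ p ∣ (Subgroup.centralizer ({c} : Set G)).index) : IsIntegral ℤ (χ c / p) := by
  obtain ⟨e, rfl⟩ := hpd
  have hp0 : (p : ℂ) ≠ 0 := Nat.cast_ne_zero.mpr (Fact.out : p.Prime).ne_zero
  have he0 : (e : ℂ) ≠ 0 := fun h => irr_degree_ne_zero hχ (by rw [hd]; push_cast; rw [h, mul_zero])
  set m := (Subgroup.centralizer ({c} : Set G)).index
  have h1 : IsIntegral ℤ ((m : ℂ) * χ c / p) := by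
    have : (m : ℂ) * χ c / p = omega χ c * (e : ℂ) := by
      rw [omega, hd]; push_cast; field_simp; ring
    rw [this]
    exact (isIntegral_omega_irr hχ c).mul (isIntegral_natCast e)
  obtain ⟨a, b, hab⟩ : IsCoprime (m : ℤ) (p : ℤ) := Int.isCoprime_iff_nat_coprime.mpr
    (by simpa using (((Fact.out : p.Prime).coprime_iff_not_dvd).mpr hc).symm)
  have h2 : χ c / p = (a : ℂ) * ((m : ℂ) * χ c / p) + (b : ℂ) * χ c := by
    have h3 : (a : ℂ) * m + b * p = 1 := by exact_mod_cast hab
    field_simp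
    linear_combination -(χ c) * h3
  rw [h2]
  exact ((isIntegral_intCast a).mul h1).add
    ((isIntegral_intCast b).mul (isIntegral_value (isCharacter_of_isIrr hχ) c))

/-- A `p`-regular element centralising a Sylow `p`-subgroup and acting trivially in all characters
of degree prime to `p` is trivial. -/
theorem eq_one_of_centralizer_of_kernel {p : ℕ} [Fact p.Prime] (P : Sylow p G) {c : G}
    (hc : c ∈ Subgroup.centralizer ((P : Subgroup G) : Set G)) (hco : ¬ p ∣ orderOf c)
    (hker : ∀ χ : Cfsg.IrrCharacter G, ¬ p ∣ Cfsg.charDegree (χ : G → ℂ) →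
      (χ : G → ℂ) c = (χ : G → ℂ) 1) : c = 1 := by
  classical
  haveI := Fintype.ofFinite G
  haveI := Fintype.ofFinite (P : Subgroup G)
  by_contra hc1
  have hidx : ¬ p ∣ (Subgroup.centralizer ({c} : Set G)).index := by
    intro h
    refine Sylow.not_dvd_index P (h.trans (Subgroup.index_dvd_of_le fun x hx => ?_))
    refine Subgroup.mem_centralizer_iff.mpr fun y hy => ?_
    rw [Set.mem_singleton_iff.mp hy]
    exact (Subgroup.mem_centralizer_iff.mp hc x hx).symm
  choose m hm using fun χ : Cfsg.IrrCharacter G =>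
    exists_nat_sum (G := (P : Subgroup G)) (isCharacter_comp (P : Subgroup G).subtype
      (isCharacter_of_isIrr χ.2)) 1
  have hm' : ∀ χ : Cfsg.IrrCharacter G,
      ∑ x : (P : Subgroup G), (χ : G → ℂ) x = (Nat.card (P : Subgroup G) : ℂ) * m χ := fun χ => by
    simpa using hm χ
  have hP0 : (Nat.card (P : Subgroup G) : ℂ) ≠ 0 := Nat.cast_ne_zero.mpr Nat.card_pos.ne'
  have hS : ∑ χ : Cfsg.IrrCharacter G, (χ : G → ℂ) c * (m χ : ℂ) = 0 := by
    refine (mul_eq_zero.mp ?_).resolve_left hP0
    calc (Nat.card (P : Subgroup G) : ℂ) * ∑ χ : Cfsg.IrrCharacter G, (χ : G → ℂ) c * (m χ : ℂ)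
        = ∑ χ : Cfsg.IrrCharacter G, (χ : G → ℂ) c * conj (∑ x : (P : Subgroup G), (χ : G → ℂ) x) := by
          rw [Finset.mul_sum]
          refine Finset.sum_congr rfl fun χ _ => ?_
          rw [hm', map_mul, Complex.conj_natCast, Complex.conj_natCast]
          ring
      _ = ∑ x : (P : Subgroup G), ∑ χ : Cfsg.IrrCharacter G,
            (χ : G → ℂ) c * conj ((χ : G → ℂ) x) := by
          rw [Finset.sum_comm]
          simp only [map_sum, Finset.mul_sum]
      _ = 0 := Finset.sum_eq_zero fun x _ => by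
          rw [column_orthogonality, if_neg]
          intro hcx
          obtain ⟨a, ha⟩ := isConj_iff.mp hcx
          have ho : orderOf c = orderOf (x : G) := by
            rw [← ha]
            exact (orderOf_injective (MulAut.conj a).toMonoidHom (MulAut.conj a).injective c).symm
          obtain ⟨k, hk⟩ := (IsPGroup.iff_orderOf.mp P.isPGroup') x
          rw [← Subgroup.orderOf_coe, ← ho] at hk
          rcases Nat.eq_zero_or_pos k with rfl | hk0
          · exact hc1 (orderOf_eq_one_iff.mp (by simpa using hk))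
          · exact hco (hk ▸ dvd_pow_self p hk0.ne')
  have hT : ∑ χ : Cfsg.IrrCharacter G, (χ : G → ℂ) 1 * (m χ : ℂ) = ((P : Subgroup G).index : ℂ) := by
    refine mul_left_cancel₀ hP0 ?_
    calc (Nat.card (P : Subgroup G) : ℂ) * ∑ χ : Cfsg.IrrCharacter G, (χ : G → ℂ) 1 * (m χ : ℂ)
        = ∑ χ : Cfsg.IrrCharacter G, (χ : G → ℂ) 1 * ∑ x : (P : Subgroup G), (χ : G → ℂ) x := by
          rw [Finset.mul_sum]
          refine Finset.sum_congr rfl fun χ _ => ?_
          rw [hm']
          ring
      _ = ∑ x : (P : Subgroup G), ∑ χ : Cfsg.IrrCharacter G,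
            (χ : G → ℂ) 1 * (χ : G → ℂ) x := by
          rw [Finset.sum_comm]
          simp only [Finset.mul_sum]
      _ = (Nat.card G : ℂ) := by
          rw [Finset.sum_eq_single 1]
          · simp [sum_degree_mul_irr]
          · intro x _ hx
            rw [sum_degree_mul_irr, if_neg (by simpa using hx)]
          · simp
      _ = _ := by rw [← Nat.cast_mul, Subgroup.card_mul_index]
  have hdiv : ∀ χ : Cfsg.IrrCharacter G,
      IsIntegral ℤ (((χ : G → ℂ) c - (χ : G → ℂ) 1) * (m χ : ℂ) / p) := by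
    intro χ
    obtain ⟨d, hd⟩ := exists_nat_degree (isCharacter_of_isIrr χ.2)
    by_cases hpd : p ∣ d
    · have h1 := isIntegral_div χ.2 hd hpd hidx
      obtain ⟨e, rfl⟩ := hpd
      have hp0 : (p : ℂ) ≠ 0 := Nat.cast_ne_zero.mpr (Fact.out : p.Prime).ne_zero
      have h2 : ((χ : G → ℂ) c - (χ : G → ℂ) 1) * (m χ : ℂ) / p =
          ((χ : G → ℂ) c / p - (e : ℂ)) * (m χ : ℂ) := by
        rw [hd]; push_cast; field_simp
      rw [h2]
      exact (h1.sub (isIntegral_natCast e)).mul (isIntegral_natCast _)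
    · rw [hker χ (by rw [charDegree_eq hd]; exact hpd), sub_self, zero_mul, zero_div]
      exact isIntegral_zero
  have hint : IsIntegral ℤ (((P : Subgroup G).index : ℂ) / p) := by
    have h1 : ((P : Subgroup G).index : ℂ) / p = -(∑ χ : Cfsg.IrrCharacter G,
        ((χ : G → ℂ) c - (χ : G → ℂ) 1) * (m χ : ℂ) / p) := by
      rw [← Finset.sum_div, ← neg_div]
      congr 1
      simp only [sub_mul, Finset.sum_sub_distrib, hS, hT]
      ring
    rw [h1]
    exact (IsIntegral.sum _ fun χ _ => hdiv χ).neg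
  exact Sylow.not_dvd_index P (dvd_of_isIntegral_div (Fact.out : p.Prime).ne_zero hint)

/-- An element of the Sylow subgroup acting trivially in all characters of degree prime to `p`
lies in the derived subgroup of the Sylow subgroup. -/
theorem mem_commutator_of_kernel {p : ℕ} [Fact p.Prime] (P : Sylow p G) (x : (P : Subgroup G))
    (hker : ∀ χ : Cfsg.IrrCharacter G, ¬ p ∣ Cfsg.charDegree (χ : G → ℂ) →
      (χ : G → ℂ) (x : G) = (χ : G → ℂ) 1) : x ∈ commutator (P : Subgroup G) := by
  classical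
  haveI := Fintype.ofFinite G
  haveI := Fintype.ofFinite (P : Subgroup G)
  by_contra hx
  obtain ⟨lam, hlam⟩ := CommGroup.exists_apply_ne_one_of_hasEnoughRootsOfUnity
    (Abelianization (P : Subgroup G)) ℂ (a := Abelianization.of x)
    (fun e => hx ((QuotientGroup.eq_one_iff x).mp e))
  set f : (P : Subgroup G) →* ℂˣ := lam.comp Abelianization.of with hf
  choose m hm using fun χ : Cfsg.IrrCharacter G =>
    exists_nat_sum (G := (P : Subgroup G)) (isCharacter_comp (P : Subgroup G).subtype
      (isCharacter_of_isIrr χ.2)) f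
  have hP0 : (Nat.card (P : Subgroup G) : ℂ) ≠ 0 := Nat.cast_ne_zero.mpr Nat.card_pos.ne'
  have hT : ∑ χ : Cfsg.IrrCharacter G, (χ : G → ℂ) 1 * (m χ : ℂ) = ((P : Subgroup G).index : ℂ) := by
    refine mul_left_cancel₀ hP0 ?_
    calc (Nat.card (P : Subgroup G) : ℂ) * ∑ χ : Cfsg.IrrCharacter G, (χ : G → ℂ) 1 * (m χ : ℂ)
        = ∑ χ : Cfsg.IrrCharacter G, (χ : G → ℂ) 1 *
            ∑ y : (P : Subgroup G), (χ : G → ℂ) y * conj ((f y : ℂˣ) : ℂ) := by
          rw [Finset.mul_sum]
          refine Finset.sum_congr rfl fun χ _ => ?_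
          have := hm χ
          simp only [Subgroup.coe_subtype] at this
          rw [this]
          ring
      _ = ∑ y : (P : Subgroup G), (∑ χ : Cfsg.IrrCharacter G,
            (χ : G → ℂ) 1 * (χ : G → ℂ) y) * conj ((f y : ℂˣ) : ℂ) := by
          simp only [Finset.mul_sum, Finset.sum_mul]
          rw [Finset.sum_comm]
          simp only [mul_assoc]
      _ = (Nat.card G : ℂ) := by
          rw [Finset.sum_eq_single 1]
          · simp [sum_degree_mul_irr]
          · intro y _ hy
            rw [sum_degree_mul_irr, if_neg (by simpa using hy), zero_mul]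
          · simp
      _ = _ := by rw [← Nat.cast_mul, Subgroup.card_mul_index]
  choose d hd using fun χ : Cfsg.IrrCharacter G => exists_nat_degree (isCharacter_of_isIrr χ.2)
  have hTn : (∑ χ : Cfsg.IrrCharacter G, d χ * m χ) = (P : Subgroup G).index := by
    have h1 : ((∑ χ : Cfsg.IrrCharacter G, d χ * m χ : ℕ) : ℂ) = ((P : Subgroup G).index : ℂ) := by
      push_cast
      rw [← hT]
      exact Finset.sum_congr rfl fun χ _ => by rw [hd χ]
    exact_mod_cast h1
  obtain ⟨χ, -, hχ⟩ : ∃ χ ∈ (Finset.univ : Finset (Cfsg.IrrCharacter G)), ¬ p ∣ d χ * m χ := by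
    by_contra hno
    push Not at hno
    exact Sylow.not_dvd_index P (hTn ▸ Finset.dvd_sum hno)
  have hdχ : ¬ p ∣ Cfsg.charDegree (χ : G → ℂ) := by
    rw [charDegree_eq (hd χ)]; exact fun h => hχ (h.mul_right _)
  obtain ⟨K, -, hK, hKmul⟩ := exists_kernel (isCharacter_of_isIrr χ.2)
  have hshift : ∑ y : (P : Subgroup G), (χ : G → ℂ) y * conj ((f y : ℂˣ) : ℂ) =
      conj ((f x : ℂˣ) : ℂ) * ∑ y : (P : Subgroup G), (χ : G → ℂ) y * conj ((f y : ℂˣ) : ℂ) := by
    rw [Finset.mul_sum]
    refine (Fintype.sum_equiv (Equiv.mulLeft x) _ _ fun y => ?_).symm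
    have h1 : (χ : G → ℂ) ((x : G) * y) = (χ : G → ℂ) y :=
      hKmul x ((hK x).mpr (hker χ hdχ)) y
    rw [Equiv.coe_mulLeft, map_mul f, Units.val_mul, map_mul, Subgroup.coe_mul, h1]
    ring
  have hm0 : ∑ y : (P : Subgroup G), (χ : G → ℂ) y * conj ((f y : ℂˣ) : ℂ) ≠ 0 := by
    have h1 := hm χ
    simp only [Subgroup.coe_subtype] at h1
    rw [h1, mul_ne_zero_iff]
    exact ⟨hP0, Nat.cast_ne_zero.mpr fun e => hχ (by rw [e, mul_zero]; exact dvd_zero p)⟩
  have h2 : conj ((f x : ℂˣ) : ℂ) = 1 := (mul_eq_right₀ hm0).mp hshift.symm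
  apply hlam
  have h3 : ((f x : ℂˣ) : ℂ) = 1 := by
    have := congrArg conj h2
    simpa using this
  exact Units.ext h3

/-- A normal subgroup meeting the centraliser of a Sylow `p`-subgroup trivially is a `p'`-group. -/
theorem not_dvd_card_of_inf_eq_bot {p : ℕ} [Fact p.Prime] (P : Sylow p G) (N : Subgroup G)
    [N.Normal] (hN : N ⊓ Subgroup.centralizer ((P : Subgroup G) : Set G) = ⊥) :
    ¬ p ∣ Nat.card N := by
  intro hdvd
  obtain ⟨x, hx⟩ := exists_prime_orderOf_dvd_card' p hdvd
  have hxp : IsPGroup p (Subgroup.zpowers (x : G)) := by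
    refine IsPGroup.of_card (n := 1) ?_
    rw [Nat.card_zpowers, Subgroup.orderOf_coe, hx, pow_one]
  obtain ⟨Q, hQ⟩ := hxp.exists_le_sylow
  obtain ⟨g, rfl⟩ := MulAction.exists_smul_eq G P Q
  obtain ⟨y, hy, hye⟩ := hQ (Subgroup.mem_zpowers (x : G))
  have hyN : y ∈ N := by
    have : g * y * g⁻¹ ∈ N := by
      have e : g * y * g⁻¹ = (x : G) := hye
      rw [e]; exact x.2
    simpa [mul_assoc] using (inferInstance : N.Normal).conj_mem _ this g⁻¹
  have hy1 : y ≠ 1 := by
    rintro rfl
    have e : (x : G) = 1 := by rw [← hye]; simp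
    rw [show x = 1 from Subtype.ext e, orderOf_one] at hx
    exact (Fact.out : p.Prime).ne_one hx.symm
  have hne : N.subgroupOf (P : Subgroup G) ≠ ⊥ := fun e =>
    hy1 (congrArg Subtype.val ((Subgroup.eq_bot_iff_forall _).mp e ⟨y, hy⟩ hyN))
  obtain ⟨z, hzN, hzc, hzo⟩ := exists_central_of_normal P.isPGroup' _ hne
  have hz : (z : G) ∈ N ⊓ Subgroup.centralizer ((P : Subgroup G) : Set G) :=
    ⟨hzN, Subgroup.mem_centralizer_iff.mpr fun w hw =>
      congrArg Subtype.val (Subgroup.mem_center_iff.mp hzc ⟨w, hw⟩)⟩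
  rw [hN, Subgroup.mem_bot] at hz
  rw [show z = 1 from Subtype.ext hz, orderOf_one] at hzo
  exact (Fact.out : p.Prime).ne_one hzo.symm

/-- A character of degree prime to `p` has a trivial constituent on a `p'`-group on which the
Sylow subgroup acts without fixed points. -/
theorem sum_ne_of_inf_eq_bot {p : ℕ} [Fact p.Prime] (P : Sylow p G) (N : Subgroup G)
    [N.Normal] [Fintype N] (hN : N ⊓ Subgroup.centralizer ((P : Subgroup G) : Set G) = ⊥)
    {χ : G → ℂ} (hχ : Cfsg.IsCharacter G χ) {d : ℕ} (hd : χ 1 = d) (hpd : ¬ p ∣ d) :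
    ∑ n : N, χ n ≠ 0 := by
  classical
  haveI := Fintype.ofFinite G
  letI : MulAction (P : Subgroup G) N :=
    MulAction.compHom N (((MulAut.toPerm N).comp (MulAut.conjNormal (H := N))).comp
      (P : Subgroup G).subtype)
  have hsmul : ∀ (u : (P : Subgroup G)) (n : N), ((u • n : N) : G) = u * n * (u : G)⁻¹ :=
    fun u n => rfl
  haveI : Fintype (MulAction.orbitRel.Quotient (P : Subgroup G) N) := Fintype.ofFinite _
  set mk : N → MulAction.orbitRel.Quotient (P : Subgroup G) N := fun n => Quotient.mk'' n with hmk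
  have hfib : ∀ ω, ω ≠ mk 1 →
      IsIntegral ℤ ((∑ n ∈ Finset.univ.filter (fun n => mk n = ω), χ n) / p) := by
    intro ω hω
    obtain ⟨a, rfl⟩ := Quotient.mk''_surjective ω
    have hconst : ∀ n ∈ Finset.univ.filter (fun n => mk n = Quotient.mk'' a), χ n = χ a := by
      intro n hn
      obtain ⟨u, hu⟩ := Quotient.exact' (Finset.mem_filter.mp hn).2
      rw [← hu]
      show χ ((u • a : N) : G) = _
      rw [hsmul]
      exact isClassFunction_of_isCharacter hχ _ _
    rw [Finset.sum_congr rfl hconst, Finset.sum_const, nsmul_eq_mul]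
    have hcard : (Finset.univ.filter (fun n => mk n = Quotient.mk'' a)).card =
        Nat.card (MulAction.orbit (P : Subgroup G) a) := by
      rw [Nat.card_eq_fintype_card, ← Set.toFinset_card]
      congr 1
      ext n
      simp [hmk, Quotient.eq'', MulAction.orbitRel_apply]
    obtain ⟨k, hk⟩ := P.isPGroup'.card_orbit a
    rcases Nat.eq_zero_or_pos k with rfl | hk0
    · exfalso
      apply hω
      have hfix : ∀ u : (P : Subgroup G), u • a = a := by
        intro u
        rw [pow_zero] at hk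
        obtain ⟨hs, -⟩ := Nat.card_eq_one_iff_unique.mp hk
        exact congrArg Subtype.val (hs.elim ⟨u • a, MulAction.mem_orbit _ _⟩
          ⟨a, MulAction.mem_orbit_self _⟩)
      have ha : (a : G) ∈ N ⊓ Subgroup.centralizer ((P : Subgroup G) : Set G) := by
        refine ⟨a.2, Subgroup.mem_centralizer_iff.mpr fun w hw => ?_⟩
        have := congrArg Subtype.val (hfix ⟨w, hw⟩)
        rw [hsmul] at this
        exact mul_inv_eq_iff_eq_mul.mp this
      rw [hN, Subgroup.mem_bot] at ha
      rw [show a = 1 from Subtype.ext ha]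
    · obtain ⟨j, hj⟩ : p ∣ p ^ k := dvd_pow_self p hk0.ne'
      rw [hcard, hk, hj, Nat.cast_mul, show ((p : ℂ) * j) * χ a / p = (j : ℂ) * χ a by
        have := (Nat.cast_ne_zero (R := ℂ)).mpr (Fact.out : p.Prime).ne_zero
        field_simp]
      exact (isIntegral_natCast j).mul (isIntegral_value hχ _)
  have hone : ∑ n ∈ Finset.univ.filter (fun n => mk n = mk 1), χ n = d := by
    have : Finset.univ.filter (fun n => mk n = mk 1) = {1} := by
      ext n
      simp only [Finset.mem_filter, Finset.mem_univ, true_and, Finset.mem_singleton]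
      refine ⟨fun h => ?_, fun h => by rw [h]⟩
      obtain ⟨u, hu⟩ := Quotient.exact' h
      rw [← hu]
      exact Subtype.ext (by rw [hsmul]; simp)
    rw [this, Finset.sum_singleton]
    exact hd
  intro hzero
  refine hpd (dvd_of_isIntegral_div (Fact.out : p.Prime).ne_zero ?_)
  rw [← Finset.sum_fiberwise Finset.univ mk, ← Finset.add_sum_erase _ _ (Finset.mem_univ (mk 1)),
    hone] at hzero
  have h1 : (d : ℂ) / p = -∑ ω ∈ (Finset.univ.erase (mk 1)),
      (∑ n ∈ Finset.univ.filter (fun n => mk n = ω), χ n) / p := by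
    rw [← Finset.sum_div, ← neg_div, eq_neg_of_add_eq_zero_left hzero]
  rw [h1]
  exact (IsIntegral.sum _ fun ω hω => hfib ω (Finset.mem_erase.mp hω).1).neg

/-- A character of degree prime to `p` has a trivial constituent on the derived subgroup of a
`p`-group. -/
theorem sum_commutator_ne {p : ℕ} [Fact p.Prime] {P : Type*} [Group P] [Finite P]
    [Fintype (commutator P)] (hP : IsPGroup p P) {f : P → ℂ} (hf : Cfsg.IsCharacter P f) {d : ℕ}
    (hd : f 1 = d) (hpd : ¬ p ∣ d) : ∑ y : commutator P, f y ≠ 0 := by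
  classical
  haveI := Fintype.ofFinite P
  obtain ⟨m, hm⟩ := exists_multiplicities hf
  choose n hn hn0 hndvd using fun ψ : Cfsg.IrrCharacter P => exists_degree_dvd_card ψ.2
  have hsum : d = ∑ ψ, m ψ * n ψ := by
    have h1 : (d : ℂ) = ((∑ ψ, m ψ * n ψ : ℕ) : ℂ) := by
      rw [← hd, hm, Finset.sum_apply]
      push_cast
      exact Finset.sum_congr rfl fun ψ _ => by rw [Pi.smul_apply, smul_eq_mul, hn ψ]
    exact_mod_cast h1
  obtain ⟨ψ, -, hψ⟩ : ∃ ψ ∈ (Finset.univ : Finset (Cfsg.IrrCharacter P)), ¬ p ∣ m ψ * n ψ := by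
    by_contra hno
    push Not at hno
    exact hpd (hsum ▸ Finset.dvd_sum hno)
  have hψ1 : n ψ = 1 := by
    obtain ⟨k, hk⟩ := hP.exists_card_eq
    obtain ⟨j, -, hj⟩ := (Nat.dvd_prime_pow Fact.out).mp (hk ▸ hndvd ψ)
    rcases Nat.eq_zero_or_pos j with rfl | hj0
    · simpa using hj
    · exact absurd ((hj ▸ dvd_pow_self p hj0.ne' : p ∣ n ψ).mul_left (m ψ)) hψ
  have hlin : ∀ y ∈ commutator P, (ψ : P → ℂ) y = 1 := by
    intro y hy
    have h1 : (ψ : P → ℂ) 1 = 1 := by rw [hn ψ, hψ1, Nat.cast_one]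
    have := Abelianization.commutator_subset_ker (linearHom (isCharacter_of_isIrr ψ.2) h1) hy
    rw [MonoidHom.mem_ker] at this
    rw [← linearHom_apply (isCharacter_of_isIrr ψ.2) h1, this, Units.val_one]
  choose k hk using fun φ : Cfsg.IrrCharacter P => exists_nat_sum (G := commutator P)
    (isCharacter_comp (commutator P).subtype (isCharacter_of_isIrr φ.2)) 1
  have hk' : ∀ φ : Cfsg.IrrCharacter P,
      ∑ y : commutator P, (φ : P → ℂ) y = (Nat.card (commutator P) : ℂ) * k φ := fun φ => by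
    simpa using hk φ
  have htot : ∑ y : commutator P, f y =
      (Nat.card (commutator P) : ℂ) * ((∑ φ, m φ * k φ : ℕ) : ℂ) := by
    rw [hm]
    simp only [Finset.sum_apply, Pi.smul_apply, smul_eq_mul]
    rw [Finset.sum_comm, Nat.cast_sum, Finset.mul_sum]
    refine Finset.sum_congr rfl fun φ _ => ?_
    rw [← Finset.mul_sum, hk']
    push_cast
    ring
  rw [htot, mul_ne_zero_iff]
  refine ⟨Nat.cast_ne_zero.mpr Nat.card_pos.ne', Nat.cast_ne_zero.mpr fun e => hψ ?_⟩
  have h0 := Finset.sum_eq_zero_iff.mp e ψ (Finset.mem_univ _)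
  rcases Nat.mul_eq_zero.mp h0 with h1 | h1
  · simp [h1]
  · have h2 := hk' ψ
    rw [Finset.sum_congr rfl fun (y : commutator P) _ => hlin (y : P) y.2] at h2
    simp [h1] at h2

end Helpers

namespace Cfsg.Agent.S4591

/-- Let G be a finite group, p a prime and P a Sylow p-subgroup, and let N be the largest normal subgroup of G in which P has trivial centralizer (N is normal with C_N(P) = 1 and contains every normal subgroup with that property). Then the intersection of the kernels of the irreducible characters of G of degree prime to p is the normal core in G of the subgroup N·P' (P' the derived subgroup of P). In particular, when G has no nontrivial normal subgroup of order prime to p, that intersection is the normal core of P'. -/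
theorem result {G : Type*} [Group G] [Finite G] (p : ℕ) [Fact p.Prime] (P : Sylow p G) (N : Subgroup G) [N.Normal]
    (hN : N ⊓ Subgroup.centralizer ((P : Subgroup G) : Set G) = ⊥)
    (hmax : ∀ L : Subgroup G, L.Normal → L ⊓ Subgroup.centralizer ((P : Subgroup G) : Set G) = ⊥ → L ≤ N) :
    {g : G | ∀ χ : Cfsg.IrrCharacter G, ¬ p ∣ Cfsg.charDegree (χ : G → ℂ) → (χ : G → ℂ) g = (χ : G → ℂ) 1} =
      ((N ⊔ ⁅(P : Subgroup G), (P : Subgroup G)⁆).normalCore : Set G) := by
  classical
  haveI := Fintype.ofFinite G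
  set P' : Subgroup G := ⁅(P : Subgroup G), (P : Subgroup G)⁆ with hP'
  have hmap : (commutator (P : Subgroup G)).map (P : Subgroup G).subtype = P' := by
    rw [commutator_def, Subgroup.map_commutator, ← MonoidHom.range_eq_map, Subgroup.range_subtype]
  have hP'P : P' ≤ (P : Subgroup G) := hmap ▸ Subgroup.map_subtype_le _
  ext g
  rw [Set.mem_ofPred_eq, SetLike.mem_coe]
  constructor
  · -- the kernel is contained in the core
    intro hg
    choose Kc hKn hKmem hKmul using fun χ : Cfsg.IrrCharacter G =>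
      exists_kernel (isCharacter_of_isIrr χ.2)
    let K : Subgroup G := ⨅ (χ : Cfsg.IrrCharacter G) (_ : ¬ p ∣ Cfsg.charDegree (χ : G → ℂ)), Kc χ
    have hK : ∀ x, x ∈ K ↔ ∀ χ : Cfsg.IrrCharacter G, ¬ p ∣ Cfsg.charDegree (χ : G → ℂ) →
        (χ : G → ℂ) x = (χ : G → ℂ) 1 := by
      intro x; simp only [K, Subgroup.mem_iInf, hKmem]
    haveI hKnormal : K.Normal := ⟨fun n hn y => (hK _).mpr fun χ hχ => by
      rw [isClassFunction_irr χ n y]; exact (hK n).mp hn χ hχ⟩
    have hgK : g ∈ K := (hK g).mpr hg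
    set H : Subgroup G := K ⊔ (P : Subgroup G) with hH
    let S : Sylow p H := P.subtype le_sup_right
    set K' : Subgroup H := K.subgroupOf H
    have hSK : ∀ y : H, y ∈ (S : Subgroup H) → y ∈ K' →
        y ∈ (frattini ↥(S : Subgroup H)).map (S : Subgroup H).subtype := by
      intro y hyS hyK
      have h1 : (y : G) ∈ P' := hmap ▸ Subgroup.mem_map_of_mem _
        (mem_commutator_of_kernel P ⟨(y : G), hyS⟩ ((hK _).mp hyK))
      have h2 : (⁅(S : Subgroup H), (S : Subgroup H)⁆).map H.subtype = P' := by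
        rw [Subgroup.map_commutator]
        have : (S : Subgroup H).map H.subtype = (P : Subgroup G) := by
          rw [Sylow.coe_subtype, Subgroup.map_subgroupOf_eq_of_le le_sup_right]
        rw [this]
      obtain ⟨z, hz, hzy⟩ := (h2 ▸ h1 : (y : G) ∈ (⁅(S : Subgroup H), (S : Subgroup H)⁆).map H.subtype)
      have hzy' : z = y := Subtype.ext hzy
      subst hzy'
      have h3 : (commutator ↥(S : Subgroup H)).map (S : Subgroup H).subtype =
          ⁅(S : Subgroup H), (S : Subgroup H)⁆ := by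
        rw [commutator_def, Subgroup.map_commutator, ← MonoidHom.range_eq_map, Subgroup.range_subtype]
      exact Subgroup.map_mono (CfsgLib.PSolvable.commutator_le_frattini S.isPGroup').1 (h3 ▸ hz)
    have hres : Cfsg.pResidual p H ≤ K' := by
      refine (Subgroup.closure_le _).mpr fun x hx => ?_
      obtain ⟨k, hk, y, hy, e⟩ := Subgroup.mem_sup_of_normal_left.mp x.2
      set π := QuotientGroup.mk' K with hπ
      have hxy : π (x : G) = π y := by
        rw [← e, map_mul, show π k = 1 from (QuotientGroup.eq_one_iff k).mpr hk, one_mul]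
      obtain ⟨j, hj⟩ := P.isPGroup' ⟨y, hy⟩
      have h1 : orderOf (π (x : G)) ∣ p ^ j := by
        rw [hxy]
        exact orderOf_dvd_of_pow_eq_one (by rw [← map_pow, show y ^ p ^ j = 1 from congrArg Subtype.val hj, map_one])
      have h2 : orderOf (π (x : G)) ∣ orderOf x := by
        rw [← Subgroup.orderOf_coe x]; exact orderOf_map_dvd π _
      have h3 := Nat.eq_one_of_dvd_coprimes ((hx : Nat.Coprime (orderOf x) p).pow_right j) h2 h1
      exact (QuotientGroup.eq_one_iff (x : G)).mp (orderOf_eq_one_iff.mp h3)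
    obtain ⟨Q, N₀, hN₀n, hN₀⟩ := CfsgLib.Transfer.hasNormalPComplement_of_le_frattini S
      fun y hy => hSK y hy.1 (hres hy.2)
    haveI := hN₀n
    have hN₀idx : N₀.index = Nat.card (Q : Subgroup H) := hN₀.symm.index_eq_card
    have hN₀card : ¬ p ∣ Nat.card N₀ := by
      rw [← hN₀.index_eq_card]; exact Sylow.not_dvd_index Q
    have hN₀mem : ∀ x : H, ¬ p ∣ orderOf x → x ∈ N₀ := by
      intro x hx
      have h1 : orderOf (QuotientGroup.mk' N₀ x) ∣ Nat.card (Q : Subgroup H) := by
        rw [← hN₀idx, Subgroup.index]; exact orderOf_dvd_natCard _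
      have h2 : orderOf (QuotientGroup.mk' N₀ x) ∣ orderOf x := orderOf_map_dvd _ x
      obtain ⟨k, hk⟩ := Q.isPGroup'.exists_card_eq
      rw [hk] at h1
      have h3 := Nat.eq_one_of_dvd_coprimes
        (((Fact.out : p.Prime).coprime_iff_not_dvd.mpr hx).symm.pow_right k) h2 h1
      exact (QuotientGroup.eq_one_iff x).mp (orderOf_eq_one_iff.mp h3)
    have hN₀ord : ∀ x ∈ N₀, ¬ p ∣ orderOf x := fun x hx h => hN₀card
      (h.trans (Subgroup.orderOf_mk x hx ▸ orderOf_dvd_natCard _))
    have hN₀K : N₀ ≤ K' := fun x hx => hres (Subgroup.subset_closure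
      (((Fact.out : p.Prime).coprime_iff_not_dvd.mpr (hN₀ord x hx)).symm))
    set M0 : Subgroup G := N₀.map H.subtype with hM0
    have hM0mem : ∀ x, x ∈ M0 ↔ x ∈ K ∧ ¬ p ∣ orderOf x := by
      intro x
      constructor
      · rintro ⟨z, hz, rfl⟩
        exact ⟨hN₀K hz, by rw [show H.subtype z = (z : G) from rfl, Subgroup.orderOf_coe]; exact hN₀ord z hz⟩
      · rintro ⟨hxK, hxo⟩
        exact ⟨⟨x, Subgroup.mem_sup_left hxK⟩, hN₀mem _ (by rw [← Subgroup.orderOf_coe]; exact hxo), rfl⟩
    have hM0n : M0.Normal := ⟨fun n hn y => (hM0mem _).mpr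
      ⟨hKnormal.conj_mem n ((hM0mem n).mp hn).1 y, by
        have : orderOf (y * n * y⁻¹) = orderOf n :=
          orderOf_injective (MulAut.conj y).toMonoidHom (MulAut.conj y).injective n
        rw [this]; exact ((hM0mem n).mp hn).2⟩⟩
    have hM0N : M0 ≤ N := hmax M0 hM0n (by
      rw [eq_bot_iff]
      rintro c ⟨hc, hcC⟩
      exact eq_one_of_centralizer_of_kernel P hcC ((hM0mem c).mp hc).2 ((hK c).mp ((hM0mem c).mp hc).1))
    have htop : N₀ ⊔ (S : Subgroup H) = ⊤ := by
      rw [← Subgroup.index_eq_one]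
      obtain ⟨k, hk⟩ := Q.isPGroup'.exists_card_eq
      have h1 : (N₀ ⊔ (S : Subgroup H)).index ∣ p ^ k := by
        rw [← hk, ← hN₀idx]
        exact Subgroup.index_dvd_of_le le_sup_left
      have h2 : (N₀ ⊔ (S : Subgroup H)).index ∣ (S : Subgroup H).index :=
        Subgroup.index_dvd_of_le le_sup_right
      refine Nat.eq_one_of_dvd_coprimes ?_ h1 h2
      exact ((Fact.out : p.Prime).coprime_iff_not_dvd.mpr (Sylow.not_dvd_index S)).pow_left k
    have hKle : K ≤ N ⊔ P' := by
      intro x hx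
      obtain ⟨n, hn, y, hy, e⟩ := Subgroup.mem_sup_of_normal_left.mp
        (htop.ge (Subgroup.mem_top (⟨x, Subgroup.mem_sup_left hx⟩ : H)))
      have hyK : (y : G) ∈ K := by
        have e' : (n : G) * y = x := congrArg Subtype.val e
        rw [show (y : G) = (n : G)⁻¹ * x by rw [← e']; group]
        exact K.mul_mem (K.inv_mem (hN₀K hn)) hx
      have hy' : (y : G) ∈ P' := hmap ▸ Subgroup.mem_map_of_mem _
        (mem_commutator_of_kernel P ⟨(y : G), hy⟩ ((hK _).mp hyK))
      rw [show x = (n : G) * y from (congrArg Subtype.val e).symm]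
      exact Subgroup.mul_mem_sup (hM0N (Subgroup.mem_map_of_mem _ hn)) hy'
    exact Subgroup.normal_le_normalCore.mpr hKle hgK
  · -- the core is contained in the kernel
    intro hg χ hχ
    obtain ⟨d, hd⟩ := exists_nat_degree (isCharacter_of_isIrr χ.2)
    rw [charDegree_eq hd] at hχ
    obtain ⟨K, -, hK, hKmul⟩ := exists_kernel (isCharacter_of_isIrr χ.2)
    have hNker : ∀ n ∈ N, (χ : G → ℂ) n = (χ : G → ℂ) 1 :=
      trivial_of_sum_ne N χ.2 (sum_ne_of_inf_eq_bot P N hN (isCharacter_of_isIrr χ.2) hd hχ)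
    have hP'sum : ∑ y : P', (χ : G → ℂ) y ≠ 0 := by
      have h1 := sum_commutator_ne (P := (P : Subgroup G)) P.isPGroup'
        (isCharacter_comp (P : Subgroup G).subtype (isCharacter_of_isIrr χ.2)) hd hχ
      intro h2
      apply h1
      refine Eq.trans ?_ h2
      refine Fintype.sum_bijective
        (fun y : commutator ↥(P : Subgroup G) => (⟨((y : (P : Subgroup G)) : G), hmap ▸ Subgroup.mem_map_of_mem _ y.2⟩ : P')) ⟨?_, ?_⟩
        _ _ fun y => rfl
      · intro a b e
        exact Subtype.ext (Subtype.ext (congrArg (fun t : P' => (t : G)) e))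
      · rintro ⟨y, hy⟩
        obtain ⟨z, hz, rfl⟩ := (hmap.symm ▸ hy : y ∈ (commutator (P : Subgroup G)).map (P : Subgroup G).subtype)
        exact ⟨⟨z, hz⟩, rfl⟩
    have hJsum : ∑ z : ↥(N ⊔ P'), (χ : G → ℂ) z ≠ 0 := by
      have hbij : Function.Bijective (fun u : N × P' =>
          (⟨(u.1 : G) * u.2, Subgroup.mul_mem_sup u.1.2 u.2.2⟩ : ↥(N ⊔ P'))) := by
        constructor
        · rintro ⟨n, y⟩ ⟨n', y'⟩ e
          have e' : (n : G) * y = (n' : G) * y' := congrArg Subtype.val e
          have hmem : (n' : G)⁻¹ * n ∈ N ⊓ (P : Subgroup G) := by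
            refine ⟨N.mul_mem (N.inv_mem n'.2) n.2, ?_⟩
            rw [show (n' : G)⁻¹ * n = (y' : G) * (y : G)⁻¹ by
              rw [eq_mul_inv_iff_mul_eq, mul_assoc, e', inv_mul_cancel_left]]
            exact (P : Subgroup G).mul_mem (hP'P y'.2) ((P : Subgroup G).inv_mem (hP'P y.2))
          have hdis : N ⊓ (P : Subgroup G) = ⊥ := by
            obtain ⟨k, hk⟩ := P.isPGroup'.exists_card_eq
            refine Subgroup.inf_eq_bot_of_coprime ?_
            rw [hk]
            exact (((Fact.out : p.Prime).coprime_iff_not_dvd.mpr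
              (not_dvd_card_of_inf_eq_bot P N hN)).pow_left k).symm
          rw [hdis, Subgroup.mem_bot, inv_mul_eq_one] at hmem
          have hn : n = n' := Subtype.ext hmem.symm
          subst hn
          exact Prod.ext rfl (Subtype.ext (mul_left_cancel e'))
        · rintro ⟨z, hz⟩
          obtain ⟨n, hn, y, hy, rfl⟩ := Subgroup.mem_sup_of_normal_left.mp hz
          exact ⟨(⟨n, hn⟩, ⟨y, hy⟩), rfl⟩
      have heq : ∑ u : N × P', (χ : G → ℂ) ((u.1 : G) * u.2) =
          (Fintype.card N : ℂ) * ∑ y : P', (χ : G → ℂ) y := by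
        rw [Fintype.sum_prod_type, Finset.sum_comm, Finset.mul_sum]
        refine Finset.sum_congr rfl fun y _ => ?_
        rw [Finset.sum_congr rfl fun (n : N) _ => hKmul n ((hK n).mpr (hNker n n.2)) y,
          Finset.sum_const, Finset.card_univ, nsmul_eq_mul]
      rw [← Fintype.sum_bijective _ hbij (fun u => (χ : G → ℂ) ((u.1 : G) * u.2)) _ fun u => rfl, heq]
      exact mul_ne_zero (Nat.cast_ne_zero.mpr Fintype.card_ne_zero) hP'sum
    exact trivial_of_sum_ne (N ⊔ P').normalCore χ.2
      (sum_ne_of_le (N ⊔ P') (N ⊔ P').normalCore (Subgroup.normalCore_le _)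
        (isCharacter_of_isIrr χ.2) hJsum) g hg

end Cfsg.Agent.S4591
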