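import Cfsg.Statements.S4602
import Cfsg.Agent.Lib.PSolvable.Core
import Cfsg.Agent.Lib.Coprime.Action

set_option autoImplicit false
set_option linter.style.haveILetI false
open Cfsg
open CfsgLib
open scoped Pointwise

namespace Cfsg.Agent.S4602

/-- Let G be a finite p-solvable group and q a prime different from p. Some Sylow p-subgroup of G normalizes some Sylow q-subgroup of G if and only if q does not divide the order of G/O_{p'}(G), the quotient by the largest normal subgroup of order prime to p. -/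
theorem result {G : Type*} [Group G] [Finite G] (p q : ℕ) [Fact p.Prime] [Fact q.Prime] (hpq : p ≠ q) (hsolv : Cfsg.IsPSolvable p G) :
    (∃ (P : Sylow p G) (Q : Sylow q G), (P : Subgroup G) ≤ Subgroup.normalizer ((Q : Subgroup G) : Set G)) ↔ ¬ q ∣ (Cfsg.pPrimeCore p G).index := by
  classical
  haveI := Transfer.pPrimeCore_normal p G
  set K := Cfsg.pPrimeCore p G with hK
  have hKc : (Nat.card K).Coprime p := Transfer.pPrimeCore_coprime p
  constructor
  · rintro ⟨P, Q, hPQ⟩ hd
    set f := QuotientGroup.mk' K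
    have hf := QuotientGroup.mk'_surjective K
    let P₁ := Sylow.mapSurjective hf P
    let Q₁ := Sylow.mapSurjective hf Q
    have hPQ₁ : (P₁ : Subgroup (G ⧸ K)) ≤ Subgroup.normalizer ((Q₁ : Subgroup (G ⧸ K)) : Set (G ⧸ K)) :=
      (Subgroup.map_mono hPQ).trans (Subgroup.le_normalizer_map f)
    haveI := Fitting.pCore_normal (G := G ⧸ K) p
    set R := Cfsg.pCore p (G ⧸ K)
    have hRp : IsPGroup p R := Fitting.pCore_isPGroup p
    have hRP : R ≤ P₁ := hRp.le_sylow_of_normal P₁
    have hC := PSolvable.centralizer_pCore_le (PSolvable.isPSolvable_of_surjective f hf hsolv)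
      (PSolvable.pPrimeCore_eq_bot_of_ker hf (QuotientGroup.ker_mk' _))
    have hdisj : R ⊓ (Q₁ : Subgroup (G ⧸ K)) = ⊥ :=
      disjoint_iff.mp (IsPGroup.disjoint_of_ne p q hpq R (Q₁ : Subgroup (G ⧸ K)) hRp Q₁.2)
    have hQR : (Q₁ : Subgroup (G ⧸ K)) ≤ Subgroup.centralizer (R : Set (G ⧸ K)) := by
      intro x hx r hr
      have h1 : r * x * r⁻¹ * x⁻¹ ∈ R ⊓ (Q₁ : Subgroup (G ⧸ K)) := by
        refine Subgroup.mem_inf.mpr ⟨?_, ?_⟩
        · rw [mul_assoc, mul_assoc]
          exact R.mul_mem hr (by
            rw [← mul_assoc]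
            exact (inferInstance : R.Normal).conj_mem _ (R.inv_mem hr) x)
        · exact Subgroup.mul_mem _ ((Subgroup.mem_normalizer_iff.mp (hPQ₁ (hRP hr)) x).mp hx)
            (Subgroup.inv_mem _ hx)
      rw [hdisj, Subgroup.mem_bot, mul_inv_eq_one, mul_inv_eq_iff_eq_mul] at h1
      exact h1
    have hbot : (Q₁ : Subgroup (G ⧸ K)) = ⊥ := by
      rw [← le_bot_iff, ← hdisj]
      exact le_inf (hQR.trans hC) le_rfl
    have hcard : q ∣ Nat.card (G ⧸ K) := hd
    have h2 := Q₁.card_eq_multiplicity
    rw [hbot, Subgroup.card_bot] at h2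
    have hpos := (Fact.out : q.Prime).factorization_pos_of_dvd Nat.card_pos.ne' hcard
    exact (Nat.one_lt_pow hpos.ne' (Fact.out : q.Prime).one_lt).ne h2
  · intro hq
    let P : Sylow p G := default
    obtain ⟨i, hi⟩ := IsPGroup.iff_card.mp P.2
    haveI : Group.IsNilpotent (P : Subgroup G) := P.2.isNilpotent
    obtain ⟨S, hS⟩ := Coprime.exists_invariant_sylow (A := (P : Subgroup G)) (K := K)
      Subgroup.le_normalizer_of_normal (by rw [hi]; exact hKc.symm.pow_left i) (Or.inl inferInstance) q
    have hc : Nat.card ((S : Subgroup K).map K.subtype) = q ^ (Nat.card G).factorization q := by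
      rw [Subgroup.card_map_of_injective K.subtype_injective, S.card_eq_multiplicity, ← K.card_mul_index,
        Nat.factorization_mul Nat.card_pos.ne' K.index_ne_zero_of_finite, Finsupp.add_apply,
        Nat.factorization_eq_zero_of_not_dvd hq, add_zero]
    exact ⟨P, Sylow.ofCard _ hc, by rw [Sylow.coe_ofCard]; exact hS⟩

end Cfsg.Agent.S4602
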