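import Cfsg.Statements.S4601
import Cfsg.Agent.Lib.PSolvable.SylowPairs
import Cfsg.Agent.S4602

set_option autoImplicit false
set_option linter.style.haveILetI false
open Cfsg
open CfsgLib
open scoped Pointwise

namespace Cfsg.Agent.S4601

/-- Let p and q be primes and G a finite group that is p-solvable or q-solvable, in which no q-element has conjugacy class size divisible by p. Then some Sylow p-subgroup of G normalizes some Sylow q-subgroup of G. -/
theorem result {G : Type*} [Group G] [Finite G] (p q : ℕ) [Fact p.Prime] [Fact q.Prime] (hsolv : Cfsg.IsPSolvable p G ∨ Cfsg.IsPSolvable q G)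
    (h : ∀ y : G, (∃ k : ℕ, orderOf y = q ^ k) → ¬ p ∣ (Subgroup.centralizer ({y} : Set G)).index) :
    ∃ (P : Sylow p G) (Q : Sylow q G), (P : Subgroup G) ≤ Subgroup.normalizer ((Q : Subgroup G) : Set G) := by
  classical
  by_cases hpq : p = q
  · subst hpq
    exact ⟨default, default, Subgroup.le_normalizer⟩
  rcases hsolv with hp | hq
  · refine (Cfsg.Agent.S4602.result p q hpq hp).mpr fun hd => ?_
    haveI := Transfer.pPrimeCore_normal p G
    set K := Cfsg.pPrimeCore p G
    obtain ⟨y, hy⟩ := exists_prime_orderOf_dvd_card' (G := G ⧸ K) q hd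
    obtain ⟨S, hS⟩ := SylowPairs.exists_sylow_le_centralizer (SylowPairs.quotient_index K h y ⟨1, by rw [hy, pow_one]⟩)
    haveI := Fitting.pCore_normal (G := G ⧸ K) p
    have hR : IsPGroup p (Cfsg.pCore p (G ⧸ K)) := Fitting.pCore_isPGroup p
    have hC := PSolvable.centralizer_pCore_le
      (PSolvable.isPSolvable_of_surjective _ (QuotientGroup.mk'_surjective K) hp)
      (PSolvable.pPrimeCore_eq_bot_of_ker (QuotientGroup.mk'_surjective K) (QuotientGroup.ker_mk' K))
    have hyR : y ∈ Cfsg.pCore p (G ⧸ K) := hC fun r hr =>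
      Subgroup.mem_centralizer_singleton_iff.mp (hS (hR.le_sylow_of_normal S hr))
    obtain ⟨k, hk⟩ := IsPGroup.iff_orderOf.mp hR ⟨y, hyR⟩
    rw [Subgroup.orderOf_mk, hy] at hk
    exact hpq ((Nat.prime_dvd_prime_iff_eq Fact.out Fact.out).mp
      ((Fact.out : q.Prime).dvd_of_dvd_pow (dvd_of_eq hk))).symm
  · exact SylowPairs.hasPair_of_isPSolvable (Nat.card G) G le_rfl hq h

end Cfsg.Agent.S4601
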