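import Cfsg.Statements.S4604
import Cfsg.Agent.Lib.Blocks.BrauerFeit
import Cfsg.Agent.S0876
import Mathlib.Algebra.CharP.Lemmas

set_option autoImplicit false
open Cfsg

namespace Cfsg.Agent.S4604

theorem sum_pow_congr {p : ℕ} (hp : p.Prime) (k : ℕ) {ι : Type*} (s : Finset ι) (f : ι → Cfsg.AlgInt) :
    ∃ r : Cfsg.AlgInt, (∑ i ∈ s, f i) ^ p ^ k = (∑ i ∈ s, f i ^ p ^ k) + (p : Cfsg.AlgInt) * r := by
  classical
  induction s using Finset.induction with
  | empty => exact ⟨0, by simp [hp.pos.ne']⟩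
  | insert a s ha ih =>
    obtain ⟨r, hr⟩ := ih
    obtain ⟨t, ht⟩ := exists_add_pow_prime_pow_eq hp (f a) (∑ i ∈ s, f i) k
    refine ⟨r + f a * (∑ i ∈ s, f i) * t, ?_⟩
    rw [Finset.sum_insert ha, Finset.sum_insert ha, ht, hr]
    ring

open CfsgLib.Char

/-- Let G be a finite group, p a prime and p^a the p-part of the order of G. Let x, y ∈ G and let x′, y′ be their p-regular parts: x′ has order prime to p, commutes with x·x′⁻¹, and x·x′⁻¹ has p-power order (likewise for y). Then x′ and y′ are conjugate in G if and only if for every irreducible character χ of G the algebraic integer χ(x)^(p^a) − χ(y)^(p^a) is p times an algebraic integer. -/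
theorem result {G : Type*} [Group G] [Finite G] (p : ℕ) [Fact p.Prime] (x y x' y' : G)
    (hx : (∃ k : ℕ, orderOf (x * x'⁻¹) = p ^ k) ∧ Commute (x * x'⁻¹) x' ∧ ¬ p ∣ orderOf x')
    (hy : (∃ k : ℕ, orderOf (y * y'⁻¹) = p ^ k) ∧ Commute (y * y'⁻¹) y' ∧ ¬ p ∣ orderOf y') :
    IsConj x' y' ↔ ∀ χ : Cfsg.IrrCharacter G, ∃ γ : Cfsg.AlgInt,
      (χ : G → ℂ) x ^ (p ^ (Nat.card G).factorization p) - (χ : G → ℂ) y ^ (p ^ (Nat.card G).factorization p) = (p : ℂ) * (γ : ℂ) := by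
  classical
  have : Fintype G := Fintype.ofFinite G
  have hp := (Fact.out : p.Prime)
  set a := (Nat.card G).factorization p with ha
  have hconv : ∀ (χ : Cfsg.IrrCharacter G) (z : G), ∃ r : Cfsg.AlgInt,
      (χ : G → ℂ) z ^ (p ^ a) = (χ : G → ℂ) (z ^ (p ^ a)) + (p : ℂ) * (r : ℂ) := by
    intro χ z
    obtain ⟨n, ρ, hρ, e⟩ := χ.2
    rw [← e]
    obtain ⟨μ, h1, h2⟩ := character_pow_eq_sum ρ z
    let f : Fin (Module.finrank ℂ (Fin n → ℂ)) → Cfsg.AlgInt := fun i =>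
      ⟨μ i, IsIntegral.of_pow (orderOf_pos z) (h1 i ▸ isIntegral_one)⟩
    obtain ⟨r, hr⟩ := sum_pow_congr hp a Finset.univ f
    refine ⟨r, ?_⟩
    have := congrArg (fun t : Cfsg.AlgInt => (t : ℂ)) hr
    simp only [f] at this
    push_cast at this
    have h3 := h2 1
    simp only [pow_one] at h3
    rw [h2, h3]
    exact this
  have hpow : ∀ z z' : G, (∃ k : ℕ, orderOf (z * z'⁻¹) = p ^ k) → Commute (z * z'⁻¹) z' →
      z ^ (p ^ a) = z' ^ (p ^ a) := by
    rintro z z' ⟨k, hk⟩ hc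
    have hka : k ≤ a := (hp.pow_dvd_iff_le_factorization Nat.card_pos.ne').mp (hk ▸ orderOf_dvd_natCard _)
    calc z ^ (p ^ a) = (z * z'⁻¹ * z') ^ (p ^ a) := by rw [inv_mul_cancel_right]
      _ = _ := by rw [hc.mul_pow, orderOf_dvd_iff_pow_eq_one.mp (hk ▸ pow_dvd_pow p hka), one_mul]
  obtain ⟨hkx, hcx, hrx⟩ := hx
  obtain ⟨hky, hcy, hry⟩ := hy
  constructor
  · intro hconj χ
    obtain ⟨r, hr⟩ := hconv χ x
    obtain ⟨s, hs⟩ := hconv χ y
    refine ⟨r - s, ?_⟩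
    rw [hr, hs, hpow x x' hkx hcx, hpow y y' hky hcy]
    have : IsConj (x' ^ p ^ a) (y' ^ p ^ a) := by
      obtain ⟨c, hc⟩ := isConj_iff.mp hconj
      exact isConj_iff.mpr ⟨c, by rw [← conj_pow, hc]⟩
    rw [eq_of_isConj (isClassFunction_irr χ) this]
    push_cast; ring
  · intro h
    obtain ⟨M, hM⟩ := CfsgLib.Blocks.exists_isPModular hp
    have := CfsgLib.Blocks.isPrime_of_isPModular hM
    have hx' : Cfsg.IsPPart p x (x * x'⁻¹) := ⟨x', by rw [inv_mul_cancel_right], hcx, hkx, hrx⟩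
    have hy' : Cfsg.IsPPart p y (y * y'⁻¹) := ⟨y', by rw [inv_mul_cancel_right], hcy, hky, hry⟩
    have hx'' : (x * x'⁻¹)⁻¹ * x = x' := by
      calc (x * x'⁻¹)⁻¹ * x = (x * x'⁻¹)⁻¹ * (x * x'⁻¹ * x') := by rw [inv_mul_cancel_right]
        _ = x' := inv_mul_cancel_left _ _
    have hy'' : (y * y'⁻¹)⁻¹ * y = y' := by
      calc (y * y'⁻¹)⁻¹ * y = (y * y'⁻¹)⁻¹ * (y * y'⁻¹ * y') := by rw [inv_mul_cancel_right]
        _ = y' := inv_mul_cancel_left _ _
    have key := (Cfsg.Agent.S0876.result p M hM x y _ _ hx' hy').mpr fun χ => ?_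
    · rwa [hx'', hy''] at key
    obtain ⟨γ, hγ⟩ := h χ
    let α : Cfsg.AlgInt := ⟨(χ : G → ℂ) x, isIntegral_value (isCharacter_of_isIrr χ.2) x⟩
    let β : Cfsg.AlgInt := ⟨(χ : G → ℂ) y, isIntegral_value (isCharacter_of_isIrr χ.2) y⟩
    have e1 : α ^ (p ^ a) - β ^ (p ^ a) = (p : Cfsg.AlgInt) * γ := Subtype.ext (by push_cast; exact hγ)
    have hmem : (α - β) ^ (p ^ a) ∈ M := by
      obtain ⟨r, hr⟩ := exists_add_pow_prime_pow_eq hp (α - β) β a
      rw [sub_add_cancel] at hr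
      have e2 : (α - β) ^ (p ^ a) = (p : Cfsg.AlgInt) * (γ - (α - β) * β * r) := by
        linear_combination e1 - hr
      rw [e2]
      exact M.mul_mem_right _ hM.2.2
    have h3 : α - β ∈ M := (inferInstance : M.IsPrime).mem_of_pow_mem _ hmem
    exact CfsgLib.Blocks.memLocalIdeal_of_mem h3

end Cfsg.Agent.S4604
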