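import Cfsg.Statements.S4606
import Cfsg.Agent.Lib.Blocks.RankDrop.Basic
import Cfsg.Agent.Lib.Blocks.PPrimePCoreSetting
import Cfsg.Agent.Lib.Blocks.FongReynoldsDefect
import Cfsg.Agent.Lib.Blocks.PrincipalColumn
import Cfsg.Agent.Lib.PSolvable.Core
import Cfsg.Agent.S0914
import Cfsg.Agent.S4652
import Mathlib.GroupTheory.FixedPointFree

set_option linter.style.haveILetI false
set_option autoImplicit false
open Cfsg CfsgLib CfsgLib.Blocks CfsgLib.Blocks.RankSum CfsgLib.Blocks.RankDrop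
open scoped CfsgLib.Char

namespace Cfsg.Agent.S4606

universe u

/-- Elementary abelian, pointwise. -/
def IsEA {G : Type*} [Group G] (p : ℕ) (D : Subgroup G) : Prop :=
  ∀ x ∈ D, x ^ p = 1 ∧ ∀ y ∈ D, x * y = y * x

theorem IsEA.map {G H : Type*} [Group G] [Group H] {p : ℕ} {D : Subgroup G} (h : IsEA p D)
    (f : G →* H) : IsEA p (D.map f) := by
  rintro _ ⟨x, hx, rfl⟩
  refine ⟨by rw [← map_pow, (h x hx).1, map_one], ?_⟩
  rintro _ ⟨y, hy, rfl⟩
  rw [← map_mul, ← map_mul, (h x hx).2 y hy]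

theorem exists_pow_of_ne_one {G : Type*} [Group G] [Finite G] {p : ℕ} [hp : Fact p.Prime]
    {P : Subgroup G} (hP : IsPGroup p P) {x : G} (hx : x ∈ P) (hx1 : x ≠ 1) :
    ∃ z ∈ P, z ≠ 1 ∧ orderOf z = p := by
  have hne : Nontrivial P := ⟨⟨x, hx⟩, 1, fun h => hx1 (congrArg Subtype.val h)⟩
  obtain ⟨n, hn, hcard⟩ := hP.nontrivial_iff_card.mp hne
  obtain ⟨z, hz⟩ := exists_prime_orderOf_dvd_card' p (G := P)
    (by rw [hcard]; exact dvd_pow_self p (by omega))
  refine ⟨z, z.2, fun h => hp.out.ne_one ?_, by rw [Subgroup.orderOf_coe, hz]⟩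
  rw [← hz, show z = 1 from Subtype.ext h, orderOf_one]

/-- The elements of a Sylow subgroup have exponent `p` when all are conjugate. -/
theorem pow_eq_one_of_conj {G : Type*} [Group G] [Finite G] {p : ℕ} [hp : Fact p.Prime]
    {P : Subgroup G} (hP : IsPGroup p P)
    (hconj : ∀ v w : G, v ≠ 1 → w ≠ 1 → (∃ k : ℕ, orderOf v = p ^ k) →
      (∃ k : ℕ, orderOf w = p ^ k) → IsConj v w) {x : G} (hx : x ∈ P) : x ^ p = 1 := by
  by_cases hx1 : x = 1
  · rw [hx1, one_pow]
  obtain ⟨z, hz, hz1, hzo⟩ := exists_pow_of_ne_one hP hx hx1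
  obtain ⟨k, hk⟩ := IsPGroup.iff_orderOf.mp hP ⟨x, hx⟩
  obtain ⟨g, hg⟩ := isConj_iff.mp (hconj z x hz1 hx1 ⟨1, by rw [hzo, pow_one]⟩
    ⟨k, by rw [← hk, ← Subgroup.orderOf_coe]⟩)
  rw [← hg, conj_pow, ← hzo, pow_orderOf_eq_one, mul_one, mul_inv_cancel]

/-- The principal block. -/
theorem principal_case {G : Type u} [Group G] [Fintype G] {p : ℕ} [hp : Fact p.Prime]
    {M : Ideal AlgInt} (hM : IsPModular p M)
    (hk : Nat.card (principalBlock M G) = blockRank p (principalBlock M G) + 1) (P : Sylow p G) :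
    IsEA p (P : Subgroup G) := by
  classical
  have := isPrime_of_isPModular hM
  have hB := isPBlock_principalBlock (M := M) (G := G)
  have hinto : ∀ v : G, (∃ k : ℕ, orderOf v = p ^ k) →
      inducingInto M (Subgroup.centralizer ({v} : Set G)) (principalBlock M G) =
        principalBlock M (Subgroup.centralizer ({v} : Set G)) := fun v hv => by
    ext ξ
    constructor
    · rintro ⟨B, hBU, hind⟩
      obtain ⟨χ, hχ⟩ := IsPBlock.nonempty hind.2.1
      rw [IsPBlock.eq_of_mem_of_mem hind.2.1 hB hχ (hBU hχ),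
        isInducedBlock_centralizer_principal_iff hM hv] at hind
      exact hind ▸ mem_blockOf_self ξ
    · intro hξ
      refine ⟨_, subset_rfl, (isInducedBlock_centralizer_principal_iff hM hv _).mpr ?_⟩
      exact (IsPBlock.eq_blockOf isPBlock_principalBlock hξ).symm
  obtain ⟨hconj, -, hone⟩ := secRank_eq_one hM (IsPBlock.isBlockUnion hB) hk fun v _ hv => by
    rw [secRank, hinto v hv]
    exact blockRank_pos (IsPBlock.nonempty isPBlock_principalBlock) hp.out.ne_one
  have hord : ∀ x ∈ (P : Subgroup G), ∃ k : ℕ, orderOf x = p ^ k := fun x hx => by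
    obtain ⟨k, hk⟩ := IsPGroup.iff_orderOf.mp P.2 ⟨x, hx⟩
    exact ⟨k, by rw [← hk, ← Subgroup.orderOf_coe]⟩
  have hexp : ∀ x ∈ (P : Subgroup G), x ^ p = 1 := fun x hx => pow_eq_one_of_conj P.2 hconj hx
  suffices hcomm : ∀ x ∈ (P : Subgroup G), ∀ y ∈ (P : Subgroup G), x * y = y * x from
    fun x hx => ⟨hexp x hx, hcomm x hx⟩
  rcases hp.out.eq_two_or_odd' with rfl | hodd
  · intro x hx y hy
    have h1 : ∀ z ∈ (P : Subgroup G), z = z⁻¹ := fun z hz =>
      eq_inv_of_mul_eq_one_left (by rw [← sq]; exact hexp z hz)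
    calc x * y = (x * y)⁻¹ := h1 _ (mul_mem hx hy)
      _ = y * x := by rw [mul_inv_rev, ← h1 x hx, ← h1 y hy]
  by_cases hP1 : (P : Subgroup G) = ⊥
  · intro x hx y hy
    rw [hP1, Subgroup.mem_bot] at hx
    rw [hx, one_mul, mul_one]
  -- a central element and an element inverting it
  have hntP : Nontrivial (P : Subgroup G) := (Subgroup.nontrivial_iff_ne_bot _).mpr hP1
  have := P.2.center_nontrivial
  obtain ⟨⟨zc, hzc⟩, hzc1⟩ := exists_ne (1 : Subgroup.center (P : Subgroup G))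
  set z : G := (zc : G) with hzdef
  have hzP : z ∈ (P : Subgroup G) := zc.2
  have hz1 : z ≠ 1 := fun h => hzc1 (Subtype.ext (Subtype.ext h))
  have hzC : ∀ y ∈ (P : Subgroup G), y * z = z * y := fun y hy =>
    congrArg Subtype.val (Subgroup.mem_center_iff.mp hzc ⟨y, hy⟩)
  have hkernel : ∀ x ∈ (P : Subgroup G), x ≠ 1 →
      ∃ K : Subgroup (Subgroup.centralizer ({x} : Set G)), K.Normal ∧ ¬ p ∣ Nat.card K ∧
        ∀ y, IsPRegular p y → y ∈ K := fun x hx hx1 => by
    refine exists_kernel_of_rank_one hM ?_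
    have := hone x hx1 (hord x hx)
    rwa [secRank, hinto x (hord x hx)] at this
  have hdisj : ∀ (H : Subgroup G) (K : Subgroup H), ¬ p ∣ Nat.card K → ∀ w : H, w ∈ K →
      (w : G) ∈ (P : Subgroup G) → (w : G) = 1 := fun H K hK w hw hwP => by
    obtain ⟨k, hk⟩ := hord _ hwP
    have hd := Subgroup.orderOf_dvd_natCard K hw
    rw [← Subgroup.orderOf_coe, hk] at hd
    rcases k.eq_zero_or_pos with rfl | hk0
    · exact orderOf_eq_one_iff.mp (by rw [hk, pow_zero])
    · exact absurd ((dvd_pow_self p hk0.ne').trans hd) hK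
  obtain ⟨g, hg⟩ := isConj_iff.mp (hconj z z⁻¹ hz1 (inv_ne_one.mpr hz1) (hord z hzP)
    (hord _ (inv_mem hzP)))
  have hzcent : z ∈ Subgroup.centralizer ((P : Subgroup G) : Set G) :=
    Subgroup.mem_centralizer_iff.mpr hzC
  obtain ⟨n, hnN, hn⟩ := Sylow.conj_eq_normalizer_conj_of_mem_centralizer P z g⁻¹ hzcent (by
    rw [inv_inv, hg]
    exact inv_mem hzcent)
  have hn' : n⁻¹ * z * n = z⁻¹ := by rw [← hn, inv_inv, hg]
  obtain ⟨e, m, hm, hnm⟩ := Nat.exists_eq_two_pow_mul_odd (orderOf_pos n).ne'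
  set s : G := n ^ m with hs
  have hsN : s ∈ Subgroup.normalizer ((P : Subgroup G) : Set G) := pow_mem hnN m
  have hso : s ^ 2 ^ e = 1 := by rw [hs, ← pow_mul, mul_comm, ← hnm, pow_orderOf_eq_one]
  have hsreg : IsPRegular p s := by
    intro hdvd
    have h2 := (Nat.prime_dvd_prime_iff_eq hp.out Nat.prime_two).mp
      (hp.out.dvd_of_dvd_pow (hdvd.trans (orderOf_dvd_of_pow_eq_one hso)))
    exact absurd (h2 ▸ hodd) (by decide)
  have hiter : ∀ i : ℕ, (Even i → (n ^ i)⁻¹ * z * n ^ i = z) ∧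
      (Odd i → (n ^ i)⁻¹ * z * n ^ i = z⁻¹) := fun i => by
    induction i with
    | zero => simp
    | succ i ih =>
      have e1 : (n ^ (i + 1))⁻¹ * z * n ^ (i + 1) = n⁻¹ * ((n ^ i)⁻¹ * z * n ^ i) * n := by
        rw [pow_succ]; group
      refine ⟨fun h => ?_, fun h => ?_⟩
      · rw [e1, ih.2 (Nat.not_even_iff_odd.mp fun h' => (Nat.even_add_one.mp h) h'),
          show n⁻¹ * z⁻¹ * n = (n⁻¹ * z * n)⁻¹ by group, hn', inv_inv]
      · rw [e1, ih.1 (Nat.not_odd_iff_even.mp fun h' => (Nat.odd_add_one.mp h) h'), hn']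
  have hsz : s⁻¹ * z * s = z⁻¹ := (hiter m).2 hm
  have hsreg2 : IsPRegular p (s * s) := fun h =>
    hsreg (h.trans (by rw [← sq]; exact orderOf_pow_dvd 2))
  have hPs : ∀ x ∈ (P : Subgroup G), s * x * s⁻¹ ∈ (P : Subgroup G) := fun x hx =>
    (Subgroup.mem_normalizer_iff.mp hsN x).mp hx
  have hss : ∀ x ∈ (P : Subgroup G), s * s * x = x * (s * s) := by
    intro x hx
    obtain ⟨K, hKn, hKp, hKr⟩ := hkernel z hzP hz1
    have hsC : s * s ∈ Subgroup.centralizer ({z} : Set G) := by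
      rw [Subgroup.mem_centralizer_singleton_iff]
      have h2 : (s * s)⁻¹ * z * (s * s) = z :=
        calc (s * s)⁻¹ * z * (s * s) = s⁻¹ * (s⁻¹ * z * s) * s := by group
          _ = s⁻¹ * z⁻¹ * s := by rw [hsz]
          _ = (s⁻¹ * z * s)⁻¹ := by group
          _ = z := by rw [hsz, inv_inv]
      calc s * s * z = s * s * ((s * s)⁻¹ * z * (s * s)) := by rw [h2]
        _ = z * (s * s) := by group
    have hxC : x ∈ Subgroup.centralizer ({z} : Set G) :=
      Subgroup.mem_centralizer_singleton_iff.mpr (hzC x hx)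
    have hK1 : (⟨s * s, hsC⟩ : Subgroup.centralizer ({z} : Set G)) ∈ K :=
      hKr _ (by rw [IsPRegular, Subgroup.orderOf_mk]; exact hsreg2)
    have hK2 := mul_mem hK1 (hKn.conj_mem _ (inv_mem hK1) ⟨x, hxC⟩)
    have h1 := hdisj _ K hKp _ hK2 (by
      show s * s * (x * (s * s)⁻¹ * x⁻¹) ∈ (P : Subgroup G)
      rw [show s * s * (x * (s * s)⁻¹ * x⁻¹) = s * (s * x * s⁻¹) * s⁻¹ * x⁻¹ by group]
      exact mul_mem (hPs _ (hPs x hx)) (inv_mem hx))
    replace h1 : s * s * (x * (s * s)⁻¹ * x⁻¹) = 1 := h1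
    calc s * s * x = s * s * (x * (s * s)⁻¹ * x⁻¹) * (x * (s * s)) := by group
      _ = x * (s * s) := by rw [h1, one_mul]
  have hfree : ∀ x ∈ (P : Subgroup G), s * x * s⁻¹ = x → x = 1 := by
    intro x hx hfix
    by_contra hx1
    obtain ⟨K, hKn, hKp, hKr⟩ := hkernel x hx hx1
    have hsC : s ∈ Subgroup.centralizer ({x} : Set G) :=
      Subgroup.mem_centralizer_singleton_iff.mpr (mul_inv_eq_iff_eq_mul.mp hfix)
    have hzCx : z ∈ Subgroup.centralizer ({x} : Set G) :=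
      Subgroup.mem_centralizer_singleton_iff.mpr (hzC x hx).symm
    have hK1 : (⟨s, hsC⟩ : Subgroup.centralizer ({x} : Set G)) ∈ K :=
      hKr _ (by rw [IsPRegular, Subgroup.orderOf_mk]; exact hsreg)
    have hK2 := mul_mem (inv_mem hK1) (hKn.conj_mem _ hK1 ⟨z, hzCx⟩)
    have hval : s⁻¹ * (z * s * z⁻¹) = z⁻¹ * z⁻¹ := by
      rw [show s⁻¹ * (z * s * z⁻¹) = s⁻¹ * z * s * z⁻¹ by group, hsz]
    have h1 := hdisj _ K hKp _ hK2 (by
      show s⁻¹ * (z * s * z⁻¹) ∈ (P : Subgroup G)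
      rw [hval]
      exact mul_mem (inv_mem hzP) (inv_mem hzP))
    replace h1 : z⁻¹ * z⁻¹ = 1 := hval ▸ h1
    have h2 : z ^ 2 = 1 := by rw [sq, ← inv_eq_one, mul_inv_rev]; exact h1
    have h3 := pow_gcd_eq_one.mpr ⟨h2, hexp z hzP⟩
    have h4 : Nat.gcd 2 p = 1 := Nat.coprime_two_left.mpr hodd
    rw [h4, pow_one] at h3
    exact hz1 h3
  let φ : (P : Subgroup G) →* (P : Subgroup G) :=
    MonoidHom.mk' (fun x => ⟨s * x * s⁻¹, hPs x x.2⟩) fun x y => Subtype.ext (by
      show s * ((x : G) * y) * s⁻¹ = s * x * s⁻¹ * (s * y * s⁻¹)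
      group)
  have hφ1 : MonoidHom.FixedPointFree φ := fun x hx =>
    Subtype.ext (hfree x x.2 (congrArg Subtype.val hx))
  have hφ2 : Function.Involutive φ := fun x => Subtype.ext (by
    show s * (s * (x : G) * s⁻¹) * s⁻¹ = x
    calc s * (s * (x : G) * s⁻¹) * s⁻¹ = s * s * x * (s * s)⁻¹ := by group
      _ = x := by rw [hss x x.2]; group)
  intro x hx y hy
  exact congrArg Subtype.val (hφ1.commute_all_of_involutive hφ2 ⟨x, hx⟩ ⟨y, hy⟩).eq

/-- The invariant case. -/
theorem invariant_case {G : Type u} [Group G] [Fintype G] {p : ℕ} [hp : Fact p.Prime]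
    {M : Ideal AlgInt} (hM : IsPModular p M) (hsolv : IsPSolvable p G) (N : Subgroup G) [N.Normal]
    [Fintype N] (hNdef : N = pPrimeCore p G) {θ : IrrCharacter N}
    (hinv : ∀ g : G, Char.conjBy N (θ : N → ℂ) g = θ) {B : Set (IrrCharacter G)} (hB : IsPBlock M B)
    {P : Subgroup G} (hP : IsDefectGroup p M B P) {χ : IrrCharacter G} (hχ : χ ∈ B)
    (hχθ : χ ∈ overSet N θ) (hk : Nat.card B = blockRank p B + 1) : IsEA p P := by
  classical
  subst hNdef
  have := isPrime_of_isPModular hM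
  have hK := pPrimeCore_not_dvd (G := G) p
  have hcon := PSolvable.isPConstrained_of_isPSolvable hsolv
  let Q₀ : Sylow p (pPrimePCore p G) := default
  haveI := pPrimePCore_normal (G := G) p
  haveI := Transfer.pPrimeCore_normal p G
  haveI := Fitting.pCore_normal (G := G ⧸ pPrimeCore p G) p
  have hb := isPBlock_overSet hinv hM hK (pPrimeCore_le_pPrimePCore p)
    (fun x hx => pow_mem_pPrimeCore p hx) (Q₀.2.map (pPrimePCore p G).subtype)
    (Subgroup.map_subtype_le _) (hcon Q₀)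
  obtain rfl : B = overSet (pPrimeCore p G) θ := IsPBlock.eq_of_mem_of_mem hB hb hχ hχθ
  obtain ⟨S, rfl⟩ := (isDefectGroup_overSet_iff hinv hM hK (pPrimeCore_le_pPrimePCore p)
    (fun x hx => pow_mem_pPrimeCore p hx) (Q₀.2.map (pPrimePCore p G).subtype)
    (Subgroup.map_subtype_le _) (hcon Q₀) P).mp hP
  have hO : Subgroup.centralizer (pCore p (G ⧸ pPrimeCore p G) : Set (G ⧸ pPrimeCore p G)) ≤
      pCore p (G ⧸ pPrimeCore p G) :=
    PSolvable.centralizer_pCore_le (PSolvable.isPSolvable_of_surjective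
      (QuotientGroup.mk' _) (QuotientGroup.mk'_surjective _) hsolv) (PSolvable.pPrimeCore_eq_bot_of_ker
        (QuotientGroup.mk'_surjective _) (QuotientGroup.ker_mk' _))
  obtain ⟨hconj, ⟨v₀, hv₀, hv₀p⟩, -⟩ :=
    secRank_eq_one hM (IsPBlock.isBlockUnion hb) hk fun v _ hv => by
    have hvR : IsPGroup p (Subgroup.zpowers v) := by
      obtain ⟨k, hk⟩ := hv
      exact IsPGroup.iff_card.mpr ⟨k, by rw [Nat.card_zpowers, hk]⟩
    obtain ⟨f, hf, -⟩ := existsUnique_inducedBlock_overSet hinv hM hK hO hb hvR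
    have heq : Subgroup.centralizer (Subgroup.zpowers v : Set G) =
        Subgroup.centralizer ({v} : Set G) := by
      refine le_antisymm (Subgroup.centralizer_le (by simp)) fun y hy => ?_
      refine Subgroup.mem_centralizer_iff.mpr fun w hw => ?_
      obtain ⟨i, rfl⟩ := Subgroup.mem_zpowers_iff.mp hw
      exact (Commute.zpow_left (Subgroup.mem_centralizer_singleton_iff.mp hy).symm i).eq
    have hex : ∀ H : Subgroup G, H = Subgroup.centralizer (Subgroup.zpowers v : Set G) →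
        (inducingInto M H (overSet (pPrimeCore p G) θ)).Nonempty := by
      rintro H rfl
      obtain ⟨ξ, hξ⟩ := IsPBlock.nonempty hf.1
      exact ⟨ξ, _, subset_rfl, IsPBlock.eq_blockOf hf.1 hξ ▸ hf⟩
    exact blockRank_pos (hex _ heq.symm) hp.out.ne_one
  set π := QuotientGroup.mk' (pPrimeCore p G) with hπ
  have hπs : Function.Surjective π := QuotientGroup.mk'_surjective _
  have hord : ∀ x ∈ (S : Subgroup G), ∃ k : ℕ, orderOf x = p ^ k := fun x hx => by
    obtain ⟨k, hk⟩ := IsPGroup.iff_orderOf.mp S.2 ⟨x, hx⟩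
    exact ⟨k, by rw [← hk, ← Subgroup.orderOf_coe]⟩
  have hinj : ∀ x ∈ (S : Subgroup G), π x = 1 → x = 1 := fun x hx h1 => by
    obtain ⟨k, hk⟩ := hord x hx
    have hd := Subgroup.orderOf_dvd_natCard _ ((QuotientGroup.eq_one_iff x).mp h1)
    rw [hk] at hd
    rcases k.eq_zero_or_pos with rfl | hk0
    · exact orderOf_eq_one_iff.mp (by rw [hk, pow_zero])
    · exact absurd ((dvd_pow_self p hk0.ne').trans hd) hK
  -- the Sylow subgroup lies in the second core
  have hv₀P : IsPGroup p (Subgroup.zpowers v₀) := by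
    obtain ⟨k, hk⟩ := hv₀p
    exact IsPGroup.iff_card.mpr ⟨k, by rw [Nat.card_zpowers, hk]⟩
  obtain ⟨R, hR⟩ := hv₀P.exists_le_sylow
  obtain ⟨g₀, hg₀⟩ := MulAction.exists_smul_eq G R S
  have hSne : ∃ x ∈ (S : Subgroup G), x ≠ 1 := by
    refine ⟨g₀ * v₀ * g₀⁻¹, ?_, by simpa using hv₀⟩
    rw [← hg₀, Sylow.coe_subgroup_smul]
    exact Subgroup.smul_mem_pointwise_smul _ (MulAut.conj g₀) _ (hR (Subgroup.mem_zpowers v₀))
  have hw : ∃ w, w ∈ pPrimePCore p G ∧ w ≠ 1 ∧ ∃ k : ℕ, orderOf w = p ^ k := by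
    by_contra hno
    push Not at hno
    obtain ⟨x, hx, hx1⟩ := hSne
    have hQ : ((Q₀ : Subgroup (pPrimePCore p G)).map (pPrimePCore p G).subtype) = ⊥ := by
      refine (Subgroup.eq_bot_iff_forall _).mpr fun y hy => ?_
      by_contra hy1
      obtain ⟨k, hk⟩ := IsPGroup.iff_orderOf.mp (Q₀.2.map (pPrimePCore p G).subtype) ⟨y, hy⟩
      exact hno y (Subgroup.map_subtype_le _ hy) hy1 k (by rw [← hk, ← Subgroup.orderOf_coe])
    have hxL : x ∈ pPrimePCore p G := hcon Q₀ (by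
      rw [hQ]
      exact Subgroup.mem_centralizer_iff.mpr fun y hy => by
        rw [Subgroup.mem_bot.mp hy, one_mul, mul_one])
    obtain ⟨k, hk⟩ := hord x hx
    exact hno x hxL hx1 k hk
  obtain ⟨w, hwL, hw1, hwp⟩ := hw
  have hSL : (S : Subgroup G) ≤ pPrimePCore p G := fun x hx => by
    by_cases hx1 : x = 1
    · rw [hx1]; exact one_mem _
    obtain ⟨g, hg⟩ := isConj_iff.mp (hconj w x hw1 hx1 hwp (hord x hx))
    rw [← hg]
    exact (inferInstance : (pPrimePCore p G).Normal).conj_mem w hwL g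
  have himg : ((S.mapSurjective hπs : Sylow p (G ⧸ pPrimeCore p G)) :
      Subgroup (G ⧸ pPrimeCore p G)) = pCore p (G ⧸ pPrimeCore p G) := by
    refine ((S.mapSurjective hπs).3 (Fitting.pCore_isPGroup p) ?_).symm
    rintro _ ⟨x, hx, rfl⟩
    exact hSL hx
  have hnorm : ((S : Subgroup G).map π).Normal := by
    have e : (S : Subgroup G).map π = pCore p (G ⧸ pPrimeCore p G) := by
      rw [← himg, Sylow.coe_mapSurjective]
    rw [e]
    infer_instance
  intro x hx
  refine ⟨pow_eq_one_of_conj S.2 hconj hx, fun y hy => ?_⟩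
  by_cases hx1 : x = 1
  · rw [hx1, one_mul, mul_one]
  obtain ⟨z, hz, hzc1⟩ : ∃ z ∈ (S : Subgroup G), z ≠ 1 ∧ ∀ u ∈ (S : Subgroup G), u * z = z * u := by
    have hnt : Nontrivial (S : Subgroup G) := ⟨⟨x, hx⟩, 1, fun h => hx1 (congrArg Subtype.val h)⟩
    have := S.2.center_nontrivial
    obtain ⟨⟨zc, hzc⟩, hzc1⟩ := exists_ne (1 : Subgroup.center (S : Subgroup G))
    exact ⟨zc, zc.2, fun h => hzc1 (Subtype.ext (Subtype.ext h)), fun u hu =>
      congrArg Subtype.val (Subgroup.mem_center_iff.mp hzc ⟨u, hu⟩)⟩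
  obtain ⟨hz1, hzc⟩ := hzc1
  obtain ⟨g, hg⟩ := isConj_iff.mp (hconj z x hz1 hx1 (hord z hz) (hord x hx))
  obtain ⟨u, hu, hue⟩ := hnorm.conj_mem _ (Subgroup.mem_map_of_mem π hy) (π g)⁻¹
  have h1 : π (x * y * (y * x)⁻¹) = 1 := by
    have hcomm : π z * π u = π u * π z := by rw [← map_mul, ← map_mul, hzc u hu]
    have hy' : π y = π g * π u * (π g)⁻¹ := by rw [hue]; group
    have hx' : π x = π g * π z * (π g)⁻¹ := by rw [← hg, map_mul, map_mul, map_inv]
    rw [map_mul, map_inv, map_mul, map_mul, mul_inv_eq_one, hx', hy']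
    calc π g * π z * (π g)⁻¹ * (π g * π u * (π g)⁻¹) = π g * (π z * π u) * (π g)⁻¹ := by group
      _ = π g * (π u * π z) * (π g)⁻¹ := by rw [hcomm]
      _ = _ := by group
  have h2 := hinj _ (mul_mem (mul_mem hx hy) (inv_mem (mul_mem hy hx))) h1
  exact mul_inv_eq_one.mp h2

theorem aux : ∀ (n : ℕ) (G : Type u) [Group G] [Fintype G], Nat.card G = n → ∀ (p : ℕ) [Fact p.Prime]
    (M : Ideal AlgInt), IsPModular p M → IsPSolvable p G → ∀ (B : Set (IrrCharacter G)),
    IsPBlock M B → ∀ P : Subgroup G, IsDefectGroup p M B P → Nat.card B = blockRank p B + 1 →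
    IsEA p P := by
  intro n
  induction n using Nat.strong_induction_on with
  | _ n ih =>
  intro G _ _ hn p _ M hM hsolv B hB P hP hk
  classical
  have := isPrime_of_isPModular hM
  haveI := Transfer.pPrimeCore_normal p G
  have := Fintype.ofFinite (pPrimeCore p G)
  obtain ⟨χ, hχ⟩ := IsPBlock.nonempty hB
  obtain ⟨θ, hθ⟩ := Char.exists_constituent (pPrimeCore p G) (Char.isCharacter_of_isIrr χ.2)
    (Char.irr_degree_ne_zero χ.2)
  by_cases hinv : ∀ g : G, Char.conjBy (pPrimeCore p G) (θ : pPrimeCore p G → ℂ) g = θ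
  · exact invariant_case hM hsolv _ rfl hinv hB hP hχ hθ hk
  obtain ⟨T, hTdef⟩ : ∃ T : Subgroup G,
      T = Char.inertia (pPrimeCore p G) (θ : pPrimeCore p G → ℂ) := ⟨_, rfl⟩
  have := Fintype.ofFinite T
  have hb : IsPBlock M ({θ} : Set (IrrCharacter (pPrimeCore p G))) := by
    have h : blockOf M (θ : pPrimeCore p G → ℂ) = {θ} :=
      (Cfsg.Agent.S0914.result p M hM θ).mp fun h => by
        obtain ⟨d, hd, -, hdvd⟩ := Char.exists_degree_dvd_card θ.2
        exact pPrimeCore_not_dvd (G := G) p (h.trans (Nat.div_dvd_of_dvd (by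
          rw [show charDegree (θ : pPrimeCore p G → ℂ) = d by simp [charDegree, hd]]; exact hdvd)))
    exact h ▸ isPBlock_blockOf θ
  have hT : ∀ g : G, g ∈ T ↔ ∀ θ₀ ∈ ({θ} : Set (IrrCharacter (pPrimeCore p G))),
      ∀ θ' : IrrCharacter (pPrimeCore p G), (∀ n : pPrimeCore p G, (θ' : pPrimeCore p G → ℂ) n =
        (θ₀ : pPrimeCore p G → ℂ) ⟨g * n * g⁻¹, (inferInstance : (pPrimeCore p G).Normal).conj_mem n n.2 g⟩) →
      θ' ∈ ({θ} : Set (IrrCharacter (pPrimeCore p G))) := by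
    intro g
    rw [hTdef, Char.mem_inertia]
    simp only [Set.mem_singleton_iff, forall_eq]
    constructor
    · intro h θ' h'
      exact Subtype.ext (funext fun n => (h' n).trans (congrFun h n))
    · intro h
      have := h ⟨_, Char.isIrrCharacter_conjBy _ θ.2 g⟩ fun n => rfl
      exact congrArg Subtype.val this
  have hNT : pPrimeCore p G ≤ T := hTdef ▸ Char.le_inertia _ (irr_classFunction θ)
  obtain ⟨ψ, hψ, hψe⟩ := exists_indFun_eq hNT hb hT (Set.mem_singleton θ) hθ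
  have hover : ∀ ψ' ∈ blockOf M (ψ : T → ℂ), IsOver hNT ({θ} : Set (IrrCharacter (pPrimeCore p G)))
      ((ψ' : IrrCharacter T) : T → ℂ) := fun ψ' hψ' =>
    isOver_of_sameBlock hNT hb hT hψ (mem_blockOf_iff.mp hψ')
  have hirr : ∀ ψ' ∈ blockOf M (ψ : T → ℂ), IsIrrCharacter G (indFun T (ψ' : T → ℂ)) := fun ψ' hψ' =>
    isIrr_indFun hNT hb hT (hover ψ' hψ')
  have hu : B = blockOf M (indFun T (ψ : T → ℂ)) := by
    rw [← hψe]; exact IsPBlock.eq_blockOf hB hχ
  have hmem : ∀ χ' : IrrCharacter G, χ' ∈ B ↔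
      ∃ ψ' ∈ blockOf M (ψ : T → ℂ), (χ' : G → ℂ) = indFun T (ψ' : T → ℂ) :=
    fun χ' => by rw [hu, mem_blockOf_indFun_iff hNT hb hT hM hψ χ']
  have hlt : Nat.card T < n := by
    rw [← hn, ← T.card_mul_index]
    refine lt_mul_of_one_lt_right Nat.card_pos (Subgroup.one_lt_index_of_ne_top fun h => hinv ?_)
    intro g
    exact Char.mem_inertia _ |>.mp (hTdef ▸ (h ▸ Subgroup.mem_top g : g ∈ T))
  obtain ⟨D, hD⟩ := exists_isDefectGroup hM (isPBlock_blockOf (M := M) ψ)
  obtain ⟨hc, hr⟩ := card_rank_indFun hM hNT hb hT (isPBlock_blockOf ψ) hover hB hmem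
  have h1 := ih _ hlt T rfl p M hM (PSolvable.isPSolvable_subgroup T hsolv) _ (isPBlock_blockOf ψ) D
    hD (by rw [← hc, ← hr]; exact hk)
  obtain ⟨x, hx⟩ := IsDefectGroup.exists_conj_eq hM hB
    (isDefectGroup_map_indFun_block hM (isPBlock_blockOf ψ) hB hmem hirr hD) hP
  subst hx
  exact (h1.map T.subtype).map _

end Cfsg.Agent.S4606

set_option autoImplicit false
open Cfsg

namespace Cfsg.Agent.S4606

/-- Let G be a finite group, p a prime, M a maximal ideal of the algebraic integers containing p, and B a p-block of G with defect group D. Suppose the number of irreducible characters in B exceeds the p-regular rank of B (the number of irreducible Brauer characters in B) by exactly one. If B is the principal block, or if G is p-solvable, then D is elementary abelian. -/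
theorem result {G : Type*} [Group G] [Finite G] (p : ℕ) [Fact p.Prime] (M : Ideal Cfsg.AlgInt) (hM : Cfsg.IsPModular p M) (B : Set (Cfsg.IrrCharacter G)) (hB : Cfsg.IsPBlock M B) (D : Subgroup G) (hD : Cfsg.IsDefectGroup p M B D)
    (hk : Nat.card B = Cfsg.blockRank p B + 1) (hB0 : B = Cfsg.principalBlock M G ∨ Cfsg.IsPSolvable p G) :
    Cfsg.IsElementaryAbelian p D := by
  classical
  haveI := Fintype.ofFinite G
  have h : IsEA p D := by
    rcases hB0 with rfl | hsol
    · obtain ⟨P, rfl⟩ := (Cfsg.Agent.S4652.result p M hM D).mp hD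
      exact principal_case hM hk P
    · exact aux (Nat.card G) G rfl p M hM hsol B hB D hD hk
  refine ⟨⟨⟨fun a b => Subtype.ext ((h a a.2).2 b b.2)⟩⟩, fun a ha => (h a ha).1⟩

end Cfsg.Agent.S4606
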