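import Cfsg.Statements.S4607
import Cfsg.Agent.Lib.Blocks.BlockTwo
import Cfsg.Agent.Lib.Blocks.BrauerFeit
import Cfsg.Agent.Lib.Blocks.Osima

set_option autoImplicit false
open Cfsg
set_option linter.style.haveILetI false
open CfsgLib.Blocks
open scoped ComplexConjugate CfsgLib.Char

namespace Cfsg.Agent.S4607

/-- A character vanishing on the non-trivial `p`-elements has degree divisible by the order of a
Sylow subgroup. -/
theorem dvd_of_vanish {G : Type*} [Group G] [Fintype G] {p : ℕ} (hp : p.Prime) {χ : G → ℂ}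
    (hχ : Cfsg.IsCharacter G χ) {n : ℕ}
    (h0 : ∀ y : G, (∃ k : ℕ, y ^ p ^ k = 1) → y ≠ 1 → χ y = 0) (h1 : χ 1 = n) :
    p ^ (Nat.card G).factorization p ∣ n := by
  classical
  haveI := Fact.mk hp
  obtain ⟨P⟩ : Nonempty (Sylow p G) := inferInstance
  haveI : Fintype (P : Subgroup G) := Fintype.ofFinite _
  obtain ⟨m, hm⟩ := CfsgLib.Char.exists_multiplicities
    (CfsgLib.Char.isCharacter_restrict (P : Subgroup G) hχ :
      Cfsg.IsCharacter (P : Subgroup G) (fun x : (P : Subgroup G) => χ x))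
  have hin : Cfsg.classInner (fun x : (P : Subgroup G) => χ x)
      (trivIrr (P : Subgroup G) : ↥(P : Subgroup G) → ℂ) = (m (trivIrr _) : ℂ) := by
    rw [hm]
    exact CfsgLib.Char.classInner_sum_smul_irr (fun ψ => (m ψ : ℂ)) (trivIrr _)
  have hs : ∑ x : (P : Subgroup G), χ x = (n : ℂ) := by
    rw [Finset.sum_eq_single 1]
    · exact h1
    · intro x _ hx
      obtain ⟨k, hk⟩ := P.isPGroup' x
      exact h0 _ ⟨k, by simpa using congrArg Subtype.val hk⟩ fun e => hx (Subtype.ext e)
    · simp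
  simp only [Cfsg.classInner, trivIrr, map_one, mul_one, hs] at hin
  rw [inv_mul_eq_div, div_eq_iff (Nat.cast_ne_zero.mpr Nat.card_pos.ne')] at hin
  rw [P.card_eq_multiplicity] at hin
  exact ⟨m (trivIrr _), (Nat.cast_injective (R := ℂ) (by rw [Nat.cast_mul]; exact hin)).trans (mul_comm _ _)⟩

/-- Let G be a finite group, p a prime, M a maximal ideal of the algebraic integers containing p, and B a p-block of G with defect group D. Then B contains exactly two irreducible characters if and only if D has order 2. -/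
theorem result {G : Type*} [Group G] [Finite G] (p : ℕ) [Fact p.Prime] (M : Ideal Cfsg.AlgInt) (hM : Cfsg.IsPModular p M) (B : Set (Cfsg.IrrCharacter G)) (hB : Cfsg.IsPBlock M B) (D : Subgroup G) (hD : Cfsg.IsDefectGroup p M B D) : Nat.card B = 2 ↔ Nat.card D = 2 := by
  classical
  haveI := Fintype.ofFinite G
  haveI := isPrime_of_isPModular hM
  have hp : p.Prime := Fact.out
  have hDc := IsDefectGroup.card_eq hM hB hD
  obtain ⟨hda, -, -, ξ, hξ, hξv⟩ := blockDefect_le_and_degree hM hB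
  set a := (Nat.card G).factorization p with ha
  set d := blockDefect p B with hdd
  let S : Finset (Cfsg.IrrCharacter G) := Finset.univ.filter (· ∈ B)
  have hcard : Nat.card B = S.card := by
    rw [Nat.card_eq_fintype_card, Fintype.card_subtype]
  have hBF : 4 * S.card ≤ p ^ (2 * d) + 4 := by
    refine le_trans (Nat.mul_le_mul_left 4 ?_) (sum_pow_heights_le hM hB)
    rw [Finset.card_eq_sum_ones]
    exact Finset.sum_le_sum fun ψ _ => Nat.one_le_pow _ _ hp.pos
  have hvan : ∀ y : G, (∃ k : ℕ, y ^ p ^ k = 1) → y ≠ 1 →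
      ∑ ψ ∈ S, (ψ : G → ℂ) 1 * conj ((ψ : G → ℂ) y) = 0 := by
    rintro y ⟨k, hk⟩ hy1
    refine sum_block_mul_conj_eq_zero hM (S := S) ?_ (by
      rw [Cfsg.IsPRegular, orderOf_one]; exact hp.not_dvd_one) ?_
    · simpa [S] using IsPBlock.isBlockUnion hB
    · obtain ⟨j, -, hj⟩ := (Nat.dvd_prime_pow hp).mp (orderOf_dvd_of_pow_eq_one hk)
      rw [Cfsg.IsPRegular, not_not, hj]
      rcases Nat.eq_zero_or_pos j with rfl | hj0
      · exact absurd (orderOf_eq_one_iff.mp (by rwa [pow_zero] at hj)) hy1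
      · exact dvd_pow_self p hj0.ne'
  have hdeg : ∀ ψ : Cfsg.IrrCharacter G, ∃ n : ℕ, 0 < n ∧ (ψ : G → ℂ) 1 = n ∧
      Cfsg.charDegree (ψ : G → ℂ) = n := by
    intro ψ
    obtain ⟨n, hn0, hn⟩ := CfsgLib.Char.exists_nat_degree_irr ψ.2
    exact ⟨n, hn0, hn, by simp [Cfsg.charDegree, hn]⟩
  choose n hn0 hn hnc using hdeg
  have hSξ : ξ ∈ S := by simp [S, hξ]
  constructor
  · intro h2
    have hS : S.card = 2 := hcard ▸ h2
    obtain ⟨χ₁, χ₂, hne, hS12⟩ := Finset.card_eq_two.mp hS
    have hmem : χ₁ ∈ B ∧ χ₂ ∈ B := by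
      constructor
      · have : χ₁ ∈ S := by simp [hS12]
        simpa [S] using this
      · have : χ₂ ∈ S := by simp [hS12]
        simpa [S] using this
    have hb : ∀ χ ∈ B, n χ₁ ^ 2 + n χ₂ ^ 2 ≤ 2 * n χ ^ 2 := by
      intro χ hχ
      have h := BlockTwo.degree_sq_bound hB h2.le hχ (hn χ)
      rw [show (Finset.univ.filter fun ψ : Cfsg.IrrCharacter G => ψ ∈ B) = S from rfl, hS12,
        Finset.sum_pair hne, hn, hn, Complex.norm_natCast, Complex.norm_natCast] at h
      exact_mod_cast h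
    have heq : n χ₁ = n χ₂ := by
      have b1 := hb χ₁ hmem.1
      have b2 := hb χ₂ hmem.2
      exact Nat.pow_left_injective two_ne_zero (show n χ₁ ^ 2 = n χ₂ ^ 2 by omega)
    have hw : Cfsg.IsCharacter G ((χ₁ : G → ℂ) + (χ₂ : G → ℂ)) :=
      CfsgLib.Char.isCharacter_add (CfsgLib.Char.isCharacter_of_isIrr χ₁.2)
        (CfsgLib.Char.isCharacter_of_isIrr χ₂.2)
    have hdiv := dvd_of_vanish hp hw (n := 2 * n χ₁) (fun y hy hy1 => by
        have h := hvan y hy hy1
        rw [hS12, Finset.sum_pair hne, hn, hn, heq, ← mul_add, ← map_add, mul_eq_zero,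
          or_iff_right (Nat.cast_ne_zero.mpr (hn0 χ₂).ne'), map_eq_zero] at h
        exact h)
      (by
        rw [Pi.add_apply, hn, hn, ← heq]
        push_cast
        ring)
    have hξn : (n χ₁).factorization p = a - d := by
      have : ξ = χ₁ ∨ ξ = χ₂ := by simpa [hS12] using hSξ
      rcases this with rfl | rfl
      · rw [← hnc]; exact hξv
      · rw [heq, ← hnc]; exact hξv
    rw [hp.pow_dvd_iff_le_factorization (Nat.mul_ne_zero two_ne_zero (hn0 χ₁).ne'),
      Nat.factorization_mul two_ne_zero (hn0 χ₁).ne', Finsupp.add_apply, hξn] at hdiv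
    have hd1 : d ≠ 0 := by
      intro h0
      rw [hS, h0] at hBF
      simp at hBF
    rw [Nat.prime_two.factorization] at hdiv
    rcases eq_or_ne p 2 with hp2 | hp2
    · subst hp2
      rw [Finsupp.single_eq_same] at hdiv
      rw [hDc, show d = 1 by omega, pow_one]
    · rw [Finsupp.single_eq_of_ne hp2] at hdiv
      omega
  · intro h2
    have hpd : p = 2 ∧ d = 1 := by
      rw [hDc] at h2
      have h := (Nat.dvd_prime Nat.prime_two).mp ⟨1, (mul_one (p ^ d)).symm ▸ h2.symm⟩
      rcases Nat.eq_zero_or_pos d with h0 | h0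
      · simp [h0] at h2
      · have : p ∣ 2 := h2 ▸ dvd_pow_self p h0.ne'
        have hp2 : p = 2 := (Nat.prime_dvd_prime_iff_eq hp Nat.prime_two).mp this
        refine ⟨hp2, ?_⟩
        rw [hp2] at h2
        exact Nat.pow_right_injective le_rfl (h2.trans (pow_one 2).symm)
    obtain ⟨hp2, hd1⟩ := hpd
    rw [hd1, hp2] at hBF
    have hpos : 0 < S.card := Finset.card_pos.mpr ⟨ξ, hSξ⟩
    rw [hcard]
    by_contra hne
    have hS1 : S.card = 1 := by
      norm_num at hBF
      omega
    obtain ⟨χ, hχ⟩ := Finset.card_eq_one.mp hS1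
    have hdiv := dvd_of_vanish hp (CfsgLib.Char.isCharacter_of_isIrr χ.2) (n := n χ)
      (fun y hy hy1 => by
        have h := hvan y hy hy1
        rw [hχ, Finset.sum_singleton, hn, mul_eq_zero,
          or_iff_right (Nat.cast_ne_zero.mpr (hn0 χ).ne'), map_eq_zero] at h
        exact h) (hn χ)
    have hξχ : ξ = χ := by simpa [hχ] using hSξ
    rw [hp.pow_dvd_iff_le_factorization (hn0 χ).ne', ← hnc, ← hξχ, hξv] at hdiv
    omega

end Cfsg.Agent.S4607
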