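import Cfsg.Statements.S4608
import Cfsg.Agent.Lib.Blocks.RankOneFive.Degrees
import Cfsg.Agent.Lib.Blocks.RankOneFive.Abelian

set_option linter.style.haveILetI false

set_option autoImplicit false
open Cfsg CfsgLib.Blocks
open scoped CfsgLib.Char

namespace Cfsg.Agent.S4608

/-- Let G be a finite group, p a prime, M a maximal ideal of the algebraic integers containing p, and B a p-block of G with defect group D. If B has p-regular rank one and exactly five irreducible characters, then D is cyclic of order 5, or D has order 8 and is non-abelian (dihedral or quaternion). -/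
theorem result {G : Type*} [Group G] [Finite G] (p : ℕ) [Fact p.Prime] (M : Ideal Cfsg.AlgInt) (hM : Cfsg.IsPModular p M) (B : Set (Cfsg.IrrCharacter G)) (hB : Cfsg.IsPBlock M B) (D : Subgroup G) (hD : Cfsg.IsDefectGroup p M B D)
    (hl : Cfsg.blockRank p B = 1) (hk : Nat.card B = 5) :
    (Nat.card D = 5) ∨ (Nat.card D = 8 ∧ ¬ IsMulCommutative D) := by
  classical
  have := isPrime_of_isPModular hM
  haveI := Fintype.ofFinite G
  rcases RankOneFive.block_shape hM hB hD hl hk with h | ⟨h8, hp2, χ₁, hχ₁, h1, h0⟩
  · exact Or.inl h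
  refine Or.inr ⟨h8, fun hcomm => ?_⟩
  have hd : blockDefect p B = 3 := by
    have h := IsDefectGroup.card_eq hM hB hD
    rw [h8, hp2, show (8 : ℕ) = 2 ^ 3 by norm_num] at h
    rw [hp2]
    exact (Nat.pow_right_injective le_rfl h).symm
  obtain ⟨c, hc⟩ := exists_pair_of_defectGroup hM hB hD
  exact RankOneFive.false_of_abelian
    { modular := hM, block := hB, two := hp2, defect := hd, card := hk, mem := hχ₁, height := h1,
      others := h0 }
    hl (isMaximalBrauerPair_of_defectGroup hM hD hc) h8
    fun x hx y hy => congrArg Subtype.val (mul_comm' (⟨x, hx⟩ : D) ⟨y, hy⟩)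

end Cfsg.Agent.S4608
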