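import Cfsg.Statements.S4609
import Cfsg.Agent.Lib.Blocks.ThreeChars.Quotient
import Cfsg.Agent.S4607

set_option autoImplicit false
open Cfsg CfsgLib.Blocks
open scoped CfsgLib.Char
set_option linter.style.haveILetI false

namespace Cfsg.Agent.S4609

/-- Let G be a finite group, p a prime, M a maximal ideal of the algebraic integers containing p, and B a p-block of G with defect group D containing exactly three irreducible characters. Suppose the number of height-zero characters of B equals the number of height-zero characters of its Brauer correspondent b, the block of N_G(D) with defect group D inducing B (as the Alperin–McKay conjecture predicts). Then D has order 3. -/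
theorem result {G : Type*} [Group G] [Finite G] (p : ℕ) [Fact p.Prime] (M : Ideal Cfsg.AlgInt) (hM : Cfsg.IsPModular p M) (B : Set (Cfsg.IrrCharacter G)) (hB : Cfsg.IsPBlock M B) (D : Subgroup G) (hD : Cfsg.IsDefectGroup p M B D) (hk : Nat.card B = 3)
    (b : Set (Cfsg.IrrCharacter (Subgroup.normalizer (D : Set G)))) (hbB : Cfsg.IsInducedBlock M (Subgroup.normalizer (D : Set G)) b B)
    (hbD : Cfsg.IsDefectGroup p M b (D.subgroupOf (Subgroup.normalizer (D : Set G))))
    (hAM : Nat.card {χ : Cfsg.IrrCharacter G // χ ∈ B ∧ Cfsg.blockHeight p B (χ : G → ℂ) = 0} =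
           Nat.card {ψ : Cfsg.IrrCharacter (Subgroup.normalizer (D : Set G)) // ψ ∈ b ∧ Cfsg.blockHeight p b (ψ : Subgroup.normalizer (D : Set G) → ℂ) = 0}) :
    Nat.card D = 3 := by
  classical
  haveI := Fintype.ofFinite G
  haveI := isPrime_of_isPModular hM
  have hp : p.Prime := Fact.out
  haveI : Fintype (Subgroup.normalizer (D : Set G)) := Fintype.ofFinite _
  haveI : (D.subgroupOf (Subgroup.normalizer (D : Set G))).Normal := Subgroup.normal_in_normalizer
  have hb : IsPBlock M b := hbB.1
  have h0 : Nat.card {ψ : Cfsg.IrrCharacter (Subgroup.normalizer (D : Set G)) // ψ ∈ b ∧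
      Cfsg.blockHeight p b (ψ : (Subgroup.normalizer (D : Set G)) → ℂ) = 0} ≤ 3 := by
    refine hAM.symm.le.trans ?_
    rw [← hk]
    exact Nat.card_le_card_of_injective (fun χ => (⟨χ.1, χ.2.1⟩ : B))
      fun χ χ' h => Subtype.ext (congrArg (fun z : B => (z : Cfsg.IrrCharacter G)) h)
  have h3 := ThreeChars.card_defectGroup_le_three hM hb (D.subgroupOf (Subgroup.normalizer (D : Set G))) hbD h0
  rw [Nat.card_congr (Subgroup.subgroupOfEquivOfLe Subgroup.le_normalizer).toEquiv] at h3
  have h2 : Nat.card D ≠ 2 := fun h => by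
    have := (Cfsg.Agent.S4607.result p M hM B hB D hD).mpr h
    omega
  have h1 : Nat.card D ≠ 1 := fun h => by
    have hd := (IsDefectGroup.card_eq hM hB hD).symm.trans h
    have hd0 : blockDefect p B = 0 := (Nat.pow_eq_one.mp hd).resolve_left hp.one_lt.ne'
    have hsum := sum_pow_heights_le hM hB
    have hle : (Finset.univ.filter fun χ : Cfsg.IrrCharacter G => χ ∈ B).card * 4 ≤ 5 := by
      refine le_trans ?_ (le_trans hsum (by rw [hd0]; norm_num))
      rw [mul_comm]
      refine Nat.mul_le_mul_left 4 ?_
      rw [Finset.card_eq_sum_ones]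
      exact Finset.sum_le_sum fun ψ _ => Nat.one_le_pow _ _ hp.pos
    rw [Nat.card_eq_fintype_card, Fintype.card_subtype] at hk
    omega
  have hpos : 0 < Nat.card D := Nat.card_pos
  omega

end Cfsg.Agent.S4609
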