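import Cfsg.Statements.S4611
import Cfsg.Agent.Lib.Blocks.PConstrainedBlock
import Cfsg.Agent.Lib.Blocks.KernelBlock
import Cfsg.Agent.Lib.Blocks.Inflate
import Cfsg.Agent.Lib.Char.Kernel

set_option autoImplicit false
open Cfsg

namespace Cfsg.Agent.S4611

open CfsgLib CfsgLib.Blocks
open scoped ComplexConjugate

/-- A self-centralizing `p`-core gives a single block. -/
theorem one_block {p : ℕ} [Fact p.Prime] {M : Ideal Cfsg.AlgInt} (hM : Cfsg.IsPModular p M) {H : Type*}
    [Group H] [Finite H] (hC : Subgroup.centralizer (Cfsg.pCore p H : Set H) ≤ Cfsg.pCore p H)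
    (χ : Cfsg.IrrCharacter H) : χ ∈ Cfsg.principalBlock M H := by
  classical
  haveI := Fintype.ofFinite H
  haveI := isPrime_of_isPModular hM
  haveI := Fitting.pCore_normal (G := H) p
  have hinv : ∀ g : H, Char.conjBy (⊥ : Subgroup H) (trivIrr (⊥ : Subgroup H) : (⊥ : Subgroup H) → ℂ) g = trivIrr (⊥ : Subgroup H) :=
    fun g => funext fun k => rfl
  have hK : ¬ p ∣ Nat.card (⊥ : Subgroup H) := by rw [Subgroup.card_bot]; exact (Fact.out : p.Prime).not_dvd_one
  have hall : ∀ B : Set (Cfsg.IrrCharacter H), B ⊆ overSet (⊥ : Subgroup H) (trivIrr (⊥ : Subgroup H)) := fun B ψ _ => by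
    rw [mem_overSet, Cfsg.classInner]
    have h1 : ∀ k : (⊥ : Subgroup H), (ψ : H → ℂ) k = (ψ : H → ℂ) 1 := fun k => by
      rw [show ((k : H)) = 1 from Subgroup.mem_bot.mp k.2]
    have hc : Fintype.card (⊥ : Subgroup H) = 1 := by rw [← Nat.card_eq_fintype_card, Subgroup.card_bot]
    simp [trivIrr, h1, hc, Char.irr_degree_ne_zero ψ.2]
  have h := block_unique_over hinv hM hK (L := Cfsg.pCore p H) bot_le
    (fun x hx => by
      obtain ⟨n, hn⟩ := IsPGroup.iff_orderOf.mp (Fitting.pCore_isPGroup p) ⟨x, hx⟩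
      refine ⟨n, ?_⟩
      rw [Subgroup.orderOf_mk] at hn
      rw [Subgroup.mem_bot, ← hn, pow_orderOf_eq_one])
    (Fitting.pCore_isPGroup p) le_rfl hC (isPBlock_blockOf χ) (isPBlock_blockOf (trivIrr H)) (hall _) (hall _)
  have hmem : χ ∈ Cfsg.blockOf M (χ : H → ℂ) := mem_blockOf_self χ
  rw [h] at hmem
  exact hmem

/-- The principal block of a solvable group consists of the characters trivial on the `p'`-core. -/
theorem mem_principal {p : ℕ} [Fact p.Prime] {M : Ideal Cfsg.AlgInt} (hM : Cfsg.IsPModular p M) {G : Type*}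
    [Group G] [Finite G] [Group.IsSolvable G] (χ : Cfsg.IrrCharacter G)
    (h : ∀ u ∈ Cfsg.pPrimeCore p G, (χ : G → ℂ) u = (χ : G → ℂ) 1) : χ ∈ Cfsg.principalBlock M G := by
  classical
  haveI := Fintype.ofFinite G
  haveI := isPrime_of_isPModular hM
  haveI := Transfer.pPrimeCore_normal p G
  obtain ⟨η, rfl⟩ := exists_inflate_eq_of_ker (Cfsg.pPrimeCore p G) χ h
  have hs := QuotientGroup.mk'_surjective (Cfsg.pPrimeCore p G)
  have hC := PSolvable.centralizer_pCore_le (PSolvable.isPSolvable_of_surjective _ hs (PSolvable.isPSolvable_of_isSolvable inferInstance))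
    (PSolvable.pPrimeCore_eq_bot_of_ker hs (QuotientGroup.ker_mk' _))
  exact sameBlock_inflate _ hs (η := trivIrr (G ⧸ Cfsg.pPrimeCore p G)) (one_block hM hC η)

/-- Let G be a finite solvable group and π a nonempty set of primes, each dividing the order of G; fix for each p in π a maximal ideal M p of the algebraic integers containing p. Then the only irreducible character lying in the principal p-block for every p in π is the principal character if and only if G is generated by the subgroups O_{p'}(G), p in π (the largest normal subgroups of order prime to p). -/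
theorem result {G : Type*} [Group G] [Finite G] [Group.IsSolvable G] (π : Set ℕ) (hπ : ∀ p ∈ π, p.Prime ∧ p ∣ Nat.card G) (hne : π.Nonempty) (M : ℕ → Ideal Cfsg.AlgInt) (hM : ∀ p ∈ π, Cfsg.IsPModular p (M p)) :
    (∀ χ : Cfsg.IrrCharacter G, (∀ p ∈ π, χ ∈ Cfsg.principalBlock (M p) G) → (χ : G → ℂ) = fun _ => 1) ↔
      ⨆ p ∈ π, Cfsg.pPrimeCore p G = ⊤ := by
  classical
  haveI := Fintype.ofFinite G
  set N := ⨆ p ∈ π, Cfsg.pPrimeCore p G with hNdef
  haveI : N.Normal := @Subgroup.iSup_normal _ _ _ _ fun p => @Subgroup.iSup_normal _ _ _ _ fun _ => Transfer.pPrimeCore_normal p G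
  have hle : ∀ p ∈ π, Cfsg.pPrimeCore p G ≤ N := fun p hp => le_iSup₂ (f := fun p (_ : p ∈ π) => Cfsg.pPrimeCore p G) p hp
  constructor
  · intro h
    by_contra hN
    obtain ⟨g, hg⟩ : ∃ g : G, g ∉ N := by
      by_contra hc
      push Not at hc
      exact hN ((Subgroup.eq_top_iff' N).mpr hc)
    have hg1 : (QuotientGroup.mk g : G ⧸ N) ≠ 1 := fun e => hg ((QuotientGroup.eq_one_iff g).mp e)
    obtain ⟨η, hη⟩ : ∃ η : Cfsg.IrrCharacter (G ⧸ N), (η : G ⧸ N → ℂ) (QuotientGroup.mk g) ≠ (η : G ⧸ N → ℂ) 1 := by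
      by_contra hc
      push Not at hc
      exact hg1 (Char.eq_one_of_forall_irr hc)
    have hs := QuotientGroup.mk'_surjective N
    have ht := h (inflate (QuotientGroup.mk' N) hs η) fun p hp => by
      haveI := Fact.mk (hπ p hp).1
      refine mem_principal (hM p hp) _ fun u hu => ?_
      show (η : G ⧸ N → ℂ) (QuotientGroup.mk' N u) = (η : G ⧸ N → ℂ) (QuotientGroup.mk' N 1)
      rw [map_one, show QuotientGroup.mk' N u = 1 from (QuotientGroup.eq_one_iff u).mpr (hle p hp hu)]
    have e1 : (η : G ⧸ N → ℂ) (QuotientGroup.mk' N g) = 1 := congrFun ht g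
    have e2 : (η : G ⧸ N → ℂ) (QuotientGroup.mk' N 1) = 1 := congrFun ht 1
    rw [map_one] at e2
    exact hη (e1.trans e2.symm)
  · intro hN χ hχ
    obtain ⟨K, hKn, hK, -⟩ := Char.exists_kernel (Char.isCharacter_of_isIrr χ.2)
    have htop : ⊤ ≤ K := by
      rw [← hN]
      refine iSup₂_le fun p hp u hu => (hK u).mpr ?_
      haveI := Fact.mk (hπ p hp).1
      haveI := Transfer.pPrimeCore_normal p G
      exact trivial_on_of_mem_principalBlock (hM p hp) _
        ((hπ p hp).1.coprime_iff_not_dvd.mp (Transfer.pPrimeCore_coprime p).symm) (hχ p hp) u hu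
    have hconst : ∀ g, (χ : G → ℂ) g = (χ : G → ℂ) 1 := fun g => (hK g).mp (htop (Subgroup.mem_top g))
    have h1 := Char.classInner_irr_self χ.2
    obtain ⟨hd, hdpos⟩ := irr_degree_eq χ
    rw [Cfsg.classInner, Finset.sum_congr rfl (fun g _ => by rw [hconst g]), Finset.sum_const, nsmul_eq_mul,
      Finset.card_univ, Nat.card_eq_fintype_card, hd, map_natCast, ← mul_assoc,
      inv_mul_cancel₀ (Nat.cast_ne_zero.mpr Fintype.card_ne_zero), one_mul] at h1
    have hd1 : Cfsg.charDegree (χ : G → ℂ) = 1 := by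
      have : Cfsg.charDegree (χ : G → ℂ) * Cfsg.charDegree (χ : G → ℂ) = 1 := by exact_mod_cast h1
      exact Nat.eq_one_of_mul_eq_one_right this
    funext g
    rw [hconst g, hd, hd1, Nat.cast_one]
end Cfsg.Agent.S4611
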