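import Cfsg.Statements.S4620
import Cfsg.Agent.Lib.Fitting.Basic
import Cfsg.Agent.Lib.PSolvable.Core
import Cfsg.Agent.Lib.Coprime.Action
import Cfsg.Agent.Lib.Transfer.Basic

set_option autoImplicit false
open scoped Pointwise
open Cfsg

namespace Cfsg.Agent.S4620

open CfsgLib
open scoped Pointwise

/-- Two commuting nontrivial normal subgroups cannot exist. -/
theorem no_commuting_pair {K : Type*} [Group K] [Finite K] {p : ℕ} [Fact p.Prime] (hOp : Cfsg.pCore p K = ⊥)
    (hOp' : Cfsg.pPrimeCore p K = ⊥) (P : Sylow p K)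
    (hTI : ∀ g : K, g ∉ Subgroup.normalizer ((P : Subgroup K) : Set K) → (P : Subgroup K) ⊓ (MulAut.conj g • (P : Subgroup K)) = ⊥)
    (A B : Subgroup K) [A.Normal] [B.Normal] (hA : A ≠ ⊥) (hB : B ≠ ⊥)
    (hc : ∀ a ∈ A, ∀ b ∈ B, a * b = b * a) : False := by
  have hp : ∀ C : Subgroup K, C.Normal → C ≠ ⊥ → ¬ (Nat.card C).Coprime p := fun C hC hC1 h =>
    hC1 (le_bot_iff.mp ((Transfer.le_pPrimeCore hC h).trans hOp'.le))
  obtain ⟨a, ha, ha1⟩ : ∃ a ∈ (P : Subgroup K) ⊓ A, a ≠ 1 := by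
    have hS := hp A inferInstance hA
    by_contra h
    push Not at h
    apply hS
    have h' : (P : Subgroup K) ⊓ A = ⊥ := (Subgroup.eq_bot_iff_forall _).mpr h
    have h1 : Nat.card A ∣ (P : Subgroup K).index := by
      rw [← Subgroup.relIndex_bot_left, ← h', Subgroup.inf_relIndex_right]
      exact Fitting.relIndex_dvd_index_of_normal_right _ A
    exact (((Fact.out : p.Prime).coprime_iff_not_dvd.mpr P.not_dvd_index).symm).coprime_dvd_left h1
  have hBN : B ≤ Subgroup.normalizer ((P : Subgroup K) : Set K) := by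
    intro b hb
    by_contra hn
    have hmem : a ∈ (P : Subgroup K) ⊓ (MulAut.conj b • (P : Subgroup K)) := by
      refine Subgroup.mem_inf.mpr ⟨ha.1, ?_⟩
      rw [Subgroup.mem_pointwise_smul_iff_inv_smul_mem, MulAut.smul_def, MulAut.conj_inv_apply, mul_assoc, hc a ha.2 b hb,
        inv_mul_cancel_left]
      exact ha.1
    rw [hTI b hn, Subgroup.mem_bot] at hmem
    exact ha1 hmem
  set Q := ((P : Subgroup K) ⊓ B).subgroupOf B with hQ
  haveI : Q.Normal := by
    refine (Subgroup.normal_subgroupOf_iff_le_normalizer inf_le_right).mpr fun b hb => ?_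
    exact Coprime.le_normalizer_inf_of_le hBN Subgroup.le_normalizer hb
  have hQp : IsPGroup p Q := (P.2.to_le inf_le_left).comap_of_injective _ B.subtype_injective
  have hidx : ¬ p ∣ Q.index := by
    intro h
    apply P.not_dvd_index
    refine h.trans ?_
    rw [hQ, ← Subgroup.relIndex, Subgroup.inf_relIndex_right]
    exact Fitting.relIndex_dvd_index_of_normal_right _ B
  have hQ1 : Q ≠ ⊥ := by
    intro h
    rw [h, Subgroup.index_bot] at hidx
    exact hp B inferInstance hB ((Fact.out : p.Prime).coprime_iff_not_dvd.mpr hidx).symm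
  haveI : Q.Characteristic := Sylow.characteristic_of_normal (hQp.toSylow hidx) (inferInstance : Q.Normal)
  haveI : (Q.map B.subtype).Normal := ConjAct.normal_of_characteristic_of_normal
  exact hQ1 ((Subgroup.map_eq_bot_iff_of_injective _ B.subtype_injective).mp
    (le_bot_iff.mp ((Fitting.le_pCore inferInstance (hQp.map _)).trans hOp.le)))

theorem ti_conj {K : Type*} [Group K] [Finite K] {p : ℕ} [Fact p.Prime] (P R : Sylow p K)
    (hTI : ∀ g : K, g ∉ Subgroup.normalizer ((P : Subgroup K) : Set K) → (P : Subgroup K) ⊓ (MulAut.conj g • (P : Subgroup K)) = ⊥)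
    (g : K) (hg : g ∉ Subgroup.normalizer ((R : Subgroup K) : Set K)) :
    (R : Subgroup K) ⊓ (MulAut.conj g • (R : Subgroup K)) = ⊥ := by
  obtain ⟨c, hc⟩ := MulAction.exists_smul_eq K P R
  have hR : (R : Subgroup K) = MulAut.conj c • (P : Subgroup K) := by rw [← hc]; rfl
  rw [Subgroup.eq_bot_iff_forall]
  intro x hx
  rw [hR, Subgroup.mem_inf, smul_smul, ← map_mul, Subgroup.mem_pointwise_smul_iff_inv_smul_mem,
    Subgroup.mem_pointwise_smul_iff_inv_smul_mem, MulAut.smul_def, MulAut.smul_def, MulAut.conj_inv_apply,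
    MulAut.conj_inv_apply] at hx
  have hn : c⁻¹ * g * c ∉ Subgroup.normalizer ((P : Subgroup K) : Set K) := by
    intro h
    apply hg
    rw [hR, Subgroup.mem_normalizer_iff]
    intro y
    rw [Subgroup.mem_pointwise_smul_iff_inv_smul_mem, Subgroup.mem_pointwise_smul_iff_inv_smul_mem, MulAut.smul_def,
      MulAut.smul_def, MulAut.conj_inv_apply, MulAut.conj_inv_apply, Subgroup.mem_normalizer_iff.mp h (c⁻¹ * y * c)]
    rw [show c⁻¹ * g * c * (c⁻¹ * y * c) * (c⁻¹ * g * c)⁻¹ = c⁻¹ * (g * y * g⁻¹) * c by group]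
  have hmem : c⁻¹ * x * c ∈ (P : Subgroup K) ⊓ (MulAut.conj (c⁻¹ * g * c) • (P : Subgroup K)) := by
    refine Subgroup.mem_inf.mpr ⟨hx.1, ?_⟩
    rw [Subgroup.mem_pointwise_smul_iff_inv_smul_mem, MulAut.smul_def, MulAut.conj_inv_apply,
      show (c⁻¹ * g * c)⁻¹ * (c⁻¹ * x * c) * (c⁻¹ * g * c) = (g * c)⁻¹ * x * (g * c) by group]
    exact hx.2
  rw [hTI _ hn, Subgroup.mem_bot] at hmem
  rw [show x = c * (c⁻¹ * x * c) * c⁻¹ by group, hmem, mul_one, mul_inv_cancel]

/-- Let H be a finite group with no nontrivial normal p-subgroup and no nontrivial normal subgroup of order prime to p, whose Sylow p-subgroup P is nontrivial and a trivial-intersection set (P meets its conjugates by elements outside N_H(P) trivially). Then H has a unique minimal normal subgroup N; N is non-abelian simple with trivial centralizer in H (so H embeds in Aut(N)), and a Sylow p-subgroup of N is again a nontrivial trivial-intersection set in N. -/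
theorem result {H : Type*} [Group H] [Finite H] (p : ℕ) [Fact p.Prime] (hOp : Cfsg.pCore p H = ⊥) (hOp' : Cfsg.pPrimeCore p H = ⊥) (P : Sylow p H) (hP1 : (P : Subgroup H) ≠ ⊥)
    (hTI : ∀ g : H, g ∉ Subgroup.normalizer ((P : Subgroup H) : Set H) → (P : Subgroup H) ⊓ (MulAut.conj g • (P : Subgroup H)) = ⊥) :
    ∃ N : Subgroup H, N.Normal ∧ N ≠ ⊥ ∧ (∀ K : Subgroup H, K.Normal → K ≠ ⊥ → N ≤ K) ∧
      IsSimpleGroup N ∧ ¬ IsMulCommutative N ∧ Subgroup.centralizer (N : Set H) = ⊥ ∧
      ∀ Q : Sylow p N, (Q : Subgroup N) ≠ ⊥ ∧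
        ∀ n : N, n ∉ Subgroup.normalizer ((Q : Subgroup N) : Set N) → (Q : Subgroup N) ⊓ (MulAut.conj n • (Q : Subgroup N)) = ⊥ := by
  classical
  have hne : ∃ N : Subgroup H, N.Normal ∧ N ≠ ⊥ := by
    refine ⟨⊤, inferInstance, fun h => hP1 (le_bot_iff.mp (h ▸ le_top))⟩
  obtain ⟨N, ⟨hN, hN1⟩, hmin⟩ := wellFounded_lt.has_min {N : Subgroup H | N.Normal ∧ N ≠ ⊥} hne
  haveI := hN
  have hCN : Subgroup.centralizer (N : Set H) = ⊥ := by
    by_contra h
    exact no_commuting_pair hOp hOp' P hTI N (Subgroup.centralizer (N : Set H)) hN1 h fun a ha b hb => hb a ha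
  have huniq : ∀ K : Subgroup H, K.Normal → K ≠ ⊥ → N ≤ K := by
    intro K hK hK1
    haveI := hK
    by_cases h : N ⊓ K = ⊥
    · exact (no_commuting_pair hOp hOp' P hTI N K hN1 hK1 fun a ha b hb =>
        (Subgroup.commute_of_normal_of_disjoint N K hN hK (disjoint_iff.mpr h) a b ha hb).eq).elim
    · rcases (inf_le_left : N ⊓ K ≤ N).eq_or_lt with e | e
      · exact e ▸ inf_le_right
      · exact absurd e (hmin _ ⟨inferInstance, h⟩)
  -- Sylow subgroups of `N`
  have hQS : ∀ Q : Sylow p N, ∃ S : Sylow p H, (Q : Subgroup N) = (S : Subgroup H).subgroupOf N := by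
    intro Q
    obtain ⟨S, hS⟩ := (Q.2.map N.subtype).exists_le_sylow
    exact ⟨S, (Q.is_maximal' (S.2.comap_of_injective _ N.subtype_injective) fun x hx => hS ⟨x, hx, rfl⟩).symm⟩
  have hTIN : ∀ (Q : Sylow p N) (n : N), n ∉ Subgroup.normalizer ((Q : Subgroup N) : Set N) →
      (Q : Subgroup N) ⊓ (MulAut.conj n • (Q : Subgroup N)) = ⊥ := by
    intro Q n hn
    obtain ⟨S, hS⟩ := hQS Q
    have hnS : (n : H) ∉ Subgroup.normalizer ((S : Subgroup H) : Set H) := fun h => hn (by
      rw [hS]; exact Subgroup.le_normalizer_comap N.subtype h)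
    rw [Subgroup.eq_bot_iff_forall]
    rintro x ⟨hx1, hx2⟩
    have hmem : (x : H) ∈ (S : Subgroup H) ⊓ (MulAut.conj (n : H) • (S : Subgroup H)) := by
      refine Subgroup.mem_inf.mpr ⟨by rw [hS] at hx1; exact hx1, ?_⟩
      rw [Subgroup.mem_pointwise_smul_iff_inv_smul_mem, MulAut.smul_def, MulAut.conj_inv_apply]
      change x ∈ MulAut.conj n • (Q : Subgroup N) at hx2
      rw [Subgroup.mem_pointwise_smul_iff_inv_smul_mem, MulAut.smul_def, MulAut.conj_inv_apply, hS] at hx2
      exact hx2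
    rw [ti_conj P S hTI _ hnS, Subgroup.mem_bot] at hmem
    exact Subtype.ext hmem
  have hOpN : Cfsg.pCore p ↥N = ⊥ := by
    haveI : (Cfsg.pCore p ↥N).Characteristic := PSolvable.pCore_characteristic p
    haveI : ((Cfsg.pCore p ↥N).map N.subtype).Normal := ConjAct.normal_of_characteristic_of_normal
    exact (Subgroup.map_eq_bot_iff_of_injective _ N.subtype_injective).mp
      (le_bot_iff.mp ((Fitting.le_pCore inferInstance ((Fitting.pCore_isPGroup p).map _)).trans hOp.le))
  have hOpN' : Cfsg.pPrimeCore p ↥N = ⊥ := by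
    haveI : (Cfsg.pPrimeCore p ↥N).Characteristic := PSolvable.pPrimeCore_characteristic p
    haveI : ((Cfsg.pPrimeCore p ↥N).map N.subtype).Normal := ConjAct.normal_of_characteristic_of_normal
    exact (Subgroup.map_eq_bot_iff_of_injective _ N.subtype_injective).mp
      (le_bot_iff.mp ((Transfer.le_pPrimeCore inferInstance
        (by rw [← Nat.card_congr (Subgroup.equivMapOfInjective _ _ N.subtype_injective).toEquiv]; exact Transfer.pPrimeCore_coprime p)).trans hOp'.le))
  obtain ⟨Q₀⟩ : Nonempty (Sylow p N) := inferInstance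
  have hQ1 : ∀ Q : Sylow p N, (Q : Subgroup N) ≠ ⊥ := by
    intro Q h
    have h1 := Q.not_dvd_index
    rw [h, Subgroup.index_bot] at h1
    exact hN1 (le_bot_iff.mp ((Transfer.le_pPrimeCore hN ((Fact.out : p.Prime).coprime_iff_not_dvd.mpr h1).symm).trans hOp'.le))
  have hsimple : IsSimpleGroup N := by
    haveI : Nontrivial N := (Subgroup.nontrivial_iff_ne_bot N).mpr hN1
    refine ⟨fun T hT => ?_⟩
    by_contra hne'
    push Not at hne'
    obtain ⟨hT1, hT2⟩ := hne'
    obtain ⟨T0, ⟨hT0n, hT01⟩, hT0min⟩ := wellFounded_lt.has_min {T' : Subgroup N | T'.Normal ∧ T' ≠ ⊥} ⟨T, hT, hT1⟩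
    have hT0top : T0 ≠ ⊤ := by
      rintro rfl
      exact hT0min T ⟨hT, hT1⟩ (lt_top_iff_ne_top.mpr hT2)
    haveI := hT0n
    by_cases hinv : ∀ g : H, T0.map (MulAut.conjNormal g : MulAut N).toMonoidHom = T0
    · haveI : (T0.map N.subtype).Normal := ⟨by
        rintro _ ⟨t, ht, rfl⟩ g
        refine ⟨(MulAut.conjNormal g : MulAut N) t, ?_, rfl⟩
        rw [SetLike.mem_coe, ← hinv g]
        exact ⟨t, ht, rfl⟩⟩
      refine hT0top (eq_top_iff.mpr fun x _ => ?_)
      obtain ⟨t, ht, htx⟩ := huniq (T0.map N.subtype) inferInstance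
        (fun h => hT01 ((Subgroup.map_eq_bot_iff_of_injective _ N.subtype_injective).mp h)) x.2
      exact (Subtype.ext htx : t = x) ▸ ht
    · push Not at hinv
      obtain ⟨g, hg⟩ := hinv
      set T1 := T0.map (MulAut.conjNormal g : MulAut N).toMonoidHom with hT1def
      haveI : T1.Normal := hT0n.map _ (MulAut.conjNormal g : MulAut N).surjective
      have hT11 : T1 ≠ ⊥ := fun h => hT01 ((Subgroup.map_eq_bot_iff_of_injective _ (MulAut.conjNormal g : MulAut N).injective).mp h)
      have hdisj : T0 ⊓ T1 = ⊥ := by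
        by_contra h
        rcases (inf_le_left : T0 ⊓ T1 ≤ T0).eq_or_lt with e | e
        · refine hg (Subgroup.eq_of_le_of_card_ge (inf_eq_left.mp e) ?_).symm
          exact (Nat.card_congr (T0.equivMapOfInjective _ (MulAut.conjNormal g : MulAut N).injective).toEquiv).ge
        · exact hT0min _ ⟨inferInstance, h⟩ e
      exact no_commuting_pair hOpN hOpN' Q₀ (hTIN Q₀) T0 T1 hT01 hT11 fun a ha b hb =>
        (Subgroup.commute_of_normal_of_disjoint T0 T1 hT0n inferInstance (disjoint_iff.mpr hdisj) a b ha hb).eq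
  refine ⟨N, hN, hN1, huniq, hsimple, fun hab => hN1 ?_, hCN, fun Q => ⟨hQ1 Q, hTIN Q⟩⟩
  refine le_bot_iff.mp (le_trans ?_ hCN.le)
  intro x hx y hy
  exact congrArg Subtype.val (hab.is_comm.comm (⟨y, hy⟩ : N) ⟨x, hx⟩)
end Cfsg.Agent.S4620
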