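import Mathlib
import Cfsg.Statements.S4623


set_option autoImplicit false
open Cfsg

namespace Cfsg.Agent.S4623

open Equiv Equiv.Perm

/-- A group generated by elements of order `p` has elementary abelianization. -/
theorem pow_mem_commutator {G : Type*} [Group G] (p : ℕ) (H : Subgroup G)
    (h : H ≤ Subgroup.closure {x | x ∈ H ∧ x ^ p = 1}) (x : H) : x ^ p ∈ commutator H := by
  let φ : H →* Abelianization H := (powMonoidHom p).comp Abelianization.of
  have hS : {x | x ∈ H ∧ x ^ p = 1} ⊆ (φ.ker.map H.subtype : Set G) := by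
    rintro y ⟨hy, hyp⟩
    refine ⟨⟨y, hy⟩, ?_, rfl⟩
    simp only [SetLike.mem_coe, MonoidHom.mem_ker, φ, MonoidHom.comp_apply, powMonoidHom_apply]
    rw [← map_pow, show (⟨y, hy⟩ : H) ^ p = 1 from Subtype.ext hyp, map_one]
  obtain ⟨y, hy, hyx⟩ := (h.trans ((Subgroup.closure_le _).mpr hS)) x.2
  obtain rfl : y = x := Subtype.ext hyx
  have : Abelianization.of (y ^ p) = 1 := by rw [map_pow]; exact hy
  exact (QuotientGroup.eq_one_iff _).mp this

variable (p : ℕ) [Fact p.Prime]

/-- Translations inside the blocks. -/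
noncomputable def shift (m r : ℕ) : Multiplicative (Fin m → ZMod p) →* Perm ((Fin m × ZMod p) ⊕ Fin r) where
  toFun f := Equiv.sumCongr (Equiv.prodCongrRight fun i => Equiv.addLeft (f.toAdd i)) (Equiv.refl _)
  map_one' := by ext (⟨i, a⟩ | c) <;> simp
  map_mul' f g := by ext (⟨i, a⟩ | c) <;> simp [add_assoc]

/-- Permutations of the blocks. -/
def blockPerm (m r : ℕ) : Perm (Fin m) →* Perm ((Fin m × ZMod p) ⊕ Fin r) where
  toFun π := Equiv.sumCongr (Equiv.prodCongrLeft fun _ => π) (Equiv.refl _)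
  map_one' := by ext (⟨i, a⟩ | c) <;> simp
  map_mul' f g := by ext (⟨i, a⟩ | c) <;> simp

theorem conj_shift (m r : ℕ) (π : Perm (Fin m)) (f : Multiplicative (Fin m → ZMod p)) :
    blockPerm p m r π * shift p m r f * (blockPerm p m r π)⁻¹ =
      shift p m r (Multiplicative.ofAdd (f.toAdd ∘ π.symm)) := by
  rw [mul_inv_eq_iff_eq_mul]
  ext (⟨i, a⟩ | c) <;> simp [shift, blockPerm]

/-- A Sylow subgroup of a symmetric group and its even part are generated by elements of order `p`. -/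
theorem exists_sylow : ∀ n : ℕ, ∀ (α : Type) [Fintype α] [DecidableEq α], Fintype.card α = n →
    ∀ P : Sylow p (Perm α), (P : Subgroup (Perm α)) ≤ Subgroup.closure {x | x ∈ (P : Subgroup (Perm α)) ∧ x ^ p = 1} ∧
      (P : Subgroup (Perm α)) ⊓ alternatingGroup α ≤
        Subgroup.closure {x | x ∈ (P : Subgroup (Perm α)) ⊓ alternatingGroup α ∧ x ^ p = 1} := by
  intro n
  induction n using Nat.strong_induction_on with
  | _ n ih =>
  intro α _ _ hα P
  have hp := (Fact.out : p.Prime)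
  set m := n / p
  set r := n % p
  rcases Nat.eq_zero_or_pos n with rfl | hn
  · haveI : IsEmpty α := Fintype.card_eq_zero_iff.mp hα
    constructor <;> intro x _ <;> rw [Subsingleton.elim x 1] <;> exact Subgroup.one_mem _
  have hmn : m < n := Nat.div_lt_self hn hp.one_lt
  obtain ⟨Q⟩ : Nonempty (Sylow p (Perm (Fin m))) := inferInstance
  have hQ := (ih m hmn (Fin m) (Fintype.card_fin m) Q).1
  set E := (shift p m r).range with hE
  set R := (Q : Subgroup (Perm (Fin m))).map (blockPerm p m r) with hR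
  have hnorm : R ≤ Subgroup.normalizer (E : Set (Perm ((Fin m × ZMod p) ⊕ Fin r))) := by
    rintro _ ⟨π, -, rfl⟩
    rw [Subgroup.mem_normalizer_iff]
    intro x
    constructor
    · rintro ⟨f, rfl⟩
      exact ⟨_, (conj_shift p m r π f).symm⟩
    · rintro ⟨f, hf⟩
      refine ⟨Multiplicative.ofAdd (f.toAdd ∘ π⁻¹.symm), ?_⟩
      rw [← conj_shift, map_inv, inv_inv, hf]
      group
  have hEp : ∀ x ∈ E, x ^ p = 1 := by
    rintro _ ⟨f, rfl⟩
    rw [← map_pow, show f ^ p = 1 from Multiplicative.toAdd.injective (by ext i; simp), map_one]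
  have hEP : IsPGroup p E := fun x => ⟨1, Subtype.ext (by simpa using hEp x x.2)⟩
  have hP0 : IsPGroup p (E ⊔ R : Subgroup (Perm ((Fin m × ZMod p) ⊕ Fin r))) :=
    IsPGroup.to_sup_of_normal_left' hEP (Q.2.map _) hnorm
  obtain ⟨P0, hP0le⟩ := hP0.exists_le_sylow
  -- the product fills a Sylow subgroup
  have hcard : Nat.card P0 ≤ Nat.card (E ⊔ R : Subgroup (Perm ((Fin m × ZMod p) ⊕ Fin r))) := by
    let F : Multiplicative (Fin m → ZMod p) × (Q : Subgroup (Perm (Fin m))) →
        (E ⊔ R : Subgroup (Perm ((Fin m × ZMod p) ⊕ Fin r))) := fun x =>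
      ⟨shift p m r x.1 * blockPerm p m r x.2,
        Subgroup.mul_mem_sup ⟨x.1, rfl⟩ (Subgroup.mem_map_of_mem _ x.2.2)⟩
    have hF : Function.Injective F := by
      rintro ⟨f, π⟩ ⟨g, σ⟩ h
      have h0 : ∀ i a, ((π : Perm (Fin m)) i, f.toAdd ((π : Perm (Fin m)) i) + a) =
          ((σ : Perm (Fin m)) i, g.toAdd ((σ : Perm (Fin m)) i) + a) := fun i a => by
        simpa [F, shift, blockPerm] using congrFun (congrArg DFunLike.coe (congrArg Subtype.val h)) (Sum.inl (i, a))
      have h1 : π = σ := Subtype.ext (Equiv.ext fun i => (Prod.ext_iff.mp (h0 i 0)).1)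
      subst h1
      have h2 : f = g := Multiplicative.toAdd.injective (funext fun i => by
        simpa using (Prod.ext_iff.mp (h0 ((π : Perm (Fin m))⁻¹ i) 0)).2)
      rw [h2]
    refine le_trans (le_of_eq ?_) (Nat.card_le_card_of_injective F hF)
    rw [P0.card_eq_multiplicity, Nat.card_prod, Q.card_eq_multiplicity, Nat.card_perm, Nat.card_perm]
    have hm : Nat.card (Multiplicative (Fin m → ZMod p)) = p ^ m := by
      rw [Nat.card_congr Multiplicative.toAdd, Nat.card_fun, Nat.card_zmod, Nat.card_eq_fintype_card, Fintype.card_fin]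
    rw [hm, ← pow_add]
    congr 1
    rw [Nat.factorization_def _ hp, Nat.factorization_def _ hp]
    have hn' : Nat.card ((Fin m × ZMod p) ⊕ Fin r) = p * m + r := by
      rw [Nat.card_sum, Nat.card_prod, Nat.card_zmod, Nat.card_eq_fintype_card, Fintype.card_fin,
        Nat.card_eq_fintype_card, Fintype.card_fin, mul_comm]
    rw [hn', padicValNat_factorial_mul_add m (Nat.mod_lt n hp.pos), padicValNat_factorial_mul,
      Nat.card_eq_fintype_card, Fintype.card_fin, add_comm]
  have hP0eq : (E ⊔ R : Subgroup (Perm ((Fin m × ZMod p) ⊕ Fin r))) = P0 := Subgroup.eq_of_le_of_card_ge hP0le hcard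
  have hdec : ∀ x ∈ (P0 : Subgroup (Perm ((Fin m × ZMod p) ⊕ Fin r))), ∃ e ∈ E, ∃ y ∈ R, x = e * y := by
    intro x hx
    rw [← hP0eq, ← SetLike.mem_coe, Subgroup.coe_mul_of_right_le_normalizer_left E R hnorm] at hx
    obtain ⟨e, he, y, hy, rfl⟩ := hx
    exact ⟨e, he, y, hy, rfl⟩
  have hsign : ∀ π : Perm (Fin m), Equiv.Perm.sign (blockPerm p m r π) = Equiv.Perm.sign π ^ p := by
    intro π
    simp [blockPerm, Equiv.Perm.sign_sumCongr, Equiv.Perm.sign_prodCongrLeft, Equiv.Perm.sign_refl]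
  have hRgen : R ≤ Subgroup.closure {x | x ∈ (P0 : Subgroup (Perm ((Fin m × ZMod p) ⊕ Fin r))) ⊓ alternatingGroup _ ∧ x ^ p = 1} := by
    refine (Subgroup.map_mono hQ).trans ?_
    rw [MonoidHom.map_closure, Subgroup.closure_le]
    rintro _ ⟨s, ⟨hs, hsp⟩, rfl⟩
    refine Subgroup.subset_closure ⟨⟨hP0eq ▸ Subgroup.mem_sup_right (Subgroup.mem_map_of_mem _ hs), ?_⟩, by rw [← map_pow, hsp, map_one]⟩
    show blockPerm p m r s ∈ alternatingGroup _
    rw [Equiv.Perm.mem_alternatingGroup, hsign, ← map_pow, hsp, map_one]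
  -- transfer to `P`
  have e : ((Fin m × ZMod p) ⊕ Fin r) ≃ α := Fintype.equivOfCardEq (by
    rw [hα, Fintype.card_sum, Fintype.card_prod, Fintype.card_fin, ZMod.card, Fintype.card_fin, Nat.div_add_mod'])
  obtain ⟨g, hg⟩ := MulAction.exists_smul_eq (Perm α) (P0.mapSurjective (f := e.permCongrHom.toMonoidHom) e.permCongrHom.surjective) P
  let c : Perm ((Fin m × ZMod p) ⊕ Fin r) →* Perm α := (MulAut.conj g).toMonoidHom.comp e.permCongrHom.toMonoidHom
  have hPc : (P : Subgroup (Perm α)) = (P0 : Subgroup (Perm ((Fin m × ZMod p) ⊕ Fin r))).map c := by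
    rw [← hg, Sylow.coe_subgroup_smul, show c = (MulAut.conj g).toMonoidHom.comp e.permCongrHom.toMonoidHom from rfl, ← Subgroup.map_map]
    rfl
  have hcsign : ∀ x, Equiv.Perm.sign (c x) = Equiv.Perm.sign x := fun x => by
    change Equiv.Perm.sign (g * e.permCongr x * g⁻¹) = _
    rw [map_mul, map_mul, map_inv, Equiv.Perm.sign_permCongr, mul_right_comm, mul_inv_cancel, one_mul]
  have hmemA : ∀ x, c x ∈ alternatingGroup α ↔ x ∈ alternatingGroup ((Fin m × ZMod p) ⊕ Fin r) := fun x => by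
    rw [Equiv.Perm.mem_alternatingGroup, Equiv.Perm.mem_alternatingGroup, hcsign]
  constructor
  · intro x hx
    rw [hPc] at hx ⊢
    obtain ⟨x0, hx0, rfl⟩ := hx
    obtain ⟨e', he, y, hy, rfl⟩ := hdec x0 hx0
    rw [map_mul]
    refine Subgroup.mul_mem _ (Subgroup.subset_closure ⟨Subgroup.mem_map_of_mem _ (hP0eq ▸ Subgroup.mem_sup_left he),
      by rw [← map_pow, hEp _ he, map_one]⟩) ?_
    have hy2 := Subgroup.mem_map_of_mem c (hRgen hy)
    rw [MonoidHom.map_closure] at hy2
    refine Subgroup.closure_mono ?_ hy2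
    rintro _ ⟨z, ⟨hz, hzp⟩, rfl⟩
    exact ⟨Subgroup.mem_map_of_mem _ hz.1, by rw [← map_pow, hzp, map_one]⟩
  · intro x hx
    rw [hPc] at hx ⊢
    obtain ⟨⟨x0, hx0, rfl⟩, hxA⟩ := hx
    obtain ⟨e', he, y, hy, rfl⟩ := hdec x0 hx0
    have hyA : y ∈ alternatingGroup ((Fin m × ZMod p) ⊕ Fin r) :=
      ((Subgroup.closure_le _).mpr (fun z hz => hz.1.2) : _ ≤ alternatingGroup _) (hRgen hy)
    have heA : e' ∈ alternatingGroup ((Fin m × ZMod p) ⊕ Fin r) := (Subgroup.mul_mem_cancel_right _ hyA).mp ((hmemA _).mp hxA)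
    rw [map_mul]
    refine Subgroup.mul_mem _ (Subgroup.subset_closure ⟨⟨Subgroup.mem_map_of_mem _ (hP0eq ▸ Subgroup.mem_sup_left he),
      (hmemA _).mpr heA⟩, by rw [← map_pow, hEp _ he, map_one]⟩) ?_
    have hy2 := Subgroup.mem_map_of_mem c (hRgen hy)
    rw [MonoidHom.map_closure] at hy2
    refine Subgroup.closure_mono ?_ hy2
    rintro _ ⟨z, ⟨hz, hzp⟩, rfl⟩
    exact ⟨⟨Subgroup.mem_map_of_mem _ hz.1, (hmemA _).mpr hz.2⟩, by rw [← map_pow, hzp, map_one]⟩


/-- For every prime p and every n, a Sylow p-subgroup P of the symmetric group on n letters has P/P' elementary abelian (the p-th power of every element of P lies in the derived subgroup of P), and the same holds for a Sylow p-subgroup of the alternating group on n letters. -/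
theorem result (p : ℕ) [Fact p.Prime] (n : ℕ) (P : Sylow p (Equiv.Perm (Fin n))) (Q : Sylow p (alternatingGroup (Fin n))) :
    (∀ x : (P : Subgroup (Equiv.Perm (Fin n))), x ^ p ∈ commutator (P : Subgroup (Equiv.Perm (Fin n)))) ∧
    (∀ x : (Q : Subgroup (alternatingGroup (Fin n))), x ^ p ∈ commutator (Q : Subgroup (alternatingGroup (Fin n)))) := by
  refine ⟨pow_mem_commutator p _ (exists_sylow p n (Fin n) (Fintype.card_fin n) P).1, pow_mem_commutator p _ ?_⟩
  obtain ⟨S, hS⟩ := (Q.2.map (alternatingGroup (Fin n)).subtype).exists_le_sylow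
  have hQS : (Q : Subgroup (alternatingGroup (Fin n))).map (alternatingGroup (Fin n)).subtype =
      (S : Subgroup (Equiv.Perm (Fin n))) ⊓ alternatingGroup (Fin n) := by
    refine le_antisymm (le_inf hS (Subgroup.map_subtype_le _)) fun x hx => ?_
    have hmax := Q.3 (Q := (S : Subgroup (Equiv.Perm (Fin n))).subgroupOf (alternatingGroup (Fin n)))
      (S.2.comap_subtype) (fun y hy => hS (Subgroup.mem_map_of_mem _ hy))
    exact ⟨⟨x, hx.2⟩, hmax ▸ hx.1, rfl⟩
  rw [← Subgroup.map_le_map_iff_of_injective (alternatingGroup (Fin n)).subtype_injective, MonoidHom.map_closure, hQS]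
  refine (exists_sylow p n (Fin n) (Fintype.card_fin n) S).2.trans (Subgroup.closure_mono ?_)
  rintro x ⟨hx, hxp⟩
  rw [← hQS] at hx
  obtain ⟨y, hy, rfl⟩ := hx
  exact ⟨y, ⟨hy, Subtype.ext (by simpa using hxp)⟩, rfl⟩
end Cfsg.Agent.S4623
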