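import Cfsg.Statements.S4624
import Mathlib
import Cfsg.Agent.Lib.LinearPGroup.SylowTwoModels

set_option autoImplicit false
open Cfsg

namespace Cfsg.Agent.S4624

/-- Let F be a finite field of odd order and n ≥ 1. A Sylow 2-subgroup P of the symplectic group Sp_{2n}(F) has P/P' elementary abelian: the square of every element of P lies in the derived subgroup of P. -/
theorem result {F : Type*} [Field F] [Fintype F] (hF : Odd (Fintype.card F)) (n : ℕ) (hn : 1 ≤ n) (P : Sylow 2 (Matrix.symplecticGroup (Fin n) F)) :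
    ∀ x : (P : Subgroup (Matrix.symplecticGroup (Fin n) F)), x ^ 2 ∈ commutator (P : Subgroup (Matrix.symplecticGroup (Fin n) F)) := by
  classical
  haveI : Fact (Nat.Prime 2) := ⟨Nat.prime_two⟩
  obtain ⟨T⟩ : Nonempty (Sylow 2 (Matrix.SpecialLinearGroup (Fin 2) F)) := inferInstance
  obtain ⟨Q⟩ : Nonempty (Sylow 2 (Equiv.Perm (Fin n))) := inferInstance
  have hW := Cfsg.Agent.BlockMonomial.sqComm_BM (P := (Q : Subgroup (Equiv.Perm (Fin n))))
    (Cfsg.Agent.BlockMonomial.sylow_gen Q) (Cfsg.Agent.SylowTwoModels.sqComm_SL2 hF T)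
  obtain ⟨val, hval⟩ := Cfsg.Agent.SylowTwoModels.exists_val (F := F)
  let E₂ : Fin 2 ≃ Fin 1 ⊕ Fin 1 := (finSumFinEquiv : Fin 1 ⊕ Fin 1 ≃ Fin (1 + 1)).symm
  let ρ : (T : Subgroup (Matrix.SpecialLinearGroup (Fin 2) F)) →* Matrix (Fin 1 ⊕ Fin 1) (Fin 1 ⊕ Fin 1) F :=
    (Matrix.reindexAlgEquiv F F E₂).toMulEquiv.toMonoidHom.comp (val.comp (T : Subgroup (Matrix.SpecialLinearGroup (Fin 2) F)).subtype)
  have hρinj : Function.Injective ρ := fun x y h => by
    have h1 := (Matrix.reindexAlgEquiv F F E₂).injective h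
    exact Subtype.ext (Subtype.ext ((hval _).symm.trans (h1.trans (hval _))))
  have hJ : Matrix.reindex E₂ E₂ (!![0, -1; 1, 0] : Matrix (Fin 2) (Fin 2) F) = Matrix.J (Fin 1) F := by
    ext x y
    rcases x with x | x <;> rcases y with y | y <;> fin_cases x <;> fin_cases y <;>
      simp [E₂, Matrix.J, finSumFinEquiv]
  have hρ : ∀ d, ρ d * Matrix.J (Fin 1) F * (ρ d).transpose = Matrix.J (Fin 1) F := by
    rintro ⟨⟨A, hdet⟩, hA⟩
    have h2 : A * !![0, -1; 1, 0] * A.transpose = (!![0, -1; 1, 0] : Matrix (Fin 2) (Fin 2) F) := by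
      rw [Matrix.det_fin_two] at hdet
      ext i j
      fin_cases i <;> fin_cases j <;> simp [Matrix.mul_apply, Fin.sum_univ_two] <;>
        first
          | ring1
          | linear_combination hdet
          | linear_combination -hdet
    rw [← hJ]
    show Matrix.reindex E₂ E₂ (val _) * _ * (Matrix.reindex E₂ E₂ (val _)).transpose = _
    have hv : val ⟨A, ‹_›⟩ = A := hval _
    simp only [Subgroup.coe_subtype, Matrix.reindex_apply, Matrix.transpose_submatrix,
      Matrix.submatrix_mul_equiv]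
    rw [hv, h2]
  let e : Fin 1 × Fin n ≃ Fin n := Equiv.uniqueProd (Fin n) (Fin 1)
  let E := (Equiv.sumProdDistrib (Fin 1) (Fin 1) (Fin n)).trans (Equiv.sumCongr e e)
  have hE : Matrix.reindex E E (Cfsg.Agent.BlockMonomial.copies (ι := Fin n) (Matrix.J (Fin 1) F)) =
      Matrix.J (Fin n) F := by
    ext x y
    rcases x with x | x <;> rcases y with y | y <;>
      simp [E, e, Cfsg.Agent.BlockMonomial.copies, Matrix.J, Matrix.one_apply] <;> split_ifs <;> simp
  let f := (Matrix.reindexAlgEquiv F F E).toMulEquiv.toMonoidHom.comp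
    (Cfsg.Agent.BlockMonomial.rep (P := (Q : Subgroup (Equiv.Perm (Fin n)))) ρ)
  have hmem : ∀ g, f g ∈ Matrix.symplecticGroup (Fin n) F := fun g => by
    rw [SymplecticGroup.mem_iff, ← hE]
    show Matrix.reindex E E (Cfsg.Agent.BlockMonomial.rep ρ g) * _ *
      (Matrix.reindex E E (Cfsg.Agent.BlockMonomial.rep ρ g)).transpose = _
    simp only [Matrix.reindex_apply, Matrix.transpose_submatrix, Matrix.submatrix_mul_equiv,
      Cfsg.Agent.BlockMonomial.rep_preserves ρ _ hρ g]
  obtain ⟨iso⟩ := CfsgLib.Classical.SylowLargePrime.sylow_iso (f.codRestrict _ hmem)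
    (fun x y h => Cfsg.Agent.BlockMonomial.rep_injective hρinj
      ((Matrix.reindexAlgEquiv F F E).injective (congrArg Subtype.val h))) (by
    rw [Cfsg.Agent.BlockMonomial.card_BM, Cfsg.Agent.SylowTwoOrders.card_sylow_perm, T.card_eq_multiplicity,
      Cfsg.Agent.SylowTwoOrders.fact_SL_two rfl hF, Cfsg.Agent.SylowTwoOrders.fact_Sp rfl hF, Nat.card_fin,
      ← pow_mul, ← pow_add, mul_comm]) P
  exact Cfsg.Agent.BlockMonomial.sqComm_congr iso.symm hW

end Cfsg.Agent.S4624
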