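import Cfsg.Statements.S4625
import Cfsg.Agent.Lib.SylowTwoElem.Classical
import Cfsg.Agent.Lib.SylowTwoElem.PSL
import Cfsg.Agent.Lib.SylowTwoElem.Suzuki
import Cfsg.Agent.Lib.SylowTwoElem.TwistF4
-- import your own Cfsg.Agent.* helpers here

set_option autoImplicit false
open Cfsg

namespace Cfsg.Agent.S4625

/-- Let G be a finite simple group of Lie type in characteristic 2, not counting the Tits group ²F₄(2)′. Then a Sylow 2-subgroup P of G has P/P' elementary abelian: the square of every element of P lies in the derived subgroup of P. -/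
theorem result {G : Type*} [Group G] [Finite G] [IsSimpleGroup G] (hG : Cfsg.IsLieTypeChar 2 G) (P : Sylow 2 G) :
    ∀ x : (P : Subgroup G), x ^ 2 ∈ commutator (P : Subgroup G) := by
  intro x
  suffices h : CfsgLib.SylowTwoElem.SqComm G from h P x
  have := Fact.mk Nat.prime_two
  rcases hG with ⟨F, _, _, _, n, hn, -, ⟨e⟩⟩ | ⟨F, _, _, _, m, hm, -, ⟨e⟩⟩ |
    ⟨F, _, _, _, n, q, hF, hn, -, ⟨e⟩⟩ | ⟨F, _, _, _, m, hm, hodd, ⟨e⟩⟩ | ⟨F, _, _, _, m, hm, ⟨e⟩⟩ |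
    ⟨F, _, _, _, m, a, b, hm, hab, ⟨e⟩⟩ |
    ⟨F, _, _, _, (⟨-, ⟨e⟩⟩ | ⟨⟨e⟩⟩ | ⟨⟨e⟩⟩ | ⟨⟨e⟩⟩ | ⟨⟨e⟩⟩)⟩ |
    ⟨K, _, _, _, q, hq, (⟨hK, ⟨e⟩⟩ | ⟨hK, ⟨e⟩⟩)⟩ |
    ⟨-, F, _, _, m, hm, hF, ⟨e⟩⟩ | ⟨-, K, _, _, m, hm, hK, ⟨e⟩⟩ | ⟨h23, -⟩
  · exact CfsgLib.SylowTwoElem.sqComm_psl.congr e.symm
  · exact (CfsgLib.SylowTwoElem.sqComm_psp m).congr e.symm
  · exact (CfsgLib.SylowTwoElem.sqComm_psu hF).congr e.symm
  · exact absurd (FiniteField.even_card_of_char_two (ringChar.eq F 2))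
      (by rw [Nat.odd_iff] at hodd; omega)
  · exact (CfsgLib.SylowTwoElem.sqComm_plus hm).congr e.symm
  · exact (CfsgLib.SylowTwoElem.sqComm_minus hm hab).congr e.symm
  · exact (CfsgLib.SylowTwoElem.sqComm_cert CfsgLib.Chev.certG2 (by simp)).congr e.symm
  · exact (CfsgLib.SylowTwoElem.sqComm_cert CfsgLib.Chev.certF4 (by simp)).congr e.symm
  · exact (CfsgLib.SylowTwoElem.sqComm_cert CfsgLib.Chev.certE6 (by simp)).congr e.symm
  · exact (CfsgLib.SylowTwoElem.sqComm_cert CfsgLib.Chev.certE7 (by simp)).congr e.symm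
  · exact (CfsgLib.SylowTwoElem.sqComm_cert CfsgLib.Chev.certE8 (by simp)).congr e.symm
  · exact (CfsgLib.SylowTwoElem.sqComm_twistedE6 hK hq).congr e.symm
  · exact (CfsgLib.SylowTwoElem.sqComm_twistedD4 hK hq).congr e.symm
  · exact (CfsgLib.SylowTwoElem.sqComm_lieSuzuki hm hF).congr e.symm
  · exact (CfsgLib.SylowTwoElem.sqComm_twistedF4 hm hK).congr e.symm
  · omega

end Cfsg.Agent.S4625
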