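import Cfsg.Statements.S4626
import Cfsg.Agent.Lib.Blocks.Defect
import Cfsg.Agent.Lib.Char.Central

set_option autoImplicit false
open Cfsg
open scoped CfsgLib.Char

set_option autoImplicit false
open Cfsg

namespace Cfsg.Agent.S4626

/-- Let G be a finite group, p a prime, M a maximal ideal of the algebraic integers containing p, P a Sylow p-subgroup of G and N a normal subgroup of index prime to p containing the centralizer C_G(P). Then every irreducible character of G whose kernel contains N lies in the principal p-block of G. -/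
theorem result {G : Type*} [Group G] [Finite G] (p : ℕ) [Fact p.Prime] (M : Ideal Cfsg.AlgInt) (hM : Cfsg.IsPModular p M) (P : Sylow p G) (N : Subgroup G) [N.Normal] (hidx : ¬ p ∣ N.index)
    (hC : Subgroup.centralizer ((P : Subgroup G) : Set G) ≤ N) (χ : Cfsg.IrrCharacter G) (hker : ∀ n ∈ N, (χ : G → ℂ) n = (χ : G → ℂ) 1) :
    χ ∈ Cfsg.principalBlock M G := by
  classical
  have := Fintype.ofFinite G
  have := Fintype.ofFinite (G ⧸ N)
  have := CfsgLib.Blocks.isPrime_of_isPModular hM
  obtain ⟨η, hη⟩ := CfsgLib.Blocks.exists_inflate_eq_of_ker N χ hker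
  have hdeg : ¬ p ∣ charDegree (χ : G → ℂ) := by
    obtain ⟨m, hm, -, hdvd⟩ := CfsgLib.Char.exists_degree_dvd_card η.2
    intro hd
    refine hidx (hd.trans ?_)
    rw [Subgroup.index_eq_card]
    have he : charDegree (χ : G → ℂ) = m := by
      have h := (CfsgLib.Blocks.irr_degree_eq χ).1
      have h' : (χ : G → ℂ) 1 = (η : G ⧸ N → ℂ) 1 := by rw [hη]; rfl
      rw [h', hm] at h
      exact_mod_cast h.symm
    rwa [he]
  rw [CfsgLib.Blocks.mem_principalBlock_iff]
  intro g
  set C := Subgroup.centralizer ({g} : Set G)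
  set d := charDegree (χ : G → ℂ) with hd
  have hd0 : (d : ℂ) ≠ 0 := Nat.cast_ne_zero.mpr (CfsgLib.Blocks.irr_degree_eq χ).2.ne'
  by_cases hp : p ∣ C.index
  · rw [centralChar, (CfsgLib.Blocks.irr_degree_eq χ).1, ← hd,
      show (C.index : ℂ) * (χ : G → ℂ) g / (d : ℂ) - (C.index : ℂ) =
        (C.index : ℂ) * ((χ : G → ℂ) g * (d : ℂ)⁻¹ - 1) by field_simp]
    exact CfsgLib.Blocks.memLocalIdeal_mul_right
      ((CfsgLib.Blocks.memLocalIdeal_natCast_iff hM).mpr hp)
      (CfsgLib.Blocks.memLocalRing_sub (CfsgLib.Blocks.memLocalRing_mul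
        (CfsgLib.Blocks.memLocalRing_of_isIntegral (CfsgLib.Blocks.irr_isIntegral χ.2 g))
        (CfsgLib.Blocks.memLocalRing_natCast_inv hM hdeg)) CfsgLib.Blocks.memLocalRing_one)
  · obtain ⟨Q, hQ⟩ := CfsgLib.Blocks.exists_isSylowCent (p := p) g
    have hQcard : Nat.card Q = p ^ (Nat.card G).factorization p := by
      rw [hQ.2, ← C.card_mul_index, Nat.factorization_mul Nat.card_pos.ne' C.index_ne_zero_of_finite,
        Finsupp.add_apply, Nat.factorization_eq_zero_of_not_dvd hp, add_zero]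
    obtain ⟨k, hk⟩ := MulAction.exists_smul_eq G (Sylow.ofCard Q hQcard) P
    have hkg : k * g * k⁻¹ ∈ N := by
      refine hC (Subgroup.mem_centralizer_iff.mpr fun y hy => ?_)
      rw [← hk, SetLike.mem_coe, Sylow.coe_subgroup_smul] at hy
      obtain ⟨z, hz, rfl⟩ := hy
      have hzg : z * g = g * z := Subgroup.mem_centralizer_singleton_iff.mp (hQ.1 hz)
      show k * z * k⁻¹ * (k * g * k⁻¹) = k * g * k⁻¹ * (k * z * k⁻¹)
      rw [show k * z * k⁻¹ * (k * g * k⁻¹) = k * (z * g) * k⁻¹ by group, hzg]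
      group
    have hgN : g ∈ N := by
      have h := ‹N.Normal›.conj_mem _ hkg k⁻¹
      rwa [show k⁻¹ * (k * g * k⁻¹) * k⁻¹⁻¹ = g by group] at h
    rw [centralChar, hker g hgN, mul_div_assoc, div_self (CfsgLib.Char.irr_degree_ne_zero χ.2), mul_one]
    exact CfsgLib.Blocks.memLocalIdeal_sub_self _

end Cfsg.Agent.S4626
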