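import Cfsg.Statements.S4627
import Mathlib
import Cfsg.Agent.Lib.LinearPGroup.SylowTwoModels

set_option autoImplicit false
open Cfsg

namespace Cfsg.Agent.S4627

open Cfsg.Agent.BlockMonomial Cfsg.Agent.SylowTwoOrders Cfsg.Agent.SylowTwoModels
open scoped commutatorElement

variable {F : Type*} [Field F] [Fintype F]

/-- The case `q ≡ 3 (mod 4)`. -/
theorem case_three_mod {q : ℕ} (hq : Fintype.card F = q) (h4 : 4 ∣ q + 1) (m : ℕ) (hm : 1 ≤ m)
    (P : Sylow 2 (Matrix.SpecialLinearGroup (Fin (2 * m)) F)) :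
    SqComm (P : Subgroup (Matrix.SpecialLinearGroup (Fin (2 * m)) F)) := by
  classical
  haveI : Fact (Nat.Prime 2) := ⟨Nat.prime_two⟩
  obtain ⟨D, hD, -, hpm, τ, S₀, hτ, hS₀, hτd, hS₀mem⟩ := exists_GL2 (F := F) hq h4
  obtain ⟨Q⟩ : Nonempty (Sylow 2 (Equiv.Perm (Fin m))) := inferInstance
  obtain ⟨f, hf, hfdet⟩ := exists_monomial D (Q : Subgroup (Equiv.Perm (Fin m)))
  let dW : BM (Q : Subgroup (Equiv.Perm (Fin m))) D →* Fˣ := Matrix.GeneralLinearGroup.det.comp f
  let dd : D → F := fun d => ((d : GL (Fin 2) F) : Matrix (Fin 2) (Fin 2) F).det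
  have hdd : ∀ a b : D, dd (a * b) = dd a * dd b := fun a b => by simp [dd, Matrix.det_mul]
  have hdW : ∀ g, (dW g : F) = ∏ i, dd (g.left i) := hfdet
  have hne : (1 : F) ≠ -1 := fun h => by
    have hodd : Odd q := by
      obtain ⟨c, hc⟩ := h4
      exact ⟨2 * c - 1, by omega⟩
    exact CfsgLib.SL2.odd_card_two_ne_zero (F := F) (by rwa [Nat.card_eq_fintype_card, hq])
      (by rw [← one_add_one_eq_two]; linear_combination h)
  have hval : ∀ g, (dW g : F) = 1 ∨ (dW g : F) = -1 := fun g => by
    rw [hdW]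
    refine Finset.prod_induction _ (fun x => x = 1 ∨ x = -1) ?_ (Or.inl rfl) fun i _ => hpm _
    rintro _ _ (rfl | rfl) (rfl | rfl) <;> simp
  have hpm' : ∀ d, dd d = 1 ∨ dd d = -1 := hpm
  let i₀ : Fin m := ⟨0, hm⟩
  have hτW : (dW (SemidirectProduct.inl (Pi.mulSingle i₀ τ)) : F) = -1 := by
    rw [hdW, Fintype.prod_eq_single i₀]
    · simpa [dd] using hτd
    · intro i hi; simp [dd, hi]
  have hrange : Nat.card dW.range = 2 := by
    rw [Nat.card_eq_two_iff]
    refine ⟨⟨1, dW.range.one_mem⟩, ⟨dW (SemidirectProduct.inl (Pi.mulSingle i₀ τ)), ⟨_, rfl⟩⟩, ?_, ?_⟩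
    · intro h
      exact hne (by rw [← hτW, ← congrArg (fun u : dW.range => ((u : Fˣ) : F)) h]; rfl)
    · refine Set.eq_univ_of_forall ?_
      rintro ⟨_, d, rfl⟩
      rcases hval d with h | h
      · exact Or.inl (Subtype.ext (Units.ext h))
      · exact Or.inr (Subtype.ext (Units.ext (h.trans hτW.symm)))
  have hker : Nat.card dW.ker =
      2 ^ (Nat.card (Matrix.SpecialLinearGroup (Fin (2 * m)) F)).factorization 2 := by
    have h := Subgroup.card_eq_card_quotient_mul_card_subgroup dW.ker
    rw [Nat.card_congr (QuotientGroup.quotientKerEquivRange dW).toEquiv, hrange, card_BM,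
      card_sylow_perm, hD, Nat.card_fin, ← pow_mul, ← pow_add] at h
    have h1 := fact_SL (F := F) (n := 2 * m) (by omega) hq
    rw [(fact_GL_three_mod hq h4 m).1, fact_sub_one_three_mod h4, mul_comm] at h1
    rw [h1, add_comm 1, pow_succ] at h
    omega
  -- generators of the kernel
  have mk : ∀ g, (∏ i, dd (g.left i)) = 1 → g ∈ dW.ker := fun g h =>
    MonoidHom.mem_ker.mpr (Units.ext ((hdW g).trans h))
  set gens : Set dW.ker :=
    {k | ∃ i, ∃ s : S₀, (k : BM (Q : Subgroup (Equiv.Perm (Fin m))) D) = SemidirectProduct.inl (Pi.mulSingle i (s : D))} ∪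
      {k | k ^ 2 = 1}
  have hsq : SqComm dW.ker := by
    refine sqComm_of_closure (s := gens) ?_ ?_
    · have hsing : ∀ (i : Fin m) (d : D), (∏ j, dd (Pi.mulSingle (M := fun _ => D) i d j)) = dd d := fun i d => by
        rw [Fintype.prod_eq_single i fun j hj => by simp [dd, hj], Pi.mulSingle_eq_same]
      let G := (Subgroup.closure gens).map dW.ker.subtype
      have h0 : ∀ i (d : D), dd d = 1 → SemidirectProduct.inl (Pi.mulSingle i d) ∈ G := by
        intro i d hd
        exact ⟨⟨_, mk _ (by rw [SemidirectProduct.left_inl, hsing, hd])⟩,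
          Subgroup.subset_closure (Or.inl ⟨i, ⟨d, (hS₀mem d).mpr hd⟩, rfl⟩), rfl⟩
      have hinr : ∀ π : (Q : Subgroup (Equiv.Perm (Fin m))), SemidirectProduct.inr π ∈ G := by
        suffices h : ∀ x ∈ Subgroup.closure {x | x ∈ (Q : Subgroup (Equiv.Perm (Fin m))) ∧ x ^ 2 = 1},
            ∃ hx : x ∈ (Q : Subgroup (Equiv.Perm (Fin m))), SemidirectProduct.inr ⟨x, hx⟩ ∈ G by
          intro π
          obtain ⟨_, h'⟩ := h _ (sylow_gen Q π.2)
          exact h'
        intro x hx
        induction hx using Subgroup.closure_induction with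
        | mem y hy =>
          refine ⟨hy.1, ⟨_, mk _ ?_⟩, Subgroup.subset_closure (Or.inr ?_), rfl⟩
          · simp [dd]
          · refine Subtype.ext ?_
            rw [Subgroup.coe_pow]
            show SemidirectProduct.inr _ ^ 2 = 1
            rw [← map_pow, show (⟨y, hy.1⟩ : (Q : Subgroup (Equiv.Perm (Fin m)))) ^ 2 = 1 from
              Subtype.ext hy.2, map_one]
        | one => exact ⟨one_mem _, by
            rw [show (⟨1, one_mem _⟩ : (Q : Subgroup (Equiv.Perm (Fin m)))) = 1 from rfl, map_one]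
            exact G.one_mem⟩
        | mul a b _ _ ha hb =>
          obtain ⟨ha, ha'⟩ := ha
          obtain ⟨hb, hb'⟩ := hb
          refine ⟨mul_mem ha hb, ?_⟩
          rw [show (⟨a * b, mul_mem ha hb⟩ : (Q : Subgroup (Equiv.Perm (Fin m)))) = ⟨a, ha⟩ * ⟨b, hb⟩ from rfl,
            map_mul]
          exact G.mul_mem ha' hb'
        | inv a _ ha =>
          obtain ⟨ha, ha'⟩ := ha
          refine ⟨inv_mem ha, ?_⟩
          rw [show (⟨a⁻¹, inv_mem ha⟩ : (Q : Subgroup (Equiv.Perm (Fin m)))) = ⟨a, ha⟩⁻¹ from rfl, map_inv]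
          exact G.inv_mem ha'
      have hdiag : ∀ (N : ℕ) (a : Fin m → D), (Finset.univ.filter fun i => dd (a i) = -1).card = N →
          (∏ i, dd (a i)) = 1 → SemidirectProduct.inl a ∈ G := by
        intro N
        induction N using Nat.strong_induction_on with
        | _ N ih =>
          intro a hN hprod
          by_cases hall : ∀ i, dd (a i) = 1
          · suffices h : a ∈ G.comap SemidirectProduct.inl from h
            exact Subgroup.pi_mem_of_mulSingle_mem _ fun i => h0 i _ (hall i)
          push Not at hall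
          obtain ⟨i, hi⟩ := hall
          have hi' : dd (a i) = -1 := (hpm' _).resolve_left hi
          obtain ⟨k, hki, hk⟩ : ∃ k, k ≠ i ∧ dd (a k) = -1 := by
            by_contra hno
            push Not at hno
            have h1 := Fintype.prod_eq_single (f := fun l => dd (a l)) i fun k hk => (hpm' _).resolve_right (hno k hk)
            exact hne ((hprod.symm.trans h1).trans hi')
          let t : Fin m → D := Pi.mulSingle i τ * Pi.mulSingle k τ
          have htv : ∀ l, dd (t l) = if l = i ∨ l = k then -1 else 1 := by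
            intro l
            rcases eq_or_ne l i with rfl | hli
            · simpa [t, dd, hki, Ne.symm hki] using hτd
            · rcases eq_or_ne l k with rfl | hlk
              · simpa [t, dd, hli] using hτd
              · simp [t, dd, hli, hlk]
          have htsq : t * t = 1 := funext fun l => by
            rcases eq_or_ne l i with rfl | hli
            · simpa [t, hki, Ne.symm hki] using hτ
            · rcases eq_or_ne l k with rfl | hlk
              · simpa [t, hli] using hτ
              · simp [t, hli, hlk]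
          have htp : ∏ l, dd (t l) = 1 := by
            rw [Fintype.prod_eq_mul i k (Ne.symm hki) fun l hl => by rw [htv, if_neg (by tauto)],
              htv, htv, if_pos (Or.inl rfl), if_pos (Or.inr rfl), neg_mul_neg, one_mul]
          have htG : SemidirectProduct.inl t ∈ G :=
            ⟨⟨SemidirectProduct.inl t, mk _ htp⟩, Subgroup.subset_closure (Or.inr
              (Subtype.ext (by rw [Subgroup.coe_pow]; show SemidirectProduct.inl t ^ 2 = 1
                               rw [sq, ← map_mul, htsq, map_one]))), rfl⟩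
          have h := ih _ ?_ (t * a) rfl (by
            simp only [Pi.mul_apply, hdd, Finset.prod_mul_distrib, htp, hprod, one_mul])
          · rw [map_mul] at h
            exact (G.mul_mem_cancel_left htG).mp h
          · rw [← hN]
            refine Finset.card_lt_card (Finset.ssubset_iff_of_subset ?_ |>.mpr ⟨i, by simp [hi'], ?_⟩)
            · intro l hl
              simp only [Finset.mem_filter, Finset.mem_univ, true_and, Pi.mul_apply, hdd, htv] at hl ⊢
              split_ifs at hl with h
              · rcases h with rfl | rfl <;> assumption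
              · simpa using hl
            · simp only [Finset.mem_filter, Finset.mem_univ, true_and, Pi.mul_apply, hdd, htv, true_or,
                ↓reduceIte, hi', neg_mul_neg, one_mul]
              exact hne
      rw [eq_top_iff]
      intro g _
      have hg : (g : BM (Q : Subgroup (Equiv.Perm (Fin m))) D) ∈ G := by
        rw [← SemidirectProduct.inl_left_mul_inr_right
          (g : BM (Q : Subgroup (Equiv.Perm (Fin m))) D)]
        refine G.mul_mem (hdiag _ _ rfl ?_) (hinr _)
        rw [← hdW, show dW g = 1 from g.2, Units.val_one]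
      obtain ⟨g', hg', e⟩ := hg
      rwa [← Subtype.ext e]
    · rintro k (⟨i, s, hk⟩ | hk)
      · let φ : S₀ →* dW.ker :=
          (((SemidirectProduct.inl).comp (MonoidHom.mulSingle (fun _ : Fin m => D) i)).comp S₀.subtype).codRestrict _
            fun s => mk _ (by
              show ∏ j, dd (Pi.mulSingle (M := fun _ => D) i (s : D) j) = 1
              rw [Fintype.prod_eq_single i fun j hj => by simp [dd, hj], Pi.mulSingle_eq_same]
              exact (hS₀mem _).mp s.2)
        rw [show k = φ s from Subtype.ext hk, ← map_pow]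
        exact map_mem_commutator φ (hS₀ s)
      · rw [show k ^ 2 = 1 from hk]
        exact Subgroup.one_mem _
  have hlift : ∀ k : dW.ker, f k ∈
      (Matrix.SpecialLinearGroup.toGL : Matrix.SpecialLinearGroup (Fin (2 * m)) F →* GL (Fin (2 * m)) F).range := by
    intro k
    rw [CfsgLib.Classical.range_toGL_eq_ker_det]
    exact k.2
  choose g hg using hlift
  have hinj := CfsgLib.Classical.toGL_injective' (ι := Fin (2 * m)) (F := F)
  obtain ⟨iso⟩ := CfsgLib.Classical.SylowLargePrime.sylow_iso
    (MonoidHom.mk' g fun a b => hinj (by rw [hg, map_mul, hg, hg, Subgroup.coe_mul, map_mul]))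
    (fun a b h => Subtype.ext (hf (by rw [← hg a, ← hg b]; exact congrArg _ h))) hker P
  exact sqComm_congr iso.symm hsq

/-- The case `q ≡ 1 (mod 4)`, degree a power of two. -/
theorem case_one_mod {q : ℕ} (hq : Fintype.card F = q) (hodd : Odd q) (h4 : 4 ∣ q - 1) (j : ℕ)
    (P : Sylow 2 (Matrix.SpecialLinearGroup (Fin (2 * 2 ^ j)) F)) :
    SqComm (P : Subgroup (Matrix.SpecialLinearGroup (Fin (2 * 2 ^ j)) F)) := by
  classical
  haveI : Fact (Nat.Prime 2) := ⟨Nat.prime_two⟩
  have hq2 : 2 ≤ q := hq ▸ Fintype.one_lt_card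
  have hne : (1 : F) ≠ -1 := fun h =>
    CfsgLib.SL2.odd_card_two_ne_zero (F := F) (by rwa [Nat.card_eq_fintype_card, hq])
      (by rw [← one_add_one_eq_two]; linear_combination h)
  -- the 2-part of the multiplicative group
  obtain ⟨C⟩ : Nonempty (Sylow 2 Fˣ) := inferInstance
  have hC : Nat.card (C : Subgroup Fˣ) = 2 ^ (q - 1).factorization 2 := by
    rw [C.card_eq_multiplicity, Nat.card_units, Nat.card_eq_fintype_card, hq]
  have ha2 : 2 ≤ (q - 1).factorization 2 :=
    (Nat.prime_two.pow_dvd_iff_le_factorization (by omega)).mp h4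
  obtain ⟨cy, hcy⟩ := CfsgLib.Classical.SylowLargePrime.exists_cyclic_hom (G := (C : Subgroup Fˣ)) (N := 4)
    (by rw [hC, show (4 : ℕ) = 2 ^ 2 by norm_num]; exact Nat.pow_dvd_pow 2 ha2)
  set c : (C : Subgroup Fˣ) := cy (Multiplicative.ofAdd 1)
  set η : (C : Subgroup Fˣ) := c ^ 2
  have hη : ((η : Fˣ) : F) = -1 := by
    have hc4 : orderOf c = 4 := by
      rw [orderOf_injective cy hcy, orderOf_ofAdd_eq_addOrderOf, ZMod.addOrderOf_one]
    have h1 : η ^ 2 = 1 := by rw [← pow_mul, show 2 * 2 = orderOf c by omega, pow_orderOf_eq_one]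
    have h2 : η ≠ 1 := pow_ne_one_of_lt_orderOf two_ne_zero (by omega)
    have h3 : ((η : Fˣ) : F) ^ 2 = 1 := by
      rw [← Units.val_pow_eq_pow_val, ← Subgroup.coe_pow, h1]; rfl
    exact (sq_eq_one_iff.mp h3).resolve_left fun h => h2 (Subtype.ext (Units.ext h))
  have hη2 : η * η = 1 := Subtype.ext (Units.ext (by
    rw [Subgroup.coe_mul, Units.val_mul, hη, neg_mul_neg, one_mul]; rfl))
  -- translations
  let ι := Fin (j + 1) → ZMod 2
  let tr : Multiplicative ι →* Equiv.Perm ι :=
    MonoidHom.mk' (fun v => Equiv.addRight (Multiplicative.toAdd v)) fun v w => by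
      ext x
      simp [toAdd_mul, add_assoc, add_comm (Multiplicative.toAdd v)]
  have htr2 : IsPGroup 2 (Multiplicative ι) := IsPGroup.of_card (n := j + 1) (by simp [ι])
  obtain ⟨Q, hQ⟩ := (htr2.of_surjective tr.rangeRestrict tr.rangeRestrict_surjective).exists_le_sylow
  let T : ι → (Q : Subgroup (Equiv.Perm ι)) := fun v => ⟨Equiv.addRight v, hQ ⟨Multiplicative.ofAdd v, rfl⟩⟩
  let ρ : (C : Subgroup Fˣ) →* Matrix Unit Unit F :=
    (Matrix.scalar Unit).toMonoidHom.comp ((Units.coeHom F).comp (C : Subgroup Fˣ).subtype)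
  have hρ : Function.Injective ρ := fun x y h =>
    Subtype.ext (Units.ext (by simpa [ρ] using congrFun (congrFun h ()) ()))
  let e : Unit × ι ≃ Fin (2 * 2 ^ j) := Fintype.equivFinOfCardEq (by simp [ι, pow_succ, mul_comm])
  let f : (BM (Q : Subgroup (Equiv.Perm ι)) (C : Subgroup Fˣ)) →* GL (Fin (2 * 2 ^ j)) F :=
    ((Matrix.reindexAlgEquiv F F e).toMulEquiv.toMonoidHom.comp
      (rep (P := (Q : Subgroup (Equiv.Perm ι))) ρ)).toHomUnits
  have hf : Function.Injective f := fun x y h =>
    rep_injective hρ ((Matrix.reindexAlgEquiv F F e).injective (congrArg Units.val h))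
  let dW : (BM (Q : Subgroup (Equiv.Perm ι)) (C : Subgroup Fˣ)) →* Fˣ := Matrix.GeneralLinearGroup.det.comp f
  let sg : ↥(Q : Subgroup (Equiv.Perm ι)) → (C : Subgroup Fˣ) := fun π =>
    if Equiv.Perm.sign (π : Equiv.Perm ι) = 1 then 1 else η
  have hdW : ∀ g : (BM (Q : Subgroup (Equiv.Perm ι)) (C : Subgroup Fˣ)), dW g = ((∏ i, g.left i) * sg g.right : (C : Subgroup Fˣ)) := by
    intro g
    refine Units.ext ?_
    show (Matrix.reindexAlgEquiv F F e (rep ρ g)).det = _
    rw [Matrix.det_reindexAlgEquiv, rep_det, Fintype.card_unit, pow_one, Subgroup.coe_mul, Units.val_mul,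
      Subgroup.val_finsetProd, Units.coe_prod]
    congr 1
    · exact Finset.prod_congr rfl fun i _ => by simp [ρ]
    · rcases Int.units_eq_one_or (Equiv.Perm.sign (g.right : Equiv.Perm ι)) with h | h <;>
        simp [sg, h, hη]
  have hrange : dW.range = (C : Subgroup Fˣ) := by
    refine le_antisymm ?_ fun x hx => ⟨SemidirectProduct.inl (Pi.mulSingle 0 ⟨x, hx⟩), ?_⟩
    · rintro _ ⟨g, rfl⟩
      rw [hdW]
      exact SetLike.coe_mem _
    · rw [hdW, Fintype.prod_eq_single (0 : ι) fun i hi => by simp [hi]]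
      simp [sg]
  have hker : Nat.card dW.ker =
      2 ^ (Nat.card (Matrix.SpecialLinearGroup (Fin (2 * 2 ^ j)) F)).factorization 2 := by
    have hι : Nat.card ι = 2 * 2 ^ j := by simp [ι, pow_succ, mul_comm]
    have h := Subgroup.card_eq_card_quotient_mul_card_subgroup dW.ker
    rw [Nat.card_congr (QuotientGroup.quotientKerEquivRange dW).toEquiv, hrange, hC, card_BM,
      card_sylow_perm, hC, hι, ← pow_mul, ← pow_add, mul_comm ((q - 1).factorization 2)] at h
    have h1 := fact_SL (F := F) (n := 2 * 2 ^ j) (Nat.mul_pos two_pos (pow_pos two_pos j)) hq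
    rw [fact_GL_one_mod hq hodd h4] at h1
    rw [h1, pow_add] at h
    exact (Nat.eq_of_mul_eq_mul_left (pow_pos two_pos _) h).symm
  have mk : ∀ g : (BM (Q : Subgroup (Equiv.Perm ι)) (C : Subgroup Fˣ)), (∏ i, g.left i) * sg g.right = 1 → g ∈ dW.ker := fun g h =>
    MonoidHom.mem_ker.mpr (by rw [hdW, h]; rfl)
  have hsg1 : sg 1 = 1 := by simp [sg]
  let u : ι → ι → ↥(C : Subgroup Fˣ) → dW.ker := fun i l d =>
    ⟨SemidirectProduct.inl (Pi.mulSingle i d * Pi.mulSingle l d⁻¹), mk _ (by
      rw [SemidirectProduct.left_inl, SemidirectProduct.right_inl, hsg1, mul_one]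
      simp only [Pi.mul_apply, Finset.prod_mul_distrib, Finset.prod_pi_mulSingle', Finset.mem_univ,
        ↓reduceIte, mul_inv_cancel])⟩
  let lift : ↥(Q : Subgroup (Equiv.Perm ι)) → dW.ker := fun π =>
    ⟨⟨Pi.mulSingle 0 (sg π)⁻¹, π⟩, mk _ (by
      simp only [Finset.prod_pi_mulSingle', Finset.mem_univ, ↓reduceIte, inv_mul_cancel])⟩
  have hu2 : ∀ i l d, u i l d * u i l d ∈ commutator dW.ker := by
    intro i l d
    have hconj : lift (T (l - i)) * u i l d * (lift (T (l - i)))⁻¹ = (u i l d)⁻¹ := by
      rw [mul_inv_eq_iff_eq_mul]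
      refine Subtype.ext (SemidirectProduct.ext ?_ ?_)
      · funext k
        simp only [Subgroup.coe_mul, Subgroup.coe_inv, SemidirectProduct.mul_left,
          SemidirectProduct.inv_left, u, lift, SemidirectProduct.left_inl, SemidirectProduct.right_inl,
          inv_one, map_one, MulAut.one_apply, Pi.mul_apply, Pi.inv_apply]
        rw [show ∀ a : ι → (C : Subgroup Fˣ), act (Q : Subgroup (Equiv.Perm ι)) (C : Subgroup Fˣ) (T (l - i)) a k =
          a (k - (l - i)) from fun a => congrArg a (sub_eq_add_neg k (l - i)).symm]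
        rw [mul_comm (Pi.mulSingle (M := fun _ : ι => (C : Subgroup Fˣ)) 0 (sg (T (l - i)))⁻¹ k)]
        congr 1
        have e1 : ∀ x : ι, x + x = 0 := fun x => funext fun t => CharTwo.add_self_eq_zero _
        have e2 : ∀ x y : ι, x - y = x + y := fun x y => by
          rw [sub_eq_add_neg, neg_eq_of_add_eq_zero_left (e1 y)]
        have k1 : k - (l - i) = i ↔ k = l := by
          rw [sub_eq_iff_eq_add, add_sub_cancel]
        have k2 : k - (l - i) = l ↔ k = i := by
          rw [sub_eq_iff_eq_add, e2 l i, ← add_assoc, e1, zero_add]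
        simp only [Pi.mul_apply, Pi.mulSingle_apply, k1, k2]
        split_ifs <;> simp
      · simp [u, lift]
    have hc : ⁅lift (T (l - i)), u i l d⁆ = (u i l d * u i l d)⁻¹ := by
      rw [commutatorElement_def, hconj, _root_.mul_inv_rev]
    rw [← inv_mem_iff, ← hc, commutator_def]
    exact Subgroup.commutator_mem_commutator (Subgroup.mem_top _) (Subgroup.mem_top _)
  let gens : Set dW.ker := {k | ∃ i l d, k = u i l d} ∪ {k | ∃ π, π ^ 2 = 1 ∧ k = lift π}
  have hsq : SqComm dW.ker := by
    refine sqComm_of_closure (s := gens) ?_ ?_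
    · rw [eq_top_iff]
      intro g _
      have hlift : ∀ x ∈ Subgroup.closure {x | x ∈ (Q : Subgroup (Equiv.Perm ι)) ∧ x ^ 2 = 1},
          ∃ k ∈ Subgroup.closure gens, ((k : (BM (Q : Subgroup (Equiv.Perm ι)) (C : Subgroup Fˣ))).right : Equiv.Perm ι) = x := by
        intro x hx
        induction hx using Subgroup.closure_induction with
        | mem y hy =>
          exact ⟨lift ⟨y, hy.1⟩, Subgroup.subset_closure (Or.inr ⟨_, Subtype.ext hy.2, rfl⟩), rfl⟩
        | one => exact ⟨1, Subgroup.one_mem _, rfl⟩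
        | mul a b _ _ ha hb =>
          obtain ⟨k, hk, rfl⟩ := ha
          obtain ⟨k', hk', rfl⟩ := hb
          exact ⟨k * k', Subgroup.mul_mem _ hk hk', rfl⟩
        | inv a _ ha =>
          obtain ⟨k, hk, rfl⟩ := ha
          exact ⟨k⁻¹, Subgroup.inv_mem _ hk, rfl⟩
      obtain ⟨k, hk, hkx⟩ := hlift _ (sylow_gen Q (g : (BM (Q : Subgroup (Equiv.Perm ι)) (C : Subgroup Fˣ))).right.2)
      set h := g * k⁻¹ with hh
      have hr : (h : (BM (Q : Subgroup (Equiv.Perm ι)) (C : Subgroup Fˣ))).right = 1 := by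
        rw [hh, Subgroup.coe_mul, Subgroup.coe_inv, SemidirectProduct.mul_right, SemidirectProduct.inv_right,
          show (k : (BM (Q : Subgroup (Equiv.Perm ι)) (C : Subgroup Fˣ))).right = (g : (BM (Q : Subgroup (Equiv.Perm ι)) (C : Subgroup Fˣ))).right from Subtype.ext hkx, mul_inv_cancel]
      have hp : ∏ i, (h : (BM (Q : Subgroup (Equiv.Perm ι)) (C : Subgroup Fˣ))).left i = 1 := by
        have := hdW (h : (BM (Q : Subgroup (Equiv.Perm ι)) (C : Subgroup Fˣ)))
        rw [show dW (h : (BM (Q : Subgroup (Equiv.Perm ι)) (C : Subgroup Fˣ))) = 1 from h.2, hr, hsg1, mul_one] at this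
        exact Subtype.ext this.symm
      have hu : ∀ (i : ι) (d : (C : Subgroup Fˣ)),
          SemidirectProduct.inl (Pi.mulSingle i d * Pi.mulSingle 0 d⁻¹) ∈
            (Subgroup.closure gens).map dW.ker.subtype := fun i d =>
        ⟨u i 0 d, Subgroup.subset_closure (Or.inl ⟨i, 0, d, rfl⟩), rfl⟩
      have ha : (h : (BM (Q : Subgroup (Equiv.Perm ι)) (C : Subgroup Fˣ))) ∈ (Subgroup.closure gens).map dW.ker.subtype := by
        have e : (h : (BM (Q : Subgroup (Equiv.Perm ι)) (C : Subgroup Fˣ))) = SemidirectProduct.inl (∏ i, (Pi.mulSingle i ((h : (BM (Q : Subgroup (Equiv.Perm ι)) (C : Subgroup Fˣ))).left i) *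
            Pi.mulSingle 0 ((h : (BM (Q : Subgroup (Equiv.Perm ι)) (C : Subgroup Fˣ))).left i)⁻¹)) := by
          refine SemidirectProduct.ext ?_ (by rw [hr, SemidirectProduct.right_inl])
          rw [SemidirectProduct.left_inl, Finset.prod_mul_distrib, Finset.univ_prod_mulSingle]
          have : ∏ i, Pi.mulSingle (M := fun _ : ι => (C : Subgroup Fˣ)) (0 : ι) ((h : (BM (Q : Subgroup (Equiv.Perm ι)) (C : Subgroup Fˣ))).left i)⁻¹ = 1 := by
            refine (map_prod (MonoidHom.mulSingle (fun _ : ι => (C : Subgroup Fˣ)) 0) _ _).symm.trans ?_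
            rw [Finset.prod_inv_distrib, hp, inv_one, map_one]
          rw [this, mul_one]
        rw [e]
        suffices hm : (∏ i, (Pi.mulSingle i ((h : (BM (Q : Subgroup (Equiv.Perm ι)) (C : Subgroup Fˣ))).left i) * Pi.mulSingle 0 ((h : (BM (Q : Subgroup (Equiv.Perm ι)) (C : Subgroup Fˣ))).left i)⁻¹)) ∈
            ((Subgroup.closure gens).map dW.ker.subtype).comap SemidirectProduct.inl from hm
        exact Subgroup.prod_mem _ fun i _ => hu i _
      obtain ⟨h', hh', e'⟩ := ha
      have hmem : h ∈ Subgroup.closure gens := by rwa [← Subtype.ext e']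
      rw [show g = h * k by rw [hh, inv_mul_cancel_right]]
      exact Subgroup.mul_mem _ hmem hk
    · rintro k (⟨i, l, d, rfl⟩ | ⟨π, hπ, rfl⟩)
      · rw [sq]; exact hu2 i l d
      · set l' : ι := (π : Equiv.Perm ι)⁻¹ 0
        have hleft : ∀ d : (C : Subgroup Fˣ), d * d = 1 →
            (sg π)⁻¹ = d → ((lift π ^ 2 : dW.ker) : (BM (Q : Subgroup (Equiv.Perm ι)) (C : Subgroup Fˣ))) =
              SemidirectProduct.inl (Pi.mulSingle 0 d * Pi.mulSingle ((π : Equiv.Perm ι) 0) d) := by
          intro d _ hd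
          refine SemidirectProduct.ext ?_ ?_
          · funext k
            simp only [sq, Subgroup.coe_mul, lift, SemidirectProduct.mul_left, SemidirectProduct.left_inl,
              hd, Pi.mul_apply]
            congr 1
            simp only [act, MonoidHom.coe_mk, OneHom.coe_mk, MulEquiv.coe_mk, Equiv.coe_fn_mk,
              Pi.mulSingle_apply, Equiv.Perm.inv_eq_iff_eq]
          · rw [sq, Subgroup.coe_mul, SemidirectProduct.mul_right, SemidirectProduct.right_inl]
            exact (sq π).symm.trans hπ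
        have hone : ∀ d : (C : Subgroup Fˣ), d * d = 1 → (sg π)⁻¹ = d →
            Pi.mulSingle (M := fun _ : ι => (C : Subgroup Fˣ)) 0 d * Pi.mulSingle ((π : Equiv.Perm ι) 0) d = 1 →
            lift π ^ 2 ∈ commutator dW.ker := fun d hd2 hd h1 => by
          have : lift π ^ 2 = 1 := Subtype.ext ((hleft d hd2 hd).trans (by rw [h1, map_one]; rfl))
          rw [this]
          exact Subgroup.one_mem _
        by_cases hs : Equiv.Perm.sign (π : Equiv.Perm ι) = 1
        · exact hone 1 (one_mul 1) (by simp [sg, hs]) (by simp)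
        have hd : (sg π)⁻¹ = η := by
          simp only [sg, if_neg hs]
          exact inv_eq_of_mul_eq_one_right hη2
        by_cases hfix : (π : Equiv.Perm ι) 0 = 0
        · exact hone η hη2 hd (by rw [hfix, ← Pi.mulSingle_mul, hη2, Pi.mulSingle_one])
        · have : lift π ^ 2 = u 0 ((π : Equiv.Perm ι) 0) c * u 0 ((π : Equiv.Perm ι) 0) c := by
            refine Subtype.ext ((hleft η hη2 hd).trans ?_)
            simp only [u, Subgroup.coe_mul, ← map_mul]
            congr 1
            rw [mul_mul_mul_comm, ← Pi.mulSingle_mul, ← Pi.mulSingle_mul, ← _root_.mul_inv_rev, ← sq,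
              inv_eq_of_mul_eq_one_right hη2]
          rw [this]
          exact hu2 0 _ c
  have hlift : ∀ k : dW.ker, f k ∈
      (Matrix.SpecialLinearGroup.toGL : Matrix.SpecialLinearGroup (Fin (2 * 2 ^ j)) F →*
        GL (Fin (2 * 2 ^ j)) F).range := by
    intro k
    rw [CfsgLib.Classical.range_toGL_eq_ker_det]
    exact k.2
  choose g hg using hlift
  have hinj := CfsgLib.Classical.toGL_injective' (ι := Fin (2 * 2 ^ j)) (F := F)
  obtain ⟨iso⟩ := CfsgLib.Classical.SylowLargePrime.sylow_iso
    (MonoidHom.mk' g fun a b => hinj (by rw [hg, map_mul, hg, hg, Subgroup.coe_mul, map_mul]))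
    (fun a b h => Subtype.ext (hf (by rw [← hg a, ← hg b]; exact congrArg _ h))) hker P
  exact sqComm_congr iso.symm hsq

/-- Let F be a finite field of odd order q and m ≥ 1. If 4 divides q + 1, or if 4 divides q − 1 and m is a power of 2, then a Sylow 2-subgroup P of SL_{2m}(F) has P/P' elementary abelian: the square of every element of P lies in the derived subgroup of P. -/
theorem result {F : Type*} [Field F] [Fintype F] (hF : Odd (Fintype.card F)) (m : ℕ) (hm : 1 ≤ m)
    (hq : 4 ∣ Fintype.card F + 1 ∨ (4 ∣ Fintype.card F - 1 ∧ ∃ j : ℕ, m = 2 ^ j)) (P : Sylow 2 (Matrix.SpecialLinearGroup (Fin (2 * m)) F)) :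
    ∀ x : (P : Subgroup (Matrix.SpecialLinearGroup (Fin (2 * m)) F)), x ^ 2 ∈ commutator (P : Subgroup (Matrix.SpecialLinearGroup (Fin (2 * m)) F)) := by
  rcases hq with h | ⟨h, j, rfl⟩
  · exact case_three_mod rfl h m hm P
  · exact case_one_mod rfl hF h j P

end Cfsg.Agent.S4627
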