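import Cfsg.Statements.S4628
import Mathlib
import Cfsg.Agent.Lib.LinearPGroup.SylowTwoModels

set_option autoImplicit false
open Cfsg

namespace Cfsg.Agent.S4628

/-- Let F be a finite field of odd order q with 4 dividing q + 1, and m ≥ 1. Then a Sylow 2-subgroup P of SL_{2m+1}(F) has P/P' elementary abelian: the square of every element of P lies in the derived subgroup of P. -/
theorem result {F : Type*} [Field F] [Fintype F] (hF : Odd (Fintype.card F)) (hq : 4 ∣ Fintype.card F + 1) (m : ℕ) (hm : 1 ≤ m) (P : Sylow 2 (Matrix.SpecialLinearGroup (Fin (2 * m + 1)) F)) :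
    ∀ x : (P : Subgroup (Matrix.SpecialLinearGroup (Fin (2 * m + 1)) F)), x ^ 2 ∈ commutator (P : Subgroup (Matrix.SpecialLinearGroup (Fin (2 * m + 1)) F)) := by
  classical
  haveI : Fact (Nat.Prime 2) := ⟨Nat.prime_two⟩
  obtain ⟨D, hD, hDsq, -, -⟩ := Cfsg.Agent.SylowTwoModels.exists_GL2 (F := F) rfl hq
  obtain ⟨Q⟩ : Nonempty (Sylow 2 (Equiv.Perm (Fin m))) := inferInstance
  have hW := Cfsg.Agent.BlockMonomial.sqComm_BM (P := (Q : Subgroup (Equiv.Perm (Fin m))))
    (Cfsg.Agent.BlockMonomial.sylow_gen Q) hDsq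
  obtain ⟨f, hf, -⟩ := Cfsg.Agent.SylowTwoModels.exists_monomial D (Q : Subgroup (Equiv.Perm (Fin m)))
  let E : Fin (2 * m) ⊕ Fin 1 ≃ Fin (2 * m + 1) := finSumFinEquiv
  let g : GL (Fin (2 * m)) F →* Matrix (Fin (2 * m) ⊕ Fin 1) (Fin (2 * m) ⊕ Fin 1) F :=
    { toFun := fun A => Matrix.fromBlocks (A : Matrix (Fin (2 * m)) (Fin (2 * m)) F) 0 0
        (((A : Matrix (Fin (2 * m)) (Fin (2 * m)) F).det)⁻¹ • 1)
      map_one' := by simp
      map_mul' := fun A B => by
        simp [Matrix.fromBlocks_multiply, Matrix.det_mul, mul_inv, smul_smul, mul_comm] }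
  let g' : GL (Fin (2 * m)) F →* Matrix (Fin (2 * m + 1)) (Fin (2 * m + 1)) F :=
    (Matrix.reindexAlgEquiv F F E).toMulEquiv.toMonoidHom.comp g
  let h : GL (Fin (2 * m)) F →* Matrix.SpecialLinearGroup (Fin (2 * m + 1)) F :=
    { toFun := fun A => ⟨g' A, by
        show (Matrix.reindex E E (g A)).det = 1
        rw [Matrix.det_reindex_self]
        show (Matrix.fromBlocks _ 0 0 _).det = 1
        rw [Matrix.det_fromBlocks_zero₁₂, Matrix.det_smul, Matrix.det_one, Fintype.card_fin, pow_one,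
          mul_one, mul_inv_cancel₀]
        exact (Matrix.isUnit_iff_isUnit_det _).mp A.isUnit |>.ne_zero⟩
      map_one' := Subtype.ext (map_one g')
      map_mul' := fun A B => Subtype.ext (map_mul g' A B) }
  obtain ⟨iso⟩ := CfsgLib.Classical.SylowLargePrime.sylow_iso (h.comp f)
    (fun x y hxy => hf (Units.ext (Matrix.fromBlocks_inj.mp
      ((Matrix.reindex E E).injective (congrArg Subtype.val hxy))).1)) (by
    have h1 := Cfsg.Agent.SylowTwoOrders.fact_SL (F := F) (n := 2 * m + 1) (by omega) rfl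
    rw [(Cfsg.Agent.SylowTwoOrders.fact_GL_three_mod rfl hq m).2,
      Cfsg.Agent.SylowTwoOrders.fact_sub_one_three_mod hq] at h1
    have h2 : (Nat.card (Matrix.SpecialLinearGroup (Fin (2 * m + 1)) F)).factorization 2 =
        m * (1 + (Fintype.card F ^ 2 - 1).factorization 2) + m.factorial.factorization 2 := by omega
    rw [Cfsg.Agent.BlockMonomial.card_BM, Cfsg.Agent.SylowTwoOrders.card_sylow_perm, hD, Nat.card_fin,
      h2, ← pow_mul, ← pow_add, mul_comm]) P
  exact Cfsg.Agent.BlockMonomial.sqComm_congr iso.symm hW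

end Cfsg.Agent.S4628
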