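import Cfsg.Statements.S4629
import Cfsg.Agent.Lib.OrthTwo.Main
import Cfsg.Agent.Lib.OrthTwo.Arith

set_option autoImplicit false
open Cfsg

namespace Cfsg.Agent.S4629

/-- Let F be a finite field of odd order and m ≥ 3. For the commutator subgroup Ω of the isometry group of the non-singular quadratic form x₀² + Σ x_i y_i in dimension 2m + 1 over F, a Sylow 2-subgroup P of Ω has P/P' elementary abelian: the square of every element of P lies in the derived subgroup of P. -/
theorem result {F : Type*} [Field F] [Fintype F] (hF : Odd (Fintype.card F)) (m : ℕ) (hm : 3 ≤ m) (P : Sylow 2 (Cfsg.Omega F (Cfsg.quadFormOdd m F))) : ∀ x : (P : Subgroup (Cfsg.Omega F (Cfsg.quadFormOdd m F))), x ^ 2 ∈ commutator (P : Subgroup (Cfsg.Omega F (Cfsg.quadFormOdd m F))) := by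
  classical
  have h2 : (2 : F) ≠ 0 := Cfsg.Agent.OrthTwo.two_ne_zero_of_odd hF
  obtain ⟨Q, hQ, hB⟩ := CfsgLib.Orth.exists_quadForm_odd h2 m
  let e : Unit ⊕ (Fin m ⊕ Fin m) → (Unit ⊕ (Fin m ⊕ Fin m) → F) :=
    Sum.elim (fun _ => Pi.single (.inl ()) 1)
      (Sum.elim (fun i => Pi.single (.inr (.inl i)) 1 + Pi.single (.inr (.inr i)) 1)
        (fun i => Pi.single (.inr (.inl i)) 1 + Pi.single (.inr (.inr i)) (-1)))
  have hval : ∀ x, ⇑Q (e x) = Sum.elim (fun _ => (1 : F)) (Sum.elim 1 fun _ => -1) x := by
    rw [hQ]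
    rintro (x | x | x) <;> simp [e, Cfsg.quadFormOdd, Pi.single_apply]
  have h := Cfsg.Agent.OrthTwo.sqComm_of_frame (k := m) (r := 1) h2 hB (by omega)
    (w := fun _ => (-1 : F) ^ m) (fun _ => pow_ne_zero _ (neg_ne_zero.2 one_ne_zero)) e
    (fun x => by rw [hval]; rcases x with x | x | x <;> simp) (by
      rw [hQ]
      rintro (i | i | i) (j | j | j) hij
      · exact absurd rfl hij
      · simp [e, CfsgLib.Orth.polar_odd, Pi.single_apply, Finset.sum_add_distrib]
      · simp [e, CfsgLib.Orth.polar_odd, Pi.single_apply, Finset.sum_add_distrib]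
      · simp [e, CfsgLib.Orth.polar_odd, Pi.single_apply, Finset.sum_add_distrib]
      · have : i ≠ j := fun h => hij (by rw [h])
        simp [e, CfsgLib.Orth.polar_odd, Pi.single_apply, Finset.sum_add_distrib, this, Ne.symm this]
      · by_cases h : i = j <;>
          simp [e, CfsgLib.Orth.polar_odd, Pi.single_apply, Finset.sum_add_distrib, h, Ne.symm, eq_comm]
      · simp [e, CfsgLib.Orth.polar_odd, Pi.single_apply, Finset.sum_add_distrib]
      · by_cases h : i = j <;>
          simp [e, CfsgLib.Orth.polar_odd, Pi.single_apply, Finset.sum_add_distrib, h, Ne.symm, eq_comm]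
      · have : i ≠ j := fun h => hij (by rw [h])
        simp [e, CfsgLib.Orth.polar_odd, Pi.single_apply, Finset.sum_add_distrib, this, Ne.symm this])
    (by simp; omega)
    (by simp only [hval, Fintype.prod_sum_type]; simp)
    (by
      have hq : 1 < Nat.card F := Finite.one_lt_card
      rw [CfsgLib.Orth.card_orth_odd h2 m hQ hB]
      have hp : ∏ i ∈ Finset.range m, (Nat.card F ^ (2 * (i + 1)) - 1) ≠ 0 :=
        Finset.prod_ne_zero_iff.2 fun i _ => by
          have : 1 < Nat.card F ^ (2 * (i + 1)) := Nat.one_lt_pow (by omega) hq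
          omega
      rw [Nat.factorization_mul (by positivity) hp, Finsupp.add_apply,
        Nat.factorization_mul two_ne_zero (by positivity), Finsupp.add_apply,
        Cfsg.Agent.OrthTwo.fact_prod_even hq (Cfsg.Agent.OrthTwo.odd_natCard h2),
        Nat.factorization_pow, Finsupp.smul_apply,
        Nat.factorization_eq_zero_of_not_dvd (fun h => Nat.not_even_iff_odd.2
          (Cfsg.Agent.OrthTwo.odd_natCard h2) (even_iff_two_dvd.2 h)),
        Nat.Prime.factorization_self Nat.prime_two]
      simp; omega)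
  rw [hQ] at h
  exact h P

end Cfsg.Agent.S4629
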