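import Cfsg.Statements.S4630
import Cfsg.Agent.Lib.OrthTwo.Main
import Cfsg.Agent.Lib.OrthTwo.Arith

set_option autoImplicit false
open Cfsg

namespace Cfsg.Agent.S4630

/-- Let F be a finite field of odd order and m ≥ 1 with m even or m ≥ 4. For the commutator subgroup Ω of the isometry group of the plus-type quadratic form Σ_{i<m} x_i y_i in dimension 2m over F, a Sylow 2-subgroup P of Ω has P/P' elementary abelian: the square of every element of P lies in the derived subgroup of P. -/
theorem result {F : Type*} [Field F] [Fintype F] (hF : Odd (Fintype.card F)) (m : ℕ) (hm : 1 ≤ m) (hm' : Even m ∨ 4 ≤ m) (P : Sylow 2 (Cfsg.Omega F (Cfsg.quadFormPlus m F))) : ∀ x : (P : Subgroup (Cfsg.Omega F (Cfsg.quadFormPlus m F))), x ^ 2 ∈ commutator (P : Subgroup (Cfsg.Omega F (Cfsg.quadFormPlus m F))) := by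
  classical
  have h2 : (2 : F) ≠ 0 := Cfsg.Agent.OrthTwo.two_ne_zero_of_odd hF
  obtain ⟨Q, hQ, hB⟩ := CfsgLib.Orth.exists_quadForm_plus (F := F) m
  obtain ⟨e, he, ho, hp⟩ := CfsgLib.Orth.frame_plus h2 m hQ
  have hq : 1 < Nat.card F := Finite.one_lt_card
  have hodd := Cfsg.Agent.OrthTwo.odd_natCard (F := F) h2
  have hm2 : 2 ≤ m := by
    rcases hm' with ⟨c, hc⟩ | h <;> omega
  have hV : (Nat.card (CfsgLib.Orth.Grp Q)).factorization 2 = 1 + (Nat.card F ^ m - 1).factorization 2 +
      ((m - 1) * (Nat.card F ^ 2 - 1).factorization 2 + (m - 1).factorial.factorization 2) := by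
    have hpr : ∏ i ∈ Finset.range (m - 1), (Nat.card F ^ (2 * (i + 1)) - 1) ≠ 0 :=
      Finset.prod_ne_zero_iff.2 fun i _ => by
        have : 1 < Nat.card F ^ (2 * (i + 1)) := Nat.one_lt_pow (by omega) hq
        omega
    have h1 : 1 < Nat.card F ^ m := Nat.one_lt_pow (by omega) hq
    rw [CfsgLib.Orth.card_orth_plus m hm hQ hB, Nat.factorization_mul (mul_ne_zero (by positivity) (by omega)) hpr,
      Finsupp.add_apply, Nat.factorization_mul (by positivity) (by omega), Finsupp.add_apply,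
      Nat.factorization_mul two_ne_zero (by positivity), Finsupp.add_apply,
      Cfsg.Agent.OrthTwo.fact_prod_even hq hodd, Nat.factorization_pow, Finsupp.smul_apply,
      Nat.factorization_eq_zero_of_not_dvd (fun h => Nat.not_even_iff_odd.2 hodd (even_iff_two_dvd.2 h)),
      Nat.Prime.factorization_self Nat.prime_two]
    simp
  have hf := Cfsg.Agent.OrthTwo.fact_factorial_succ (m := m) hm
  obtain ⟨n, rfl⟩ : ∃ n, m = n + 1 := ⟨m - 1, by omega⟩
  simp only [Nat.add_sub_cancel] at hV hf
  by_cases hs : IsSquare ((-1 : F) ^ (n + 1))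
  · obtain ⟨h4, h4'⟩ := (Cfsg.Agent.OrthTwo.fact_pm hq hodd (m := n + 1) hm).1
      ((Cfsg.Agent.OrthTwo.isSquare_neg_one_pow h2 _).1 hs)
    have h := Cfsg.Agent.OrthTwo.sqComm_of_frame (k := n + 1) (r := 0) h2 hB (by omega)
      (w := fun i => i.elim0) (fun i => i.elim0) e he ho (by simp; omega) (by simpa [hp] using hs)
      (by rw [hV, add_mul, one_mul]; omega)
    rw [hQ] at h
    exact h P
  · obtain ⟨h4, h4'⟩ := (Cfsg.Agent.OrthTwo.fact_pm hq hodd (m := n + 1) hm).2
      (fun h => hs ((Cfsg.Agent.OrthTwo.isSquare_neg_one_pow h2 _).2 h))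
    have hn : 2 ≤ n := by
      rcases hm' with he' | h
      · exact absurd (by rw [he'.neg_one_pow]; exact IsSquare.one) hs
      · omega
    have h := Cfsg.Agent.OrthTwo.sqComm_of_frame (k := n) (r := 2) h2 hB hn
      (w := ![(1 : F), (-1) ^ (n + 1)]) (fun i => by fin_cases i <;> simp) e he ho (by simp; omega)
      (by rw [hp]; exact ⟨(-1) ^ (n + 1), by simp [Fin.prod_univ_two]⟩)
      (by rw [hV]; omega)
    rw [hQ] at h
    exact h P

end Cfsg.Agent.S4630
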