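import Cfsg.Statements.S4631
import Cfsg.Agent.Lib.OrthTwo.Main
import Cfsg.Agent.Lib.OrthTwo.Arith

set_option autoImplicit false
open Cfsg

namespace Cfsg.Agent.S4631

/-- Let F be a finite field of odd order, m ≥ 4, and a, b ∈ F with z₁² + a z₁ z₂ + b z₂² anisotropic. For the commutator subgroup Ω of the isometry group of the minus-type quadratic form Σ_{i<m−1} x_i y_i + (z₁² + a z₁ z₂ + b z₂²) in dimension 2m over F, a Sylow 2-subgroup P of Ω has P/P' elementary abelian: the square of every element of P lies in the derived subgroup of P. -/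
theorem result {F : Type*} [Field F] [Fintype F] (hF : Odd (Fintype.card F)) (m : ℕ) (hm : 4 ≤ m) (a b : F) (hab : ∀ z₁ z₂ : F, z₁ ^ 2 + a * z₁ * z₂ + b * z₂ ^ 2 = 0 → z₁ = 0 ∧ z₂ = 0) (P : Sylow 2 (Cfsg.Omega F (Cfsg.quadFormMinus (m - 1) F a b))) : ∀ x : (P : Subgroup (Cfsg.Omega F (Cfsg.quadFormMinus (m - 1) F a b))), x ^ 2 ∈ commutator (P : Subgroup (Cfsg.Omega F (Cfsg.quadFormMinus (m - 1) F a b))) := by
  classical
  have h2 : (2 : F) ≠ 0 := Cfsg.Agent.OrthTwo.two_ne_zero_of_odd hF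
  obtain ⟨Q, hQ, hB⟩ := CfsgLib.Orth.exists_quadForm_minus (m - 1) hab
  obtain ⟨e, he, ho, hp⟩ := CfsgLib.Orth.frame_minus h2 (m - 1) hab hQ
  have hq : 1 < Nat.card F := Finite.one_lt_card
  have hodd := Cfsg.Agent.OrthTwo.odd_natCard (F := F) h2
  have hV : (Nat.card (CfsgLib.Orth.Grp Q)).factorization 2 = 1 + (Nat.card F ^ m + 1).factorization 2 +
      ((m - 1) * (Nat.card F ^ 2 - 1).factorization 2 + (m - 1).factorial.factorization 2) := by
    have hpr : ∏ i ∈ Finset.range (m - 1), (Nat.card F ^ (2 * (i + 1)) - 1) ≠ 0 :=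
      Finset.prod_ne_zero_iff.2 fun i _ => by
        have : 1 < Nat.card F ^ (2 * (i + 1)) := Nat.one_lt_pow (by omega) hq
        omega
    rw [CfsgLib.Orth.card_orth_minus m (by omega) hab hQ hB, Nat.factorization_mul (by positivity) hpr,
      Finsupp.add_apply, Nat.factorization_mul (by positivity) (by positivity), Finsupp.add_apply,
      Nat.factorization_mul two_ne_zero (by positivity), Finsupp.add_apply,
      Cfsg.Agent.OrthTwo.fact_prod_even hq hodd, Nat.factorization_pow, Finsupp.smul_apply,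
      Nat.factorization_eq_zero_of_not_dvd (fun h => Nat.not_even_iff_odd.2 hodd (even_iff_two_dvd.2 h)),
      Nat.Prime.factorization_self Nat.prime_two]
    simp
  have hm1 : 1 ≤ m := by omega
  have hf := Cfsg.Agent.OrthTwo.fact_factorial_succ (m := m) hm1
  have hnd := Cfsg.Agent.OrthTwo.not_isSquare_disc h2 hab
  have hd0 : a ^ 2 - 4 * b ≠ 0 := fun h => hnd (h ▸ IsSquare.zero)
  have hprod : ∏ i, Q (e i) = (-1) ^ m * (a ^ 2 - 4 * b) := by
    obtain ⟨n, rfl⟩ : ∃ n, m = n + 1 := ⟨m - 1, by omega⟩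
    rw [hp, pow_succ (-1 : F) n, Nat.add_sub_cancel]; ring
  by_cases hs : IsSquare ((-1 : F) ^ m)
  · obtain ⟨h4, h4'⟩ := (Cfsg.Agent.OrthTwo.fact_pm hq hodd (m := m) hm1).1
      ((Cfsg.Agent.OrthTwo.isSquare_neg_one_pow h2 _).1 hs)
    have h := Cfsg.Agent.OrthTwo.sqComm_of_frame (k := m - 1) (r := 2) h2 hB (by omega)
      (w := ![(1 : F), (-1) ^ m * (a ^ 2 - 4 * b)]) (fun i => by fin_cases i <;> simp [hd0]) e he ho
      (by simp; omega)
      (by rw [hprod]; exact ⟨(-1) ^ m * (a ^ 2 - 4 * b), by simp [Fin.prod_univ_two]⟩)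
      (by rw [hV]; omega)
    rw [hQ] at h
    exact h P
  · obtain ⟨h4, h4'⟩ := (Cfsg.Agent.OrthTwo.fact_pm hq hodd (m := m) hm1).2
      (fun h => hs ((Cfsg.Agent.OrthTwo.isSquare_neg_one_pow h2 _).2 h))
    have hpow : (-1 : F) ^ m ≠ 0 := pow_ne_zero _ (neg_ne_zero.2 one_ne_zero)
    have h := Cfsg.Agent.OrthTwo.sqComm_of_frame (k := m) (r := 0) h2 hB (by omega)
      (w := fun i => i.elim0) (fun i => i.elim0) e he ho (by simp; omega)
      (by
        rw [hprod, Finset.univ_eq_empty, Finset.prod_empty, mul_one,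
          CfsgLib.Orth.isSquare_mul_iff hpow]
        exact Or.inr (iff_of_false hs hnd))
      (by
        obtain ⟨n, rfl⟩ : ∃ n, m = n + 1 := ⟨m - 1, by omega⟩
        simp only [Nat.add_sub_cancel] at hV hf
        rw [hV, add_mul, one_mul]; omega)
    rw [hQ] at h
    exact h P

end Cfsg.Agent.S4631
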