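import Cfsg.Statements.S4633
import Cfsg.Agent.S4437
import Cfsg.Agent.Lib.Char.CyclicTI
import Cfsg.Agent.Lib.Blocks.CoreKernel
import Cfsg.Agent.Lib.Blocks.BlockSaturation
-- import your own Cfsg.Agent.* helpers here

set_option autoImplicit false
open Cfsg

namespace Cfsg.Agent.S4633

open Cfsg
open CfsgLib CfsgLib.Blocks
open scoped CfsgLib.Char

theorem conj_pow_of_conj {G : Type*} [Group G] {g a : G} {k : ℤ} (h : g * a * g⁻¹ = a ^ k) :
    ∀ j : ℕ, g ^ j * a * (g ^ j)⁻¹ = a ^ k ^ j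
  | 0 => by simp
  | j + 1 => by
    calc g ^ (j + 1) * a * (g ^ (j + 1))⁻¹ = g * (g ^ j * a * (g ^ j)⁻¹) * g⁻¹ := by
          rw [pow_succ']; group
      _ = g * a ^ k ^ j * g⁻¹ := by rw [conj_pow_of_conj h j]
      _ = (g * a * g⁻¹) ^ k ^ j := conj_zpow.symm
      _ = a ^ k ^ (j + 1) := by rw [h, ← zpow_mul, pow_succ']

/-- A power prime to `p` in `C(P)` and a fixed point force centralizing a cyclic `p`-group. -/
theorem mem_centralizer_of_fixed {G : Type*} [Group G] [Finite G] {p : ℕ} [Fact p.Prime]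
    {P : Subgroup G} [IsCyclic P] (hPp : IsPGroup p P) {g : G}
    (hg : g ∈ Subgroup.normalizer (P : Set G)) {m : ℕ} (hm : ¬ p ∣ m)
    (hgm : g ^ m ∈ Subgroup.centralizer (P : Set G)) {x : G} (hx : x ∈ P) (hx1 : x ≠ 1)
    (hfix : g * x * g⁻¹ = x) : g ∈ Subgroup.centralizer (P : Set G) := by
  obtain ⟨a, ha⟩ := IsCyclic.exists_generator (α := P)
  obtain ⟨n, hn⟩ := IsPGroup.iff_orderOf.mp hPp a
  rw [← Subgroup.orderOf_coe] at hn
  have hgen : ∀ y ∈ P, ∃ k : ℤ, (a : G) ^ k = y := fun y hy => by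
    obtain ⟨k, hk⟩ := Subgroup.mem_zpowers_iff.mp (ha ⟨y, hy⟩)
    exact ⟨k, congrArg Subtype.val hk⟩
  obtain ⟨k, hk⟩ := hgen _ ((Subgroup.mem_normalizer_iff.mp hg a).mp a.2)
  obtain ⟨i, hi⟩ := hgen x hx
  have hkp : (p : ℤ) ∣ k - 1 := by
    rw [← hi] at hfix hx1
    rw [← conj_zpow, ← hk, ← zpow_mul] at hfix
    have hd : ((p : ℤ) ^ n) ∣ (k - 1) * i := by
      rw [← Nat.cast_pow, ← hn, orderOf_dvd_iff_zpow_eq_one, sub_mul, one_mul, zpow_sub, hfix,
        mul_inv_cancel]
    have hi' : ¬ ((p : ℤ) ^ n) ∣ i := by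
      rw [← Nat.cast_pow, ← hn, orderOf_dvd_iff_zpow_eq_one]
      exact hx1
    by_contra hndvd
    refine hi' (IsCoprime.dvd_of_dvd_mul_left ?_ hd)
    exact ((Nat.prime_iff_prime_int.mp (Fact.out : p.Prime)).coprime_iff_not_dvd.mpr hndvd).pow_left
  have hpn : (a : G) ^ k ^ p ^ n = a := by
    have h := dvd_sub_pow_of_dvd_sub hkp n
    rw [one_pow] at h
    have h' : ((orderOf (a : G) : ℕ) : ℤ) ∣ k ^ p ^ n - 1 := by
      rw [hn, Nat.cast_pow]
      exact (pow_dvd_pow _ n.le_succ).trans h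
    rw [orderOf_dvd_iff_zpow_eq_one, zpow_sub, zpow_one] at h'
    exact mul_inv_eq_one.mp h'
  have hgp : g ^ p ^ n ∈ Subgroup.centralizer (P : Set G) := by
    intro y hy
    obtain ⟨l, rfl⟩ := hgen y hy
    have h := conj_pow_of_conj hk.symm (p ^ n)
    rw [hpn, mul_inv_eq_iff_eq_mul] at h
    exact (Commute.zpow_left (h.symm : Commute (a : G) (g ^ p ^ n)) l).eq
  obtain ⟨u, v, huv⟩ := Int.isCoprime_iff_nat_coprime.mpr
    (show Nat.Coprime (m : ℤ).natAbs ((p ^ n : ℕ) : ℤ).natAbs by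
      rw [Int.natAbs_natCast, Int.natAbs_natCast]
      exact Nat.Coprime.pow_right _ ((Fact.out : p.Prime).coprime_iff_not_dvd.mpr hm).symm)
  rw [← zpow_one g, ← huv, zpow_add, mul_comm u, mul_comm v, zpow_mul, zpow_mul, zpow_natCast,
    zpow_natCast]
  exact mul_mem (zpow_mem hgm u) (zpow_mem hgp v)


/-- Let B be a block of the finite group G relative to a maximal ideal M of the algebraic integers containing the prime p, with a nontrivial cyclic defect group P. Let c be a block of C_G(P) inducing B and T the stabilizer of c in N_G(P) (the elements of N_G(P) conjugating c to itself); T contains C_G(P). Then T/C_G(P) is cyclic of order dividing p − 1, and it acts freely on the non-identity elements of P: an element of T fixing some non-identity element of P under conjugation lies in C_G(P). -/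
theorem result {G : Type*} [Group G] [Finite G] (p : ℕ) [Fact p.Prime] (M : Ideal Cfsg.AlgInt) (hM : Cfsg.IsPModular p M) (B : Set (Cfsg.IrrCharacter G)) (hB : Cfsg.IsPBlock M B) (P : Subgroup G) (hPD : Cfsg.IsDefectGroup p M B P) (hP1 : P ≠ ⊥) (hcyc : IsCyclic P) (c : Set (Cfsg.IrrCharacter (Subgroup.centralizer (P : Set G)))) (hc : Cfsg.IsInducedBlock M (Subgroup.centralizer (P : Set G)) c B) (T : Subgroup G) (hT : ∀ g : G, g ∈ T ↔ (g ∈ Subgroup.normalizer (P : Set G) ∧ Cfsg.StabilizesBlock (Subgroup.centralizer (P : Set G)) c g)) [hn : ((Subgroup.centralizer (P : Set G)).subgroupOf T).Normal] : IsCyclic (T ⧸ (Subgroup.centralizer (P : Set G)).subgroupOf T) ∧ (Subgroup.centralizer (P : Set G)).relIndex T ∣ p - 1 ∧ ∀ g ∈ T, ∀ x ∈ P, x ≠ 1 → g * x * g⁻¹ = x → g ∈ Subgroup.centralizer (P : Set G) := by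
  classical
  have := Fintype.ofFinite G
  have := isPrime_of_isPModular hM
  have hp : p.Prime := hM.1
  have := Fintype.ofFinite (Subgroup.centralizer (P : Set G))
  have hPp := IsDefectGroup.isPGroup hM hPD
  haveI := hcyc
  have hPC : P ≤ (Subgroup.centralizer (P : Set G)) := fun x hx y hy => by
    obtain ⟨a, ha⟩ := IsCyclic.exists_generator (α := P)
    obtain ⟨i, hi⟩ := Subgroup.mem_zpowers_iff.mp (ha ⟨x, hx⟩)
    obtain ⟨j, hj⟩ := Subgroup.mem_zpowers_iff.mp (ha ⟨y, hy⟩)
    have e1 : (a : G) ^ i = x := congrArg Subtype.val hi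
    have e2 : (a : G) ^ j = y := congrArg Subtype.val hj
    rw [← e1, ← e2]
    exact ((Commute.refl (a : G)).zpow_zpow j i).eq
  have hpair : IsBrauerPairOf p M B P c :=
    Cfsg.Agent.S4437.isBrauerPairOf_of_induced hM hPp hPC le_rfl
      (Subgroup.centralizer_le_normalizer _) hc.1 hc.1
      (fun t => by rw [subgroupBlockCoeff_eq]; exact (extendByZero_apply _ (blockCoeff c) t).symm) hc
  haveI := Fintype.ofFinite (blockT P c)
  obtain ⟨F, hF, hFc⟩ := exists_blockT_block hM hpair.1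
  have hdef := (exists_maximal_iff hM hpair.1 (fun g => mem_blockT) hF hFc).mp
    ⟨B, isMaximalBrauerPair_of_defectGroup hM hPD hpair⟩
  have hel := ((isDefectGroup_stab_iff hM hPp hpair.1.2 le_blockT centralizer_le_blockT
    blockT_le_normalizer hF hFc).mp hdef).2
  have hTe : T = blockT P c := Subgroup.ext fun g => (hT g).trans mem_blockT.symm
  have hCT : (Subgroup.centralizer (P : Set G)) ≤ T := hTe ▸ centralizer_le_blockT
  have hm : ¬ p ∣ (Subgroup.centralizer (P : Set G)).relIndex T := (not_dvd_relIndex_iff hCT).mpr fun g hg hgp => by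
    have := hel g (hTe ▸ hg) hgp
    rwa [sup_eq_right.mpr hPC] at this
  have hfpf : ∀ g ∈ T, ∀ x ∈ P, x ≠ 1 → g * x * g⁻¹ = x → g ∈ (Subgroup.centralizer (P : Set G)) := fun g hg x hx hx1 hfix =>
    mem_centralizer_of_fixed hPp ((hT g).mp hg).1 hm (by
      have h := Subgroup.pow_index_mem ((Subgroup.centralizer (P : Set G)).subgroupOf T) (⟨g, hg⟩ : T)
      exact Subgroup.mem_subgroupOf.mp h) hx hx1 hfix
  -- the element of order p
  obtain ⟨z, hzP, hzord⟩ : ∃ z ∈ P, orderOf z = p := by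
    haveI : Nontrivial P := (Subgroup.nontrivial_iff_ne_bot P).mpr hP1
    obtain ⟨k, hk⟩ := IsPGroup.iff_card.mp hPp
    have hk0 : p ∣ Nat.card P := by
      rw [hk]
      refine dvd_pow_self p ?_
      rintro rfl
      rw [pow_zero] at hk
      exact (Finite.one_lt_card (α := P)).ne' hk
    obtain ⟨z, hz⟩ := exists_prime_orderOf_dvd_card' p hk0
    exact ⟨z, z.2, by rw [Subgroup.orderOf_coe]; exact hz⟩
  set Z := Subgroup.zpowers z with hZ
  have hTZ : T ≤ Subgroup.normalizer (Z : Set G) := by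
    intro g hg
    refine Subgroup.mem_normalizer_iff_map_conj_eq.mpr ?_
    have hgz : g * z * g⁻¹ ∈ P := (Subgroup.mem_normalizer_iff.mp ((hT g).mp hg).1 z).mp hzP
    have hle : Z.map (MulAut.conj g).toMonoidHom ≤ P :=
      Subgroup.map_le_iff_le_comap.mpr (Subgroup.zpowers_le.mpr hgz)
    have hcard : Nat.card (Z.map (MulAut.conj g).toMonoidHom) = Nat.card Z :=
      Subgroup.card_map_of_injective (MulAut.conj g).injective
    exact CfsgLib.Char.CyclicTI.eq_of_card_eq_in_cyclic hle (Subgroup.zpowers_le.mpr hzP) hcard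
  let μ : T →* MulAut Z := (Subgroup.normalizerMonoidHom Z).comp (Subgroup.inclusion hTZ)
  let φ : T →* (ZMod (Nat.card Z))ˣ := (IsCyclic.mulAutMulEquiv Z).toMonoidHom.comp μ
  have hker : φ.ker = (Subgroup.centralizer (P : Set G)).subgroupOf T := by
    ext g
    rw [MonoidHom.mem_ker, Subgroup.mem_subgroupOf]
    show IsCyclic.mulAutMulEquiv Z (μ g) = 1 ↔ _
    rw [MulEquiv.map_eq_one_iff]
    constructor
    · intro h
      refine hfpf g g.2 z hzP (fun h1 => hp.one_lt.ne' (by rw [← hzord, h1, orderOf_one])) ?_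
      exact congrArg Subtype.val (DFunLike.congr_fun h (⟨z, Subgroup.mem_zpowers z⟩ : Z))
    · intro h
      refine MulEquiv.ext fun y => Subtype.ext ?_
      show (g : G) * (y : G) * (g : G)⁻¹ = y
      rw [← h y (Subgroup.zpowers_le.mpr hzP y.2), mul_inv_cancel_right]
  have hinj : Function.Injective (QuotientGroup.lift ((Subgroup.centralizer (P : Set G)).subgroupOf T) φ hker.ge) := by
    rw [← MonoidHom.ker_eq_bot_iff, QuotientGroup.ker_lift, hker,
      QuotientGroup.map_mk'_self]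
  have hZcard : Nat.card Z = p := (Nat.card_zpowers z).trans hzord
  haveI : Fact (Nat.card Z).Prime := ⟨hZcard.symm ▸ hp⟩
  refine ⟨isCyclic_of_injective _ hinj, ?_, hfpf⟩
  have h := Subgroup.card_dvd_of_injective _ hinj
  rw [Nat.card_units, Nat.card_zmod, hZcard] at h
  rw [Subgroup.relIndex, Subgroup.index_eq_card]
  exact h


end Cfsg.Agent.S4633
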