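import Cfsg.Statements.S4634
import Cfsg.Agent.Lib.Blocks.CyclicDefect.SelfCentralizing

set_option autoImplicit false
open Cfsg
open scoped CfsgLib.Char

namespace Cfsg.Agent.S4634

/-- Let B be a block of the finite group G relative to a maximal ideal M of the algebraic integers containing the prime p, with a nontrivial cyclic defect group P, let c be a block of C_G(P) inducing B, T the stabilizer of c in N_G(P) and e the index of C_G(P) in T. Let F be any finite group of order #P · e having a cyclic subgroup Q of order #P that is its own centralizer (F is then the semidirect product of Q by a cyclic group of order e acting faithfully). Then there is a perfect isometry from the set of all irreducible characters of F onto B whose signs agree on all the characters of F that do not contain Q in their kernel. -/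
theorem result {G : Type*} [Group G] [Finite G] (p : ℕ) [Fact p.Prime] (M : Ideal Cfsg.AlgInt) (hM : Cfsg.IsPModular p M) (B : Set (Cfsg.IrrCharacter G)) (hB : Cfsg.IsPBlock M B) (P : Subgroup G) (hPD : Cfsg.IsDefectGroup p M B P) (hP1 : P ≠ ⊥) (hcyc : IsCyclic P) (c : Set (Cfsg.IrrCharacter (Subgroup.centralizer (P : Set G)))) (hc : Cfsg.IsInducedBlock M (Subgroup.centralizer (P : Set G)) c B) (T : Subgroup G) (hT : ∀ g : G, g ∈ T ↔ (g ∈ Subgroup.normalizer (P : Set G) ∧ Cfsg.StabilizesBlock (Subgroup.centralizer (P : Set G)) c g)) (e : ℕ) (he : (Subgroup.centralizer (P : Set G)).relIndex T = e) (F : Type*) [Group F] [Finite F] (hF : Nat.card F = Nat.card P * e) (Q : Subgroup F) (hQ : IsCyclic Q) (hQcard : Nat.card Q = Nat.card P) (hQC : Subgroup.centralizer (Q : Set F) = Q) : ∃ (I : Cfsg.IrrCharacter F → Cfsg.IrrCharacter G) (ε : Cfsg.IrrCharacter F → ℤ), Cfsg.IsPerfectIsometry p M (Set.univ : Set (Cfsg.IrrCharacter F)) B I ε ∧ ∀ η η' : Cfsg.IrrCharacter F, (∃ x ∈ Q, (η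 : F → ℂ) x ≠ (η : F → ℂ) 1) → (∃ x ∈ Q, (η' : F → ℂ) x ≠ (η' : F → ℂ) 1) → ε η = ε η' := by
  classical
  have : Fintype G := Fintype.ofFinite G
  have : Fintype F := Fintype.ofFinite F
  have := CfsgLib.Blocks.isPrime_of_isPModular hM
  have hp : p.Prime := hM.1
  obtain rfl : T = CfsgLib.Blocks.blockT P c := by
    ext g; rw [hT, CfsgLib.Blocks.mem_blockT]
  have hab := CfsgLib.Blocks.CyclicDefect.comm_of_cyclic hcyc
  obtain ⟨hmax, -⟩ := CfsgLib.Blocks.maximal_of_induced hM hPD hab hc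
  have hfree := CfsgLib.Blocks.CyclicDefect.free_of_cyclic hM hmax hcyc
  have hed := CfsgLib.Blocks.CyclicDefect.index_dvd hM hmax hcyc hP1 he
  have hp2 := hp.two_le
  have he0 : 0 < e := Nat.pos_of_dvd_of_pos hed (by omega)
  have hep : e < p := (Nat.le_of_dvd (by omega) hed).trans_lt (by omega)
  obtain ⟨n, hn⟩ := IsPGroup.iff_card.mp (CfsgLib.Blocks.IsDefectGroup.isPGroup hM hPD)
  have hQp : IsPGroup p Q := IsPGroup.of_card (hQcard.trans hn)
  have hQi : Q.index = e := by
    have h := Q.card_mul_index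
    rw [hF, hQcard] at h
    exact Nat.eq_of_mul_eq_mul_left Nat.card_pos h
  have : Q.Normal := CfsgLib.Blocks.CyclicDefect.normal_of_index_lt hQp (hQi ▸ hep)
  obtain ⟨hBu, hDu⟩ := CfsgLib.Blocks.CyclicDefect.univ_isBlock_defectGroup hM hQp
    (hQi ▸ fun h => absurd (Nat.le_of_dvd he0 h) (by omega)) hQC
  obtain ⟨c', hc'⟩ := CfsgLib.Blocks.exists_pair_of_defectGroup hM hBu hDu
  have hmax' := CfsgLib.Blocks.isMaximalBrauerPair_of_defectGroup hM hDu hc'
  have hQ1 : Q ≠ ⊥ := fun h => hP1 (Subgroup.card_eq_one.mp (by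
    rw [← hQcard, h, Subgroup.card_bot]))
  have hab' := CfsgLib.Blocks.CyclicDefect.comm_of_cyclic hQ
  have hfree' := CfsgLib.Blocks.CyclicDefect.free_of_cyclic hM hmax' hQ
  obtain ⟨-, -, -, ω, exc, δ, w, hω, S⟩ :=
    CfsgLib.Blocks.CyclicDefect.counts hM hmax hcyc hP1 he
  obtain ⟨-, hcard', -, -⟩ := CfsgLib.Blocks.CyclicDefect.counts hM hmax' hQ hQ1 rfl
  have hω' := CfsgLib.Blocks.CyclicDefect.isColWeight_one hM hmax' hQ hQC
  have hTF := CfsgLib.Blocks.CyclicDefect.blockT_eq_top hM hQp hQ hQC hc'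
  have he' : (Subgroup.centralizer (Q : Set F)).relIndex (CfsgLib.Blocks.blockT Q c') = e := by
    rw [hTF, hQC, Subgroup.relIndex_top_right, hQi]
  have hcardE : Nat.card (CfsgLib.Blocks.FreeQuot.inertAut P c) =
      Nat.card (CfsgLib.Blocks.FreeQuot.inertAut Q c') := by
    rw [CfsgLib.Blocks.FreeQuot.card_inertAut, CfsgLib.Blocks.FreeQuot.card_inertAut, he, he']
  obtain ⟨R', hR'⟩ := CfsgLib.Blocks.FreeQuot.exists_isReps (P := Q) (c := c')
  have hR'c : R'.card * e = Nat.card Q - 1 := by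
    rw [← he']; exact CfsgLib.Blocks.FreeQuot.card_reps hM hmax' hab' hfree' hR'
  obtain ⟨exc', δ', w', S'⟩ := CfsgLib.Blocks.FreeQuot.exists_shape hM hmax' hab' hfree' hQ1 hω' hR'
    (by rw [hcard', CfsgLib.Blocks.FreeQuot.card_inertAut, he', ← hR'c, Nat.mul_div_cancel _ he0])
  obtain ⟨φ⟩ : Nonempty (P ≃* Q) := ⟨mulEquivOfCyclicCardEq hQcard.symm⟩
  obtain ⟨I, ε, hI, hεexc⟩ := CfsgLib.Blocks.FreeQuot.exists_isometry_of_shapes hM hmax hab hfree
    hmax' hab' hfree' hω S hω' S' φ
    (CfsgLib.Blocks.CyclicDefect.mem_iff_congr_mem hp hn φ _ _ hcardE fun h2 => by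
      rw [CfsgLib.Blocks.FreeQuot.card_inertAut, he]; omega)
  refine ⟨I, ε, hI, ?_⟩
  obtain ⟨-, -, horb, -⟩ := CfsgLib.Blocks.CyclicDefect.counts hM hmax' hQ hQ1 he'
  have hQcard2 : 2 ≤ Nat.card Q := Q.one_lt_card_iff_ne_bot.mpr hQ1
  have hsq : ∀ S : Finset (IrrCharacter F),
      ∑ η ∈ S, charDegree (η : F → ℂ) * charDegree (η : F → ℂ) ≤ Nat.card Q * e := by
    intro S
    have h := CfsgLib.Char.sum_degree_mul_irr (1 : F)
    simp only [(CfsgLib.Blocks.irr_degree_eq _).1, if_pos, ← Nat.cast_mul, ← Nat.cast_sum,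
      Nat.cast_inj] at h
    refine (Finset.sum_le_sum_of_subset (Finset.subset_univ S)).trans ?_
    rw [h, hF, hQcard]
  have hval : ∀ η : IrrCharacter F, (∃ x ∈ Q, (η : F → ℂ) x ≠ (η : F → ℂ) 1) →
      (∀ o, (exc' o).1 ≠ η) → Nat.card Q ≤ charDegree (η : F → ℂ) + 1 := by
    intro η hη hcon
    have hne : ∀ o, exc' o ≠ ⟨η, Set.mem_univ _⟩ := fun o h => hcon o (congrArg Subtype.val h)
    refine CfsgLib.Blocks.CyclicDefect.degree_ge hQ η (fun u hu => ?_) (S'.rest_sign _ hne) hη
    have h := S'.rest ⟨η, Set.mem_univ _⟩ hne u hu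
    rwa [one_mul, CfsgLib.Blocks.CyclicDefect.col_eq_value hM hmax' hQ hQC η u.2
      (fun h => hu (Subtype.ext h))] at h
  intro η η' hη hη'
  by_cases hbig : e + 1 = Nat.card Q
  · -- one orbit: there is only one such member
    have hu : Subsingleton (Quotient (CfsgLib.Blocks.FreeQuot.orbitSetoid (A := Q)
        (CfsgLib.Blocks.FreeQuot.inertAut Q c'))) := by
      refine (Nat.card_eq_one_iff_unique.mp ?_).1
      rw [horb, ← hbig, Nat.add_sub_cancel, Nat.div_self he0]
    have hall : ∀ η : IrrCharacter F, (∃ x ∈ Q, (η : F → ℂ) x ≠ (η : F → ℂ) 1) →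
        Nat.card Q ≤ charDegree (η : F → ℂ) + 1 := by
      intro η hη
      by_cases hex : ∀ o, (exc' o).1 ≠ η
      · exact hval η hη hex
      push Not at hex
      obtain ⟨o, rfl⟩ := hex
      refine CfsgLib.Blocks.CyclicDefect.degree_ge hQ _ (z := -δ') (fun u hu => ?_)
        (by rcases S'.sign with h | h <;> simp [h]) hη
      have h := S'.exc_val o u hu
      rw [one_mul, CfsgLib.Blocks.CyclicDefect.col_eq_value hM hmax' hQ hQC _ u.2
        (fun h => hu (Subtype.ext h))] at h
      let := CfsgLib.Blocks.FreeQuot.fintypeOrbits (CfsgLib.Blocks.FreeQuot.inertAut Q c')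
      have h2 := CfsgLib.Blocks.FreeQuot.orbChar_sum hab'
        (CfsgLib.Blocks.FreeQuot.inertAut_free hfree') hu
      rw [Fintype.sum_subsingleton _ o] at h2
      rw [h, h2]
      push_cast
      ring
    suffices hη'' : η = η' by rw [hη'']
    by_contra hne
    have h1 := hall η hη
    have h2 := hall η' hη'
    have ht : ∀ ξ : IrrCharacter F, (∃ x ∈ Q, (ξ : F → ℂ) x ≠ (ξ : F → ℂ) 1) →
        ξ ≠ CfsgLib.Blocks.trivIrr F := by
      rintro ξ ⟨x, -, hx⟩ rfl
      exact hx rfl
    have h3 := hsq {η, η', CfsgLib.Blocks.trivIrr F}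
    rw [Finset.sum_insert (by simp [hne, ht η hη]), Finset.sum_insert (by simp [ht η' hη']),
      Finset.sum_singleton] at h3
    have h4 : 0 < charDegree ((CfsgLib.Blocks.trivIrr F : IrrCharacter F) : F → ℂ) :=
      (CfsgLib.Blocks.irr_degree_eq _).2
    nlinarith
  · have key : ∀ η : IrrCharacter F, (∃ x ∈ Q, (η : F → ℂ) x ≠ (η : F → ℂ) 1) →
        ∃ o, ((exc' o).1 : IrrCharacter F) = η := by
      intro η hη
      by_contra hcon
      push Not at hcon
      have h1 := hval η hη hcon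
      have h3 := hsq {η}
      rw [Finset.sum_singleton] at h3
      have hm0 : R'.card ≠ 0 := fun h => by rw [h, zero_mul] at hR'c; omega
      have hm2 : 2 ≤ R'.card := by
        by_contra hlt
        have : R'.card = 1 := by omega
        rw [this, one_mul] at hR'c
        omega
      have h5 : e * R'.card ≤ charDegree (η : F → ℂ) := by rw [mul_comm, hR'c]; omega
      have h6 : Nat.card Q = e * R'.card + 1 := by rw [mul_comm, hR'c]; omega
      have h7 := Nat.mul_le_mul h5 h5
      have h8 : e * R'.card * (e * R'.card) ≤ (e * R'.card + 1) * e := by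
        rw [← h6]; exact h7.trans h3
      have h9 : 2 * (e * R'.card) ≤ R'.card * (e * R'.card) := Nat.mul_le_mul_right _ hm2
      nlinarith
    obtain ⟨o, rfl⟩ := key η hη
    obtain ⟨o', rfl⟩ := key η' hη'
    rw [hεexc, hεexc]

end Cfsg.Agent.S4634
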