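import Cfsg.Statements.S4635
import Cfsg.Agent.Lib.Blocks.CyclicDefect.FrobeniusBlock
import Cfsg.Agent.Lib.Blocks.LocalBlock

set_option autoImplicit false
open Cfsg
open scoped CfsgLib.Char

namespace Cfsg.Agent.S4635

/-- Let B be a block of the finite group G relative to a maximal ideal M of the algebraic integers containing the prime p, with a nontrivial cyclic defect group P; let Z be the subgroup of order p of P and H = N_G(Z), which contains N_G(P). Let c be the block of H with defect group P that induces B. Then B and c contain the same number of irreducible characters, have the same p-regular rank, and there is a perfect isometry from c onto B. -/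
theorem result {G : Type*} [Group G] [Finite G] (p : ℕ) [Fact p.Prime] (M : Ideal Cfsg.AlgInt) (hM : Cfsg.IsPModular p M) (B : Set (Cfsg.IrrCharacter G)) (hB : Cfsg.IsPBlock M B) (P : Subgroup G) (hPD : Cfsg.IsDefectGroup p M B P) (hP1 : P ≠ ⊥) (hcyc : IsCyclic P) (Z : Subgroup G) (hZ : Z ≤ P) (hZcard : Nat.card Z = p) (H : Subgroup G) (hH : H = Subgroup.normalizer (Z : Set G)) (c : Set (Cfsg.IrrCharacter H)) (hcD : Cfsg.IsDefectGroup p M c (P.subgroupOf H)) (hc : Cfsg.IsInducedBlock M H c B) : Nat.card c = Nat.card B ∧ Cfsg.blockRank p c = Cfsg.blockRank p B ∧ ∃ (I : Cfsg.IrrCharacter H → Cfsg.IrrCharacter G) (ε : Cfsg.IrrCharacter H → ℤ), Cfsg.IsPerfectIsometry p M c B I ε := by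
  classical
  have : Fintype G := Fintype.ofFinite G
  have := CfsgLib.Blocks.isPrime_of_isPModular hM
  have hp : p.Prime := hM.1
  subst hH
  set H := Subgroup.normalizer (Z : Set G)
  have : Fintype H := Fintype.ofFinite H
  -- the normalizer of `P` and its centralizer lie in `H`
  have hNP : Subgroup.normalizer (P : Set G) ≤ H := by
    intro g hg
    have hcard : Nat.card (Z.map (MulAut.conj g).toMonoidHom) = Nat.card Z :=
      Subgroup.card_map_of_injective (MulAut.conj g).injective
    have hle : Z.map (MulAut.conj g).toMonoidHom ≤ P := by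
      rw [← Subgroup.mem_normalizer_iff_map_conj_eq.mp hg]
      exact Subgroup.map_mono hZ
    refine Subgroup.mem_normalizer_iff_map_conj_eq.mpr ?_
    have : IsCyclic P := hcyc
    have key : ∀ K L : Subgroup P, Nat.card K = Nat.card L → K = L := fun K L h =>
      @CfsgLib.Blocks.CyclicDefect.eq_of_card_eq _ IsCyclic.commGroup hcyc _ K L h
    have h1 := key ((Z.map (MulAut.conj g).toMonoidHom).subgroupOf P) (Z.subgroupOf P) (by
      rw [Nat.card_congr (Subgroup.subgroupOfEquivOfLe hle).toEquiv,
        Nat.card_congr (Subgroup.subgroupOfEquivOfLe hZ).toEquiv, hcard])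
    have h2 := congrArg (Subgroup.map P.subtype) h1
    rwa [Subgroup.map_subgroupOf_eq_of_le hle, Subgroup.map_subgroupOf_eq_of_le hZ] at h2
  have hPH : P ≤ H := Subgroup.le_normalizer.trans hNP
  obtain ⟨A, rfl⟩ : ∃ A : Subgroup H, A.map H.subtype = P :=
    ⟨_, Subgroup.map_subgroupOf_eq_of_le hPH⟩
  have hA : Subgroup.centralizer ((A.map H.subtype : Subgroup G) : Set G) ≤ H :=
    (Subgroup.centralizer_le_normalizer _).trans hNP
  rw [show (A.map H.subtype).subgroupOf H = A from
    Subgroup.comap_map_eq_self_of_injective H.subtype_injective A] at hcD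
  obtain ⟨f, hf⟩ := CfsgLib.Blocks.exists_pair_of_defectGroup hM hc.1 hcD
  have hmaxH := CfsgLib.Blocks.isMaximalBrauerPair_of_defectGroup hM hcD hf
  have hmax := CfsgLib.Blocks.isMaximalBrauerPair_of_defectGroup hM hPD
    (CfsgLib.Blocks.isBrauerPairOf_upBlock hM hc hA hf)
  set eG := CfsgLib.Blocks.upBlock A hA f
  have hcycA : IsCyclic A := by
    have : IsCyclic (A.map H.subtype) := hcyc
    exact isCyclic_of_surjective _ (A.equivMapOfInjective H.subtype H.subtype_injective).symm.surjective
  have hA1 : A ≠ ⊥ := fun h => hP1 (by rw [h, Subgroup.map_bot])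
  -- the stabilizers agree
  have hstab : ∀ y : H, y ∈ CfsgLib.Blocks.blockT A f ↔
      (y : G) ∈ CfsgLib.Blocks.blockT (A.map H.subtype) eG := by
    intro y
    have hN : y ∈ Subgroup.normalizer (A : Set H) ↔
        (y : G) ∈ Subgroup.normalizer ((A.map H.subtype : Subgroup G) : Set G) := by
      rw [Subgroup.mem_normalizer_iff_map_conj_eq, Subgroup.mem_normalizer_iff_map_conj_eq]
      constructor
      · intro h
        conv_rhs => rw [← h]
        rw [Subgroup.map_map, Subgroup.map_map]
        rfl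
      · intro h
        apply Subgroup.map_injective H.subtype_injective
        conv_rhs => rw [← h]
        rw [Subgroup.map_map, Subgroup.map_map]
        rfl
    rw [CfsgLib.Blocks.mem_blockT, CfsgLib.Blocks.mem_blockT]
    constructor
    · rintro ⟨hy, hst⟩
      refine ⟨hN.mp hy, CfsgLib.Blocks.stabilizesBlock_iff.mpr
        ⟨CfsgLib.Blocks.mem_normalizer_centralizer (hN.mp hy), ?_⟩⟩
      rw [(CfsgLib.Blocks.conjSet_upBlock y hA hA
        (Subgroup.mem_normalizer_iff_map_conj_eq.mp hy).symm f).2,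
        (CfsgLib.Blocks.stabilizesBlock_iff.mp hst).2]
    · rintro ⟨hy', hst⟩
      have hy := hN.mpr hy'
      refine ⟨hy, CfsgLib.Blocks.stabilizesBlock_iff.mpr
        ⟨CfsgLib.Blocks.mem_normalizer_centralizer hy, CfsgLib.Blocks.upBlock_injective hA ?_⟩⟩
      rw [← (CfsgLib.Blocks.conjSet_upBlock y hA hA
        (Subgroup.mem_normalizer_iff_map_conj_eq.mp hy).symm f).2,
        (CfsgLib.Blocks.stabilizesBlock_iff.mp hst).2]
  have hTmap : (CfsgLib.Blocks.blockT A f).map H.subtype =
      CfsgLib.Blocks.blockT (A.map H.subtype) eG := by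
    ext g
    constructor
    · rintro ⟨y, hy, rfl⟩
      exact (hstab y).mp hy
    · intro hg
      have hgH : g ∈ H := hNP (CfsgLib.Blocks.blockT_le_normalizer hg)
      exact ⟨⟨g, hgH⟩, (hstab ⟨g, hgH⟩).mpr hg, rfl⟩
  have hCmap : (Subgroup.centralizer (A : Set H)).map H.subtype =
      Subgroup.centralizer ((A.map H.subtype : Subgroup G) : Set G) := by
    ext g
    constructor
    · rintro ⟨y, hy, rfl⟩
      rintro _ ⟨a, ha, rfl⟩
      exact congrArg Subtype.val (Subgroup.mem_centralizer_iff.mp hy a ha)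
    · intro hg
      refine ⟨⟨g, hA hg⟩, Subgroup.mem_centralizer_iff.mpr fun a ha => Subtype.ext ?_, rfl⟩
      exact Subgroup.mem_centralizer_iff.mp hg (a : G) ⟨a, ha, rfl⟩
  have hindex : (Subgroup.centralizer ((A.map H.subtype : Subgroup G) : Set G)).relIndex
      (CfsgLib.Blocks.blockT (A.map H.subtype) eG) =
      (Subgroup.centralizer (A : Set H)).relIndex (CfsgLib.Blocks.blockT A f) := by
    rw [← hTmap, ← hCmap, Subgroup.relIndex_map_map_of_injective _ _ H.subtype_injective]
  obtain ⟨hr, hcB, -, ω, exc, δ, w, hω, S⟩ :=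
    CfsgLib.Blocks.CyclicDefect.counts hM hmax hcyc hP1 hindex
  obtain ⟨hr', hcB', -, ω', exc', δ', w', hω', S'⟩ :=
    CfsgLib.Blocks.CyclicDefect.counts hM hmaxH hcycA hA1 rfl
  have hcardA : Nat.card (A.map H.subtype) = Nat.card A :=
    Subgroup.card_map_of_injective H.subtype_injective
  obtain ⟨n, hn⟩ := IsPGroup.iff_card.mp (CfsgLib.Blocks.IsDefectGroup.isPGroup hM hPD)
  refine ⟨by rw [hcB, hcB', hcardA], by rw [hr, hr'], ?_⟩
  have hcardE : Nat.card (CfsgLib.Blocks.FreeQuot.inertAut (A.map H.subtype) eG) =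
      Nat.card (CfsgLib.Blocks.FreeQuot.inertAut A f) := by
    rw [CfsgLib.Blocks.FreeQuot.card_inertAut, CfsgLib.Blocks.FreeQuot.card_inertAut, hindex]
  obtain ⟨I, ε, hI, -⟩ := CfsgLib.Blocks.FreeQuot.exists_isometry_of_shapes hM hmax
    (CfsgLib.Blocks.CyclicDefect.comm_of_cyclic hcyc)
    (CfsgLib.Blocks.CyclicDefect.free_of_cyclic hM hmax hcyc) hmaxH
    (CfsgLib.Blocks.CyclicDefect.comm_of_cyclic hcycA)
    (CfsgLib.Blocks.CyclicDefect.free_of_cyclic hM hmaxH hcycA) hω S hω' S'
    (A.equivMapOfInjective H.subtype H.subtype_injective).symm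
    (CfsgLib.Blocks.CyclicDefect.mem_iff_congr_mem hp hn _ _ _ hcardE fun h2 => by
      have h := CfsgLib.Blocks.CyclicDefect.index_dvd hM hmax hcyc hP1 rfl
      rw [h2, Nat.dvd_one] at h
      rw [CfsgLib.Blocks.FreeQuot.card_inertAut, h])
  exact ⟨I, ε, hI⟩

end Cfsg.Agent.S4635
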