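import Cfsg.Statements.S4636
-- import your own Cfsg.Agent.* helpers here

set_option autoImplicit false
open scoped Pointwise
open Cfsg

namespace Cfsg.Agent.S4636

theorem eq_of_card {G : Type*} [Group G] [Finite G] {p : ℕ} (hp : p.Prime) (P A B : Subgroup G)
    [IsCyclic P] (hA : A ≤ P) (hB : B ≤ P) (hAc : Nat.card A = p) (hBc : Nat.card B = p) : A = B := by
  classical
  haveI : Fintype G := Fintype.ofFinite G
  let T : Finset P := Finset.univ.filter fun x => x ^ p = 1
  have hT : T.card ≤ p := IsCyclic.card_pow_eq_one_le hp.pos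
  have h : ∀ C : Subgroup G, C ≤ P → Nat.card C = p →
      (Finset.univ.filter fun x : P => (x : G) ∈ C) = T := by
    intro C hC hCc
    have hsub : (Finset.univ.filter fun x : P => (x : G) ∈ C) ⊆ T := by
      intro x hx
      simp only [T, Finset.mem_filter, Finset.mem_univ, true_and] at hx ⊢
      have h1 : (⟨(x : G), hx⟩ : C) ^ p = 1 := hCc ▸ pow_card_eq_one'
      ext
      simpa using congrArg Subtype.val h1
    refine Finset.eq_of_subset_of_card_le hsub (hT.trans (le_of_eq ?_))
    rw [← Fintype.card_subtype, ← Nat.card_eq_fintype_card, ← hCc]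
    exact Nat.card_congr (Subgroup.subgroupOfEquivOfLe hC).toEquiv.symm
  have h1 := (h A hA hAc).trans (h B hB hBc).symm
  ext g
  constructor
  · intro hg
    have h2 := Finset.ext_iff.mp h1 ⟨g, hA hg⟩
    simpa [hg] using h2
  · intro hg
    have h2 := Finset.ext_iff.mp h1 ⟨g, hB hg⟩
    simpa [hg] using h2


/-- Let P be a nontrivial cyclic p-subgroup of the finite group G and Z its subgroup of order p. For every x outside N_G(Z), P meets its conjugate xPx⁻¹ trivially; consequently N_G(Q) ≤ N_G(Z) for every nontrivial subgroup Q of P. -/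
theorem result {G : Type*} [Group G] [Finite G] (p : ℕ) [Fact p.Prime] (P : Subgroup G) (hP : IsPGroup p P) (hP1 : P ≠ ⊥) (hcyc : IsCyclic P) (Z : Subgroup G) (hZ : Z ≤ P) (hZcard : Nat.card Z = p) : (∀ x : G, x ∉ Subgroup.normalizer (Z : Set G) → P ⊓ MulAut.conj x • P = ⊥) ∧ ∀ Q : Subgroup G, Q ≤ P → Q ≠ ⊥ → Subgroup.normalizer (Q : Set G) ≤ Subgroup.normalizer (Z : Set G) := by
  have hp : p.Prime := Fact.out
  haveI := hcyc
  have huniq : ∀ A : Subgroup G, A ≤ P → Nat.card A = p → A = Z :=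
    fun A hA hAc => eq_of_card hp P A Z hA hZ hAc hZcard
  have hcont : ∀ R : Subgroup G, R ≤ P → R ≠ ⊥ → Z ≤ R := by
    intro R hR hR1
    haveI : Nontrivial R := (Subgroup.nontrivial_iff_ne_bot R).mpr hR1
    obtain ⟨n, hn⟩ := IsPGroup.iff_card.mp (hP.to_le hR)
    have hn0 : n ≠ 0 := by
      rintro rfl
      rw [pow_zero] at hn
      exact (Finite.one_lt_card (α := R)).ne' hn
    obtain ⟨x, hx⟩ := exists_prime_orderOf_dvd_card' (G := R) p (hn ▸ dvd_pow_self p hn0)
    have hc : Nat.card (Subgroup.zpowers (x : G)) = p := by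
      rw [Nat.card_zpowers, Subgroup.orderOf_coe, hx]
    have hle : Subgroup.zpowers (x : G) ≤ R := Subgroup.zpowers_le.mpr x.2
    rw [← huniq _ (hle.trans hR) hc]
    exact hle
  have hnorm : ∀ g : G, (∀ z ∈ Z, g * z * g⁻¹ ∈ P) → g ∈ Subgroup.normalizer (Z : Set G) := by
    intro g hg
    have hgZ : Z.map (MulAut.conj g).toMonoidHom = Z := by
      apply huniq
      · rintro w ⟨z, hz, rfl⟩
        simpa using hg z hz
      · rw [← Nat.card_congr (Z.equivMapOfInjective _ (MulAut.conj g).injective).toEquiv, hZcard]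
    exact Subgroup.mem_normalizer_iff_map_conj_eq.mpr hgZ
  refine ⟨fun x hx => ?_, fun Q hQ hQ1 g hg => hnorm g fun z hz =>
    hQ ((Subgroup.mem_normalizer_iff.mp hg z).mp (hcont Q hQ hQ1 hz))⟩
  by_contra hne
  have h2 : Z ≤ MulAut.conj x • P := (hcont _ inf_le_left hne).trans inf_le_right
  apply hx
  have hi : x⁻¹ ∈ Subgroup.normalizer (Z : Set G) := hnorm _ fun z hz => by
    obtain ⟨y, hy, rfl⟩ := (Subgroup.mem_smul_pointwise_iff_exists _ _ _).mp (h2 hz)
    simpa [mul_assoc] using hy
  simpa using inv_mem hi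

end Cfsg.Agent.S4636
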