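import Cfsg.Statements.S4638
import Cfsg.Agent.Lib.Blocks.FreeQuotient.Correspondent
import Cfsg.Agent.Lib.Blocks.FreeQuotient.KleinIso

set_option autoImplicit false
open Cfsg CfsgLib.Blocks CfsgLib.Blocks.FreeQuot

namespace Cfsg.Agent.S4638

/-- Let B be a block of the finite group G relative to a maximal ideal M of the algebraic integers containing 2, with a Klein four defect group P, and let c be its Brauer correspondent: the block of N_G(P) with defect group P that induces B. Then there is a perfect isometry from c onto B. -/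
theorem result {G : Type*} [Group G] [Finite G] (M : Ideal Cfsg.AlgInt) (hM : Cfsg.IsPModular 2 M) (B : Set (Cfsg.IrrCharacter G)) (hB : Cfsg.IsPBlock M B) (P : Subgroup G) (hPD : Cfsg.IsDefectGroup 2 M B P) (hV : IsKleinFour P) (c : Set (Cfsg.IrrCharacter (Subgroup.normalizer (P : Set G)))) (hcD : Cfsg.IsDefectGroup 2 M c (P.subgroupOf (Subgroup.normalizer (P : Set G)))) (hc : Cfsg.IsInducedBlock M (Subgroup.normalizer (P : Set G)) c B) : ∃ (I : Cfsg.IrrCharacter (Subgroup.normalizer (P : Set G)) → Cfsg.IrrCharacter G) (ε : Cfsg.IrrCharacter (Subgroup.normalizer (P : Set G)) → ℤ), Cfsg.IsPerfectIsometry 2 M c B I ε := by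
  classical
  have := isPrime_of_isPModular hM
  let := Fintype.ofFinite G
  let := Fintype.ofFinite (Subgroup.normalizer (P : Set G))
  obtain ⟨c', c₀, hmax', hmax, hm, he⟩ :=
    exists_correspondent_pairs hM rfl hPD (klein_comm hV) hcD hc
  have hV' : IsKleinFour (P.subgroupOf (Subgroup.normalizer (P : Set G))) := by
    have e := Subgroup.subgroupOfEquivOfLe (Subgroup.le_normalizer (H := P))
    exact ⟨(Nat.card_congr e.toEquiv).trans hV.card_four,
      (Monoid.exponent_eq_of_mulEquiv e).trans hV.exponent_two⟩
  exact klein_isometry hM hmax hV hm hmax' hV' he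

end Cfsg.Agent.S4638
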