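import Cfsg.Statements.S4640
import Cfsg.Agent.Lib.Blocks.StableBlock
import Cfsg.Agent.Lib.Blocks.HeightCount
import Cfsg.Agent.Lib.Blocks.CoreKernel
import Cfsg.Agent.Lib.Blocks.OverCharacter

set_option autoImplicit false
open Cfsg

namespace Cfsg.Agent.S4640

open scoped ComplexConjugate CfsgLib.Char
open CfsgLib.Blocks

section
variable {G : Type*} [Group G] [Fintype G] {p : ℕ} {M : Ideal Cfsg.AlgInt} [M.IsPrime]
  {N : Subgroup G} [N.Normal] [Fintype N]

/-- A block covering a stable block of a normal subgroup of `p`-power index has its idempotent. -/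
theorem blockCoeff_eq_of_covering (hM : IsPModular p M) (hN : ∃ k : ℕ, N.index = p ^ k)
    {b : Set (IrrCharacter N)} (hb : IsPBlock M b) (hstab : ∀ g : G, StabilizesBlock N b g)
    {B : Set (IrrCharacter G)} (hB : IsPBlock M B) {χ₀ : IrrCharacter G} (hχ₀ : χ₀ ∈ B)
    {θ₀ : IrrCharacter N} (hθ₀ : θ₀ ∈ b)
    (hcon : classInner (fun n : N => (χ₀ : G → ℂ) n) (θ₀ : N → ℂ) ≠ 0) :
    (∀ g, g ∉ N → blockCoeff B g = 0) ∧ ∀ (χ : IrrCharacter G) (ψ : IrrCharacter N),
      classInner (fun n : N => (χ : G → ℂ) n) (ψ : N → ℂ) ≠ 0 → (χ ∈ B ↔ ψ ∈ b) := by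
  classical
  obtain ⟨k, hk⟩ := hN
  have hreg : ∀ g : G, g ∉ N → blockCoeff B g = 0 := fun g hg =>
    blockCoeff_eq_zero_of_not_regular hM (IsPBlock.isBlockUnion hB) fun hr => hg
      (mem_of_isPRegular_of_pow_mem hM.1 hr k (hk ▸ N.pow_index_mem g))
  refine ⟨hreg, fun χ ψ hψ => ⟨fun hχ => ?_, fun hψb => ?_⟩⟩
  · obtain ⟨g, hg⟩ := exists_conjI_mem_of_congr hb hθ₀ (χ := χ)
      (fun v hv hl hsupp => omega_congr_of_covering hB hb hχ₀ hθ₀ hcon hχ hθ₀ hv hl hsupp) hψ
    obtain ⟨-, hmap⟩ := hstab g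
    obtain ⟨χ', hχ', hval⟩ := hmap _ hg
    suffices h : χ' = ψ from h ▸ hχ'
    refine Subtype.ext (funext fun n => ?_)
    have hn : g⁻¹ * (n : G) * g ∈ N := ‹N.Normal›.conj_mem' _ n.2 g
    rw [hval ⟨_, hn⟩ n (by show (n : G) = g * (g⁻¹ * (n : G) * g) * g⁻¹; group), coe_conjI,
      CfsgLib.Char.conjBy_apply]
    refine congrArg _ (Subtype.ext ?_)
    show g * (g⁻¹ * (n : G) * g) * g⁻¹ = n
    group
  · have hv := isClassFunction_blockCoeff B
    have h1 := sub_mem_localIdeal_of_sameBlock (IsPBlock.sameBlock hb hθ₀ hψb)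
      (f := fun n : N => blockCoeff B (n : G)) (fun a x => hv (a : G) (x : G))
      fun n => IsPBlock.memLocalRing_blockCoeff hB _
    rw [← omega_eq_of_constituent hψ hv hreg, ← omega_eq_of_constituent hcon hv hreg,
      omega_blockCoeff, omega_blockCoeff, indVec_of_mem hχ₀] at h1
    by_contra hne
    rw [indVec_of_notMem hne] at h1
    exact not_memLocalIdeal_one (M := M) (by simpa using h1)

end


/-- Let N be a normal subgroup of the finite group G of index a power of the prime p, M a maximal ideal of the algebraic integers containing p, b a block of N stabilized by every element of G, and B a block of G covering b (some member of B has a member of b as a constituent of its restriction to N). Suppose that B has a commutative defect group P. Then G = NP and P ∩ N is a defect group of b; every member of B restricts to a member of b; every member of b is the restriction of exactly [G : N] members of B; B contains exactly [G : N] times as many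 irreducible characters as b; and B and b have the same p-regular rank. -/
theorem result {G : Type*} [Group G] [Fintype G] (p : ℕ) [Fact p.Prime] (M : Ideal Cfsg.AlgInt) (hM : Cfsg.IsPModular p M) (N : Subgroup G) [N.Normal] [Fintype N] (hNi : ∃ k : ℕ, N.index = p ^ k) (b : Set (Cfsg.IrrCharacter N)) (hb : Cfsg.IsPBlock M b) (hstab : ∀ g : G, Cfsg.StabilizesBlock N b g) (B : Set (Cfsg.IrrCharacter G)) (hB : Cfsg.IsPBlock M B) (hcov : ∃ χ ∈ B, ∃ θ ∈ b, Cfsg.classInner (fun n : N => (χ : G → ℂ) n) (θ : N → ℂ) ≠ 0) (P : Subgroup G) (hPD : Cfsg.IsDefectGroup p M B P) (hPab : ∀ x ∈ P, ∀ y ∈ P, x * y = y * x) : N ⊔ P = ⊤ ∧ Cfsg.IsDefectGroup p M b ((P ⊓ N).subgroupOf N) ∧ (∀ χ ∈ B, ∃ θ ∈ b, ∀ n : N, (χ : G → ℂ) n = (θ : N → ℂ) n) ∧ (∀ θ ∈ b, Nat.card {χ : Cfsg.IrrCharacter G // χ ∈ B ∧ ∀ n : N, (χ : G → ℂ) n = (θ : N → ℂ) n} = N.index) ∧ Nat.card B = N.index * Nat.card b ∧ Cfsg.blockRank p B = Cfsg.blockRank p b := by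
  classical
  have := isPrime_of_isPModular hM
  obtain ⟨χ₀, hχ₀, θ₀, hθ₀, hcon₀⟩ := hcov
  obtain ⟨hreg, hmem⟩ := blockCoeff_eq_of_covering hM hNi hb hstab hB hχ₀ hθ₀ hcon₀
  have hBc : ∀ g, blockCoeff B g = subgroupBlockCoeff N b g := by
    intro g
    rw [subgroupBlockCoeff]
    by_cases hg : g ∈ N
    · rw [dif_pos hg]
      refine congrFun (eq_of_omega_eq (f₁ := fun n : N => blockCoeff B (n : G))
        (fun a x => isClassFunction_blockCoeff B (a : G) (x : G)) (isClassFunction_blockCoeff b)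
        fun ψ => ?_) ⟨g, hg⟩
      obtain ⟨χ, hχ⟩ := exists_irr_above ψ
      rw [← omega_eq_of_constituent hχ (isClassFunction_blockCoeff B) hreg, omega_blockCoeff,
        omega_blockCoeff]
      by_cases h : χ ∈ B
      · rw [indVec_of_mem h, indVec_of_mem ((hmem χ ψ hχ).mp h)]
      · rw [indVec_of_notMem h, indVec_of_notMem fun h' => h ((hmem χ ψ hχ).mpr h')]
    · rw [dif_neg hg, hreg g hg]
  obtain ⟨hdef, hidx⟩ := isDefectGroup_inf hM hb hB hBc hPD
  obtain ⟨k, hk⟩ := hNi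
  have hp : p.Prime := hM.1
  have hNP : N ⊔ P = ⊤ := by
    obtain ⟨j, -, hj⟩ := (Nat.dvd_prime_pow hp).mp
      (hk ▸ Subgroup.index_dvd_of_le (le_sup_left : N ≤ N ⊔ P))
    rcases j with - | j
    · exact Subgroup.index_eq_one.mp (by simpa using hj)
    · exact absurd (hj ▸ dvd_pow_self p j.succ_ne_zero) hidx
  have hab : ∀ x y : G, x * y * x⁻¹ * y⁻¹ ∈ N := by
    intro x y
    obtain ⟨n, hn, a, ha, rfl⟩ := Subgroup.mem_sup_of_normal_left.mp
      (show x ∈ N ⊔ P from hNP ▸ Subgroup.mem_top x)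
    obtain ⟨m, hm, c, hc, rfl⟩ := Subgroup.mem_sup_of_normal_left.mp
      (show y ∈ N ⊔ P from hNP ▸ Subgroup.mem_top y)
    rw [← QuotientGroup.eq_one_iff]
    simp only [QuotientGroup.mk_mul, QuotientGroup.mk_inv, (QuotientGroup.eq_one_iff n).mpr hn,
      (QuotientGroup.eq_one_iff m).mpr hm, one_mul]
    simp only [← QuotientGroup.mk_mul, ← QuotientGroup.mk_inv, hPab a ha c hc, mul_inv_cancel_right,
      mul_inv_cancel, QuotientGroup.mk_one]
  haveI : Finite (CfsgLib.Char.LinTriv N) := by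
    haveI : Finite (G →* ℂˣ) := Finite.of_equiv _ (CfsgLib.Char.linearEquiv (G := G))
    infer_instance
  haveI : Fintype (CfsgLib.Char.LinTriv N) := Fintype.ofFinite _
  obtain ⟨hcard, hsum⟩ := CfsgLib.Char.sum_linTriv N hab
  let act : CfsgLib.Char.LinTriv N → IrrCharacter G → IrrCharacter G := fun β χ =>
    ⟨fun g => (β.1 g : ℂ) * (χ : G → ℂ) g, CfsgLib.Char.isIrrCharacter_linear_mul χ.2 β.1⟩
  obtain ⟨e, he⟩ := exists_pair_of_defectGroup hM hB hPD
  have hmax := isMaximalBrauerPair_of_defectGroup hM hPD he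
  have hfree : ∀ χ ∈ B, ∀ β : CfsgLib.Char.LinTriv N, act β χ = χ → β.1 = 1 := by
    intro χ hχ β hfix
    suffices h : N ⊔ P ≤ β.1.ker by
      exact MonoidHom.ext fun g => h (hNP ▸ Subgroup.mem_top g)
    refine sup_le (fun n hn => β.2 n hn) fun y hy => ?_
    obtain ⟨f, hf⟩ := exists_le_top hM hmax.1.1 (Subgroup.zpowers_le.mpr hy)
    obtain ⟨s, hs, hne⟩ := exists_part_ne_zero_of_center hM hmax hχ (y := ⟨y, hy⟩)
      (fun q hq => hPab q hq y hy) hf
    by_contra hne1
    refine hne (blockPart_eq_zero_of_regular_zero hM (SubpairLE.isBrauerPair hf hmax.1.1).2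
      (fun t ht => ?_) hs)
    have htN : (t : G) ∈ N := mem_of_isPRegular_of_pow_mem hp
      (show ¬ p ∣ orderOf (t : G) by rw [Subgroup.orderOf_coe]; exact ht) k
      (hk ▸ N.pow_index_mem _)
    have h1 : (β.1 (y * (t : G)) : ℂ) * (χ : G → ℂ) (y * (t : G)) = (χ : G → ℂ) (y * (t : G)) :=
      congrArg (fun ξ : IrrCharacter G => (ξ : G → ℂ) (y * (t : G))) hfix
    rw [map_mul, β.2 _ htN, mul_one] at h1
    show (χ : G → ℂ) (y * (t : G)) = 0
    by_contra h0
    exact hne1 (Units.ext ((mul_eq_right₀ h0).mp h1))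
  have hsumI : ∀ χ ψ : IrrCharacter G,
      ∑ β : CfsgLib.Char.LinTriv N, classInner (act β χ : G → ℂ) (ψ : G → ℂ) =
        classInner (fun n : N => (χ : G → ℂ) n) (fun n : N => (ψ : G → ℂ) n) := by
    intro χ ψ
    rw [← CfsgLib.Char.classInner_sum_left, ← CfsgLib.Char.frobenius_reciprocity N
      (fun n : N => (χ : G → ℂ) n) (irr_classFunction ψ)]
    congr 1
    have h : (fun n : N => (χ : G → ℂ) n) =
        (fun _ : N => (1 : ℂ)) * fun n : N => (χ : G → ℂ) n := (one_mul _).symm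
    rw [h, CfsgLib.Char.indFun_mul N (χ : G → ℂ) (irr_classFunction χ), hsum, Finset.sum_mul]
    rfl
  have hself : ∀ χ ∈ B,
      classInner (fun n : N => (χ : G → ℂ) n) (fun n : N => (χ : G → ℂ) n) = 1 := by
    intro χ hχ
    rw [← hsumI χ χ, Finset.sum_eq_single (⟨1, fun _ _ => rfl⟩ : CfsgLib.Char.LinTriv N)]
    · rw [show act ⟨1, fun _ _ => rfl⟩ χ = χ from Subtype.ext (funext fun g => by simp [act])]
      exact CfsgLib.Char.classInner_irr_self χ.2
    · exact fun β _ hne => CfsgLib.Char.classInner_irr_ne (act β χ).2 χ.2 fun h =>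
        hne (Subtype.ext (hfree χ hχ β (Subtype.ext h)))
    · exact fun h => absurd (Finset.mem_univ _) h
  have hres : ∀ χ ∈ B, ∃ θ ∈ b, ∀ n : N, (χ : G → ℂ) n = (θ : N → ℂ) n := by
    intro χ hχ
    set θ : IrrCharacter N := ⟨fun n : N => (χ : G → ℂ) n, CfsgLib.Char.isIrr_of_norm_one
      (CfsgLib.Char.isCharacter_restrict N (CfsgLib.Char.isCharacter_of_isIrr χ.2)) (hself χ hχ)⟩
    refine ⟨θ, (hmem χ θ ?_).mp hχ, fun n => rfl⟩
    show classInner (fun n : N => (χ : G → ℂ) n) (fun n : N => (χ : G → ℂ) n) ≠ 0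
    rw [hself χ hχ]
    exact one_ne_zero
  have hover : ∀ (χ : IrrCharacter G), ∀ θ ∈ b, classInner (fun n : N => (χ : G → ℂ) n) (θ : N → ℂ) ≠ 0 →
      χ ∈ B ∧ ∀ n : N, (χ : G → ℂ) n = (θ : N → ℂ) n := by
    intro χ θ hθ hne
    have hχ := (hmem χ θ hne).mpr hθ
    obtain ⟨θ', -, hθ'⟩ := hres χ hχ
    refine ⟨hχ, fun n => ?_⟩
    rw [hθ' n, show θ = θ' from ?_]
    by_contra h
    rw [show (fun n : N => (χ : G → ℂ) n) = (θ' : N → ℂ) from funext hθ'] at hne
    exact hne (CfsgLib.Char.classInner_irr_ne θ'.2 θ.2 fun e => h (Subtype.ext e).symm)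
  have hcount : ∀ θ ∈ b, Nat.card {χ : IrrCharacter G // χ ∈ B ∧
      ∀ n : N, (χ : G → ℂ) n = (θ : N → ℂ) n} = N.index := by
    intro θ hθ
    obtain ⟨χ₁, hχ₁⟩ := exists_irr_above θ
    obtain ⟨hB₁, hres₁⟩ := hover χ₁ θ hθ hχ₁
    have hfun : (fun n : N => (χ₁ : G → ℂ) n) = (θ : N → ℂ) := funext hres₁
    have hin : ∀ β, act β χ₁ ∈ B ∧ ∀ n : N, (act β χ₁ : G → ℂ) n = (θ : N → ℂ) n := fun β => by
      refine hover (act β χ₁) θ hθ ?_
      rw [show (fun n : N => (act β χ₁ : G → ℂ) n) = (θ : N → ℂ) from funext fun n => by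
        show (β.1 (n : G) : ℂ) * _ = _
        rw [β.2 _ n.2, Units.val_one, one_mul, hres₁], CfsgLib.Char.classInner_irr_self θ.2]
      exact one_ne_zero
    rw [← hcard, ← Nat.card_eq_fintype_card]
    refine (Nat.card_congr (Equiv.ofBijective
      (fun β => (⟨act β χ₁, hin β⟩ : {χ : IrrCharacter G // χ ∈ B ∧
        ∀ n : N, (χ : G → ℂ) n = (θ : N → ℂ) n})) ⟨?_, ?_⟩)).symm
    · intro β γ h
      have h' := Subtype.ext_iff.mp h
      have h1 := hfree χ₁ hB₁ ⟨γ.1⁻¹ * β.1, fun n hn => by simp [β.2 n hn, γ.2 n hn]⟩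
        (Subtype.ext (funext fun g => by
          have hg := congrArg (fun ξ : IrrCharacter G => (ξ : G → ℂ) g) h'
          simp only [act] at hg
          show ((γ.1⁻¹ * β.1) g : ℂ) * (χ₁ : G → ℂ) g = (χ₁ : G → ℂ) g
          simp only [MonoidHom.mul_apply, MonoidHom.inv_apply, Units.val_mul,
            Units.val_inv_eq_inv_val]
          rw [mul_assoc, hg, inv_mul_cancel_left₀ (Units.ne_zero _)]))
      exact Subtype.ext (inv_mul_eq_one.mp h1).symm
    · rintro ⟨ψ, hψ, hψres⟩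
      have h1 := hsumI χ₁ ψ
      rw [hfun, show (fun n : N => (ψ : G → ℂ) n) = (θ : N → ℂ) from funext hψres,
        CfsgLib.Char.classInner_irr_self θ.2] at h1
      obtain ⟨β, -, hβ⟩ := Finset.exists_ne_zero_of_sum_ne_zero (h1 ▸ one_ne_zero :
        ∑ β : CfsgLib.Char.LinTriv N, classInner (act β χ₁ : G → ℂ) (ψ : G → ℂ) ≠ 0)
      refine ⟨β, Subtype.ext ?_⟩
      by_contra hne
      exact hβ (CfsgLib.Char.classInner_irr_ne (act β χ₁).2 ψ.2 fun e => hne (Subtype.ext e))
  refine ⟨hNP, ?_, hres, hcount, ?_, ?_⟩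
  · rwa [Subgroup.inf_subgroupOf_right]
  · choose r hr hreq using fun χ : B => hres χ.1 χ.2
    have e1 : B ≃ Σ θ : b, {χ : IrrCharacter G // χ ∈ B ∧
        ∀ n : N, (χ : G → ℂ) n = (θ.1 : N → ℂ) n} :=
      { toFun := fun χ => ⟨⟨r χ, hr χ⟩, χ.1, χ.2, hreq χ⟩
        invFun := fun x => ⟨x.2.1, x.2.2.1⟩
        left_inv := fun χ => rfl
        right_inv := by
          rintro ⟨⟨θ, hθ⟩, χ, hχ, hval⟩
          have : r ⟨χ, hχ⟩ = θ := Subtype.ext (funext fun n => by rw [← hreq ⟨χ, hχ⟩ n, hval n])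
          subst this
          rfl }
    have := Fintype.ofFinite b
    rw [Nat.card_congr e1, Nat.card_sigma, Finset.sum_congr rfl fun θ _ => hcount θ.1 θ.2,
      Finset.sum_const, Finset.card_univ, smul_eq_mul, mul_comm, Nat.card_eq_fintype_card (α := b)]
  · set E : (N → ℂ) →ₗ[ℂ] (G → ℂ) := Function.ExtendByZero.linearMap ℂ (Subtype.val : N → G)
    have hE : Function.Injective E := fun u v huv => funext fun n => by
      have h := congrFun huv (n : G)
      simpa [E, Function.ExtendByZero.linearMap_apply, Subtype.val_injective.extend_apply] using h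
    have hpart : ∀ (χ : IrrCharacter G) (θ : IrrCharacter N),
        (∀ n : N, (χ : G → ℂ) n = (θ : N → ℂ) n) →
          pRegularPart p (χ : G → ℂ) = E (pRegularPart p (θ : N → ℂ)) := by
      intro χ θ h
      funext g
      by_cases hg : g ∈ N
      · rw [show g = ((⟨g, hg⟩ : N) : G) from rfl, Function.ExtendByZero.linearMap_apply,
          Subtype.val_injective.extend_apply]
        simp only [pRegularPart, IsPRegular, Subgroup.orderOf_mk]
        rw [← h ⟨g, hg⟩]
        by_cases hd : p ∣ orderOf g <;> simp [hd]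
      · rw [Function.ExtendByZero.linearMap_apply, Function.extend_apply' _ _ _
          (fun ⟨n, hn⟩ => hg (hn ▸ n.2)), Pi.zero_apply, pRegularPart,
          if_neg fun hr => hg (mem_of_isPRegular_of_pow_mem hp hr k (hk ▸ N.pow_index_mem g))]
    have himg : (fun χ : IrrCharacter G => pRegularPart p (χ : G → ℂ)) '' B =
        E '' ((fun θ : IrrCharacter N => pRegularPart p (θ : N → ℂ)) '' b) := by
      ext F
      constructor
      · rintro ⟨χ, hχ, rfl⟩
        obtain ⟨θ, hθ, h⟩ := hres χ hχ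
        exact ⟨_, ⟨θ, hθ, rfl⟩, (hpart χ θ h).symm⟩
      · rintro ⟨_, ⟨θ, hθ, rfl⟩, rfl⟩
        obtain ⟨χ, hχ⟩ := exists_irr_above θ
        obtain ⟨h1, h2⟩ := hover χ θ hθ hχ
        exact ⟨χ, h1, hpart χ θ h2⟩
    rw [blockRank, blockRank, himg, Submodule.span_image]
    exact (LinearEquiv.finrank_eq (Submodule.equivMapOfInjective E hE _)).symm

end Cfsg.Agent.S4640
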