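import Cfsg.Statements.S4641
import Cfsg.Agent.Lib.Blocks.Decomp.Block

set_option linter.style.haveILetI false
set_option autoImplicit false
open Cfsg CfsgLib.Blocks CfsgLib.Blocks.Decomp
open scoped CfsgLib.Char

namespace Cfsg.Agent.S4641

/-- Let B be a block of the finite group G relative to a maximal ideal M of the algebraic integers containing the prime p, let p^a be the p-part of the order of G and p^d the order of a defect group D of B, and let g be the greatest common divisor of the degrees of the members of B. Then the p-part of g is exactly p^(a−d), and writing g = p^(a−d)·u there is a positive integer v, prime to p and at least the p-regular rank of B (its number of irreducible Brauer characters), with Σ_{χ ∈ B} χ(1)² = p^(2a−d)·u²·v. -/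
theorem result {G : Type*} [Group G] [Finite G] (p : ℕ) [Fact p.Prime] (M : Ideal Cfsg.AlgInt) (hM : Cfsg.IsPModular p M) (B : Set (Cfsg.IrrCharacter G)) (hB : Cfsg.IsPBlock M B) (D : Subgroup G) (hD : Cfsg.IsDefectGroup p M B D) (a d : ℕ) (ha : (Nat.card G).factorization p = a) (hd : Nat.card D = p ^ d) (g : ℕ) (hg1 : ∀ χ ∈ B, g ∣ Cfsg.charDegree (χ : G → ℂ)) (hg2 : ∀ g' : ℕ, (∀ χ ∈ B, g' ∣ Cfsg.charDegree (χ : G → ℂ)) → g' ∣ g) : g.factorization p = a - d ∧ ∃ v : ℕ, 0 < v ∧ ¬ p ∣ v ∧ Cfsg.blockRank p B ≤ v ∧ ∑ᶠ χ ∈ B, Cfsg.charDegree (χ : G → ℂ) ^ 2 = p ^ (2 * a - d) * (g / p ^ (a - d)) ^ 2 * v := by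
  classical
  have := isPrime_of_isPModular hM
  haveI := Fintype.ofFinite G
  have hp := hM.1
  have hdd : d = blockDefect p B :=
    Nat.pow_right_injective hp.two_le (hd.symm.trans (IsDefectGroup.card_eq hM hB hD))
  subst ha hdd
  obtain ⟨-, -, hall, χ₀, hχ₀, heq⟩ := blockDefect_le_and_degree hM hB
  have hg0 : g ≠ 0 := fun h => (irr_degree_eq χ₀).2.ne' (zero_dvd_iff.mp (h ▸ hg1 χ₀ hχ₀))
  have hpart : g.factorization p = (Nat.card G).factorization p - blockDefect p B := by
    refine le_antisymm ?_ ?_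
    · rw [← heq]
      exact (Nat.factorization_le_iff_dvd hg0 (irr_degree_eq χ₀).2.ne').mpr (hg1 χ₀ hχ₀) p
    · refine (hp.pow_dvd_iff_le_factorization hg0).mp (hg2 _ fun χ hχ => ?_)
      exact (hp.pow_dvd_iff_le_factorization (irr_degree_eq χ).2.ne').mpr (hall χ hχ)
  refine ⟨hpart, ?_⟩
  have hgu : g = p ^ ((Nat.card G).factorization p - blockDefect p B) *
      (g / p ^ ((Nat.card G).factorization p - blockDefect p B)) := by
    rw [← hpart]
    exact (Nat.ordProj_mul_ordCompl_eq_self g p).symm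
  have hu : ¬ p ∣ g / p ^ ((Nat.card G).factorization p - blockDefect p B) := by
    rw [← hpart]
    exact Nat.not_dvd_ordCompl hp hg0
  obtain ⟨S⟩ := nonempty_simples M G
  obtain ⟨v, hv, hle, hsum⟩ := sum_sq_factor S hM hB hg1 hgu hu
  have hrank := blockRank_le_card_inB S hM hB
  have hpos := blockRank_pos (p := p) (IsPBlock.nonempty hB) hp.ne_one
  refine ⟨v, by omega, hv, hrank.trans hle, ?_⟩
  rw [← hsum]
  rw [finsum_mem_eq_finite_toFinset_sum _ (Set.toFinite B)]
  exact Finset.sum_congr (by ext; simp) fun _ _ => rfl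

end Cfsg.Agent.S4641
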