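import Cfsg.Statements.S4644
import Cfsg.Agent.Lib.Blocks.Watanabe.Main

set_option linter.style.haveILetI false

set_option autoImplicit false
open Cfsg

namespace Cfsg.Agent.S4644

/-- Let B be a block of the finite group G relative to a maximal ideal M of the algebraic integers containing the prime p, with a commutative defect group P; let c be a block of C_G(P) inducing B and T the stabilizer of c in N_G(P). Let u be an element of P fixed under conjugation by every element of T, H = C_G(u) (so C_G(P) ≤ H), and f the block of H induced by c inside H. Then B and f have the same p-regular rank and the same number of irreducible characters. -/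
theorem result {G : Type*} [Group G] [Finite G] (p : ℕ) [Fact p.Prime] (M : Ideal Cfsg.AlgInt) (hM : Cfsg.IsPModular p M) (B : Set (Cfsg.IrrCharacter G)) (hB : Cfsg.IsPBlock M B) (P : Subgroup G) (hPD : Cfsg.IsDefectGroup p M B P) (hPab : ∀ x ∈ P, ∀ y ∈ P, x * y = y * x) (c : Set (Cfsg.IrrCharacter (Subgroup.centralizer (P : Set G)))) (hc : Cfsg.IsInducedBlock M (Subgroup.centralizer (P : Set G)) c B) (T : Subgroup G) (hT : ∀ g : G, g ∈ T ↔ (g ∈ Subgroup.normalizer (P : Set G) ∧ Cfsg.StabilizesBlock (Subgroup.centralizer (P : Set G)) c g)) (u : G) (hu : u ∈ P) (huT : ∀ g ∈ T, g * u * g⁻¹ = u) (H : Subgroup G) (hH : H = Subgroup.centralizer ({u} : Set G)) (f : Set (Cfsg.IrrCharacter H)) (hf : Cfsg.IsInducedBlockIn M H (Subgroup.centralizer (P : Set G)) c f) : Cfsg.blockRank p B = Cfsg.blockRank p f ∧ Nat.card B = Nat.card f := by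
  classical
  have := Fintype.ofFinite G
  have := CfsgLib.Blocks.isPrime_of_isPModular hM
  obtain ⟨hmax, hm⟩ := CfsgLib.Blocks.maximal_of_induced hM hPD hPab hc
  obtain rfl : T = CfsgLib.Blocks.blockT P c :=
    Subgroup.ext fun g => (hT g).trans CfsgLib.Blocks.mem_blockT.symm
  have hH' : H = CfsgLib.Blocks.cz u := hH.trans (CfsgLib.Blocks.cz_eq u).symm
  subst hH'
  have hPH : P ≤ CfsgLib.Blocks.cz u := fun a ha b hb =>
    hPab b (Subgroup.zpowers_le.mpr hu hb) a ha
  let := Fintype.ofFinite (CfsgLib.Blocks.cz u)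
  obtain ⟨hind, -⟩ := CfsgLib.Blocks.below_data hM hmax.1.1 hPab hPH
    (CfsgLib.Blocks.FreeQuot.bk_subpair hM hmax.1.1 hu)
  rw [CfsgLib.Blocks.IsInducedBlockIn.unique hf hind]
  exact CfsgLib.Blocks.Watanabe.counts_eq hM hmax hPab hm hu huT

end Cfsg.Agent.S4644
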