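import Cfsg.Statements.S4645
import Cfsg.Agent.Lib.Blocks.AbelianLocal
import Cfsg.Agent.Lib.Blocks.NilpotentStar
import Cfsg.Agent.S4633
import Cfsg.Agent.Lib.Char.CyclicTI

-- import your own Cfsg.Agent.* helpers here

set_option autoImplicit false
open Cfsg

namespace Cfsg.Agent.S4645

/-- Let B be a block of the finite group G relative to a maximal ideal M of the algebraic integers containing the prime p, with a nontrivial cyclic defect group P; let c be a block of C_G(P) inducing B and T the stabilizer of c in N_G(P). Let Q be a nontrivial subgroup of P (so C_G(P) ≤ C_G(Q)), f the block of C_G(Q) induced by c inside C_G(Q), and T' the stabilizer of f in N_G(Q). Then T' = T·C_G(Q), the index of C_G(Q) in T' equals the index of C_G(P) in T, f has p-regular rank 1, and f is a nilpotent block of C_G(Q). -/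
theorem result {G : Type*} [Group G] [Finite G] (p : ℕ) [Fact p.Prime] (M : Ideal Cfsg.AlgInt) (hM : Cfsg.IsPModular p M) (B : Set (Cfsg.IrrCharacter G)) (hB : Cfsg.IsPBlock M B) (P : Subgroup G) (hPD : Cfsg.IsDefectGroup p M B P) (hP1 : P ≠ ⊥) (hcyc : IsCyclic P) (c : Set (Cfsg.IrrCharacter (Subgroup.centralizer (P : Set G)))) (hc : Cfsg.IsInducedBlock M (Subgroup.centralizer (P : Set G)) c B) (T : Subgroup G) (hT : ∀ g : G, g ∈ T ↔ (g ∈ Subgroup.normalizer (P : Set G) ∧ Cfsg.StabilizesBlock (Subgroup.centralizer (P : Set G)) c g)) (Q : Subgroup G) (hQP : Q ≤ P) (hQ1 : Q ≠ ⊥) (f : Set (Cfsg.IrrCharacter (Subgroup.centralizer (Q : Set G)))) (hf : Cfsg.IsInducedBlockIn M (Subgroup.centralizer (Q : Set G)) (Subgroup.centralizer (P : Set G)) c f) (T' : Subgroup G) (hT' : ∀ g : G, g ∈ T' ↔ (g ∈ Subgroup.normalizer (Q : Set G) ∧ Cfsg.StabilizesBlock (Subgroup.centralizer (Q : Set G)) f g)) : T' = T ⊔ Subgroup.centralizer (Q : Set G) ∧ (Subgroup.centralizer (Q :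 Set G)).relIndex T' = (Subgroup.centralizer (P : Set G)).relIndex T ∧ Cfsg.blockRank p f = 1 ∧ Cfsg.IsNilpotentBlock p M f := by
  classical
  have := Fintype.ofFinite G
  have := CfsgLib.Blocks.isPrime_of_isPModular hM
  have hPab : ∀ x ∈ P, ∀ y ∈ P, x * y = y * x := fun x hx y hy =>
    congrArg Subtype.val
      ((IsCyclic.commutative (α := P)).is_comm.comm ⟨x, hx⟩ ⟨y, hy⟩)
  obtain ⟨hmax, -⟩ := CfsgLib.Blocks.maximal_of_induced hM hPD hPab hc
  obtain rfl : T = CfsgLib.Blocks.blockT P c := Subgroup.ext fun g => (hT g).trans CfsgLib.Blocks.mem_blockT.symm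
  obtain rfl : T' = CfsgLib.Blocks.blockT Q f := Subgroup.ext fun g => (hT' g).trans CfsgLib.Blocks.mem_blockT.symm
  have hPe := hmax.1.1
  have hCT : ((Subgroup.centralizer (P : Set G)).subgroupOf (CfsgLib.Blocks.blockT P c)).Normal :=
    Subgroup.normal_subgroupOf_of_le_normalizer
      (CfsgLib.Blocks.blockT_le_normalizer.trans fun a ha => CfsgLib.Blocks.mem_normalizer_centralizer ha)
  obtain ⟨-, -, hfree⟩ := Cfsg.Agent.S4633.result p M hM B hB P hPD hP1 hcyc c hc _
    (fun g => CfsgLib.Blocks.mem_blockT) (hn := hCT)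
  obtain ⟨f₀, hf₀⟩ := CfsgLib.Blocks.exists_le_top hM hPe hQP
  have hPH : P ≤ Subgroup.centralizer (Q : Set G) := fun a ha b hb => hPab b (hQP hb) a ha
  obtain ⟨hind, -⟩ := CfsgLib.Blocks.below_data hM hPe hPab hPH hf₀
  obtain rfl : f = f₀ := CfsgLib.Blocks.IsInducedBlockIn.unique hf hind
  have hnil := CfsgLib.Blocks.isNilpotentBlock_of_free hM hmax hPab hfree hQ1
    ((CfsgLib.Blocks.SubpairLE.isBrauerPairOf_iff hM hf₀ hB).mp hmax.1)
  have hTQ : CfsgLib.Blocks.blockT P c ≤ Subgroup.normalizer (Q : Set G) := by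
    intro g hg
    refine Subgroup.mem_normalizer_iff_map_conj_eq.mpr ?_
    haveI := hcyc
    refine CfsgLib.Char.CyclicTI.eq_of_card_eq_in_cyclic ?_ hQP
      (Subgroup.card_map_of_injective (MulAut.conj g).injective)
    rintro _ ⟨q, hq, rfl⟩
    exact (Subgroup.mem_normalizer_iff.mp (CfsgLib.Blocks.blockT_le_normalizer hg) q).mp (hQP hq)
  have hsup : CfsgLib.Blocks.blockT Q f =
      CfsgLib.Blocks.blockT P c ⊔ Subgroup.centralizer (Q : Set G) := by
    refine le_antisymm (fun x hx => ?_) (sup_le (fun y hy => ?_) CfsgLib.Blocks.centralizer_le_blockT)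
    · obtain ⟨y, hy, k, hk, rfl⟩ := CfsgLib.Blocks.exists_blockT_factor hM hmax hPab hf₀ hx
      exact Subgroup.mul_mem_sup hy hk
    · exact CfsgLib.Blocks.mem_blockT_of_top hM hPe hf₀ hy (hTQ hy)
  refine ⟨hsup, ?_, (CfsgLib.Blocks.blockRank_eq_one_of_nilpotent hM hnil).1, hnil⟩
  have hCN : Subgroup.centralizer (Q : Set G) ≤ Subgroup.normalizer (Q : Set G) :=
    Subgroup.centralizer_le_normalizer _
  rw [hsup, ← Subgroup.relIndex_subgroupOf (sup_le hTQ hCN), Subgroup.subgroupOf_sup hTQ hCN,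
    Subgroup.relIndex_sup_right, Subgroup.relIndex_subgroupOf hTQ, ← Subgroup.inf_relIndex_right]
  congr 1
  refine le_antisymm (fun g hg => ?_)
    (le_inf (Subgroup.centralizer_le (SetLike.coe_subset_coe.mpr hQP)) CfsgLib.Blocks.centralizer_le_blockT)
  obtain ⟨⟨q, hq⟩, hq1⟩ := Subgroup.ne_bot_iff_exists_ne_one.mp hQ1
  exact hfree g hg.2 q (hQP hq) (fun h => hq1 (Subtype.ext h)) (by
    rw [← hg.1 q hq, mul_inv_cancel_right])

end Cfsg.Agent.S4645
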