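import Cfsg.Statements.S4647
import Cfsg.Agent.Lib.Blocks.Bimodule.Fusion
import Cfsg.Agent.Lib.Blocks.CoreKernel
import Cfsg.Agent.Lib.Blocks.MaxPairs

set_option linter.style.haveILetI false
open Cfsg CfsgLib.Blocks CfsgLib.GrpRing
open CfsgLib.Blocks.CyclicDefect (eB)
open scoped CfsgLib.Char

set_option autoImplicit false
open Cfsg

namespace Cfsg.Agent.S4647

/-- Let B be a block of the finite group G relative to a maximal ideal M of the algebraic integers containing the prime p, p^a the p-part of the order of G and p^d the order of a defect group D of B. If Σ_{χ ∈ B} χ(1)² = p^(2a−d) (the least possible value), then B is nilpotent. -/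
theorem result {G : Type*} [Group G] [Finite G] (p : ℕ) [Fact p.Prime] (M : Ideal Cfsg.AlgInt) (hM : Cfsg.IsPModular p M) (B : Set (Cfsg.IrrCharacter G)) (hB : Cfsg.IsPBlock M B) (D : Subgroup G) (hD : Cfsg.IsDefectGroup p M B D) (a d : ℕ) (ha : (Nat.card G).factorization p = a) (hd : Nat.card D = p ^ d) (hmin : ∑ᶠ χ ∈ B, Cfsg.charDegree (χ : G → ℂ) ^ 2 = p ^ (2 * a - d)) : Cfsg.IsNilpotentBlock p M B := by
  classical
  have := isPrime_of_isPModular hM
  haveI := Fintype.ofFinite G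
  have := charP_resField hM
  obtain ⟨P, hDP⟩ := (IsDefectGroup.isPGroup hM hD).exists_le_sylow
  obtain ⟨c, hc⟩ := exists_pair_of_defectGroup hM hB hD
  have hmax := isMaximalBrauerPair_of_defectGroup hM hD hc
  set E : G → ResField M := fun g => res M (blockCoeff B g) with hE
  have hl := IsPBlock.memLocalRing_blockCoeff hB
  -- the support
  obtain ⟨z₀, hz₀, hz₀E⟩ : ∃ z, z ∈ Subgroup.centralizer (D : Set G) ∧ E z ≠ 0 := by
    obtain ⟨g, hg, hsyl⟩ := isDefectGroup_iff.mp hD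
    exact ⟨g, Subgroup.mem_centralizer_iff.mpr fun x hx =>
      Subgroup.mem_centralizer_singleton_iff.mp (hsyl.1 hx),
      fun h => hg.2.1 ((res_eq_zero_iff hg.1).mp h)⟩
  have hsupp : ∀ z, E z ≠ 0 → ∀ A : Subgroup G, A ≤ P → A ≤ Subgroup.centralizer ({z} : Set G) →
      Nat.card A ≤ Nat.card D := fun z hz A hAP hAz => by
    obtain ⟨x, hx⟩ := IsDefectGroup.exists_le_conj_of_support hM hB hD
      (fun h => hz (res_eq_zero h)) (P.2.to_le hAP) hAz
    exact (Subgroup.card_le_of_le hx).trans_eq (card_map_conj _ _)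
  have hidem : ∀ g, ∑ y, E y * E (y⁻¹ * g) = E g := fun g => by
    simp only [hE]
    conv_rhs => rw [← conv_blockCoeff_self B, conv,
      res_sum _ _ fun y _ => memLocalRing_mul (hl y) (hl _)]
    exact Finset.sum_congr rfl fun y _ => (res_mul (hl y) (hl _)).symm
  have hcl : ∀ g h, E (h * g * h⁻¹) = E g := fun g h => by
    simp only [hE, isClassFunction_blockCoeff B g h]
  have hrank : Module.finrank (ResField M)
      (LinearMap.range (Bimodule.op fun a b : G => E (a * b⁻¹))) * Nat.card D ≤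
      Nat.card P * Nat.card P := by
    have hda : d ≤ a := by
      rw [← ha]
      refine (hM.1.pow_dvd_iff_le_factorization Nat.card_pos.ne').mp ?_
      rw [← hd]
      exact Subgroup.card_subgroup_dvd_card D
    refine (Nat.mul_le_mul_right _ (Bimodule.finrank_range_le hB)).trans ?_
    rw [finsum_mem_eq_finite_toFinset_sum _ (Set.toFinite B)] at hmin
    rw [show ∑ χ : IrrCharacter G with χ ∈ B, charDegree (χ : G → ℂ) ^ 2 = p ^ (2 * a - d) from
        Eq.trans (Finset.sum_congr (by ext; simp) fun _ _ => rfl) hmin, hd, ← pow_add,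
      Sylow.card_eq_multiplicity P, ha, ← pow_add]
    exact Nat.pow_le_pow_right hM.1.pos (by omega)
  refine ⟨hB, fun Q e hQe x hx _ hxp => ?_⟩
  obtain ⟨y, hy⟩ := exists_conjPair_le_maximal hM hmax hQe
  have hle : Q.map (MulAut.conj y).toMonoidHom ≤ D := SubpairLE.le hy
  set Q' : Subgroup G := Q.map (MulAut.conj y).toMonoidHom with hQ'
  set x' : G := y * x * y⁻¹ with hx'
  have hnorm : ∀ u, u ∈ Q' ↔ x' * u * x'⁻¹ ∈ Q' := fun u => by
    simp only [hQ', Subgroup.mem_map_equiv, MulAut.conj_symm_apply, hx']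
    rw [show y⁻¹ * (y * x * y⁻¹ * u * (y * x * y⁻¹)⁻¹) * y = x * (y⁻¹ * u * y) * x⁻¹ by group]
    exact (Subgroup.mem_normalizer_iff.mp hx _)
  have hnorm' : ∀ u ∈ Q', x'⁻¹ * u * x' ∈ Q' := fun u hu =>
    (hnorm _).mpr (by simpa [mul_assoc] using hu)
  obtain ⟨h, hh, hxh⟩ := Bimodule.exists_mul_eq (p := p) P.2 E hcl hidem hDP hz₀ hz₀E hsupp hrank
    (hle.trans hDP) (Subgroup.centralizer_le (s := (Q' : Set G)) hle hz₀) hz₀E
    (g := x') fun u hu => hDP (hle (hnorm' u hu))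
  set C := Subgroup.centralizer (Q' : Set G) with hC
  set N := Subgroup.normalizer (Q' : Set G) with hN
  have hxN : x' ∈ N := Subgroup.mem_normalizer_iff.mpr hnorm
  have hCN : C ≤ N := Subgroup.centralizer_le_normalizer _
  have hhN : h ∈ N := by
    have : h = (x' * h⁻¹)⁻¹ * x' := by group
    rw [this]
    exact mul_mem (inv_mem (hCN hxh)) hxN
  let π := QuotientGroup.mk' (C.subgroupOf N)
  have heq : π ⟨x', hxN⟩ = π ⟨h, hhN⟩ := by
    refine QuotientGroup.eq.mpr (Subgroup.mem_subgroupOf.mpr ?_)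
    have e : x'⁻¹ * h = x'⁻¹ * (x' * h⁻¹)⁻¹ * x' := by group
    show x'⁻¹ * h ∈ C
    rw [e]
    have hn : (C.subgroupOf N).Normal := inferInstance
    have := hn.conj_mem ⟨(x' * h⁻¹)⁻¹, hCN (inv_mem hxh)⟩
      (Subgroup.mem_subgroupOf.mpr (inv_mem hxh)) ⟨x'⁻¹, inv_mem hxN⟩
    simpa [Subgroup.mem_subgroupOf] using this
  obtain ⟨n, hn⟩ := P.2 ⟨h, hh⟩
  have hpow : x' ^ p ^ n ∈ C := by
    have h1 : π (⟨x', hxN⟩ ^ p ^ n) = π (⟨h, hhN⟩ ^ p ^ n) := by rw [map_pow, map_pow, heq]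
    have h2 : (⟨h, hhN⟩ : N) ^ p ^ n = 1 :=
      Subtype.ext (congrArg Subtype.val hn : h ^ p ^ n = 1)
    rw [h2, map_one] at h1
    have h3 := (QuotientGroup.eq_one_iff (N := C.subgroupOf N) _).mp
      (show ((((⟨x', hxN⟩ : N) ^ p ^ n : N)) : N ⧸ C.subgroupOf N) = 1 from h1)
    exact Subgroup.mem_subgroupOf.mp h3
  have hx'p : IsPRegular p x' := IsPRegular.of_isConj (isConj_iff.mpr ⟨y, rfl⟩) hxp
  have hx'C : x' ∈ C := by
    obtain ⟨m, hm⟩ :=
      exists_pow_eq_self_of_coprime ((hM.1.coprime_iff_not_dvd.mpr hx'p).pow_left n)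
    rw [← hm]
    exact pow_mem hpow m
  refine Subgroup.mem_centralizer_iff.mpr fun u hu => ?_
  have h1 : y * u * y⁻¹ * x' = x' * (y * u * y⁻¹) :=
    Subgroup.mem_centralizer_iff.mp hx'C _ (Subgroup.mem_map.mpr ⟨u, hu, rfl⟩)
  calc u * x = y⁻¹ * (y * u * y⁻¹ * x') * y := by rw [hx']; group
    _ = x * u := by rw [h1, hx']; group

end Cfsg.Agent.S4647
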