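import Cfsg.Statements.S4649
import Cfsg.Agent.Lib.Blocks.CyclicDefect.Setup

set_option autoImplicit false
open Cfsg

namespace Cfsg.Agent.S4649

/-- A block with cyclic defect group, of a finite group relative to a maximal ideal M of the algebraic integers containing the prime p, is nilpotent if and only if its p-regular rank is 1 (it has a unique irreducible Brauer character). -/
theorem result {G : Type*} [Group G] [Finite G] (p : ℕ) [Fact p.Prime] (M : Ideal Cfsg.AlgInt) (hM : Cfsg.IsPModular p M) (B : Set (Cfsg.IrrCharacter G)) (hB : Cfsg.IsPBlock M B) (P : Subgroup G) (hPD : Cfsg.IsDefectGroup p M B P) (hcyc : IsCyclic P) : Cfsg.IsNilpotentBlock p M B ↔ Cfsg.blockRank p B = 1 := by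
  classical
  have : Fintype G := Fintype.ofFinite G
  have := CfsgLib.Blocks.isPrime_of_isPModular hM
  refine ⟨fun hnil => (CfsgLib.Blocks.blockRank_eq_one_of_nilpotent hM hnil).1, fun h1 => ?_⟩
  obtain ⟨c, hc⟩ := CfsgLib.Blocks.exists_pair_of_defectGroup hM hB hPD
  have hmax := CfsgLib.Blocks.isMaximalBrauerPair_of_defectGroup hM hPD hc
  refine CfsgLib.Blocks.FreeQuot.isNilpotentBlock_of_relIndex_one hM hmax
    (CfsgLib.Blocks.CyclicDefect.comm_of_cyclic hcyc) ?_
  rcases eq_or_ne P ⊥ with rfl | hP1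
  · refine Subgroup.relIndex_eq_one.mpr fun g _ => Subgroup.mem_centralizer_iff.mpr fun x hx => ?_
    rw [Subgroup.mem_bot.mp hx, one_mul, mul_one]
  · rw [← h1, (CfsgLib.Blocks.CyclicDefect.counts hM hmax hcyc hP1 rfl).1]

end Cfsg.Agent.S4649
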