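import Cfsg.Statements.S4651
import Cfsg.Agent.Lib.Blocks.ChainSum
import Cfsg.Agent.Lib.Blocks.SubgroupRankSum

set_option autoImplicit false
set_option linter.style.haveILetI false
open Cfsg

namespace Cfsg.Agent.S4651

/-- An alternating-sum identity over chains of p-subgroups (the character-count form behind the chain reformulation of Alperin's weight conjecture, which holds unconditionally for the difference k − l). Let b be a block of the finite group G relative to a maximal ideal M of the algebraic integers containing the prime p. Consider the nonempty chains s = {Q_0 < Q_1 < ⋯ < Q_m} of nontrivial p-subgroups of G in which every member is normal in the largest member; let N_G(s) be the intersection of the normalizers of the members (the stabilizer of the chain), and let b_s be the set of irreducible characters of N_G(s) lying in blocks of N_G(s) that induce b. Then #G · (k(b) − l(b)) equals the sum over all such chains s of (−1)^m · #N_G(s) · (k(b_s)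 − l(b_s)), where k counts irreducible characters and l is the p-regular rank; equivalently, k(b) − l(b) is the alternating sum of k(b_s) − l(b_s) over representatives of the conjugacy classes of such chains. -/
theorem result {G : Type*} [Group G] [Finite G] (p : ℕ) [Fact p.Prime] (M : Ideal Cfsg.AlgInt) (hM : Cfsg.IsPModular p M) (b : Set (Cfsg.IrrCharacter G)) (hb : Cfsg.IsPBlock M b) : (Nat.card G : ℤ) * ((Nat.card b : ℤ) - (Cfsg.blockRank p b : ℤ)) = ∑ᶠ s ∈ {s : Finset (Subgroup G) | s.Nonempty ∧ (∀ Q ∈ s, ∀ R ∈ s, Q ≤ R ∨ R ≤ Q) ∧ (∀ Q ∈ s, Q ≠ ⊥ ∧ IsPGroup p Q) ∧ ∃ T ∈ s, ∀ Q ∈ s, Q ≤ T ∧ T ≤ Subgroup.normalizer ((Q : Subgroup G) : Set G)}, (-1 : ℤ) ^ (s.card - 1) * (Nat.card (((⨅ Q ∈ s, Subgroup.normalizer ((Q : Subgroup G) : Set G) : Subgroup G))) : ℤ) * ((Nat.card {ψ : Cfsg.IrrCharacter (((⨅ Q ∈ s, Subgroup.normalizer ((Q : Subgroup G) : Set G) : Subgroup G))) | ∃ β : Set (Cfsg.IrrCharacter (((⨅ Q ∈ s, Subgroup.normalizer ((Q : Subgroup G) : Set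 G) : Subgroup G)))), ψ ∈ β ∧ Cfsg.IsInducedBlock M (((⨅ Q ∈ s, Subgroup.normalizer ((Q : Subgroup G) : Set G) : Subgroup G))) β b} : ℤ) - (Cfsg.blockRank p {ψ : Cfsg.IrrCharacter (((⨅ Q ∈ s, Subgroup.normalizer ((Q : Subgroup G) : Set G) : Subgroup G))) | ∃ β : Set (Cfsg.IrrCharacter (((⨅ Q ∈ s, Subgroup.normalizer ((Q : Subgroup G) : Set G) : Subgroup G)))), ψ ∈ β ∧ Cfsg.IsInducedBlock M (((⨅ Q ∈ s, Subgroup.normalizer ((Q : Subgroup G) : Set G) : Subgroup G))) β b} : ℤ)) := by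
  classical
  have : Fintype G := Fintype.ofFinite G
  have : Fintype (Subgroup G) := Fintype.ofFinite _
  let S : Finset (Finset (Subgroup G)) := Finset.univ.filter fun s =>
    s.Nonempty ∧ CfsgLib.Blocks.ChainSum.IsPChain p s ∧ ∀ Q ∈ s, ¬ CfsgLib.Blocks.ChainSum.IsBad s Q
  have hS : ∀ s : Finset (Subgroup G), s ∈ S ↔ (s.Nonempty ∧ (∀ Q ∈ s, ∀ R ∈ s, Q ≤ R ∨ R ≤ Q) ∧
      (∀ Q ∈ s, Q ≠ ⊥ ∧ IsPGroup p Q) ∧ ∃ T ∈ s, ∀ Q ∈ s, Q ≤ T ∧
        T ≤ Subgroup.normalizer ((Q : Subgroup G) : Set G)) := by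
    intro s
    simp only [S, Finset.mem_filter, Finset.mem_univ, true_and]
    constructor
    · rintro ⟨hne, hc, hgood⟩
      refine ⟨hne, hc.1, hc.2, s.sup id, CfsgLib.Blocks.ChainSum.sup_mem hc.1 hne, fun Q hQ => ?_⟩
      have hle : Q ≤ s.sup id := Finset.le_sup (f := id) hQ
      refine ⟨hle, ?_⟩
      rcases eq_or_lt_of_le hle with h | h
      · rw [h]; exact Subgroup.le_normalizer
      · by_contra hn
        exact hgood _ (CfsgLib.Blocks.ChainSum.sup_mem hc.1 hne) ⟨Q, hQ, h, hn⟩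
    · rintro ⟨hne, h1, h2, T, -, hT⟩
      exact ⟨hne, ⟨h1, h2⟩, fun Q hQ ⟨Q', hQ', _, hn⟩ => hn ((hT Q hQ).1.trans (hT Q' hQ').2)⟩
  rw [finsum_mem_eq_sum_of_inter_support_eq (t := S) _ (by
    ext s; simp only [Set.mem_inter_iff, Set.mem_ofPred_eq, Finset.mem_coe, hS])]
  rw [CfsgLib.Blocks.RankSum.group_identity hM hb]
  symm
  calc _ = ∑ s ∈ S, (-1 : ℤ) ^ (s.card - 1) *
        ∑ v : G with v ∈ CfsgLib.Blocks.ChainSum.stab s ∧ v ≠ 1 ∧ ∃ k : ℕ, orderOf v = p ^ k,
          CfsgLib.Blocks.RankSum.weight p M b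
            (Subgroup.centralizer ({v} : Set G) ⊓ CfsgLib.Blocks.ChainSum.stab s) :=
        Finset.sum_congr rfl fun s hs => (mul_assoc _ _ _).trans
          (congrArg _ (CfsgLib.Blocks.RankSum.subgroup_identity hM b (CfsgLib.Blocks.ChainSum.stab s)))
    _ = ∑ v : G with v ≠ 1 ∧ ∃ k : ℕ, orderOf v = p ^ k,
        ∑ s ∈ S.filter (fun s => v ∈ CfsgLib.Blocks.ChainSum.stab s), (-1 : ℤ) ^ (s.card - 1) *
          CfsgLib.Blocks.RankSum.weight p M b
            (Subgroup.centralizer ({v} : Set G) ⊓ CfsgLib.Blocks.ChainSum.stab s) := by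
        simp only [Finset.mul_sum, Finset.sum_filter]
        rw [Finset.sum_comm]
        refine Finset.sum_congr rfl fun v _ => ?_
        by_cases hv : v ≠ 1 ∧ ∃ k : ℕ, orderOf v = p ^ k <;> simp [hv]
    _ = _ := by
        refine Finset.sum_congr rfl fun v hv => ?_
        obtain ⟨-, hv1, hv⟩ := Finset.mem_filter.mp hv
        refine CfsgLib.Blocks.ChainSum.normal_chain_sum hv hv1 _ _ fun s => ?_
        simp only [S, Finset.mem_filter, Finset.mem_univ, true_and, and_assoc]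

end Cfsg.Agent.S4651
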