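import Cfsg.Statements.S4654
import Cfsg.Agent.Lib.Blocks.NormalPBlocks

set_option autoImplicit false
open Cfsg

namespace Cfsg.Agent.S4654

open CfsgLib.Blocks in
open scoped CfsgLib.Char in
theorem formula {G : Type*} [Group G] [Fintype G] (p : ℕ) (M : Ideal Cfsg.AlgInt) [M.IsPrime] (hM : Cfsg.IsPModular p M) (P : Subgroup G) [P.Normal] (B : Set (Cfsg.IrrCharacter G)) (e : Set (Cfsg.IrrCharacter (Subgroup.centralizer (P : Set G)))) (hBe : Cfsg.IsBrauerPairOf p M B P e) (T : Subgroup G) (hT : ∀ x : G, x ∈ T ↔ Cfsg.StabilizesBlock (Subgroup.centralizer (P : Set G)) e x) (g : G) :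
    Cfsg.blockCoeff B g = (Nat.card T : ℂ)⁻¹ * ∑ x : G, Cfsg.subgroupBlockCoeff (Subgroup.centralizer (P : Set G)) e (x⁻¹ * g * x) := by
  classical
  have he := hBe.1.2
  have hN : ∀ x : G, x ∈ Subgroup.normalizer (P : Set G) := fun x => by
    rw [Subgroup.normalizer_eq_top]; exact Subgroup.mem_top x
  have hC : ∀ x g : G, x * g * x⁻¹ ∈ Subgroup.centralizer (P : Set G) ↔
      g ∈ Subgroup.centralizer (P : Set G) :=
    fun x => conj_mem_iff_of_mem_normalizer (mem_normalizer_centralizer (hN x))
  set c : G → Set (Cfsg.IrrCharacter (Subgroup.centralizer (P : Set G))) := fun x =>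
    conjSet x (Subgroup.centralizer (P : Set G)) (Subgroup.centralizer (P : Set G)) e
  have hterm : ∀ x : G, Cfsg.subgroupBlockCoeff (Subgroup.centralizer (P : Set G)) e (x⁻¹ * g * x) =
      Cfsg.subgroupBlockCoeff (Subgroup.centralizer (P : Set G)) (c x) g := fun x => by
    have h := subgroupBlockCoeff_conjSet (hC x) e (x⁻¹ * g * x)
    rw [show x * (x⁻¹ * g * x) * x⁻¹ = g by group] at h
    exact h.symm
  have hmaps : ∀ x ∈ (Finset.univ : Finset G), c x ∈ pairOrbit M P e := fun x _ =>
    conjSet_mem_pairOrbit he (hN x) (self_mem_pairOrbit he)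
  have hfib : ∀ f ∈ pairOrbit M P e,
      (∑ x : G with c x = f, Cfsg.subgroupBlockCoeff (Subgroup.centralizer (P : Set G)) (c x) g) =
        (Nat.card T : ℂ) * Cfsg.subgroupBlockCoeff (Subgroup.centralizer (P : Set G)) f g := fun f hf => by
    obtain ⟨x₀, -, hx₀⟩ := (mem_pairOrbit he).mp hf
    rw [Finset.sum_congr rfl (g := fun _ => Cfsg.subgroupBlockCoeff (Subgroup.centralizer (P : Set G)) f g)
      (fun x hx => by rw [(Finset.mem_filter.mp hx).2]), Finset.sum_const, nsmul_eq_mul]
    congr 2
    rw [Nat.card_eq_fintype_card]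
    refine Finset.card_nbij' (fun x => x₀⁻¹ * x) (fun t => x₀ * t) ?_ ?_ ?_ ?_ |>.trans
      (Fintype.card_subtype _).symm
    · intro x hx
      have hx' := (Finset.mem_filter.mp hx).2
      refine Finset.mem_filter.mpr ⟨Finset.mem_univ _, (hT _).mpr (stabilizesBlock_iff.mpr
        ⟨mem_normalizer_centralizer (hN _), ?_⟩)⟩
      rw [← conjSet_conjSet (hC x) (hC x₀⁻¹)]
      show conjSet x₀⁻¹ _ _ (c x) = e
      rw [hx', ← hx₀, conjSet_conjSet (hC x₀) (hC x₀⁻¹), inv_mul_cancel,
        conjSet_of_mem (one_mem _)]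
    · intro t ht
      refine Finset.mem_filter.mpr ⟨Finset.mem_univ _, ?_⟩
      have ht' := (stabilizesBlock_iff.mp ((hT t).mp (Finset.mem_filter.mp ht).2)).2
      show conjSet (x₀ * t) _ _ e = f
      rw [← conjSet_conjSet (hC t) (hC x₀), ht', hx₀]
    · exact fun x _ => mul_inv_cancel_left x₀ x
    · exact fun t _ => inv_mul_cancel_left x₀ t
  rw [Finset.sum_congr rfl fun x _ => hterm x, ← Finset.sum_fiberwise_of_maps_to hmaps,
    Finset.sum_congr rfl hfib, ← Finset.mul_sum, inv_mul_cancel_left₀ (Nat.cast_ne_zero.mpr Nat.card_pos.ne'),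
    ← orbitFun_eq_blockCoeff hM P hBe]
  rfl


/-- Fix a prime p and a maximal ideal M of the algebraic integers containing p. Let P be a normal p-subgroup of the finite group G, B a p-block of G and e a p-block of C_G(P) such that (P, e) is a Brauer pair of B (as P is normal, this says that e occurs in the idempotent of B, which is supported on C_G(P)). Let T be the stabilizer of e in G under conjugation. Then the idempotent of e is a block idempotent of T: some block E of T has, at every element of T, the same idempotent coefficient as e (zero off C_G(P)); and the idempotent of B is the sum of the distinct G-conjugates of the idempotent of e: its coefficient at g is the sum over all x in G of the coefficient of e at x⁻¹ g x, divided by the order of T. -/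
theorem result {G : Type*} [Group G] [Fintype G] (p : ℕ) [Fact p.Prime] (M : Ideal Cfsg.AlgInt) (hM : Cfsg.IsPModular p M) (P : Subgroup G) [P.Normal] (hP : IsPGroup p P) (B : Set (Cfsg.IrrCharacter G)) (e : Set (Cfsg.IrrCharacter (Subgroup.centralizer (P : Set G)))) (hBe : Cfsg.IsBrauerPairOf p M B P e) (T : Subgroup G) (hT : ∀ x : G, x ∈ T ↔ Cfsg.StabilizesBlock (Subgroup.centralizer (P : Set G)) e x) : (∃ E : Set (Cfsg.IrrCharacter T), Cfsg.IsPBlock M E ∧ ∀ t : T, Cfsg.blockCoeff E t = Cfsg.subgroupBlockCoeff (Subgroup.centralizer (P : Set G)) e (t : G)) ∧ ∀ g : G, Cfsg.blockCoeff B g = (Nat.card T : ℂ)⁻¹ * ∑ x : G, Cfsg.subgroupBlockCoeff (Subgroup.centralizer (P : Set G)) e (x⁻¹ * g * x) := by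
  classical
  have := CfsgLib.Blocks.isPrime_of_isPModular hM
  have : Fintype T := Fintype.ofFinite T
  have hPN : ∀ x : G, x ∈ Subgroup.normalizer (P : Set G) := fun x => by
    rw [Subgroup.normalizer_eq_top]; exact Subgroup.mem_top x
  refine ⟨CfsgLib.Blocks.exists_block_of_stabilizer hM hP hBe.1.2 (fun x hx => (hT x).mpr ?_)
    (fun x hx => (hT x).mpr (CfsgLib.Blocks.stabilizes_self_of_mem hx e)) (fun x _ => hPN x)
    fun x hx => (hT x).mp hx, formula p M hM P B e hBe T hT⟩
  exact CfsgLib.Blocks.stabilizesBlock_iff.mpr ⟨Subgroup.le_normalizer hx,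
    CfsgLib.Blocks.conjSet_of_mem hx e⟩
end Cfsg.Agent.S4654
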