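import Cfsg.Statements.S4661
import Cfsg.Agent.Lib.Blocks.DefectPairs

set_option autoImplicit false
open Cfsg

namespace Cfsg.Agent.S4661

/-- Fix a prime p and a maximal ideal M of the algebraic integers containing p. Let (P, e) be a maximal Brauer pair of the p-block B of the finite group G, Q ≤ P, and f the p-block of C_G(Q) with (Q, f) ≤ (P, e). Then C_P(Q) is contained in a defect group of f (as a block of the group C_G(Q)); and for some x in G the conjugate pair (x Q x⁻¹, conjugate of f) again lies below (P, e) and C_P(x Q x⁻¹) is a defect group of the conjugate of f in C_G(x Q x⁻¹). -/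
theorem result {G : Type*} [Group G] [Fintype G] (p : ℕ) [Fact p.Prime] (M : Ideal Cfsg.AlgInt) (hM : Cfsg.IsPModular p M) (B : Set (Cfsg.IrrCharacter G)) (P Q : Subgroup G) (e : Set (Cfsg.IrrCharacter (Subgroup.centralizer (P : Set G)))) (f : Set (Cfsg.IrrCharacter (Subgroup.centralizer (Q : Set G)))) (hmax : Cfsg.IsMaximalBrauerPair p M B P e) (hQP : Q ≤ P) (hf : Cfsg.IsPBlock M f) (hle : Cfsg.SubpairLE p M Q f P e) : (∃ D : Subgroup (Subgroup.centralizer (Q : Set G)), Cfsg.IsDefectGroup p M f D ∧ (P ⊓ Subgroup.centralizer (Q : Set G)).subgroupOf (Subgroup.centralizer (Q : Set G)) ≤ D) ∧ ∃ x : G, Cfsg.SubpairLE p M (Q.map (MulAut.conj x).toMonoidHom) (Cfsg.conjBlock Q x f) P e ∧ Cfsg.IsDefectGroup p M (Cfsg.conjBlock Q x f) ((P ⊓ Subgroup.centralizer ((Q.map (MulAut.conj x).toMonoidHom) : Set G)).subgroupOf (Subgroup.centralizer ((Q.map (MulAut.conj x).toMonoidHom) : Set G))) := by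
  classical
  have := Fintype.ofFinite G
  have := CfsgLib.Blocks.isPrime_of_isPModular hM
  open CfsgLib.Blocks in
  have hc : ∀ (Q : Subgroup G) (f : Set (Cfsg.IrrCharacter (Subgroup.centralizer (Q : Set G))))
      (t : Subgroup.centralizer (Q : Set G)), Cfsg.blockCoeff f t =
        Cfsg.subgroupBlockCoeff (Subgroup.centralizer (Q : Set G)) f (t : G) := fun Q f t => by
    rw [subgroupBlockCoeff_eq, extendByZero_apply]
  open CfsgLib.Blocks in
  refine ⟨?_, ?_⟩
  · exact exists_defectGroup_ge hM hmax.1.1 hle le_rfl (Subgroup.centralizer_le_normalizer _) hf (hc Q f)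
  · obtain ⟨x, hx, hdef⟩ := exists_conj_defectGroup hM hmax hle le_rfl
      (Subgroup.centralizer_le_normalizer _)
      (fun t ht => stabilizesBlock_iff.mpr ⟨Subgroup.le_normalizer ht, conjSet_of_mem ht f⟩) hf (hc Q f)
    exact ⟨x, hx, hdef _ (centralizer_map_conj_iff Q x) _
      (isPBlock_conjSet (centralizer_map_conj_iff Q x) hf) (hc _ _)⟩
end Cfsg.Agent.S4661
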