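import Cfsg.Statements.S4662
import Cfsg.Agent.Lib.Blocks.DefectPairs

set_option autoImplicit false
open Cfsg

namespace Cfsg.Agent.S4662

/-- Fix a prime p and a maximal ideal M of the algebraic integers containing p. Let (P, e) be a maximal Brauer pair of the p-block B of the finite group G, Q ≤ P, and f the p-block of C_G(Q) with (Q, f) ≤ (P, e). Let T be the stabilizer of f in N_G(Q). Then the idempotent of f is a block idempotent of T, and N_P(Q) is contained in a defect group of that block of T; moreover for some x in G the conjugate pair (x Q x⁻¹, conjugate of f) again lies below (P, e) and, with T' the stabilizer of the conjugate of f in N_G(x Q x⁻¹), N_P(x Q x⁻¹) is a defect group of the block of T' whose idempotent is that of the conjugate of f. -/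
theorem result {G : Type*} [Group G] [Fintype G] (p : ℕ) [Fact p.Prime] (M : Ideal Cfsg.AlgInt) (hM : Cfsg.IsPModular p M) (B : Set (Cfsg.IrrCharacter G)) (P Q : Subgroup G) (e : Set (Cfsg.IrrCharacter (Subgroup.centralizer (P : Set G)))) (f : Set (Cfsg.IrrCharacter (Subgroup.centralizer (Q : Set G)))) (hmax : Cfsg.IsMaximalBrauerPair p M B P e) (hQP : Q ≤ P) (hf : Cfsg.IsPBlock M f) (hle : Cfsg.SubpairLE p M Q f P e) (T : Subgroup G) (hT : ∀ y : G, y ∈ T ↔ y ∈ Subgroup.normalizer (Q : Set G) ∧ Cfsg.StabilizesBlock (Subgroup.centralizer (Q : Set G)) f y) : (∃ F : Set (Cfsg.IrrCharacter T), Cfsg.IsPBlock M F ∧ (∀ t : T, Cfsg.blockCoeff F t = Cfsg.subgroupBlockCoeff (Subgroup.centralizer (Q : Set G)) f (t : G)) ∧ ∃ D : Subgroup T, Cfsg.IsDefectGroup p M F D ∧ (P ⊓ Subgroup.normalizer (Q : Set G)).subgroupOf T ≤ D) ∧ ∃ x : G, Cfsg.SubpairLE p M (Q.map (MulAut.conj x).toMonoidHom) (Cfsg.conjBlock Q x f) P e ∧ ∀ (T' : Subgroup G), (∀ y : G, y ∈ T' ↔ y ∈ Subgroup.normalizer ((Q.map (MulAut.conj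 x).toMonoidHom) : Set G) ∧ Cfsg.StabilizesBlock (Subgroup.centralizer ((Q.map (MulAut.conj x).toMonoidHom) : Set G)) (Cfsg.conjBlock Q x f) y) → ∃ F' : Set (Cfsg.IrrCharacter T'), Cfsg.IsPBlock M F' ∧ (∀ t : T', Cfsg.blockCoeff F' t = Cfsg.subgroupBlockCoeff (Subgroup.centralizer ((Q.map (MulAut.conj x).toMonoidHom) : Set G)) (Cfsg.conjBlock Q x f) (t : G)) ∧ Cfsg.IsDefectGroup p M F' ((P ⊓ Subgroup.normalizer ((Q.map (MulAut.conj x).toMonoidHom) : Set G)).subgroupOf T') := by
  classical
  have := Fintype.ofFinite G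
  have := CfsgLib.Blocks.isPrime_of_isPModular hM
  have : Fintype T := Fintype.ofFinite T
  open CfsgLib.Blocks in
  have hQ := SubpairLE.isBrauerPair hle hmax.1.1
  open CfsgLib.Blocks in
  have hCT : Subgroup.centralizer (Q : Set G) ≤ T := fun y hy => (hT y).mpr
    ⟨Subgroup.centralizer_le_normalizer _ hy,
      stabilizesBlock_iff.mpr ⟨Subgroup.le_normalizer hy, conjSet_of_mem hy f⟩⟩
  open CfsgLib.Blocks in
  have hQT : Q ≤ T := fun y hy => (hT y).mpr ⟨Subgroup.le_normalizer hy, stabilizes_self_of_mem hy f⟩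
  open CfsgLib.Blocks in
  obtain ⟨F, hF, hFc⟩ := exists_block_of_stabilizer hM hQ.1 hf hCT hQT
    (fun y hy => ((hT y).mp hy).1) (fun y hy => ((hT y).mp hy).2)
  open CfsgLib.Blocks in
  refine ⟨⟨F, hF, hFc, ?_⟩, ?_⟩
  · obtain ⟨D, hD, hPD⟩ := exists_defectGroup_ge hM hmax.1.1 hle hCT (fun y hy => ((hT y).mp hy).1) hF hFc
    refine ⟨D, hD, fun y hy => hPD ?_⟩
    exact Subgroup.mem_subgroupOf.mpr ⟨(Subgroup.mem_subgroupOf.mp hy).1, y.2⟩
  · obtain ⟨x, hx, hdef⟩ := exists_conj_defectGroup hM hmax hle hCT (fun y hy => ((hT y).mp hy).1)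
      (fun y hy => ((hT y).mp hy).2) hF hFc
    refine ⟨x, hx, fun T' hT' => ?_⟩
    have : Fintype T' := Fintype.ofFinite T'
    have hN : ∀ y, x * y * x⁻¹ ∈ Subgroup.normalizer ((Q.map (MulAut.conj x).toMonoidHom : Subgroup G) : Set G) ↔
        y ∈ Subgroup.normalizer (Q : Set G) := fun y => by
      rw [Subgroup.mem_normalizer_iff, Subgroup.mem_normalizer_iff]
      constructor
      · intro h g
        have := h (x * g * x⁻¹)
        rw [mem_map_conj_iff, mem_map_conj_iff] at this
        simpa [mul_assoc] using this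
      · intro h g
        rw [mem_map_conj_iff, mem_map_conj_iff, h (x⁻¹ * g * x)]
        simp [mul_assoc]
    have hiff : ∀ y, x * y * x⁻¹ ∈ T' ↔ y ∈ T := fun y => by
      rw [hT', hT, hN, conjBlock_eq]
      refine and_congr_right fun hy => ?_
      have hy' := conj_mem_iff_of_mem_normalizer (mem_normalizer_centralizer ((hN y).mpr hy))
      have hy0 := conj_mem_iff_of_mem_normalizer (mem_normalizer_centralizer hy)
      have hC := centralizer_map_conj_iff Q x
      have key : conjSet (x * y * x⁻¹) _ _ (conjSet x (Subgroup.centralizer (Q : Set G)) (Subgroup.centralizer ((Q.map (MulAut.conj x).toMonoidHom : Subgroup G) : Set G)) f) =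
          conjSet x _ (Subgroup.centralizer ((Q.map (MulAut.conj x).toMonoidHom : Subgroup G) : Set G))
            (conjSet y (Subgroup.centralizer (Q : Set G)) (Subgroup.centralizer (Q : Set G)) f) := by
        rw [conjSet_conjSet hC hy', conjSet_conjSet hy0 hC, inv_mul_cancel_right]
      rw [stabilizesBlock_iff, stabilizesBlock_iff,
        and_iff_right (mem_normalizer_centralizer ((hN y).mpr hy)),
        and_iff_right (mem_normalizer_centralizer hy), key]
      refine ⟨fun h => ?_, fun h => by rw [h]⟩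
      rw [conjSet_eq_image hC, conjSet_eq_image hC] at h
      exact Set.image_injective.mpr (conjIrr_injective hC) h
    have hQ' : IsPGroup p (Q.map (MulAut.conj x).toMonoidHom : Subgroup G) := hQ.1.map _
    have hCT' : Subgroup.centralizer ((Q.map (MulAut.conj x).toMonoidHom : Subgroup G) : Set G) ≤ T' :=
      fun y hy => (hT' y).mpr ⟨Subgroup.centralizer_le_normalizer _ hy,
        stabilizesBlock_iff.mpr ⟨Subgroup.le_normalizer hy, conjSet_of_mem hy _⟩⟩
    have hQT' : Q.map (MulAut.conj x).toMonoidHom ≤ T' := fun y hy =>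
      (hT' y).mpr ⟨Subgroup.le_normalizer hy, stabilizes_self_of_mem hy _⟩
    obtain ⟨F', hF', hFc'⟩ := exists_block_of_stabilizer hM hQ'
      (isPBlock_conjSet (centralizer_map_conj_iff Q x) hf) hCT' hQT'
      (fun y hy => ((hT' y).mp hy).1) (fun y hy => ((hT' y).mp hy).2)
    refine ⟨F', hF', hFc', ?_⟩
    have heq : (P ⊓ Subgroup.normalizer ((Q.map (MulAut.conj x).toMonoidHom : Subgroup G) : Set G)).subgroupOf T' =
        (P ⊓ T').subgroupOf T' := by
      ext y
      simp only [Subgroup.mem_subgroupOf, Subgroup.mem_inf]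
      exact ⟨fun h => ⟨h.1, y.2⟩, fun h => ⟨h.1, ((hT' y).mp y.2).1⟩⟩
    rw [heq]
    exact hdef T' hiff F' hF' hFc'
end Cfsg.Agent.S4662
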