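import Cfsg.Statements.S4664
import Cfsg.Agent.Lib.Blocks.Defect
import Cfsg.Agent.Lib.Char.Galois

set_option autoImplicit false
open Cfsg
open scoped CfsgLib.Char

set_option autoImplicit false
open Cfsg

namespace Cfsg.Agent.S4664

/-- Fix a prime p and a maximal ideal M of the algebraic integers containing p, and let B be a p-block of the finite group G. Let m be the p'-part of the order of G and η = exp(2πi/m). Then every coefficient of the idempotent of B lies in the cyclotomic field ℚ(η). -/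
theorem result {G : Type*} [Group G] [Fintype G] (p : ℕ) [Fact p.Prime] (M : Ideal Cfsg.AlgInt) (hM : Cfsg.IsPModular p M) (B : Set (Cfsg.IrrCharacter G)) (hB : Cfsg.IsPBlock M B) (g : G) : Cfsg.blockCoeff B g ∈ IntermediateField.adjoin ℚ ({Complex.exp (2 * Real.pi * Complex.I / ((Nat.card G / p ^ (Nat.card G).factorization p : ℕ) : ℂ))} : Set ℂ) := by
  classical
  have := CfsgLib.Blocks.isPrime_of_isPModular hM
  set a := (Nat.card G).factorization p
  set m := Nat.card G / p ^ a with hm
  set ζ : ℂ := Complex.exp (2 * Real.pi * Complex.I / (m : ℂ))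
  set F := IntermediateField.adjoin ℚ ({ζ} : Set ℂ)
  by_cases hg : IsPRegular p g
  · have hm0 : m ≠ 0 := (Nat.div_pos (Nat.le_of_dvd Nat.card_pos (Nat.ordProj_dvd _ _))
      (pow_pos hM.1.pos _)).ne'
    have hζ : IsPrimitiveRoot ζ m := Complex.isPrimitiveRoot_exp m hm0
    have hord : orderOf g⁻¹ ∣ m := by
      rw [orderOf_inv]
      have hmul : orderOf g ∣ p ^ a * m := by
        rw [hm, Nat.ordProj_mul_ordCompl_eq_self]; exact orderOf_dvd_natCard g
      exact (Nat.Coprime.pow_right a ((hM.1.coprime_iff_not_dvd.mpr hg).symm)).dvd_of_dvd_mul_left hmul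
    rw [blockCoeff]
    refine mul_mem (inv_mem (natCast_mem F _)) ?_
    rw [CfsgLib.Blocks.sum_mem_eq_filter]
    refine sum_mem fun χ _ => mul_mem ?_ ?_
    · rw [(CfsgLib.Blocks.irr_degree_eq χ).1]; exact natCast_mem F _
    · rw [← CfsgLib.Blocks.irr_value_inv χ.2]
      obtain ⟨n, ρ, -, hρ⟩ := χ.2
      obtain ⟨μ, h1, h2⟩ := CfsgLib.Char.character_pow_eq_sum ρ g⁻¹
      rw [← hρ, ← pow_one g⁻¹, h2 1]
      refine sum_mem fun j _ => pow_mem ?_ _
      haveI : NeZero m := ⟨hm0⟩
      obtain ⟨i, -, hi⟩ := hζ.eq_pow_of_pow_eq_one (ξ := μ j)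
        (orderOf_dvd_iff_pow_eq_one.mp ((orderOf_dvd_of_pow_eq_one (h1 j)).trans hord))
      rw [← hi]
      exact pow_mem (IntermediateField.subset_adjoin ℚ _ (Set.mem_singleton ζ)) i
  · rw [CfsgLib.Blocks.blockCoeff_eq_zero_of_not_regular hM (CfsgLib.Blocks.IsPBlock.isBlockUnion hB) hg]
    exact zero_mem F

end Cfsg.Agent.S4664
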