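import Cfsg.Statements.S4665
import Cfsg.Agent.Lib.Blocks.BrauerFeit

set_option autoImplicit false
open Cfsg

namespace Cfsg.Agent.S4665

open scoped CfsgLib.Char

/-- Fix a prime p, a maximal ideal M of the algebraic integers containing p, and a p-block B of the finite group G, and let p^a be the p-part of the order of G. Let χ be an integer combination of the irreducible characters in B. If the function that agrees with χ on p-regular elements and vanishes on p-singular elements is again an integer combination of the irreducible characters in B, then p^a divides χ(1). -/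
theorem result {G : Type*} [Group G] [Fintype G] (p : ℕ) [Fact p.Prime] (M : Ideal Cfsg.AlgInt) (hM : Cfsg.IsPModular p M) (B : Set (Cfsg.IrrCharacter G)) (hB : Cfsg.IsPBlock M B) (χ : G → ℂ) (hχ : (∃ n : Cfsg.IrrCharacter G → ℤ, ∀ g : G, χ g = ∑ᶠ ψ ∈ B, (n ψ : ℂ) * (ψ : G → ℂ) g)) (h0 : (∃ n : Cfsg.IrrCharacter G → ℤ, ∀ g : G, Cfsg.pRegularPart p χ g = ∑ᶠ ψ ∈ B, (n ψ : ℂ) * (ψ : G → ℂ) g)) : ∃ k : ℤ, χ 1 = (p ^ (Nat.card G).factorization p : ℂ) * k := by
  classical
  obtain ⟨n, hn⟩ := h0
  have hgen : Cfsg.IsGeneralizedCharacter G (Cfsg.pRegularPart p χ) := by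
    rw [show Cfsg.pRegularPart p χ = ∑ ψ : Cfsg.IrrCharacter G with ψ ∈ B, ((n ψ : ℂ)) • (ψ : G → ℂ) from
      funext fun g => by
        rw [hn g, CfsgLib.Blocks.sum_mem_eq_filter, Finset.sum_apply]
        rfl]
    exact CfsgLib.Char.isGeneralized_sum _ _ fun ψ _ =>
      CfsgLib.Char.isGeneralized_intCast_smul (CfsgLib.Char.isGeneralized_of_isIrr ψ.2) _
  obtain ⟨k, hk⟩ := CfsgLib.Blocks.exists_int_degree_of_vanishing hM.1 hgen fun g hg => if_neg hg
  refine ⟨k, ?_⟩
  rw [← hk]
  exact (if_pos (show Cfsg.IsPRegular p (1 : G) by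
    rw [Cfsg.IsPRegular, orderOf_one]; exact hM.1.not_dvd_one)).symm
end Cfsg.Agent.S4665
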