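import Cfsg.Statements.S4666
import Cfsg.Agent.Lib.Blocks.BrauerFeit

set_option autoImplicit false
open Cfsg

namespace Cfsg.Agent.S4666

open scoped CfsgLib.Char

/-- Fix a prime p and a maximal ideal M of the algebraic integers containing p, and a p-block B of the finite group G of defect d. For every integer combination χ of the irreducible characters in B, p^d times the function that agrees with χ on p-regular elements and vanishes elsewhere is again an integer combination of the irreducible characters in B. -/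
theorem result {G : Type*} [Group G] [Fintype G] (p : ℕ) [Fact p.Prime] (M : Ideal Cfsg.AlgInt) (hM : Cfsg.IsPModular p M) (B : Set (Cfsg.IrrCharacter G)) (hB : Cfsg.IsPBlock M B) (χ : G → ℂ) (hχ : (∃ n : Cfsg.IrrCharacter G → ℤ, ∀ g : G, χ g = ∑ᶠ ψ ∈ B, (n ψ : ℂ) * (ψ : G → ℂ) g)) : (∃ n : Cfsg.IrrCharacter G → ℤ, ∀ g : G, (p ^ Cfsg.blockDefect p B : ℂ) * Cfsg.pRegularPart p χ g = ∑ᶠ ψ ∈ B, (n ψ : ℂ) * (ψ : G → ℂ) g) := by
  classical
  have := CfsgLib.Blocks.isPrime_of_isPModular hM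
  obtain ⟨c, hc⟩ := hχ
  choose m hm using fun (η : Cfsg.IrrCharacter G) (ψ : Cfsg.IrrCharacter G) =>
    if h : η ∈ B then CfsgLib.Blocks.exists_int_classInner_regPart hM η ψ
        (CfsgLib.Blocks.degree_exponent_ge hM hB h) |>.imp (fun _ hk => fun _ : η ∈ B => hk)
    else ⟨(0 : ℤ), fun h' => absurd h' h⟩
  refine ⟨fun ψ => ∑ η : Cfsg.IrrCharacter G with η ∈ B, c η * m η ψ, fun g => ?_⟩
  rw [CfsgLib.Blocks.sum_mem_eq_filter]
  by_cases hg : Cfsg.IsPRegular p g
  · rw [show Cfsg.pRegularPart p χ g = χ g from if_pos hg, hc g, CfsgLib.Blocks.sum_mem_eq_filter,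
      Finset.mul_sum]
    push_cast
    simp only [Finset.sum_mul]
    rw [Finset.sum_comm]
    refine Finset.sum_congr rfl fun η hη => ?_
    have hηB : η ∈ B := (Finset.mem_filter.mp hη).2
    have hexp := congrFun (CfsgLib.Blocks.regPart_eq_sum hM
      (CfsgLib.Blocks.IsPBlock.isBlockUnion hB) hηB) g
    rw [CfsgLib.Blocks.regPart_of_regular hg, Finset.sum_apply] at hexp
    rw [hexp, Finset.mul_sum, Finset.mul_sum]
    refine Finset.sum_congr rfl fun ψ _ => ?_
    rw [← hm η ψ hηB, Pi.smul_apply, smul_eq_mul]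
    ring
  · rw [show Cfsg.pRegularPart p χ g = 0 from if_neg hg, mul_zero]
    push_cast
    simp only [Finset.sum_mul]
    rw [Finset.sum_comm]
    refine (Finset.sum_eq_zero fun η hη => ?_).symm
    have hηB : η ∈ B := (Finset.mem_filter.mp hη).2
    have hexp := congrFun (CfsgLib.Blocks.regPart_eq_sum hM
      (CfsgLib.Blocks.IsPBlock.isBlockUnion hB) hηB) g
    rw [CfsgLib.Blocks.regPart_of_singular hg, Finset.sum_apply] at hexp
    calc ∑ ψ : Cfsg.IrrCharacter G with ψ ∈ B, ((c η : ℂ) * (m η ψ : ℂ)) * (ψ : G → ℂ) g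
        = (c η : ℂ) * ((p : ℂ) ^ Cfsg.blockDefect p B * ∑ ψ : Cfsg.IrrCharacter G with ψ ∈ B,
          (Cfsg.classInner (CfsgLib.Blocks.regPart p (η : G → ℂ)) (ψ : G → ℂ) • (ψ : G → ℂ)) g) := by
          rw [Finset.mul_sum, Finset.mul_sum]
          refine Finset.sum_congr rfl fun ψ _ => ?_
          rw [← hm η ψ hηB, Pi.smul_apply, smul_eq_mul]
          ring
      _ = 0 := by rw [← hexp, mul_zero, mul_zero]
end Cfsg.Agent.S4666
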