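import Cfsg.Statements.S4668
import Cfsg.Agent.Lib.Blocks.NormalPBlocks
import Cfsg.Agent.Lib.Blocks.Osima
import Cfsg.Agent.Lib.Coprime.Action

set_option autoImplicit false
open Cfsg

namespace Cfsg.Agent.S4668

/-- Fix a prime p and a maximal ideal M of the algebraic integers containing p. Let Q₀ < Q₁ < ⋯ < Q_m be a strictly increasing chain of p-subgroups of the finite group G and N the intersection of their normalizers. Then every block idempotent of N is supported on C_G(Q_m): for every p-block E of N, the idempotent coefficient of E vanishes at every element of N outside C_G(Q_m). -/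
theorem result {G : Type*} [Group G] [Fintype G] (p : ℕ) [Fact p.Prime] (M : Ideal Cfsg.AlgInt) (hM : Cfsg.IsPModular p M) (m : ℕ) (Q : Fin (m + 1) → Subgroup G) (hQ : StrictMono Q) (hQp : ∀ i, IsPGroup p (Q i)) (N : Subgroup G) (hN : ∀ g : G, g ∈ N ↔ ∀ i, g ∈ Subgroup.normalizer (Q i : Set G)) (E : Set (Cfsg.IrrCharacter N)) (hE : Cfsg.IsPBlock M E) (n : N) (hn : (n : G) ∉ Subgroup.centralizer (Q (Fin.last m) : Set G)) : Cfsg.blockCoeff E n = 0 := by
  classical
  have := Fintype.ofFinite G
  have := CfsgLib.Blocks.isPrime_of_isPModular hM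
  have : Fact p.Prime := ⟨hM.1⟩
  have : Fintype N := Fintype.ofFinite N
  by_contra hne
  have hreg : Cfsg.IsPRegular p (n : G) := by
    by_contra hnr
    refine hne (CfsgLib.Blocks.blockCoeff_eq_zero_of_not_regular hM (CfsgLib.Blocks.IsPBlock.isBlockUnion hE) ?_)
    rwa [Cfsg.IsPRegular, ← Subgroup.orderOf_coe n]
  have hnorm : ∀ i, ∀ x : N, (x : G) ∈ Subgroup.normalizer (Q i : Set G) := fun i x => (hN x).mp x.2 i
  have hcent : ∀ i, ∀ r ∈ Q i, r ∈ N → r * (n : G) = n * r := fun i r hr hrN => by
    have : ((Q i).subgroupOf N).Normal := ⟨fun a ha x => by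
      simpa [Subgroup.mem_subgroupOf] using
        (Subgroup.mem_normalizer_iff.mp (hnorm i x) a).mp ha⟩
    by_contra hr'
    refine hne (CfsgLib.Blocks.blockCoeff_eq_zero_of_not_centralizing hM ((Q i).subgroupOf N)
      ((hQp i).comap_of_injective N.subtype N.subtype_injective) hE fun hc => hr' ?_)
    exact congrArg Subtype.val (hc (⟨r, hrN⟩ : N) (Subgroup.mem_subgroupOf.mpr hr))
  have hall : ∀ i : Fin (m + 1), (n : G) ∈ Subgroup.centralizer (Q i : Set G) := by
    intro i
    induction i using Fin.induction with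
    | zero =>
      intro r hr
      refine hcent 0 r hr ((hN r).mpr fun j => Subgroup.le_normalizer (hQ.monotone (Fin.zero_le j) hr))
    | succ i ih =>
      have hle : Q i.castSucc ≤ Q i.succ := hQ.monotone Fin.castSucc_lt_succ.le
      have hz := CfsgLib.Coprime.pxq (P := Q i.castSucc) (Q := Subgroup.zpowers (n : G)) (hQp _)
        (by rw [Nat.card_zpowers]; exact (hM.1.coprime_iff_not_dvd.mpr hreg).symm)
        (fun r hr z hz => by
          obtain ⟨k, rfl⟩ := Subgroup.mem_zpowers_iff.mp hz
          exact ((Commute.zpow_right (ih r hr) k).symm).eq)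
        (hQp i.succ) (hle.trans Subgroup.le_normalizer)
        (Subgroup.zpowers_le.mpr (hnorm i.succ n)) (by
          rintro r ⟨hr, hrc⟩ z hz
          obtain ⟨k, rfl⟩ := Subgroup.mem_zpowers_iff.mp hz
          have hrN : r ∈ N := (hN r).mpr fun j => by
            rcases le_or_gt i.succ j with hj | hj
            · exact Subgroup.le_normalizer (hQ.monotone hj hr)
            · refine Subgroup.centralizer_le_normalizer _ fun q hq => ?_
              exact hrc q (hQ.monotone (by rw [Fin.le_castSucc_iff]; exact hj) hq)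
          exact ((Commute.zpow_right (hcent i.succ r hr hrN) k).symm).eq)
      exact hz (Subgroup.mem_zpowers _)
  exact hn (hall _)
end Cfsg.Agent.S4668
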