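import Cfsg.Statements.S4669
import Cfsg.Agent.Lib.Blocks.CentralDefect
import Cfsg.Agent.Lib.Blocks.Rank

set_option autoImplicit false
open Cfsg
open scoped CfsgLib.Char

set_option autoImplicit false
open Cfsg

namespace Cfsg.Agent.S4669

/-- Fix a prime p and a maximal ideal M of the algebraic integers containing p. If the p-block B of the finite group G has a defect group P contained in the centre of G, then B has p-regular rank one (a single irreducible Brauer character). -/
theorem result {G : Type*} [Group G] [Fintype G] (p : ℕ) [Fact p.Prime] (M : Ideal Cfsg.AlgInt) (hM : Cfsg.IsPModular p M) (B : Set (Cfsg.IrrCharacter G)) (hB : Cfsg.IsPBlock M B) (P : Subgroup G) (hD : Cfsg.IsDefectGroup p M B P) (hPZ : P ≤ Subgroup.center G) : Cfsg.blockRank p B = 1 := by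
  classical
  have := CfsgLib.Blocks.isPrime_of_isPModular hM
  have hC : Subgroup.centralizer (P : Set G) = ⊤ := Subgroup.centralizer_eq_top_iff_subset.mpr hPZ
  obtain ⟨θ, hθ, -, -, -, hval, -, -⟩ := CfsgLib.Blocks.central_defect_structure p M hM P
    (CfsgLib.Blocks.IsDefectGroup.isPGroup hM hD) (by rw [hC, sup_top_eq]) B hB hD
  refine le_antisymm ?_ (CfsgLib.Blocks.blockRank_pos ⟨θ, hθ⟩ (Fact.out : p.Prime).ne_one)
  rw [blockRank]
  have hle : Submodule.span ℂ ((fun χ : IrrCharacter G => pRegularPart p (χ : G → ℂ)) '' B) ≤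
      Submodule.span ℂ {CfsgLib.Blocks.regPart p (θ : G → ℂ)} := by
    rw [Submodule.span_le]
    rintro _ ⟨χ, hχ, rfl⟩
    refine Submodule.mem_span_singleton.mpr ⟨(χ : G → ℂ) 1 / (θ : G → ℂ) 1, funext fun g => ?_⟩
    simp only [CfsgLib.Blocks.pRegularPart_eq_regPart, Pi.smul_apply, smul_eq_mul]
    by_cases hg : IsPRegular p g
    · simp only [CfsgLib.Blocks.regPart_of_regular hg]
      rw [← hval χ hχ 1 P.one_mem g hg, one_mul]
    · simp only [CfsgLib.Blocks.regPart_of_singular hg, mul_zero]
  refine le_trans (Submodule.finrank_mono hle) ?_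
  simpa using finrank_span_le_card (R := ℂ) ({CfsgLib.Blocks.regPart p (θ : G → ℂ)} : Set (G → ℂ))

end Cfsg.Agent.S4669
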