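import Cfsg.Statements.S4670
import Cfsg.Agent.Lib.Blocks.FirstCorrespondence

set_option autoImplicit false
open Cfsg
open scoped CfsgLib.Char

namespace Cfsg.Agent.S4670

/-- Fix a prime p and a maximal ideal M of the algebraic integers containing p. Let P be a p-subgroup of the finite group G and H a subgroup containing N_G(P). For every p-block B of G with defect group P there is exactly one p-block c of H with defect group P whose idempotent agrees with that of B, modulo the local ideal at M, at every element of C_G(P) (their Brauer-map images at P coincide); and every p-block c of H with defect group P arises in this way from exactly one such B. This is the Brauer correspondence over H. -/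
theorem result {G : Type*} [Group G] [Fintype G] (p : ℕ) [Fact p.Prime] (M : Ideal Cfsg.AlgInt) (hM : Cfsg.IsPModular p M) (P H : Subgroup G) (hP : IsPGroup p P) (hH : Subgroup.normalizer (P : Set G) ≤ H) : (∀ B : Set (Cfsg.IrrCharacter G), Cfsg.IsPBlock M B → Cfsg.IsDefectGroup p M B P → ∃! c : Set (Cfsg.IrrCharacter H), Cfsg.IsPBlock M c ∧ Cfsg.IsDefectGroup p M c (P.subgroupOf H) ∧ ∀ x : G, x ∈ Subgroup.centralizer (P : Set G) → Cfsg.MemLocalIdeal M (Cfsg.blockCoeff B x - Cfsg.subgroupBlockCoeff H c x)) ∧ (∀ c : Set (Cfsg.IrrCharacter H), Cfsg.IsPBlock M c → Cfsg.IsDefectGroup p M c (P.subgroupOf H) → ∃! B : Set (Cfsg.IrrCharacter G), Cfsg.IsPBlock M B ∧ Cfsg.IsDefectGroup p M B P ∧ ∀ x : G, x ∈ Subgroup.centralizer (P : Set G) → Cfsg.MemLocalIdeal M (Cfsg.blockCoeff B x - Cfsg.subgroupBlockCoeff H c x)) := by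
  classical
  have := CfsgLib.Blocks.isPrime_of_isPModular hM
  have : Fintype H := Fintype.ofFinite H
  have hPH : P ≤ H := Subgroup.le_normalizer.trans hH
  have hP' : IsPGroup p (P.subgroupOf H) := hP.comap_of_injective _ (Subgroup.subtype_injective _)
  have hcard : Nat.card (P.subgroupOf H) = Nat.card P :=
    Nat.card_congr (Subgroup.subgroupOfEquivOfLe hPH).toEquiv
  have hCH : Subgroup.centralizer (P : Set G) ≤ H :=
    (Subgroup.centralizer_le_normalizer _).trans hH
  have hmem : ∀ n : H, n ∈ Subgroup.normalizer ((P.subgroupOf H : Subgroup H) : Set H) ↔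
      (n : G) ∈ Subgroup.normalizer (P : Set G) := by
    intro n
    simp only [Subgroup.mem_normalizer_iff, SetLike.mem_coe, Subgroup.mem_subgroupOf,
      Subgroup.coe_mul, Subgroup.coe_inv]
    constructor
    · intro h a
      by_cases ha : a ∈ H
      · exact h ⟨a, ha⟩
      · refine ⟨fun haP => absurd (hPH haP) ha, fun haP => absurd ?_ ha⟩
        have h2 := H.mul_mem (H.mul_mem (H.inv_mem n.2) (hPH haP)) n.2
        simpa [mul_assoc] using h2
    · exact fun h a => h a
  let φ : Subgroup.normalizer ((P.subgroupOf H : Subgroup H) : Set H) ≃*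
      Subgroup.normalizer (P : Set G) :=
    { toFun := fun n => ⟨((n : H) : G), (hmem _).mp n.2⟩
      invFun := fun n => ⟨⟨(n : G), hH n.2⟩, (hmem _).mpr n.2⟩
      left_inv := fun _ => rfl
      right_inv := fun _ => rfl
      map_mul' := fun _ _ => rfl }
  have : Fintype (Subgroup.normalizer (P : Set G)) := Fintype.ofFinite _
  have : Fintype (Subgroup.normalizer ((P.subgroupOf H : Subgroup H) : Set H)) := Fintype.ofFinite _
  have hsub : ∀ (c : Set (IrrCharacter H)) (x : H),
      subgroupBlockCoeff H c (x : G) = blockCoeff c x := fun c x => by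
    rw [CfsgLib.Blocks.subgroupBlockCoeff_eq]
    exact CfsgLib.Blocks.extendByZero_apply H (blockCoeff c) x
  have hcent : ∀ x : H, (x : G) ∈ Subgroup.centralizer (P : Set G) →
      x ∈ Subgroup.centralizer ((P.subgroupOf H : Subgroup H) : Set H) :=
    fun x hx q hq => Subtype.ext (hx _ hq)
  have hcent' : ∀ x : H, x ∈ Subgroup.centralizer ((P.subgroupOf H : Subgroup H) : Set H) →
      (x : G) ∈ Subgroup.centralizer (P : Set G) :=
    fun x hx q hq => congrArg Subtype.val (hx ⟨q, hPH hq⟩ hq)
  constructor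
  · intro B hB hBP
    obtain ⟨b, hbd, hind, hb⟩ := CfsgLib.Blocks.exists_normalizer_congr hM hP hB hBP
    obtain ⟨c, hc, hcP, hcc⟩ := CfsgLib.Blocks.exists_block_congr hM hP'
      (CfsgLib.Blocks.isPBlock_image_irrEquiv φ.symm hind.1)
      (by rw [CfsgLib.Blocks.blockDefect_image_irrEquiv, hbd, hcard])
    have hcong : ∀ x : G, x ∈ Subgroup.centralizer (P : Set G) →
        MemLocalIdeal M (blockCoeff B x - subgroupBlockCoeff H c x) := by
      intro x hx
      have hxN : x ∈ Subgroup.normalizer (P : Set G) := Subgroup.centralizer_le_normalizer _ hx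
      have h1 := hb ⟨x, hxN⟩ hx
      have h2 := hcc (φ.symm ⟨x, hxN⟩) (hcent _ hx)
      rw [CfsgLib.Blocks.blockCoeff_image_irrEquiv] at h2
      have h3 := hsub c ((φ.symm ⟨x, hxN⟩ : _) : H)
      show MemLocalIdeal M (blockCoeff B x - subgroupBlockCoeff H c (((φ.symm ⟨x, hxN⟩ : _) : H) : G))
      rw [h3]
      exact CfsgLib.Blocks.memLocalIdeal_sub_trans h1 (CfsgLib.Blocks.memLocalIdeal_sub_comm h2)
    refine ⟨c, ⟨hc, hcP, hcong⟩, ?_⟩
    rintro c' ⟨hc', hcP', hcong'⟩
    refine CfsgLib.Blocks.eq_of_congr_centralizer hM hP' hc' hc hcP' hcP fun x hx => ?_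
    rw [← hsub, ← hsub]
    exact CfsgLib.Blocks.memLocalIdeal_sub_trans
      (CfsgLib.Blocks.memLocalIdeal_sub_comm (hcong' _ (hcent' x hx))) (hcong _ (hcent' x hx))
  · intro c hc hcP
    obtain ⟨b, hbd, hind, hb⟩ := CfsgLib.Blocks.exists_normalizer_congr hM hP' hc hcP
    obtain ⟨B, hB, hBP, hBc⟩ := CfsgLib.Blocks.exists_block_congr hM hP
      (CfsgLib.Blocks.isPBlock_image_irrEquiv φ hind.1)
      (by rw [CfsgLib.Blocks.blockDefect_image_irrEquiv, hbd, hcard])
    have hcong : ∀ x : G, x ∈ Subgroup.centralizer (P : Set G) →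
        MemLocalIdeal M (blockCoeff B x - subgroupBlockCoeff H c x) := by
      intro x hx
      have hxN : x ∈ Subgroup.normalizer (P : Set G) := Subgroup.centralizer_le_normalizer _ hx
      set n := φ.symm ⟨x, hxN⟩
      have h1 := hb n (hcent _ hx)
      have h2 := hBc (φ n) hx
      rw [CfsgLib.Blocks.blockCoeff_image_irrEquiv] at h2
      show MemLocalIdeal M (blockCoeff B x - subgroupBlockCoeff H c ((n : H) : G))
      rw [hsub c (n : H)]
      exact CfsgLib.Blocks.memLocalIdeal_sub_trans h2 (CfsgLib.Blocks.memLocalIdeal_sub_comm h1)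
    refine ⟨B, ⟨hB, hBP, hcong⟩, ?_⟩
    rintro B' ⟨hB', hBP', hcong'⟩
    refine CfsgLib.Blocks.eq_of_congr_centralizer hM hP hB' hB hBP' hBP fun x hx => ?_
    exact CfsgLib.Blocks.memLocalIdeal_sub_trans (hcong' x hx)
      (CfsgLib.Blocks.memLocalIdeal_sub_comm (hcong x hx))

end Cfsg.Agent.S4670
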