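import Cfsg.Statements.S4672
import Cfsg.Agent.Lib.Blocks.CoveringDefect
import Cfsg.Agent.Lib.Blocks.OverCharacter

set_option autoImplicit false
open Cfsg

namespace Cfsg.Agent.S4672

/-- Fix a prime p and a maximal ideal M of the algebraic integers containing p. Let N be a normal subgroup of the finite group G of p-power index and c a p-block of N stable under conjugation by G. Then the idempotent of c is a block idempotent of G: there is a p-block B of G whose idempotent coefficients agree with those of c on N and vanish off N; and for every defect group P of such a block B, G = NP and P ∩ N is a defect group of c. -/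
theorem result {G : Type*} [Group G] [Fintype G] (p : ℕ) [Fact p.Prime] (M : Ideal Cfsg.AlgInt) (hM : Cfsg.IsPModular p M) (N : Subgroup G) [N.Normal] (hN : ∃ k : ℕ, N.index = p ^ k) (c : Set (Cfsg.IrrCharacter N)) (hc : Cfsg.IsPBlock M c) (hst : ∀ x : G, Cfsg.StabilizesBlock N c x) : (∃ B : Set (Cfsg.IrrCharacter G), Cfsg.IsPBlock M B ∧ ∀ g : G, Cfsg.blockCoeff B g = Cfsg.subgroupBlockCoeff N c g) ∧ ∀ B : Set (Cfsg.IrrCharacter G), Cfsg.IsPBlock M B → (∀ g : G, Cfsg.blockCoeff B g = Cfsg.subgroupBlockCoeff N c g) → ∀ P : Subgroup G, Cfsg.IsDefectGroup p M B P → N ⊔ P = ⊤ ∧ Cfsg.IsDefectGroup p M c ((P ⊓ N).subgroupOf N) := by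
  classical
  haveI := CfsgLib.Blocks.isPrime_of_isPModular hM
  haveI : Fintype N := Fintype.ofFinite _
  obtain ⟨k, hk⟩ := hN
  have hcj : ∀ x : G, CfsgLib.Blocks.conjSet x N N c = c := fun x =>
    (CfsgLib.Blocks.stabilizesBlock_iff.mp (hst x)).2
  have hU : CfsgLib.Blocks.conjUnion (G := G) c = c := Set.ext fun ψ =>
    ⟨fun ⟨g, hg⟩ => hcj g ▸ (CfsgLib.Blocks.mem_conjSet_normal_iff g c ψ).mpr hg,
      fun h => ⟨1, by rwa [CfsgLib.Blocks.conjI_one]⟩⟩
  refine ⟨?_, fun B hB hBc P hP => ?_⟩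
  · obtain ⟨θ, hθ⟩ := CfsgLib.Blocks.IsPBlock.nonempty hc
    obtain ⟨χ, hχ⟩ := CfsgLib.Blocks.exists_irr_above (G := G) θ
    set B := blockOf M (χ : G → ℂ)
    have hB : IsPBlock M B := CfsgLib.Blocks.isPBlock_blockOf χ
    refine ⟨B, hB, fun g => ?_⟩
    have hoff : ∀ g, g ∉ N → blockCoeff B g = 0 := fun g hg =>
      CfsgLib.Blocks.blockCoeff_eq_zero_of_not_regular hM
        (CfsgLib.Blocks.IsPBlock.isBlockUnion hB) fun hr =>
          hg (CfsgLib.Blocks.mem_of_isPRegular_of_pow_mem hM.1 hr k (hk ▸ N.pow_index_mem g))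
    set u : N → ℂ := fun n => blockCoeff B (n : G) with hu
    have hext : blockCoeff B = extendByZero N u := funext fun g => by
      by_cases hg : g ∈ N
      · rw [show g = ((⟨g, hg⟩ : N) : G) from rfl, CfsgLib.Blocks.extendByZero_apply]
      · rw [CfsgLib.Blocks.extendByZero_eq_zero N u hg, hoff g hg]
    have hinj : ∀ f f' : N → ℂ, extendByZero N f = extendByZero N f' → f = f' := fun f f' h =>
      funext fun n => by
        rw [← CfsgLib.Blocks.extendByZero_apply N f n, h, CfsgLib.Blocks.extendByZero_apply]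
    have huu : CfsgLib.Blocks.conv u u = u := hinj _ _ (by
      rw [← CfsgLib.Blocks.conv_extendByZero, ← hext, CfsgLib.Blocks.conv_blockCoeff_self])
    have hue : CfsgLib.Blocks.conv u (blockCoeff c) = u := hinj _ _ (by
      rw [← CfsgLib.Blocks.conv_extendByZero, ← hext]
      have h := CfsgLib.Blocks.conv_blockCoeff_orbitIdem hc hB
        (CfsgLib.Blocks.mem_blockOf_self χ) hθ hχ
      rwa [CfsgLib.Blocks.orbitIdem, hU] at h)
    have hucls : IsClassFunction N u := fun a x =>
      CfsgLib.Blocks.isClassFunction_blockCoeff B (a : G) (x : G)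
    have hul : ∀ n, MemLocalRing M (u n) := fun n =>
      CfsgLib.Blocks.IsPBlock.memLocalRing_blockCoeff hB _
    set v : CfsgLib.Blocks.ZO M N := CfsgLib.Blocks.toZO u hucls hul
    have hv : (v : IrrCharacter N → ℂ) = fun η : IrrCharacter N => CfsgLib.Blocks.omega (η : N → ℂ) u := rfl
    obtain ⟨S, hS, hvS⟩ := CfsgLib.Blocks.exists_blockUnion_of_idempotent v.2 (funext fun η => by
      rw [Pi.mul_apply, hv, ← CfsgLib.Blocks.omega_conv η hucls hucls, huu])
    have huS : u = blockCoeff S := by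
      rw [← CfsgLib.Blocks.ofOmega_indVec, ← hvS, CfsgLib.Blocks.ofOmega_toZO hucls hul]
    have hSc : S ⊆ c := fun η hη => by
      by_contra hne
      have h : CfsgLib.Blocks.omega (η : N → ℂ) (CfsgLib.Blocks.conv u (blockCoeff c)) =
          CfsgLib.Blocks.omega (η : N → ℂ) u := by rw [hue]
      rw [huS, CfsgLib.Blocks.omega_conv η (CfsgLib.Blocks.isClassFunction_blockCoeff S)
        (CfsgLib.Blocks.isClassFunction_blockCoeff c), CfsgLib.Blocks.omega_blockCoeff,
        CfsgLib.Blocks.omega_blockCoeff, CfsgLib.Blocks.indVec_of_mem hη,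
        CfsgLib.Blocks.indVec_of_notMem hne, mul_zero] at h
      exact zero_ne_one h
    have hne : S.Nonempty := by
      by_contra he
      rw [Set.not_nonempty_iff_eq_empty] at he
      refine CfsgLib.Blocks.blockCoeff_one_ne_zero (S := B) (CfsgLib.Blocks.IsPBlock.nonempty hB) ?_
      show u 1 = 0
      rw [huS, he]
      simp [blockCoeff]
    have hSe : S = c := Set.Subset.antisymm hSc fun η hη => by
      obtain ⟨η₀, h₀⟩ := hne
      exact hS η₀ h₀ η (CfsgLib.Blocks.IsPBlock.sameBlock hc (hSc h₀) hη)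
    rw [CfsgLib.Blocks.subgroupBlockCoeff_eq, hext, huS, hSe]
  · obtain ⟨h1, h2⟩ := CfsgLib.Blocks.isDefectGroup_inf hM hc hB hBc hP
    refine ⟨?_, by rwa [Subgroup.inf_subgroupOf_right]⟩
    rw [← Subgroup.index_eq_one]
    have hd : (N ⊔ P).index ∣ p ^ k := hk ▸ Subgroup.index_dvd_of_le le_sup_left
    obtain ⟨j, -, hj⟩ := (Nat.dvd_prime_pow hM.1).mp hd
    rcases Nat.eq_zero_or_pos j with rfl | hj0
    · simpa using hj
    · exact absurd (hj ▸ dvd_pow_self p hj0.ne') h2

end Cfsg.Agent.S4672
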