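import Cfsg.Statements.S4673
import Cfsg.Agent.Lib.Blocks.CoveringDefect
import Cfsg.Agent.Lib.Blocks.OverCharacter

set_option autoImplicit false
open Cfsg
open scoped CfsgLib.Char

namespace Cfsg.Agent.S4673

/-- Fix a prime p and a maximal ideal M of the algebraic integers containing p. Let N ≤ L be normal subgroups of the finite group G with L/N a p-group, let B be a p-block of G covering the p-block c of N (some member of B has a constituent in c on restriction to N), and suppose that N contains a defect group of B. Then the stabilizer T of c in G satisfies T ∩ L = N. -/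
theorem result {G : Type*} [Group G] [Fintype G] (p : ℕ) [Fact p.Prime] (M : Ideal Cfsg.AlgInt) (hM : Cfsg.IsPModular p M) (N L : Subgroup G) [N.Normal] [L.Normal] [Fintype N] (hNL : N ≤ L) (hLN : ∃ k : ℕ, (N.subgroupOf L).index = p ^ k) (B : Set (Cfsg.IrrCharacter G)) (hB : Cfsg.IsPBlock M B) (c : Set (Cfsg.IrrCharacter N)) (hc : Cfsg.IsPBlock M c) (hcov : (∃ χ ∈ B, ∃ θ ∈ c, Cfsg.classInner (fun n : N => (χ : G → ℂ) n) (θ : N → ℂ) ≠ 0)) (hD : ∃ D : Subgroup G, Cfsg.IsDefectGroup p M B D ∧ D ≤ N) (T : Subgroup G) (hT : ∀ x : G, x ∈ T ↔ Cfsg.StabilizesBlock N c x) : T ⊓ L = N := by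
  classical
  have := CfsgLib.Blocks.isPrime_of_isPModular hM
  haveI : Fintype L := Fintype.ofFinite _
  obtain ⟨D, hD, hDN⟩ := hD
  obtain ⟨χ, hχ, θ, hθ, hcon⟩ := hcov
  have hL := CfsgLib.Blocks.conj_mem_normal_iff (N := N)
  have hNT : N ≤ T := fun x hx => (hT x).mpr (CfsgLib.Blocks.stabilizesBlock_iff.mpr
    ⟨Subgroup.normalizer_eq_top N ▸ Subgroup.mem_top x, CfsgLib.Blocks.conjSet_of_mem hx c⟩)
  refine le_antisymm ?_ (le_inf hNT hNL)
  by_contra hne
  have := CfsgLib.Blocks.charP_resField hM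
  -- a constituent on `L` lying over `θ`
  obtain ⟨η, hηχ, hηθ⟩ : ∃ η : IrrCharacter L,
      classInner (fun l : L => (χ : G → ℂ) l) (η : L → ℂ) ≠ 0 ∧
      classInner (fun n : N => (η : L → ℂ) ⟨n, hNL n.2⟩) (θ : N → ℂ) ≠ 0 := by
    have hr : IsClassFunction L (fun l : L => (χ : G → ℂ) l) := fun a x =>
      CfsgLib.Blocks.irr_classFunction χ (a : G) (x : G)
    have hexp := CfsgLib.Char.classFunction_expansion hr
    rw [show (fun n : N => (χ : G → ℂ) n) = ∑ η : IrrCharacter L,
        classInner (fun l : L => (χ : G → ℂ) l) (η : L → ℂ) •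
          fun n : N => (η : L → ℂ) ⟨n, hNL n.2⟩ from funext fun n => by
      have h := congrFun hexp ⟨(n : G), hNL n.2⟩
      simp only [Finset.sum_apply, Pi.smul_apply] at h ⊢
      exact h, CfsgLib.Char.classInner_sum_left] at hcon
    obtain ⟨η, -, h⟩ := Finset.exists_ne_zero_of_sum_ne_zero hcon
    rw [CfsgLib.Char.classInner_smul_left] at h
    exact ⟨η, left_ne_zero_of_mul h, right_ne_zero_of_mul h⟩
  set b := blockOf M (η : L → ℂ)
  have hb : IsPBlock M b := CfsgLib.Blocks.isPBlock_blockOf η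
  obtain ⟨R, hR⟩ := CfsgLib.Blocks.exists_isDefectGroup hM hb
  obtain ⟨g, hg, hsyl⟩ := CfsgLib.Blocks.isDefectGroup_iff.mp hR
  set N' := N.subgroupOf L with hN'
  -- `R` lies in `N`
  have hRN : R ≤ N' := by
    set Q := R.map L.subtype with hQ
    obtain ⟨P', hP', hPL⟩ := CfsgLib.Blocks.exists_defectGroup_inf_eq hb hB hχ
      (CfsgLib.Blocks.mem_blockOf_self η) hηχ hM (Subgroup.map_subtype_le R : Q ≤ L)
      (by rwa [Subgroup.subgroupOf, Subgroup.comap_map_eq_self_of_injective L.subtype_injective])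
      hD
    obtain ⟨x, hx⟩ := CfsgLib.Blocks.IsDefectGroup.exists_conj_eq hM hB hD hP'
    intro r hr
    have h : (r : G) ∈ P' := (hPL.ge (Subgroup.mem_map_of_mem _ hr)).1
    rw [hx] at h
    obtain ⟨u, hu, e⟩ := h
    rw [hN', Subgroup.mem_subgroupOf, ← e]
    exact (hL x u).mpr (hDN hu)
  obtain ⟨k, hk⟩ := hLN
  have hgN : g ∈ N' := CfsgLib.Blocks.mem_of_isPRegular_of_pow_mem hM.1
    (CfsgLib.Blocks.IsDefectClass.isPRegular hM hb hg) k (hk ▸ N'.pow_index_mem g)
  -- the centralizer of `g` lies in `N`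
  set C := Subgroup.centralizer ({g} : Set L) with hC
  have hCN : C ≤ N' := by
    have h1 : N'.relIndex C ∣ R.relIndex C :=
      Subgroup.relIndex_dvd_of_le_left C hRN
    have h2 : ¬ p ∣ R.relIndex C := by
      obtain ⟨S, hS⟩ := CfsgLib.Blocks.isSylowCent_iff.mp hsyl
      rw [hS, Subgroup.relIndex, Subgroup.subgroupOf,
        Subgroup.comap_map_eq_self_of_injective (Subgroup.subtype_injective _)]
      exact S.not_dvd_index
    have h3 : N'.relIndex C ∣ p ^ k := hk ▸ Subgroup.relIndex_dvd_index_of_normal N' C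
    obtain ⟨j, -, hj⟩ := (Nat.dvd_prime_pow hM.1).mp h3
    rcases Nat.eq_zero_or_pos j with rfl | hj0
    · exact Subgroup.relIndex_eq_one.mp (by simpa using hj)
    · exact absurd ((dvd_pow_self p hj0.ne').trans (hj ▸ h1)) h2
  -- the stabilizer inside `L`
  set U : Subgroup (L ⧸ N') := (T.subgroupOf L).map (QuotientGroup.mk' N') with hU
  have hUp : IsPGroup p U := (IsPGroup.of_card (n := k) (by
    rw [← hk]; rfl) : IsPGroup p (L ⧸ N')).to_subgroup U
  have hU1 : U ≠ ⊥ := fun h => hne fun x hx => by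
    have h' := h.le (Subgroup.mem_map_of_mem (QuotientGroup.mk' N')
      (show (⟨x, hx.2⟩ : L) ∈ T.subgroupOf L from hx.1))
    exact (QuotientGroup.eq_one_iff (N := N') (⟨x, hx.2⟩ : L)).mp (Subgroup.mem_bot.mp h')
  -- the class of `g` in `N`
  let F : L → N := fun x => ⟨((x * g * x⁻¹ : L) : G), by
    simp only [Subgroup.coe_mul, Subgroup.coe_inv]
    exact (hL _ _).mpr hgN⟩
  have hF : ∀ (x : L) (n : N), IsConj (F x) n → IsConj g (⟨n, hNL n.2⟩ : L) := fun x n h =>
    isConj_iff.mpr (by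
      obtain ⟨y, hy⟩ := isConj_iff.mp h
      refine ⟨⟨y, hNL y.2⟩ * x, Subtype.ext ?_⟩
      rw [← hy]
      simp [F, mul_assoc])
  have hFeq : ∀ x y : L, IsConj (F x) (F y) → (x : L ⧸ N') = y := by
    intro x y h
    obtain ⟨z, hz⟩ := isConj_iff.mp h
    set z' : L := ⟨z, hNL z.2⟩
    have e : z' * x * g * x⁻¹ * z'⁻¹ = y * g * y⁻¹ := Subtype.ext (by
      have := congrArg Subtype.val hz
      simpa [F, z', mul_assoc] using this)
    have hm : y⁻¹ * (z' * x) ∈ N' := hCN (Subgroup.mem_centralizer_singleton_iff.mpr (by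
      calc y⁻¹ * (z' * x) * g = y⁻¹ * (z' * x * g * x⁻¹ * z'⁻¹) * (z' * x) := by group
        _ = g * (y⁻¹ * (z' * x)) := by rw [e]; group))
    have hz' : z' ∈ N' := z.2
    rw [← QuotientGroup.eq_one_iff (N := N') _, QuotientGroup.mk_mul, QuotientGroup.mk_inv,
      QuotientGroup.mk_mul, (QuotientGroup.eq_one_iff (N := N') z').mpr hz', one_mul,
      inv_mul_eq_one] at hm
    exact hm.symm
  have hFq : ∀ x y : L, (x : L ⧸ N') = y → IsConj (F x) (F y) := by
    intro x y h
    have hm : y * x⁻¹ ∈ N' := by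
      rw [← QuotientGroup.eq_one_iff (N := N') _, QuotientGroup.mk_mul, QuotientGroup.mk_inv, h,
        mul_inv_cancel]
    refine isConj_iff.mpr ⟨⟨((y * x⁻¹ : L) : G), hm⟩, Subtype.ext ?_⟩
    simp [F, mul_assoc]
  set v : L → ℂ := CfsgLib.Blocks.classInd g with hv
  set vN : N → ℂ := fun n => v ⟨n, hNL n.2⟩ with hvN
  have hvsum : vN = ∑ q : L ⧸ N', CfsgLib.Blocks.classInd (F q.out) := by
    funext n
    simp only [hvN, hv, Finset.sum_apply, CfsgLib.Blocks.classInd]
    by_cases hn : IsConj g (⟨n, hNL n.2⟩ : L)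
    · obtain ⟨x, hx⟩ := isConj_iff.mp hn
      have hnx : F x = n := Subtype.ext (by
        have := congrArg Subtype.val hx
        simpa [F] using this)
      rw [if_pos hn, Finset.sum_eq_single (x : L ⧸ N')]
      · rw [if_pos]
        exact hnx ▸ hFq _ _ (QuotientGroup.out_eq' _)
      · intro q _ hq
        rw [if_neg]
        intro h
        exact hq ((QuotientGroup.out_eq' q).symm.trans (hFeq _ _ (hnx ▸ h)))
      · exact fun h => absurd (Finset.mem_univ _) h
    · rw [if_neg hn]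
      exact (Finset.sum_eq_zero fun q _ => if_neg fun h => hn (hF _ _ h)).symm
  -- transport to the normal subgroup `N'` of `L`
  let e : N' ≃* N := Subgroup.subgroupOfEquivOfLe hNL
  set θ' : IrrCharacter N' := ⟨(θ : N → ℂ) ∘ e, CfsgLib.Char.isIrrCharacter_comp_mulEquiv e θ.2⟩
  have hηθ' : classInner (fun n : N' => (η : L → ℂ) n) (θ' : N' → ℂ) ≠ 0 := by
    refine ne_of_eq_of_ne ?_ hηθ
    exact CfsgLib.Char.classInner_comp_mulEquiv e (fun n : N => (η : L → ℂ) ⟨n, hNL n.2⟩)
      (θ : N → ℂ)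
  have hω : CfsgLib.Blocks.omega (η : L → ℂ) v = CfsgLib.Blocks.omega (θ : N → ℂ) vN := by
    rw [CfsgLib.Blocks.omega_eq_of_constituent hηθ' (CfsgLib.Blocks.isClassFunction_classInd g)
      fun y hy => CfsgLib.Blocks.classInd_eq_zero_of_not_mem hgN hy]
    simp only [CfsgLib.Blocks.omega]
    congr 1
    exact Fintype.sum_equiv e.toEquiv _ _ fun n => rfl
  -- the residues are invariant under the stabilizer
  set H : L ⧸ N' → CfsgLib.Blocks.ResField M := fun q =>
    CfsgLib.Blocks.res M (centralChar (θ : N → ℂ) (F q.out)) with hH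
  have hHinv : ∀ u ∈ U, ∀ q, H (u * q) = H q := by
    rintro _ ⟨t, ht, rfl⟩ q
    have hst := CfsgLib.Blocks.stabilizesBlock_iff.mp ((hT _).mp (T.inv_mem ht))
    have h := fun y => CfsgLib.Blocks.conj_mem_iff_of_mem_normalizer (K := N) hst.1 y
    have h1 : ∀ y : N, CfsgLib.Blocks.res M (centralChar (θ : N → ℂ)
        ⟨(t : G) * y * (t : G)⁻¹, (hL _ _).mpr y.2⟩) =
        CfsgLib.Blocks.res M (centralChar (θ : N → ℂ) y) := fun y => by
      rw [← CfsgLib.Blocks.centralChar_conjIrr h θ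
        (c := ⟨(t : G) * y * (t : G)⁻¹, (hL _ _).mpr y.2⟩) (c' := y) (by simp [mul_assoc])]
      exact (CfsgLib.Blocks.res_eq_iff (CfsgLib.Blocks.memLocalRing_centralChar _ _)
        (CfsgLib.Blocks.memLocalRing_centralChar _ _)).mpr (CfsgLib.Blocks.IsPBlock.sameBlock hc
          (hst.2 ▸ CfsgLib.Blocks.conjIrr_mem_conjSet h hθ) hθ _)
    simp only [hH]
    rw [← h1 (F q.out)]
    have h2 := hFq (QuotientGroup.mk' N' t * q).out (t * q.out) (by
      rw [QuotientGroup.mk_mul, QuotientGroup.out_eq', QuotientGroup.out_eq']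
      rfl)
    congr 1
    refine (CfsgLib.Blocks.centralChar_eq_of_isConj θ h2).trans ?_
    congr 1
    exact Subtype.ext (by simp [F, mul_assoc])
  have hzero : ∑ q, H q = 0 := by
    obtain ⟨j, hj⟩ := IsPGroup.iff_card.mp hUp
    have hpU : p ∣ Nat.card U := by
      rcases Nat.eq_zero_or_pos j with rfl | hj0
      · exact absurd ((Subgroup.card_eq_one (H := U)).mp (by simpa using hj)) hU1
      · exact hj ▸ dvd_pow_self p hj0.ne'
    rw [← Equiv.sum_comp (Equiv.inv (L ⧸ N')) H, ← Fintype.sum_equiv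
      (Subgroup.groupEquivQuotientProdSubgroup (s := U)).symm
      (fun x => H (x.1.out)⁻¹) _ ?_]
    · rw [Fintype.sum_prod_type]
      refine Finset.sum_eq_zero fun q _ => ?_
      show ∑ _y : U, H q.out⁻¹ = 0
      rw [Finset.sum_const, Finset.card_univ, ← Nat.card_eq_fintype_card, nsmul_eq_mul,
        (CharP.cast_eq_zero_iff (CfsgLib.Blocks.ResField M) p _).mpr hpU, zero_mul]
    · intro x
      set z := (Subgroup.groupEquivQuotientProdSubgroup (s := U)).symm x
      have hx : (z : (L ⧸ N') ⧸ U) = x.1 := by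
        conv_rhs => rw [← (Subgroup.groupEquivQuotientProdSubgroup (s := U)).apply_symm_apply x]
        rfl
      have hm : x.1.out⁻¹ * z ∈ U :=
        QuotientGroup.eq.mp ((QuotientGroup.out_eq' _).trans hx.symm)
      show _ = H z⁻¹
      rw [← hHinv _ hm z⁻¹, mul_assoc, mul_inv_cancel, mul_one]
  refine hg.2.2 η (CfsgLib.Blocks.mem_blockOf_self η) ?_
  rw [← CfsgLib.Blocks.res_eq_zero_iff (CfsgLib.Blocks.memLocalRing_centralChar _ _),
    ← CfsgLib.Blocks.omega_classInd, ← hv, hω, hvsum, CfsgLib.Blocks.omega_sum,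
    CfsgLib.Blocks.res_sum _ _ fun q _ => by
      rw [CfsgLib.Blocks.omega_classInd]; exact CfsgLib.Blocks.memLocalRing_centralChar _ _]
  simpa only [CfsgLib.Blocks.omega_classInd] using hzero

end Cfsg.Agent.S4673
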