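import Cfsg.Statements.S4674
import Cfsg.Agent.Lib.Blocks.HarrisKnorr
import Cfsg.Agent.Lib.Blocks.ExtendedFirst

set_option autoImplicit false
open Cfsg
open scoped CfsgLib.Char

namespace Cfsg.Agent.S4674

open CfsgLib.Blocks in
/-- The correspondence with the subgroups named. -/
theorem correspondence {G : Type*} [Group G] [Fintype G] {p : ℕ} [Fact p.Prime] {M : Ideal AlgInt}
    (hM : IsPModular p M) {N : Subgroup G} [N.Normal] [Fintype N] {Q : Subgroup G}
    (hQ : IsPGroup p Q) (hQN : Q ≤ N) {H L : Subgroup G} [Fintype L]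
    (hH : H = Subgroup.normalizer (Q : Set G)) (hL : L = H ⊓ N) (hLH : L ≤ H)
    {d : Set (IrrCharacter N)} (hd : IsPBlock M d) (hdQ : IsDefectGroup p M d (Q.subgroupOf N))
    {e : Set (IrrCharacter L)} (heQ : IsDefectGroup p M e (Q.subgroupOf L))
    (hed : IsInducedBlockIn M N L e d) :
    (∀ c : Set (IrrCharacter H), IsPBlock M c →
      (∃ ψ ∈ c, ∃ ξ ∈ e, classInner (fun l : L => (ψ : H → ℂ) (Subgroup.inclusion hLH l))
        (ξ : L → ℂ) ≠ 0) →
      ∃! B : Set (IrrCharacter G), IsInducedBlock M H c B ∧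
        ∃ χ ∈ B, ∃ θ ∈ d, classInner (fun n : N => (χ : G → ℂ) n) (θ : N → ℂ) ≠ 0) ∧
    (∀ B : Set (IrrCharacter G), IsPBlock M B →
      (∃ χ ∈ B, ∃ θ ∈ d, classInner (fun n : N => (χ : G → ℂ) n) (θ : N → ℂ) ≠ 0) →
      ∃! c : Set (IrrCharacter H), (IsPBlock M c ∧ ∃ ψ ∈ c, ∃ ξ ∈ e,
        classInner (fun l : L => (ψ : H → ℂ) (Subgroup.inclusion hLH l)) (ξ : L → ℂ) ≠ 0) ∧
        IsInducedBlock M H c B) := by
  classical
  have := isPrime_of_isPModular hM
  have : Fintype H := Fintype.ofFinite H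
  have hQH : Q ≤ H := hH ▸ Subgroup.le_normalizer
  have hHN : H ≤ Subgroup.normalizer (Q : Set G) := hH.le
  have hCH : Subgroup.centralizer (Q : Set G) ≤ H := hH ▸ Subgroup.centralizer_le_normalizer _
  have hQL : Q ≤ L := hL ▸ le_inf hQH hQN
  have hmemL : ∀ x : G, x ∈ L ↔ x ∈ H ∧ x ∈ N := fun x => by rw [hL]; exact Iff.rfl
  set QN : Subgroup N := Q.subgroupOf N with hQNdef
  have hQNp : IsPGroup p QN := hQ.comap_of_injective _ (Subgroup.subtype_injective _)
  have hQNcard : Nat.card QN = Nat.card Q := Nat.card_congr (Subgroup.subgroupOfEquivOfLe hQN).toEquiv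
  set LN : Subgroup N := Subgroup.normalizer (QN : Set N) with hLN
  have hnorm : ∀ n : N, n ∈ LN ↔ (n : G) ∈ H := by
    intro n
    rw [hH, hLN]
    simp only [Subgroup.mem_normalizer_iff, hQNdef, Subgroup.mem_subgroupOf,
      Subgroup.coe_mul, Subgroup.coe_inv, SetLike.mem_coe]
    constructor
    · intro h a
      by_cases ha : a ∈ N
      · exact h ⟨a, ha⟩
      · refine ⟨fun haP => absurd (hQN haP) ha, fun haP => absurd ?_ ha⟩
        have h2 := N.mul_mem (N.mul_mem (N.inv_mem n.2) (hQN haP)) n.2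
        simpa [mul_assoc] using h2
    · exact fun h a => h a
  let ν : LN ≃* L :=
    { toFun := fun n => ⟨((n : N) : G), (hmemL _).mpr ⟨(hnorm _).mp n.2, (n : N).2⟩⟩
      invFun := fun l => ⟨⟨(l : G), ((hmemL _).mp l.2).2⟩, (hnorm _).mpr ((hmemL _).mp l.2).1⟩
      left_inv := fun _ => rfl
      right_inv := fun _ => rfl
      map_mul' := fun _ _ => rfl }
  set K : Subgroup H := N.subgroupOf H with hK
  have : K.Normal := Subgroup.Normal.subgroupOf inferInstance H
  let τ : K ≃* L :=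
    { toFun := fun k => ⟨((k : H) : G), (hmemL _).mpr ⟨(k : H).2, Subgroup.mem_subgroupOf.mp k.2⟩⟩
      invFun := fun l => ⟨⟨(l : G), ((hmemL _).mp l.2).1⟩,
        Subgroup.mem_subgroupOf.mpr ((hmemL _).mp l.2).2⟩
      left_inv := fun _ => rfl
      right_inv := fun _ => rfl
      map_mul' := fun _ _ => rfl }
  have : Fintype LN := Fintype.ofFinite _
  have : Fintype K := Fintype.ofFinite _
  set eN : Set (IrrCharacter LN) := irrEquiv ν.symm '' e with heN
  have hind : IsInducedBlock M LN eN d := isInducedBlock_of_isInducedBlockIn ν (fun _ => rfl) hed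
  have hCLN : Subgroup.centralizer (QN : Set N) ≤ LN := Subgroup.centralizer_le_normalizer _
  have hQLN : QN ≤ LN := Subgroup.le_normalizer
  have heNd : IsDefectGroup p M eN (QN.subgroupOf LN) :=
    isDefectGroup_subgroupOf_of_induced hM hQLN le_rfl hdQ hind
  have hdefd : p ^ blockDefect p d = Nat.card Q :=
    (IsDefectGroup.card_eq hM hd hdQ).symm.trans hQNcard
  have hdefe : p ^ blockDefect p e = Nat.card Q :=
    (IsDefectGroup.card_eq hM hed.1 heQ).symm.trans
      (Nat.card_congr (Subgroup.subgroupOfEquivOfLe hQL).toEquiv)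
  set eK : Set (IrrCharacter K) := irrEquiv τ.symm '' e with heK
  have heKb : IsPBlock M eK := isPBlock_image_irrEquiv _ hed.1
  have hcovK : ∀ (ψ : IrrCharacter H) (ξ : IrrCharacter L),
      classInner (fun k : K => (ψ : H → ℂ) k) (irrEquiv τ.symm ξ : K → ℂ) =
        classInner (fun l : L => (ψ : H → ℂ) (Subgroup.inclusion hLH l)) (ξ : L → ℂ) :=
    fun ψ ξ => CfsgLib.Char.classInner_comp_mulEquiv τ
      (fun l : L => (ψ : H → ℂ) (Subgroup.inclusion hLH l)) (ξ : L → ℂ)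
  have hchain : ∀ (ψ : IrrCharacter H) (ξ : IrrCharacter L),
      classInner (fun l : L => (ψ : H → ℂ) (Subgroup.inclusion hLH l)) (ξ : L → ℂ) ≠ 0 →
      ∀ v : G → ℂ, IsClassFunction G v → (∀ g, g ∉ N → v g = 0) →
      omega (ψ : H → ℂ) (fun h : H => v h) =
        omega (irrEquiv ν.symm ξ : LN → ℂ) (fun y : LN => v ((y : N) : G)) := by
    intro ψ ξ hne v hv hsupp
    rw [← hcovK] at hne
    rw [omega_eq_of_constituent hne (v := fun h : H => v h) (fun a x => hv (a : G) (x : G))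
      fun h hh => hsupp _ fun hN => hh (Subgroup.mem_subgroupOf.mpr hN)]
    show omega (fun k : K => (ξ : L → ℂ) (τ k)) (fun k : K => (fun l : L => v (l : G)) (τ k)) =
      omega (fun y : LN => (ξ : L → ℂ) (ν y)) (fun y : LN => (fun l : L => v (l : G)) (ν y))
    rw [omega_comp_mulEquiv τ (ξ : L → ℂ) (fun l : L => v (l : G)),
      omega_comp_mulEquiv ν (ξ : L → ℂ) (fun l : L => v (l : G))]
  have hcover : ∀ (c : Set (IrrCharacter H)) (B : Set (IrrCharacter G)),
      IsInducedBlock M H c B → ∀ ψ ∈ c, ∀ ξ : IrrCharacter L,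
      classInner (fun l : L => (ψ : H → ℂ) (Subgroup.inclusion hLH l)) (ξ : L → ℂ) ≠ 0 →
      ∀ d₁ : Set (IrrCharacter N),
        IsInducedBlock M LN (blockOf M (irrEquiv ν.symm ξ : LN → ℂ)) d₁ →
      ∀ χ ∈ B, ∀ θ₁ : IrrCharacter N, classInner (fun n : N => (χ : G → ℂ) n) (θ₁ : N → ℂ) ≠ 0 →
        ∃ g : G, conjI g θ₁ ∈ d₁ := by
    intro c B hcB ψ hψ ξ hne d₁ hd₁ χ hχ θ₁ hθ₁
    obtain ⟨θ', hθ'⟩ := IsPBlock.nonempty hd₁.2.1
    refine exists_conjI_mem_of_congr hd₁.2.1 hθ' (fun v hv hl hsupp => ?_) hθ₁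
    have h1 := IsInducedBlock.omega_congr hcB hψ hχ hv hl
    have h2 := IsInducedBlock.omega_congr hd₁ (mem_blockOf_self (irrEquiv ν.symm ξ)) hθ'
      (f := fun n : N => v (n : G)) (fun a x => hv (a : G) (x : G)) fun n => hl _
    rw [hchain ψ ξ hne v hv hsupp] at h1
    exact memLocalIdeal_sub_trans (memLocalIdeal_sub_comm h1) h2
  constructor
  · intro c hc hcov
    obtain ⟨ψ, hψ, ξ, hξ, hne⟩ := hcov
    obtain ⟨B, hcB⟩ := inducedBlockDefined_of_le_normalizer hM hQ hQH hCH hHN hc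
    refine ⟨B, ⟨hcB, ?_⟩, fun B' hB' => IsInducedBlock.unique hB'.1 hcB⟩
    obtain ⟨χ, hχ⟩ := IsPBlock.nonempty hcB.2.1
    obtain ⟨θ₁, hθ₁⟩ := CfsgLib.Char.exists_constituent N (CfsgLib.Char.isCharacter_of_isIrr χ.2)
      (CfsgLib.Char.irr_degree_ne_zero χ.2)
    have heb : eN = blockOf M (irrEquiv ν.symm ξ : LN → ℂ) :=
      IsPBlock.eq_blockOf hind.1 ⟨ξ, hξ, rfl⟩
    obtain ⟨g, hg⟩ := hcover c B hcB ψ hψ ξ hne d (heb ▸ hind) χ hχ θ₁ hθ₁
    refine ⟨χ, hχ, conjI g θ₁, hg, ?_⟩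
    rw [coe_conjI, ← CfsgLib.Char.conjBy_restrict N (irr_classFunction χ) g,
      CfsgLib.Char.classInner_conjBy]
    exact hθ₁
  intro B hB hcovB
  obtain ⟨χ, hχ, θ, hθ, hcon⟩ := hcovB
  have hmain : ∀ c : Set (IrrCharacter H), IsInducedBlock M H c B → ∃ ψ ∈ c, ∃ ξ ∈ e,
      classInner (fun l : L => (ψ : H → ℂ) (Subgroup.inclusion hLH l)) (ξ : L → ℂ) ≠ 0 := by
    intro c hcB
    obtain ⟨ψ, hψ⟩ := IsPBlock.nonempty hcB.1
    obtain ⟨ξK, hξK⟩ := CfsgLib.Char.exists_constituent K (CfsgLib.Char.isCharacter_of_isIrr ψ.2)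
      (CfsgLib.Char.irr_degree_ne_zero ψ.2)
    set ξ₁ : IrrCharacter L := irrEquiv τ ξK with hξ₁
    have hne₁ : classInner (fun l : L => (ψ : H → ℂ) (Subgroup.inclusion hLH l)) (ξ₁ : L → ℂ) ≠ 0 := by
      rw [← hcovK, show irrEquiv τ.symm ξ₁ = ξK from Subtype.ext rfl]
      exact hξK
    set e₁ := blockOf M (irrEquiv ν.symm ξ₁ : LN → ℂ)
    obtain ⟨d₁, hd₁⟩ := inducedBlockDefined_of_le_normalizer hM hQNp hQLN hCLN le_rfl
      (isPBlock_blockOf (M := M) (irrEquiv ν.symm ξ₁))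
    obtain ⟨g, hg⟩ := hcover c B hcB ψ hψ ξ₁ hne₁ d₁ hd₁ χ hχ θ hcon
    set φ : N ≃* N := ((MulAut.conjNormal g : MulAut N) : N ≃* N).symm with hφ
    have hd₁eq : d₁ = irrEquiv φ '' d :=
      IsPBlock.eq_of_mem_of_mem hd₁.2.1 (isPBlock_image_irrEquiv φ hd) hg
        ⟨θ, hθ, Subtype.ext rfl⟩
    have hd₁def : p ^ blockDefect p d₁ = Nat.card Q := by
      rw [hd₁eq, blockDefect_image_irrEquiv, hdefd]
    have : (QN.subgroupOf LN).Normal := Subgroup.normal_in_normalizer
    have he₁Q : IsDefectGroup p M e₁ (QN.subgroupOf LN) := by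
      obtain ⟨D₁, hD₁⟩ := exists_isDefectGroup hM hd₁.1
      have hle : QN.subgroupOf LN ≤ D₁ := IsDefectGroup.normal_le hM hd₁.1 hD₁ _
        (hQNp.comap_of_injective _ (Subgroup.subtype_injective _))
      obtain ⟨E, hE, hDE⟩ := IsInducedBlock.exists_defectGroup_le hM hd₁ hD₁
      have h1 := Subgroup.card_le_of_le hDE
      rw [Subgroup.card_map_of_injective (Subgroup.subtype_injective _),
        IsDefectGroup.card_eq hM hd₁.2.1 hE, hd₁def, ← hQNcard,
        ← Nat.card_congr (Subgroup.subgroupOfEquivOfLe hQLN).toEquiv] at h1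
      rw [Subgroup.eq_of_le_of_card_ge hle h1]
      exact hD₁
    obtain ⟨d₁', -, hd₁'Q, hd₁'⟩ := (first_main_theorem hM hQNp).1 e₁ hd₁.1 he₁Q
    rw [IsInducedBlock.unique hd₁' hd₁] at hd₁'Q
    obtain ⟨y, hy, hsyl⟩ := isDefectGroup_iff.mp hd₁'Q
    have hyu : ¬ MemLocalIdeal M (blockCoeff d ((MulAut.conjNormal g : MulAut N) y)) := by
      have h1 := hy.2.1
      rw [hd₁eq, show y = φ ((MulAut.conjNormal g : MulAut N) y) from
        (((MulAut.conjNormal g : MulAut N) : N ≃* N).symm_apply_apply y).symm,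
        blockCoeff_image_irrEquiv] at h1
      exact h1
    obtain ⟨n, hn⟩ := IsDefectGroup.exists_le_conj_of_support hM hd hdQ hyu
      (Q := QN.map (MulAut.conjNormal g : MulAut N).toMonoidHom) (hQNp.map _) (by
        rintro _ ⟨q, hq, rfl⟩
        refine Subgroup.mem_centralizer_singleton_iff.mpr ?_
        show (MulAut.conjNormal g : MulAut N) q * (MulAut.conjNormal g : MulAut N) y =
          (MulAut.conjNormal g : MulAut N) y * (MulAut.conjNormal g : MulAut N) q
        rw [← map_mul, ← map_mul, Subgroup.mem_centralizer_singleton_iff.mp (hsyl.1 hq)])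
    set h : G := (n : G)⁻¹ * g with hh
    have hhH : h ∈ H := by
      have hle : Q.map (MulAut.conj h).toMonoidHom ≤ Q := by
        rintro _ ⟨q, hq, rfl⟩
        obtain ⟨r, hr, hreq⟩ := hn ⟨⟨q, hQN hq⟩, hq, rfl⟩
        have hreq' : (n : G) * (r : G) * (n : G)⁻¹ = g * q * g⁻¹ := by
          simpa using congrArg Subtype.val hreq
        show h * q * h⁻¹ ∈ Q
        have : h * q * h⁻¹ = (r : G) := by
          rw [hh, show (n : G)⁻¹ * g * q * ((n : G)⁻¹ * g)⁻¹ =
            (n : G)⁻¹ * (g * q * g⁻¹) * (n : G) by group, ← hreq']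
          group
        rw [this]
        exact hr
      rw [hH]
      exact Subgroup.mem_normalizer_iff_map_conj_eq.mpr
        (Subgroup.eq_of_le_of_card_ge hle (card_map_conj Q h).ge)
    have hθh : conjI h θ ∈ d₁ := by
      have e0 : conjI (n : G)⁻¹ θ = θ := Subtype.ext (by
        rw [coe_conjI]
        exact CfsgLib.Char.conjBy_mem N (irr_classFunction θ) (N.inv_mem n.2))
      rw [hh, conjI_mul, e0]
      exact hg
    set hinv : H := ⟨h, hhH⟩⁻¹
    set ξK₀ : IrrCharacter K := conjI hinv ξK with hξK₀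
    set ξ₀ : IrrCharacter L := irrEquiv τ ξK₀ with hξ₀
    have hne₀ : classInner (fun l : L => (ψ : H → ℂ) (Subgroup.inclusion hLH l)) (ξ₀ : L → ℂ) ≠ 0 := by
      rw [← hcovK, show irrEquiv τ.symm ξ₀ = ξK₀ from Subtype.ext rfl, hξK₀, coe_conjI,
        ← CfsgLib.Char.conjBy_restrict K (irr_classFunction ψ) hinv,
        CfsgLib.Char.classInner_conjBy]
      exact hξK
    have hw : ∀ w : N → ℂ, IsClassFunction N w → (∀ m, MemLocalRing M (w m)) →
        MemLocalIdeal M (omega (irrEquiv ν.symm ξ₀ : LN → ℂ) (fun y : LN => w y) -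
          omega (θ : N → ℂ) w) := by
      intro w hwc hwl
      set α : N ≃* N := ((MulAut.conjNormal h : MulAut N) : N ≃* N) with hα
      have h2 := IsInducedBlock.omega_congr hd₁ (mem_blockOf_self (irrEquiv ν.symm ξ₁)) hθh
        (f := fun m : N => w (α m))
        (fun a x => by
          have e1 := hwc (α a) (α x)
          rw [← map_mul, ← map_inv, ← map_mul] at e1
          exact e1)
        fun m => hwl _
      have e2 : omega (conjI h θ : N → ℂ) (fun m : N => w (α m)) = omega (θ : N → ℂ) w :=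
        omega_comp_mulEquiv α (θ : N → ℂ) w
      let β : K ≃* K := (MulAut.conjNormal hinv : MulAut K)
      have e3 : omega (irrEquiv ν.symm ξ₀ : LN → ℂ) (fun y : LN => w y) =
          omega (irrEquiv ν.symm ξ₁ : LN → ℂ) (fun y : LN => w (α y)) := by
        have a1 := omega_comp_mulEquiv (τ.trans ν.symm) (irrEquiv ν.symm ξ₀ : LN → ℂ)
          (fun y : LN => w y)
        have a2 := omega_comp_mulEquiv (τ.trans ν.symm) (irrEquiv ν.symm ξ₁ : LN → ℂ)
          (fun y : LN => w (α y))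
        have a3 := omega_comp_mulEquiv β (ξK : K → ℂ)
          (fun k : K => w (α ((τ.trans ν.symm) k : LN)))
        rw [← a1, ← a2]
        refine Eq.trans ?_ a3
        congr 1
        funext k
        congr 1
        refine Subtype.ext ?_
        show ((k : H) : G) = h * ((hinv : G) * ((k : H) : G) * (hinv : G)⁻¹) * h⁻¹
        have : (hinv : G) = h⁻¹ := rfl
        rw [this]
        group
      rw [e3, ← e2]
      exact h2
    have hind₀ : IsInducedBlock M LN (blockOf M (irrEquiv ν.symm ξ₀ : LN → ℂ)) d := by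
      refine ⟨isPBlock_blockOf _, hd, fun η hη θ' hθ' m => ?_⟩
      rw [inducedCentralChar_eq_omega, ← omega_classInd θ' m]
      refine memLocalIdeal_sub_trans (memLocalIdeal_sub_trans
        (sub_mem_localIdeal_of_sameBlock (SameBlock.symm hη) (fun a x => ?_) fun y => ?_)
        (hw (classInd m) (isClassFunction_classInd m) (memLocalRing_classInd m)))
        (sub_mem_localIdeal_of_sameBlock (IsPBlock.sameBlock hd hθ hθ')
          (isClassFunction_classInd m) (memLocalRing_classInd m))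
      · exact isClassFunction_classInd m (a : N) (x : N)
      · exact memLocalRing_classInd m _
    have heq := inducing_block_unique hM hQNp heNd hind hind₀
    refine ⟨ψ, hψ, ξ₀, ?_, hne₀⟩
    have hmem : irrEquiv ν.symm ξ₀ ∈ eN := by rw [heq]; exact mem_blockOf_self _
    obtain ⟨ξ', hξ', heq'⟩ := hmem
    rwa [← (irrEquiv ν.symm).injective heq']
  obtain ⟨D, hD⟩ := exists_isDefectGroup hM hB
  obtain ⟨P', hP', hP'N⟩ := exists_defectGroup_inf_eq hd hB hχ hθ hcon hM hQN hdQ hD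
  obtain ⟨c, hcB⟩ := (exists_isInducedBlock_iff hM hQ hQH hCH hHN hB hP').mpr ⟨1, by
    rintro _ ⟨q, hq, rfl⟩
    have : q ∈ P' ⊓ N := hP'N.symm ▸ hq
    simpa using this.1⟩
  refine ⟨c, ⟨⟨hcB.1, hmain c hcB⟩, hcB⟩, ?_⟩
  rintro c' ⟨-, hc'B⟩
  -- a lift of the idempotent of `c`
  obtain ⟨ψ, hψ, ξ, hξ, hne⟩ := hmain c hcB
  rw [← hcovK] at hne
  obtain ⟨Good, hGood⟩ : ∃ Good : G → Prop, ∀ y, Good y ↔ y ∈ Subgroup.centralizer (Q : Set G) ∧
      ∀ R : Subgroup G, IsPGroup p R → R ≤ N ⊓ Subgroup.centralizer ({y} : Set G) →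
        Nat.card R ≤ Nat.card Q := ⟨_, fun _ => Iff.rfl⟩
  have hbad : ∀ y : H, (y : G) ∈ Subgroup.centralizer (Q : Set G) → ¬ Good y →
      MemLocalIdeal M (blockCoeff c y) := by
    intro y hy hng
    rw [hGood] at hng
    push Not at hng
    obtain ⟨R, hR, hRX, hbig⟩ := hng hy
    obtain ⟨R', hR', hR'X, hbig'⟩ := exists_normalizing_larger hQ hQN hy hR hRX hbig
    have hR'H : R' ≤ H := hH ▸ hR'X.trans inf_le_left
    refine memLocalIdeal_blockCoeff_of_covering (R := R'.subgroupOf H) hM heKb hcB.1 hψ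
      (θ := irrEquiv τ.symm ξ) ⟨ξ, hξ, rfl⟩ hne
      (hR'.comap_of_injective _ (Subgroup.subtype_injective _))
      (fun r hr => Subgroup.mem_subgroupOf.mpr (hR'X (Subgroup.mem_subgroupOf.mp hr)).2.1) ?_ ?_
    · rw [heK, blockDefect_image_irrEquiv, hdefe,
        Nat.card_congr (Subgroup.subgroupOfEquivOfLe hR'H).toEquiv]
      exact hbig'
    · refine Subgroup.mem_centralizer_iff.mpr fun r hr => Subtype.ext ?_
      exact Subgroup.mem_centralizer_singleton_iff.mp
        (hR'X (Subgroup.mem_subgroupOf.mp hr)).2.2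
  have hXconj : ∀ {u v g : G}, g * u * g⁻¹ = v → ∀ R : Subgroup G,
      R ≤ N ⊓ Subgroup.centralizer ({u} : Set G) →
      R.map (MulAut.conj g).toMonoidHom ≤ N ⊓ Subgroup.centralizer ({v} : Set G) := by
    rintro u v g rfl R hR _ ⟨r, hr, rfl⟩
    refine ⟨‹N.Normal›.conj_mem r (hR hr).1 g, Subgroup.mem_centralizer_singleton_iff.mpr ?_⟩
    show g * r * g⁻¹ * (g * u * g⁻¹) = g * u * g⁻¹ * (g * r * g⁻¹)
    calc g * r * g⁻¹ * (g * u * g⁻¹) = g * (r * u) * g⁻¹ := by group
      _ = g * (u * r) * g⁻¹ := by rw [Subgroup.mem_centralizer_singleton_iff.mp (hR hr).2]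
      _ = g * u * g⁻¹ * (g * r * g⁻¹) := by group
  have hgoodconj : ∀ u v : G, Good u → Good v → IsConj u v → ∃ n ∈ H, n * u * n⁻¹ = v := by
    intro u v hu hv hconj
    rw [hGood] at hu hv
    obtain ⟨g, hg⟩ := isConj_iff.mp hconj
    set X := N ⊓ Subgroup.centralizer ({u} : Set G) with hX
    have hQX : ∀ {w : G}, w ∈ Subgroup.centralizer (Q : Set G) →
        Q ≤ N ⊓ Subgroup.centralizer ({w} : Set G) := fun hw => le_inf hQN fun q hq =>
      Subgroup.mem_centralizer_singleton_iff.mpr (Subgroup.mem_centralizer_iff.mp hw q hq)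
    set R₁ := Q.map (MulAut.conj g⁻¹).toMonoidHom with hR₁
    have hR₁X : R₁ ≤ X := hXconj (by rw [← hg]; group) Q (hQX hv.1)
    have hR₁p : IsPGroup p R₁ := hQ.map _
    obtain ⟨S, hS⟩ := IsPGroup.exists_le_sylow (G := X)
      (hQ.comap_of_injective X.subtype X.subtype_injective : IsPGroup p (Q.subgroupOf X))
    obtain ⟨S', hS'⟩ := IsPGroup.exists_le_sylow (G := X)
      (hR₁p.comap_of_injective X.subtype X.subtype_injective : IsPGroup p (R₁.subgroupOf X))
    have hSle : ∀ S : Sylow p X, Nat.card (S : Subgroup X) ≤ Nat.card Q := fun S => by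
      rw [← Subgroup.card_map_of_injective (K := (S : Subgroup X)) X.subtype_injective]
      exact hu.2 _ (S.2.map _) (Subgroup.map_subtype_le _)
    have hSeq : Q.subgroupOf X = S := Subgroup.eq_of_le_of_card_ge hS
      ((hSle S).trans_eq (Nat.card_congr (Subgroup.subgroupOfEquivOfLe (hQX hu.1)).toEquiv).symm)
    have hS'eq : R₁.subgroupOf X = S' := Subgroup.eq_of_le_of_card_ge hS'
      ((hSle S').trans_eq (by
        rw [Nat.card_congr (Subgroup.subgroupOfEquivOfLe hR₁X).toEquiv, hR₁, card_map_conj]))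
    obtain ⟨m, hm⟩ := MulAction.exists_smul_eq X S S'
    refine ⟨g * (m : G), ?_, ?_⟩
    · rw [hH]
      refine Subgroup.mem_normalizer_iff_map_conj_eq.mpr
        (Subgroup.eq_of_le_of_card_ge ?_ (card_map_conj Q _).ge)
      rintro _ ⟨q, hq, rfl⟩
      have hqS : (⟨q, hQX hu.1 hq⟩ : X) ∈ (S : Subgroup X) := hSeq ▸ hq
      have hmq : m * ⟨q, hQX hu.1 hq⟩ * m⁻¹ ∈ (S' : Subgroup X) := by
        rw [← hm, Sylow.coe_subgroup_smul]
        exact ⟨⟨q, hQX hu.1 hq⟩, hqS, rfl⟩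
      rw [← hS'eq] at hmq
      obtain ⟨q', hq', hqe⟩ := Subgroup.mem_subgroupOf.mp hmq
      have hqe' : g⁻¹ * q' * g = (m : G) * q * (m : G)⁻¹ := by simpa using hqe
      show g * (m : G) * q * (g * (m : G))⁻¹ ∈ Q
      rw [show g * (m : G) * q * (g * (m : G))⁻¹ = g * ((m : G) * q * (m : G)⁻¹) * g⁻¹ by group,
        ← hqe', show g * (g⁻¹ * q' * g) * g⁻¹ = q' by group]
      exact hq'
    · have hmu : (m : G) * u * (m : G)⁻¹ = u :=
        mul_inv_eq_of_eq_mul (Subgroup.mem_centralizer_singleton_iff.mp m.2.2)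
      rw [show g * (m : G) * u * (g * (m : G))⁻¹ = g * ((m : G) * u * (m : G)⁻¹) * g⁻¹ by group,
        hmu, hg]
  obtain ⟨F, hFval, hF0⟩ : ∃ F : G → ℂ,
      (∀ (y : H) (x : G), Good y → IsConj x (y : G) → F x = blockCoeff c y) ∧
      (∀ x, (¬ ∃ y : H, Good y ∧ IsConj x (y : G)) → F x = 0) := by
    refine ⟨fun x => if hx : ∃ y : H, Good y ∧ IsConj x (y : G) then blockCoeff c hx.choose else 0,
      fun y x hy hxy => ?_, fun x hx => dif_neg hx⟩
    have hx : ∃ y : H, Good y ∧ IsConj x (y : G) := ⟨y, hy, hxy⟩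
    simp only [dif_pos hx]
    obtain ⟨n, hn, hne⟩ := hgoodconj _ _ hx.choose_spec.1 hy (hx.choose_spec.2.symm.trans hxy)
    exact IsClassFunction.eq_of_isConj (isClassFunction_blockCoeff c)
      (isConj_iff.mpr ⟨⟨n, hn⟩, Subtype.ext hne⟩)
  have hFc : IsClassFunction G F := by
    intro x a
    have hconj : IsConj x (a * x * a⁻¹) := isConj_iff.mpr ⟨a, rfl⟩
    by_cases hx : ∃ y : H, Good y ∧ IsConj x (y : G)
    · obtain ⟨y, hy, hxy⟩ := hx
      rw [hFval y x hy hxy, hFval y _ hy (hconj.symm.trans hxy)]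
    · rw [hF0 x hx, hF0 _ fun ⟨y, hy, hxy⟩ => hx ⟨y, hy, hconj.trans hxy⟩]
  have hFl : ∀ x, MemLocalRing M (F x) := fun x => by
    by_cases hx : ∃ y : H, Good y ∧ IsConj x (y : G)
    · obtain ⟨y, hy, hxy⟩ := hx
      rw [hFval y x hy hxy]
      exact IsPBlock.memLocalRing_blockCoeff hcB.1 _
    · rw [hF0 x hx]
      exact memLocalRing_zero
  refine (eq_of_induced_of_lift hM hQ hQH hHN hcB hc'B hFc hFl fun y hy => ?_).symm
  by_cases hg : Good y
  · rw [hFval y y hg (IsConj.refl _)]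
    exact memLocalIdeal_sub_self _
  · rw [hF0 _ ?_, zero_sub]
    · exact memLocalIdeal_neg (hbad y hy hg)
    · rintro ⟨y', hy', hconj⟩
      refine hg ((hGood _).mpr ⟨hy, fun R hR hRX => ?_⟩)
      obtain ⟨a, ha⟩ := isConj_iff.mp hconj
      rw [← card_map_conj R a]
      exact ((hGood _).mp hy').2 _ (hR.map _) (hXconj ha R hRX)


/-- Fix a prime p and a maximal ideal M of the algebraic integers containing p. Let N be a normal subgroup of the finite group G, Q a p-subgroup of N, H = N_G(Q) and L = H ∩ N = N_N(Q). Let d be a p-block of N with defect group Q and e the p-block of L with defect group Q that induces d inside N (its Brauer correspondent). Then block induction from H to G is a bijection from the p-blocks of H covering e onto the p-blocks of G covering d: every block of H covering e induces exactly one block of G, and that block covers d; and every block of G covering d is induced by exactly one block of H covering e. -/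
theorem result {G : Type*} [Group G] [Fintype G] (p : ℕ) [Fact p.Prime] (M : Ideal Cfsg.AlgInt) (hM : Cfsg.IsPModular p M) (N : Subgroup G) [N.Normal] [Fintype N] (Q : Subgroup G) (hQ : IsPGroup p Q) (hQN : Q ≤ N) [Fintype ↥(Subgroup.normalizer (Q : Set G) ⊓ N)] (d : Set (Cfsg.IrrCharacter N)) (hd : Cfsg.IsPBlock M d) (hdQ : Cfsg.IsDefectGroup p M d (Q.subgroupOf N)) (e : Set (Cfsg.IrrCharacter ↥(Subgroup.normalizer (Q : Set G) ⊓ N))) (he : Cfsg.IsPBlock M e) (heQ : Cfsg.IsDefectGroup p M e (Q.subgroupOf (Subgroup.normalizer (Q : Set G) ⊓ N))) (hed : Cfsg.IsInducedBlockIn M N (Subgroup.normalizer (Q : Set G) ⊓ N) e d) : (∀ c : Set (Cfsg.IrrCharacter ↥(Subgroup.normalizer (Q : Set G))), Cfsg.IsPBlock M c → (∃ ψ ∈ c, ∃ ξ ∈ e, Cfsg.classInner (fun l : ↥(Subgroup.normalizer (Q : Set G) ⊓ N) => (ψ : ↥(Subgroup.normalizer (Q : Set G)) → ℂ) (Subgroup.inclusion inf_le_left l)) (ξ : ↥(Subgroup.normalizer (Q : Set G) ⊓ N) → ℂ) ≠ 0) → ∃! B : Set (Cfsg.IrrCharacter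 G), Cfsg.IsInducedBlock M (Subgroup.normalizer (Q : Set G)) c B ∧ (∃ χ ∈ B, ∃ θ ∈ d, Cfsg.classInner (fun n : N => (χ : G → ℂ) n) (θ : N → ℂ) ≠ 0)) ∧ (∀ B : Set (Cfsg.IrrCharacter G), Cfsg.IsPBlock M B → (∃ χ ∈ B, ∃ θ ∈ d, Cfsg.classInner (fun n : N => (χ : G → ℂ) n) (θ : N → ℂ) ≠ 0) → ∃! c : Set (Cfsg.IrrCharacter ↥(Subgroup.normalizer (Q : Set G))), (Cfsg.IsPBlock M c ∧ ∃ ψ ∈ c, ∃ ξ ∈ e, Cfsg.classInner (fun l : ↥(Subgroup.normalizer (Q : Set G) ⊓ N) => (ψ : ↥(Subgroup.normalizer (Q : Set G)) → ℂ) (Subgroup.inclusion inf_le_left l)) (ξ : ↥(Subgroup.normalizer (Q : Set G) ⊓ N) → ℂ) ≠ 0) ∧ Cfsg.IsInducedBlock M (Subgroup.normalizer (Q : Set G)) c B) := by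
  exact correspondence hM hQ hQN rfl rfl inf_le_left hd hdQ heQ hed

end Cfsg.Agent.S4674
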