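import Cfsg.Statements.S4675
import Cfsg.Agent.S4491
import Cfsg.Agent.Lib.Blocks.Rank
import Cfsg.Agent.Lib.Blocks.BrauerFeit

set_option autoImplicit false
open Cfsg
open scoped CfsgLib.Char

set_option autoImplicit false
open Cfsg

namespace Cfsg.Agent.S4675

/-- Fix a prime p and a maximal ideal M of the algebraic integers containing p. Let B be a p-block of the finite group G with defect group P and p-regular rank one (a single irreducible Brauer character). Then there are a function φ on G that is, on the p-regular elements, an integer combination of the members of B, and natural numbers d_χ (χ ∈ B), such that every χ ∈ B agrees with d_χ·φ on the p-regular elements and Σ_{χ ∈ B} d_χ² equals the order of P (the single Cartan invariant of B is the order of P). -/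
theorem result {G : Type*} [Group G] [Fintype G] (p : ℕ) [Fact p.Prime] (M : Ideal Cfsg.AlgInt) (hM : Cfsg.IsPModular p M) (B : Set (Cfsg.IrrCharacter G)) (hB : Cfsg.IsPBlock M B) (P : Subgroup G) (hP : Cfsg.IsDefectGroup p M B P) (hl : Cfsg.blockRank p B = 1) : ∃ φ : G → ℂ, ∃ d : Cfsg.IrrCharacter G → ℕ, (∃ n : Cfsg.IrrCharacter G → ℤ, ∀ x : G, Cfsg.IsPRegular p x → φ x = ∑ᶠ ψ ∈ B, (n ψ : ℂ) * (ψ : G → ℂ) x) ∧ (∀ χ ∈ B, ∀ x : G, Cfsg.IsPRegular p x → (χ : G → ℂ) x = (d χ : ℂ) * φ x) ∧ ∑ᶠ χ ∈ B, d χ ^ 2 = Nat.card P := by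
  classical
  have := CfsgLib.Blocks.isPrime_of_isPModular hM
  set s : Finset (IrrCharacter G) := {χ | χ ∈ B}
  have hs : ∀ χ, χ ∈ s ↔ χ ∈ B := fun χ => by simp [s]
  set dz : IrrCharacter G → ℤ := fun χ => (charDegree (χ : G → ℂ) : ℤ)
  obtain ⟨f, hf⟩ := Finset.gcd_eq_sum_mul s dz
  set g := (s.gcd dz).natAbs
  have hgdvd : ∀ χ ∈ s, g ∣ charDegree (χ : G → ℂ) := fun χ hχ =>
    Int.natAbs_dvd_natAbs.mpr (Finset.gcd_dvd (f := dz) hχ)
  obtain ⟨n, hn⟩ : ∃ n : IrrCharacter G → ℤ, (g : ℤ) = ∑ χ ∈ s, dz χ * n χ := by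
    rcases Int.natAbs_eq (s.gcd dz) with h | h
    · exact ⟨f, h.symm.trans hf⟩
    · refine ⟨fun χ => -f χ, ?_⟩
      simp only [mul_neg, Finset.sum_neg_distrib, ← hf]
      omega
  obtain ⟨χ₀, hχ₀⟩ := CfsgLib.Blocks.IsPBlock.nonempty hB
  have hg0 : g ≠ 0 := fun h => (CfsgLib.Blocks.irr_degree_eq χ₀).2.ne'
    (zero_dvd_iff.mp (h ▸ hgdvd χ₀ ((hs χ₀).mpr hχ₀)))
  set d : IrrCharacter G → ℕ := fun χ => charDegree (χ : G → ℂ) / g
  have hd : ∀ χ ∈ B, charDegree (χ : G → ℂ) = d χ * g := fun χ hχ =>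
    (Nat.div_mul_cancel (hgdvd χ ((hs χ).mpr hχ))).symm
  have hone : IsPRegular p (1 : G) := by
    rw [IsPRegular, orderOf_one, Nat.dvd_one]; exact hM.1.ne_one
  -- proportionality
  set v := CfsgLib.Blocks.regPart p (χ₀ : G → ℂ)
  have hv1 : v 1 = (χ₀ : G → ℂ) 1 := CfsgLib.Blocks.regPart_of_regular hone
  have hprop : ∀ χ ∈ B, ∀ x : G, IsPRegular p x →
      (χ : G → ℂ) x * (χ₀ : G → ℂ) 1 = (χ : G → ℂ) 1 * (χ₀ : G → ℂ) x := by
    intro χ hχ x hx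
    rw [blockRank] at hl
    set V := Submodule.span ℂ ((fun χ : IrrCharacter G => pRegularPart p (χ : G → ℂ)) '' B)
    have hvne : (⟨v, Submodule.subset_span ⟨χ₀, hχ₀, rfl⟩⟩ : V) ≠ 0 := fun h => by
      have h' := congrFun (congrArg Subtype.val h) 1
      rw [show ((0 : V) : G → ℂ) 1 = 0 from rfl] at h'
      exact CfsgLib.Char.irr_degree_ne_zero χ₀.2 (hv1 ▸ h')
    obtain ⟨c, hc⟩ := (finrank_eq_one_iff_of_nonzero' _ hvne).mp hl
      ⟨CfsgLib.Blocks.regPart p (χ : G → ℂ), Submodule.subset_span ⟨χ, hχ, rfl⟩⟩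
    have h1 := congrFun (congrArg Subtype.val hc) 1
    have h2 := congrFun (congrArg Subtype.val hc) x
    simp only [SetLike.val_smul, Pi.smul_apply, smul_eq_mul, v,
      CfsgLib.Blocks.regPart_of_regular hone, CfsgLib.Blocks.regPart_of_regular hx] at h1 h2
    rw [← h1, ← h2]
    ring
  set φ : G → ℂ := fun x => ∑ ψ ∈ s, (n ψ : ℂ) * (ψ : G → ℂ) x
  have hd0 : ∀ χ : IrrCharacter G, (χ : G → ℂ) 1 ≠ 0 := fun χ => CfsgLib.Char.irr_degree_ne_zero χ.2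
  have hφ : ∀ x, IsPRegular p x → φ x = (g : ℂ) / (χ₀ : G → ℂ) 1 * (χ₀ : G → ℂ) x := by
    intro x hx
    rw [div_mul_eq_mul_div, eq_div_iff (hd0 χ₀), show (g : ℂ) = ((g : ℤ) : ℂ) by norm_cast, hn]
    push_cast
    simp only [φ, Finset.sum_mul]
    refine Finset.sum_congr rfl fun ψ hψ => ?_
    rw [mul_assoc, hprop ψ ((hs ψ).mp hψ) x hx, (CfsgLib.Blocks.irr_degree_eq ψ).1]
    simp only [dz, Int.cast_natCast]
    ring
  have hχφ : ∀ χ ∈ B, ∀ x, IsPRegular p x → (χ : G → ℂ) x = (d χ : ℂ) * φ x := by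
    intro χ hχ x hx
    rw [hφ x hx, ← mul_assoc, mul_div_assoc', ← Nat.cast_mul, ← hd χ hχ, div_mul_eq_mul_div,
      eq_div_iff (hd0 χ₀), ← (CfsgLib.Blocks.irr_degree_eq χ).1, hprop χ hχ x hx]
  refine ⟨φ, d, ⟨n, fun x _ => (finsum_mem_eq_sum_of_inter_support_eq _ (by ext ψ; simp [s])).symm⟩,
    hχφ, ?_⟩
  -- the projection
  set w : IrrCharacter G → ℂ := fun ψ =>
    classInner (CfsgLib.Blocks.regPart p φ) (ψ : G → ℂ)
  have hcI : ∀ χ ∈ B, ∀ ψ : IrrCharacter G,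
      classInner (CfsgLib.Blocks.regPart p (χ : G → ℂ)) (ψ : G → ℂ) = (d χ : ℂ) * w ψ := by
    intro χ hχ ψ
    rw [show CfsgLib.Blocks.regPart p (χ : G → ℂ) = (d χ : ℂ) • CfsgLib.Blocks.regPart p φ from
      funext fun x => by
        by_cases hx : IsPRegular p x
        · simp [CfsgLib.Blocks.regPart_of_regular hx, hχφ χ hχ x hx]
        · simp [CfsgLib.Blocks.regPart_of_singular hx], CfsgLib.Char.classInner_smul_left]
  set S : ℕ := ∑ χ ∈ s, d χ ^ 2 with hS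
  have hfin : (∑ᶠ χ ∈ B, d χ ^ 2) = S :=
    finsum_mem_eq_sum_of_inter_support_eq _ (by ext ψ; simp [s])
  have htrace : (1 : ℂ) = ∑ χ ∈ s, (d χ : ℂ) * w χ := by
    have h := CfsgLib.Blocks.blockRank_eq_sum_classInner hM (CfsgLib.Blocks.IsPBlock.isBlockUnion hB)
    rw [hl, Nat.cast_one] at h
    rw [h]
    exact Finset.sum_congr rfl fun χ hχ => hcI χ ((hs χ).mp hχ) χ
  have hdpos : ∀ χ ∈ B, (d χ : ℂ) ≠ 0 := fun χ hχ => Nat.cast_ne_zero.mpr fun h =>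
    (CfsgLib.Blocks.irr_degree_eq χ).2.ne' (by rw [hd χ hχ, h, zero_mul])
  set lam := w χ₀ / (d χ₀ : ℂ)
  have hw : ∀ χ ∈ B, w χ = lam * (d χ : ℂ) := by
    intro χ hχ
    have h := hcI χ hχ χ₀
    rw [CfsgLib.Blocks.classInner_regPart_comm, hcI χ₀ hχ₀ χ] at h
    simp only [lam]
    rw [div_mul_eq_mul_div, eq_div_iff (hdpos χ₀ hχ₀)]
    linear_combination h
  have hlS : lam * (S : ℂ) = 1 := by
    rw [htrace, hS]
    push_cast
    rw [Finset.mul_sum]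
    exact Finset.sum_congr rfl fun χ hχ => by rw [hw χ ((hs χ).mp hχ)]; ring
  have hint : ∀ χ ∈ s, ∀ ψ ∈ s, ∃ z : ℤ,
      (p : ℂ) ^ blockDefect p B * lam * ((d χ : ℂ) * (d ψ : ℂ)) = (z : ℂ) := by
    intro χ hχ ψ hψ
    obtain ⟨z, hz⟩ := CfsgLib.Blocks.exists_int_classInner_regPart hM χ ψ
      (CfsgLib.Blocks.degree_exponent_ge hM hB ((hs χ).mp hχ))
    refine ⟨z, ?_⟩
    rw [← hz, hcI χ ((hs χ).mp hχ) ψ, hw ψ ((hs ψ).mp hψ)]
    ring
  choose z hz using hint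
  have hnd : ∑ χ ∈ s, (n χ : ℂ) * (d χ : ℂ) = 1 := by
    have hg : (g : ℂ) ≠ 0 := Nat.cast_ne_zero.mpr hg0
    refine mul_right_cancel₀ hg ?_
    have e : ∑ χ ∈ s, ((dz χ * n χ : ℤ) : ℂ) = (g : ℂ) := by
      rw [← Int.cast_sum, ← hn]
      simp
    rw [one_mul, Finset.sum_mul]
    refine Eq.trans (Finset.sum_congr rfl fun χ hχ => ?_) e
    simp only [dz, hd χ ((hs χ).mp hχ)]
    push_cast
    ring
  obtain ⟨Z, hZ⟩ : ∃ Z : ℤ, (p : ℂ) ^ blockDefect p B * lam = (Z : ℂ) := by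
    refine ⟨∑ χ ∈ s.attach, ∑ ψ ∈ s.attach, n χ.1 * n ψ.1 * z χ.1 χ.2 ψ.1 ψ.2, ?_⟩
    push_cast
    simp only [← hz]
    rw [Finset.sum_attach s (fun χ => ∑ ψ ∈ s.attach, (n χ : ℂ) * (n ψ.1 : ℂ) *
      ((p : ℂ) ^ blockDefect p B * lam * ((d χ : ℂ) * (d ψ.1 : ℂ))))]
    conv_rhs => arg 2; ext χ; rw [Finset.sum_attach s (fun ψ => (n χ : ℂ) * (n ψ : ℂ) *
      ((p : ℂ) ^ blockDefect p B * lam * ((d χ : ℂ) * (d ψ : ℂ))))]
    calc (p : ℂ) ^ blockDefect p B * lam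
        = (p : ℂ) ^ blockDefect p B * lam * ((∑ χ ∈ s, (n χ : ℂ) * (d χ : ℂ)) *
            (∑ ψ ∈ s, (n ψ : ℂ) * (d ψ : ℂ))) := by rw [hnd, one_mul, mul_one]
      _ = _ := by
        rw [Finset.sum_mul_sum]
        simp only [Finset.mul_sum]
        exact Finset.sum_congr rfl fun _ _ => Finset.sum_congr rfl fun _ _ => by ring
  have hdvd : S ∣ p ^ blockDefect p B := by
    rw [← Int.natCast_dvd_natCast]
    refine ⟨Z, Int.cast_injective (α := ℂ) ?_⟩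
    push_cast
    rw [← hZ, mul_left_comm, mul_comm (S : ℂ), hlS, mul_one]
  obtain ⟨k, hk, hSk⟩ := (Nat.dvd_prime_pow hM.1).mp hdvd
  have hval := Cfsg.Agent.S4491.result p M hM B hB
  have hfin2 : (∑ᶠ χ ∈ B, charDegree (χ : G → ℂ) ^ 2) = g ^ 2 * S := by
    rw [finsum_mem_eq_sum_of_inter_support_eq _ (t := s) (by ext ψ; simp [s]), hS, Finset.mul_sum]
    exact Finset.sum_congr rfl fun χ hχ => by rw [hd χ ((hs χ).mp hχ), mul_pow, mul_comm]
  rw [hfin2, hSk, Nat.factorization_mul (pow_ne_zero 2 hg0) (pow_ne_zero k hM.1.ne_zero),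
    Finsupp.add_apply, Nat.Prime.factorization_pow hM.1, Finsupp.single_eq_same,
    Nat.factorization_pow, Finsupp.smul_apply, smul_eq_mul] at hval
  obtain ⟨hle, -, hall, χ₁, hχ₁, heq⟩ := CfsgLib.Blocks.blockDefect_le_and_degree hM hB
  have hgle : g.factorization p ≤ (Nat.card G).factorization p - blockDefect p B := heq ▸
    (Nat.factorization_le_iff_dvd hg0 (CfsgLib.Blocks.irr_degree_eq χ₁).2.ne').mpr
      (hgdvd χ₁ ((hs χ₁).mpr hχ₁)) p
  rw [hfin, hSk, CfsgLib.Blocks.IsDefectGroup.card_eq hM hB hP]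
  congr 1
  omega

end Cfsg.Agent.S4675
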