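import Cfsg.Statements.S4682
import Cfsg.Agent.Lib.Blocks.BlockNilpotent

set_option autoImplicit false
open Cfsg

namespace Cfsg.Agent.S4682

/-- Fix a prime p and a maximal ideal M of the algebraic integers containing p, a p-block B of the finite group G with maximal Brauer pair (P, e), P abelian, and a Brauer pair (Q, f) ≤ (P, e). Let T_Q be the stabilizer of f in N_G(Q) and T_P the stabilizer of e in N_G(P). Then every element of T_Q is a product of an element of T_P and an element of C_G(Q); and the index of C_G(Q) in T_Q equals the index of T_P ∩ C_G(Q) in T_P ∩ N_G(Q). -/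
theorem result {G : Type*} [Group G] [Fintype G] (p : ℕ) [Fact p.Prime] (M : Ideal Cfsg.AlgInt) (hM : Cfsg.IsPModular p M) (B : Set (Cfsg.IrrCharacter G)) (P : Subgroup G) (e : Set (Cfsg.IrrCharacter (Subgroup.centralizer (P : Set G)))) (hmax : Cfsg.IsMaximalBrauerPair p M B P e) (hab : ∀ x ∈ P, ∀ y ∈ P, x * y = y * x) (Q : Subgroup G) (f : Set (Cfsg.IrrCharacter (Subgroup.centralizer (Q : Set G)))) (hQP : Q ≤ P) (hf : Cfsg.IsPBlock M f) (hle : Cfsg.SubpairLE p M Q f P e) (TQ : Subgroup G) (hTQ : ∀ y : G, y ∈ TQ ↔ y ∈ Subgroup.normalizer (Q : Set G) ∧ Cfsg.StabilizesBlock (Subgroup.centralizer (Q : Set G)) f y) (TP : Subgroup G) (hTP : ∀ y : G, y ∈ TP ↔ y ∈ Subgroup.normalizer (P : Set G) ∧ Cfsg.StabilizesBlock (Subgroup.centralizer (P : Set G)) e y) : (∀ x ∈ TQ, ∃ y ∈ TP, ∃ c ∈ Subgroup.centralizer (Q : Set G), x = y * c) ∧ ((Subgroup.centralizer (Q : Set G)).subgroupOf TQ).index = ((TP ⊓ Subgroup.centralizer (Q : Set G)).subgroupOf (TP ⊓ Subgroup.normalizer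 (Q : Set G))).index := by
  classical
  have := CfsgLib.Blocks.isPrime_of_isPModular hM
  obtain rfl : TQ = CfsgLib.Blocks.blockT Q f := by
    ext y; rw [hTQ, CfsgLib.Blocks.mem_blockT]
  obtain rfl : TP = CfsgLib.Blocks.blockT P e := by
    ext y; rw [hTP, CfsgLib.Blocks.mem_blockT]
  have hfac : ∀ x ∈ CfsgLib.Blocks.blockT Q f, ∃ y ∈ CfsgLib.Blocks.blockT P e,
      ∃ c ∈ Subgroup.centralizer (Q : Set G), x = y * c :=
    fun x hx => CfsgLib.Blocks.exists_blockT_factor hM hmax hab hle hx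
  refine ⟨hfac, ?_⟩
  have hCN : Subgroup.centralizer (Q : Set G) ≤ Subgroup.normalizer (Q : Set G) :=
    Subgroup.centralizer_le_normalizer _
  have hTQ' : CfsgLib.Blocks.blockT Q f =
      (CfsgLib.Blocks.blockT P e ⊓ Subgroup.normalizer (Q : Set G)) ⊔
        Subgroup.centralizer (Q : Set G) := by
    refine le_antisymm (fun x hx => ?_) (sup_le (fun y hy => ?_)
      CfsgLib.Blocks.centralizer_le_blockT)
    · obtain ⟨y, hy, c, hc, rfl⟩ := hfac x hx
      refine Subgroup.mul_mem_sup ⟨hy, ?_⟩ hc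
      have := mul_mem (CfsgLib.Blocks.blockT_le_normalizer hx) (inv_mem (hCN hc))
      simpa [mul_assoc] using this
    · exact CfsgLib.Blocks.mem_blockT_of_top hM hmax.1.1 hle hy.1 hy.2
  have hinf : CfsgLib.Blocks.blockT P e ⊓ Subgroup.centralizer (Q : Set G) =
      Subgroup.centralizer (Q : Set G) ⊓
        (CfsgLib.Blocks.blockT P e ⊓ Subgroup.normalizer (Q : Set G)) :=
    le_antisymm (fun y hy => ⟨hy.2, hy.1, hCN hy.2⟩) (fun y hy => ⟨hy.2.1, hy.1⟩)
  rw [hinf]
  show (Subgroup.centralizer (Q : Set G)).relIndex _ = Subgroup.relIndex _ _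
  rw [Subgroup.inf_relIndex_right, hTQ']
  set N := Subgroup.normalizer (Q : Set G)
  set H := CfsgLib.Blocks.blockT P e ⊓ N
  have hHN : H ≤ N := inf_le_right
  rw [← Subgroup.relIndex_subgroupOf (sup_le hHN hCN), ← Subgroup.relIndex_subgroupOf hHN,
    Subgroup.subgroupOf_sup hHN hCN, Subgroup.relIndex_sup_right]
end Cfsg.Agent.S4682
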