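import Cfsg.Statements.S4683
import Cfsg.Agent.Lib.Blocks.SubsectionRows

set_option autoImplicit false
open Cfsg
open scoped CfsgLib.Char

namespace Cfsg.Agent.S4683

/-- Fix a prime p and a maximal ideal M of the algebraic integers containing p, a p-block B of the finite group G, a p-element u and a p-block e of C = C_G(u) such that (⟨u⟩, e) is a Brauer pair of B (a Brauer element of B). For χ ∈ B let χ_u be the e-part of the class function c ↦ χ(u c) on C and χ_u' the e-part of c ↦ χ(u⁻¹ c). Then the sum over χ ∈ B and over the p-regular elements s of C of χ_u(s)·χ_u'(s⁻¹) equals the order of C times the p-regular rank of e (the number of irreducible Brauer characters of e). -/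
theorem result {G : Type*} [Group G] [Fintype G] (p : ℕ) [Fact p.Prime] (M : Ideal Cfsg.AlgInt) (hM : Cfsg.IsPModular p M) (B : Set (Cfsg.IrrCharacter G)) (u : G) (hu : ∃ k : ℕ, orderOf u = p ^ k) (e : Set (Cfsg.IrrCharacter (Subgroup.centralizer (Subgroup.zpowers u : Set G)))) (hBe : Cfsg.IsBrauerPairOf p M B (Subgroup.zpowers u) e) : ∑ᶠ χ ∈ B, ∑ᶠ s : Subgroup.centralizer (Subgroup.zpowers u : Set G), Cfsg.pRegularPart p (Cfsg.blockPart e (fun c : Subgroup.centralizer (Subgroup.zpowers u : Set G) => (χ : G → ℂ) (u * c))) s * Cfsg.blockPart e (fun c : Subgroup.centralizer (Subgroup.zpowers u : Set G) => (χ : G → ℂ) (u⁻¹ * c)) s⁻¹ = (Nat.card (Subgroup.centralizer (Subgroup.zpowers u : Set G)) : ℂ) * (Cfsg.blockRank p e : ℂ) := by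
  classical
  have := CfsgLib.Blocks.isPrime_of_isPModular hM
  have hcz : Subgroup.centralizer (Subgroup.zpowers u : Set G) =
      Subgroup.centralizer ({u} : Set G) := by
    refine le_antisymm (fun g hg => Subgroup.mem_centralizer_singleton_iff.mpr
      (Subgroup.mem_centralizer_iff.mp hg u (Subgroup.mem_zpowers u)).symm) fun g hg => ?_
    refine Subgroup.mem_centralizer_iff.mpr fun v hv => ?_
    obtain ⟨k, rfl⟩ := Subgroup.mem_zpowers_iff.mp hv
    exact (((show Commute g u from Subgroup.mem_centralizer_singleton_iff.mp hg).zpow_right k).eq).symm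
  have key : ∀ (H : Subgroup G) (_ : Fintype H), H = Subgroup.centralizer ({u} : Set G) →
      ∀ e : Set (IrrCharacter H), IsPBlock M e →
      (∀ ξ ∈ e, MemLocalIdeal M ((∑ᶠ x : H, blockCoeff B x * (ξ : H → ℂ) x / (ξ : H → ℂ) 1) - 1)) →
      (∑ᶠ χ ∈ B, ∑ᶠ s : H,
        pRegularPart p (blockPart e (fun c : H => (χ : G → ℂ) (u * c))) s *
          blockPart e (fun c : H => (χ : G → ℂ) (u⁻¹ * c)) s⁻¹) =
        (Nat.card H : ℂ) * (blockRank p e : ℂ) := by
    intro H _ hH e he hpair
    subst hH
    have hB := hBe.2.1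
    obtain ⟨B', hB'⟩ := CfsgLib.Blocks.inducedBlockDefined_centralizer hM hu he
    obtain ⟨ξ, hξ⟩ := CfsgLib.Blocks.IsPBlock.nonempty he
    obtain ⟨χ', hχ'⟩ := CfsgLib.Blocks.IsPBlock.nonempty hB'.2.1
    have hsum : (∑ᶠ x : (Subgroup.centralizer ({u} : Set G)), blockCoeff B x * (ξ : (Subgroup.centralizer ({u} : Set G)) → ℂ) x / (ξ : (Subgroup.centralizer ({u} : Set G)) → ℂ) 1) =
        CfsgLib.Blocks.omega (ξ : (Subgroup.centralizer ({u} : Set G)) → ℂ) (fun h : (Subgroup.centralizer ({u} : Set G)) => blockCoeff B (h : G)) := by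
      rw [finsum_eq_sum_of_fintype, CfsgLib.Blocks.omega, Finset.sum_div]
    have hm := CfsgLib.Blocks.IsInducedBlock.omega_congr hB' hξ hχ'
      (CfsgLib.Blocks.isClassFunction_blockCoeff B) (CfsgLib.Blocks.IsPBlock.memLocalRing_blockCoeff hB)
    rw [CfsgLib.Blocks.omega_blockCoeff] at hm
    have h1 := hpair ξ hξ
    rw [hsum] at h1
    have hχB : χ' ∈ B := by
      by_contra hn
      rw [CfsgLib.Blocks.indVec_of_notMem hn, sub_zero] at hm
      exact CfsgLib.Blocks.not_memLocalIdeal_one
        ((congrArg (MemLocalIdeal M) (by ring)).mp (CfsgLib.Blocks.memLocalIdeal_sub hm h1))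
    have hind : IsInducedBlock M (Subgroup.centralizer ({u} : Set G)) e B :=
      CfsgLib.Blocks.IsPBlock.eq_of_mem_of_mem hB'.2.1 hB hχ' hχB ▸ hB'
    have hU := CfsgLib.Blocks.IsPBlock.isBlockUnion he
    set s' : Finset (Subgroup.centralizer ({u} : Set G)) := {s | IsPRegular p s}
    have hswap : ∀ (χ : IrrCharacter G) (s : (Subgroup.centralizer ({u} : Set G))),
        blockPart e (fun c : (Subgroup.centralizer ({u} : Set G)) => (χ : G → ℂ) (u⁻¹ * c)) s⁻¹ =
          (starRingEnd ℂ) (blockPart e (fun c : (Subgroup.centralizer ({u} : Set G)) => (χ : G → ℂ) (u * c)) s) := by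
      intro χ s
      have hv : ∀ c : (Subgroup.centralizer ({u} : Set G)), (χ : G → ℂ) (u⁻¹ * ((c⁻¹ : (Subgroup.centralizer ({u} : Set G))) : G)) =
          (starRingEnd ℂ) ((χ : G → ℂ) (u * c)) := fun c => by
        rw [← CfsgLib.Blocks.irr_value_inv χ.2, mul_inv_rev, Subgroup.coe_inv]
        exact congrArg _ ((show Commute (c : G) u from Subgroup.mem_centralizer_singleton_iff.mp c.2).inv_inv).eq.symm
      rw [CfsgLib.Blocks.blockPart_eq_filter, CfsgLib.Blocks.blockPart_eq_filter, map_sum]
      refine Finset.sum_congr rfl fun ξ _ => ?_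
      rw [map_mul, CfsgLib.Blocks.irr_value_inv ξ.2]
      congr 1
      simp only [classInner, map_mul, map_inv₀, map_natCast, map_sum]
      congr 1
      refine (Fintype.sum_equiv (Equiv.inv (Subgroup.centralizer ({u} : Set G))) _ _ fun c => ?_).symm
      rw [Equiv.inv_apply, hv c, CfsgLib.Blocks.irr_value_inv ξ.2]
    have hL : (∑ᶠ χ ∈ B, ∑ᶠ s : (Subgroup.centralizer ({u} : Set G)), pRegularPart p (blockPart e (fun c : (Subgroup.centralizer ({u} : Set G)) => (χ : G → ℂ) (u * c))) s *
          blockPart e (fun c : (Subgroup.centralizer ({u} : Set G)) => (χ : G → ℂ) (u⁻¹ * c)) s⁻¹) =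
        ∑ s ∈ s', ∑ χ : IrrCharacter G with χ ∈ B,
          blockPart e (fun c : (Subgroup.centralizer ({u} : Set G)) => (χ : G → ℂ) (u * c)) s *
            (starRingEnd ℂ) (blockPart e (fun c : (Subgroup.centralizer ({u} : Set G)) => (χ : G → ℂ) (u * c)) s) := by
      rw [CfsgLib.Blocks.sum_mem_eq_filter, Finset.sum_comm (s := s')]
      refine Finset.sum_congr rfl fun χ _ => ?_
      rw [finsum_eq_sum_of_fintype, Finset.sum_filter]
      refine Finset.sum_congr rfl fun s _ => ?_
      rw [hswap, CfsgLib.Blocks.pRegularPart_eq_regPart]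
      split
      next h => rw [CfsgLib.Blocks.regPart_of_regular h]
      next h => rw [CfsgLib.Blocks.regPart_of_singular h, zero_mul]
    rw [hL, CfsgLib.Blocks.card_mul_blockRank hM hU]
    simp only [s', Finset.sum_filter]
    refine Finset.sum_congr rfl fun s _ => ?_
    by_cases h : IsPRegular p s
    · rw [if_pos h, CfsgLib.Blocks.sum_mem_eq_filter]
      simp only [CfsgLib.Blocks.regPart_of_regular h, ← Finset.sum_filter]
      rw [CfsgLib.Blocks.sum_blockPart_mul_conj_blockPart hM hu hB hind he h h]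
      simp only [and_self]
    · rw [if_neg h]
      simp only [CfsgLib.Blocks.regPart_of_singular h, zero_mul, finsum_zero]
  exact key _ (Fintype.ofFinite _) hcz e hBe.1.2 hBe.2.2

end Cfsg.Agent.S4683
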