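import Cfsg.Statements.S4687
import Cfsg.Agent.Lib.Blocks.BlockNilpotent

set_option autoImplicit false
open Cfsg

namespace Cfsg.Agent.S4687

/-- Fix a prime p and a maximal ideal M of the algebraic integers containing p, and a p-block B of the finite group G with maximal Brauer pair (P, e), P abelian. Then B is nilpotent if and only if its inertial quotient is trivial: every element of N_G(P) stabilizing e centralizes P. -/
theorem result {G : Type*} [Group G] [Fintype G] (p : ℕ) [Fact p.Prime] (M : Ideal Cfsg.AlgInt) (hM : Cfsg.IsPModular p M) (B : Set (Cfsg.IrrCharacter G)) (P : Subgroup G) (e : Set (Cfsg.IrrCharacter (Subgroup.centralizer (P : Set G)))) (hmax : Cfsg.IsMaximalBrauerPair p M B P e) (hab : ∀ x ∈ P, ∀ y ∈ P, x * y = y * x) : Cfsg.IsNilpotentBlock p M B ↔ ∀ x : G, x ∈ Subgroup.normalizer (P : Set G) → Cfsg.StabilizesBlock (Subgroup.centralizer (P : Set G)) e x → x ∈ Subgroup.centralizer (P : Set G) := by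
  classical
  have := CfsgLib.Blocks.isPrime_of_isPModular hM
  have hPe := hmax.1.1
  constructor
  · intro hnil x hx hst
    have hxT := CfsgLib.Blocks.mem_blockT.mpr ⟨hx, hst⟩
    have hc := CfsgLib.Blocks.carries_of_mem_blockT (M := M) (p := p) (P := P) (e := e)
      Relation.ReflTransGen.refl hxT
    have hmap : (Cfsg.conjHom P x) ∈ (CfsgLib.Blocks.blockFusion hM hmax.1.1).Hom P :=
      ⟨le_rfl, x, fun u => rfl, hc.map_le, hc⟩
    rw [CfsgLib.Blocks.hom_eq_inner_of_nilpotent hM
      (CfsgLib.Blocks.isBlockFusionSystemOn_blockFusion hM hmax) hnil] at hmap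
    obtain ⟨-, u, hu, huv⟩ := hmap
    refine CfsgLib.Fusion.mem_centralizer_of_conj_eq fun z hz => ?_
    have h1 : x * z * x⁻¹ = u * z * u⁻¹ := huv ⟨z, hz⟩
    rw [h1, hab u hu z hz]
    group
  · intro h
    refine ⟨hmax.1.2.1, fun Q f hQf x hx hst hreg => ?_⟩
    obtain ⟨g, hg⟩ := CfsgLib.Blocks.exists_conjPair_le_maximal hM hmax hQf
    have hy := CfsgLib.Blocks.blockT_conjPair (g := g) (CfsgLib.Blocks.mem_blockT.mpr ⟨hx, hst⟩)
    obtain ⟨y, hy1, c, hc, heq⟩ := CfsgLib.Blocks.exists_blockT_factor hM hmax hab hg hy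
    refine CfsgLib.Blocks.mem_centralizer_of_conj (g := g) ?_
    rw [heq]
    refine mul_mem (Subgroup.centralizer_le (SetLike.coe_subset_coe.mpr ?_)
      (h y (CfsgLib.Blocks.mem_blockT.mp hy1).1 (CfsgLib.Blocks.mem_blockT.mp hy1).2)) hc
    exact CfsgLib.Blocks.SubpairLE.le hg
end Cfsg.Agent.S4687
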