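import Cfsg.Statements.S4688
import Cfsg.Agent.Lib.Blocks.BlockNilpotent

set_option autoImplicit false
open Cfsg

namespace Cfsg.Agent.S4688

/-- Fix a prime p and a maximal ideal M of the algebraic integers containing p, and a nilpotent p-block B of the finite group G with maximal Brauer pair (P, e). Then for every Brauer pair (Q, f) of B, f is a nilpotent block of C_G(Q); and if moreover (Q, f) ≤ (P, e), then C_P(Q) is a defect group of f as a block of C_G(Q). -/
theorem result {G : Type*} [Group G] [Fintype G] (p : ℕ) [Fact p.Prime] (M : Ideal Cfsg.AlgInt) (hM : Cfsg.IsPModular p M) (B : Set (Cfsg.IrrCharacter G)) (P : Subgroup G) (e : Set (Cfsg.IrrCharacter (Subgroup.centralizer (P : Set G)))) (hmax : Cfsg.IsMaximalBrauerPair p M B P e) (hnil : Cfsg.IsNilpotentBlock p M B) (Q : Subgroup G) (f : Set (Cfsg.IrrCharacter (Subgroup.centralizer (Q : Set G)))) (hQf : Cfsg.IsBrauerPairOf p M B Q f) : Cfsg.IsNilpotentBlock p M f ∧ (Cfsg.SubpairLE p M Q f P e → Cfsg.IsDefectGroup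 p M f ((P ⊓ Subgroup.centralizer (Q : Set G)).subgroupOf (Subgroup.centralizer (Q : Set G)))) := by
  classical
  have := CfsgLib.Blocks.isPrime_of_isPModular hM
  refine ⟨CfsgLib.Blocks.isNilpotentBlock_centralizer hM hnil hQf, fun hle => ?_⟩
  have hPe := hmax.1.1
  have hF := CfsgLib.Blocks.isBlockFusionSystemOn_blockFusion hM hmax
  have hinn := CfsgLib.Blocks.hom_eq_inner_of_nilpotent hM hF hnil
  refine (CfsgLib.Blocks.isFullyCentralized_block_iff hM hF hle).mp
    ⟨CfsgLib.Blocks.SubpairLE.le hle, fun R hR => ?_⟩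
  obtain ⟨g, hg, rfl⟩ := (CfsgLib.Blocks.isConj_block_iff hF).mp hR
  have hmap : (Cfsg.conjHom Q g) ∈ (CfsgLib.Blocks.blockFusion hM hmax.1.1).Hom Q :=
    ⟨hg.le, g, fun u => rfl, hg.map_le, hg⟩
  rw [hinn] at hmap
  obtain ⟨-, u, hu, huv⟩ := hmap
  have heq : Q.map (MulAut.conj g).toMonoidHom = Q.map (MulAut.conj u).toMonoidHom :=
    SetLike.coe_injective (by
      rw [Subgroup.coe_map, Subgroup.coe_map]
      exact Set.image_congr fun x hx => huv ⟨x, hx⟩)
  rw [heq]
  refine le_of_eq_of_le ?_ le_rfl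
  rw [← CfsgLib.Blocks.card_map_conj (x := u)
    (D := Cfsg.FusionSystem.centralizerIn P Q)]
  congr 2
  have hPn := Subgroup.mem_normalizer_iff.mp (Subgroup.le_normalizer hu)
  ext z
  rw [CfsgLib.Blocks.mem_map_conj_iff]
  show z ∈ P ∧ _ ↔ u⁻¹ * z * u ∈ P ∧ _
  refine and_congr ?_ ?_
  · rw [hPn (u⁻¹ * z * u)]
    simp [mul_assoc]
  · conv_lhs => rw [show z = u * (u⁻¹ * z * u) * u⁻¹ by group]
    exact CfsgLib.Blocks.centralizer_map_conj_iff Q u _
end Cfsg.Agent.S4688
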