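import Cfsg.Statements.S4693
import Cfsg.Agent.Lib.Blocks.NormalPBlocks
import Cfsg.Agent.Lib.Blocks.PairTransport
import Cfsg.Agent.Lib.Blocks.BlockNilpotent

-- import your own Cfsg.Agent.* helpers here

set_option autoImplicit false
open Cfsg

namespace Cfsg.Agent.S4693

/-- Fix a prime p and a maximal ideal M of the algebraic integers containing p, a p-block B of the finite group G with maximal Brauer pair (P, e) and fusion system F on P, and a Brauer pair (Q, f) ≤ (P, e) with Q centric in F. Suppose every element of G normalizes Q and stabilizes f. Then the idempotent of B agrees with that of f modulo M at every element of G, and f is the idempotent of a nilpotent block of Q·C_G(Q): some p-block of Q·C_G(Q) has the idempotent coefficients of f and is nilpotent. -/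
theorem result {G : Type*} [Group G] [Fintype G] (p : ℕ) [Fact p.Prime] (M : Ideal Cfsg.AlgInt) (hM : Cfsg.IsPModular p M) (B : Set (Cfsg.IrrCharacter G)) (P : Subgroup G) (e : Set (Cfsg.IrrCharacter (Subgroup.centralizer (P : Set G)))) (hmax : Cfsg.IsMaximalBrauerPair p M B P e) (F : Cfsg.FusionSystem P) (hF : Cfsg.IsBlockFusionSystemOn p M B P e F) (Q : Subgroup G) (f : Set (Cfsg.IrrCharacter (Subgroup.centralizer (Q : Set G)))) (hQP : Q ≤ P) (hf : Cfsg.IsPBlock M f) (hle : Cfsg.SubpairLE p M Q f P e) (hcen : F.IsCentric Q) (hG : ∀ x : G, x ∈ Subgroup.normalizer (Q : Set G) ∧ Cfsg.StabilizesBlock (Subgroup.centralizer (Q : Set G)) f x) : (∀ g : G, Cfsg.MemLocalIdeal M (Cfsg.blockCoeff B g - Cfsg.subgroupBlockCoeff (Subgroup.centralizer (Q : Set G)) f g)) ∧ ∃ F' : Set (Cfsg.IrrCharacter ↥(Q ⊔ Subgroup.centralizer (Q : Set G))), Cfsg.IsPBlock M F' ∧ (∀ t : ↥(Q ⊔ Subgroup.centralizer (Q : Set G)), Cfsg.blockCoeff F' t = Cfsg.subgroupBlockCoeff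 (Subgroup.centralizer (Q : Set G)) f (t : G)) ∧ Cfsg.IsNilpotentBlock p M F' := by
  classical
  have := CfsgLib.Blocks.isPrime_of_isPModular hM
  have hp : p.Prime := hM.1
  have hQn : Q.Normal := ⟨fun n hn g => (Subgroup.mem_normalizer_iff.mp (hG g).1 n).mp hn⟩
  have hBf : IsBrauerPairOf p M B Q f :=
    (CfsgLib.Blocks.SubpairLE.isBrauerPairOf_iff hM hle hmax.1.2.1).mp hmax.1
  have hQp : IsPGroup p Q := hBf.1.1
  have hB : ∀ g : G, blockCoeff B g = subgroupBlockCoeff (Subgroup.centralizer (Q : Set G)) f g := by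
    intro g
    have hsing : CfsgLib.Blocks.pairOrbit M Q f = {f} := Finset.eq_singleton_iff_unique_mem.mpr
      ⟨CfsgLib.Blocks.self_mem_pairOrbit hf, fun f' hf' => by
        obtain ⟨m, -, rfl⟩ := (CfsgLib.Blocks.mem_pairOrbit hf).mp hf'
        exact (CfsgLib.Blocks.stabilizesBlock_iff.mp (hG m).2).2⟩
    rw [← CfsgLib.Blocks.orbitFun_eq_blockCoeff hM Q hBf]
    simp [CfsgLib.Blocks.orbitFun, hsing]
  refine ⟨fun g => by rw [hB, sub_self]; exact CfsgLib.Blocks.memLocalIdeal_zero, ?_⟩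
  set T : Subgroup G := Q ⊔ Subgroup.centralizer (Q : Set G) with hT
  obtain ⟨F', hF', hcoeff⟩ := CfsgLib.Blocks.exists_block_of_stabilizer (T := T) hM hQp hf
    le_sup_right le_sup_left (fun t _ => (hG t).1) (fun t _ => (hG t).2)
  refine ⟨F', hF', hcoeff, hF', fun A h hA x _ _ hreg => ?_⟩
  have hTn : T.Normal := inferInstance
  have hdec : ∀ t : G, t ∈ T → ∃ q ∈ Q, ∃ c ∈ Subgroup.centralizer (Q : Set G), q * c = t :=
    fun t ht => Subgroup.mem_sup_of_normal_left.mp ht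
  have hcent : ∀ y ∈ P, y ∈ Subgroup.centralizer (Q : Set G) → y ∈ Q := by
    intro y hyP hyC
    refine hcen.2 Q ⟨_, F.conj_mem hQP (one_mem P), ?_⟩ ⟨hyP, hyC⟩
    ext z
    simp [conjHom]
  have hxC : (x : G) ∈ Subgroup.centralizer (Q : Set G) := by
    obtain ⟨q, hq, c, hc, hqc⟩ := hdec x x.2
    obtain ⟨n, hn⟩ := hQp ⟨q, hq⟩
    refine CfsgLib.Blocks.mem_of_pow_mem_of_isPRegular hp (x := (x : G)) (k := n) ?_ ?_
    · show ¬ p ∣ orderOf (x : G)
      rw [Subgroup.orderOf_coe]; exact hreg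
    · rw [← QuotientGroup.eq_one_iff, QuotientGroup.mk_pow, ← hqc, QuotientGroup.mk_mul,
        (QuotientGroup.eq_one_iff c).mpr hc, mul_one, ← QuotientGroup.mk_pow, QuotientGroup.eq_one_iff]
      have h1 : q ^ p ^ n = 1 := congrArg Subtype.val hn
      rw [h1]
      exact one_mem _
  obtain ⟨⟨D, d⟩, hDmax, hAD⟩ := CfsgLib.Blocks.exists_maximal_pair_above hM hA
  have hQT : (Q.subgroupOf T).Normal := inferInstance
  obtain ⟨e1, he1⟩ := CfsgLib.Blocks.exists_pair_of_normal hM (Q.subgroupOf T)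
    (hQp.of_equiv (Subgroup.subgroupOfEquivOfLe le_sup_left).symm) hF'
  obtain ⟨y, hy⟩ := CfsgLib.Blocks.exists_conjPair_le_maximal hM hDmax he1
  have hQD : Q ≤ D.map T.subtype := by
    intro q hq
    refine ⟨⟨q, Subgroup.mem_sup_left hq⟩, ?_, rfl⟩
    refine CfsgLib.Blocks.SubpairLE.le hy (CfsgLib.Blocks.mem_map_conj_iff.mpr ?_)
    exact (show (y⁻¹ : T) * ⟨q, Subgroup.mem_sup_left hq⟩ * y ∈ Q.subgroupOf T from
      hQT.conj_mem' _ (Subgroup.mem_subgroupOf.mpr hq) y)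
  have hCD : Subgroup.centralizer ((D.map T.subtype : Subgroup G) : Set G) ≤ T :=
    (Subgroup.centralizer_le (SetLike.coe_subset_coe.mpr hQD)).trans le_sup_right
  obtain ⟨ξ, hξ⟩ := CfsgLib.Blocks.IsPBlock.nonempty hDmax.1.1.2
  have hup : IsBrauerPairOf p M B (D.map T.subtype) (CfsgLib.Blocks.upBlock D hCD d) := by
    refine CfsgLib.Blocks.isBrauerPairOf_of_res hmax.1.2.1
      ⟨hDmax.1.1.1.map _, CfsgLib.Blocks.isPBlock_upBlock hCD hDmax.1.1.2⟩
      (ξ := CfsgLib.Blocks.irrEquiv (CfsgLib.Blocks.centEquiv D hCD) ξ) ⟨ξ, hξ, rfl⟩ ?_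
    rw [CfsgLib.Blocks.brauerOmega_upBlock hCD (β' := blockCoeff F')
      (fun z => by rw [hB, hcoeff]) ξ]
    exact CfsgLib.Blocks.IsBrauerPairOf.res_eq_one hDmax.1 hξ
  obtain ⟨g, hg⟩ := CfsgLib.Blocks.exists_conjPair_le_maximal hM hmax hup
  have hDQ : D.map T.subtype ≤ Q := by
    intro z hz
    have hzP : g * z * g⁻¹ ∈ P := CfsgLib.Blocks.SubpairLE.le hg
      (CfsgLib.Blocks.mem_map_conj_iff.mpr (by simpa [mul_assoc] using hz))
    obtain ⟨z', -, rfl⟩ := hz
    obtain ⟨q, hq, c, hc, hqc⟩ := hdec _ (hTn.conj_mem _ z'.2 g)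
    have hcP : c ∈ P := by
      have h1 := P.mul_mem (P.inv_mem (hQP hq)) hzP
      rwa [show g * T.subtype z' * g⁻¹ = g * (z' : G) * g⁻¹ from rfl, ← hqc,
        inv_mul_cancel_left] at h1
    have h2 := hQn.conj_mem' _ (hqc ▸ Q.mul_mem hq (hcent c hcP hc)) g
    simpa [mul_assoc] using h2
  intro a ha
  exact Subtype.ext (hxC _ (hDQ ⟨a, CfsgLib.Blocks.SubpairLE.le hAD ha, rfl⟩))

end Cfsg.Agent.S4693
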