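import Cfsg.Statements.S4694
import Cfsg.Agent.S0914
import Cfsg.Agent.Lib.Blocks.MaxCriterion
import Cfsg.Agent.Lib.Blocks.CoveringDefect
import Cfsg.Agent.Lib.Blocks.BlockSaturation
-- import your own Cfsg.Agent.* helpers here

set_option autoImplicit false
open Cfsg

namespace Cfsg.Agent.S4694

open Cfsg
open CfsgLib CfsgLib.Blocks
open scoped CfsgLib.Char

variable {p : ℕ} [hp : Fact p.Prime] {M : Ideal AlgInt}

/-- Facts about a group with a character of defect zero, read on a normal subgroup. -/
theorem defect_zero_facts (hM : IsPModular p M) {X : Type*} [Group X] [Fintype X]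
    {η : IrrCharacter X}
    (hη : (charDegree (η : X → ℂ)).factorization p = (Nat.card X).factorization p) :
    (∀ R : Subgroup X, R.Normal → IsPGroup p R → R = ⊥) ∧
    ∀ (N : Subgroup X) [N.Normal] [Fintype N], ∃ θ : IrrCharacter N,
      classInner (fun n : N => (η : X → ℂ) n) (θ : N → ℂ) ≠ 0 ∧
      (charDegree (θ : N → ℂ)).factorization p = (Nat.card N).factorization p := by
  classical
  have := isPrime_of_isPModular hM
  have hdvd : charDegree (η : X → ℂ) ∣ Nat.card X := by
    obtain ⟨n, hn, -, hdvd⟩ := Char.exists_degree_dvd_card η.2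
    have : charDegree (η : X → ℂ) = n := by simp [charDegree, hn]
    rwa [this]
  have hsing : blockOf M (η : X → ℂ) = {η} := by
    refine (Cfsg.Agent.S0914.result p M hM η).mp fun h => ?_
    have h0 : Nat.card X / charDegree (η : X → ℂ) ≠ 0 :=
      (Nat.div_pos (Nat.le_of_dvd Nat.card_pos hdvd) (irr_degree_eq η).2).ne'
    have h1 := hp.out.factorization_pos_of_dvd h0 h
    rw [Nat.factorization_div hdvd, Finsupp.tsub_apply, hη, Nat.sub_self] at h1
    exact lt_irrefl 0 h1
  have hB : IsPBlock M (blockOf M (η : X → ℂ)) := isPBlock_blockOf η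
  have hbot : ∀ D : Subgroup X, IsDefectGroup p M (blockOf M (η : X → ℂ)) D → D = ⊥ := by
    intro D hD
    obtain ⟨d, hd, hda, -, χ, hχ, heq⟩ := IsDefectGroup.degree_exponents hM hB hD
    rw [hsing, Set.mem_singleton_iff] at hχ
    subst hχ
    rw [hη] at heq
    have : d = 0 := by omega
    rw [this, pow_zero] at hd
    exact Subgroup.eq_bot_of_card_eq D hd
  obtain ⟨D, hD⟩ := exists_isDefectGroup hM hB
  refine ⟨fun R hR hRp => le_bot_iff.mp (hbot D hD ▸ IsDefectGroup.normal_le hM hB hD R hRp), ?_⟩
  intro N hN _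
  obtain ⟨θ, hθ⟩ := Char.exists_constituent N (Char.isCharacter_of_isIrr η.2)
    (Char.irr_degree_ne_zero η.2)
  refine ⟨θ, hθ, ?_⟩
  have hb : IsPBlock M (blockOf M (θ : N → ℂ)) := isPBlock_blockOf θ
  obtain ⟨Q, hQ⟩ := exists_isDefectGroup hM hb
  have hQ' : IsDefectGroup p M (blockOf M (θ : N → ℂ)) ((Q.map N.subtype).subgroupOf N) := by
    rw [Subgroup.subgroupOf, Subgroup.comap_map_eq_self_of_injective N.subtype_injective]
    exact hQ
  obtain ⟨P', hP', hPN⟩ := exists_defectGroup_inf_eq hb hB (mem_blockOf_self η) (mem_blockOf_self θ)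
    hθ hM (Subgroup.map_subtype_le Q) hQ' hD
  rw [hbot P' hP', bot_inf_eq] at hPN
  have hQb : Q = ⊥ := (Subgroup.map_eq_bot_iff_of_injective Q N.subtype_injective).mp hPN.symm
  obtain ⟨d, hd, -, hall, -⟩ := IsDefectGroup.degree_exponents hM hb hQ
  have hd0 : d = 0 := by
    rw [hQb, Subgroup.card_bot] at hd
    exact (Nat.pow_eq_one.mp hd.symm).resolve_left hp.out.ne_one
  refine le_antisymm ?_ (by simpa [hd0] using hall θ (mem_blockOf_self θ))
  obtain ⟨n, hn, hn0, hndvd⟩ := Char.exists_degree_dvd_card θ.2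
  rw [show charDegree (θ : N → ℂ) = n by simp [charDegree, hn]]
  exact (Nat.factorization_le_iff_dvd hn0.ne' Nat.card_pos.ne').mpr hndvd p

/-- Constituents pass through a surjection. -/
theorem classInner_comp_surjective {A B : Type*} [Group A] [Fintype A] [Group B] [Fintype B]
    (f : A →* B) (hf : Function.Surjective f) {φ : B → ℂ} (hφ : IsClassFunction B φ)
    (θ : IrrCharacter B) :
    classInner (φ ∘ f) (inflate f hf θ : A → ℂ) = classInner φ (θ : B → ℂ) := by
  classical
  have h : φ ∘ f = ∑ ψ : IrrCharacter B,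
      classInner φ (ψ : B → ℂ) • (inflate f hf ψ : A → ℂ) := by
    funext a
    have h1 := congrFun (Char.classFunction_expansion hφ) (f a)
    simp only [Finset.sum_apply, Pi.smul_apply] at h1 ⊢
    exact h1
  rw [h, Char.classInner_sum_left, Finset.sum_eq_single θ]
  · rw [Char.classInner_smul_left, Char.classInner_irr_self (inflate f hf θ).2, mul_one]
  · intro ψ _ hne
    rw [Char.classInner_smul_left, Char.classInner_irr_ne (inflate f hf ψ).2 (inflate f hf θ).2
      fun e => hne (inflate_injective f hf (Subtype.ext e)), mul_zero]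
  · intro hm
    exact absurd (Finset.mem_univ θ) hm


/-- Fix a prime p and a maximal ideal M of the algebraic integers containing p, a p-block B of the finite group G and a Brauer pair (Q, e) of B. Let T be the stabilizer of e in N_G(Q) and suppose that (Q, e) carries a weight: the block of T whose idempotent is that of e contains an irreducible character χ that is constant on the cosets of Q and whose degree has p-part equal to the p-part of the index of Q in T. Then Z(Q) is a defect group of e as a block of C_G(Q), and Q is the largest normal p-subgroup of T: every p-subgroup of T normalized by T lies in Q. -/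
theorem result {G : Type*} [Group G] [Fintype G] (p : ℕ) [Fact p.Prime] (M : Ideal Cfsg.AlgInt) (hM : Cfsg.IsPModular p M) (B : Set (Cfsg.IrrCharacter G)) (Q : Subgroup G) (e : Set (Cfsg.IrrCharacter (Subgroup.centralizer (Q : Set G)))) (hQe : Cfsg.IsBrauerPairOf p M B Q e) (T : Subgroup G) (hT : ∀ y : G, y ∈ T ↔ y ∈ Subgroup.normalizer (Q : Set G) ∧ Cfsg.StabilizesBlock (Subgroup.centralizer (Q : Set G)) e y) (F' : Set (Cfsg.IrrCharacter T)) (hF' : Cfsg.IsPBlock M F') (hF'e : ∀ t : T, Cfsg.blockCoeff F' t = Cfsg.subgroupBlockCoeff (Subgroup.centralizer (Q : Set G)) e (t : G)) (χ : Cfsg.IrrCharacter T) (hχ : χ ∈ F') (hχQ : ∀ q : G, q ∈ Q → ∀ t : T, ∀ t' : T, (t' : G) = q * (t : G) → (χ : T → ℂ) t' = (χ : T → ℂ) t) (hdeg : (Cfsg.charDegree (χ : T → ℂ)).factorization p + (Nat.card Q).factorization p = (Nat.card T).factorization p) : Cfsg.IsDefectGroup p M e ((Q ⊓ Subgroup.centralizer (Q : Set G)).subgroupOf (Subgroup.centralizer (Q : Set G))) ∧ ∀ R : Subgroup G, R ≤ T → IsPGroup p R → (∀ t ∈ T, t ∈ Subgroup.normalizer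 (R : Set G)) → R ≤ Q := by
  classical
  have := isPrime_of_isPModular hM
  have := Fintype.ofFinite T
  have := Fintype.ofFinite (Subgroup.centralizer (Q : Set G))
  have he : IsPBlock M e := hQe.1.2
  have hQp : IsPGroup p Q := hQe.1.1
  have hTe : T = blockT Q e := Subgroup.ext fun g => (hT g).trans mem_blockT.symm
  have hCT : Subgroup.centralizer (Q : Set G) ≤ T := hTe ▸ centralizer_le_blockT
  have hQT : Q ≤ T := hTe ▸ le_blockT
  have hTN : T ≤ Subgroup.normalizer (Q : Set G) := hTe ▸ blockT_le_normalizer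
  haveI : (Q.subgroupOf T).Normal := Subgroup.normal_subgroupOf_of_le_normalizer hTN
  haveI : ((Subgroup.centralizer (Q : Set G)).subgroupOf T).Normal :=
    Subgroup.normal_subgroupOf_of_le_normalizer fun t ht => mem_normalizer_centralizer (hTN ht)
  have := Fintype.ofFinite (T ⧸ Q.subgroupOf T)
  -- the character of the quotient
  have hker : ∀ u ∈ Q.subgroupOf T, (χ : T → ℂ) u = (χ : T → ℂ) 1 := fun u hu =>
    hχQ (u : G) (Subgroup.mem_subgroupOf.mp hu) 1 u (by rw [OneMemClass.coe_one, mul_one])
  obtain ⟨η, hη⟩ := exists_inflate_eq_of_ker (Q.subgroupOf T) χ hker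
  have hQcard : Nat.card (Q.subgroupOf T) = Nat.card Q :=
    Nat.card_congr (Subgroup.subgroupOfEquivOfLe hQT).toEquiv
  have hcT : (Nat.card T).factorization p =
      (Nat.card (T ⧸ Q.subgroupOf T)).factorization p + (Nat.card Q).factorization p := by
    rw [Subgroup.card_eq_card_quotient_mul_card_subgroup (Q.subgroupOf T),
      Nat.factorization_mul Nat.card_pos.ne' Nat.card_pos.ne', Finsupp.add_apply, hQcard]
  have hdegη : (charDegree (η : T ⧸ Q.subgroupOf T → ℂ)).factorization p =
      (Nat.card (T ⧸ Q.subgroupOf T)).factorization p := by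
    have : charDegree (χ : T → ℂ) = charDegree (η : T ⧸ Q.subgroupOf T → ℂ) := by
      rw [hη]
      simp only [charDegree]
      rfl
    rw [this] at hdeg
    omega
  obtain ⟨hcore, hcov⟩ := defect_zero_facts hM hdegη
  let π : T →* T ⧸ Q.subgroupOf T := QuotientGroup.mk' _
  have hπ : Function.Surjective π := QuotientGroup.mk'_surjective _
  refine ⟨?_, ?_⟩
  swap
  · intro R hRT hR hRn
    haveI : (R.subgroupOf T).Normal := Subgroup.normal_subgroupOf_of_le_normalizer hRn
    have hb := hcore ((R.subgroupOf T).map π) (Subgroup.Normal.map inferInstance π hπ)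
      ((hR.of_equiv (Subgroup.subgroupOfEquivOfLe hRT).symm).map π)
    intro x hx
    have hxm : π ⟨x, hRT hx⟩ ∈ (⊥ : Subgroup (T ⧸ Q.subgroupOf T)) :=
      hb ▸ Subgroup.mem_map_of_mem π (Subgroup.mem_subgroupOf.mpr hx)
    rw [Subgroup.mem_bot] at hxm
    exact Subgroup.mem_subgroupOf.mp ((QuotientGroup.eq_one_iff _).mp hxm)
  -- a constituent on the centralizer
  let CT : Subgroup T := (Subgroup.centralizer (Q : Set G)).subgroupOf T
  haveI : CT.Normal := ‹_›
  have := Fintype.ofFinite CT
  haveI : (CT.map π).Normal := Subgroup.Normal.map inferInstance π hπ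
  have := Fintype.ofFinite (CT.map π)
  obtain ⟨θb, hθb, hθbdeg⟩ := hcov (CT.map π)
  let f : CT →* CT.map π := π.subgroupMap CT
  have hf : Function.Surjective f := π.subgroupMap_surjective CT
  have hcon : classInner (fun n : CT => (χ : T → ℂ) n) (inflate f hf θb : CT → ℂ) ≠ 0 := by
    have := classInner_comp_surjective f hf
      (Char.isClassFunction_restrict (CT.map π) (irr_classFunction η)) θb
    rw [← this] at hθb
    rw [hη]
    exact hθb
  -- it lies in `e`
  let φ : Subgroup.centralizer (Q : Set G) ≃* CT := (Subgroup.subgroupOfEquivOfLe hCT).symm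
  let θ : IrrCharacter (Subgroup.centralizer (Q : Set G)) := (irrEquiv φ).symm (inflate f hf θb)
  have hθe : θ ∈ e := by
    by_contra hno
    have hsupp : ∀ t : T, t ∉ CT → blockCoeff F' t = 0 := fun t ht => by
      rw [hF'e, subgroupBlockCoeff_eq]
      exact extendByZero_eq_zero _ _ fun h => ht (Subgroup.mem_subgroupOf.mpr h)
    have h := omega_eq_of_constituent hcon (isClassFunction_blockCoeff F') hsupp
    rw [omega_blockCoeff, indVec_of_mem hχ] at h
    have h2 : (fun n : CT => blockCoeff F' n) = blockCoeff (irrEquiv φ '' e) := funext fun n => by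
      obtain ⟨c, rfl⟩ := φ.surjective n
      rw [blockCoeff_image_irrEquiv, hF'e, subgroupBlockCoeff_eq]
      exact extendByZero_apply _ (blockCoeff e) c
    rw [h2, omega_blockCoeff, indVec_of_notMem (S := irrEquiv φ '' e)
      (by rintro ⟨ξ, hξ, hξe⟩; exact hno (by rwa [show θ = ξ from (irrEquiv φ).symm_apply_eq.mpr hξe.symm]))] at h
    exact one_ne_zero h
  -- its degree
  set Z := Q.subgroupOf (Subgroup.centralizer (Q : Set G)) with hZ
  have hZc : Z ≤ Subgroup.center (Subgroup.centralizer (Q : Set G)) := fun z hz =>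
    Subgroup.mem_center_iff.mpr fun c => Subtype.ext
      (Subgroup.mem_centralizer_iff.mp c.2 _ (Subgroup.mem_subgroupOf.mp hz)).symm
  have hZp : IsPGroup p Z := hQp.comap_of_injective _ (Subgroup.subtype_injective _)
  let g : Subgroup.centralizer (Q : Set G) →* CT.map π := f.comp φ.toMonoidHom
  have hg : Function.Surjective g := hf.comp φ.surjective
  have hgker : g.ker = Z := by
    ext c
    rw [MonoidHom.mem_ker, hZ, Subgroup.mem_subgroupOf]
    constructor
    · intro h
      have h1 : π (φ c : T) = 1 := congrArg Subtype.val h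
      exact Subgroup.mem_subgroupOf.mp ((QuotientGroup.eq_one_iff (φ c : T)).mp h1)
    · intro h
      refine Subtype.ext ?_
      show π (φ c : T) = 1
      exact (QuotientGroup.eq_one_iff _).mpr (Subgroup.mem_subgroupOf.mpr h)
  have hcard : Nat.card (Subgroup.centralizer (Q : Set G)) = Nat.card (CT.map π) * Nat.card Z := by
    rw [← hgker, ← Nat.card_congr (QuotientGroup.quotientKerEquivOfSurjective g hg).toEquiv]
    exact Subgroup.card_eq_card_quotient_mul_card_subgroup g.ker
  have hθdeg : charDegree (θ : Subgroup.centralizer (Q : Set G) → ℂ) =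
      charDegree (θb : CT.map π → ℂ) := by
    show ⌊((θb : CT.map π → ℂ) (g 1)).re⌋₊ = _
    rw [map_one]
    rfl
  have hdef : blockDefect p e = (Nat.card Z).factorization p := by
    refine (blockDefect_eq_central_iff _ hM hZc hZp he).mpr ⟨θ, hθe, fun z hz => ?_, ?_⟩
    · have : g z = 1 := MonoidHom.mem_ker.mp (hgker ▸ hz)
      show (θb : CT.map π → ℂ) (g z) = (θb : CT.map π → ℂ) (g 1)
      rw [this, map_one]
    · rw [hθdeg, hθbdeg, hcard, Nat.factorization_mul Nat.card_pos.ne' Nat.card_pos.ne',
        Finsupp.add_apply]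
  obtain ⟨D, hD⟩ := exists_isDefectGroup hM he
  haveI : Z.Normal := ⟨fun z hz c => by
    rwa [Subgroup.mem_center_iff.mp (hZc hz) c, mul_inv_cancel_right]⟩
  have hle := IsDefectGroup.normal_le hM he hD Z hZp
  obtain ⟨k, hk⟩ := IsPGroup.iff_card.mp hZp
  have hDZ : Z = D := Subgroup.eq_of_le_of_card_ge hle (by
    rw [IsDefectGroup.card_eq hM he hD, hdef, hk, (Fact.out : p.Prime).factorization_pow,
      Finsupp.single_eq_same])
  rw [Subgroup.inf_subgroupOf_right, ← hZ, hDZ]
  exact hD


end Cfsg.Agent.S4694
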