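import Cfsg.Statements.S4696
import Cfsg.Agent.Lib.Blocks.CyclicDefect.Setup

set_option autoImplicit false
open Cfsg
open scoped CfsgLib.Char

namespace Cfsg.Agent.S4696

/-- Let p be a prime, M a maximal ideal of the algebraic integers containing p, and B a p-block of the finite group G whose defect group D is cyclic of order p^a with a ≥ 1. Let C = C_G(D), let b be a block of C inducing B, let T be the stabilizer of b in N_G(D) (the elements g of N_G(D) such that the g-conjugate of every member of b is again in b), and let e be the index of C in T (the inertial index of B). Then e divides p − 1, every irreducible character in B has height zero, and B is the disjoint union of a set X of e characters and a set Y of (p^a − 1)/e characters, the members of Y agreeing on p-regular elements, for which there are signs δ_χ = ±1 (χ ∈ X) and δ₀ = ±1 such that: for every ψ ∈ Y and every p-regular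 g, δ₀ ψ(g) + Σ_{χ ∈ X} δ_χ χ(g) = 0; for all χ, χ' ∈ X the integers δ_χ χ(1) and δ_χ' χ'(1) are congruent modulo p^a; and for ψ ∈ Y and χ ∈ X, ψ(1) ≡ −e δ₀ δ_χ χ(1) modulo p^a. -/
theorem result {G : Type*} [Group G] [Finite G] (p : ℕ) [Fact p.Prime] (M : Ideal Cfsg.AlgInt) (hM : Cfsg.IsPModular p M) (D : Subgroup G) (hD : IsCyclic D) (a : ℕ) (ha : 1 ≤ a) (hDa : Nat.card D = p ^ a) (B : Set (Cfsg.IrrCharacter G)) (hB : Cfsg.IsPBlock M B) (hBD : Cfsg.IsDefectGroup p M B D) (b : Set (Cfsg.IrrCharacter (Subgroup.centralizer (D : Set G)))) (hind : Cfsg.IsInducedBlock M (Subgroup.centralizer (D : Set G)) b B) (T : Subgroup G) (hT : ∀ g : G, g ∈ T ↔ (g ∈ Subgroup.normalizer (D : Set G) ∧ ∀ θ ∈ b, ∀ θ' : Cfsg.IrrCharacter (Subgroup.centralizer (D : Set G)), (∀ h h' : Subgroup.centralizer (D : Set G), (h' : G) = g * h * g⁻¹ → (θ' : Subgroup.centralizer (D : Set G) → ℂ) h' = (θ : Subgroup.centralizer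 (D : Set G) → ℂ) h) → θ' ∈ b)) (e : ℕ) (he : (Subgroup.centralizer (D : Set G)).relIndex T = e) : e ∣ p - 1 ∧ (∀ χ ∈ B, Cfsg.blockHeight p B (χ : G → ℂ) = 0) ∧ ∃ X Y : Set (Cfsg.IrrCharacter G), B = X ∪ Y ∧ Disjoint X Y ∧ Nat.card X = e ∧ Nat.card Y = (p ^ a - 1) / e ∧ (∀ ψ ∈ Y, ∀ ψ' ∈ Y, ∀ g : G, ¬ p ∣ orderOf g → (ψ : G → ℂ) g = (ψ' : G → ℂ) g) ∧ ∃ (δ : Cfsg.IrrCharacter G → ℤ) (δ₀ : ℤ), (∀ χ ∈ X, δ χ = 1 ∨ δ χ = -1) ∧ (δ₀ = 1 ∨ δ₀ = -1) ∧ (∀ ψ ∈ Y, ∀ g : G, ¬ p ∣ orderOf g → (δ₀ : ℂ) * (ψ : G → ℂ) g + ∑ᶠ χ ∈ X, (δ χ : ℂ) * (χ : G → ℂ) g = 0) ∧ (∀ χ ∈ X, ∀ χ' ∈ X, δ χ * (Cfsg.charDegree (χ : G → ℂ) : ℤ) ≡ δ χ' * (Cfsg.charDegree (χ' : G → ℂ) : ℤ) [ZMOD (p : ℤ) ^ a]) ∧ (∀ ψ ∈ Y, ∀ χ ∈ X, (Cfsg.charDegree (ψ : G → ℂ) : ℤ) ≡ -((e : ℤ) * δ₀ * δ χ * (Cfsg.charDegree (χ : G → ℂ) : ℤ)) [ZMOD (p : ℤ) ^ a]) := by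
  classical
  have : Fintype G := Fintype.ofFinite G
  have := CfsgLib.Blocks.isPrime_of_isPModular hM
  obtain rfl := CfsgLib.Blocks.CyclicDefect.eq_blockT_of_mem_iff hT
  have hp : p.Prime := hM.1
  have hpz : Prime (p : ℤ) := Nat.prime_iff_prime_int.mp hp
  have hab := CfsgLib.Blocks.CyclicDefect.comm_of_cyclic hD
  obtain ⟨hmax, -⟩ := CfsgLib.Blocks.maximal_of_induced hM hBD hab hind
  have hD1 : D ≠ ⊥ := fun h => by
    rw [h, Subgroup.card_bot] at hDa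
    exact absurd hDa (Nat.one_lt_pow (by omega) hp.one_lt).ne
  have hed := CfsgLib.Blocks.CyclicDefect.index_dvd hM hmax hD hD1 he
  have hfree := CfsgLib.Blocks.CyclicDefect.free_of_cyclic hM hmax hD
  obtain ⟨-, hcardB, hm, ω, exc, δ, w, hω, S⟩ := CfsgLib.Blocks.CyclicDefect.counts hM hmax hD hD1 he
  have hω0 : ∀ u, u ≠ 1 → ω u ≠ 0 := fun u hu h => by
    have := hω.unit u hu
    rw [h, zero_mul] at this
    exact zero_ne_one this
  obtain ⟨hc1, hc2⟩ := CfsgLib.Blocks.FreeQuot.IsShape.congr hM hmax hab hfree S hω0 hD1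
  have hcardE : Nat.card {i : {χ // χ ∈ B} // ∀ o, exc o ≠ i} = e :=
    (S.card.trans CfsgLib.Blocks.FreeQuot.card_inertAut).trans he
  set n := (Nat.card G).factorization p
  have hda : blockDefect p B = a := Nat.pow_right_injective hp.two_le
    ((CfsgLib.Blocks.IsDefectGroup.card_eq hM hB hBD).symm.trans hDa)
  obtain ⟨hdn, -, hall, -⟩ := CfsgLib.Blocks.blockDefect_le_and_degree hM hB
  rw [hda] at hdn
  simp only [hda] at hall
  have hp1 : 2 ≤ p := hp.two_le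
  have he0 : 0 < e := Nat.pos_of_dvd_of_pos hed (by omega)
  have hpe : ¬ (p : ℤ) ∣ (e : ℤ) := fun h => by
    have h1 := Nat.le_of_dvd he0 (Int.natCast_dvd_natCast.mp h)
    have h2 := Nat.le_of_dvd (show 0 < p - 1 by omega) hed
    omega
  have hunit : ∀ z : ℤ, z = 1 ∨ z = -1 → ¬ (p : ℤ) ∣ z := fun z hz h => by
    have h1 : (p : ℤ) ∣ 1 := by rcases hz with rfl | rfl <;> simpa using h
    have := Int.le_of_dvd one_pos h1
    omega
  have hem : (e : ℤ) * (Nat.card (Quotient (CfsgLib.Blocks.FreeQuot.orbitSetoid (A := D)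
      (CfsgLib.Blocks.FreeQuot.inertAut D b))) : ℤ) = (p : ℤ) ^ a - 1 := by
    have hdvd : e ∣ p ^ a - 1 := hed.trans (Nat.sub_one_dvd_pow_sub_one p a)
    rw [hm, hDa, ← Nat.cast_mul, Nat.mul_div_cancel' hdvd,
      Nat.cast_sub (Nat.one_le_pow a p hp.pos), Nat.cast_pow, Nat.cast_one]
  -- the degree of an exceptional member
  have hcong : ∀ i, (∀ o, exc o ≠ i) → ∀ o, (p : ℤ) ^ n ∣
      δ * (charDegree ((exc o).1 : G → ℂ) : ℤ) -
        ((e : ℤ) * w i) * (charDegree (i.1 : G → ℂ) : ℤ) := by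
    intro i hi o
    have h := dvd_mul_of_dvd_right (hc2 i hi o) (e : ℤ)
    rw [mul_add, ← mul_assoc, hem] at h
    have hy : (p : ℤ) ^ n ∣ (p : ℤ) ^ a * (δ * (charDegree ((exc o).1 : G → ℂ) : ℤ)) := by
      have h1 := (hp.pow_dvd_iff_le_factorization (CfsgLib.Blocks.irr_degree_eq (exc o).1).2.ne').mpr
        (hall _ (exc o).2)
      obtain ⟨q, hq⟩ := h1
      refine ⟨δ * q, ?_⟩
      have hn : (p : ℤ) ^ n = (p : ℤ) ^ a * (p : ℤ) ^ (n - a) := by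
        rw [← pow_add, Nat.add_sub_cancel' hdn]
      rw [hq, Nat.cast_mul, Nat.cast_pow, hn]
      ring
    have h2 := Int.dvd_sub hy h
    convert h2 using 1
    ring
  -- transfer of the exponent
  have htrans : ∀ (x z : ℤ) (χ χ' : Cfsg.IrrCharacter G), χ ∈ B → ¬ (p : ℤ) ∣ z →
      (p : ℤ) ^ n ∣ x * (charDegree (χ : G → ℂ) : ℤ) - z * (charDegree (χ' : G → ℂ) : ℤ) →
      (charDegree (χ' : G → ℂ)).factorization p = n - a →
      (charDegree (χ : G → ℂ)).factorization p = n - a := by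
    intro x z χ χ' hχ hz hdvd hv
    refine le_antisymm ?_ (hall χ hχ)
    by_contra hlt
    have h1 : p ^ (n - a + 1) ∣ charDegree (χ : G → ℂ) :=
      (hp.pow_dvd_iff_le_factorization (CfsgLib.Blocks.irr_degree_eq χ).2.ne').mpr (by omega)
    have h2 : (p : ℤ) ^ (n - a + 1) ∣ z * (charDegree (χ' : G → ℂ) : ℤ) := by
      have h3 : (p : ℤ) ^ (n - a + 1) ∣ x * (charDegree (χ : G → ℂ) : ℤ) :=
        dvd_mul_of_dvd_right (by exact_mod_cast h1) _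
      have h4 := Int.dvd_sub h3 ((pow_dvd_pow (p : ℤ) (show n - a + 1 ≤ n by omega)).trans hdvd)
      rwa [sub_sub_cancel] at h4
    have h5 : p ^ (n - a + 1) ∣ charDegree (χ' : G → ℂ) := by
      exact_mod_cast hpz.pow_dvd_of_dvd_mul_left _ hz h2
    have := (hp.pow_dvd_iff_le_factorization (CfsgLib.Blocks.irr_degree_eq χ').2.ne').mp h5
    omega
  obtain ⟨i₀, hi₀⟩ : Nonempty {i : {χ // χ ∈ B} // ∀ o, exc o ≠ i} :=
    (Nat.card_pos_iff.mp (hcardE ▸ he0)).1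
  have hrel : ∀ χ : {χ // χ ∈ B}, ∃ x z : ℤ, ¬ (p : ℤ) ∣ x ∧ ¬ (p : ℤ) ∣ z ∧ (p : ℤ) ^ n ∣
      x * (charDegree (χ.1 : G → ℂ) : ℤ) - z * (charDegree (i₀.1 : G → ℂ) : ℤ) := by
    intro χ
    by_cases hχ : ∀ o, exc o ≠ χ
    · exact ⟨w χ, w i₀, hunit _ (S.rest_sign χ hχ), hunit _ (S.rest_sign i₀ hi₀), hc1 χ i₀ hχ hi₀⟩
    · push Not at hχ
      obtain ⟨o, rfl⟩ := hχ
      exact ⟨δ, (e : ℤ) * w i₀, hunit _ S.sign, fun h => (hpz.dvd_or_dvd h).elim hpe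
        (hunit _ (S.rest_sign i₀ hi₀)), hcong i₀ hi₀ o⟩
  have hv : ∀ χ ∈ B, (charDegree (χ : G → ℂ)).factorization p = n - a := by
    obtain ⟨χ₀, hχ₀, h0⟩ := CfsgLib.Blocks.exists_blockHeight_eq_zero hM hB
    rw [CfsgLib.Blocks.blockHeight_eq_zero_iff hM hB hχ₀, hda] at h0
    obtain ⟨x, z, hx, hz, hd0⟩ := hrel ⟨χ₀, hχ₀⟩
    have hi : (charDegree (i₀.1 : G → ℂ)).factorization p = n - a :=
      htrans z x i₀.1 χ₀ i₀.2 hx (by rw [← neg_sub, dvd_neg]; exact hd0) h0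
    intro χ hχ
    obtain ⟨x, z, hx, hz, hd⟩ := hrel ⟨χ, hχ⟩
    exact htrans x z χ i₀.1 hχ hz hd hi
  refine ⟨hed, fun χ hχ => (CfsgLib.Blocks.blockHeight_eq_zero_iff hM hB hχ).mpr (by
    rw [hda]; exact hv χ hχ), Subtype.val '' {i : {χ // χ ∈ B} | ∀ o, exc o ≠ i},
    Set.range fun o => (exc o).1, ?_, ?_, ?_, ?_, ?_, ?_⟩
  · ext χ
    refine ⟨fun hχ => ?_, ?_⟩
    · by_cases h : ∀ o, exc o ≠ ⟨χ, hχ⟩
      · exact Or.inl ⟨⟨χ, hχ⟩, h, rfl⟩
      · push Not at h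
        obtain ⟨o, ho⟩ := h
        exact Or.inr ⟨o, congrArg Subtype.val ho⟩
    · rintro (⟨i, -, rfl⟩ | ⟨o, rfl⟩)
      exacts [i.2, (exc o).2]
  · rw [Set.disjoint_left]
    rintro χ ⟨i, hi, rfl⟩ ⟨o, ho⟩
    exact hi o (Subtype.ext ho)
  · rw [Nat.card_image_of_injective Subtype.val_injective]
    exact hcardE
  · show Nat.card (Set.range (Subtype.val ∘ ⇑exc)) = _
    rw [Nat.card_congr (Equiv.ofInjective _ (Subtype.val_injective.comp exc.injective)).symm,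
      hm, hDa]
  · rintro _ ⟨o, rfl⟩ _ ⟨o', rfl⟩ g hg
    exact (CfsgLib.Blocks.FreeQuot.IsShape.relation hM hmax hab hfree S hD1 hg).1 o o'
  refine ⟨fun χ => if h : χ ∈ B then w ⟨χ, h⟩ else 1, -δ, ?_, ?_, ?_, ?_, ?_⟩
  · rintro _ ⟨i, hi, rfl⟩
    simpa [i.2] using S.rest_sign i hi
  · rcases S.sign with h | h <;> simp [h]
  · rintro _ ⟨o, rfl⟩ g hg
    rw [finsum_mem_image Subtype.val_injective.injOn, finsum_mem_eq_finite_toFinset_sum _ (Set.toFinite _),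
      Finset.sum_congr (s₂ := Finset.univ.filter fun i : {χ // χ ∈ B} => ∀ o', exc o' ≠ i)
        (g := fun i : {χ // χ ∈ B} => (w i : ℂ) * (i.1 : G → ℂ) g) (by ext; simp) fun i _ => by
          simp [i.2],
      show ∑ i ∈ Finset.univ.filter (fun i : {χ // χ ∈ B} => ∀ o', exc o' ≠ i),
        (w i : ℂ) * (i.1 : G → ℂ) g = (δ : ℂ) * ((exc o).1 : G → ℂ) g by
        convert (CfsgLib.Blocks.FreeQuot.IsShape.relation hM hmax hab hfree S hD1 hg).2 o]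
    push_cast
    ring
  · rintro _ ⟨i, hi, rfl⟩ _ ⟨j, hj, rfl⟩
    simp only [i.2, j.2, dif_pos, Subtype.coe_eta]
    exact Int.modEq_iff_dvd.mpr ((pow_dvd_pow (p : ℤ) hdn).trans (hc1 j i hj hi))
  · rintro _ ⟨o, rfl⟩ _ ⟨i, hi, rfl⟩
    simp only [i.2, dif_pos, Subtype.coe_eta]
    refine Int.modEq_iff_dvd.mpr ((pow_dvd_pow (p : ℤ) hdn).trans ?_)
    have h := dvd_mul_of_dvd_right (hcong i hi o) (-δ)
    convert h using 1
    rcases S.sign with h | h <;> rw [h] <;> ring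

end Cfsg.Agent.S4696
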