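import Cfsg.Statements.S4697
import Cfsg.Agent.Lib.Blocks.RankTwo.Main

set_option linter.style.haveILetI false

set_option autoImplicit false
open Cfsg

namespace Cfsg.Agent.S4697

/-- Let p be a prime, M a maximal ideal of the algebraic integers containing p, and B a p-block of the finite group G with an abelian defect group D of order p^d. If D has rank 2 (its least number of generators is 2) then B contains at most p^d irreducible characters; if D has rank 3 then the number k of irreducible characters in B satisfies k^3 ≤ p^(5d). -/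
theorem result {G : Type*} [Group G] [Finite G] (p : ℕ) [Fact p.Prime] (M : Ideal Cfsg.AlgInt) (hM : Cfsg.IsPModular p M) (B : Set (Cfsg.IrrCharacter G)) (hB : Cfsg.IsPBlock M B) (D : Subgroup G) (hBD : Cfsg.IsDefectGroup p M B D) (hab : IsMulCommutative D) (d : ℕ) (hDd : Nat.card D = p ^ d) : (Group.rank D = 2 → Nat.card B ≤ p ^ d) ∧ (Group.rank D = 3 → Nat.card B ^ 3 ≤ p ^ (5 * d)) := by
  classical
  have := Fintype.ofFinite G
  have hcomm : ∀ x ∈ D, ∀ y ∈ D, x * y = y * x := fun x hx y hy =>
    congrArg Subtype.val (hab.is_comm.comm ⟨x, hx⟩ ⟨y, hy⟩)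
  obtain rfl : d = blockDefect p B := Nat.pow_right_injective hM.1.two_le
    (hDd.symm.trans (CfsgLib.Blocks.IsDefectGroup.card_eq hM hB hBD))
  obtain ⟨S, hS, htop⟩ := Group.rank_spec D
  have hmap : D = Subgroup.closure ((fun x : D => (x : G)) '' (S : Set D)) := by
    rw [show (fun x : D => (x : G)) = D.subtype from rfl, ← MonoidHom.map_closure, htop,
      ← MonoidHom.range_eq_map, Subgroup.range_subtype]
  refine ⟨fun h2 => ?_, fun h3 => ?_⟩
  · rw [h2, Finset.card_eq_two] at hS
    obtain ⟨a, b, -, rfl⟩ := hS
    refine CfsgLib.Blocks.RankTwo.card_le_pow_two_gen hM hB hBD hcomm (a := (a : G)) (b := (b : G)) ?_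
    rw [Subgroup.zpowers_eq_closure, Subgroup.zpowers_eq_closure, ← Subgroup.closure_union,
      Set.singleton_union]
    simpa [Set.image_insert_eq] using hmap
  · rw [h3, Finset.card_eq_three] at hS
    obtain ⟨a, b, c, -, -, -, rfl⟩ := hS
    have hgen : D = Subgroup.zpowers (a : G) ⊔
        (Subgroup.zpowers (b : G) ⊔ Subgroup.zpowers (c : G)) := by
      rw [Subgroup.zpowers_eq_closure, Subgroup.zpowers_eq_closure, Subgroup.zpowers_eq_closure,
        ← Subgroup.closure_union, ← Subgroup.closure_union, Set.singleton_union, Set.singleton_union]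
      simpa [Set.image_insert_eq] using hmap
    rcases le_total (orderOf (b : G)) (orderOf (a : G)) with hba | hab'
    · rcases le_total (orderOf (c : G)) (orderOf (a : G)) with hca | hac
      · exact CfsgLib.Blocks.RankTwo.card_cube_le_three_gen hM hB hBD hcomm hgen hba hca
      · exact CfsgLib.Blocks.RankTwo.card_cube_le_three_gen hM hB hBD hcomm
          (a := (c : G)) (b := (a : G)) (c := (b : G))
          (hgen.trans (by rw [sup_comm (Subgroup.zpowers (b : G)), sup_left_comm])) hac (hba.trans hac)
    · rcases le_total (orderOf (c : G)) (orderOf (b : G)) with hcb | hbc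
      · exact CfsgLib.Blocks.RankTwo.card_cube_le_three_gen hM hB hBD hcomm
          (a := (b : G)) (b := (a : G)) (c := (c : G))
          (hgen.trans (sup_left_comm _ _ _)) hab' hcb
      · exact CfsgLib.Blocks.RankTwo.card_cube_le_three_gen hM hB hBD hcomm
          (a := (c : G)) (b := (a : G)) (c := (b : G))
          (hgen.trans (by rw [sup_comm (Subgroup.zpowers (b : G)), sup_left_comm]))
          (hab'.trans hbc) hbc

end Cfsg.Agent.S4697
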