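import Cfsg.Statements.S4699
import Mathlib

set_option autoImplicit false
open Cfsg

namespace Cfsg.Agent.S4699

open Module Finset Polynomial

section Ops

variable {F : Type*} [Field F] {V : Type*} [AddCommGroup V] [Module F V]
  {G : Type*} [Group G] (ρ : Representation F G V) (g : G)

/-- Conjugation of endomorphisms by `ρ g`. -/
noncomputable def conjE : Module.End F (Module.End F V) :=
  LinearMap.mulLeft F (ρ g) * LinearMap.mulRight F (ρ g⁻¹)

theorem conjE_apply (θ : Module.End F V) : conjE ρ g θ = ρ g * θ * ρ g⁻¹ := by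
  simp [conjE, mul_assoc]

theorem conjE_pow_apply (i : ℕ) (θ : Module.End F V) :
    (conjE ρ g ^ i) θ = ρ (g ^ i) * θ * ρ (g ^ i)⁻¹ := by
  induction i with
  | zero => simp
  | succ i ih =>
    rw [pow_succ', Module.End.mul_apply, ih, conjE_apply, pow_succ', mul_inv_rev, map_mul, map_mul]
    simp only [mul_assoc]

/-- Iterated commutators lower the height. -/
theorem mem_range_iter (k : ℕ) : ∀ (θ : Module.End F V) (j : ℕ) (v : V),
    ((ρ g - 1) ^ j) v = 0 →
    ((conjE ρ g - 1) ^ k) θ v ∈ LinearMap.range ((ρ g - 1) ^ (k + 1 - j)) := by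
  induction k with
  | zero =>
    intro θ j v hv
    rcases Nat.eq_zero_or_pos j with rfl | hj
    · have hv0 : v = 0 := by simpa using hv
      simp [hv0]
    · rw [show 0 + 1 - j = 0 by omega, pow_zero]
      exact ⟨_, rfl⟩
  | succ k ih =>
    intro θ j v hv
    set T := ρ g - 1 with hT
    rcases Nat.eq_zero_or_pos j with rfl | hj
    · have hv0 : v = 0 := by simpa using hv
      simp [hv0]
    set η := ((conjE ρ g - 1) ^ k) θ
    have hcomm : Commute T (ρ g⁻¹) := by
      refine Commute.sub_left ?_ (Commute.one_left _)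
      show ρ g * ρ g⁻¹ = ρ g⁻¹ * ρ g
      rw [← map_mul, ← map_mul, mul_inv_cancel, inv_mul_cancel]
    have hw : (T ^ j) (ρ g⁻¹ v) = 0 := by
      rw [← Module.End.mul_apply, (hcomm.pow_left j).eq, Module.End.mul_apply, hv, map_zero]
    have he : ((conjE ρ g - 1) ^ (k + 1)) θ v = T (η (ρ g⁻¹ v)) - η (T (ρ g⁻¹ v)) := by
      rw [pow_succ', Module.End.mul_apply]
      show (conjE ρ g - 1) η v = _
      simp [LinearMap.sub_apply, conjE_apply, hT, map_sub, Module.End.mul_apply]
    rw [he]
    refine Submodule.sub_mem _ ?_ ?_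
    · obtain ⟨u, hu⟩ := ih θ j (ρ g⁻¹ v) hw
      rcases Nat.lt_or_ge (k + 1) j with hlt | hge
      · rw [show k + 1 + 1 - j = 0 by omega, pow_zero]
        exact ⟨_, rfl⟩
      · refine ⟨u, ?_⟩
        rw [show k + 1 + 1 - j = (k + 1 - j) + 1 by omega, pow_succ', Module.End.mul_apply, hu]
    · have hTw : (T ^ (j - 1)) (T (ρ g⁻¹ v)) = 0 := by
        rw [← Module.End.mul_apply, ← pow_succ, show j - 1 + 1 = j by omega, hw]
      have h2 := ih θ (j - 1) (T (ρ g⁻¹ v)) hTw
      rwa [show k + 1 - (j - 1) = k + 1 + 1 - j by omega] at h2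

theorem sub_one_pow_pred_eq (F : Type*) [Field F] (p n : ℕ) [Fact p.Prime] [CharP F p] :
    (X - 1 : F[X]) ^ (p ^ n - 1) = ∑ i ∈ range (p ^ n), (X : F[X]) ^ i := by
  have hX : (X - 1 : F[X]) ≠ 0 := by
    rw [← C_1]; exact X_sub_C_ne_zero 1
  refine mul_right_cancel₀ hX ?_
  rw [geom_sum_mul, ← pow_succ, Nat.sub_add_cancel (Nat.one_le_pow _ _ (Fact.out : p.Prime).pos),
    sub_pow_char_pow, one_pow]

theorem trace_kills (p n : ℕ) [Fact p.Prime] [CharP F p] (j : ℕ) (hj : j ≤ p ^ n)
    (hT : (ρ g - 1) ^ (p ^ n - j) = 0) (θ : Module.End F V) (v : V)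
    (hv : ((ρ g - 1) ^ j) v = 0) :
    ∑ i ∈ range (p ^ n), (ρ (g ^ i) * θ * ρ (g ^ i)⁻¹) v = 0 := by
  have hq : 1 ≤ p ^ n := Nat.one_le_pow _ _ (Fact.out : p.Prime).pos
  have key := congrArg (fun P : F[X] => (Polynomial.aeval (conjE ρ g)) P θ v)
    (sub_one_pow_pred_eq F p n)
  simp only [map_pow, map_sub, map_sum, aeval_X, map_one, LinearMap.sum_apply,
    conjE_pow_apply] at key
  simp only [map_pow] at key ⊢
  rw [← key]
  have h := mem_range_iter ρ g (p ^ n - 1) θ j v hv
  rw [show p ^ n - 1 + 1 - j = p ^ n - j by omega, hT, LinearMap.range_zero,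
    Submodule.mem_bot] at h
  exact h

end Ops

theorem core {F : Type*} [Field F] (p : ℕ) [hp : Fact p.Prime] [CharP F p]
    {V : Type*} [AddCommGroup V] [Module F V] [FiniteDimensional F V]
    {G : Type*} [Group G] [Finite G] (P : Sylow p G) (g : G)
    (hg : Subgroup.zpowers g = (P : Subgroup G)) (n : ℕ) (hn : 2 ≤ n) (hord : orderOf g = p ^ n)
    (hTI : ∀ Q : Sylow p G, Q ≠ P → (P : Subgroup G) ⊓ (Q : Subgroup G) = ⊥)
    (ρ : Representation F G V) (hfaith : Function.Injective ρ) (hirr : ρ.IsIrreducible) :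
    p ^ n - (p - 1) ≤ Module.finrank F V := by
  classical
  by_contra hlt
  have hp2 := hp.out.two_le
  have hpq : p ≤ p ^ n := Nat.le_self_pow (by omega) p
  set T : Module.End F V := ρ g - 1 with hT
  haveI : Nontrivial V := by
    by_contra h
    haveI := not_nontrivial_iff_subsingleton.mp h
    have h1 : g = 1 := hfaith (LinearMap.ext fun x => Subsingleton.elim _ _)
    rw [h1, orderOf_one] at hord
    omega
  haveI : CharP (Module.End F V) p :=
    charP_of_injective_algebraMap (FaithfulSMul.algebraMap_injective F (Module.End F V)) p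
  have hTq : T ^ (p ^ n) = 0 := by
    rw [hT, sub_pow_char_pow_of_commute p _ (Commute.one_right _), one_pow, ← map_pow, ← hord,
      pow_orderOf_eq_one, map_one, sub_self]
  have hTd : T ^ (p ^ n - p) = 0 := by
    have h1 : T ^ Module.finrank F V = 0 := by
      refine LinearMap.ext fun v => ?_
      have h2 : v ∈ LinearMap.ker (T ^ p ^ n) := by rw [LinearMap.mem_ker, hTq]; rfl
      exact Module.End.ker_pow_le_ker_pow_finrank T (p ^ n) h2
    exact pow_eq_zero_of_le (by omega) h1
  have hTp : T ^ (p - 1) ≠ 0 := by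
    intro h
    have h1 : T ^ p ^ 1 = 0 := pow_eq_zero_of_le (by rw [pow_one]; omega) h
    rw [hT, sub_pow_char_pow_of_commute p _ (Commute.one_right _), one_pow, sub_eq_zero, pow_one,
      ← map_pow, ← map_one ρ] at h1
    have h2 := orderOf_dvd_of_pow_eq_one (hfaith h1)
    rw [hord] at h2
    exact absurd (Nat.le_of_dvd hp.out.pos h2) (by
      have : p < p ^ n := Nat.lt_of_lt_of_le (by nlinarith) (Nat.pow_le_pow_right hp.out.pos hn)
      omega)
  -- a vector of height exactly `p`
  obtain ⟨v, w, hvw, hw0, hTw⟩ : ∃ v w : V, (T ^ (p - 1)) v = w ∧ w ≠ 0 ∧ T w = 0 := by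
    have hex : ∃ k, T ^ (p - 1 + k) = 0 :=
      ⟨p ^ n, pow_eq_zero_of_le (by omega) hTq⟩
    have hk := Nat.find_spec hex
    have hk0 : Nat.find hex ≠ 0 := fun h => hTp (by simpa [h] using hk)
    obtain ⟨k, hke⟩ := Nat.exists_eq_succ_of_ne_zero hk0
    have hk1 := Nat.find_min hex (show k < Nat.find hex by omega)
    obtain ⟨u, hu⟩ : ∃ u, (T ^ (p - 1 + k)) u ≠ 0 := by
      by_contra h
      exact hk1 (LinearMap.ext fun u => not_not.mp fun hu => h ⟨u, hu⟩)
    refine ⟨(T ^ k) u, (T ^ (p - 1 + k)) u, ?_, hu, ?_⟩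
    · rw [← Module.End.mul_apply, ← pow_add]
    · rw [← Module.End.mul_apply, ← pow_succ', show p - 1 + k + 1 = p - 1 + (k + 1) by omega,
        ← Nat.succ_eq_add_one, ← hke, hk]
      rfl
  have hvp : (T ^ p) v = 0 := by
    rw [show p = 1 + (p - 1) by omega, pow_add, Module.End.mul_apply, hvw, pow_one, hTw]
  -- the function on cosets
  have hPcomm : ∀ y ∈ (P : Subgroup G), Commute (ρ y) (T ^ (p - 1)) := by
    intro y hy
    rw [← hg, ← mem_powers_iff_mem_zpowers] at hy
    obtain ⟨i, rfl⟩ := hy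
    exact (Commute.sub_right (by rw [map_pow]; exact (Commute.refl (ρ g)).pow_left i)
      (Commute.one_right _)).pow_right _
  let f : G ⧸ (P : Subgroup G) → Module.End F V := fun x =>
    Quotient.liftOn' x (fun a => ρ a * T ^ (p - 1) * ρ a⁻¹) (by
      intro a b hab
      rw [QuotientGroup.leftRel_apply] at hab
      show ρ a * T ^ (p - 1) * ρ a⁻¹ = ρ b * T ^ (p - 1) * ρ b⁻¹
      have h2 := hPcomm _ hab
      have hb : b = a * (a⁻¹ * b) := by group
      obtain ⟨c, rfl⟩ : ∃ c, b = a * c := ⟨_, hb⟩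
      rw [inv_mul_cancel_left] at h2
      calc ρ a * T ^ (p - 1) * ρ a⁻¹ = ρ a * (T ^ (p - 1) * (ρ c * ρ c⁻¹)) * ρ a⁻¹ := by
            rw [← map_mul, mul_inv_cancel, map_one, mul_one]
        _ = ρ a * (ρ c * T ^ (p - 1) * ρ c⁻¹) * ρ a⁻¹ := by
            rw [← mul_assoc (T ^ (p - 1)), h2.eq]
        _ = _ := by simp only [map_mul, mul_inv_rev, mul_assoc])
  have hf : ∀ a : G, f (a : G ⧸ (P : Subgroup G)) = ρ a * T ^ (p - 1) * ρ a⁻¹ := fun a => rfl
  have hfsmul : ∀ (y : G) (x : G ⧸ (P : Subgroup G)), f (y • x) = ρ y * f x * ρ y⁻¹ := by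
    intro y x
    obtain ⟨a, rfl⟩ := QuotientGroup.mk_surjective x
    rw [MulAction.Quotient.smul_mk, smul_eq_mul, hf, hf, map_mul, mul_inv_rev, map_mul]
    simp only [mul_assoc]
  haveI := Fintype.ofFinite (G ⧸ (P : Subgroup G))
  set ψ : Module.End F V := ∑ x, f x with hψ
  have hψc : ∀ y u, ψ (ρ y u) = ρ y (ψ u) := by
    intro y u
    have h1 : ρ y * ψ * ρ y⁻¹ = ψ := by
      rw [hψ, mul_sum, sum_mul]
      simp_rw [← hfsmul]
      exact Equiv.sum_comp (MulAction.toPerm y) f
    conv_lhs => rw [← h1]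
    simp only [Module.End.mul_apply]
    rw [← Module.End.mul_apply (ρ y⁻¹), ← map_mul, inv_mul_cancel, map_one, Module.End.one_apply]
  -- fixed cosets
  have hfix : ∀ x : G ⧸ (P : Subgroup G), g • x = x → ∃ a : ℕ, ¬ p ∣ a ∧
      f x = ((∑ i ∈ range a, ρ g ^ i) ^ (p - 1)) * T ^ (p - 1) := by
    intro x hx
    obtain ⟨b, rfl⟩ := QuotientGroup.mk_surjective x
    rw [MulAction.Quotient.smul_mk, smul_eq_mul, eq_comm, QuotientGroup.eq] at hx
    have hle : (P : Subgroup G) ≤ (P : Subgroup G).map (MulAut.conj b).toMonoidHom := by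
      rw [← hg, Subgroup.zpowers_le, hg]
      exact ⟨b⁻¹ * (g * b), hx, by simp [mul_assoc]⟩
    have heq := Subgroup.eq_of_le_of_card_ge hle
      (by rw [Subgroup.card_map_of_injective (MulAut.conj b).injective])
    have hmem : b * g * b⁻¹ ∈ (P : Subgroup G) := by
      rw [heq]; exact ⟨g, hg ▸ Subgroup.mem_zpowers g, rfl⟩
    rw [← hg, ← mem_powers_iff_mem_zpowers] at hmem
    obtain ⟨a, ha⟩ := hmem
    refine ⟨a, fun hpa => ?_, ?_⟩
    · obtain ⟨c, rfl⟩ := hpa
      have h1 : (b * g * b⁻¹) ^ p ^ (n - 1) = 1 := by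
        rw [← ha, ← pow_mul, mul_comm p c, mul_assoc, ← pow_succ',
          show n - 1 + 1 = n by omega, pow_mul', ← hord, pow_orderOf_eq_one, one_pow]
      rw [conj_pow, conj_eq_one_iff] at h1
      have h2 := orderOf_dvd_of_pow_eq_one h1
      rw [hord, Nat.pow_dvd_pow_iff_le_right hp2] at h2
      omega
    · rw [hf]
      have hcj : ∀ k : ℕ, ρ b * T ^ k * ρ b⁻¹ = (ρ (b * g * b⁻¹) - 1) ^ k := by
        intro k
        induction k with
        | zero => rw [pow_zero, mul_one, ← map_mul, mul_inv_cancel, map_one, pow_zero]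
        | succ k ih =>
          have e : ρ (b * g * b⁻¹) - 1 = ρ b * T * ρ b⁻¹ := by
            rw [hT, mul_sub, sub_mul, mul_one, ← map_mul, ← map_mul, ← map_mul, mul_inv_cancel,
              map_one]
          rw [pow_succ, pow_succ, ← ih, e]
          simp only [mul_assoc]
          rw [← mul_assoc (ρ b⁻¹) (ρ b), ← map_mul, inv_mul_cancel, map_one, one_mul]
      rw [hcj, ← ha, map_pow, ← geom_sum_mul, ← hT]
      refine Commute.mul_pow ?_ _
      exact Commute.sum_left _ _ _ fun i _ =>
        Commute.sub_right ((Commute.refl (ρ g)).pow_left i) (Commute.one_right _)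
  have hgw : ρ g w = w := by
    have h := hTw
    rw [hT, LinearMap.sub_apply, Module.End.one_apply, sub_eq_zero] at h
    exact h
  have hfixv : ∀ x : G ⧸ (P : Subgroup G), g • x = x → f x v = w := by
    intro x hx
    obtain ⟨a, hpa, he⟩ := hfix x hx
    have hS : (∑ i ∈ range a, ρ g ^ i) w = (a : F) • w := by
      have h1 : ∀ i : ℕ, (ρ g ^ i) w = w := fun i => by
        induction i with
        | zero => rfl
        | succ i ih => rw [pow_succ, Module.End.mul_apply, hgw, ih]
      simp [LinearMap.sum_apply, h1, Nat.cast_smul_eq_nsmul]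
    have hSk : ∀ k : ℕ, ((∑ i ∈ range a, ρ g ^ i) ^ k) w = ((a : F) ^ k) • w := by
      intro k
      induction k with
      | zero => simp
      | succ k ih => rw [pow_succ, Module.End.mul_apply, hS, map_smul, ih, smul_smul, pow_succ']
    rw [he, Module.End.mul_apply, hvw, hSk]
    have hone : (a : F) ^ (p - 1) = 1 := by
      have h := Nat.ModEq.pow_card_sub_one_eq_one hp.out
        ((Nat.Prime.coprime_iff_not_dvd hp.out).mpr hpa).symm
      have h2 := (CharP.natCast_eq_natCast F p).mpr h
      simpa using h2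
    rw [hone, one_smul]
  -- moving cosets
  have hmove : ∀ x : G ⧸ (P : Subgroup G), g • x ≠ x →
      ∀ i < p ^ n, g ^ i • x = x → i = 0 := by
    intro x hx i hi hix
    obtain ⟨b, rfl⟩ := QuotientGroup.mk_surjective x
    by_contra hi0
    rw [MulAction.Quotient.smul_mk, smul_eq_mul, eq_comm, QuotientGroup.eq] at hix
    have hQ : g ^ i ∈ ((b • P : Sylow p G) : Subgroup G) := by
      rw [Sylow.coe_subgroup_smul, Subgroup.mem_pointwise_smul_iff_inv_smul_mem]
      simpa only [MulAut.smul_def, ← map_inv, MulAut.conj_apply, inv_inv, mul_assoc] using hix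
    have hP : g ^ i ∈ (P : Subgroup G) := hg ▸ Subgroup.npow_mem_zpowers g i
    have hne : g ^ i ≠ 1 := pow_ne_one_of_lt_orderOf hi0 (hord ▸ hi)
    by_cases hQP : b • P = P
    · apply hx
      rw [Sylow.smul_eq_iff_mem_normalizer] at hQP
      rw [MulAction.Quotient.smul_mk, smul_eq_mul, eq_comm, QuotientGroup.eq]
      have := (Subgroup.mem_normalizer_iff''.mp hQP g).mp (hg ▸ Subgroup.mem_zpowers g)
      simpa [mul_assoc] using this
    · have hm : g ^ i ∈ (P : Subgroup G) ⊓ ((b • P : Sylow p G) : Subgroup G) := ⟨hP, hQ⟩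
      rw [hTI _ hQP, Subgroup.mem_bot] at hm
      exact hne hm
  set X1 := (univ : Finset (G ⧸ (P : Subgroup G))).filter fun x => ¬ g • x = x with hX1
  set X0 := (univ : Finset (G ⧸ (P : Subgroup G))).filter fun x => g • x = x with hX0
  have horb : ∀ u : V, ∀ j ≤ p, ((T ^ j) u) = 0 → (∑ x ∈ X1, f x) u = 0 := by
    intro u j hj hu
    let mk : G ⧸ (P : Subgroup G) →
        MulAction.orbitRel.Quotient (Subgroup.zpowers g) (G ⧸ (P : Subgroup G)) :=
      fun x => Quotient.mk'' x
    rw [← Finset.sum_fiberwise_of_maps_to (g := mk) (t := X1.image mk)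
      (fun x hx => mem_image_of_mem mk hx), LinearMap.sum_apply]
    refine Finset.sum_eq_zero fun o ho => ?_
    obtain ⟨x, hx, rfl⟩ := mem_image.mp ho
    have hxm : g • x ≠ x := (mem_filter.mp hx).2
    have hfib : X1.filter (fun y => mk y = mk x) = (range (p ^ n)).image fun i => g ^ i • x := by
      ext y
      simp only [mem_filter, mem_image, mem_range, hX1, mem_univ, true_and, mk]
      rw [Quotient.eq'', MulAction.orbitRel_apply]
      constructor
      · rintro ⟨-, ⟨⟨z, hz⟩, rfl⟩⟩
        rw [← mem_powers_iff_mem_zpowers] at hz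
        obtain ⟨i, rfl⟩ := hz
        refine ⟨i % p ^ n, Nat.mod_lt _ (by positivity), ?_⟩
        show g ^ (i % p ^ n) • x = g ^ i • x
        rw [← hord, pow_mod_orderOf]
      · rintro ⟨i, -, rfl⟩
        refine ⟨fun h => hxm ?_, ⟨⟨g ^ i, Subgroup.npow_mem_zpowers g i⟩, rfl⟩⟩
        rw [← mul_smul, ← pow_succ', pow_succ, mul_smul] at h
        exact smul_left_cancel _ h
    rw [hfib, Finset.sum_image]
    · simp only [hfsmul, LinearMap.sum_apply]
      exact trace_kills ρ g p n j (by omega) (pow_eq_zero_of_le (by omega) hTd) (f x) u hu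
    · intro i hi k hk hik
      simp only [coe_range, Set.mem_Iio] at hi hk
      wlog hle : i ≤ k generalizing i k
      · exact (this hik.symm hk hi (by omega)).symm
      have h : g ^ (k - i) • x = x := by
        have : g ^ i • (g ^ (k - i) • x) = g ^ i • x := by
          rw [← mul_smul, ← pow_add, Nat.add_sub_cancel' hle]; exact hik.symm
        exact smul_left_cancel _ this
      have := hmove x hxm _ (by omega) h
      omega
  have hsplit : ψ = (∑ x ∈ X0, f x) + ∑ x ∈ X1, f x :=
    (Finset.sum_filter_add_sum_filter_not _ _ _).symm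
  -- `ψ` vanishes
  have hψw : ψ w = 0 := by
    rw [hsplit, LinearMap.add_apply, horb w 1 (by omega) (by rw [pow_one, hTw]), add_zero,
      LinearMap.sum_apply]
    refine Finset.sum_eq_zero fun x hx => ?_
    obtain ⟨a, -, he⟩ := hfix x (mem_filter.mp hx).2
    rw [he, Module.End.mul_apply, show p - 1 = (p - 2) + 1 by omega, pow_succ T, Module.End.mul_apply,
      hTw, map_zero, map_zero]
  have hψ0 : ψ = 0 := by
    let S : Subrepresentation ρ := ⟨LinearMap.ker ψ, fun y u hu => by
      rw [LinearMap.mem_ker] at hu ⊢; rw [hψc, hu, map_zero]⟩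
    haveI : IsSimpleOrder (Subrepresentation ρ) := hirr
    rcases eq_bot_or_eq_top S with h | h
    · exfalso
      have : w ∈ S.toSubmodule := LinearMap.mem_ker.mpr hψw
      rw [h] at this
      exact hw0 this
    · exact LinearMap.ker_eq_top.mp (congrArg Subrepresentation.toSubmodule h)
  have h1 : (Nat.card X0 : F) • w = 0 := by
    have h2 := LinearMap.congr_fun hψ0 v
    rw [hsplit, LinearMap.add_apply, horb v p le_rfl hvp, add_zero, LinearMap.sum_apply,
      Finset.sum_congr rfl (fun x hx => hfixv x (mem_filter.mp hx).2), Finset.sum_const,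
      LinearMap.zero_apply] at h2
    rw [Nat.card_eq_fintype_card, Fintype.card_coe, Nat.cast_smul_eq_nsmul]
    exact h2
  rcases smul_eq_zero.mp h1 with h | h
  · rw [CharP.cast_eq_zero_iff F p] at h
    have hmod := (P.isPGroup'.card_modEq_card_fixedPoints (G ⧸ (P : Subgroup G)))
    have hset : Nat.card (MulAction.fixedPoints (P : Subgroup G) (G ⧸ (P : Subgroup G))) =
        Nat.card X0 := Nat.card_congr (Equiv.subtypeEquivRight fun x => by
      simp only [MulAction.mem_fixedPoints, hX0, mem_filter, mem_univ, true_and]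
      refine ⟨fun h => h ⟨g, hg ▸ Subgroup.mem_zpowers g⟩, fun h y => ?_⟩
      obtain ⟨y, hy⟩ := y
      rw [← hg, ← mem_powers_iff_mem_zpowers] at hy
      obtain ⟨i, rfl⟩ := hy
      show g ^ i • x = x
      clear hfix hfixv
      induction i with
      | zero => simp
      | succ i ih => rw [pow_succ, mul_smul, h, ih (hg ▸ Subgroup.npow_mem_zpowers g i)])
    rw [hset] at hmod
    exact P.not_dvd_index ((Nat.ModEq.dvd_iff hmod dvd_rfl).mpr h)
  · exact hw0 h


/-- Let p be a prime and G a finite group whose Sylow p-subgroup P is cyclic of order p^n with n ≥ 2 and meets every other Sylow p-subgroup trivially. Then every faithful irreducible representation of G on a finite-dimensional space over a finite field of characteristic p has dimension at least p^n − (p − 1). -/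
theorem result {G : Type*} [Group G] [Finite G] (p : ℕ) [Fact p.Prime] (P : Sylow p G) (hcyc : IsCyclic P) (n : ℕ) (hn : 2 ≤ n) (hPn : Nat.card P = p ^ n) (hTI : ∀ Q : Sylow p G, Q ≠ P → (P : Subgroup G) ⊓ (Q : Subgroup G) = ⊥) (F : Type*) [Field F] [Finite F] [CharP F p] (V : Type*) [AddCommGroup V] [Module F V] [FiniteDimensional F V] (ρ : Representation F G V) (hfaith : Function.Injective ρ) (hirr : ρ.IsIrreducible) : p ^ n - (p - 1) ≤ Module.finrank F V := by
  obtain ⟨g, hg⟩ := (Subgroup.isCyclic_iff_exists_zpowers_eq_top (P : Subgroup G)).mp hcyc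
  exact core p P g hg n hn (by rw [← Nat.card_zpowers, hg]; exact hPn) hTI ρ hfaith hirr

end Cfsg.Agent.S4699
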