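import Cfsg.Statements.S4702
import Cfsg.Agent.S0727
import Cfsg.Agent.Lib.Classical.Card

set_option autoImplicit false
set_option linter.style.haveILetI false
open Cfsg

namespace Cfsg.Agent.S4702

/-- Let G be a triply transitive permutation group on a finite set of odd size m ≥ 3 in which only the identity fixes three or more points. Then m = 2^a + 1 for some a ≥ 1 and G is isomorphic to SL(2, 2^a). -/
theorem result {α : Type*} [Fintype α] [DecidableEq α] (hm : 3 ≤ Fintype.card α) (hodd : Odd (Fintype.card α)) (G : Subgroup (Equiv.Perm α)) (h3 : MulAction.IsMultiplyPretransitive G α 3) (hfix : ∀ g : G, 3 ≤ Nat.card (MulAction.fixedBy α g) → g = 1) : ∃ a : ℕ, 1 ≤ a ∧ Fintype.card α = 2 ^ a + 1 ∧ ∃ (F : Type) (_ : Field F) (_ : Fintype F), Fintype.card F = 2 ^ a ∧ Nonempty (G ≃* Matrix.SpecialLinearGroup (Fin 2) F) := by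
  classical
  have hsharp : ∀ x : Fin 3 ↪ α, MulAction.stabilizer G x = ⊥ := by
    intro x
    rw [Subgroup.eq_bot_iff_forall]
    intro g hg
    apply hfix g
    have hsub : Set.range x ⊆ MulAction.fixedBy α g := by
      rintro _ ⟨i, rfl⟩
      exact DFunLike.congr_fun (show g • x = x from hg) i
    rw [Nat.card_coe_set_eq]
    refine le_trans (le_of_eq ?_) (Set.ncard_le_ncard hsub)
    rw [Set.ncard_range_of_injective x.injective, Nat.card_eq_fintype_card, Fintype.card_fin]
  obtain ⟨x⟩ : Nonempty (Fin 3 ↪ α) := Function.Embedding.nonempty_of_card_le (by simpa using hm)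
  obtain ⟨N, p, j, hp, hj, hpj, -⟩ :=
    Cfsg.Agent.Lib.Perm.SharplyThree.exists_translations h3 hsharp hm (x 0)
  have hp2 : p = 2 := by
    by_contra hne
    have h : Odd (p ^ j) := (hp.odd_of_ne_two hne).pow
    rw [hpj, Nat.odd_add_one] at hodd
    exact hodd h
  subst hp2
  obtain ⟨F, iF, fF, hcard, ⟨e⟩⟩ := Cfsg.Agent.S0727.result hj hpj G h3 hsharp
  letI := iF
  letI := fF
  refine ⟨j, hj, hpj, F, iF, fF, hcard, ?_⟩
  haveI : CharP F 2 := charP_of_card_eq_prime_pow (f := j) hcard
  let π : Matrix.SpecialLinearGroup (Fin 2) F →* Matrix.ProjGenLinGroup (Fin 2) F :=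
    Matrix.ProjGenLinGroup.mk.comp Matrix.SpecialLinearGroup.toGL
  have hπ : Function.Injective π := by
    rw [injective_iff_map_eq_one]
    intro g hg
    have hg' : Matrix.ProjGenLinGroup.mk (Matrix.SpecialLinearGroup.toGL g) = 1 := hg
    rw [Matrix.ProjGenLinGroup.mk_eq_one, Matrix.GeneralLinearGroup.center_eq_range_scalar] at hg'
    obtain ⟨r, hr⟩ := hg'
    have hm' : (g : Matrix (Fin 2) (Fin 2) F) = Matrix.scalar (Fin 2) (r : F) :=
      (congrArg Units.val hr).symm
    have hdet : Matrix.det (g : Matrix (Fin 2) (Fin 2) F) = 1 := g.det_coe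
    rw [hm', Matrix.scalar_apply, Matrix.det_diagonal, Fin.prod_univ_two] at hdet
    have h1 : (r : F) = 1 := by
      rcases mul_self_eq_one_iff.mp hdet with h | h
      · exact h
      · rw [h, CharTwo.neg_eq]
    apply Subtype.ext
    rw [hm', h1, map_one]
    rfl
  haveI : Finite (Matrix.ProjGenLinGroup (Fin 2) F) :=
    Finite.of_surjective _ Matrix.ProjGenLinGroup.mk_surjective
  exact ⟨e.trans (MulEquiv.ofBijective π ((Nat.bijective_iff_injective_and_card π).mpr
    ⟨hπ, (CfsgLib.Classical.card_PGL_eq_card_SL (ι := Fin 2) (F := F)).symm⟩)).symm⟩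

end Cfsg.Agent.S4702
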