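import Cfsg.Statements.S4705
import Cfsg.Agent.Lib.PMinusTwo.Reduction

set_option autoImplicit false
open Cfsg
open scoped CfsgLib.Char

namespace Cfsg.Agent.S4705

/-- Let G be a finite group with centre Z and p > 5 a prime such that a Sylow p-subgroup of G has order p and is not normal. If G has a faithful irreducible character of degree p − 2, then p = 2^a + 1 for some a and G is isomorphic to the direct product of SL(2, 2^a) with Z. -/
theorem result {G : Type*} [Group G] [Finite G] (p : ℕ) [Fact p.Prime] (hp : 5 < p) (P : Sylow p G) (hP : Nat.card P = p) (hnn : ¬ (P : Subgroup G).Normal) (ζ : G → ℂ) (hζ : Cfsg.IsIrrCharacter G ζ) (hfaith : ∀ g : G, ζ g = ζ 1 → g = 1) (hdeg : Cfsg.charDegree ζ = p - 2) : ∃ (a : ℕ) (F : Type) (_ : Field F) (_ : Fintype F), p = 2 ^ a + 1 ∧ Fintype.card F = 2 ^ a ∧ Nonempty (G ≃* Matrix.SpecialLinearGroup (Fin 2) F × Subgroup.center G) := by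
  haveI : Fintype G := Fintype.ofFinite G
  have hpr := (Fact.out : p.Prime)
  obtain ⟨M, hM⟩ := CfsgLib.Blocks.exists_isPModular (p := p) hpr
  have := CfsgLib.Blocks.isPrime_of_isPModular hM
  let χ : IrrCharacter G := ⟨ζ, hζ⟩
  have hdiv : p ∣ Nat.card G := hP ▸ Subgroup.card_subgroup_dvd_card _
  have hsq : ¬ p ^ 2 ∣ Nat.card G := fun h => by
    have h1 := (P : Subgroup G).card_mul_index
    rw [hP] at h1
    rw [pow_two, ← h1] at h
    exact P.not_dvd_index (Nat.dvd_of_mul_dvd_mul_left hpr.pos h)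
  have hpd : ¬ p ∣ charDegree (χ : G → ℂ) := fun h => by
    rw [show (χ : G → ℂ) = ζ from rfl, hdeg] at h
    have := Nat.le_of_dvd (by omega) h
    omega
  obtain ⟨S, hS⟩ := CfsgLib.Blocks.PrimeDefect.exists_setup hM (CfsgLib.Blocks.isPBlock_blockOf χ)
    hdiv hsq (CfsgLib.PMinusTwo.defect_pos hM hdiv χ hpd)
  refine CfsgLib.PMinusTwo.structure_sl hp S (fun hn => hnn ?_) (χ := χ)
    (hS ▸ CfsgLib.Blocks.mem_blockOf_self χ) hdeg hfaith
  haveI := hn
  have hle : S.P ≤ (P : Subgroup G) := by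
    have hSp : IsPGroup p S.P := IsPGroup.of_card (n := 1) (by rw [S.hP, pow_one])
    have h := P.3 (P.2.to_sup_of_normal_right hSp) le_sup_left
    exact le_sup_right.trans h.le
  rw [← Subgroup.eq_of_le_of_card_ge hle (by rw [S.hP, hP])]
  exact hn

end Cfsg.Agent.S4705
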