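import Cfsg.Statements.S4708
import Cfsg.Agent.Lib.Blocks.CoveringConstituents
import Cfsg.Agent.Lib.Blocks.KernelBlock
import Cfsg.Agent.Lib.Blocks.PairConj
import Cfsg.Agent.Lib.Char.Extraspecial
-- import your own Cfsg.Agent.* helpers here

set_option autoImplicit false
open Cfsg

namespace Cfsg.Agent.S4708

open Cfsg
open CfsgLib CfsgLib.Blocks
open scoped CfsgLib.Char

/-- A constituent of the restriction of a principal block character is in the principal block. -/
theorem below_principal {p : ℕ} {M : Ideal AlgInt} (hM : IsPModular p M) {G : Type*} [Group G]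
    [Fintype G] (N : Subgroup G) [N.Normal] [Fintype N] {χ : IrrCharacter G}
    (hχ : χ ∈ principalBlock M G) {θ : IrrCharacter N}
    (h : classInner (fun n : N => (χ : G → ℂ) n) (θ : N → ℂ) ≠ 0) : θ ∈ principalBlock M N := by
  classical
  have := isPrime_of_isPModular hM
  have hb : IsPBlock M (principalBlock M N) := isPBlock_principalBlock
  have htriv : classInner (fun n : N => (trivIrr G : G → ℂ) n) (trivIrr N : N → ℂ) ≠ 0 := by
    show classInner (trivIrr N : N → ℂ) (trivIrr N : N → ℂ) ≠ 0
    rw [Char.classInner_irr_self (trivIrr N).2]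
    exact one_ne_zero
  obtain ⟨g, hg⟩ := exists_conjI_mem_of_congr hb (trivIrr_mem_principalBlock N) (χ := χ)
    (fun v hv hl hsupp => omega_congr_of_covering isPBlock_principalBlock hb
      (trivIrr_mem_principalBlock G) (trivIrr_mem_principalBlock N) htriv hχ
      (trivIrr_mem_principalBlock N) hv hl hsupp) h
  have h1 : SameBlock M (conjI g⁻¹ (conjI g θ) : N → ℂ) (conjI g⁻¹ (trivIrr N) : N → ℂ) :=
    sameBlock_inflate _ _ (IsPBlock.sameBlock hb hg (trivIrr_mem_principalBlock N))
  rw [← conjI_mul, mul_inv_cancel, conjI_one,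
    show conjI g⁻¹ (trivIrr N) = trivIrr N from Subtype.ext (funext fun _ => rfl)] at h1
  rw [principalBlock_eq]
  exact mem_blockOf_iff.mpr (SameBlock.symm h1)

theorem exists_mult {G : Type*} [Group G] [Fintype G] (N : Subgroup G) [Fintype N]
    (χ : IrrCharacter G) (θ : IrrCharacter N) :
    ∃ n : ℕ, classInner (fun n : N => (χ : G → ℂ) n) (θ : N → ℂ) = n :=
  Char.exists_nat_classInner (Char.isCharacter_restrict N (Char.isCharacter_of_isIrr χ.2))
    (Char.isCharacter_of_isIrr θ.2)

theorem cast_charDegree {G : Type*} [Group G] [Fintype G] (χ : IrrCharacter G) :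
    (charDegree (χ : G → ℂ) : ℂ) = (χ : G → ℂ) 1 := by
  obtain ⟨n, -, h⟩ := Char.exists_nat_degree_irr χ.2
  rw [Char.Extraspecial.charDegree_eq h, h]


/-- Let p be a prime, M a maximal ideal of the algebraic integers containing p, G a finite group and H a normal subgroup. Write λ(X) for the sum of the squares of the degrees of the irreducible characters in the principal p-block of a group X. Then λ(H) ≤ λ(G) ≤ [G : H]·λ(H). -/
theorem result {G : Type*} [Group G] [Finite G] (p : ℕ) [Fact p.Prime] (M : Ideal Cfsg.AlgInt) (hM : Cfsg.IsPModular p M) (H : Subgroup G) [H.Normal] : (∑ᶠ θ ∈ Cfsg.principalBlock M H, Cfsg.charDegree (θ : H → ℂ) ^ 2) ≤ (∑ᶠ χ ∈ Cfsg.principalBlock M G, Cfsg.charDegree (χ : G → ℂ) ^ 2) ∧ (∑ᶠ χ ∈ Cfsg.principalBlock M G, Cfsg.charDegree (χ : G → ℂ) ^ 2) ≤ H.index * ∑ᶠ θ ∈ Cfsg.principalBlock M H, Cfsg.charDegree (θ : H → ℂ) ^ 2 := by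
  classical
  have := Fintype.ofFinite G
  have := Fintype.ofFinite H
  have := isPrime_of_isPModular hM
  choose a ha using fun (χ : IrrCharacter G) (θ : IrrCharacter H) => exists_mult H χ θ
  set S := (principalBlock M H).toFinset with hS
  set T := (principalBlock M G).toFinset with hT
  have hrow : ∀ χ ∈ T, ∑ θ ∈ S, a χ θ * charDegree (θ : H → ℂ) = charDegree (χ : G → ℂ) := by
    intro χ hχ
    have h := congrFun (Char.classFunction_expansion
      (Char.isClassFunction_restrict H (irr_classFunction χ))) 1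
    simp only [Finset.sum_apply, Pi.smul_apply, smul_eq_mul, ha, ← cast_charDegree,
      OneMemClass.coe_one] at h
    have h' : charDegree (χ : G → ℂ) = ∑ θ : IrrCharacter H, a χ θ * charDegree (θ : H → ℂ) := by
      exact_mod_cast h
    rw [h']
    refine Finset.sum_subset (Finset.subset_univ S) fun θ _ hθ => ?_
    rcases Nat.eq_zero_or_pos (a χ θ) with h0 | h0
    · rw [h0, zero_mul]
    · exact absurd (Set.mem_toFinset.mpr (below_principal hM H (Set.mem_toFinset.mp hχ)
        (by rw [ha]; exact_mod_cast h0.ne'))) hθ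
  have hcol : ∀ θ : IrrCharacter H,
      ∑ χ : IrrCharacter G, a χ θ * charDegree (χ : G → ℂ) = H.index * charDegree (θ : H → ℂ) := by
    intro θ
    have h := congrFun (Char.classFunction_expansion
      (Char.isClassFunction_indFun H (θ : H → ℂ))) 1
    rw [Char.indFun_one] at h
    simp only [Finset.sum_apply, Pi.smul_apply, smul_eq_mul, ← cast_charDegree,
      fun χ : IrrCharacter G => Char.frobenius_reciprocity H (θ : H → ℂ) (irr_classFunction χ),
      fun χ : IrrCharacter G => show classInner (θ : H → ℂ) (fun h : H => (χ : G → ℂ) h) =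
        (a χ θ : ℂ) by rw [← Char.classInner_conj_symm, ha, Complex.conj_natCast]] at h
    exact_mod_cast h.symm
  rw [finsum_mem_eq_toFinset_sum, finsum_mem_eq_toFinset_sum]
  constructor
  · calc ∑ θ ∈ S, charDegree (θ : H → ℂ) ^ 2
        ≤ ∑ θ ∈ S, ∑ χ ∈ T, (a χ θ * charDegree (θ : H → ℂ)) ^ 2 := by
          refine Finset.sum_le_sum fun θ hθ => ?_
          obtain ⟨χ, hχ, hne⟩ := exists_constituent_mem_of_covering hM
            (isPBlock_principalBlock (G := H)) (isPBlock_principalBlock (G := G))
            (trivIrr_mem_principalBlock G) (trivIrr_mem_principalBlock H)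
            (by
              show classInner (trivIrr H : H → ℂ) (trivIrr H : H → ℂ) ≠ 0
              rw [Char.classInner_irr_self (trivIrr H).2]
              exact one_ne_zero) (Set.mem_toFinset.mp hθ)
          have hpos : 0 < a χ θ := Nat.pos_of_ne_zero fun h0 => hne (by rw [ha, h0, Nat.cast_zero])
          refine le_trans ?_ (Finset.single_le_sum (fun i _ => Nat.zero_le _) (Set.mem_toFinset.mpr hχ))
          exact Nat.pow_le_pow_left (Nat.le_mul_of_pos_left _ hpos) 2
      _ = ∑ χ ∈ T, ∑ θ ∈ S, (a χ θ * charDegree (θ : H → ℂ)) ^ 2 := Finset.sum_comm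
      _ ≤ ∑ χ ∈ T, charDegree (χ : G → ℂ) ^ 2 := Finset.sum_le_sum fun χ hχ => by
          rw [← hrow χ hχ]
          exact Finset.sum_sq_le_sq_sum_of_nonneg fun i _ => Nat.zero_le _
  · calc ∑ χ ∈ T, charDegree (χ : G → ℂ) ^ 2
        = ∑ χ ∈ T, ∑ θ ∈ S, charDegree (θ : H → ℂ) * (a χ θ * charDegree (χ : G → ℂ)) :=
          Finset.sum_congr rfl fun χ hχ => by
            conv_lhs => rw [sq]; arg 1; rw [← hrow χ hχ]
            rw [Finset.sum_mul]
            exact Finset.sum_congr rfl fun θ _ => by ring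
      _ = ∑ θ ∈ S, charDegree (θ : H → ℂ) * ∑ χ ∈ T, a χ θ * charDegree (χ : G → ℂ) := by
          rw [Finset.sum_comm]; exact Finset.sum_congr rfl fun θ _ => (Finset.mul_sum _ _ _).symm
      _ ≤ ∑ θ ∈ S, charDegree (θ : H → ℂ) * (H.index * charDegree (θ : H → ℂ)) :=
          Finset.sum_le_sum fun θ _ => Nat.mul_le_mul_left _
            ((Finset.sum_le_sum_of_subset (Finset.subset_univ T)).trans (hcol θ).le)
      _ = H.index * ∑ θ ∈ S, charDegree (θ : H → ℂ) ^ 2 := by
          rw [Finset.mul_sum]; exact Finset.sum_congr rfl fun θ _ => by ring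


end Cfsg.Agent.S4708
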