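import Cfsg.Statements.S4709
import Cfsg.Agent.Lib.Blocks.AbelianFrobeniusSylow

set_option autoImplicit false
set_option linter.style.haveILetI false
open Cfsg
open scoped ComplexConjugate CfsgLib.Char
open CfsgLib.Blocks

namespace Cfsg.Agent.S4709

/-- Let p be a prime, M a maximal ideal of the algebraic integers containing p, and G a finite group with a nontrivial abelian Sylow p-subgroup P; put N = N_G(P), C = C_G(P). Suppose N/C is cyclic of order m with 1 < m < #P − 1 (C has index m in N and N is generated by C and one element), and C_G(y) ∩ N = C for every non-identity y ∈ P. Put r = (#P − 1)/m. Then there is s ≤ m such that the principal p-block is the disjoint union of a set X of s characters containing the principal character and a set Y of r characters, with integers a_χ ≠ 0 (χ ∈ X), d and a sign δ = ±1, such that: every χ ∈ X takes the value a_χ at every element whose p-part is a non-identity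 element of P; there is a map ζ from the non-principal linear characters ψ of P onto Y, constant on N-conjugacy classes, with ζ_ψ(z) = d + δ·Σ ψ'(y) for every z whose p-part y is a non-identity element of P, the sum running over the N-conjugates ψ' of ψ; (d − δ)^2 + (r − 1) d^2 + Σ_{χ ∈ X} a_χ^2 = m + 1; all members of Y agree on p-regular elements; and (r d − δ) η(g) + Σ_{χ ∈ X} a_χ χ(g) = 0 for every η ∈ Y and every p-regular g. -/
theorem result {G : Type*} [Group G] [Finite G] (p : ℕ) [Fact p.Prime] (M : Ideal Cfsg.AlgInt) (hM : Cfsg.IsPModular p M) (P : Sylow p G) (hab : IsMulCommutative P) (hP1 : Nat.card P ≠ 1) (m : ℕ) (hm1 : 1 < m) (hm2 : m + 1 < Nat.card P) (hCN : (Subgroup.centralizer ((P : Subgroup G) : Set G)).relIndex (Subgroup.normalizer ((P : Subgroup G) : Set G)) = m) (hcyc : ∃ g : G, g ∈ Subgroup.normalizer ((P : Subgroup G) : Set G) ∧ Subgroup.centralizer ((P : Subgroup G) : Set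 G) ⊔ Subgroup.zpowers g = Subgroup.normalizer ((P : Subgroup G) : Set G)) (hfrob : ∀ y : G, y ∈ (P : Subgroup G) → y ≠ 1 → Subgroup.centralizer ({y} : Set G) ⊓ Subgroup.normalizer ((P : Subgroup G) : Set G) = Subgroup.centralizer ((P : Subgroup G) : Set G)) : ∃ (s : ℕ) (X Y : Set (Cfsg.IrrCharacter G)), s ≤ m ∧ Cfsg.principalBlock M G = X ∪ Y ∧ Disjoint X Y ∧ Nat.card X = s ∧ Nat.card Y = (Nat.card P - 1) / m ∧ (∃ χ₁ ∈ X, (χ₁ : G → ℂ) = fun _ => 1) ∧ ∃ (a : Cfsg.IrrCharacter G → ℤ) (d δ : ℤ) (ζ : (↥(P : Subgroup G) →* ℂˣ) → Cfsg.IrrCharacter G), (δ = 1 ∨ δ = -1) ∧ (∀ χ ∈ X, a χ ≠ 0 ∧ ∀ z y : G, Cfsg.IsPPart p z y → y ∈ (P : Subgroup G) → y ≠ 1 → (χ : G → ℂ) z = (a χ : ℂ)) ∧ (∀ ψ : ↥(P : Subgroup G) →* ℂˣ, ψ ≠ 1 → ζ ψ ∈ Y) ∧ (∀ η ∈ Y, ∃ ψ : ↥(P : Subgroup G) →* ℂˣ, ψ ≠ 1 ∧ ζ ψ = η) ∧ (∀ ψ ψ' : ↥(P : Subgroup G) →* ℂˣ, ψ ≠ 1 → (∃ n : G, n ∈ Subgroup.normalizer ((P : Subgroup G) : Set G) ∧ ∀ w w'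 : ↥(P : Subgroup G), (w' : G) = n * w * n⁻¹ → ψ' w' = ψ w) → ζ ψ' = ζ ψ) ∧ (∀ ψ : ↥(P : Subgroup G) →* ℂˣ, ψ ≠ 1 → ∀ (z : G) (y : ↥(P : Subgroup G)), Cfsg.IsPPart p z (y : G) → (y : G) ≠ 1 → (ζ ψ : G → ℂ) z = (d : ℂ) + (δ : ℂ) * ∑ᶠ ψ' ∈ {ψ' : ↥(P : Subgroup G) →* ℂˣ | ∃ n : G, n ∈ Subgroup.normalizer ((P : Subgroup G) : Set G) ∧ ∀ w w' : ↥(P : Subgroup G), (w' : G) = n * w * n⁻¹ → ψ' w' = ψ w}, ((ψ' y : ℂˣ) : ℂ)) ∧ ((d - δ) ^ 2 + ((Nat.card P - 1) / m - 1 : ℤ) * d ^ 2 + ∑ᶠ χ ∈ X, a χ ^ 2 = (m : ℤ) + 1) ∧ (∀ η ∈ Y, ∀ η' ∈ Y, ∀ g : G, ¬ p ∣ orderOf g → (η : G → ℂ) g = (η' : G → ℂ) g) ∧ (∀ η ∈ Y, ∀ g : G, ¬ p ∣ orderOf g → ((((Nat.card P - 1) / m : ℕ) : ℂ) * d - δ) * (η : G → ℂ) g + ∑ᶠ χ ∈ X, (a χ : ℂ) * (χ : G → ℂ) g = 0) := by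
  classical
  letI := Fintype.ofFinite G
  have hab' : IsMulCommutative (P : Subgroup G) := hab
  have hm : Nat.card (AbelianFrob.autG P) = m := (AbelianFrob.card_autG P).trans hCN
  have ht : Nat.card (AbelianFrob.Orb P) * m = Nat.card P - 1 := by
    rw [← hm]; exact AbelianFrob.card_orb_mul P hab' hfrob
  have h2 : 2 ≤ Nat.card (AbelianFrob.Orb P) := by
    by_contra hc
    have h1 : Nat.card (AbelianFrob.Orb P) * m ≤ 1 * m := Nat.mul_le_mul_right m (by omega)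
    omega
  obtain ⟨D⟩ := AbelianFrob.exists_data P hM hab' hfrob h2
  have htdiv : (Nat.card P - 1) / m = Nat.card (AbelianFrob.Orb P) := by
    rw [← ht, Nat.mul_div_cancel _ (by omega)]
  have htdivZ : ((Nat.card P : ℤ) - 1) / (m : ℤ) = (Nat.card (AbelianFrob.Orb P) : ℤ) := by
    have h1 : ((Nat.card P : ℤ) - 1) = (Nat.card (AbelianFrob.Orb P) : ℤ) * (m : ℤ) := by
      rw [← Nat.cast_mul, ht, Nat.cast_sub (by omega), Nat.cast_one]
    rw [h1, Int.mul_ediv_cancel _ (by omega)]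
  haveI := Fintype.ofFinite (AbelianFrob.Orb P)
  haveI := Fintype.ofFinite D.X
  obtain ⟨z1, z2, z3, z4⟩ := AbelianFrob.zeta_props hM hab' hfrob D h2
  have hone := AbelianFrob.one_mem_X hM hab' hfrob D h2 (χ := trivIrr G) rfl
  refine ⟨Nat.card D.X, D.X, Set.range D.e, hm ▸ AbelianFrob.card_X_le hM hab' hfrob D h2, ?_, ?_,
    rfl, ?_, ⟨trivIrr G, hone.1, rfl⟩, D.a h2, D.k, D.δ, D.ζ, D.sign, fun χ hχ => ⟨?_, ?_⟩,
    z1, z2, z3, z4, ?_, ?_, ?_⟩
  · ext χ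
    constructor
    · intro h
      by_cases h' : χ ∈ Set.range D.e
      exacts [Or.inr h', Or.inl ⟨h, h'⟩]
    · rintro (h | ⟨o, rfl⟩)
      exacts [h.1, D.mem o]
  · exact Set.disjoint_sdiff_left
  · rw [Nat.card_range_of_injective D.inj, htdiv]
  · exact AbelianFrob.a_ne_zero hM hab' hfrob D h2 hχ
  · intro z y hz hy hy1
    rw [AbelianFrob.value_section P hM hab' hfrob hχ.1 hz hy hy1]
    exact AbelianFrob.value_X hM hab' hfrob D h2 hχ (y := ⟨y, hy⟩)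
      fun e => hy1 (congrArg Subtype.val e)
  · rw [htdivZ, finsum_mem_eq_toFinset_sum, show D.X.toFinset = Finset.univ.filter (fun χ => χ ∈ D.X) by ext; simp]
    have h := AbelianFrob.sum_sq hM hab' hfrob D h2
    rw [hm] at h
    exact h
  · rintro η ⟨o, rfl⟩ η' ⟨o', rfl⟩ g hg
    exact AbelianFrob.regular_eq hM hab' hfrob D h2 o o' hg
  · rintro η ⟨o, rfl⟩ g hg
    rw [htdiv, sum_mem_eq_filter]
    exact AbelianFrob.regular_relation hM hab' hfrob D h2 o hg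

end Cfsg.Agent.S4709
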