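import Cfsg.Statements.S4711
import Cfsg.Agent.Lib.Blocks.PrincipalPSolvable
import Cfsg.Agent.Lib.Blocks.Osima
import Cfsg.Agent.Lib.Blocks.PPart
import Cfsg.Agent.Lib.Char.Clifford

set_option autoImplicit false
open Cfsg
open CfsgLib CfsgLib.Blocks
open scoped ComplexConjugate CfsgLib.Char

namespace Cfsg.Agent.S4711

/-- Let p be a prime, M a maximal ideal of the algebraic integers containing p, G a finite group, P a Sylow p-subgroup and N = N_G(P). Then G has p-length 1 (G = O_{p',p,p'}(G)) if and only if every irreducible character in the principal p-block of G restricts to an irreducible character of N. -/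
theorem result {G : Type*} [Group G] [Finite G] (p : ℕ) [Fact p.Prime] (M : Ideal Cfsg.AlgInt) (hM : Cfsg.IsPModular p M) (P : Sylow p G) : Cfsg.PLengthLE p 1 G ↔ ∀ χ ∈ Cfsg.principalBlock M G, Cfsg.IsIrrCharacter ↥(Subgroup.normalizer ((P : Subgroup G) : Set G)) (fun n : ↥(Subgroup.normalizer ((P : Subgroup G) : Set G)) => (χ : G → ℂ) n) := by
  classical
  haveI := Fintype.ofFinite G
  haveI := Transfer.pPrimeCore_normal p G
  haveI := isPrime_of_isPModular hM
  set K := pPrimeCore p G with hKdef
  set f := QuotientGroup.mk' K with hfdef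
  have hf : Function.Surjective f := QuotientGroup.mk'_surjective K
  have hker : f.ker = K := QuotientGroup.ker_mk' K
  obtain ⟨hR, hRi⟩ := sylow_map_mk' P
  rw [pLengthLE_one_iff P]
  set R := (P : Subgroup G).map f with hRdef
  set N := Subgroup.normalizer ((P : Subgroup G) : Set G) with hNdef
  constructor
  · intro hn χ hχ
    obtain ⟨η, rfl⟩ := exists_inflate_eq_of_ker _ χ
      (trivial_on_of_mem_principalBlock hM _ (not_dvd_card_pPrimeCore (H := G) hM.1) hχ)
    refine isIrrCharacter_comp_of_surjective η.2 (f.comp N.subtype) fun q => ?_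
    have h1 : q ∈ N.map f := by
      rw [hNdef, PSolvable.map_normalizer_eq hf (by rw [hker]; exact Transfer.pPrimeCore_coprime p)
        P.isPGroup', ← hRdef, Subgroup.normalizer_eq_top]
      exact Subgroup.mem_top q
    obtain ⟨n, hn, rfl⟩ := h1
    exact ⟨⟨n, hn⟩, rfl⟩
  · intro hirr
    set B := principalBlock M G
    let a : IrrCharacter G → ℂ := fun χ => ∑ u : (P : Subgroup G), (χ : G → ℂ) u
    have htriv : ∀ χ ∈ B, a χ ≠ 0 → ∀ u ∈ (P : Subgroup G), (χ : G → ℂ) u = (χ : G → ℂ) 1 := by
      intro χ hχ ha u hu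
      have hPN : (P : Subgroup G) ≤ N := Subgroup.le_normalizer
      haveI : ((P : Subgroup G).subgroupOf N).Normal := Subgroup.normal_in_normalizer
      set P' := (P : Subgroup G).subgroupOf N
      have hc : classInner (fun k : P' => (χ : G → ℂ) (k : N)) (fun _ => (1 : ℂ)) ≠ 0 := by
        simp only [classInner, map_one, mul_one]
        refine mul_ne_zero (inv_ne_zero (Nat.cast_ne_zero.mpr Nat.card_pos.ne')) ?_
        convert ha using 1
        exact Fintype.sum_equiv (Subgroup.subgroupOfEquivOfLe hPN).toEquiv _ _ fun k => rfl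
      have h := Char.clifford_invariant P' (hirr χ hχ) Char.isIrrCharacter_one (fun _ => rfl) hc
      have h1 := congrFun h ⟨⟨u, hPN hu⟩, Subgroup.mem_subgroupOf.mpr hu⟩
      have h2 := congrFun h 1
      exact h1.trans h2.symm
    choose Kf hKfn hKf hKfmul using fun χ : IrrCharacter G =>
      Char.exists_kernel (Char.isCharacter_of_isIrr χ.2)
    set L : Subgroup G := ⨅ χ : {χ : IrrCharacter G // χ ∈ B ∧ a χ ≠ 0}, Kf χ.1 with hLdef
    haveI hLn : L.Normal := Subgroup.normal_iInf_normal fun χ => hKfn χ.1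
    have hPL : (P : Subgroup G) ≤ L := le_iInf fun χ u hu =>
      (hKf χ.1 u).mpr (htriv χ.1 χ.2.1 χ.2.2 u hu)
    have hreg : ∀ y ∈ L, ¬ p ∣ orderOf y → y ∈ K := by
      intro y hy hyr
      set S : Finset (IrrCharacter G) := Finset.univ.filter (· ∈ B)
      have hSc : (S : Set (IrrCharacter G)) = B := by ext χ; simp [S]
      have hS : IsBlockUnion M (S : Set (IrrCharacter G)) := by
        rw [hSc]; exact IsPBlock.isBlockUnion isPBlock_principalBlock
      have key : ∀ z : G, ¬ p ∣ orderOf z →
          ∑ χ ∈ S, (χ : G → ℂ) z * conj (a χ) = ∑ χ ∈ S, (χ : G → ℂ) z * conj ((χ : G → ℂ) 1) := by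
        intro z hz
        simp only [a, map_sum, Finset.mul_sum]
        rw [Finset.sum_comm]
        refine (Finset.sum_eq_single (1 : (P : Subgroup G)) (fun u _ hu => ?_)
          fun h => absurd (Finset.mem_univ _) h).trans rfl
        refine sum_block_mul_conj_eq_zero hM hS hz fun hr => hu ?_
        obtain ⟨k, hk⟩ := IsPGroup.iff_orderOf.mp P.isPGroup' u
        rw [← Subgroup.orderOf_coe] at hk
        rcases Nat.eq_zero_or_pos k with rfl | hk0
        · exact Subtype.ext (orderOf_eq_one_iff.mp (by rw [hk, pow_zero]))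
        · exact absurd (hk ▸ dvd_pow_self p hk0.ne') hr
      have hterm : ∀ χ ∈ S, (χ : G → ℂ) y * conj (a χ) = (χ : G → ℂ) 1 * conj (a χ) := by
        intro χ hχ
        by_cases ha : a χ = 0
        · simp [ha]
        · rw [(hKf χ y).mp (Subgroup.mem_iInf.mp hy
            ⟨χ, (Finset.mem_filter.mp hχ).2, ha⟩)]
      have hsum : ∑ χ ∈ S, ((χ : G → ℂ) 1 - (χ : G → ℂ) y) * conj ((χ : G → ℂ) 1) = 0 := by
        simp only [sub_mul]
        rw [Finset.sum_sub_distrib, ← key y hyr, ← key 1 (by rw [orderOf_one]; exact hM.1.not_dvd_one),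
          Finset.sum_congr rfl hterm, sub_self]
      have hall : ∀ χ ∈ B, (χ : G → ℂ) y = (χ : G → ℂ) 1 := by
        have hb : ∀ χ : IrrCharacter G, 0 ≤ (((χ : G → ℂ) 1 - (χ : G → ℂ) y) * conj ((χ : G → ℂ) 1)).re ∧
            ((((χ : G → ℂ) 1 - (χ : G → ℂ) y) * conj ((χ : G → ℂ) 1)).re = 0 →
              (χ : G → ℂ) y = (χ : G → ℂ) 1) := by
          intro χ
          obtain ⟨n, ρ, hρ, e⟩ := χ.2
          have h1 : (χ : G → ℂ) 1 ≠ 0 := Char.irr_degree_ne_zero χ.2
          rw [← e, Representation.char_one] at h1 ⊢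
          rw [Complex.conj_natCast, Complex.mul_re, Complex.natCast_re, Complex.natCast_im, mul_zero,
            sub_zero, Complex.sub_re, Complex.natCast_re]
          have h2 := Char.norm_character_le ρ y
          set c : ℝ := (Module.finrank ℂ (Fin n → ℂ) : ℝ) with hc
          have hc0 : 0 < c := lt_of_le_of_ne (Nat.cast_nonneg _)
            fun h => h1 (Nat.cast_eq_zero.mpr ((Nat.cast_eq_zero (R := ℝ)).mp h.symm))
          refine ⟨mul_nonneg (sub_nonneg.mpr ((Complex.re_le_norm _).trans h2)) hc0.le, fun h => ?_⟩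
          have h3 : (ρ.character y).re = c :=
            (sub_eq_zero.mp ((mul_eq_zero.mp h).resolve_right hc0.ne')).symm
          have h4 : (ρ.character y).im = 0 := by
            have h5 : (ρ.character y).re ^ 2 + (ρ.character y).im ^ 2 ≤ c ^ 2 := by
              have hn : ‖ρ.character y‖ ^ 2 = (ρ.character y).re ^ 2 + (ρ.character y).im ^ 2 := by
                rw [← Complex.normSq_eq_norm_sq, Complex.normSq_apply]; ring
              rw [← hn]; exact pow_le_pow_left₀ (norm_nonneg _) h2 2
            rw [h3] at h5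
            exact pow_eq_zero_iff two_ne_zero |>.mp (le_antisymm (by linarith) (sq_nonneg _))
          exact Complex.ext (by rw [h3, hc, Complex.natCast_re]) (by rw [h4, Complex.natCast_im])
        have h0 := congrArg Complex.re hsum
        rw [Complex.re_sum, Complex.zero_re, Finset.sum_eq_zero_iff_of_nonneg fun χ _ => (hb χ).1] at h0
        exact fun χ hχ => (hb χ).2 (h0 χ (by simp [S, hχ]))
      obtain ⟨K', hK'n, hK'⟩ := exists_blockKer_subgroup B
      have hy' : y ∈ (K' : Set G) := by rw [hK']; exact hall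
      refine Transfer.le_pPrimeCore hK'n ?_ hy'
      exact (hM.1.coprime_iff_not_dvd.mpr
        (not_dvd_card_of_le_blockKer hM isPBlock_principalBlock K' hK'.le)).symm
    have hLp : IsPGroup p (L.map f) := by
      rintro ⟨_, m, hm, rfl⟩
      obtain ⟨u, hu, huz⟩ := exists_isPPart hM.1 m
      obtain ⟨y, hy1, hy2, ⟨k, hk⟩, hy4⟩ := hu
      have huL : u ∈ L := (Subgroup.zpowers_le.mpr hm) huz
      have hyL : y ∈ L := by
        have : y = u⁻¹ * m := eq_inv_mul_of_mul_eq hy1
        rw [this]; exact mul_mem (inv_mem huL) hm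
      have hyK := hreg y hyL hy4
      refine ⟨k, Subtype.ext ?_⟩
      show (f m) ^ p ^ k = 1
      rw [← hy1, map_mul, (QuotientGroup.eq_one_iff y).mpr hyK |> fun h => (show f y = 1 from h),
        mul_one, ← map_pow, ← hk, pow_orderOf_eq_one, map_one]
    have hle : R ≤ L.map f := Subgroup.map_mono hPL
    have heq : L.map f = R := (hR.toSylow hRi).is_maximal' hLp hle
    rw [← heq]
    exact hLn.map f hf

end Cfsg.Agent.S4711
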