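import Cfsg.Statements.S4712
import Cfsg.Agent.Lib.Blocks.Decomp.Twist
import Cfsg.Agent.Lib.Blocks.SubgroupRankSum
import Cfsg.Agent.Lib.Blocks.SectionOrth
import Cfsg.Agent.Lib.Char.Twist
import Mathlib.RingTheory.ZMod.UnitsCyclic

set_option linter.style.haveILetI false
set_option autoImplicit false
open Cfsg CfsgLib CfsgLib.Blocks
open scoped ComplexConjugate CfsgLib.Char

namespace Cfsg.Agent.S4712

/-- A generator of the Galois group fixing the `p'`-roots of unity. -/
theorem exists_generator {p : ℕ} [hp : Fact p.Prime] (hodd : p ≠ 2) {n : ℕ} (hn : n ≠ 0) :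
    ∃ k : ℕ, Nat.Coprime k n ∧ k ≡ 1 [MOD n / p ^ n.factorization p] ∧
      ∀ k' : ℕ, Nat.Coprime k' n → k' ≡ 1 [MOD n / p ^ n.factorization p] →
        ∃ i : ℕ, k' ≡ k ^ i [MOD n] := by
  set a := n.factorization p with ha
  set n' := n / p ^ a with hn'
  have hmul : p ^ a * n' = n := Nat.ordProj_mul_ordCompl_eq_self n p
  have hcop : Nat.Coprime (p ^ a) n' :=
    ((hp.out.coprime_iff_not_dvd).mpr (Nat.not_dvd_ordCompl hp.out hn)).pow_left a
  haveI : NeZero (p ^ a) := ⟨pow_ne_zero _ hp.out.ne_zero⟩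
  haveI := ZMod.isCyclic_units_of_prime_pow p hp.out hodd a
  obtain ⟨g, hg⟩ := IsCyclic.exists_monoid_generator (α := (ZMod (p ^ a))ˣ)
  obtain ⟨k, hk1, hk2⟩ := Nat.chineseRemainder hcop (ZMod.val (g : ZMod (p ^ a))) 1
  have hkg : (k : ZMod (p ^ a)) = (g : ZMod (p ^ a)) := by
    rw [(ZMod.natCast_eq_natCast_iff _ _ _).mpr hk1, ZMod.natCast_zmod_val]
  have hu : Nat.Coprime k (p ^ a) := by
    rw [← ZMod.isUnit_iff_coprime, hkg]
    exact g.isUnit
  have hu' : Nat.Coprime k n' := by
    rw [Nat.Coprime, hk2.gcd_eq]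
    exact Nat.gcd_one_left _
  refine ⟨k, hmul ▸ Nat.Coprime.mul_right hu hu', hk2, fun k' hk' hk'1 => ?_⟩
  have hk'u : IsUnit (k' : ZMod (p ^ a)) :=
    (ZMod.isUnit_iff_coprime _ _).mpr (Nat.Coprime.coprime_dvd_right ⟨n', hmul.symm⟩ hk')
  obtain ⟨i, hi⟩ := Submonoid.mem_powers_iff _ _ |>.mp (hg hk'u.unit)
  refine ⟨i, hmul ▸ (Nat.modEq_and_modEq_iff_modEq_mul hcop).mp ⟨?_, ?_⟩⟩
  · rw [← ZMod.natCast_eq_natCast_iff, Nat.cast_pow, hkg, ← Units.val_pow_eq_pow_val, hi]
    rfl
  · exact hk'1.trans (by simpa using (hk2.pow i).symm)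

/-- Second orthogonality of a block at different sections. -/
theorem sum_section_conj_eq_zero {G : Type*} [Group G] [Fintype G] {p : ℕ} {M : Ideal AlgInt}
    (hM : IsPModular p M) {B : Set (IrrCharacter G)} [DecidablePred (· ∈ B)] (hB : IsPBlock M B)
    {x g : G} (hx : ∃ k : ℕ, orderOf x = p ^ k) {z : Subgroup.centralizer ({x} : Set G)}
    (hz : ¬ p ∣ orderOf z)
    (hne : ∀ k : G, Commute x k → IsPRegular p k → ¬ IsConj (x * k) g) :
    ∑ χ : IrrCharacter G with χ ∈ B, (χ : G → ℂ) (x * (z : G)) * conj ((χ : G → ℂ) g) = 0 := by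
  classical
  have := isPrime_of_isPModular hM
  set S := (blocks M (Subgroup.centralizer ({x} : Set G))).filter fun b =>
    IsInducedBlock M (Subgroup.centralizer ({x} : Set G)) b B
  have hS : ∀ b, b ∈ S ↔ IsInducedBlock M (Subgroup.centralizer ({x} : Set G)) b B := fun b => by
    simp only [S, Finset.mem_filter, mem_blocks]
    exact ⟨fun h => h.2, fun h => ⟨h.1, h⟩⟩
  have hθ : ∀ χ : IrrCharacter G, IsClassFunction (Subgroup.centralizer ({x} : Set G))
      (fun k : Subgroup.centralizer ({x} : Set G) => (χ : G → ℂ) (x * (k : G))) :=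
    fun χ => isClassFunction_translate (x := x) (irr_classFunction χ)
  rw [Finset.sum_congr rfl fun χ hχ => by
      rw [value_eq_sum_inducing_blocks hM hx hB (Finset.mem_filter.mp hχ).2 hz S hS, Finset.sum_mul],
    Finset.sum_comm]
  refine Finset.sum_eq_zero fun b hb => ?_
  rw [Finset.sum_subset (Finset.subset_univ _) fun χ _ hχ => ?_]
  · set θ : Subgroup.centralizer ({x} : Set G) → ℂ :=
      fun k => ∑ χ : IrrCharacter G, (χ : G → ℂ) (x * (k : G)) * conj ((χ : G → ℂ) g)
    have hc : IsClassFunction (Subgroup.centralizer ({x} : Set G)) θ := fun k a =>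
      Finset.sum_congr rfl fun χ _ => by have := hθ χ k a; beta_reduce at this; rw [this]
    have h := blockPart_eq_zero_of_regular_zero hM ((hS b).mp hb).1 (θ := θ) (fun k hk => by
      simp only [θ, Char.column_orthogonality]
      rw [if_neg (hne k (Subgroup.mem_centralizer_singleton_iff.mp k.2).symm ?_)]
      rwa [IsPRegular, Subgroup.orderOf_coe]) hz
    rw [blockPart_eq_sum b hc] at h
    simp only [θ, Finset.mul_sum] at h
    rw [Finset.sum_comm] at h
    rw [← h]
    refine Finset.sum_congr rfl fun χ _ => ?_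
    rw [blockPart_eq_sum b (hθ χ), Finset.sum_mul]
    exact Finset.sum_congr rfl fun k _ => mul_assoc _ _ _
  · have hχB : χ ∉ B := fun h' => hχ (by simp [h'])
    rw [blockPart_eq_zero_of_not_induced hM hx (isPBlock_blockOf χ) (mem_blockOf_self χ)
      ((hS b).mp hb).1
      (fun h' => hχB (IsInducedBlock.unique ((hS b).mp hb) h' ▸ mem_blockOf_self χ)) hz, zero_mul]

open Classical in
/-- The sum of a section is a natural multiple. -/
theorem section_sum {G : Type*} [Group G] [Fintype G] {p : ℕ} [hp : Fact p.Prime] {M : Ideal AlgInt}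
    (hM : IsPModular p M) {B : Set (IrrCharacter G)} [DecidablePred (· ∈ B)] (hB : IsPBlock M B)
    {k : ℕ} (hk : Nat.Coprime k (Nat.card G)) (hsk : ∀ y : G, IsPRegular p y → y ^ k = y)
    {v : G} (hv : ∃ j : ℕ, orderOf v = p ^ j) :
    ∃ t : ℕ, ∑ s : Subgroup.centralizer ({v} : Set G) with IsPRegular p s,
      ∑ χ : IrrCharacter G with χ ∈ B,
        (χ : G → ℂ) ((v * (s : G)) ^ k) * conj ((χ : G → ℂ) (v * (s : G))) = (t : ℂ) := by
  classical
  have := isPrime_of_isPModular hM
  set C := Subgroup.centralizer ({v} : Set G) with hC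
  have hval : ∀ s : C, IsPRegular p s → (v * (s : G)) ^ k = v ^ k * (s : G) := fun s hs => by
    rw [(Subgroup.mem_centralizer_singleton_iff.mp s.2 : (s : G) * v = v * s).symm |>
      fun h => (show Commute v (s : G) from h).mul_pow, hsk (s : G) (by
        rw [IsPRegular, Subgroup.orderOf_coe]; exact hs)]
  have hvk : ∃ j : ℕ, orderOf (v ^ k) = p ^ j := by
    obtain ⟨j, hj⟩ := hv
    exact ⟨j, by rw [Nat.Coprime.orderOf_pow (Nat.Coprime.coprime_dvd_left
      (orderOf_dvd_natCard v) hk.symm), hj]⟩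
  by_cases hconj : IsConj v (v ^ k)
  · obtain ⟨h, hh⟩ := isConj_iff.mp hconj
    have hmem : ∀ x, x ∈ C ↔ h⁻¹ * x * h ∈ C := by
      obtain ⟨i, hi⟩ := exists_pow_eq_self_of_coprime (x := v)
        (Nat.Coprime.coprime_dvd_right (orderOf_dvd_natCard v) hk)
      intro x
      rw [hC, Subgroup.mem_centralizer_singleton_iff, Subgroup.mem_centralizer_singleton_iff]
      constructor
      · intro e
        have e' : x * v ^ k = v ^ k * x := ((show Commute x v from e).pow_right k).eq
        rw [← hh] at e'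
        calc h⁻¹ * x * h * v = h⁻¹ * (x * (h * v * h⁻¹)) * h := by group
          _ = _ := by rw [e']; group
      · intro e
        have e' : x * v ^ k = v ^ k * x := by
          rw [← hh]
          calc x * (h * v * h⁻¹) = h * (h⁻¹ * x * h * v) * h⁻¹ := by group
            _ = _ := by rw [e]; group
        have := ((show Commute x (v ^ k) from e').pow_right i).eq
        rwa [hi] at this
    let φ : C ≃* C :=
      { toFun := fun s => ⟨h⁻¹ * s * h, (hmem _).mp s.2⟩
        invFun := fun s => ⟨h * s * h⁻¹, (hmem _).mpr (by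
          rw [show h⁻¹ * (h * (s : G) * h⁻¹) * h = s by group]; exact s.2)⟩
        left_inv := fun s => Subtype.ext (by simp [mul_assoc])
        right_inv := fun s => Subtype.ext (by simp [mul_assoc])
        map_mul' := fun a b => Subtype.ext (by
          show h⁻¹ * ((a : G) * b) * h = h⁻¹ * a * h * (h⁻¹ * b * h)
          group) }
    set U := RankSum.inducingInto M C B with hUdef
    have hU : IsBlockUnion M U := RankSum.isBlockUnion_inducingInto C B
    obtain ⟨t, ht⟩ := Decomp.exists_nat_trace hM hU φ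
    set S := (blocks M C).filter fun b => IsInducedBlock M C b B with hSdef
    have hS : ∀ b, b ∈ S ↔ IsInducedBlock M C b B := fun b => by
      simp only [hSdef, Finset.mem_filter, mem_blocks]
      exact ⟨fun h => h.2, fun h => ⟨h.1, h⟩⟩
    refine ⟨Nat.card C * t, ?_⟩
    rw [Nat.cast_mul, ← ht, Finset.sum_filter, Finset.sum_comm]
    refine Finset.sum_congr rfl fun s _ => ?_
    by_cases hs : IsPRegular p s
    · simp only [if_pos hs]
      have hs' : ¬ p ∣ orderOf (φ s) := by
        rw [show φ s = φ.toMonoidHom s from rfl, orderOf_injective φ.toMonoidHom φ.injective]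
        exact hs
      have hφs : ∀ χ : IrrCharacter G,
          (χ : G → ℂ) ((v * (s : G)) ^ k) = (χ : G → ℂ) (v * ((φ s : C) : G)) := fun χ => by
        rw [hval s hs, ← hh]
        show (χ : G → ℂ) (h * v * h⁻¹ * (s : G)) = (χ : G → ℂ) (v * (h⁻¹ * (s : G) * h))
        rw [show h * v * h⁻¹ * (s : G) = h * (v * (h⁻¹ * (s : G) * h)) * h⁻¹ by group,
          irr_classFunction χ _ h]
      simp only [hφs]
      rw [sum_block_mul_conj_section hM hv hB hs' hs S hS]
      have hmemU : ∀ ξ : IrrCharacter C, ξ ∈ U ↔ blockOf M (ξ : C → ℂ) ∈ S := fun ξ => by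
        rw [hS]
        constructor
        · rintro ⟨B₁, hB₁, hind⟩
          obtain ⟨χ, hχ⟩ := IsPBlock.nonempty hind.2.1
          rwa [IsPBlock.eq_of_mem_of_mem hind.2.1 hB hχ (hB₁ hχ)] at hind
        · exact fun h => ⟨B, subset_rfl, h⟩
      rw [Finset.filter_congr fun ξ _ => hmemU ξ,
        ← Finset.sum_fiberwise_of_maps_to (g := fun ξ : IrrCharacter C => blockOf M (ξ : C → ℂ))
          (t := S) fun ξ hξ => (Finset.mem_filter.mp hξ).2]
      refine Finset.sum_congr rfl fun e he => ?_
      rw [sum_mem_eq_filter, Finset.filter_filter]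
      refine Finset.sum_congr (Finset.filter_congr fun ξ _ => ?_) fun _ _ => rfl
      have hep := ((hS e).mp he).1
      exact ⟨fun h => ⟨(IsPBlock.eq_blockOf hep h) ▸ he, (IsPBlock.eq_blockOf hep h).symm⟩,
        fun h => h.2 ▸ mem_blockOf_self ξ⟩
    · simp [hs]
  · refine ⟨0, ?_⟩
    rw [Nat.cast_zero]
    refine Finset.sum_eq_zero fun s hs => ?_
    have hs' : IsPRegular p s := (Finset.mem_filter.mp hs).2
    rw [hval s hs']
    have hsC : Commute (v ^ k) (s : G) :=
      ((show Commute (s : G) v from Subgroup.mem_centralizer_singleton_iff.mp s.2).pow_right k).symm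
    have hne : ∀ z : G, Commute (v ^ k) z → IsPRegular p z →
        ¬ IsConj (v ^ k * z) (v * (s : G)) := by
      intro z hz hzr hcz
      obtain ⟨c, hc⟩ := isConj_iff.mp hcz
      have h1 : IsPPart p (v * (s : G)) (c * v ^ k * c⁻¹) :=
        hc ▸ IsPPart.conj (isPPart_mul hz hvk hzr) c
      have h2 : IsPPart p (v * (s : G)) v := isPPart_mul
        (Subgroup.mem_centralizer_singleton_iff.mp s.2).symm hv
        (by rw [Subgroup.orderOf_coe]; exact hs')
      exact hconj (isConj_iff.mpr ⟨c, IsPPart.unique hp.out h1 h2⟩).symm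
    set z : Subgroup.centralizer ({v ^ k} : Set G) :=
      ⟨(s : G), Subgroup.mem_centralizer_singleton_iff.mpr hsC.symm.eq⟩
    exact sum_section_conj_eq_zero hM hB hvk (z := z)
      (by rw [Subgroup.orderOf_mk, Subgroup.orderOf_coe]; exact hs') hne

end Cfsg.Agent.S4712

set_option autoImplicit false
open Cfsg

namespace Cfsg.Agent.S4712

/-- Let p be an odd prime, M a maximal ideal of the algebraic integers containing p, G a finite group of order n with p-part p^a, and B a p-block of G. Call an irreducible character χ p-rational when χ(g^k) = χ(g) for every g and every k coprime to n with k ≡ 1 modulo n/p^a (χ is fixed by the Galois automorphisms fixing the roots of unity of order prime to p). Then the number of p-rational irreducible characters in B is at least the p-regular rank of B (the number of irreducible Brauer characters in B). -/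
theorem result {G : Type*} [Group G] [Finite G] (p : ℕ) [Fact p.Prime] (hodd : p ≠ 2) (M : Ideal Cfsg.AlgInt) (hM : Cfsg.IsPModular p M) (B : Set (Cfsg.IrrCharacter G)) (hB : Cfsg.IsPBlock M B) : Cfsg.blockRank p B ≤ Nat.card {χ : Cfsg.IrrCharacter G // χ ∈ B ∧ ∀ k : ℕ, Nat.Coprime k (Nat.card G) → k ≡ 1 [MOD Nat.card G / p ^ (Nat.card G).factorization p] → ∀ g : G, (χ : G → ℂ) (g ^ k) = (χ : G → ℂ) g} := by
  classical
  haveI := Fintype.ofFinite G
  have := isPrime_of_isPModular hM
  obtain ⟨k, hk, hk1, hgen⟩ := exists_generator hodd (Nat.card_pos (α := G)).ne'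
  have hsk : ∀ y : G, IsPRegular p y → y ^ k = y := fun y hy => by
    have hd : orderOf y ∣ Nat.card G / p ^ (Nat.card G).factorization p := by
      refine (Nat.Coprime.dvd_mul_left ?_).mp ((orderOf_dvd_natCard y).trans
        (Nat.ordProj_mul_ordCompl_eq_self (Nat.card G) p).symm.dvd)
      exact (((Fact.out : p.Prime).coprime_iff_not_dvd).mpr hy).symm.pow_right _
    conv_rhs => rw [← pow_one y]
    exact pow_eq_pow_iff_modEq.mpr (hk1.of_dvd hd)
  -- fixing one generator is enough
  have hfix : ∀ χ : IrrCharacter G, (∀ g, (χ : G → ℂ) (g ^ k) = (χ : G → ℂ) g) →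
      ∀ k' : ℕ, Nat.Coprime k' (Nat.card G) →
        k' ≡ 1 [MOD Nat.card G / p ^ (Nat.card G).factorization p] →
        ∀ g, (χ : G → ℂ) (g ^ k') = (χ : G → ℂ) g := fun χ hχ k' hk' hk'1 g => by
    obtain ⟨i, hi⟩ := hgen k' hk' hk'1
    rw [pow_eq_pow_iff_modEq.mpr (hi.of_dvd (orderOf_dvd_natCard g))]
    clear hi
    induction i with
    | zero => rw [pow_zero, pow_one]
    | succ i ih => rw [pow_succ, pow_mul, hχ, ih]
  set F : Finset (IrrCharacter G) :=
    Finset.univ.filter fun χ => χ ∈ B ∧ ∀ g, (χ : G → ℂ) (g ^ k) = (χ : G → ℂ) g with hF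
  have hcard : Nat.card {χ : IrrCharacter G // χ ∈ B ∧ ∀ k' : ℕ, Nat.Coprime k' (Nat.card G) →
      k' ≡ 1 [MOD Nat.card G / p ^ (Nat.card G).factorization p] →
      ∀ g : G, (χ : G → ℂ) (g ^ k') = (χ : G → ℂ) g} = F.card := by
    rw [← Nat.card_eq_finsetCard F]
    refine Nat.card_congr (Equiv.subtypeEquivRight fun χ => ?_)
    rw [hF, Finset.mem_filter, and_iff_right (Finset.mem_univ χ)]
    exact ⟨fun h => ⟨h.1, h.2 k hk hk1⟩, fun h => ⟨h.1, hfix χ h.2⟩⟩
  rw [hcard]
  -- the trace
  set P : G → ℂ := fun g => ∑ χ : IrrCharacter G with χ ∈ B,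
    (χ : G → ℂ) (g ^ k) * conj ((χ : G → ℂ) g) with hP
  have htot : ∑ g : G, P g = (Nat.card G : ℂ) * F.card := by
    simp only [hP]
    rw [Finset.sum_comm]
    have hterm : ∀ χ : IrrCharacter G, ∑ g : G, (χ : G → ℂ) (g ^ k) * conj ((χ : G → ℂ) g) =
        if ∀ g, (χ : G → ℂ) (g ^ k) = (χ : G → ℂ) g then (Nat.card G : ℂ) else 0 := fun χ => by
      have hn : (Nat.card G : ℂ) ≠ 0 := Nat.cast_ne_zero.mpr Nat.card_pos.ne'
      have hψ := Char.isIrrCharacter_pow hk χ.2
      have hclass : ∀ c : ℂ, classInner (fun g => (χ : G → ℂ) (g ^ k)) (χ : G → ℂ) = c →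
          ∑ g : G, (χ : G → ℂ) (g ^ k) * conj ((χ : G → ℂ) g) = (Nat.card G : ℂ) * c := by
        intro c hc
        rw [← hc, classInner, ← mul_assoc, mul_inv_cancel₀ hn, one_mul]
      split_ifs with h
      · rw [hclass 1 (by rw [show (fun g => (χ : G → ℂ) (g ^ k)) = (χ : G → ℂ) from funext h]
                         exact Char.classInner_irr_self χ.2), mul_one]
      · rw [hclass 0 (Char.classInner_irr_ne hψ χ.2 fun e => h fun g => congrFun e g), mul_zero]
    rw [Finset.sum_congr rfl fun χ _ => hterm χ, ← Finset.sum_filter, Finset.filter_filter,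
      Finset.sum_const, nsmul_eq_mul, mul_comm]
  have hreg : ∑ g : G, (if IsPRegular p g then P g else 0) =
      (Nat.card G : ℂ) * blockRank p B := by
    rw [card_mul_blockRank hM (IsPBlock.isBlockUnion hB)]
    refine Finset.sum_congr rfl fun g _ => ?_
    by_cases hg : IsPRegular p g
    · simp [hP, if_pos hg, regPart_of_regular hg, hsk g hg, sum_mem_eq_filter]
    · simp [if_neg hg, regPart_of_singular hg]
  have hsing : ∃ t : ℕ, ∑ g : G, (P g - if IsPRegular p g then P g else 0) = (t : ℂ) := by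
    rw [sum_eq_sum_pParts (Fact.out : p.Prime) (fun g => P g - if IsPRegular p g then P g else 0)]
    have hv : ∀ v ∈ (Finset.univ.filter fun v : G => ∃ j : ℕ, orderOf v = p ^ j), ∃ t : ℕ,
        ∑ s : Subgroup.centralizer ({v} : Set G) with IsPRegular p s,
          (P (v * (s : G)) - if IsPRegular p (v * (s : G)) then P (v * (s : G)) else 0) = (t : ℂ) := by
      intro v hv
      by_cases hv1 : v = 1
      · refine ⟨0, ?_⟩
        rw [Nat.cast_zero]
        refine Finset.sum_eq_zero fun s hs => ?_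
        have he : v * (s : G) = (s : G) := (congrArg (· * (s : G)) hv1).trans (one_mul _)
        rw [if_pos (by rw [he, IsPRegular, Subgroup.orderOf_coe]
                       exact (Finset.mem_filter.mp hs).2), sub_self]
      · obtain ⟨t, ht⟩ := section_sum hM hB hk hsk (Finset.mem_filter.mp hv).2
        refine ⟨t, ?_⟩
        rw [← ht]
        refine Finset.sum_congr rfl fun s hs => ?_
        rw [if_neg, sub_zero]
        intro hr
        refine hv1 (IsPPart.unique (Fact.out : p.Prime) (isPPart_mul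
          (Subgroup.mem_centralizer_singleton_iff.mp s.2).symm (Finset.mem_filter.mp hv).2
          (by rw [Subgroup.orderOf_coe]; exact (Finset.mem_filter.mp hs).2))
          ⟨v * (s : G), one_mul _, Commute.one_left _, ⟨0, by rw [orderOf_one, pow_zero]⟩, hr⟩)
    choose! t ht using hv
    exact ⟨∑ v ∈ (Finset.univ.filter fun v : G => ∃ j : ℕ, orderOf v = p ^ j), t v, by
      rw [Nat.cast_sum]; exact Finset.sum_congr rfl ht⟩
  obtain ⟨t, ht⟩ := hsing
  rw [Finset.sum_sub_distrib, htot, hreg] at ht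
  have h : Nat.card G * F.card = t + Nat.card G * blockRank p B :=
    Nat.cast_injective (R := ℂ) (by push_cast; linear_combination ht)
  exact Nat.le_of_mul_le_mul_left (by omega) (Nat.card_pos (α := G))

end Cfsg.Agent.S4712
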