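import Cfsg.Statements.S4714
import Cfsg.Agent.Lib.Blocks.CentralDefect
import Cfsg.Agent.Lib.Char.Clifford
import Cfsg.Agent.Lib.Char.Table
-- import your own Cfsg.Agent.* helpers here

set_option autoImplicit false
open Cfsg

namespace Cfsg.Agent.S4714

open Cfsg
open CfsgLib CfsgLib.Blocks
open scoped ComplexConjugate CfsgLib.Char

/-- The sum of a function living on the sections of `P`. -/
theorem sum_sections {G : Type*} [Group G] [Fintype G] {p : ℕ} [Fact p.Prime] {P : Subgroup G}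
    [Fintype P] [Fintype {s : G // IsPRegular p s}]
    (hP : IsPGroup p P) (hG : P ⊔ Subgroup.centralizer (P : Set G) = ⊤) (F : G → ℂ)
    (h0 : ∀ g x : G, IsPPart p g x → x ∉ P → F g = 0) :
    ∑ g : G, F g = ∑ v : P, ∑ s : {s : G // IsPRegular p s}, F ((v : G) * s) := by
  classical
  rw [← Fintype.sum_prod_type']
  symm
  refine Fintype.sum_of_injective (fun vs : P × {s : G // IsPRegular p s} => (vs.1 : G) * vs.2)
    ?_ _ _ (fun g hg => ?_) fun _ => rfl
  · rintro ⟨v, s⟩ ⟨w, t⟩ h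
    have h1 := isPPart_of_mem hP hG v.2 s.2
    have h2 := isPPart_of_mem hP hG w.2 t.2
    simp only at h
    rw [h] at h1
    have hvw : v = w := Subtype.ext (IsPPart.unique Fact.out h1 h2)
    subst hvw
    exact Prod.ext rfl (Subtype.ext (mul_left_cancel h))
  · obtain ⟨x, hx, -⟩ := exists_isPPart (Fact.out : p.Prime) g
    refine h0 g x hx fun hxP => hg ?_
    exact ⟨(⟨x, hxP⟩, ⟨x⁻¹ * g, pPart_mul_eq hx⟩), mul_inv_cancel_left x g⟩


/-- Let p be a prime, M a maximal ideal of the algebraic integers containing p, D a p-subgroup of the finite group G with G = D·C_G(D), and B a p-block with defect group D. Let χ be a member of B having D in its kernel (there is exactly one, the canonical character of B). Then the irreducible characters in B are exactly the functions θ on G for which there is an irreducible character ζ of D such that θ(yx) = ζ(y)χ(x) whenever y ∈ D, x has order prime to p and x commutes with y, and θ(z) = 0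 whenever the p-part of z does not lie in D. -/
theorem result {G : Type*} [Group G] [Finite G] (p : ℕ) [Fact p.Prime] (M : Ideal Cfsg.AlgInt) (hM : Cfsg.IsPModular p M) (D : Subgroup G) (hD : IsPGroup p D) (hG : D ⊔ Subgroup.centralizer (D : Set G) = ⊤) (B : Set (Cfsg.IrrCharacter G)) (hB : Cfsg.IsPBlock M B) (hBD : Cfsg.IsDefectGroup p M B D) (χ : Cfsg.IrrCharacter G) (hχ : χ ∈ B) (hχD : ∀ y ∈ D, (χ : G → ℂ) y = (χ : G → ℂ) 1) : (∀ θ : Cfsg.IrrCharacter G, θ ∈ B ↔ ∃ ζ : Cfsg.IrrCharacter D, (∀ (y : D) (x : G), ¬ p ∣ orderOf x → Commute (y : G) x → (θ : G → ℂ) ((y : G) * x) = (ζ : D → ℂ) y * (χ : G → ℂ) x) ∧ (∀ z : G, (∀ y : G, Cfsg.IsPPart p z y → y ∉ D) → (θ : G → ℂ) z = 0)) ∧ ∀ ζ : Cfsg.IrrCharacter D, ∃ θ ∈ B, (∀ (y : D) (x : G), ¬ p ∣ orderOf x → Commute (y : G) x → (θ : G → ℂ) ((y : G) * x) = (ζ : D → ℂ) y * (χ : G → ℂ) x) ∧ (∀ z : G, (∀ y : G, Cfsg.IsPPart p z y → y ∉ D) → (θ : G → ℂ) z = 0) := by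
  classical
  have := Fintype.ofFinite G
  have := Fintype.ofFinite D
  have := Fintype.ofFinite {s : G // IsPRegular p s}
  haveI := normal_of_sup hG
  obtain ⟨θ, hθB, hθP, huniq, -, hval, hvan, hcard⟩ :=
    central_defect_structure p M hM D hD hG B hB hBD
  obtain rfl : χ = θ := huniq χ hχ hχD
  have hd0 : (χ : G → ℂ) 1 ≠ 0 := Char.irr_degree_ne_zero χ.2
  set d := (χ : G → ℂ) 1 with hd
  set W : ℂ := ∑ s : {s : G // IsPRegular p s}, (χ : G → ℂ) s * conj ((χ : G → ℂ) s) with hW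
  -- the norm of a member
  have hnorm : ∀ ψ ∈ B, (Nat.card G : ℂ) =
      (∑ v : D, (ψ : G → ℂ) v * conj ((ψ : G → ℂ) v)) * (W / (d * conj d)) := by
    intro ψ hψ
    have h1 : ∑ g : G, (ψ : G → ℂ) g * conj ((ψ : G → ℂ) g) = Nat.card G := by
      have h := Char.classInner_irr_self ψ.2
      rw [classInner, inv_mul_eq_iff_eq_mul₀ (Nat.cast_ne_zero.mpr Nat.card_pos.ne'), mul_one] at h
      exact h
    rw [← h1, sum_sections hD hG _ fun g x hx hxP => by rw [hvan ψ hψ g x hx hxP, zero_mul],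
      Finset.sum_mul]
    refine Finset.sum_congr rfl fun v _ => ?_
    rw [hW, Finset.sum_div, Finset.mul_sum]
    refine Finset.sum_congr rfl fun s _ => ?_
    rw [hval ψ hψ v v.2 s s.2, map_mul, map_div₀]
    field_simp
  have hDG : (∑ v : D, (χ : G → ℂ) v * conj ((χ : G → ℂ) v)) = Nat.card D * (d * conj d) := by
    rw [Finset.sum_congr rfl (g := fun _ => d * conj d) fun v _ => by rw [hθP v v.2],
      Finset.sum_const, Finset.card_univ, nsmul_eq_mul, Nat.card_eq_fintype_card]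
  have hW0 : W / (d * conj d) ≠ 0 := fun h => by
    have := hnorm χ hχ
    rw [h, mul_zero] at this
    exact Nat.cast_ne_zero.mpr Nat.card_pos.ne' this
  -- restriction to D
  have hres : ∀ ψ ∈ B, ∃ ζ : IrrCharacter D, ∀ v : D, (ψ : G → ℂ) v = d * (ζ : D → ℂ) v := by
    intro ψ hψ
    obtain ⟨ζ, hζ⟩ := Char.exists_constituent D (Char.isCharacter_of_isIrr ψ.2)
      (Char.irr_degree_ne_zero ψ.2)
    have hinv : ∀ g, Char.conjBy D (ζ : D → ℂ) g = (ζ : D → ℂ) := by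
      intro g
      obtain ⟨a, ha, c, hc, rfl⟩ := exists_decomp hG g
      have hcz : Char.conjBy D (ζ : D → ℂ) c = (ζ : D → ℂ) := by
        funext v
        rw [Char.conjBy_apply]
        refine congrArg _ (Subtype.ext ?_)
        show c * (v : G) * c⁻¹ = v
        rw [← hc v v.2, mul_inv_cancel_right]
      rw [Char.conjBy_mul, Char.conjBy_mem D (irr_classFunction ζ) ha, hcz]
    have hcl := Char.clifford_invariant D ψ.2 ζ.2 hinv hζ
    obtain ⟨e, he⟩ := Char.exists_nat_classInner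
      (Char.isCharacter_restrict D (Char.isCharacter_of_isIrr ψ.2)) (Char.isCharacter_of_isIrr ζ.2)
    rw [he] at hcl
    have hv : ∀ v : D, (ψ : G → ℂ) v = e * (ζ : D → ℂ) v := fun v => congrFun hcl v
    have hsum : ∑ v : D, (ζ : D → ℂ) v * conj ((ζ : D → ℂ) v) = Nat.card D := by
      have h := Char.classInner_irr_self ζ.2
      rw [classInner, inv_mul_eq_iff_eq_mul₀ (Nat.cast_ne_zero.mpr Nat.card_pos.ne'), mul_one] at h
      exact h
    have heq := (hnorm ψ hψ).symm.trans (hnorm χ hχ)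
    rw [mul_left_inj' hW0, hDG, Finset.sum_congr rfl (g := fun v =>
      (e : ℂ) * e * ((ζ : D → ℂ) v * conj ((ζ : D → ℂ) v))) fun v _ => by
        rw [hv v, map_mul, Complex.conj_natCast]; ring, ← Finset.mul_sum, hsum, mul_comm,
      mul_right_inj' (Nat.cast_ne_zero.mpr Nat.card_pos.ne')] at heq
    obtain ⟨m, -, hm⟩ := Char.exists_nat_degree_irr χ.2
    rw [hd, hm, Complex.conj_natCast] at heq
    have hem : e = m := Nat.mul_self_inj.mp (by exact_mod_cast heq)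
    exact ⟨ζ, fun v => by rw [hv v, hem, hd, hm]⟩
  choose z hz using hres
  have hgood : ∀ ψ : IrrCharacter G, ∀ hψ : ψ ∈ B,
      (∀ (y : D) (x : G), ¬ p ∣ orderOf x → Commute (y : G) x →
        (ψ : G → ℂ) ((y : G) * x) = (z ψ hψ : D → ℂ) y * (χ : G → ℂ) x) ∧
      (∀ w : G, (∀ y : G, IsPPart p w y → y ∉ D) → (ψ : G → ℂ) w = 0) := by
    intro ψ hψ
    refine ⟨fun y x hx _ => ?_, fun w hw => ?_⟩
    · rw [hval ψ hψ y y.2 x hx, hz ψ hψ y, mul_div_cancel_left₀ _ hd0]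
    · obtain ⟨x, hx, -⟩ := exists_isPPart (Fact.out : p.Prime) w
      exact hvan ψ hψ w x hx (hw x hx)
  have hdet : ∀ (ψ φ : IrrCharacter G) (ζ : IrrCharacter D),
      ((∀ (y : D) (x : G), ¬ p ∣ orderOf x → Commute (y : G) x →
        (ψ : G → ℂ) ((y : G) * x) = (ζ : D → ℂ) y * (χ : G → ℂ) x) ∧
      (∀ w : G, (∀ y : G, IsPPart p w y → y ∉ D) → (ψ : G → ℂ) w = 0)) →
      ((∀ (y : D) (x : G), ¬ p ∣ orderOf x → Commute (y : G) x →
        (φ : G → ℂ) ((y : G) * x) = (ζ : D → ℂ) y * (χ : G → ℂ) x) ∧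
      (∀ w : G, (∀ y : G, IsPPart p w y → y ∉ D) → (φ : G → ℂ) w = 0)) → ψ = φ := by
    rintro ψ φ ζ ⟨h1, h2⟩ ⟨k1, k2⟩
    refine Subtype.ext (funext fun g => ?_)
    by_cases h : ∀ y : G, IsPPart p g y → y ∉ D
    · rw [h2 g h, k2 g h]
    · push Not at h
      obtain ⟨x, hx, hxD⟩ := h
      obtain ⟨y, rfl, hcom, -, hy⟩ := hx
      rw [h1 ⟨x, hxD⟩ y hy hcom, k1 ⟨x, hxD⟩ y hy hcom]
  let f : B → IrrCharacter D := fun ψ => z ψ.1 ψ.2
  have hf : Function.Injective f := fun a b hab => Subtype.ext <|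
    hdet a.1 b.1 (f a) (hgood a.1 a.2) (hab ▸ hgood b.1 b.2)
  have hbij : Function.Bijective f := by
    rw [Nat.bijective_iff_injective_and_card]
    exact ⟨hf, by rw [hcard, Char.card_irr_eq_card_conjClasses]⟩
  have hsurj : ∀ ζ : IrrCharacter D, ∃ φ, ∃ hφ : φ ∈ B, z φ hφ = ζ := fun ζ => by
    obtain ⟨a, ha⟩ := hbij.2 ζ
    exact ⟨a.1, a.2, ha⟩
  refine ⟨fun ψ => ⟨fun hψ => ⟨z ψ hψ, hgood ψ hψ⟩, ?_⟩, fun ζ => ?_⟩
  · rintro ⟨ζ, hζ⟩
    obtain ⟨φ, hφ, rfl⟩ := hsurj ζ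
    rw [hdet ψ φ _ hζ (hgood φ hφ)]
    exact hφ
  · obtain ⟨φ, hφ, rfl⟩ := hsurj ζ
    exact ⟨φ, hφ, hgood φ hφ⟩


end Cfsg.Agent.S4714
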