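import Cfsg.Statements.S4715
import Cfsg.Agent.Lib.Blocks.LocalBlock
import Cfsg.Agent.Lib.Blocks.SectionContribution

set_option autoImplicit false
open Cfsg
open scoped CfsgLib.Char

namespace Cfsg.Agent.S4715

theorem diagSum_conj {p : ℕ} {G : Type*} [Group G] [Fintype G] {v v' : G}
    [Fintype (Subgroup.centralizer ({v} : Set G))] [Fintype (Subgroup.centralizer ({v'} : Set G))]
    {χ : G → ℂ} (hχ : IsClassFunction G χ) (g : G) (hg : ∀ x, g * x * g⁻¹ ∈ Subgroup.centralizer ({g * v * g⁻¹} : Set G) ↔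
      x ∈ Subgroup.centralizer ({v} : Set G))
    (b : Set (IrrCharacter (Subgroup.centralizer ({v} : Set G)))) (hv : v' = g * v * g⁻¹ := by rfl) :
    CfsgLib.Blocks.diagSum p v' (CfsgLib.Blocks.conjSet g (Subgroup.centralizer ({v} : Set G))
        (Subgroup.centralizer ({v'} : Set G)) b) χ = CfsgLib.Blocks.diagSum p v b χ := by
  classical
  subst hv
  set φ := CfsgLib.Blocks.conjIso hg
  have hθ : ∀ u : G, IsClassFunction (Subgroup.centralizer ({u} : Set G))
      (fun c : Subgroup.centralizer ({u} : Set G) => χ (u * (c : G))) := fun u =>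
    CfsgLib.Blocks.isClassFunction_translate hχ
  have hval : ∀ s, blockPart (CfsgLib.Blocks.conjSet g (Subgroup.centralizer ({v} : Set G))
        (Subgroup.centralizer ({g * v * g⁻¹} : Set G)) b)
      (fun c : Subgroup.centralizer ({g * v * g⁻¹} : Set G) => χ (g * v * g⁻¹ * (c : G))) (φ s) =
      blockPart b (fun c : Subgroup.centralizer ({v} : Set G) => χ (v * (c : G))) s := fun s => by
    rw [CfsgLib.Blocks.blockPart_eq_sum _ (hθ _), CfsgLib.Blocks.blockPart_eq_sum _ (hθ _)]
    refine (Fintype.sum_equiv φ.toEquiv _ _ fun k => ?_).symm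
    show _ = blockCoeff (CfsgLib.Blocks.conjSet g _ _ b) (φ k) *
      χ (g * v * g⁻¹ * ((φ k * φ s : Subgroup.centralizer ({g * v * g⁻¹} : Set G)) : G))
    rw [CfsgLib.Blocks.blockCoeff_conjSet hg b (c := k) (c' := φ k) rfl, ← map_mul]
    congr 1
    show _ = χ (g * v * g⁻¹ * (g * ((k * s : Subgroup.centralizer ({v} : Set G)) : G) * g⁻¹))
    rw [← hχ (v * ((k * s : Subgroup.centralizer ({v} : Set G)) : G)) g]
    congr 1
    group
  simp only [CfsgLib.Blocks.diagSum, Finset.sum_filter]
  symm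
  refine Fintype.sum_equiv φ.toEquiv _ _ fun s => ?_
  have hiff : IsPRegular p (φ s) ↔ IsPRegular p s := by
    rw [IsPRegular, IsPRegular, φ.orderOf_eq]
  show _ = if IsPRegular p (φ s) then _ else _
  rw [show φ.toEquiv s = φ s from rfl, hval]
  exact if_congr hiff.symm rfl rfl

/-- Let p be a prime, M a maximal ideal of the algebraic integers containing p, B a p-block of the finite group G with defect group D of order p^d, H = D·C_G(D), b a block of H inducing B, T the stabilizer of b in N_G(D) and e = [T : H] the inertial index of B; let n be the integer with p^n ≤ e < p^(n+1) and p^c the order of the centre of D. Then every irreducible character in B has height h with h + c ≤ n + d. -/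
theorem result {G : Type*} [Group G] [Finite G] (p : ℕ) [Fact p.Prime] (M : Ideal Cfsg.AlgInt) (hM : Cfsg.IsPModular p M) (B : Set (Cfsg.IrrCharacter G)) (hB : Cfsg.IsPBlock M B) (D : Subgroup G) (hBD : Cfsg.IsDefectGroup p M B D) (d : ℕ) (hDd : Nat.card D = p ^ d) (H : Subgroup G) (hH : H = D ⊔ Subgroup.centralizer (D : Set G)) (b : Set (Cfsg.IrrCharacter H)) (hind : Cfsg.IsInducedBlock M H b B) (T : Subgroup G) (hT : ∀ g : G, g ∈ T ↔ (g ∈ Subgroup.normalizer (D : Set G) ∧ ∀ θ ∈ b, ∀ θ' : Cfsg.IrrCharacter H, (∀ h h' : H, (h' : G) = g * h * g⁻¹ → (θ' : H → ℂ) h' = (θ : H → ℂ) h) → θ' ∈ b)) (e : ℕ) (he : H.relIndex T = e) (n : ℕ) (hn : p ^ n ≤ e ∧ e < p ^ (n + 1)) (c : ℕ) (hc : Nat.card (Subgroup.center D) = p ^ c) : ∀ χ ∈ B, Cfsg.blockHeight p B (χ : G → ℂ) + c ≤ n + d := by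
  classical
  have : Fintype G := Fintype.ofFinite G
  have := CfsgLib.Blocks.isPrime_of_isPModular hM
  subst hH
  have : Fintype (D ⊔ Subgroup.centralizer (D : Set G) : Subgroup G) := Fintype.ofFinite _
  have hDp : IsPGroup p D := CfsgLib.Blocks.IsDefectGroup.isPGroup hM hBD
  have hdB : d = blockDefect p B := Nat.pow_right_injective hM.1.two_le
    (hDd.symm.trans (CfsgLib.Blocks.IsDefectGroup.card_eq hM hB hBD))
  have hHN : D ⊔ Subgroup.centralizer (D : Set G) ≤ Subgroup.normalizer (D : Set G) :=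
    sup_le Subgroup.le_normalizer (Subgroup.centralizer_le_normalizer _)
  -- the pair below `b`
  obtain ⟨E, hE, hEb⟩ : ∃ E : Set (IrrCharacter (Subgroup.centralizer (D : Set G))),
      IsBrauerPairOf p M B D E ∧ ∀ h : (D ⊔ Subgroup.centralizer (D : Set G) : Subgroup G),
        blockCoeff b h = subgroupBlockCoeff (Subgroup.centralizer (D : Set G)) E (h : G) := by
    obtain ⟨A, hA⟩ : ∃ A, A = D.subgroupOf (D ⊔ Subgroup.centralizer (D : Set G)) := ⟨_, rfl⟩
    have hAD : A.map (D ⊔ Subgroup.centralizer (D : Set G)).subtype = D :=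
      hA ▸ Subgroup.map_subgroupOf_eq_of_le le_sup_left
    have : A.Normal := hA ▸ (Subgroup.normal_subgroupOf_iff_le_normalizer le_sup_left).mpr hHN
    have hAp : IsPGroup p A := hA ▸ hDp.of_equiv (Subgroup.subgroupOfEquivOfLe le_sup_left).symm
    have hAC : Subgroup.centralizer ((A.map (D ⊔ Subgroup.centralizer (D : Set G)).subtype : Subgroup G) : Set G) ≤
        D ⊔ Subgroup.centralizer (D : Set G) := by
      rw [hAD]; exact le_sup_right
    obtain ⟨f, hf⟩ := CfsgLib.Blocks.exists_pair_of_normal hM A hAp hind.1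
    have horb := CfsgLib.Blocks.orbitFun_eq_blockCoeff hM A hf
    have hstab : ∀ h, h ∈ CfsgLib.Blocks.blockStab (Subgroup.centralizer (A : Set (D ⊔ Subgroup.centralizer (D : Set G) : Subgroup G))) f := by
      intro h
      have hle : A ⊔ Subgroup.centralizer (A : Set (D ⊔ Subgroup.centralizer (D : Set G) : Subgroup G)) ≤
          CfsgLib.Blocks.blockStab (Subgroup.centralizer (A : Set (D ⊔ Subgroup.centralizer (D : Set G) : Subgroup G))) f := by
        refine sup_le (fun a ha => ?_) (fun c hc => ⟨Subgroup.le_normalizer hc,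
          CfsgLib.Blocks.conjSet_of_mem hc f⟩)
        exact CfsgLib.Blocks.stabilizesBlock_iff.mp (CfsgLib.Blocks.stabilizes_self_of_mem ha f)
      refine hle ?_
      have hCle : (Subgroup.centralizer (D : Set G)).subgroupOf (D ⊔ Subgroup.centralizer (D : Set G)) ≤
          Subgroup.centralizer (A : Set (D ⊔ Subgroup.centralizer (D : Set G) : Subgroup G)) := fun c hc a ha => Subtype.ext
        (Subgroup.mem_centralizer_iff.mp hc (a : G) (by
          rw [hA] at ha; exact Subgroup.mem_subgroupOf.mp ha))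
      refine sup_le_sup_left hCle A ?_
      rw [hA, ← Subgroup.subgroupOf_sup le_sup_left le_sup_right, Subgroup.subgroupOf_self]
      exact Subgroup.mem_top h
    have hone : CfsgLib.Blocks.pairOrbit M A f = {f} := by
      refine Finset.eq_singleton_iff_unique_mem.mpr
        ⟨CfsgLib.Blocks.self_mem_pairOrbit hf.1.2, fun f' hf' => ?_⟩
      obtain ⟨n, -, rfl⟩ := (CfsgLib.Blocks.mem_pairOrbit hf.1.2).mp hf'
      exact (hstab n).2
    have hval : ∀ h, blockCoeff b h = subgroupBlockCoeff (Subgroup.centralizer (A : Set (D ⊔ Subgroup.centralizer (D : Set G) : Subgroup G))) f h := fun h => by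
      rw [← horb, CfsgLib.Blocks.orbitFun, hone, Finset.sum_singleton]
    have key : ∀ P : Subgroup G, P = A.map (D ⊔ Subgroup.centralizer (D : Set G)).subtype →
        ∃ E : Set (IrrCharacter (Subgroup.centralizer (P : Set G))),
          IsBrauerPairOf p M B P E ∧ ∀ h : (D ⊔ Subgroup.centralizer (D : Set G) : Subgroup G),
            blockCoeff b h = subgroupBlockCoeff (Subgroup.centralizer (P : Set G)) E (h : G) := by
      rintro P rfl
      exact ⟨_, CfsgLib.Blocks.isBrauerPairOf_upBlock hM hind hAC hf, fun h => by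
        rw [hval, CfsgLib.Blocks.subgroupBlockCoeff_upBlock hAC f h]⟩
    exact key D hAD.symm
  -- the stabilizer of the pair lies in `T`
  have hTE : ∀ t ∈ Subgroup.normalizer (D : Set G),
      CfsgLib.Blocks.conjSet t (Subgroup.centralizer (D : Set G)) (Subgroup.centralizer (D : Set G)) E = E →
      t ∈ T := by
    intro t htN htE
    have hCn := CfsgLib.Blocks.mem_normalizer_centralizer htN
    have htH : t ∈ Subgroup.normalizer ((D ⊔ Subgroup.centralizer (D : Set G) : Subgroup G) : Set G) := by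
      rw [Subgroup.mem_normalizer_iff_map_conj_eq, Subgroup.map_sup,
        Subgroup.mem_normalizer_iff_map_conj_eq.mp htN, Subgroup.mem_normalizer_iff_map_conj_eq.mp hCn]
    have hfix : CfsgLib.Blocks.conjSet t (D ⊔ Subgroup.centralizer (D : Set G))
        (D ⊔ Subgroup.centralizer (D : Set G)) b = b := by
      refine CfsgLib.Blocks.eq_of_blockCoeff_eq fun h' => ?_
      obtain ⟨h, rfl⟩ := (CfsgLib.Blocks.conjIso
        (CfsgLib.Blocks.conj_mem_iff_of_mem_normalizer htH)).surjective h'
      rw [CfsgLib.Blocks.blockCoeff_conjSet (CfsgLib.Blocks.conj_mem_iff_of_mem_normalizer htH) b (c := h) rfl,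
        hEb, hEb]
      conv_rhs => rw [← htE]
      exact (CfsgLib.Blocks.subgroupBlockCoeff_conjSet
        (CfsgLib.Blocks.conj_mem_iff_of_mem_normalizer hCn) E h).symm
    refine (hT t).mpr ⟨htN, fun θ hθ θ' hval => ?_⟩
    rw [← hfix]
    exact ⟨θ, hθ, hval⟩
  -- local blocks at the elements of `Z(D)`
  have : ∀ v : G, Fintype (Subgroup.centralizer ({v} : Set G)) := fun v => Fintype.ofFinite _
  set U : Subgroup.center D → G := fun z => ((z : D) : G) with hUdef
  have hUinj : Function.Injective U := fun z w h => Subtype.ext (Subtype.ext h)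
  have hUp : ∀ z, ∃ k : ℕ, orderOf (U z) = p ^ k := fun z => by
    obtain ⟨k, hk⟩ := IsPGroup.iff_orderOf.mp hDp (z : D)
    exact ⟨k, by rw [hUdef]; simp only; rw [Subgroup.orderOf_coe, hk]⟩
  have hDK : ∀ z, D ≤ Subgroup.centralizer ({U z} : Set G) := fun z x hx =>
    Subgroup.mem_centralizer_singleton_iff.mpr
      (congrArg Subtype.val (Subgroup.mem_center_iff.mp z.2 ⟨x, hx⟩))
  have hCK : ∀ z, Subgroup.centralizer (D : Set G) ≤ Subgroup.centralizer ({U z} : Set G) := fun z x hx =>
    Subgroup.mem_centralizer_singleton_iff.mpr (Subgroup.mem_centralizer_iff.mp hx _ (z : D).2).symm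
  choose bz hbz hbzu using fun z => CfsgLib.Blocks.existsUnique_localBlock hM (hDK z) (hCK z) hE.1
  have hbind : ∀ z, IsInducedBlock M (Subgroup.centralizer ({U z} : Set G)) (bz z) B := fun z =>
    CfsgLib.Blocks.localBlock_induced hM (hDK z) (hCK z) hE (hbz z)
      (CfsgLib.Blocks.inducedBlockDefined_centralizer hM (hUp z) (hbz z).1)
  intro χ hχ
  set P : ℕ := p ^ ((Nat.card G).factorization p - (charDegree (χ : G → ℂ)).factorization p) with hPdef
  set cval : Subgroup.center D → ℂ := fun z => (P : ℂ) *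
    (CfsgLib.Blocks.diagSum p (U z) (bz z) (χ : G → ℂ) /
      (Nat.card (Subgroup.centralizer ({U z} : Set G)) : ℂ)) with hcval
  have hcint : ∀ z, IsIntegral ℤ (cval z) := fun z =>
    CfsgLib.Blocks.isIntegral_diagSum hM (hUp z) χ (hbz z).1
  -- sigma type of all subsections
  set X := (Finset.univ.filter fun v : G => ∃ k : ℕ, orderOf v = p ^ k).sigma
    (fun v => CfsgLib.Blocks.blocks M (Subgroup.centralizer ({v} : Set G))) with hX
  have hident : ∑ x ∈ X, CfsgLib.Blocks.diagSum p x.1 x.2 (χ : G → ℂ) = (Nat.card G : ℂ) := by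
    rw [hX, Finset.sum_sigma]
    have h1 : ∑ g : G, (χ : G → ℂ) g * (starRingEnd ℂ) ((χ : G → ℂ) g) = (Nat.card G : ℂ) := by
      have h := CfsgLib.Char.classInner_irr_self χ.2
      rwa [classInner, inv_mul_eq_iff_eq_mul₀ (Nat.cast_ne_zero.mpr Nat.card_pos.ne'), mul_one] at h
    rw [← h1, CfsgLib.Blocks.sum_eq_sum_pParts hM.1]
    refine Finset.sum_congr rfl fun v hv => ?_
    exact (CfsgLib.Blocks.sum_regular_normSq_eq_sum_blocks hM
      (CfsgLib.Blocks.isClassFunction_translate (x := v) (CfsgLib.Blocks.irr_classFunction χ))).symm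
  have hmem : ∀ x : Σ v : G, Set (IrrCharacter (Subgroup.centralizer ({v} : Set G))),
      CfsgLib.Blocks.diagSum p x.1 x.2 (χ : G → ℂ) ∈ CfsgLib.Char.QBar := fun x =>
    (CfsgLib.Blocks.isCMValue_diag_term χ x.2).mem
  set TQ : (Σ v : G, Set (IrrCharacter (Subgroup.centralizer ({v} : Set G)))) → CfsgLib.Char.QBar :=
    fun x => ⟨_, hmem x⟩ with hTQ
  set aQ : Subgroup.center D → CfsgLib.Char.QBar := fun z =>
    (P : CfsgLib.Char.QBar) * (TQ ⟨U z, bz z⟩ /
      (Nat.card (Subgroup.centralizer ({U z} : Set G)) : CfsgLib.Char.QBar)) with haQ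
  have haQval : ∀ z, (aQ z : ℂ) = cval z := fun z => by simp [haQ, hTQ, hcval]
  have hpos : ∀ x, ∀ ψ : CfsgLib.Char.QBar →ₐ[ℚ] ℂ, ∃ r : ℝ, 0 ≤ r ∧ ψ (TQ x) = r := by
    intro x ψ
    have hterm : ∀ s : Subgroup.centralizer ({x.1} : Set G),
        blockPart x.2 (fun c : Subgroup.centralizer ({x.1} : Set G) => (χ : G → ℂ) (x.1 * (c : G))) s *
          (starRingEnd ℂ) (blockPart x.2 (fun c : Subgroup.centralizer ({x.1} : Set G) => (χ : G → ℂ) (x.1 * (c : G))) s) ∈
            CfsgLib.Char.QBar := fun s =>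
      ((CfsgLib.Blocks.blockPart_translate χ x.2 s).2.mul
        (CfsgLib.Blocks.blockPart_translate χ x.2 s).2.star).mem
    choose r hr0 hr using fun s => (CfsgLib.Blocks.blockPart_translate χ x.2 s).2.normSq_embedding (hterm s) ψ
    refine ⟨∑ s : Subgroup.centralizer ({x.1} : Set G) with IsPRegular p s, r s,
      Finset.sum_nonneg fun s _ => hr0 s, ?_⟩
    have e : TQ x = ∑ s : Subgroup.centralizer ({x.1} : Set G) with IsPRegular p s,
        (⟨_, hterm s⟩ : CfsgLib.Char.QBar) := Subtype.ext (by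
      rw [hTQ]; simp only; push_cast; rfl)
    rw [e, map_sum, Complex.ofReal_sum]
    exact Finset.sum_congr rfl fun s _ => hr s
  obtain ⟨ψ, hψ⟩ := CfsgLib.Char.exists_card_le_sum_embedding Finset.univ aQ
    (fun z _ => (haQval z).symm ▸ hcint z)
    (fun z _ h0 => by
      have h := haQval z
      rw [h0, ZeroMemClass.coe_zero] at h
      refine CfsgLib.Blocks.diagSum_ne_zero hM (hUp z) hχ (hbind z)
        (CfsgLib.Blocks.localBlock_maximal hM hBD (hDK z) (hCK z) hE rfl (hbz z) (hbind z)).1 ?_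
      simpa [hcval, hPdef, hM.1.ne_zero, Nat.card_pos.ne'] using h.symm)
    (fun z _ ψ => by
      obtain ⟨r, hr0, hr⟩ := hpos ⟨U z, bz z⟩ ψ
      exact ⟨P * (r / Nat.card (Subgroup.centralizer ({U z} : Set G))), by positivity, by
        simp [haQ, map_mul, map_div₀, map_natCast, hr]⟩)
  choose r hr0 hr using fun x => hpos x ψ
  have hre : ∀ z, (ψ (aQ z)).re = P * (r ⟨U z, bz z⟩ / Nat.card (Subgroup.centralizer ({U z} : Set G))) :=
    fun z => by
      rw [show ψ (aQ z) = ((P * (r ⟨U z, bz z⟩ / Nat.card (Subgroup.centralizer ({U z} : Set G))) : ℝ) : ℂ) by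
        simp [haQ, map_mul, map_div₀, map_natCast, hr], Complex.ofReal_re]
  have hrsum : ∑ x ∈ X, r x = (Nat.card G : ℝ) := by
    have h : ∑ x ∈ X, TQ x = (Nat.card G : CfsgLib.Char.QBar) := Subtype.ext (by
      push_cast [hTQ]; exact hident)
    have h2 := congrArg ψ h
    rw [map_sum, map_natCast, Finset.sum_congr rfl fun x _ => hr x] at h2
    exact_mod_cast h2
  -- counting conjugates
  set Φ : Subgroup.center D × G → Σ v : G, Set (IrrCharacter (Subgroup.centralizer ({v} : Set G))) :=
    fun w => ⟨w.2 * U w.1 * w.2⁻¹, CfsgLib.Blocks.conjSet w.2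
      (Subgroup.centralizer ({U w.1} : Set G)) (Subgroup.centralizer ({w.2 * U w.1 * w.2⁻¹} : Set G)) (bz w.1)⟩
    with hΦ
  have hcent : ∀ v g x : G, g * x * g⁻¹ ∈ Subgroup.centralizer ({g * v * g⁻¹} : Set G) ↔
      x ∈ Subgroup.centralizer ({v} : Set G) := fun v g x => by
    simp only [Subgroup.mem_centralizer_singleton_iff]
    constructor <;> intro h
    · have := congrArg (fun y => g⁻¹ * y * g) h
      simpa [mul_assoc] using this
    · calc g * x * g⁻¹ * (g * v * g⁻¹) = g * (x * v) * g⁻¹ := by group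
        _ = g * (v * x) * g⁻¹ := by rw [h]
        _ = g * v * g⁻¹ * (g * x * g⁻¹) := by group
  have hΦX : ∀ w, Φ w ∈ X := fun w => by
    simp only [hX, hΦ, Finset.mem_sigma, Finset.mem_filter, Finset.mem_univ, true_and,
      CfsgLib.Blocks.mem_blocks]
    refine ⟨?_, CfsgLib.Blocks.isPBlock_conjSet (hcent _ _) (hbz w.1).1⟩
    obtain ⟨k, hk⟩ := hUp w.1
    exact ⟨k, (orderOf_injective (MulAut.conj w.2).toMonoidHom (MulAut.conj w.2).injective _).trans hk⟩
  have hΦr : ∀ w, r (Φ w) = r ⟨U w.1, bz w.1⟩ := fun w => by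
    have e : TQ (Φ w) = TQ ⟨U w.1, bz w.1⟩ := Subtype.ext
      (diagSum_conj (CfsgLib.Blocks.irr_classFunction χ) w.2 (hcent _ _) (bz w.1))
    have h := congrArg ψ e
    rw [hr, hr] at h
    exact_mod_cast h
  have hΦC : ∀ w, Nat.card (Subgroup.centralizer ({(Φ w).1} : Set G)) =
      Nat.card (Subgroup.centralizer ({U w.1} : Set G)) := fun w =>
    Nat.card_congr (CfsgLib.Blocks.conjIso (hcent (U w.1) w.2)).symm.toEquiv
  have hfib : ∀ x ∈ X, ((Finset.univ : Finset (Subgroup.center D × G)).filter fun w => Φ w = x).card ≤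
      Nat.card (Subgroup.centralizer ({x.1} : Set G)) * e := by
    intro x _
    set S := (Finset.univ : Finset (Subgroup.center D × G)).filter fun w => Φ w = x
    refine (Finset.card_le_mul_card_image S (f := Prod.fst)
      (Nat.card (Subgroup.centralizer ({x.1} : Set G))) fun z _ => ?_).trans (Nat.mul_le_mul_left _ ?_)
    · rcases (S.filter fun w => w.1 = z).eq_empty_or_nonempty with h0 | ⟨w₀, hw₀⟩
      · simp [h0]
      rw [← Fintype.card_coe, ← Nat.card_eq_fintype_card]
      refine Nat.card_le_card_of_injective (fun w => (⟨w.1.2 * w₀.2⁻¹, ?_⟩ :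
        Subgroup.centralizer ({x.1} : Set G))) fun a c hac => ?_
      · have hw := w.2
        simp only [S, Finset.mem_filter, Finset.mem_univ, true_and] at hw hw₀
        have h1 : w.1.2 * U w.1.1 * w.1.2⁻¹ = x.1 := congrArg Sigma.fst hw.1
        have h2 : w₀.2 * U w₀.1 * w₀.2⁻¹ = x.1 := congrArg Sigma.fst hw₀.1
        rw [hw.2] at h1
        rw [hw₀.2] at h2
        rw [Subgroup.mem_centralizer_singleton_iff]
        calc w.1.2 * w₀.2⁻¹ * x.1 = w.1.2 * w₀.2⁻¹ * (w₀.2 * U z * w₀.2⁻¹) := by rw [h2]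
          _ = (w.1.2 * U z * w.1.2⁻¹) * (w.1.2 * w₀.2⁻¹) := by group
          _ = x.1 * (w.1.2 * w₀.2⁻¹) := by rw [h1]
      · have ha := (Finset.mem_filter.mp a.2).2
        have hc' := (Finset.mem_filter.mp c.2).2
        exact Subtype.ext (Prod.ext (ha.trans hc'.symm) (mul_right_cancel (congrArg Subtype.val hac)))
    · rcases S.eq_empty_or_nonempty with h0 | ⟨w₀, hw₀⟩
      · simp [h0]
      simp only [S, Finset.mem_filter, Finset.mem_univ, true_and] at hw₀
      have hreach : ∀ z ∈ S.image Prod.fst, ∃ t ∈ T, U z = t * U w₀.1 * t⁻¹ := by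
        intro z hz
        obtain ⟨⟨z, g⟩, hw, rfl⟩ := Finset.mem_image.mp hz
        simp only [S, Finset.mem_filter, Finset.mem_univ, true_and] at hw
        have heq : Φ (z, g) = Φ w₀ := hw.trans hw₀.symm
        have hU' : g * U z * g⁻¹ = w₀.2 * U w₀.1 * w₀.2⁻¹ := congrArg Sigma.fst heq
        set n := w₀.2⁻¹ * g with hn
        have hUn : n * U z * n⁻¹ = U w₀.1 := by
          calc n * U z * n⁻¹ = w₀.2⁻¹ * (g * U z * g⁻¹) * w₀.2 := by rw [hn]; group
            _ = U w₀.1 := by rw [hU']; group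
        have hKK : ∀ y, n * y * n⁻¹ ∈ Subgroup.centralizer ({U w₀.1} : Set G) ↔
            y ∈ Subgroup.centralizer ({U z} : Set G) := fun y => by rw [← hUn]; exact hcent _ _ y
        have hback : ∀ y, w₀.2⁻¹ * y * w₀.2⁻¹⁻¹ ∈ Subgroup.centralizer ({U w₀.1} : Set G) ↔
            y ∈ Subgroup.centralizer ({w₀.2 * U w₀.1 * w₀.2⁻¹} : Set G) := fun y => by
          have h := hcent (U w₀.1) w₀.2 (w₀.2⁻¹ * y * w₀.2)
          rw [show w₀.2 * (w₀.2⁻¹ * y * w₀.2) * w₀.2⁻¹ = y by group] at h
          rw [inv_inv]; exact h.symm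
        have hbn : CfsgLib.Blocks.conjSet n (Subgroup.centralizer ({U z} : Set G))
            (Subgroup.centralizer ({U w₀.1} : Set G)) (bz z) = bz w₀.1 := by
          have h := congrArg (fun y : Σ v : G, Set (IrrCharacter (Subgroup.centralizer ({v} : Set G))) =>
            CfsgLib.Blocks.conjSet w₀.2⁻¹ (Subgroup.centralizer ({y.1} : Set G))
              (Subgroup.centralizer ({U w₀.1} : Set G)) y.2) heq
          change CfsgLib.Blocks.conjSet w₀.2⁻¹ (Subgroup.centralizer ({g * U z * g⁻¹} : Set G))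
              (Subgroup.centralizer ({U w₀.1} : Set G))
              (CfsgLib.Blocks.conjSet g (Subgroup.centralizer ({U z} : Set G))
                (Subgroup.centralizer ({g * U z * g⁻¹} : Set G)) (bz z)) =
            CfsgLib.Blocks.conjSet w₀.2⁻¹ (Subgroup.centralizer ({w₀.2 * U w₀.1 * w₀.2⁻¹} : Set G))
              (Subgroup.centralizer ({U w₀.1} : Set G))
              (CfsgLib.Blocks.conjSet w₀.2 (Subgroup.centralizer ({U w₀.1} : Set G))
                (Subgroup.centralizer ({w₀.2 * U w₀.1 * w₀.2⁻¹} : Set G)) (bz w₀.1)) at h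
          rw [CfsgLib.Blocks.conjSet_conjSet (hcent (U w₀.1) w₀.2) hback, inv_mul_cancel,
            CfsgLib.Blocks.conjSet_of_mem (one_mem _)] at h
          rw [← h, CfsgLib.Blocks.conjSet_conjSet (hcent (U z) g)]
          rw [hU']
          exact hback
        have hloc := CfsgLib.Blocks.isLocalBlock_conj (D' := D.map (MulAut.conj n).toMonoidHom) hKK rfl (hbz z)
        rw [hbn] at hloc
        have hD'K : D.map (MulAut.conj n).toMonoidHom ≤ Subgroup.centralizer ({U w₀.1} : Set G) := by
          rintro _ ⟨y, hy, rfl⟩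
          exact (hKK y).mpr (hDK z hy)
        have hC'K : Subgroup.centralizer ((D.map (MulAut.conj n).toMonoidHom : Subgroup G) : Set G) ≤
            Subgroup.centralizer ({U w₀.1} : Set G) := fun y hy => by
          obtain ⟨y', rfl⟩ : ∃ y', n * y' * n⁻¹ = y := ⟨n⁻¹ * y * n, by group⟩
          exact (hKK y').mpr (hCK z ((CfsgLib.Blocks.centralizer_conj_iff rfl y').mp hy))
        obtain ⟨x', hx'K, hD', hE'⟩ := (CfsgLib.Blocks.localBlock_maximal hM hBD (hDK w₀.1) (hCK w₀.1) hE
          rfl (hbz w₀.1) (hbind w₀.1)).2 _ _ hD'K hC'K (CfsgLib.Blocks.isBrauerPairOf_conj rfl hE).1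
          (CfsgLib.Blocks.card_map_conj D n) hloc
        have hmN : x' * n ∈ Subgroup.normalizer (D : Set G) := by
          rw [Subgroup.mem_normalizer_iff_map_conj_eq]
          conv_rhs => rw [hD', CfsgLib.Blocks.map_conj_map]
          rfl
        have hmT : x' * n ∈ T := hTE _ hmN (by
          rw [← CfsgLib.Blocks.conjSet_conjSet (CfsgLib.Blocks.centralizer_conj_iff rfl)
            (CfsgLib.Blocks.centralizer_conj_iff hD'), hE'])
        refine ⟨(x' * n)⁻¹, inv_mem hmT, ?_⟩
        have hx'u := Subgroup.mem_centralizer_singleton_iff.mp hx'K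
        calc U z = n⁻¹ * U w₀.1 * n := by rw [← hUn]; group
          _ = n⁻¹ * (x'⁻¹ * (x' * U w₀.1)) * n := by group
          _ = n⁻¹ * (x'⁻¹ * (U w₀.1 * x')) * n := by rw [hx'u]
          _ = _ := by group
      have hHu : ∀ k ∈ D ⊔ Subgroup.centralizer (D : Set G), k * U w₀.1 * k⁻¹ = U w₀.1 := fun k hk => by
        have := sup_le (hDK w₀.1) (hCK w₀.1) hk
        rw [mul_inv_eq_iff_eq_mul]
        exact Subgroup.mem_centralizer_singleton_iff.mp this
      set q : T ⧸ (D ⊔ Subgroup.centralizer (D : Set G)).subgroupOf T → G := fun t =>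
        Quotient.liftOn' t (fun t : T => (t : G) * U w₀.1 * (t : G)⁻¹) fun a c hac => by
          rw [QuotientGroup.leftRel_apply, Subgroup.mem_subgroupOf] at hac
          have := hHu _ hac
          simp only [Subgroup.coe_mul, Subgroup.coe_inv] at this
          calc (a : G) * U w₀.1 * (a : G)⁻¹
              = (a : G) * ((a : G)⁻¹ * (c : G) * U w₀.1 * ((a : G)⁻¹ * (c : G))⁻¹) * (a : G)⁻¹ := by rw [this]
            _ = (c : G) * U w₀.1 * (c : G)⁻¹ := by group
      calc (S.image Prod.fst).card = ((S.image Prod.fst).image U).card :=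
            (Finset.card_image_of_injective _ hUinj).symm
        _ ≤ (Finset.univ.image q).card := by
            refine Finset.card_le_card fun v hv => ?_
            obtain ⟨z, hz, rfl⟩ := Finset.mem_image.mp hv
            obtain ⟨t, ht, htz⟩ := hreach z hz
            exact Finset.mem_image.mpr ⟨QuotientGroup.mk (⟨t, ht⟩ : T), Finset.mem_univ _, htz.symm⟩
        _ ≤ Fintype.card (T ⧸ (D ⊔ Subgroup.centralizer (D : Set G)).subgroupOf T) := Finset.card_image_le
        _ = e := by rw [← Nat.card_eq_fintype_card]; exact he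
  have hmain : ∑ z, r ⟨U z, bz z⟩ / Nat.card (Subgroup.centralizer ({U z} : Set G)) ≤ (e : ℝ) := by
    have hG0 : (0 : ℝ) < Nat.card G := Nat.cast_pos.mpr Nat.card_pos
    refine le_of_mul_le_mul_left ?_ hG0
    calc (Nat.card G : ℝ) * ∑ z, r ⟨U z, bz z⟩ / Nat.card (Subgroup.centralizer ({U z} : Set G))
        = ∑ w : Subgroup.center D × G, r (Φ w) / Nat.card (Subgroup.centralizer ({(Φ w).1} : Set G)) := by
          rw [Fintype.sum_prod_type, Finset.mul_sum]
          refine Finset.sum_congr rfl fun z _ => ?_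
          simp only [hΦr, hΦC]
          rw [Finset.sum_const, Finset.card_univ, nsmul_eq_mul, Nat.card_eq_fintype_card]
      _ = ∑ x ∈ X, ∑ w ∈ (Finset.univ : Finset (Subgroup.center D × G)).filter (fun w => Φ w = x),
            r x / Nat.card (Subgroup.centralizer ({x.1} : Set G)) := by
          rw [← Finset.sum_fiberwise_of_maps_to (g := Φ) (t := X) (fun w _ => hΦX w)]
          refine Finset.sum_congr rfl fun x _ => Finset.sum_congr rfl fun w hw => ?_
          rw [(Finset.mem_filter.mp hw).2]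
      _ ≤ ∑ x ∈ X, (e : ℝ) * r x := by
          refine Finset.sum_le_sum fun x hx => ?_
          rw [Finset.sum_const, nsmul_eq_mul]
          have hCpos : (0 : ℝ) < Nat.card (Subgroup.centralizer ({x.1} : Set G)) := Nat.cast_pos.mpr Nat.card_pos
          rw [← mul_div_assoc, div_le_iff₀ hCpos]
          calc _ ≤ ((Nat.card (Subgroup.centralizer ({x.1} : Set G)) * e : ℕ) : ℝ) * r x :=
                mul_le_mul_of_nonneg_right (Nat.cast_le.mpr (hfib x hx)) (hr0 x)
            _ = _ := by push_cast; ring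
      _ = (Nat.card G : ℝ) * e := by rw [← Finset.mul_sum, hrsum, mul_comm]
  have hcount : Nat.card (Subgroup.center D) ≤ P * e := by
    have h : (Nat.card (Subgroup.center D) : ℝ) ≤ ((P * e : ℕ) : ℝ) := by
      rw [Nat.card_eq_fintype_card, ← Finset.card_univ]
      refine hψ.trans ?_
      simp only [hre, ← Finset.mul_sum]
      push_cast
      exact mul_le_mul_of_nonneg_left hmain (Nat.cast_nonneg P)
    exact_mod_cast h
  rw [hc, hPdef] at hcount
  obtain ⟨-, hInf, hall, -⟩ := CfsgLib.Blocks.blockDefect_le_and_degree hM hB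
  have hν := CfsgLib.Blocks.degree_factorization_le (p := p) χ
  have hν2 := hall χ hχ
  have hlt : p ^ c < p ^ ((Nat.card G).factorization p - (charDegree (χ : G → ℂ)).factorization p + (n + 1)) := by
    refine lt_of_le_of_lt hcount ?_
    rw [pow_add]
    exact Nat.mul_lt_mul_of_pos_left hn.2 (pow_pos hM.1.pos _)
  have hcle := (Nat.pow_lt_pow_iff_right hM.1.one_lt).mp hlt
  have hdle := (CfsgLib.Blocks.blockDefect_le_and_degree hM hB).1
  rw [blockHeight, hInf]
  omega

end Cfsg.Agent.S4715
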