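import Cfsg.Statements.S4716
import Cfsg.Agent.Lib.Blocks.SubsectionRows

set_option autoImplicit false
open Cfsg
open scoped CfsgLib.Char

namespace Cfsg.Agent.S4716

/-- Let p be a prime, M a maximal ideal of the algebraic integers containing p, and B a p-block of defect d of the finite group G all of whose irreducible characters have height zero. Let y be a p-element, C = C_G(y), and b a block of C inducing B and having the same defect d (a major subsection). Then k(B)^2 ≤ p^(2d)·l(b), where k(B) is the number of irreducible characters in B and l(b) the p-regular rank of b (its number of irreducible Brauer characters); in particular (y = 1) k(B)^2 ≤ p^(2d)·l(B). -/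
theorem result {G : Type*} [Group G] [Finite G] (p : ℕ) [Fact p.Prime] (M : Ideal Cfsg.AlgInt) (hM : Cfsg.IsPModular p M) (B : Set (Cfsg.IrrCharacter G)) (hB : Cfsg.IsPBlock M B) (d : ℕ) (hd : Cfsg.blockDefect p B = d) (hh : ∀ χ ∈ B, Cfsg.blockHeight p B (χ : G → ℂ) = 0) (y : G) (hy : ∃ k : ℕ, orderOf y = p ^ k) (b : Set (Cfsg.IrrCharacter ↥(Subgroup.centralizer ({y} : Set G)))) (hind : Cfsg.IsInducedBlock M (Subgroup.centralizer ({y} : Set G)) b B) (hbd : Cfsg.blockDefect p b = d) : Nat.card B ^ 2 ≤ p ^ (2 * d) * Cfsg.blockRank p b := by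
  classical
  haveI : Fintype G := Fintype.ofFinite _
  haveI : Fintype (Subgroup.centralizer ({y} : Set G)) := Fintype.ofFinite _
  haveI : Fintype (Subgroup.zpowers y) := Fintype.ofFinite _
  set s : Finset (IrrCharacter G) := {χ | χ ∈ B} with hs
  set y₀ : Subgroup.zpowers y := ⟨y, Subgroup.mem_zpowers y⟩
  choose F hF hFy hFne using fun χ ψ => CfsgLib.Blocks.exists_contribution hM hy hB hind χ ψ
  set T : Subgroup.zpowers y → ℂ := ∑ χ ∈ s, ∑ ψ ∈ s, F χ ψ * fun v => (starRingEnd ℂ) (F χ ψ v) with hT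
  have hTg : IsGeneralizedCharacter (Subgroup.zpowers y) T :=
    CfsgLib.Char.isGeneralized_sum _ _ fun χ _ => CfsgLib.Char.isGeneralized_sum _ _ fun ψ _ =>
      CfsgLib.Char.isGeneralized_mul (hF χ ψ) (CfsgLib.Char.isGeneralized_conj (hF χ ψ))
  have hTy : T y₀ = ((p ^ (2 * d) * blockRank p b : ℕ) : ℂ) := by
    have h := CfsgLib.Blocks.sum_sq_columns hM hy hB hind
    have hc : (Nat.card (Subgroup.centralizer ({y} : Set G)) : ℂ) ≠ 0 :=
      Nat.cast_ne_zero.mpr Nat.card_pos.ne'
    refine mul_left_cancel₀ (pow_ne_zero 2 hc) ?_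
    rw [Nat.cast_mul, Nat.cast_pow, mul_left_comm, ← h, hT]
    simp only [Finset.sum_apply, Pi.mul_apply, Finset.mul_sum]
    refine Finset.sum_congr rfl fun χ _ => Finset.sum_congr rfl fun ψ _ => ?_
    have e := hFy χ ψ
    rw [hbd] at e
    have e' := congrArg (starRingEnd ℂ) e
    simp only [map_mul, map_pow, map_natCast] at e'
    rw [show 2 * d = d + d by ring, pow_add]
    calc (Nat.card (Subgroup.centralizer ({y} : Set G)) : ℂ) ^ 2 *
          (F χ ψ y₀ * (starRingEnd ℂ) (F χ ψ y₀))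
        = ((Nat.card (Subgroup.centralizer ({y} : Set G)) : ℂ) * F χ ψ y₀) *
          ((Nat.card (Subgroup.centralizer ({y} : Set G)) : ℂ) * (starRingEnd ℂ) (F χ ψ y₀)) := by ring
      _ = _ := by
        rw [e, e']
        simp only [map_sum, map_mul, Finset.mul_sum, Finset.sum_mul]
        exact Finset.sum_congr rfl fun _ _ => Finset.sum_congr rfl fun _ _ => by ring
  set S : Finset (Subgroup.zpowers y) := {v | Subgroup.zpowers v = Subgroup.zpowers y₀}
  have hSc : ∀ a b, Subgroup.zpowers a = Subgroup.zpowers b → a ∈ S → b ∈ S := fun a b h ha => by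
    simp only [S, Finset.mem_filter, Finset.mem_univ, true_and] at ha ⊢
    rw [← h, ha]
  have hlow : (S.card : ℝ) * (s.card : ℝ) ^ 2 ≤ ∑ v ∈ S, (T v).re := by
    have h : ∀ χ ∈ s, ∀ ψ ∈ s, (S.card : ℝ) ≤ ∑ v ∈ S, Complex.normSq (F χ ψ v) := fun χ hχ ψ hψ => by
      simp only [s, Finset.mem_filter, Finset.mem_univ, true_and] at hχ hψ
      exact CfsgLib.Char.card_le_sum_normSq_generalized (hF χ ψ) S hSc fun v _ =>
        hFne χ ψ hχ hψ (hh χ hχ) (hh ψ hψ) v
    refine le_of_le_of_eq (b := ∑ χ ∈ s, ∑ ψ ∈ s, ∑ v ∈ S, Complex.normSq (F χ ψ v)) ?_ ?_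
    · refine le_trans (le_of_eq ?_) (Finset.sum_le_sum fun χ hχ => Finset.sum_le_sum (h χ hχ))
      simp only [Finset.sum_const, nsmul_eq_mul]
      ring
    · rw [Finset.sum_congr rfl fun χ _ => Finset.sum_comm, Finset.sum_comm]
      refine Finset.sum_congr rfl fun v _ => ?_
      simp only [hT, Finset.sum_apply, Pi.mul_apply, Complex.mul_conj, Complex.re_sum, Complex.ofReal_re]
  have hTv : ∀ v ∈ S, (T v).re = ((p ^ (2 * d) * blockRank p b : ℕ) : ℝ) := fun v hv => by
    rw [CfsgLib.Char.eq_of_zpowers_eq_of_rat hTg (Finset.mem_filter.mp hv).2.symm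
      (q := ((p ^ (2 * d) * blockRank p b : ℕ) : ℚ)) (by rw [hTy, Rat.cast_natCast]),
      Rat.cast_natCast, Complex.natCast_re]
  rw [Finset.sum_congr rfl hTv, Finset.sum_const, nsmul_eq_mul] at hlow
  have hS0 : (0 : ℝ) < S.card := Nat.cast_pos.mpr (Finset.card_pos.mpr ⟨y₀, by simp [S]⟩)
  have hle := le_of_mul_le_mul_left hlow hS0
  rw [show Nat.card B = s.card by rw [Nat.card_eq_fintype_card, Fintype.card_subtype]]
  exact_mod_cast hle

end Cfsg.Agent.S4716
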