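import Cfsg.Statements.S4717
import Cfsg.Agent.Lib.Blocks.InducingBlocks
import Cfsg.Agent.Lib.Blocks.MainThird
import Cfsg.Agent.Lib.Blocks.MainSecond

set_option autoImplicit false
open Cfsg
open scoped CfsgLib.Char

namespace Cfsg.Agent.S4717

/-- Let p be a prime, M a maximal ideal of the algebraic integers containing p, and r a natural number; say that a finite group X has deficiency class r when X has no non-principal p-block of defect ≥ r. If G has deficiency class r then so does the centralizer of every p-element of G; conversely, if r > 0 and the centralizer of every element of order p has deficiency class r, then G has deficiency class r. -/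
theorem result {G : Type*} [Group G] [Finite G] (p : ℕ) [Fact p.Prime] (M : Ideal Cfsg.AlgInt) (hM : Cfsg.IsPModular p M) (r : ℕ) : ((∀ B' : Set (Cfsg.IrrCharacter G), Cfsg.IsPBlock M B' → B' ≠ Cfsg.principalBlock M G → Cfsg.blockDefect p B' < r) → ∀ y : G, (∃ k : ℕ, orderOf y = p ^ k) → (∀ B' : Set (Cfsg.IrrCharacter ↥(Subgroup.centralizer ({y} : Set G))), Cfsg.IsPBlock M B' → B' ≠ Cfsg.principalBlock M ↥(Subgroup.centralizer ({y} : Set G)) → Cfsg.blockDefect p B' < r)) ∧ (0 < r → (∀ y : G, orderOf y = p → (∀ B' : Set (Cfsg.IrrCharacter ↥(Subgroup.centralizer ({y} : Set G))), Cfsg.IsPBlock M B' → B' ≠ Cfsg.principalBlock M ↥(Subgroup.centralizer ({y} : Set G)) → Cfsg.blockDefect p B' < r)) → (∀ B' : Set (Cfsg.IrrCharacter G), Cfsg.IsPBlock M B' → B' ≠ Cfsg.principalBlock M G → Cfsg.blockDefect p B' < r)) := by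
  classical
  have : Fintype G := Fintype.ofFinite G
  have := CfsgLib.Blocks.isPrime_of_isPModular hM
  constructor
  · intro hG y hy b hb hbne
    have : Fintype (Subgroup.centralizer ({y} : Set G)) := Fintype.ofFinite _
    obtain ⟨B, hind⟩ := CfsgLib.Blocks.inducedBlockDefined_centralizer hM hy hb
    obtain ⟨Q, hQ⟩ := CfsgLib.Blocks.exists_isDefectGroup hM hb
    obtain ⟨E, hE, hQE⟩ := CfsgLib.Blocks.IsInducedBlock.exists_defectGroup_le hM hind hQ
    have hle : blockDefect p b ≤ blockDefect p B := by
      have h := Subgroup.card_le_of_le hQE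
      rw [Subgroup.card_map_of_injective (Subgroup.subtype_injective _),
        CfsgLib.Blocks.IsDefectGroup.card_eq hM hb hQ,
        CfsgLib.Blocks.IsDefectGroup.card_eq hM hind.2.1 hE] at h
      exact (Nat.pow_le_pow_iff_right hM.1.one_lt).mp h
    refine lt_of_le_of_lt hle (hG B hind.2.1 fun hBp => hbne ?_)
    exact (CfsgLib.Blocks.third_main_theorem hM ⟨B, hind⟩).mp (hBp ▸ hind)
  · intro hr hC B hB hBne
    by_contra hlt
    push Not at hlt
    obtain ⟨D, hD⟩ := CfsgLib.Blocks.exists_isDefectGroup hM hB
    have hDp := CfsgLib.Blocks.IsDefectGroup.isPGroup hM hD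
    have hDcard := CfsgLib.Blocks.IsDefectGroup.card_eq hM hB hD
    have : Nontrivial D := (Finite.one_lt_card_iff_nontrivial).mp
      (by rw [hDcard]; exact Nat.one_lt_pow (by omega) hM.1.one_lt)
    obtain ⟨z, hz⟩ : ∃ z : Subgroup.center D, orderOf z = p := by
      have : Nontrivial (Subgroup.center D) := hDp.center_nontrivial
      refine exists_prime_orderOf_dvd_card' p ?_
      obtain ⟨k, hk⟩ := IsPGroup.iff_card.mp (hDp.to_subgroup (Subgroup.center D))
      have h1 : 1 < Nat.card (Subgroup.center D) := Finite.one_lt_card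
      rw [hk] at h1 ⊢
      exact dvd_pow_self p fun h0 => by simp [h0] at h1
    set y : G := ((z : D) : G) with hy
    have hyord : orderOf y = p := by rw [hy, Subgroup.orderOf_coe, Subgroup.orderOf_coe, hz]
    set H := Subgroup.centralizer ({y} : Set G) with hH
    have : Fintype H := Fintype.ofFinite _
    have hDH : D ≤ H := fun d hd => Subgroup.mem_centralizer_singleton_iff.mpr
      (congrArg Subtype.val (Subgroup.mem_center_iff.mp z.2 ⟨d, hd⟩))
    obtain ⟨c, hc, hsyl⟩ := CfsgLib.Blocks.isDefectGroup_iff.mp hD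
    have hcH : c ∈ H := Subgroup.mem_centralizer_singleton_iff.mpr
      (Subgroup.mem_centralizer_singleton_iff.mp (hsyl.1 (z : D).2)).symm
    have hPH : Subgroup.zpowers y ≤ H :=
      Subgroup.zpowers_le.mpr (Subgroup.mem_centralizer_singleton_iff.mpr rfl)
    have hCH : Subgroup.centralizer (Subgroup.zpowers y : Set G) ≤ H := fun w hw =>
      Subgroup.mem_centralizer_singleton_iff.mpr
        (Subgroup.mem_centralizer_iff.mp hw y (Subgroup.mem_zpowers y)).symm
    have hHC : H ≤ Subgroup.centralizer (Subgroup.zpowers y : Set G) := by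
      intro w hw
      refine Subgroup.mem_centralizer_iff.mpr fun q hq => ?_
      obtain ⟨j, rfl⟩ := Subgroup.mem_zpowers_iff.mp hq
      exact (Commute.zpow_right (Subgroup.mem_centralizer_singleton_iff.mp hw : Commute w y) j).symm.eq
    have hHN : H ≤ Subgroup.normalizer (Subgroup.zpowers y : Set G) :=
      hHC.trans (Subgroup.centralizer_le_normalizer _)
    obtain ⟨b, hind, hbu⟩ := CfsgLib.Blocks.exists_inducing_block_support hM
      (IsPGroup.of_card (n := 1) (by rw [Nat.card_zpowers, pow_one, hyord]))
      hPH hCH hHN hB (c := ⟨c, hcH⟩) (hHC hcH) hc.2.1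
    have hbne : b ≠ principalBlock M H := fun h => hBne (CfsgLib.Blocks.IsInducedBlock.unique hind
      ((CfsgLib.Blocks.third_main_theorem hM ⟨B, hind⟩).mpr h))
    obtain ⟨Q, hQ⟩ := CfsgLib.Blocks.exists_isDefectGroup hM hind.1
    obtain ⟨x, hx⟩ := CfsgLib.Blocks.IsDefectGroup.exists_le_conj_of_support hM hind.1 hQ hbu
      (Q := D.subgroupOf H) (hDp.comap_of_injective H.subtype H.subtype_injective) fun q hq =>
        Subgroup.mem_centralizer_singleton_iff.mpr (Subtype.ext
          (Subgroup.mem_centralizer_singleton_iff.mp (hsyl.1 (Subgroup.mem_subgroupOf.mp hq))))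
    have h := Subgroup.card_le_of_le hx
    rw [Nat.card_congr (Subgroup.subgroupOfEquivOfLe hDH).toEquiv,
      Subgroup.card_map_of_injective (MulEquiv.injective _), hDcard,
      CfsgLib.Blocks.IsDefectGroup.card_eq hM hind.1 hQ] at h
    have h2 := hC y hyord b hind.1 hbne
    have h3 := (Nat.pow_le_pow_iff_right hM.1.one_lt).mp h
    omega

end Cfsg.Agent.S4717
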