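import Cfsg.Statements.S4719
import Cfsg.Agent.S4717
import Cfsg.Agent.S4718
import Cfsg.Agent.Lib.Blocks.PrincipalQuot
import Cfsg.Agent.Lib.Invol.FourBoundOrder

set_option linter.style.haveILetI false

set_option autoImplicit false
universe u
open Cfsg

namespace Cfsg.Agent.S4719

open CfsgLib Subgroup
open scoped CfsgLib.Char

/-- A central quotient of order two lowers the deficiency class. -/
private theorem deficiency_quotient {C : Type*} [Group C] [Finite C] {M : Ideal AlgInt}
    (hM : IsPModular 2 M) (Z : Subgroup C) [Z.Normal] (hZ : Nat.card Z = 2)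
    (hZc : ∀ k ∈ Z, ∀ g : C, Commute k g) {r : ℕ}
    (h : ∀ B : Set (IrrCharacter C), IsPBlock M B → B ≠ principalBlock M C → blockDefect 2 B < r + 1) :
    ∀ B : Set (IrrCharacter (C ⧸ Z)), IsPBlock M B → B ≠ principalBlock M (C ⧸ Z) →
      blockDefect 2 B < r := by
  classical
  haveI : Fintype C := Fintype.ofFinite C
  haveI : Fintype (C ⧸ Z) := Fintype.ofFinite _
  haveI := Blocks.isPrime_of_isPModular hM
  intro B hB hne
  obtain ⟨hle, -, -, η, hη, hdeg⟩ := Blocks.blockDefect_le_and_degree hM hB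
  set f := QuotientGroup.mk' Z
  have hf : Function.Surjective f := QuotientGroup.mk'_surjective Z
  set χ := Blocks.inflate f hf η
  have hker : IsPGroup 2 f.ker :=
    IsPGroup.of_card (n := 1) (by rw [QuotientGroup.ker_mk', hZ, pow_one])
  have hnot : blockOf M (χ : C → ℂ) ≠ principalBlock M C := fun e => hne (Blocks.IsPBlock.eq_of_mem_of_mem
    hB Blocks.isPBlock_principalBlock hη (Blocks.mem_principalBlock_of_inflate_central hM f hf hker
      (fun k hk g => hZc k (by rwa [QuotientGroup.ker_mk'] at hk) g)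
      (e ▸ Blocks.mem_blockOf_self χ)))
  have hd := h _ (Blocks.isPBlock_blockOf χ) hnot
  obtain ⟨hle', -, hall, -⟩ := Blocks.blockDefect_le_and_degree hM (Blocks.isPBlock_blockOf (M := M) χ)
  have hχ := hall χ (Blocks.mem_blockOf_self χ)
  have hdeg' : charDegree (χ : C → ℂ) = charDegree (η : C ⧸ Z → ℂ) := by
    show ⌊((η : C ⧸ Z → ℂ) (f 1)).re⌋₊ = _
    rw [map_one]; rfl
  have hfac : (Nat.card C).factorization 2 = (Nat.card (C ⧸ Z)).factorization 2 + 1 := by
    rw [Subgroup.card_eq_card_quotient_mul_card_subgroup Z,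
      Nat.factorization_mul Nat.card_pos.ne' Nat.card_pos.ne', Finsupp.add_apply, hZ,
      Nat.Prime.factorization_self Nat.prime_two]
  rw [hdeg'] at hχ
  omega

private theorem bound_by_rank (a : ℕ) : ∀ r : ℕ, ∃ N : ℕ, ∀ (G : Type u) [Group G] [Finite G]
    (M : Ideal AlgInt), IsPModular 2 M → (Nat.card G).factorization 2 ≤ a →
    (∀ B : Set (IrrCharacter G), IsPBlock M B → B ≠ principalBlock M G → blockDefect 2 B < r) →
    (∃ E : Subgroup G, (∀ g ∈ E, ∀ h ∈ E, g * h = h * g) ∧ (∀ g ∈ E, g * g = 1) ∧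
      Nat.card E = 2 ^ (r + 1)) → Nat.card G ≤ N := by
  haveI : Fact (Nat.Prime 2) := ⟨Nat.prime_two⟩
  intro r
  induction r with
  | zero =>
    choose N hN using fun b => Cfsg.Agent.S4718.result.{u} 2 b
    refine ⟨(Finset.range (a + 1)).sup N, fun G _ _ M hM ha hdef _ => ?_⟩
    refine (hN _ G M hM rfl fun B hB => ?_).trans
      (Finset.le_sup (Finset.mem_range.mpr (Nat.lt_succ_of_le ha)))
    by_contra hne
    exact Nat.not_lt_zero _ (hdef B hB hne)
  | succ r ih =>
    obtain ⟨N, hN⟩ := ih
    obtain ⟨F, hF⟩ := FourBound.exists_bound.{u} a (2 * N)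
    refine ⟨F, fun G _ _ M hM ha hdef ⟨E, hEc, hE2, hEcard⟩ => ?_⟩
    classical
    have hcent : ∀ x ∈ E, x ≠ 1 → FourBound.cent x ≤ 2 * N := by
      intro x hx hx1
      have hord : orderOf x = 2 := orderOf_eq_prime (by rw [sq, hE2 x hx]) hx1
      set C := centralizer ({x} : Set G) with hC
      have hdC := (Cfsg.Agent.S4717.result 2 M hM (r + 1)).1 hdef x ⟨1, by rw [hord, pow_one]⟩
      let x' : C := ⟨x, mem_centralizer_singleton_iff.mpr rfl⟩
      set Z : Subgroup C := zpowers x' with hZdef
      have hx'c : x' ∈ center C := Subgroup.mem_center_iff.mpr fun g =>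
        Subtype.ext (mem_centralizer_singleton_iff.mp g.2)
      have hZle : Z ≤ center C := Subgroup.zpowers_le.mpr hx'c
      haveI : Z.Normal := ⟨fun k hk g => by
        rw [Subgroup.mem_center_iff.mp (hZle hk) g, mul_inv_cancel_right]; exact hk⟩
      have hx'ord : orderOf x' = 2 := by rw [← hord, ← Subgroup.orderOf_coe]
      have hZcard : Nat.card Z = 2 := by rw [hZdef, Nat.card_zpowers, hx'ord]
      have hdQ := deficiency_quotient hM Z hZcard
        (fun k hk g => (Subgroup.mem_center_iff.mp (hZle hk) g).symm) hdC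
      have hEC : E ≤ C := fun g hg => mem_centralizer_singleton_iff.mpr (hEc g hg x hx)
      set E' : Subgroup C := E.subgroupOf C with hE'
      have hE'card : Nat.card E' = 2 ^ (r + 1 + 1) := by
        rw [hE', Nat.card_congr (Subgroup.subgroupOfEquivOfLe hEC).toEquiv, hEcard]
      have hZE : Z ≤ E' := Subgroup.zpowers_le.mpr (Subgroup.mem_subgroupOf.mpr hx)
      have himg : Nat.card (E'.map (QuotientGroup.mk' Z)) = 2 ^ (r + 1) := by
        have h1 := Subgroup.relIndex_ker (K := E') (QuotientGroup.mk' Z)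
        rw [QuotientGroup.ker_mk'] at h1
        have h2 := Subgroup.card_mul_index (Z.subgroupOf E')
        rw [Nat.card_congr (Subgroup.subgroupOfEquivOfLe hZE).toEquiv, hZcard, hE'card,
          show (Z.subgroupOf E').index = Z.relIndex E' from rfl, h1, pow_succ'] at h2
        exact Nat.eq_of_mul_eq_mul_left Nat.two_pos h2
      have hle : Nat.card (C ⧸ Z) ≤ N := by
        refine hN _ M hM ?_ hdQ ⟨E'.map (QuotientGroup.mk' Z), ?_, ?_, himg⟩
        · refine le_trans ?_ ha
          refine (Nat.factorization_le_iff_dvd Nat.card_pos.ne' Nat.card_pos.ne').mpr ?_ 2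
          exact (Subgroup.card_quotient_dvd_card Z).trans (Subgroup.card_subgroup_dvd_card C)
        · rintro _ ⟨g, hg, rfl⟩ _ ⟨h, hh, rfl⟩
          have e : g * h = h * g := Subtype.ext
            (hEc g (Subgroup.mem_subgroupOf.mp hg) h (Subgroup.mem_subgroupOf.mp hh))
          rw [← map_mul, ← map_mul, e]
        · rintro _ ⟨g, hg, rfl⟩
          have e : g * g = 1 := Subtype.ext (hE2 g (Subgroup.mem_subgroupOf.mp hg))
          rw [← map_mul, e, map_one]
      show Nat.card C ≤ 2 * N
      rw [Subgroup.card_eq_card_quotient_mul_card_subgroup Z, hZcard, mul_comm]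
      exact Nat.mul_le_mul_left 2 hle
    have h4 : 4 ≤ Nat.card E := by
      rw [hEcard]
      calc 4 = 2 ^ 2 := rfl
        _ ≤ _ := Nat.pow_le_pow_right Nat.two_pos (by omega)
    obtain ⟨x, hx, hx1⟩ : ∃ x ∈ E, x ≠ 1 := by
      by_contra h
      push Not at h
      have : E = ⊥ := (Subgroup.eq_bot_iff_forall _).mpr h
      rw [this, Subgroup.card_bot] at h4
      omega
    obtain ⟨y, hy, hy1, hxy⟩ : ∃ y ∈ E, y ≠ 1 ∧ x ≠ y := by
      by_contra h
      push Not at h
      have hsub : (E : Set G) ⊆ {1, x} := fun y hy => by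
        by_cases hy1 : y = 1
        · exact Or.inl hy1
        · exact Or.inr (h y hy hy1).symm
      have := Nat.card_mono (Set.toFinite _) hsub
      have h2 : Nat.card ({1, x} : Set G) = 2 := by
        rw [Nat.card_coe_set_eq, Set.ncard_pair (Ne.symm hx1)]
      rw [h2] at this
      exact absurd (h4.trans this) (by omega)
    refine hF G x y ha (hE2 x hx) (hE2 y hy) (hEc x hx y hy) hx1 hy1 hxy (hcent x hx hx1)
      (hcent y hy hy1) (hcent _ (mul_mem hx hy) fun h => hxy ?_)
    exact mul_right_cancel ((h.trans (hE2 y hy).symm))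

/-- For every natural number a there is a bound N with the following property. Let G be a finite group with Sylow 2-subgroups of order 2^a and r ≥ 0 such that G has no non-principal 2-block (relative to a maximal ideal of the algebraic integers containing 2) of defect ≥ r, and suppose a Sylow 2-subgroup of G contains an elementary abelian subgroup of order 2^(r+1). Then the order of G is at most N. -/
theorem result (a : ℕ) : ∃ N : ℕ, ∀ (G : Type u) [Group G] [Finite G] (M : Ideal Cfsg.AlgInt) (r : ℕ) (P : Sylow 2 G), Cfsg.IsPModular 2 M → Nat.card P = 2 ^ a → (∀ B : Set (Cfsg.IrrCharacter G), Cfsg.IsPBlock M B → B ≠ Cfsg.principalBlock M G → Cfsg.blockDefect 2 B < r) → (∃ E : Subgroup G, E ≤ (P : Subgroup G) ∧ IsMulCommutative E ∧ (∀ x ∈ E, x * x = 1) ∧ Nat.card E = 2 ^ (r + 1)) → Nat.card G ≤ N := by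
  choose N hN using bound_by_rank.{u} a
  refine ⟨(Finset.range (a + 1)).sup N, fun G _ _ M r P hM hP hdef ⟨E, hEP, hEc, hE2, hEcard⟩ => ?_⟩
  have ha : (Nat.card G).factorization 2 = a := by
    haveI : Fact (Nat.Prime 2) := ⟨Nat.prime_two⟩
    have h := P.card_eq_multiplicity
    rw [hP] at h
    exact (Nat.pow_right_injective (le_refl 2) h).symm
  have hr : r + 1 ≤ a := by
    refine (Nat.pow_le_pow_iff_right one_lt_two).mp ?_
    rw [← hP, ← hEcard]
    exact Subgroup.card_le_of_le hEP
  refine (hN r G M hM ha.le hdef ⟨E, fun g hg h hh => ?_, hE2, hEcard⟩).trans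
    (Finset.le_sup (Finset.mem_range.mpr (by omega)))
  exact congrArg Subtype.val (hEc.is_comm.comm (⟨g, hg⟩ : E) ⟨h, hh⟩)

end Cfsg.Agent.S4719
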