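import Cfsg.Statements.S4720
import Cfsg.Agent.Lib.Blocks.SectionOrth

set_option autoImplicit false
open Cfsg

namespace Cfsg.Agent.S4720

open scoped CfsgLib.Char ComplexConjugate

theorem conj_generalized {H : Type*} [Group H] [Finite H] {θ : H → ℂ}
    (hθ : Cfsg.IsGeneralizedCharacter H θ) (y : H) : θ y⁻¹ = conj (θ y) := by
  obtain ⟨a, b, ⟨n, ρ, rfl⟩, ⟨m, σ, rfl⟩, rfl⟩ := hθ
  show ρ.character y⁻¹ - σ.character y⁻¹ = conj (ρ.character y - σ.character y)
  rw [map_sub, CfsgLib.Char.char_value_inv, CfsgLib.Char.char_value_inv]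

theorem sum_orbit {G : Type*} [Group G] [Fintype G] {P N : Subgroup G} [Fintype P] [Fintype N]
    (hNN : N ≤ Subgroup.normalizer (P : Set G)) (u : P) (F : P → ℂ) :
    ∑ v : P, (Nat.card {n : N // (n : G) * u * (n : G)⁻¹ = v} : ℂ) * F v =
      ∑ n : N, Cfsg.extendByZero P F ((n : G) * u * (n : G)⁻¹) := by
  classical
  have hmem : ∀ n : N, (n : G) * u * (n : G)⁻¹ ∈ P := fun n =>
    (Subgroup.mem_normalizer_iff.mp (hNN n.2) u).mp u.2
  rw [← Finset.sum_fiberwise Finset.univ (fun n : N => (⟨_, hmem n⟩ : P))]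
  refine Finset.sum_congr rfl fun v _ => ?_
  rw [Finset.sum_congr rfl (g := fun _ => F v) fun n hn => ?_, Finset.sum_const, nsmul_eq_mul]
  · congr 2
    rw [Nat.card_eq_fintype_card, Fintype.card_subtype]
    refine congrArg Finset.card (Finset.filter_congr fun n _ => ?_)
    exact ⟨fun h => Subtype.ext h, fun h => congrArg Subtype.val h⟩
  · have hv := congrArg Subtype.val (Finset.mem_filter.mp hn).2
    simp only at hv
    rw [hv]
    exact CfsgLib.Blocks.extendByZero_apply P F v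

/-- Let p be a prime, M a maximal ideal of the algebraic integers containing p, P a p-subgroup of the finite group G, N a subgroup with P ≤ N ≤ N_G(P), and U a nonempty subset of P normalized by N such that an element of U and an element of P that are conjugate in G are already conjugate in N, and such that λ(C_G(y)) = w·#C_N(y) for every y ∈ U with one rational number w, where λ(X) denotes the sum of the squares of the degrees of the irreducible characters in the principal p-block of X. For a complex function θ on P and χ in the principal block of G put a_χ(θ) = #P⁻¹ Σ_{y ∈ P} χ(y) θ(y⁻¹). Then for generalized characters θ, η of P with θ vanishing outside U, Σ_χ a_χ(θ)·conj(a_χ(η)) = (w/#P²)·Σ_{y ∈ P} θ(y)·conj(Σ_{x ∈ N} η(x y x⁻¹)) (η extended by zero off P; the conjugates lie in P), the first sum over the principal p-block of G. -/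
theorem result {G : Type*} [Group G] [Finite G] (p : ℕ) [Fact p.Prime] (M : Ideal Cfsg.AlgInt) (hM : Cfsg.IsPModular p M) (P : Subgroup G) (hP : IsPGroup p P) (N : Subgroup G) (hPN : P ≤ N) (hNN : N ≤ Subgroup.normalizer (P : Set G)) (U : Set G) (hUne : U.Nonempty) (hUP : U ⊆ (P : Set G)) (hUN : ∀ n ∈ N, ∀ u ∈ U, n * u * n⁻¹ ∈ U) (hfus : ∀ u ∈ U, ∀ g : G, g * u * g⁻¹ ∈ (P : Set G) → ∃ n ∈ N, n * u * n⁻¹ = g * u * g⁻¹) (w : ℚ) (hw : ∀ y ∈ U, ((∑ᶠ ψ ∈ Cfsg.principalBlock M ↥(Subgroup.centralizer ({y} : Set G)), Cfsg.charDegree (ψ : ↥(Subgroup.centralizer ({y} : Set G)) → ℂ) ^ 2) : ℚ) = w * Nat.card ↥(N ⊓ Subgroup.centralizer ({y} : Set G))) (θ η : ↥P → ℂ) (hθ : Cfsg.IsGeneralizedCharacter ↥P θ) (hη : Cfsg.IsGeneralizedCharacter ↥P η) (hθU : ∀ y : ↥P, (y : G) ∉ U → θ y = 0) : ∑ᶠ χ ∈ Cfsg.principalBlock M G, ((Nat.card ↥P : ℂ)⁻¹ * ∑ᶠ y : ↥P, (χ : G → ℂ) (y : G) * θ y⁻¹) * (starRingEnd ℂ) ((Nat.card ↥P : ℂ)⁻¹ * ∑ᶠ y : ↥P, (χ : G → ℂ) (y : G) * η y⁻¹) =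 ((w : ℂ) / ((Nat.card ↥P : ℂ) ^ 2)) * ∑ᶠ y : ↥P, θ y * (starRingEnd ℂ) (∑ᶠ x : ↥N, Cfsg.extendByZero P η ((x : G) * (y : G) * (x : G)⁻¹)) := by
  classical
  have := Fintype.ofFinite G
  have := CfsgLib.Blocks.isPrime_of_isPModular hM
  set B := Cfsg.principalBlock M G
  have hB : Cfsg.IsPBlock M B := CfsgLib.Blocks.isPBlock_principalBlock
  have hord : ∀ y : P, ∃ k : ℕ, orderOf (y : G) = p ^ k := fun y => by
    obtain ⟨k, hk⟩ := (IsPGroup.iff_orderOf.mp hP) y
    exact ⟨k, (Subgroup.orderOf_coe y).trans hk⟩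
  have hS : ∀ u v : P, (u : G) ∈ U →
      ∑ χ : Cfsg.IrrCharacter G with χ ∈ B, (χ : G → ℂ) u * conj ((χ : G → ℂ) v) =
        (w : ℂ) * (Nat.card {n : N // (n : G) * u * (n : G)⁻¹ = v} : ℂ) := by
    intro u v hu
    by_cases hc : IsConj (u : G) (v : G)
    · obtain ⟨g, hg⟩ := isConj_iff.mp hc
      obtain ⟨n, hn, hnv⟩ := hfus u hu g (hg ▸ v.2)
      rw [hg] at hnv
      have hval : ∀ χ : Cfsg.IrrCharacter G, (χ : G → ℂ) v = (χ : G → ℂ) u := fun χ => by
        rw [← hg]; exact CfsgLib.Blocks.irr_classFunction χ (u : G) g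
      simp only [hval]
      rw [CfsgLib.Blocks.sum_principal_norm_sq hM (hord u)]
      have hcard : Nat.card {m : N // (m : G) * u * (m : G)⁻¹ = v} =
          Nat.card ↥(N ⊓ Subgroup.centralizer ({(u : G)} : Set G)) := by
        refine Nat.card_congr
          { toFun := fun m => ⟨n⁻¹ * (m.1 : G), N.mul_mem (N.inv_mem hn) m.1.2,
              Subgroup.mem_centralizer_singleton_iff.mpr ?_⟩
            invFun := fun c => ⟨⟨n * (c : G), N.mul_mem hn c.2.1⟩, ?_⟩
            left_inv := fun m => Subtype.ext (Subtype.ext (by simp))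
            right_inv := fun c => Subtype.ext (by simp) }
        · have h : (m.1 : G) * u * (m.1 : G)⁻¹ = n * u * n⁻¹ := m.2.trans hnv.symm
          calc n⁻¹ * (m.1 : G) * u = n⁻¹ * ((m.1 : G) * u * (m.1 : G)⁻¹) * (m.1 : G) := by group
            _ = n⁻¹ * (n * u * n⁻¹) * (m.1 : G) := by rw [h]
            _ = u * (n⁻¹ * (m.1 : G)) := by group
        · have h := Subgroup.mem_centralizer_singleton_iff.mp c.2.2
          show n * (c : G) * u * (n * (c : G))⁻¹ = v
          rw [← hnv, show n * (c : G) * u * (n * (c : G))⁻¹ = n * ((c : G) * u) * (c : G)⁻¹ * n⁻¹ by group,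
            h]
          group
      rw [hcard]
      have h := hw u hu
      have e : ((∑ᶠ ψ ∈ Cfsg.principalBlock M ↥(Subgroup.centralizer ({(u : G)} : Set G)),
          Cfsg.charDegree (ψ : ↥(Subgroup.centralizer ({(u : G)} : Set G)) → ℂ) ^ 2 : ℕ) : ℚ) =
          w * Nat.card ↥(N ⊓ Subgroup.centralizer ({(u : G)} : Set G)) := by
        rw [← h]
        exact ((Nat.castAddMonoidHom ℚ).map_finsum_mem _ (Set.toFinite _)).trans
          (finsum_mem_congr rfl fun ψ _ => by simp)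
      have e2 := congrArg (fun q : ℚ => (q : ℂ)) e
      simp only [Rat.cast_mul, Rat.cast_natCast] at e2
      exact e2
    · rw [CfsgLib.Blocks.sum_block_conj_eq_zero_of_section hM hB (hord u) fun k hk hreg h =>
        hc (CfsgLib.Blocks.conj_eq_of_isConj_mul hM.1 (hord u) (hord v) hk hreg h)]
      rw [show Nat.card {n : N // (n : G) * u * (n : G)⁻¹ = v} = 0 from
        Nat.card_eq_zero.mpr (Or.inl ⟨fun m => hc (isConj_iff.mpr ⟨_, m.2⟩)⟩)]
      simp
  have hinv : ∀ (f : P → ℂ) (χ : Cfsg.IrrCharacter G), Cfsg.IsGeneralizedCharacter P f →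
      ∑ᶠ y : P, (χ : G → ℂ) (y : G) * f y⁻¹ = ∑ y : P, f y * conj ((χ : G → ℂ) (y : G)) := by
    intro f χ hf
    rw [finsum_eq_sum_of_fintype]
    refine Fintype.sum_equiv (Equiv.inv P) _ _ fun y => ?_
    rw [Equiv.inv_apply, Subgroup.coe_inv, CfsgLib.Blocks.irr_value_inv χ.2, Complex.conj_conj,
      mul_comm]
  rw [CfsgLib.Blocks.sum_mem_eq_filter]
  simp only [hinv θ _ hθ, hinv η _ hη, map_mul, map_inv₀, map_natCast, map_sum, Complex.conj_conj]
  simp only [finsum_eq_sum_of_fintype]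
  have key : ∑ χ : Cfsg.IrrCharacter G with χ ∈ B, (∑ y : P, θ y * conj ((χ : G → ℂ) (y : G))) *
      (∑ y : P, conj (η y) * (χ : G → ℂ) (y : G)) =
      (w : ℂ) * ∑ y : P, θ y * conj (∑ x : N, Cfsg.extendByZero P η ((x : G) * y * (x : G)⁻¹)) := by
    simp only [Finset.sum_mul, map_sum]
    rw [Finset.sum_comm, Finset.mul_sum (a := (w : ℂ))]
    refine Finset.sum_congr rfl fun u _ => ?_
    by_cases hu : (u : G) ∈ U
    · simp only [Finset.mul_sum]
      rw [Finset.sum_comm]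
      have h2 : ∀ v : P, ∑ χ : Cfsg.IrrCharacter G with χ ∈ B,
          θ u * conj ((χ : G → ℂ) u) * (conj (η v) * (χ : G → ℂ) v) =
            θ u * (w : ℂ) * ((Nat.card {n : N // (n : G) * u * (n : G)⁻¹ = v} : ℂ) * conj (η v)) := by
        intro v
        have h := congrArg conj (hS u v hu)
        simp only [map_sum, map_mul, Complex.conj_conj, map_natCast] at h
        rw [show θ u * (w : ℂ) * ((Nat.card {n : N // (n : G) * u * (n : G)⁻¹ = v} : ℂ) * conj (η v)) =
          θ u * conj (η v) * ((w : ℂ) * (Nat.card {n : N // (n : G) * u * (n : G)⁻¹ = v} : ℂ)) by ring,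
          ← show conj (w : ℂ) = (w : ℂ) from map_ratCast conj w, ← h, Finset.mul_sum]
        exact Finset.sum_congr rfl fun χ _ => by ring
      rw [Finset.sum_congr rfl fun v _ => h2 v, ← Finset.mul_sum, sum_orbit hNN u fun v => conj (η v),
        Finset.mul_sum]
      refine Finset.sum_congr rfl fun n _ => ?_
      have hm : (n : G) * u * (n : G)⁻¹ ∈ P := (Subgroup.mem_normalizer_iff.mp (hNN n.2) u).mp u.2
      rw [show Cfsg.extendByZero P (fun v => conj (η v)) ((n : G) * u * (n : G)⁻¹) =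
        conj (η ⟨_, hm⟩) from CfsgLib.Blocks.extendByZero_apply P _ ⟨_, hm⟩,
        show Cfsg.extendByZero P η ((n : G) * u * (n : G)⁻¹) = η ⟨_, hm⟩ from
          CfsgLib.Blocks.extendByZero_apply P η ⟨_, hm⟩]
      ring
    · rw [hθU u hu]
      simp
  rw [div_mul_eq_mul_div, ← key, Finset.sum_div]
  refine Finset.sum_congr rfl fun χ _ => ?_
  rw [Finset.mul_sum (a := (Nat.card P : ℂ)⁻¹), Finset.mul_sum (a := (Nat.card P : ℂ)⁻¹)]
  simp only [← Finset.mul_sum]
  ring
end Cfsg.Agent.S4720
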