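import Cfsg.Statements.S4721
import Cfsg.Agent.Lib.Blocks.AbelianFrobeniusThree

set_option autoImplicit false
set_option linter.style.haveILetI false
open Cfsg
open scoped ComplexConjugate CfsgLib.Char
open CfsgLib.Blocks

namespace Cfsg.Agent.S4721

/-- Let p be a prime, M a maximal ideal of the algebraic integers containing p, and G a finite group with a nontrivial abelian Sylow p-subgroup P, N = N_G(P), C = C_G(P), such that N/C is cyclic of order 3, #P > 4, and C_G(y) ∩ N = C for every non-identity y ∈ P. Then the principal p-block is the disjoint union of a set X of exactly 3 characters containing the principal character and a set Y of (#P − 1)/3 characters, with signs a_χ = ±1 (χ ∈ X, a = 1 at the principal character) and δ = ±1 such that every χ ∈ X takes the value a_χ at every element whose p-part is a non-identity element of P, and there is a map ζ from the non-principal linear characters of P onto Y,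 constant on N-conjugacy classes, with ζ_ψ(z) = δ·Σ ψ'(y) over the N-orbit of ψ, for z with p-part y ≠ 1 in P. If moreover G has an involution lying in no proper normal subgroup of G, then exactly two of the three numbers −δ and a_χ (χ ∈ X non-principal) equal −1, and the product of the degrees of the two non-principal members of X and of any member of Y is a perfect square. -/
theorem result {G : Type*} [Group G] [Finite G] (p : ℕ) [Fact p.Prime] (M : Ideal Cfsg.AlgInt) (hM : Cfsg.IsPModular p M) (P : Sylow p G) (hab : IsMulCommutative P) (hP1 : Nat.card P ≠ 1) (hCN : (Subgroup.centralizer ((P : Subgroup G) : Set G)).relIndex (Subgroup.normalizer ((P : Subgroup G) : Set G)) = 3) (hcyc : ∃ g : G, g ∈ Subgroup.normalizer ((P : Subgroup G) : Set G) ∧ Subgroup.centralizer ((P : Subgroup G) : Set G) ⊔ Subgroup.zpowers g = Subgroup.normalizer ((P : Subgroup G) : Set G)) (hm2 : 3 + 1 < Nat.card P) (hfrob : ∀ y : G,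 y ∈ (P : Subgroup G) → y ≠ 1 → Subgroup.centralizer ({y} : Set G) ⊓ Subgroup.normalizer ((P : Subgroup G) : Set G) = Subgroup.centralizer ((P : Subgroup G) : Set G)) : ∃ (X Y : Set (Cfsg.IrrCharacter G)), Cfsg.principalBlock M G = X ∪ Y ∧ Disjoint X Y ∧ Nat.card X = 3 ∧ Nat.card Y = (Nat.card P - 1) / 3 ∧ (∃ χ₁ ∈ X, (χ₁ : G → ℂ) = fun _ => 1) ∧ ∃ (a : Cfsg.IrrCharacter G → ℤ) (δ : ℤ) (ζ : (↥(P : Subgroup G) →* ℂˣ) → Cfsg.IrrCharacter G), (δ = 1 ∨ δ = -1) ∧ (∀ χ ∈ X, (a χ = 1 ∨ a χ = -1) ∧ ∀ z y : G, Cfsg.IsPPart p z y → y ∈ (P : Subgroup G) → y ≠ 1 → (χ : G → ℂ) z = (a χ : ℂ)) ∧ (∀ ψ : ↥(P : Subgroup G) →* ℂˣ, ψ ≠ 1 → ζ ψ ∈ Y) ∧ (∀ η ∈ Y, ∃ ψ : ↥(P : Subgroup G) →* ℂˣ, ψ ≠ 1 ∧ ζ ψ = η) ∧ (∀ ψ ψ' : ↥(P : Subgroup G) →* ℂˣ, ψ ≠ 1 → (∃ n : G, n ∈ Subgroup.normalizer ((P : Subgroup G) : Set G) ∧ ∀ w w' : ↥(P : Subgroup G), (w' : G) = n * w * n⁻¹ → ψ' w' = ψ w) → ζ ψ' = ζ ψ) ∧ (∀ ψ : ↥(P : Subgroup G) →* ℂˣ, ψ ≠ 1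 → ∀ (z : G) (y : ↥(P : Subgroup G)), Cfsg.IsPPart p z (y : G) → (y : G) ≠ 1 → (ζ ψ : G → ℂ) z = (δ : ℂ) * ∑ᶠ ψ' ∈ {ψ' : ↥(P : Subgroup G) →* ℂˣ | ∃ n : G, n ∈ Subgroup.normalizer ((P : Subgroup G) : Set G) ∧ ∀ w w' : ↥(P : Subgroup G), (w' : G) = n * w * n⁻¹ → ψ' w' = ψ w}, ((ψ' y : ℂˣ) : ℂ)) ∧ ((∃ t : G, orderOf t = 2 ∧ ∀ K : Subgroup G, K.Normal → t ∈ K → K = ⊤) → Nat.card {χ : Cfsg.IrrCharacter G // χ ∈ X ∧ (χ : G → ℂ) ≠ (fun _ => 1) ∧ a χ = -1} + (if δ = 1 then 1 else 0) = 2 ∧ ∀ η ∈ Y, IsSquare (Cfsg.charDegree (η : G → ℂ) * ∏ᶠ χ ∈ {χ : Cfsg.IrrCharacter G | χ ∈ X ∧ (χ : G → ℂ) ≠ fun _ => 1}, Cfsg.charDegree (χ : G → ℂ))) := by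
  classical
  letI := Fintype.ofFinite G
  have hab' : IsMulCommutative (P : Subgroup G) := hab
  have h3 : Nat.card (AbelianFrob.autG P) = 3 := (AbelianFrob.card_autG P).trans hCN
  have ht : Nat.card (AbelianFrob.Orb P) * 3 = Nat.card P - 1 := by
    rw [← h3]; exact AbelianFrob.card_orb_mul P hab' hfrob
  have h2 : 2 ≤ Nat.card (AbelianFrob.Orb P) := by omega
  obtain ⟨D, hk⟩ := AbelianFrob.exists_data_zero P hM hab' hfrob h3 h2
  obtain ⟨z1, z2, z3, z4⟩ := AbelianFrob.zeta_props hM hab' hfrob D h2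
  have hone := AbelianFrob.one_mem_X hM hab' hfrob D h2 (χ := trivIrr G) rfl
  refine ⟨D.X, Set.range D.e, ?_, Set.disjoint_sdiff_left,
    AbelianFrob.card_X hM hab' hfrob h3 D h2 hk, ?_, ⟨trivIrr G, hone.1, rfl⟩, D.a h2, D.δ, D.ζ,
    D.sign, fun χ hχ => ⟨AbelianFrob.sq_a hM hab' hfrob h3 D h2 hk hχ, ?_⟩, z1, z2, z3, ?_, ?_⟩
  · ext χ
    constructor
    · intro h
      by_cases h' : χ ∈ Set.range D.e
      exacts [Or.inr h', Or.inl ⟨h, h'⟩]
    · rintro (h | ⟨o, rfl⟩)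
      exacts [h.1, D.mem o]
  · rw [Nat.card_range_of_injective D.inj]; omega
  · intro z y hz hy hy1
    rw [AbelianFrob.value_section P hM hab' hfrob hχ.1 hz hy hy1]
    exact AbelianFrob.value_X hM hab' hfrob D h2 hχ (y := ⟨y, hy⟩)
      fun e => hy1 (congrArg Subtype.val e)
  · intro ψ hψ z y hz hy
    rw [z4 ψ hψ z y hz hy, hk, Int.cast_zero, zero_add]
  · intro hinv
    exact AbelianFrob.involution_clause hM hab' hfrob h3 D h2 hk (by omega) hinv

end Cfsg.Agent.S4721
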