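import Cfsg.Statements.S4723
import Cfsg.Agent.Lib.Blocks.FongReynolds
import Cfsg.Agent.Lib.Blocks.InducingBlocks
import Cfsg.Agent.Lib.Char.Clifford

set_option autoImplicit false
open Cfsg
open scoped CfsgLib.Char ComplexConjugate

namespace Cfsg.Agent.S4723

open CfsgLib

/-- The defect of a block is read off from a defect class. -/
theorem defect_eq_of_class {X : Type*} [Group X] [Fintype X] {p : ℕ} [Fact p.Prime]
    {M : Ideal AlgInt} (hM : IsPModular p M) {B : Set (IrrCharacter X)} (hB : IsPBlock M B) {g : X}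
    (hg : IsDefectClass M B g) :
    (Nat.card (Subgroup.centralizer ({g} : Set X))).factorization p = blockDefect p B := by
  obtain ⟨P⟩ := (inferInstance : Nonempty (Sylow p (Subgroup.centralizer ({g} : Set X))))
  have h := Blocks.IsDefectGroup.card_eq hM hB
    (show IsDefectGroup p M B ((P : Subgroup (Subgroup.centralizer ({g} : Set X))).map
      (Subgroup.centralizer ({g} : Set X)).subtype) from ⟨g, hg, P, rfl⟩)
  rw [Subgroup.card_map_of_injective Subtype.val_injective, P.card_eq_multiplicity] at h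
  exact Nat.pow_right_injective (Fact.out : p.Prime).two_le h

/-- Let p be a prime, M a maximal ideal of the algebraic integers containing p, H a normal subgroup of the finite group G and b a p-block of H. Let T be the stabilizer of b in G. Then b contains a character θ of height zero whose own stabilizer in G (the elements g with θ(g h g⁻¹) = θ(h) for all h ∈ H) has index prime to p in T, i.e. contains a Sylow p-subgroup of T. -/
theorem result {G : Type*} [Group G] [Finite G] (p : ℕ) [Fact p.Prime] (M : Ideal Cfsg.AlgInt) (hM : Cfsg.IsPModular p M) (H : Subgroup G) [H.Normal] (b : Set (Cfsg.IrrCharacter ↥H)) (hb : Cfsg.IsPBlock M b) (T : Subgroup G) (hT : (∀ g : G, g ∈ T ↔ ∀ θ ∈ b, ∀ θ' : Cfsg.IrrCharacter ↥H, (∀ h h' : ↥H, (h' : G) = g * h * g⁻¹ → (θ' : ↥H → ℂ) h' = (θ : ↥H → ℂ) h) → θ' ∈ b)) : ∃ θ ∈ b, Cfsg.blockHeight p b (θ : ↥H → ℂ) = 0 ∧ ∃ S : Subgroup G, S ≤ T ∧ (∀ g : G, g ∈ S ↔ (g ∈ T ∧ ∀ h h' : ↥H, (h' : G) = g * h * g⁻¹ → (θ : ↥H → ℂ) h' = (θ : ↥H → ℂ) h)) ∧ ¬ p ∣ S.relIndex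 T := by
  classical
  have : Fintype G := Fintype.ofFinite _
  have : Fintype H := Fintype.ofFinite _
  have : Fintype T := Fintype.ofFinite _
  have := Blocks.isPrime_of_isPModular hM
  have : Fintype (ConjClasses ↥H) := Fintype.ofFinite _
  have : Fintype (ConjClasses ↥T) := Fintype.ofFinite _
  have hTfr : ∀ g : G, g ∈ T ↔ ∀ θ ∈ b, ∀ θ' : IrrCharacter H,
      (∀ n : H, (θ' : H → ℂ) n = (θ : H → ℂ) ⟨g * n * g⁻¹, ‹H.Normal›.conj_mem n n.2 g⟩) → θ' ∈ b := by
    intro g
    rw [← inv_mem_iff, hT g⁻¹]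
    refine forall₂_congr fun θ _ => forall_congr' fun θ' => imp_congr_left ⟨fun h n => ?_,
      fun h h₁ h₂ e => ?_⟩
    · exact h ⟨g * n * g⁻¹, ‹H.Normal›.conj_mem n n.2 g⟩ n (by simp [mul_assoc])
    · rw [h h₂]
      exact congrArg _ (Subtype.ext (by simp [e, mul_assoc]))
  have hNT : H ≤ T := fun g hg => (hTfr g).mpr fun θ hθ θ' hθ' => by
    have e : θ' = θ := Subtype.ext (funext fun n => by
      rw [hθ' n]
      exact (Blocks.irr_classFunction θ n ⟨g, hg⟩))
    rwa [e]
  let N' : Subgroup T := H.subgroupOf T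
  have : Fintype N' := Fintype.ofFinite _
  let e : N' ≃* H := Subgroup.subgroupOfEquivOfLe hNT
  let up : IrrCharacter H → IrrCharacter N' := fun θ =>
    ⟨fun n => (θ : H → ℂ) (e n), Char.isIrrCharacter_comp_mulEquiv e θ.2⟩
  have hcomp : ∀ (ψ : IrrCharacter T) (θ : IrrCharacter H),
      classInner (fun n : N' => (ψ : T → ℂ) n) (up θ : N' → ℂ) =
        classInner (Blocks.lowFun hNT (ψ : T → ℂ)) (θ : H → ℂ) := fun ψ θ => by
    rw [← Char.classInner_comp_mulEquiv e (Blocks.lowFun hNT (ψ : T → ℂ)) (θ : H → ℂ)]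
    rfl
  -- a character above `b`
  obtain ⟨θ₀, hθ₀, -⟩ := Blocks.exists_blockHeight_eq_zero hM hb
  obtain ⟨ψ₀, hψ₀⟩ := Blocks.exists_irr_above (N := N') (up θ₀)
  rw [hcomp] at hψ₀
  have hov₀ : Blocks.IsOver hNT b (ψ₀ : T → ℂ) := ⟨θ₀, hθ₀, hψ₀⟩
  -- the chosen class
  set ε := Blocks.blockOnT T b with hε
  have hεc : IsClassFunction T ε := Blocks.isClassFunction_blockOnT hb hTfr
  obtain ⟨c, hc⟩ : ∃ c : ConjClasses ↥T, ¬ MemLocalIdeal M
      (ε (Quotient.out c) * centralChar (ψ₀ : T → ℂ) (Quotient.out c)) := by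
    by_contra hno
    push Not at hno
    have h := Blocks.omega_eq_sum_classes ψ₀ hεc
    rw [Blocks.omega_blockOnT hNT hb hTfr, if_pos hov₀] at h
    exact Blocks.not_memLocalIdeal_one (h ▸ Blocks.memLocalIdeal_sum _ _ fun c _ => hno c)
  obtain ⟨g, hg⟩ : ∃ g : T, g = Quotient.out c := ⟨_, rfl⟩
  rw [← hg] at hc
  have hεl : MemLocalRing M (ε g) := Blocks.memLocalRing_blockOnT hb hTfr g
  have hωl : ∀ ψ : IrrCharacter T, MemLocalRing M (centralChar (ψ : T → ℂ) g) := fun ψ =>
    Blocks.memLocalRing_of_isIntegral (Blocks.isIntegral_centralChar ψ g)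
  have hε0 : ¬ MemLocalIdeal M (ε g) := fun h => hc (Blocks.memLocalIdeal_mul_right h (hωl ψ₀))
  have hω0 : ¬ MemLocalIdeal M (centralChar (ψ₀ : T → ℂ) g) := fun h =>
    hc (Blocks.memLocalIdeal_mul_left hεl h)
  have hgH : (g : G) ∈ H := by
    by_contra h
    exact hε0 (by rw [hε, Blocks.blockOnT, Blocks.extendByZero_eq_zero H _ h]; exact Blocks.memLocalIdeal_zero)
  set n : H := ⟨(g : G), hgH⟩ with hn
  set κ : H → ℂ := fun m => Blocks.classInd g (⟨(m : G), hNT m.2⟩ : T) with hκ
  have hκc : IsClassFunction H κ := fun a x =>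
    Blocks.isClassFunction_classInd g ⟨(a : G), hNT a.2⟩ ⟨(x : G), hNT x.2⟩
  -- the central characters at the class
  have hψω : ∀ (ψ : IrrCharacter T) (θ : IrrCharacter H),
      classInner (Blocks.lowFun hNT (ψ : T → ℂ)) (θ : H → ℂ) ≠ 0 →
        centralChar (ψ : T → ℂ) g = Blocks.omega (θ : H → ℂ) κ := fun ψ θ h => by
    rw [← hcomp] at h
    rw [← Blocks.omega_classInd, Blocks.omega_eq_of_constituent h (Blocks.isClassFunction_classInd g)
      fun t ht => by
        simp only [Blocks.classInd]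
        rw [if_neg]
        intro hcj
        obtain ⟨a, ha⟩ := isConj_iff.mp hcj
        refine ht (Subgroup.mem_subgroupOf.mpr ?_)
        rw [← ha]
        exact ‹H.Normal›.conj_mem _ hgH _]
    simp only [Blocks.omega]
    refine congrArg₂ _ (Fintype.sum_equiv e.toEquiv _ _ fun m => rfl) ?_
    show (θ : H → ℂ) (e 1) = (θ : H → ℂ) 1
    rw [map_one]
  -- the class splits into classes of equal size and congruent central characters
  have hindex : ∀ m : H, κ m ≠ 0 →
      (Subgroup.centralizer ({m} : Set H)).index = (Subgroup.centralizer ({n} : Set H)).index ∧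
        ∀ θ ∈ b, MemLocalIdeal M (centralChar (θ : H → ℂ) m - centralChar (θ : H → ℂ) n) := by
    intro m hm
    simp only [hκ, Blocks.classInd, ne_eq, ite_eq_right_iff, one_ne_zero, imp_false, not_not] at hm
    obtain ⟨t, ht⟩ := isConj_iff.mp hm
    set φ : MulAut H := MulAut.conjNormal (t : G)
    have hφ : φ n = m := Subtype.ext (by
      rw [MulAut.conjNormal_apply]
      exact congrArg (Subtype.val) ht)
    have hidx : (Subgroup.centralizer ({m} : Set H)).index =
        (Subgroup.centralizer ({n} : Set H)).index := by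
      rw [Blocks.index_centralizer_eq_card, Blocks.index_centralizer_eq_card]
      refine (Nat.card_congr (φ.toEquiv.subtypeEquiv fun y => ?_)).symm
      rw [← hφ]
      exact ⟨fun h => φ.toMonoidHom.map_isConj h, fun h => by
        simpa using φ.symm.toMonoidHom.map_isConj h⟩
    refine ⟨hidx, fun θ hθ => ?_⟩
    have h2 : centralChar (θ : H → ℂ) m = centralChar (Blocks.conjI (t : G) θ : H → ℂ) n := by
      rw [centralChar, centralChar, hidx, Blocks.coe_conjI, Char.conjBy_apply_one,
        Char.conjBy_apply]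
      congr 3
      exact congrArg _ (Subtype.ext (congrArg Subtype.val ht).symm)
    rw [h2]
    exact Blocks.IsPBlock.sameBlock hb (Blocks.conjI_mem_of_mem hb hTfr t.2 hθ) hθ n
  set K : Finset (ConjClasses ↥H) := {c | κ (Quotient.out c) ≠ 0} with hK
  have hone : ∀ m : H, κ m ≠ 0 → κ m = 1 := fun m hm => by
    simp only [hκ, Blocks.classInd] at hm ⊢
    split_ifs with h
    · rfl
    · exact absurd (if_neg h) hm
  have homega : ∀ θ : IrrCharacter H, Blocks.omega (θ : H → ℂ) κ =
      ∑ c ∈ K, centralChar (θ : H → ℂ) (Quotient.out c) := fun θ => by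
    rw [Blocks.omega_eq_sum_classes θ hκc, ← Finset.sum_filter_ne_zero]
    refine Finset.sum_subset_zero_on_sdiff (fun c hc => ?_) (fun c hc => ?_) fun c hc => ?_
    · exact Finset.mem_filter.mpr ⟨Finset.mem_univ _, left_ne_zero_of_mul (Finset.mem_filter.mp hc).2⟩
    · obtain ⟨h1, h2⟩ := Finset.mem_sdiff.mp hc
      have h3 : κ (Quotient.out c) * centralChar (θ : H → ℂ) (Quotient.out c) = 0 := by
        by_contra h
        exact h2 (Finset.mem_filter.mpr ⟨Finset.mem_univ _, h⟩)
      rwa [hone _ (Finset.mem_filter.mp h1).2, one_mul] at h3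
    · rw [hone _ (left_ne_zero_of_mul (Finset.mem_filter.mp hc).2), one_mul]
  have hcong : ∀ θ ∈ b, MemLocalIdeal M (Blocks.omega (θ : H → ℂ) κ -
      (K.card : ℂ) * centralChar (θ : H → ℂ) n) := fun θ hθ => by
    rw [homega, ← nsmul_eq_mul, ← Finset.sum_const, ← Finset.sum_sub_distrib]
    exact Blocks.memLocalIdeal_sum _ _ fun c hc => (hindex _ (Finset.mem_filter.mp hc).2).2 θ hθ
  have hθl : ∀ θ : IrrCharacter H, MemLocalRing M (centralChar (θ : H → ℂ) n) := fun θ =>
    Blocks.memLocalRing_of_isIntegral (Blocks.isIntegral_centralChar θ n)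
  have hKn : ¬ MemLocalIdeal M ((K.card : ℂ) * centralChar (θ₀ : H → ℂ) n) := fun h =>
    hω0 (by rw [hψω ψ₀ θ₀ hψ₀]; exact (Blocks.memLocalIdeal_iff_of_sub (hcong θ₀ hθ₀)).mpr h)
  have hKp : ¬ p ∣ K.card := fun h => hKn (Blocks.memLocalIdeal_mul_right
    ((Blocks.memLocalIdeal_natCast_iff hM).mpr h) (hθl θ₀))
  have hbn : IsDefectClass M b n := by
    have h1 : blockCoeff b n = ε g := by
      rw [hε, Blocks.blockOnT]
      exact (Blocks.extendByZero_apply H _ n).symm
    refine ⟨h1 ▸ hεl, h1 ▸ hε0, fun θ hθ h => hKn (Blocks.memLocalIdeal_mul_left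
      (Blocks.memLocalRing_natCast _) ?_)⟩
    exact (Blocks.memLocalIdeal_iff_of_sub (Blocks.IsPBlock.sameBlock hb hθ₀ hθ n)).mpr h
  have hsize : (Subgroup.centralizer ({g} : Set T)).index =
      K.card * (Subgroup.centralizer ({n} : Set H)).index := by
    have h1 : Blocks.omega (Blocks.trivIrr H : H → ℂ) κ =
        ((K.card * (Subgroup.centralizer ({n} : Set H)).index : ℕ) : ℂ) := by
      rw [homega]
      refine (Finset.sum_congr rfl (g := fun _ => ((Subgroup.centralizer ({n} : Set H)).index : ℂ))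
        fun c hc => ?_).trans ?_
      · rw [centralChar, (hindex _ (Finset.mem_filter.mp hc).2).1]
        simp [Blocks.trivIrr]
      rw [Finset.sum_const, nsmul_eq_mul, Nat.cast_mul]
    have h2 : Blocks.omega (Blocks.trivIrr H : H → ℂ) κ =
        ((Subgroup.centralizer ({g} : Set T)).index : ℂ) := by
      rw [Blocks.index_centralizer_eq_card, Nat.card_eq_fintype_card, Fintype.card_subtype]
      simp only [Blocks.omega, Blocks.trivIrr, mul_one, div_one]
      rw [Finset.sum_congr rfl fun m _ => show κ m = if IsConj g (⟨(m : G), hNT m.2⟩ : T) then 1 else 0 by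
        simp only [hκ, Blocks.classInd]
        congr, Finset.sum_boole]
      refine congrArg Nat.cast (Finset.card_bij (fun m _ => (⟨(m : G), hNT m.2⟩ : T)) ?_ ?_ ?_)
      · intro m hm; simpa using hm
      · intro a _ a' _ h; exact Subtype.ext (congrArg (fun t : T => (t : G)) h)
      · intro t ht
        simp only [Finset.mem_filter, Finset.mem_univ, true_and] at ht
        obtain ⟨a, ha⟩ := isConj_iff.mp ht
        have htH : (t : G) ∈ H := ha ▸ ‹H.Normal›.conj_mem _ hgH _
        exact ⟨⟨(t : G), htH⟩, by simpa using ht, rfl⟩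
    exact_mod_cast h2.symm.trans h1
  -- the block of `T`
  set U : Set (IrrCharacter T) := {ψ | Blocks.IsOver hNT b (ψ : T → ℂ)} with hU
  have hUu : Blocks.IsBlockUnion M U := fun ψ hψ ψ' hψ' =>
    Blocks.isOver_of_sameBlock hNT hb hTfr hψ hψ'
  have hεU : ε = blockCoeff U := Blocks.eq_of_omega_eq hεc (Blocks.isClassFunction_blockCoeff U)
    fun ψ => by
      rw [Blocks.omega_blockOnT hNT hb hTfr, Blocks.omega_blockCoeff]
      split_ifs with h
      · exact (Blocks.indVec_of_mem (show ψ ∈ U from h)).symm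
      · exact (Blocks.indVec_of_notMem (show ψ ∉ U from h)).symm
  obtain ⟨B, hB, hBU, hBg⟩ : ∃ B, IsPBlock M B ∧ B ⊆ U ∧ ¬ MemLocalIdeal M (blockCoeff B g) := by
    by_contra hno
    push Not at hno
    refine hε0 ?_
    rw [hεU, Blocks.blockCoeff_eq_sum_blocks hUu]
    exact Blocks.memLocalIdeal_sum _ _ fun B hB =>
      hno B (Blocks.mem_blocks.mp (Finset.mem_filter.mp hB).1) (Finset.mem_filter.mp hB).2
  have hBd : IsDefectClass M B g := by
    refine ⟨Blocks.IsPBlock.memLocalRing_blockCoeff hB g, hBg, fun ψ hψ h => ?_⟩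
    obtain ⟨θ, hθ, hcon⟩ := hBU hψ
    rw [hψω ψ θ hcon] at h
    refine hKn (Blocks.memLocalIdeal_mul_left (Blocks.memLocalRing_natCast _) ?_)
    refine (Blocks.memLocalIdeal_iff_of_sub (Blocks.IsPBlock.sameBlock hb hθ₀ hθ n)).mpr ?_
    have h2 := (Blocks.memLocalIdeal_iff_of_sub (hcong θ hθ)).mp h
    have h3 := Blocks.memLocalIdeal_mul_left (Blocks.memLocalRing_natCast_inv hM hKp) h2
    rwa [inv_mul_cancel_left₀ (Nat.cast_ne_zero.mpr fun h0 => hKp (by rw [h0]; exact dvd_zero p))]
      at h3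
  -- the defects
  have hdT := defect_eq_of_class hM hB hBd
  have hdN := defect_eq_of_class hM hb hbn
  have hT1 := congrArg (fun k : ℕ => k.factorization p)
    (Blocks.card_centralizer_mul_index (G := T) g)
  have hN1 := congrArg (fun k : ℕ => k.factorization p)
    (Blocks.card_centralizer_mul_index (G := H) n)
  rw [hsize] at hT1
  simp only [Nat.factorization_mul Nat.card_pos.ne' (mul_ne_zero (fun h : K.card = 0 =>
      hKp (by rw [h]; exact dvd_zero p)) Subgroup.index_ne_zero_of_finite),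
    Nat.factorization_mul (fun h : K.card = 0 => hKp (by rw [h]; exact dvd_zero p))
      Subgroup.index_ne_zero_of_finite, Finsupp.add_apply,
    Nat.factorization_eq_zero_of_not_dvd hKp, zero_add, hdT] at hT1
  simp only [Nat.factorization_mul Nat.card_pos.ne' Subgroup.index_ne_zero_of_finite,
    Finsupp.add_apply, hdN] at hN1
  -- a character of height zero
  obtain ⟨χ, hχ, hχ0⟩ := Blocks.exists_blockHeight_eq_zero hM hB
  obtain ⟨θ, hθ, hcon⟩ := hBU hχ
  have hdeg := Char.clifford_degree N' χ.2 (up θ).2 (by rw [hcomp]; exact hcon)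
  obtain ⟨k, hk⟩ := Char.exists_nat_classInner
    (Char.isCharacter_restrict N' (Char.isCharacter_of_isIrr χ.2))
    (Char.isCharacter_of_isIrr (up θ).2)
  rw [hk, show (up θ : N' → ℂ) 1 = (θ : H → ℂ) (e 1) from rfl, map_one,
    (Blocks.irr_degree_eq χ).1, (Blocks.irr_degree_eq θ).1, Char.card_orbit_eq_index] at hdeg
  set I := Char.inertia N' (up θ : N' → ℂ) with hI
  have hdeg' : charDegree (χ : T → ℂ) = k * (I.index * charDegree (θ : H → ℂ)) := by
    exact_mod_cast hdeg
  have hk0 : k ≠ 0 := fun h => (Blocks.irr_degree_eq χ).2.ne' (by rw [hdeg', h, zero_mul])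
  have hθd := (Blocks.irr_degree_eq θ).2.ne'
  have hv := congrArg (fun j : ℕ => j.factorization p) hdeg'
  simp only [Nat.factorization_mul hk0 (mul_ne_zero Subgroup.index_ne_zero_of_finite hθd),
    Nat.factorization_mul Subgroup.index_ne_zero_of_finite hθd, Finsupp.add_apply] at hv
  obtain ⟨hleB, -, -, -⟩ := Blocks.blockDefect_le_and_degree hM hB
  have hχv := (Blocks.blockHeight_eq_zero_iff hM hB hχ).mp hχ0
  obtain ⟨hleb, -, hallb, -⟩ := Blocks.blockDefect_le_and_degree hM hb
  have hθv := hallb θ hθ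
  have hI0 : I.index.factorization p = 0 := by omega
  refine ⟨θ, hθ, (Blocks.blockHeight_eq_zero_iff hM hb hθ).mpr (by omega),
    I.map T.subtype, Subgroup.map_subtype_le I, fun x => ?_, ?_⟩
  · rw [Subgroup.mem_map]
    constructor
    · rintro ⟨t, ht, rfl⟩
      refine ⟨t.2, fun h h' e' => ?_⟩
      have h2 := congrFun ((Char.mem_inertia N').mp ht) ⟨⟨(h : G), hNT h.2⟩, h.2⟩
      simp only [Char.conjBy_apply] at h2
      refine Eq.trans (congrArg _ (Subtype.ext ?_)) (h2.trans (congrArg _ (Subtype.ext rfl)))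
      exact e'.trans rfl
    · rintro ⟨hx, hh⟩
      refine ⟨⟨x, hx⟩, (Char.mem_inertia N').mpr (funext fun m => ?_), rfl⟩
      rw [Char.conjBy_apply]
      exact hh (e m) _ rfl
  · have hrel : (I.map T.subtype).relIndex T = I.index := by
      rw [Subgroup.relIndex, Subgroup.subgroupOf,
        Subgroup.comap_map_eq_self_of_injective (Subgroup.subtype_injective T)]
    rw [hrel]
    intro hd
    exact (Nat.Prime.factorization_pos_of_dvd (Fact.out : p.Prime) Subgroup.index_ne_zero_of_finite hd).ne'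
      hI0

end Cfsg.Agent.S4723
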