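import Cfsg.Statements.S4725
import Cfsg.Agent.Lib.Blocks.MainThird
import Cfsg.Agent.Lib.Blocks.BrauerFeit

set_option autoImplicit false
open Cfsg
open scoped CfsgLib.Char

namespace Cfsg.Agent.S4725

/-- Let p be a prime, M a maximal ideal of the algebraic integers containing p, H a subgroup of the finite group G, and b a p-block of H inducing the p-block B of G, with b and B of the same defect. Then for every height-zero ζ ∈ b there is a height-zero χ ∈ B whose multiplicity in the character induced from ζ is not divisible by p. -/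
theorem result {G : Type*} [Group G] [Fintype G] (p : ℕ) [Fact p.Prime] (M : Ideal Cfsg.AlgInt) (hM : Cfsg.IsPModular p M) (H : Subgroup G) (b : Set (Cfsg.IrrCharacter ↥H)) (B : Set (Cfsg.IrrCharacter G)) (hind : Cfsg.IsInducedBlock M H b B) (hdef : Cfsg.blockDefect p b = Cfsg.blockDefect p B) (ζ : Cfsg.IrrCharacter ↥H) (hζ : ζ ∈ b) (hζ0 : Cfsg.blockHeight p b (ζ : ↥H → ℂ) = 0) : ∃ χ ∈ B, Cfsg.blockHeight p B (χ : G → ℂ) = 0 ∧ ∃ a : ℕ, Cfsg.classInner (Cfsg.indFun H (ζ : ↥H → ℂ)) (χ : G → ℂ) = (a : ℂ) ∧ ¬ p ∣ a := by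
  classical
  have := CfsgLib.Blocks.isPrime_of_isPModular hM
  have : Fintype H := Fintype.ofFinite H
  have hB := hind.2.1
  obtain ⟨hdle, -, hall, χ₀, hχ₀, -⟩ := CfsgLib.Blocks.blockDefect_le_and_degree hM hB
  obtain ⟨hbdle, -, -, -⟩ := CfsgLib.Blocks.blockDefect_le_and_degree hM hind.1
  have hζdeg := (CfsgLib.Blocks.blockHeight_eq_zero_iff hM hind.1 hζ).mp hζ0
  rw [hdef] at hζdeg hbdle
  choose a ha using fun χ : IrrCharacter G => CfsgLib.Char.exists_nat_classInner
    (CfsgLib.Char.isCharacter_indFun H (CfsgLib.Char.isCharacter_of_isIrr ζ.2))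
    (CfsgLib.Char.isCharacter_of_isIrr χ.2)
  set s : Finset (IrrCharacter G) := {χ | χ ∈ B}
  set u := CfsgLib.Blocks.omega (ζ : H → ℂ) (fun h : H => blockCoeff B (h : G))
  have hu : MemLocalIdeal M (u - 1) := by
    have h := CfsgLib.Blocks.IsInducedBlock.omega_congr hind hζ hχ₀
      (CfsgLib.Blocks.isClassFunction_blockCoeff B)
      (fun g => CfsgLib.Blocks.IsPBlock.memLocalRing_blockCoeff hB g)
    rwa [CfsgLib.Blocks.omega_blockCoeff, CfsgLib.Blocks.indVec_of_mem hχ₀] at h
  set N : ℕ := ∑ χ ∈ s, a χ * charDegree (χ : G → ℂ)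
  set D : ℕ := H.index * charDegree (ζ : H → ℂ)
  have hD0 : D ≠ 0 :=
    mul_ne_zero H.index_ne_zero_of_finite (CfsgLib.Blocks.irr_degree_eq ζ).2.ne'
  have hN : (N : ℂ) = (D : ℂ) * u := by
    have hsum : ∀ h : H, (Nat.card G : ℂ) * blockCoeff B (h : G) =
        ∑ χ ∈ s, (χ : G → ℂ) 1 * (starRingEnd ℂ) ((χ : G → ℂ) (h : G)) := by
      intro h
      rw [blockCoeff, ← mul_assoc, mul_inv_cancel₀ (Nat.cast_ne_zero.mpr Nat.card_pos.ne'), one_mul]
      exact finsum_mem_eq_sum_of_inter_support_eq _ (by ext χ; simp [s])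
    have h1 : ∑ χ ∈ s, (χ : G → ℂ) 1 * classInner (ζ : H → ℂ) (fun h : H => (χ : G → ℂ) h) =
        (H.index : ℂ) * ∑ h : H, blockCoeff B (h : G) * (ζ : H → ℂ) h := by
      simp only [classInner, ← mul_assoc, Finset.mul_sum]
      rw [Finset.sum_comm]
      refine Finset.sum_congr rfl fun h _ => ?_
      have hH : (Nat.card H : ℂ) ≠ 0 := Nat.cast_ne_zero.mpr Nat.card_pos.ne'
      have hG : (H.index : ℂ) = (Nat.card H : ℂ)⁻¹ * (Nat.card G : ℂ) := by
        rw [eq_inv_mul_iff_mul_eq₀ hH]; exact_mod_cast H.card_mul_index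
      rw [hG, mul_assoc _ (Nat.card G : ℂ), hsum h, Finset.mul_sum, Finset.sum_mul]
      exact Finset.sum_congr rfl fun χ _ => by ring
    simp only [N, D, u, CfsgLib.Blocks.omega]
    push_cast
    rw [← (CfsgLib.Blocks.irr_degree_eq ζ).1, mul_assoc,
      mul_div_cancel₀ _ (CfsgLib.Char.irr_degree_ne_zero ζ.2), ← h1]
    refine Finset.sum_congr rfl fun χ _ => ?_
    rw [← ha χ, CfsgLib.Char.frobenius_reciprocity H _ (CfsgLib.Blocks.irr_classFunction χ),
      (CfsgLib.Blocks.irr_degree_eq χ).1, mul_comm]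
  set e := (Nat.card G).factorization p - blockDefect p B with he
  have hDfac : D.factorization p = e := by
    have hG := congrArg (fun n => n.factorization p) H.card_mul_index
    simp only [Nat.factorization_mul Nat.card_pos.ne' H.index_ne_zero_of_finite,
      Finsupp.add_apply] at hG
    rw [Nat.factorization_mul H.index_ne_zero_of_finite (CfsgLib.Blocks.irr_degree_eq ζ).2.ne',
      Finsupp.add_apply, hζdeg, he]
    omega
  by_contra hcon
  push Not at hcon
  have hdvd : p ^ (e + 1) ∣ N := by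
    refine Finset.dvd_sum fun χ hχ => ?_
    have hχB : χ ∈ B := (Finset.mem_filter.mp hχ).2
    by_cases h0 : blockHeight p B (χ : G → ℂ) = 0
    · rw [pow_succ, mul_comm (a χ)]
      exact mul_dvd_mul ((Nat.pow_dvd_pow p (hall χ hχB)).trans (Nat.ordProj_dvd _ _))
        (hcon χ hχB h0 (a χ) (ha χ))
    · have hne : (charDegree (χ : G → ℂ)).factorization p ≠ e := fun h =>
        h0 ((CfsgLib.Blocks.blockHeight_eq_zero_iff hM hB hχB).mpr h)
      have hle := hall χ hχB
      exact Dvd.dvd.mul_left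
        ((Nat.pow_dvd_pow p (show e + 1 ≤ _ by omega)).trans (Nat.ordProj_dvd _ _)) _
  obtain ⟨m, hm⟩ := hdvd
  refine CfsgLib.Blocks.not_memLocalIdeal_one (M := M) ?_
  have huI : MemLocalIdeal M u := by
    have hu2 : u = (p : ℂ) * (((p ^ e * m : ℕ) : ℂ) / (D : ℂ)) := by
      have h : u = (N : ℂ) / (D : ℂ) := by
        rw [hN, mul_div_cancel_left₀]; exact_mod_cast hD0
      rw [h, hm]
      push_cast
      ring
    rw [hu2]
    refine CfsgLib.Blocks.memLocalIdeal_mul_right
      ((CfsgLib.Blocks.memLocalIdeal_natCast_iff hM).mpr dvd_rfl) ?_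
    rcases eq_or_ne m 0 with rfl | hm0
    · simpa using CfsgLib.Blocks.memLocalRing_zero
    · refine CfsgLib.Blocks.memLocalRing_natCast_div hM hD0 ?_
      rw [hDfac, Nat.factorization_mul (pow_ne_zero e hM.1.ne_zero) hm0, Finsupp.add_apply,
        Nat.Prime.factorization_pow hM.1, Finsupp.single_eq_same]
      omega
  simpa using CfsgLib.Blocks.memLocalIdeal_sub huI hu

end Cfsg.Agent.S4725
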