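import Cfsg.Statements.S4726
import Cfsg.Agent.Lib.Blocks.DefectZeroCount
import Cfsg.Agent.Lib.Blocks.CoreKernel
import Cfsg.Agent.Lib.Blocks.PairTransport
import Cfsg.Agent.Lib.Blocks.BlockSaturation
import Cfsg.Agent.Lib.Blocks.MaxCriterion
-- import your own Cfsg.Agent.* helpers here

set_option autoImplicit false
open Cfsg

namespace Cfsg.Agent.S4726

open Cfsg
open CfsgLib CfsgLib.Blocks
open scoped CfsgLib.Char


/-- Let p be a prime, M a maximal ideal of the algebraic integers containing p, H a subgroup of the finite group G and b a p-block of H with defect group D₀ such that C_G(D₀) ≤ H. Then b induces a block of G, and for every block B of G induced by b there is a defect group D of B with Z(D) ≤ Z(D₀) ≤ D₀ ≤ D (as subgroups of G). In particular, if the defect groups of B are abelian then D₀ is a defect group of B. -/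
theorem result {G : Type*} [Group G] [Finite G] (p : ℕ) [Fact p.Prime] (M : Ideal Cfsg.AlgInt) (hM : Cfsg.IsPModular p M) (H : Subgroup G) (b : Set (Cfsg.IrrCharacter ↥H)) (hb : Cfsg.IsPBlock M b) (D₀ : Subgroup ↥H) (hD₀ : Cfsg.IsDefectGroup p M b D₀) (hC : Subgroup.centralizer ((D₀.map H.subtype : Subgroup G) : Set G) ≤ H) : Cfsg.InducedBlockDefined M H b ∧ ∀ B : Set (Cfsg.IrrCharacter G), Cfsg.IsInducedBlock M H b B → (∃ D : Subgroup G, Cfsg.IsDefectGroup p M B D ∧ (Subgroup.center ↥D).map D.subtype ≤ ((Subgroup.center ↥D₀).map D₀.subtype).map H.subtype ∧ ((Subgroup.center ↥D₀).map D₀.subtype).map H.subtype ≤ D₀.map H.subtype ∧ D₀.map H.subtype ≤ D) ∧ (∀ D : Subgroup G, Cfsg.IsDefectGroup p M B D → IsMulCommutative ↥D → Cfsg.IsDefectGroup p M B (D₀.map H.subtype)) := by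
  classical
  have := Fintype.ofFinite G
  have := Fintype.ofFinite H
  have := isPrime_of_isPModular hM
  have hp : p.Prime := hM.1
  obtain ⟨e, he⟩ := exists_pair_of_defectGroup hM hb hD₀
  have hD₀p : IsPGroup p D₀ := he.1.1
  have := Fintype.ofFinite (blockT D₀ e)
  obtain ⟨F, hF, hFc⟩ := exists_blockT_block hM he.1
  have hdefe := ((isDefectGroup_stab_iff hM hD₀p he.1.2 le_blockT centralizer_le_blockT
    blockT_le_normalizer hF hFc).mp ((exists_maximal_iff hM he.1 (fun g => mem_blockT) hF hFc).mp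
      ⟨b, isMaximalBrauerPair_of_defectGroup hM hD₀ he⟩)).1
  have he' : IsBrauerPair p M (D₀.map H.subtype) (upBlock D₀ hC e) :=
    ⟨hD₀p.map _, isPBlock_upBlock hC he.1.2⟩
  obtain ⟨B₀, hB₀, -⟩ := existsUnique_isBrauerPairOf hM he'
  have hind : IsInducedBlock M H b B₀ := by
    refine ⟨hb, hB₀.2.1, fun ξ hξ χ hχ g => ?_⟩
    obtain ⟨η, hη⟩ := IsPBlock.nonempty he.1.2
    have hcls : IsClassFunction H (fun h : H => classInd g (h : G)) := fun a z =>
      isClassFunction_classInd g (a : G) (z : G)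
    have hl : ∀ h : H, MemLocalRing M (classInd g (h : G)) := fun h => memLocalRing_classInd g _
    have h1 := res_omega_eq_res_brauerOmega hM he hη hξ hcls hl
    have h2 := res_omega_eq_res_brauerOmega hM hB₀
      (show irrEquiv (centEquiv D₀ hC) η ∈ upBlock D₀ hC e from ⟨η, hη, rfl⟩) hχ
      (isClassFunction_classInd g) (memLocalRing_classInd g)
    rw [brauerOmega_upBlock hC (β' := fun h : H => classInd g (h : G)) (fun _ => rfl) η, ← h1,
      omega_classInd, res_eq_iff (memLocalRing_centralChar χ g)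
        (memLocalRing_omega ξ hcls hl)] at h2
    rw [inducedCentralChar_eq_omega]
    simpa using memLocalIdeal_neg h2
  refine ⟨⟨B₀, hind⟩, fun B hB => ?_⟩
  obtain rfl := IsInducedBlock.unique hind hB
  obtain ⟨⟨P, g₀⟩, hmax, hle⟩ := exists_maximal_pair_above hM hB₀
  have hP : IsDefectGroup p M B₀ P := isDefectGroup_of_maximal hM hmax
  have hPp : IsPGroup p P := hmax.1.1.1
  have hDP : D₀.map H.subtype ≤ P := SubpairLE.le hle
  -- the centre of `P`
  have hcen : ∀ x ∈ P, (∀ w ∈ P, x * w = w * x) →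
      x ∈ D₀.map H.subtype := by
    intro x hx hxc
    have hxC : x ∈ Subgroup.centralizer ((D₀.map H.subtype : Subgroup G) : Set G) := fun w hw =>
      (hxc w (hDP hw)).symm
    set R := D₀.map H.subtype ⊔ Subgroup.zpowers x with hR
    have hRN : R ≤ Subgroup.normalizer ((D₀.map H.subtype : Subgroup G) : Set G) :=
      sup_le Subgroup.le_normalizer
        (Subgroup.zpowers_le.mpr (Subgroup.centralizer_le_normalizer _ hxC))
    obtain ⟨g, hg⟩ := exists_normalSubpair_between hM hmax.1.1 hle (le_sup_left : _ ≤ R)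
      (sup_le hDP (Subgroup.zpowers_le.mpr hx)) hRN
    obtain ⟨ξ, hξ⟩ := IsPBlock.nonempty hg.2.1.2
    obtain ⟨c, hcR, hcu⟩ := exists_support_of_res_eq_one
      (isStableFun_subgroupBlockCoeff le_sup_left he'.2 hg.2.2.2.2.1) (IsNormalSubpair.res_eq_one hg hξ)
    have hcD : c ∈ Subgroup.centralizer ((D₀.map H.subtype : Subgroup G) : Set G) :=
      Subgroup.centralizer_le (SetLike.coe_subset_coe.mpr le_sup_left) hcR
    rw [subgroupBlockCoeff_eq, show extendByZero _ (blockCoeff (upBlock D₀ hC e)) c =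
      blockCoeff (upBlock D₀ hC e) ⟨c, hcD⟩ from extendByZero_apply _ _ ⟨c, hcD⟩] at hcu
    have := Fintype.ofFinite (Subgroup.centralizer ((D₀.map H.subtype : Subgroup G) : Set G))
    obtain ⟨E, hE⟩ := exists_isDefectGroup hM he'.2
    let Z := (D₀.map H.subtype).subgroupOf
      (Subgroup.centralizer ((D₀.map H.subtype : Subgroup G) : Set G))
    have hZp : IsPGroup p Z := (hD₀p.map _).comap_of_injective _ (Subgroup.subtype_injective _)
    haveI : Z.Normal := ⟨fun z hz y => by
      have h : y * z * y⁻¹ = z := Subtype.ext (by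
        show (y : G) * (z : G) * (y : G)⁻¹ = z
        rw [← y.2 (z : G) (Subgroup.mem_subgroupOf.mp hz), mul_inv_cancel_right])
      rwa [h]⟩
    have hZE := IsDefectGroup.normal_le hM he'.2 hE Z hZp
    have hcard : Nat.card Z =
        Nat.card ↥(D₀ ⊓ Subgroup.centralizer (D₀ : Set H)) := by
      rw [← Subgroup.card_map_of_injective (Subgroup.subtype_injective _),
        Subgroup.subgroupOf_map_subtype,
        ← Subgroup.card_map_of_injective (f := H.subtype) Subtype.val_injective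
          (K := D₀ ⊓ Subgroup.centralizer (D₀ : Set H))]
      congr 2
      ext y
      constructor
      · rintro ⟨⟨d, hd, rfl⟩, hy⟩
        exact ⟨d, ⟨hd, fun w hw => Subtype.ext (hy _ ⟨w, hw, rfl⟩)⟩, rfl⟩
      · rintro ⟨d, ⟨hd, hdc⟩, rfl⟩
        refine ⟨⟨d, hd, rfl⟩, ?_⟩
        rintro _ ⟨w, hw, rfl⟩
        exact congrArg Subtype.val (hdc w hw)
    have hEZ : Z = E := Subgroup.eq_of_le_of_card_ge hZE (le_of_eq (by
      obtain ⟨k, hk⟩ := IsPGroup.iff_card.mp hZp
      rw [IsDefectGroup.card_eq hM he'.2 hE, upBlock, blockDefect_image_irrEquiv, hdefe, ← hcard,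
        hk, hp.factorization_pow, Finsupp.single_eq_same]))
    obtain ⟨j, hj⟩ := IsPGroup.iff_orderOf.mp hPp ⟨x, hx⟩
    rw [← Subgroup.orderOf_coe] at hj
    obtain ⟨y, hy⟩ := IsDefectGroup.exists_le_conj_of_support hM he'.2 hE hcu
      (Q := Subgroup.zpowers ⟨x, hxC⟩)
      (IsPGroup.of_card (n := j) (by rw [Nat.card_zpowers, ← Subgroup.orderOf_coe]; exact hj))
      (Subgroup.zpowers_le.mpr (Subgroup.mem_centralizer_singleton_iff.mpr (Subtype.ext (by
        show x * c = c * x
        exact hcR x (Subgroup.mem_sup_right (Subgroup.mem_zpowers x))))))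
    obtain ⟨z, hz, hzx⟩ := hy (Subgroup.mem_zpowers _)
    rw [← hEZ] at hz
    have h3 : y * z * y⁻¹ = (⟨x, hxC⟩ :
        Subgroup.centralizer ((D₀.map H.subtype : Subgroup G) : Set G)) := hzx
    have h4 : (⟨x, hxC⟩ : Subgroup.centralizer ((D₀.map H.subtype : Subgroup G) : Set G)) ∈ Z :=
      h3 ▸ Subgroup.Normal.conj_mem inferInstance z hz y
    exact Subgroup.mem_subgroupOf.mp h4
  refine ⟨⟨P, hP, ?_, Subgroup.map_mono (Subgroup.map_subtype_le _), hDP⟩, fun D hD hab => ?_⟩
  · rintro _ ⟨w, hw, rfl⟩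
    have hw' : ∀ v ∈ P, (w : G) * v = v * (w : G) := fun v hv =>
      (congrArg Subtype.val (Subgroup.mem_center_iff.mp hw ⟨v, hv⟩)).symm
    obtain ⟨d, hd, hdw⟩ := hcen w w.2 hw'
    refine ⟨d, ⟨⟨d, hd⟩, Subgroup.mem_center_iff.mpr fun v => Subtype.ext (Subtype.ext ?_), rfl⟩, hdw⟩
    show ((v : H) : G) * (d : G) = (d : G) * ((v : H) : G)
    have := hw' _ (hDP ⟨v, v.2, rfl⟩)
    change (d : G) = (w : G) at hdw
    rw [hdw]
    exact this.symm
  · obtain ⟨y, rfl⟩ := IsDefectGroup.exists_conj_eq hM hB.2.1 hD hP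
    have hcomm : ∀ u ∈ D.map (MulAut.conj y).toMonoidHom, ∀ v ∈ D.map (MulAut.conj y).toMonoidHom,
        u * v = v * u := by
      rintro _ ⟨u, hu, rfl⟩ _ ⟨v, hv, rfl⟩
      have h : (⟨u, hu⟩ : D) * ⟨v, hv⟩ = ⟨v, hv⟩ * ⟨u, hu⟩ := hab.is_comm.comm _ _
      have h' : u * v = v * u := congrArg Subtype.val h
      rw [← map_mul, h', map_mul]
    rw [le_antisymm hDP fun u hu => hcen u hu (fun v hv => hcomm u hu v hv)]
    exact hP


end Cfsg.Agent.S4726
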