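import Cfsg.Statements.S4727
import Cfsg.Agent.Lib.Blocks.CoreKernel
import Cfsg.Agent.Lib.Blocks.Sections

set_option autoImplicit false
open Cfsg
open scoped CfsgLib.Char

namespace Cfsg.Agent.S4727

/-- Let p be a prime, π a set of primes containing p, M a maximal ideal of the algebraic integers containing p, and B a p-block of the finite group G with defect group D; let B₁ be the block of N_G(D) with defect group D that induces B (the Brauer correspondent of B). Suppose every element of O_π'(N_G(D)), the largest normal subgroup of N_G(D) whose order has no prime divisor in π, lies in the kernel of every member of B₁. If y is a p-element whose centralizer C has a normal Hall π'-subgroup (every element of C whose order has no prime divisor in π lies in O_π'(C)), then χ(y x) = χ(y) for every χ ∈ B and every x ∈ C whose order has no prime divisor in π. -/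
theorem result {G : Type*} [Group G] [Finite G] (p : ℕ) [Fact p.Prime] (M : Ideal Cfsg.AlgInt) (hM : Cfsg.IsPModular p M) (π : Set ℕ) (hpπ : p ∈ π) (B : Set (Cfsg.IrrCharacter G)) (hB : Cfsg.IsPBlock M B) (D : Subgroup G) (hBD : Cfsg.IsDefectGroup p M B D) (B₁ : Set (Cfsg.IrrCharacter ↥(Subgroup.normalizer (D : Set G)))) (hB₁ : Cfsg.IsInducedBlock M (Subgroup.normalizer (D : Set G)) B₁ B) (hB₁D : Cfsg.IsDefectGroup p M B₁ (D.subgroupOf (Subgroup.normalizer (D : Set G)))) (hker : ∀ n : ↥(Subgroup.normalizer (D : Set G)), n ∈ Cfsg.piCore {q | q ∉ π} ↥(Subgroup.normalizer (D : Set G)) → n ∈ Cfsg.blockKer B₁) (y : G) (hy : ∃ k : ℕ, orderOf y = p ^ k) (hC : ∀ x : ↥(Subgroup.centralizer ({y} : Set G)), (∀ q : ℕ, q.Prime → q ∣ orderOf x → q ∉ π) → x ∈ Cfsg.piCore {q | q ∉ π} ↥(Subgroup.centralizer ({y} : Set G))) : ∀ χ ∈ B, ∀ x : G, x ∈ Subgroup.centralizer ({y} : Set G) → (∀ q : ℕ, q.Prime → q ∣ orderOf x → q ∉ π) → (χ : G → ℂ) (y * x) = (χ : G → ℂ) y := by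
  classical
  have : Fintype G := Fintype.ofFinite G
  have := CfsgLib.Blocks.isPrime_of_isPModular hM
  have : Fintype (Subgroup.normalizer (D : Set G)) := Fintype.ofFinite _
  have : Fintype (Subgroup.centralizer ({y} : Set G)) := Fintype.ofFinite _
  have hpρ : p ∉ {q : ℕ | q ∉ π} := fun h => h hpπ
  intro χ hχ x hx hxπ
  set z : Subgroup.centralizer ({y} : Set G) := ⟨x, hx⟩ with hz
  have hzord : orderOf z = orderOf x := by rw [hz]; exact Subgroup.orderOf_mk x hx
  have hzcore := hC z (fun q hq hd => hxπ q hq (hzord ▸ hd))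
  have hzreg : ¬ p ∣ orderOf z := fun h => hxπ p hM.1 (hzord ▸ h) hpπ
  have hker' : ∀ b : Set (IrrCharacter (Subgroup.centralizer ({y} : Set G))),
      IsInducedBlock M (Subgroup.centralizer ({y} : Set G)) b B → z ∈ blockKer b := by
    intro b hb
    obtain ⟨D₀, hD₀⟩ := CfsgLib.Blocks.exists_isDefectGroup (p := p) hM hb.1
    set w : Subgroup.centralizer ({y} : Set G) :=
      ⟨y, Subgroup.mem_centralizer_singleton_iff.mpr rfl⟩
    have hcomm : ∀ c : Subgroup.centralizer ({y} : Set G), w * c = c * w := fun c =>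
      Subtype.ext (Subgroup.mem_centralizer_singleton_iff.mp c.2).symm
    have : (Subgroup.zpowers w).Normal := ⟨fun n hn g => by
      obtain ⟨k, rfl⟩ := Subgroup.mem_zpowers_iff.mp hn
      rw [(Commute.zpow_right (show Commute g w from (hcomm g).symm) k).eq, mul_assoc,
        mul_inv_cancel, mul_one]
      exact ⟨k, rfl⟩⟩
    obtain ⟨k, hk⟩ := hy
    have hwp : IsPGroup p (Subgroup.zpowers w) := IsPGroup.of_card (n := k) (by
      rw [Nat.card_zpowers, ← hk, ← Subgroup.orderOf_coe])
    have hwD : w ∈ D₀ := CfsgLib.Blocks.IsDefectGroup.normal_le hM hb.1 hD₀ (Subgroup.zpowers w) hwp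
      (Subgroup.mem_zpowers w)
    have hCy : Subgroup.centralizer ((D₀.map (Subgroup.centralizer ({y} : Set G)).subtype : Subgroup G) : Set G) ≤
        Subgroup.centralizer ({y} : Set G) := fun g hg =>
      Subgroup.mem_centralizer_singleton_iff.mpr
        (Subgroup.mem_centralizer_iff.mp hg y ⟨w, hwD, rfl⟩).symm
    obtain ⟨f, hf⟩ := CfsgLib.Blocks.exists_pair_of_defectGroup hM hb.1 hD₀
    exact CfsgLib.Blocks.piCore_le_blockKer hM hpρ hf ((CfsgLib.Blocks.coreTrivial_upBlock hCy f).mp
      (CfsgLib.Blocks.coreTrivial_of_correspondent hM hpρ hBD hB₁ hker (a := ⟨_, _⟩)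
        (CfsgLib.Blocks.isBrauerPairOf_upBlock hM hb hCy hf))) z hzcore
  set θ : Subgroup.centralizer ({y} : Set G) → ℂ := fun c => (χ : G → ℂ) (y * (c : G))
  have hθ : IsClassFunction (Subgroup.centralizer ({y} : Set G)) θ :=
    CfsgLib.Blocks.isClassFunction_translate (CfsgLib.Blocks.irr_classFunction χ)
  have hexp : ∀ c : Subgroup.centralizer ({y} : Set G),
      θ c = ∑ b ∈ CfsgLib.Blocks.blocks M (Subgroup.centralizer ({y} : Set G)), blockPart b θ c :=
    fun c => by
      rw [← CfsgLib.Blocks.sum_blockCoeff_mul (M := M) θ c]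
      exact Finset.sum_congr rfl fun b _ => (CfsgLib.Blocks.blockPart_eq_sum b hθ c).symm
  have hsame : θ z = θ 1 := by
    rw [hexp z, hexp 1]
    refine Finset.sum_congr rfl fun b hb => ?_
    by_cases hi : IsInducedBlock M (Subgroup.centralizer ({y} : Set G)) b B
    · rw [CfsgLib.Blocks.blockPart_eq_filter, CfsgLib.Blocks.blockPart_eq_filter]
      exact Finset.sum_congr rfl fun η hη => by
        rw [hker' b hi η (Finset.mem_filter.mp hη).2]
    · rw [CfsgLib.Blocks.blockPart_eq_zero_of_not_induced hM hy hB hχ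
        (CfsgLib.Blocks.mem_blocks.mp hb) hi hzreg,
        CfsgLib.Blocks.blockPart_eq_zero_of_not_induced hM hy hB hχ
        (CfsgLib.Blocks.mem_blocks.mp hb) hi (by rw [orderOf_one, Nat.dvd_one]; exact hM.1.ne_one)]
  simpa [θ, hz] using hsame

end Cfsg.Agent.S4727
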