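import Cfsg.Statements.S4728
import Cfsg.Agent.Lib.Blocks.CoreKernel

set_option autoImplicit false
open Cfsg
open scoped CfsgLib.Char

namespace Cfsg.Agent.S4728

/-- Let p be a prime, π a set of primes containing p, M a maximal ideal of the algebraic integers containing p, B a p-block of the finite group G with defect group D, and B₁ the block of N_G(D) with defect group D inducing B. Let D₀ be a p-subgroup, H₀ = D₀·C_G(D₀), and b a block of H₀ inducing B. Write O_π'(X) for the largest normal subgroup of X whose order has no prime divisor in π. Suppose that O_π'(C_G(D₀)) is a normal Hall π'-subgroup of C_G(D₀) (it contains every element of C_G(D₀) whose order has no prime divisor in π) and that every element of it lies in the kernel of every member of b. Then every element of O_π'(N_G(D)) lies in the kernel of every member of B₁. -/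
theorem result {G : Type*} [Group G] [Finite G] (p : ℕ) [Fact p.Prime] (M : Ideal Cfsg.AlgInt) (hM : Cfsg.IsPModular p M) (π : Set ℕ) (hpπ : p ∈ π) (B : Set (Cfsg.IrrCharacter G)) (hB : Cfsg.IsPBlock M B) (D : Subgroup G) (hBD : Cfsg.IsDefectGroup p M B D) (B₁ : Set (Cfsg.IrrCharacter ↥(Subgroup.normalizer (D : Set G)))) (hB₁ : Cfsg.IsInducedBlock M (Subgroup.normalizer (D : Set G)) B₁ B) (hB₁D : Cfsg.IsDefectGroup p M B₁ (D.subgroupOf (Subgroup.normalizer (D : Set G)))) (D₀ : Subgroup G) (hD₀ : IsPGroup p D₀) (H₀ : Subgroup G) (hH₀ : H₀ = D₀ ⊔ Subgroup.centralizer (D₀ : Set G)) (b : Set (Cfsg.IrrCharacter ↥H₀)) (hb : Cfsg.IsInducedBlock M H₀ b B) (hcompl : ∀ x : ↥(Subgroup.centralizer (D₀ : Set G)), (∀ q : ℕ, q.Prime → q ∣ orderOf x → q ∉ π) → x ∈ Cfsg.piCore {q | q ∉ π} ↥(Subgroup.centralizer (D₀ : Set G))) (hkerb : ∀ x : ↥(Subgroup.centralizer (D₀ : Set G)), x ∈ Cfsg.piCore {q | q ∉ π} ↥(Subgroup.centralizer (D₀ :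 Set G)) → ∀ θ ∈ b, ∀ h : ↥H₀, (h : G) = (x : G) → (θ : ↥H₀ → ℂ) h = (θ : ↥H₀ → ℂ) 1) : ∀ n : ↥(Subgroup.normalizer (D : Set G)), n ∈ Cfsg.piCore {q | q ∉ π} ↥(Subgroup.normalizer (D : Set G)) → n ∈ Cfsg.blockKer B₁ := by
  classical
  have : Fintype G := Fintype.ofFinite G
  have := CfsgLib.Blocks.isPrime_of_isPModular hM
  have hpρ : p ∉ {q : ℕ | q ∉ π} := fun h => h hpπ
  have : Fintype (Subgroup.normalizer (D : Set G)) := Fintype.ofFinite _
  have : Fintype H₀ := Fintype.ofFinite _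
  obtain ⟨A, hAdef⟩ : ∃ A, A = D₀.subgroupOf H₀ := ⟨_, rfl⟩
  have hD₀H : D₀ ≤ H₀ := hH₀ ▸ le_sup_left
  have hH₀N : H₀ ≤ Subgroup.normalizer (D₀ : Set G) :=
    hH₀ ▸ sup_le Subgroup.le_normalizer (Subgroup.centralizer_le_normalizer _)
  have hAD : A.map H₀.subtype = D₀ := hAdef ▸ Subgroup.map_subgroupOf_eq_of_le hD₀H
  have : A.Normal := hAdef ▸ (Subgroup.normal_subgroupOf_iff_le_normalizer hD₀H).mpr hH₀N
  have hAp : IsPGroup p A := by
    rw [hAdef]
    exact hD₀.of_equiv (Subgroup.subgroupOfEquivOfLe hD₀H).symm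
  obtain ⟨f, hf⟩ := CfsgLib.Blocks.exists_pair_of_normal hM A hAp hb.1
  have hA : Subgroup.centralizer ((A.map H₀.subtype : Subgroup G) : Set G) ≤ H₀ := by
    rw [hAD, hH₀]; exact le_sup_right
  have hpairG := CfsgLib.Blocks.isBrauerPairOf_upBlock hM hb hA hf
  have hcast : ∀ (P : Subgroup G), P = D₀ → CfsgLib.Blocks.RhoClosed {q | q ∉ π}
      (Subgroup.centralizer (P : Set G)) ∧ ∀ c : Subgroup.centralizer (P : Set G),
        c ∈ piCore {q | q ∉ π} (Subgroup.centralizer (P : Set G)) → ∀ θ ∈ b, ∀ h : H₀,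
          (h : G) = (c : G) → (θ : H₀ → ℂ) h = (θ : H₀ → ℂ) 1 := by
    rintro P rfl
    exact ⟨hcompl, hkerb⟩
  obtain ⟨hcl, hkb⟩ := hcast _ hAD
  have hft : CfsgLib.Blocks.CoreTrivial {q | q ∉ π} (⟨A, f⟩ : BrauerPairIdx H₀) :=
    CfsgLib.Blocks.coreTrivial_of_le_blockKer hM hpρ hf fun c hc θ hθ =>
      hkb _ (CfsgLib.Blocks.piCore_map_equiv (CfsgLib.Blocks.centEquiv A hA) hc) θ hθ (c : H₀) rfl
  obtain ⟨a, hmax, hle⟩ := CfsgLib.Blocks.exists_maximal_pair_above hM hpairG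
  have ha : CfsgLib.Blocks.CoreTrivial {q | q ∉ π} a := CfsgLib.Blocks.RhoClosed.subpair hM hpρ hle hcl
    ((CfsgLib.Blocks.coreTrivial_upBlock hA f).mpr hft)
  obtain ⟨A₁, hA₁def⟩ : ∃ A₁, A₁ = D.subgroupOf (Subgroup.normalizer (D : Set G)) := ⟨_, rfl⟩
  obtain ⟨f₁, hf₁⟩ := CfsgLib.Blocks.exists_pair_of_defectGroup hM hB₁.1 (hA₁def.symm ▸ hB₁D : IsDefectGroup p M B₁ A₁)
  have hA₁ : Subgroup.centralizer ((A₁.map (Subgroup.normalizer (D : Set G)).subtype : Subgroup G) : Set G) ≤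
      Subgroup.normalizer (D : Set G) := by
    rw [hA₁def, Subgroup.map_subgroupOf_eq_of_le Subgroup.le_normalizer]
    exact Subgroup.centralizer_le_normalizer _
  exact CfsgLib.Blocks.piCore_le_blockKer hM hpρ hf₁ ((CfsgLib.Blocks.coreTrivial_upBlock hA₁ f₁).mp
    (CfsgLib.Blocks.coreTrivial_of_maximal hM hpρ hmax ha
      (b := ⟨_, _⟩) (CfsgLib.Blocks.isBrauerPairOf_upBlock hM hB₁ hA₁ hf₁)))

end Cfsg.Agent.S4728
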