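import Cfsg.Statements.S4729
import Cfsg.Agent.Lib.Blocks.AlperinDade
import Cfsg.Agent.Lib.Char.CanonicalExtension
import Cfsg.Agent.Lib.Char.Extraspecial
-- import your own Cfsg.Agent.* helpers here

set_option autoImplicit false
open Cfsg

namespace Cfsg.Agent.S4729

open CfsgLib CfsgLib.Blocks CfsgLib.Char

/-- Let p be a prime, M a maximal ideal of the algebraic integers containing p, G a finite perfect group and P a Sylow p-subgroup. If the principal p-block of G contains a faithful irreducible character of degree less than 2p, then the centralizer of P is a p-group. -/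
theorem result {G : Type*} [Group G] [Finite G] (p : ℕ) [Fact p.Prime] (M : Ideal Cfsg.AlgInt) (hM : Cfsg.IsPModular p M) (hperf : commutator G = ⊤) (P : Sylow p G) (χ : Cfsg.IrrCharacter G) (hχ : χ ∈ Cfsg.principalBlock M G) (hfaith : ∀ g : G, (χ : G → ℂ) g = (χ : G → ℂ) 1 → g = 1) (hdeg : Cfsg.charDegree (χ : G → ℂ) < 2 * p) : IsPGroup p ↥(Subgroup.centralizer ((P : Subgroup G) : Set G)) := by
  classical
  have : Fintype G := Fintype.ofFinite G
  have := isPrime_of_isPModular hM
  have hp : p.Prime := Fact.out
  obtain ⟨n, σ, hirr, hσ⟩ := χ.2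
  have hn1 : (χ : G → ℂ) 1 = n := by rw [← hσ, Representation.char_one]; simp
  rw [Extraspecial.charDegree_eq hn1] at hdeg
  have hn0 : (n : ℂ) ≠ 0 := hn1 ▸ irr_degree_ne_zero χ.2
  have key : ∀ c ∈ Subgroup.centralizer ((P : Subgroup G) : Set G), ¬ p ∣ orderOf c → c = 1 := by
    intro c hc hm
    obtain ⟨b, μ, h1, h2⟩ := exists_eigenBasis σ c
    set m := orderOf c
    have hm0 : 0 < m := orderOf_pos c
    have hval : ∀ j : ℕ, (χ : G → ℂ) (c ^ j) = ∑ i, μ i ^ j := fun j => by
      rw [← hσ]; exact trace_eq_sum_of_diag b _ _ fun i => h2 i j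
    have hcong : ∀ j : ℕ, MemLocalIdeal M ((χ : G → ℂ) (c ^ j) - n) := fun j => by
      have h := memLocalIdeal_mul_left (memLocalRing_natCast n)
        (value_congr_of_principal hM P hχ (pow_mem hc j))
      rw [hn1] at h
      rwa [mul_sub, mul_one, mul_div_cancel₀ _ hn0] at h
    have hmult : ∀ l : ℂ, l ^ m = 1 → l ≠ 1 →
        p ∣ (Finset.univ.filter fun i => μ i = l).card := by
      intro l hl hl1
      have hl0 : l ≠ 0 := by rintro rfl; rw [zero_pow hm0.ne'] at hl; exact zero_ne_one hl
      have hsum : ∑ j ∈ Finset.range m, l⁻¹ ^ j * ((χ : G → ℂ) (c ^ j) - n) =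
          ((m * (Finset.univ.filter fun i => μ i = l).card : ℕ) : ℂ) := by
        have hgeo : ∀ z : ℂ, z ^ m = 1 → ∑ j ∈ Finset.range m, z ^ j =
            if z = 1 then (m : ℂ) else 0 := by
          intro z hz
          by_cases h : z = 1
          · simp [h]
          · rw [if_neg h, geom_sum_eq h, hz, sub_self, zero_div]
        simp_rw [mul_sub, hval, Finset.mul_sum, ← mul_pow]
        rw [Finset.sum_sub_distrib, Finset.sum_comm, ← Finset.sum_mul,
          hgeo l⁻¹ (by rw [inv_pow, hl, inv_one]), if_neg (inv_ne_one.mpr hl1), zero_mul, sub_zero]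
        rw [Finset.sum_congr rfl fun i _ => hgeo _ (by rw [mul_pow, inv_pow, hl, h1 i]; simp)]
        simp_rw [inv_mul_eq_one₀ hl0, eq_comm (a := l)]
        rw [Finset.sum_ite, Finset.sum_const_zero, add_zero, Finset.sum_const, nsmul_eq_mul]
        push_cast; ring
      have h : MemLocalIdeal M ((m * (Finset.univ.filter fun i => μ i = l).card : ℕ) : ℂ) := by
        rw [← hsum]
        exact memLocalIdeal_sum _ _ fun j _ => memLocalIdeal_mul_left (memLocalRing_of_isIntegral
          ((IsIntegral.of_pow hm0 (by rw [inv_pow, hl, inv_one]; exact isIntegral_one)).pow j))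
            (hcong j)
      exact (hp.dvd_mul.mp ((memLocalIdeal_natCast_iff hM).mp h)).resolve_left hm
    have hall : ∀ i, μ i = 1 := by
      by_contra! hne
      obtain ⟨i₀, hi₀⟩ := hne
      set T := fun l : ℂ => Finset.univ.filter fun i => μ i = l
      have hT : ∀ i, μ i ≠ 1 → p ≤ (T (μ i)).card := fun i hi =>
        Nat.le_of_dvd (Finset.card_pos.mpr ⟨i, by simp [T]⟩) (hmult _ (h1 i) hi)
      have hrank : Module.finrank ℂ (Fin n → ℂ) = n := by simp
      have hone : ∀ i, μ i = 1 ∨ μ i = μ i₀ := by
        intro i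
        by_contra h
        push Not at h
        have hd : Disjoint (T (μ i)) (T (μ i₀)) := by
          rw [Finset.disjoint_left]
          intro x hx hx'
          simp [T] at hx hx'
          exact h.2 (hx.symm.trans hx')
        have := Finset.card_le_univ (T (μ i) ∪ T (μ i₀))
        rw [Finset.card_union_of_disjoint hd, Fintype.card_fin] at this
        have := hT i h.1; have := hT i₀ hi₀; omega
      have hcard : (T (μ i₀)).card = p := by
        obtain ⟨k, hk⟩ := hmult _ (h1 i₀) hi₀
        have := Finset.card_le_univ (T (μ i₀))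
        rw [Fintype.card_fin] at this
        have := hT i₀ hi₀
        show (Finset.univ.filter fun i => μ i = μ i₀).card = p
        have hT0 := hT i₀ hi₀
        simp only [T] at hT0 this ⊢
        rcases k with _ | _ | k
        · rw [hk, mul_zero] at hT0; have := hp.pos; omega
        · simpa using hk
        · rw [hk] at this; nlinarith
      have hdet : ∏ i, μ i = 1 := by
        have e : LinearMap.toMatrix b b (σ c) = Matrix.diagonal μ := by
          ext i j
          rw [LinearMap.toMatrix_apply, ← pow_one c, h2 j 1]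
          by_cases hij : i = j
          · subst hij; simp
          · simp [Ne.symm hij, hij]
        have h := (hperf ▸ Abelianization.commutator_subset_ker (detHom σ) :
          (⊤ : Subgroup G) ≤ _) (Subgroup.mem_top c)
        rw [MonoidHom.mem_ker] at h
        have := congrArg Units.val h
        rwa [detHom_apply, ← LinearMap.det_toMatrix b, e, Matrix.det_diagonal, Units.val_one] at this
      have hprod : ∏ i, μ i = μ i₀ ^ p := by
        rw [← hcard, ← Finset.prod_const, Finset.prod_filter]
        refine Finset.prod_congr rfl fun i _ => ?_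
        by_cases h : μ i = μ i₀
        · simp [h]
        · simp [h, (hone i).resolve_right h]
      have h3 : μ i₀ ^ (Nat.gcd p m) = 1 := pow_gcd_eq_one.mpr ⟨hprod ▸ hdet, h1 i₀⟩
      rw [Nat.Coprime.gcd_eq_one ((hp.coprime_iff_not_dvd).mpr hm), pow_one] at h3
      exact hi₀ h3
    refine hfaith c ?_
    rw [← pow_one c, hval 1, hn1]
    simp [hall]
  intro g
  obtain ⟨a, m, hm, hg⟩ := Nat.exists_eq_pow_mul_and_not_dvd (orderOf_pos g).ne' p hp.ne_one
  refine ⟨a, ?_⟩
  have h := key ((g : G) ^ p ^ a) (pow_mem g.2 _) ?_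
  · exact Subtype.ext (by simpa using h)
  · rw [orderOf_pow, Subgroup.orderOf_coe, hg, Nat.gcd_mul_right_left, Nat.mul_div_cancel_left _ (pow_pos hp.pos _)]
    exact hm


end Cfsg.Agent.S4729
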