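import Cfsg.Statements.S4730
import Cfsg.Agent.Lib.Blocks.CentralChar
import Cfsg.Agent.Lib.Blocks.LocalRing
import Cfsg.Agent.Lib.Char.Burnside
import Cfsg.Agent.Lib.Char.Orth

set_option autoImplicit false
open Cfsg

namespace Cfsg.Agent.S4730

open CfsgLib CfsgLib.Char CfsgLib.Blocks
open scoped ComplexConjugate

/-- Let p be a prime, M a maximal ideal of the algebraic integers containing p, and G a finite group with trivial centre, Sylow p-subgroup P of order p^a and centre Z(P) of order p^b. If χ is a faithful irreducible character of G whose degree is a power of p, then the p-block of χ has defect at most a − b; in particular, if P is abelian then χ lies in a block of defect zero. -/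
theorem result {G : Type*} [Group G] [Finite G] (p : ℕ) [Fact p.Prime] (M : Ideal Cfsg.AlgInt) (hM : Cfsg.IsPModular p M) (hZ : Subgroup.center G = ⊥) (P : Sylow p G) (a b : ℕ) (ha : Nat.card P = p ^ a) (hb : Nat.card (Subgroup.center ↥(P : Subgroup G)) = p ^ b) (χ : Cfsg.IrrCharacter G) (hfaith : ∀ g : G, (χ : G → ℂ) g = (χ : G → ℂ) 1 → g = 1) (n : ℕ) (hdeg : Cfsg.charDegree (χ : G → ℂ) = p ^ n) : Cfsg.blockDefect p (Cfsg.blockOf M (χ : G → ℂ)) ≤ a - b ∧ (IsMulCommutative ↥(P : Subgroup G) → Cfsg.blockDefect p (Cfsg.blockOf M (χ : G → ℂ)) = 0) := by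
  classical
  haveI : M.IsPrime := hM.2.1.isPrime
  haveI := Fintype.ofFinite G
  have hp := (Fact.out : p.Prime)
  have hfac : (Nat.card G).factorization p = a := by
    have h := P.card_eq_multiplicity
    rw [ha] at h
    exact (Nat.pow_right_injective hp.two_le h).symm
  set Z := (Subgroup.center ↥(P : Subgroup G)).map (P : Subgroup G).subtype with hZdef
  have hZc : Nat.card Z = p ^ b := by
    rw [hZdef, Subgroup.card_map_of_injective (P : Subgroup G).subtype_injective, hb]
  -- `χ` vanishes on `Z(P)#`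
  have hvan : ∀ z ∈ Z, z ≠ 1 → (χ : G → ℂ) z = 0 := by
    intro z hz hz1
    obtain ⟨m, ρ, hρ, e⟩ := χ.2
    haveI := hρ
    have hm : m = p ^ n := by
      have h1 := (irr_degree_eq χ).1
      rw [hdeg, ← e, Representation.char_one, Module.finrank_fin_fun] at h1
      exact_mod_cast h1
    have hcop : Nat.Coprime (Module.finrank ℂ (Fin m → ℂ)) (Subgroup.centralizer ({z} : Set G)).index := by
      rw [Module.finrank_fin_fun, hm]
      refine Nat.Coprime.pow_left n (hp.coprime_iff_not_dvd.mpr fun h => P.not_dvd_index ?_)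
      refine h.trans (Subgroup.index_dvd_of_le fun x hx => Subgroup.mem_centralizer_singleton_iff.mpr ?_)
      obtain ⟨w, hw, rfl⟩ := hz
      exact congrArg Subtype.val (Subgroup.mem_center_iff.mp hw ⟨x, hx⟩)
    rcases burnside_zero_or_scalar ρ z hcop with h | h
    · rw [← e]; exact h
    exfalso
    rw [Module.finrank_fin_fun] at h
    obtain ⟨ω, hω⟩ := (norm_character_eq_iff ρ z).mp (by simpa using h)
    have hcen : z ∈ Subgroup.center G := Subgroup.mem_center_iff.mpr fun x => by
      have h1 : (χ : G → ℂ) (x * z * x⁻¹ * z⁻¹) = (χ : G → ℂ) 1 := by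
        rw [← e]
        show LinearMap.trace ℂ _ (ρ (x * z * x⁻¹ * z⁻¹)) = LinearMap.trace ℂ _ (ρ 1)
        congr 1
        have hc : ρ x * ρ z = ρ z * ρ x := by rw [hω]; ext v; simp
        rw [map_mul, map_mul, map_mul, hc, mul_assoc (ρ z), ← map_mul ρ x, mul_inv_cancel, map_one, mul_one, ← map_mul,
          mul_inv_cancel, map_one]
      exact mul_inv_eq_iff_eq_mul.mp (mul_inv_eq_one.mp (hfaith _ h1))
    rw [hZ, Subgroup.mem_bot] at hcen
    exact hz1 hcen
  -- divisibility of the degrees in the block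
  have hdiv : ∀ ψ ∈ Cfsg.blockOf M (χ : G → ℂ), b ≤ (Cfsg.charDegree ((ψ : Cfsg.IrrCharacter G) : G → ℂ)).factorization p := by
    intro ψ hψ
    obtain ⟨hd, hdpos⟩ := irr_degree_eq ψ
    set d := Cfsg.charDegree (ψ : G → ℂ) with hddef
    -- the sum over `Z(P)`
    obtain ⟨N, hN⟩ := exists_nat_classInner (isCharacter_restrict Z (isCharacter_of_isIrr ψ.2)) isCharacter_one
    have hsum : ∑ z : Z, (ψ : G → ℂ) z = (N : ℂ) * (p : ℂ) ^ b := by
      have h := hN
      simp only [Cfsg.classInner, map_one, mul_one, hZc, Nat.cast_pow] at h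
      rw [← h]
      field_simp [pow_ne_zero, hp.ne_zero]
    set μ : ℂ := ∑ z ∈ Finset.univ.erase (1 : Z), Cfsg.centralChar (ψ : G → ℂ) z * ((((Subgroup.centralizer ({(z : G)} : Set G)).index : ℕ) : ℂ))⁻¹ with hμ
    have hμI : MemLocalIdeal M μ := by
      refine memLocalIdeal_sum _ _ fun z hz => ?_
      have hz1 : (z : G) ≠ 1 := fun h => (Finset.ne_of_mem_erase hz) (Subtype.ext h)
      have hnp : ¬ p ∣ (Subgroup.centralizer ({(z : G)} : Set G)).index := fun h => P.not_dvd_index (h.trans
        (Subgroup.index_dvd_of_le fun x hx => Subgroup.mem_centralizer_singleton_iff.mpr (by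
          obtain ⟨w, hw, hwz⟩ := z.2
          rw [← hwz]
          exact congrArg Subtype.val (Subgroup.mem_center_iff.mp hw ⟨x, hx⟩))))
      refine memLocalIdeal_mul_right ?_ (memLocalRing_natCast_inv hM hnp)
      have h := memLocalIdeal_neg (hψ (z : G))
      have hc : Cfsg.centralChar (χ : G → ℂ) (z : G) = 0 := by simp [Cfsg.centralChar, hvan z z.2 hz1]
      rwa [hc, zero_sub, neg_neg] at h
    have hval : (N : ℂ) * (p : ℂ) ^ b = (d : ℂ) * (1 + μ) := by
      rw [← hsum, ← Finset.add_sum_erase _ _ (Finset.mem_univ (1 : Z)), mul_add, mul_one, hμ, Finset.mul_sum,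
        OneMemClass.coe_one, hd]
      congr 1
      refine Finset.sum_congr rfl fun z _ => ?_
      have hi : (((Subgroup.centralizer ({(z : G)} : Set G)).index : ℕ) : ℂ) ≠ 0 :=
        Nat.cast_ne_zero.mpr Subgroup.index_ne_zero_of_finite
      have hd0 : (d : ℂ) ≠ 0 := Nat.cast_ne_zero.mpr hdpos.ne'
      unfold Cfsg.centralChar
      rw [hd]
      field_simp
    obtain ⟨v, d', hd', hdd⟩ := Nat.exists_eq_pow_mul_and_not_dvd hdpos.ne' p hp.ne_one
    have hv : d.factorization p = v := by
      rw [hdd, Nat.factorization_mul (pow_ne_zero _ hp.ne_zero) (fun h => hd' (by rw [h]; exact dvd_zero p)), Finsupp.add_apply,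
        Nat.factorization_eq_zero_of_not_dvd hd', add_zero, Nat.factorization_pow, Finsupp.smul_apply,
        hp.factorization_self, smul_eq_mul, mul_one]
    rw [hv]
    by_contra hlt
    push Not at hlt
    obtain ⟨c, rfl⟩ : ∃ c, b = v + c + 1 := ⟨b - v - 1, by omega⟩
    have hpv : ((p : ℂ) ^ v) ≠ 0 := pow_ne_zero _ (Nat.cast_ne_zero.mpr hp.ne_zero)
    have hd0' : (d' : ℂ) ≠ 0 := Nat.cast_ne_zero.mpr fun h => hd' (h ▸ dvd_zero p)
    have h1 : 1 + μ = (p : ℂ) * ((N : ℂ) * (p : ℂ) ^ c * (d' : ℂ)⁻¹) := by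
      rw [hdd] at hval
      push_cast at hval
      field_simp
      refine mul_left_cancel₀ hpv ?_
      linear_combination -hval
    have h2 : MemLocalIdeal M (1 + μ) := by
      rw [h1]
      exact memLocalIdeal_mul_right (memLocalIdeal_p hM)
        (memLocalRing_mul (memLocalRing_mul (memLocalRing_natCast N) (memLocalRing_pow (memLocalRing_natCast p) c))
          (memLocalRing_natCast_inv hM hd'))
    exact not_memLocalIdeal_one (M := M) (by simpa using memLocalIdeal_sub h2 hμI)
  have hmem : χ ∈ Cfsg.blockOf M (χ : G → ℂ) := fun g => memLocalIdeal_sub_self _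
  have main : Cfsg.blockDefect p (Cfsg.blockOf M (χ : G → ℂ)) ≤ a - b := by
    unfold Cfsg.blockDefect
    rw [hfac]
    refine Nat.sub_le_sub_left ?_ a
    obtain ⟨ψ, hψ, e⟩ := Nat.sInf_mem (s := (fun χ : Cfsg.IrrCharacter G => (Cfsg.charDegree (χ : G → ℂ)).factorization p) '' Cfsg.blockOf M (χ : G → ℂ)) ⟨_, χ, hmem, rfl⟩
    exact (hdiv ψ hψ).trans e.le
  refine ⟨main, fun hab => Nat.eq_zero_of_le_zero (main.trans ?_)⟩
  have htop : Subgroup.center ↥(P : Subgroup G) = ⊤ := Subgroup.eq_top_iff' _ |>.mpr fun x =>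
    Subgroup.mem_center_iff.mpr fun y => mul_comm' y x
  rw [htop, Subgroup.card_top, ha] at hb
  rw [Nat.pow_right_injective hp.two_le hb, Nat.sub_self]
end Cfsg.Agent.S4730
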