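import Cfsg.Statements.S4731
import Cfsg.Agent.Lib.Blocks.Osima
import Cfsg.Agent.Lib.Blocks.CentralChar
import Cfsg.Agent.Lib.Blocks.RegPart
import Cfsg.Agent.Lib.Blocks.Idempotent

set_option autoImplicit false
open Cfsg
open scoped CfsgLib.Char

set_option autoImplicit false
open Cfsg

namespace Cfsg.Agent.S4731

/-- Let p ≠ q be primes, M_p and M_q maximal ideals of the algebraic integers containing p and q respectively, and G a finite group with no element of order pq; let q^b be the q-part of the order of G. For a p-block B_p (relative to M_p), a q-block B_q (relative to M_q) and a p-singular element y, the sum of χ(1)χ(y) over the irreducible characters χ lying in both B_p and B_q is q^b times an algebraic integer. -/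
theorem result {G : Type*} [Group G] [Finite G] (p q : ℕ) [Fact p.Prime] [Fact q.Prime] (hpq : p ≠ q) (Mp Mq : Ideal Cfsg.AlgInt) (hMp : Cfsg.IsPModular p Mp) (hMq : Cfsg.IsPModular q Mq) (hno : ∀ g : G, orderOf g ≠ p * q) (b : ℕ) (hb : (Nat.card G).factorization q = b) (Bp : Set (Cfsg.IrrCharacter G)) (hBp : Cfsg.IsPBlock Mp Bp) (Bq : Set (Cfsg.IrrCharacter G)) (hBq : Cfsg.IsPBlock Mq Bq) (y : G) (hy : p ∣ orderOf y) : ∃ ω : Cfsg.AlgInt, ∑ᶠ χ ∈ Bp ∩ Bq, (Cfsg.charDegree (χ : G → ℂ) : ℂ) * (χ : G → ℂ) y = (q : ℂ) ^ b * (ω : ℂ) := by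
  classical
  have := Fintype.ofFinite G
  have := Fintype.ofFinite (ConjClasses G)
  have := CfsgLib.Blocks.isPrime_of_isPModular hMp
  have := CfsgLib.Blocks.isPrime_of_isPModular hMq
  set X : ℂ := ∑ χ : IrrCharacter G with χ ∈ Bp ∩ Bq,
    (charDegree (χ : G → ℂ) : ℂ) * (χ : G → ℂ) y
  set θ : G → ℂ := fun g => ∑ χ : IrrCharacter G with χ ∈ Bp, (χ : G → ℂ) g * (χ : G → ℂ) y
  have hθc : IsClassFunction G θ := fun g h => by
    simp only [θ, CfsgLib.Blocks.irr_classFunction _ g h]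
  have hθint : ∀ g, IsIntegral ℤ (θ g) := fun g => IsIntegral.sum _ fun χ _ =>
    (CfsgLib.Blocks.irr_isIntegral χ.2 g).mul (CfsgLib.Blocks.irr_isIntegral χ.2 y)
  have hθ0 : ∀ g, ¬ p ∣ orderOf g → θ g = 0 := by
    intro g hg
    have h := CfsgLib.Blocks.sum_block_mul_conj_eq_zero hMp (S := Finset.univ.filter (· ∈ Bp))
      (by simpa using CfsgLib.Blocks.IsPBlock.isBlockUnion hBp) (x := g) (y := y⁻¹) hg
      (fun h => h (by rwa [orderOf_inv]))
    rw [← h]
    refine Finset.sum_congr rfl fun χ _ => ?_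
    rw [← CfsgLib.Blocks.irr_value_inv χ.2, inv_inv]
  set f : G → ℂ := fun g => θ g * blockCoeff Bq g
  have hX : X = ∑ c : ConjClasses G,
      f (Quotient.out c) * ((Subgroup.centralizer ({Quotient.out c} : Set G)).index : ℂ) := by
    have hfc : IsClassFunction G f := fun g h => by
      simp only [f, hθc g h, CfsgLib.Blocks.isClassFunction_blockCoeff Bq g h]
    have h := CfsgLib.Blocks.omega_eq_sum_classes (CfsgLib.Blocks.trivIrr G) hfc
    simp only [CfsgLib.Blocks.omega, centralChar, CfsgLib.Blocks.trivIrr, mul_one, div_one] at h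
    rw [← h]
    have hsum : ∀ χ : IrrCharacter G, ∑ g : G, blockCoeff Bq g * (χ : G → ℂ) g =
        (χ : G → ℂ) 1 * CfsgLib.Blocks.indVec Bq χ := fun χ => by
      rw [← CfsgLib.Blocks.omega_blockCoeff, CfsgLib.Blocks.omega,
        mul_div_cancel₀ _ (CfsgLib.Char.irr_degree_ne_zero χ.2)]
    simp only [f, θ, Finset.sum_mul]
    rw [Finset.sum_comm]
    simp only [X, Finset.sum_filter]
    refine Finset.sum_congr rfl fun χ _ => ?_
    by_cases hp' : χ ∈ Bp
    · rw [if_pos hp', Finset.sum_congr rfl (g := fun g : G => (blockCoeff Bq g * (χ : G → ℂ) g) * (χ : G → ℂ) y)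
        fun g _ => by ring, ← Finset.sum_mul, hsum, ← (CfsgLib.Blocks.irr_degree_eq χ).1]
      by_cases hq' : χ ∈ Bq
      · rw [if_pos ⟨hp', hq'⟩, CfsgLib.Blocks.indVec_of_mem hq', mul_one]
      · rw [if_neg fun h => hq' h.2, CfsgLib.Blocks.indVec_of_notMem hq', mul_zero, zero_mul]
    · rw [if_neg hp', if_neg fun h => hp' h.1]
  have hloc : ∀ N : Ideal AlgInt, IsPModular q N → MemLocalRing N (X / (q : ℂ) ^ b) := by
    intro N hN
    have := CfsgLib.Blocks.isPrime_of_isPModular hN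
    obtain ⟨χ₀, hχ₀⟩ := CfsgLib.Blocks.IsPBlock.nonempty hBq
    have hU : CfsgLib.Blocks.IsBlockUnion N Bq := fun χ hχ ψ hs =>
      CfsgLib.Blocks.IsPBlock.mem_of_sameBlock hBq hχ
        (CfsgLib.Blocks.sameBlock_of_sameBlock hN hMq hs)
    rw [hX, Finset.sum_div]
    refine CfsgLib.Blocks.memLocalRing_sum _ _ fun c _ => ?_
    set g := Quotient.out c
    by_cases hg : p ∣ orderOf g
    · set C := Subgroup.centralizer ({g} : Set G)
      have hC : ¬ q ∣ Nat.card C := by
        intro hd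
        obtain ⟨w, hw⟩ := exists_prime_orderOf_dvd_card' q hd
        rw [← Subgroup.orderOf_coe] at hw
        have hu : orderOf (g ^ (orderOf g / p)) = p := orderOf_pow_orderOf_div (orderOf_pos g).ne' hg
        have hcomm : Commute (g ^ (orderOf g / p)) (w : G) :=
          ((show Commute (w : G) g from Subgroup.mem_centralizer_singleton_iff.mp w.2).symm).pow_left _
        refine hno (g ^ (orderOf g / p) * w) ?_
        rw [hcomm.orderOf_mul_eq_mul_orderOf_of_coprime
          (by rw [hu, hw]; exact (Nat.coprime_primes Fact.out Fact.out).mpr hpq), hu, hw]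
      have hidx : q ^ b ∣ C.index := by
        have h : q ^ b ∣ Nat.card C * C.index := by
          rw [C.card_mul_index, ← hb]; exact Nat.ordProj_dvd _ _
        exact (Nat.Coprime.pow_left b ((Fact.out : q.Prime).coprime_iff_not_dvd.mpr hC)).dvd_of_dvd_mul_left h
      obtain ⟨m, hm⟩ := hidx
      rw [hm]
      push_cast
      rw [show f g * ((q : ℂ) ^ b * (m : ℂ)) / (q : ℂ) ^ b = f g * (m : ℂ) by
        have : (q : ℂ) ^ b ≠ 0 := pow_ne_zero _ (Nat.cast_ne_zero.mpr (Fact.out : q.Prime).ne_zero)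
        field_simp]
      exact CfsgLib.Blocks.memLocalRing_mul (CfsgLib.Blocks.memLocalRing_mul
        (CfsgLib.Blocks.memLocalRing_of_isIntegral (hθint g))
        (CfsgLib.Blocks.memLocalRing_blockCoeff hU g)) (CfsgLib.Blocks.memLocalRing_natCast m)
    · simp only [f, hθ0 g hg, zero_mul, zero_div]
      exact CfsgLib.Blocks.memLocalRing_zero
  set z := X / (q : ℂ) ^ b
  let J : Ideal AlgInt :=
    { carrier := {a : AlgInt | IsIntegral ℤ ((a : ℂ) * z)}
      add_mem' := fun {u v} hu hv => by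
        show IsIntegral ℤ (((u + v : AlgInt) : ℂ) * z)
        rw [AddMemClass.coe_add, add_mul]
        exact hu.add hv
      zero_mem' := by
        show IsIntegral ℤ (((0 : AlgInt) : ℂ) * z)
        rw [ZeroMemClass.coe_zero, zero_mul]
        exact isIntegral_zero
      smul_mem' := fun u v hv => by
        show IsIntegral ℤ (((u * v : AlgInt) : ℂ) * z)
        rw [MulMemClass.coe_mul, mul_assoc]
        exact u.2.mul hv }
  have hXint : IsIntegral ℤ X := IsIntegral.sum _ fun χ _ =>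
    (isIntegral_algebraMap (x := (charDegree (χ : G → ℂ) : ℤ))).mul (CfsgLib.Blocks.irr_isIntegral χ.2 y)
  have hqJ : ((q : AlgInt) ^ b) ∈ J := by
    show IsIntegral ℤ ((((q : AlgInt) ^ b : AlgInt) : ℂ) * z)
    have e : (((q : AlgInt) ^ b : AlgInt) : ℂ) = (q : ℂ) ^ b := by push_cast; rfl
    rw [e, mul_div_cancel₀ _ (pow_ne_zero _ (Nat.cast_ne_zero.mpr (Fact.out : q.Prime).ne_zero))]
    exact hXint
  have hJ : J = ⊤ := by
    by_contra hne
    obtain ⟨N, hN, hJN⟩ := Ideal.exists_le_maximal J hne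
    have hqN : (q : AlgInt) ∈ N := hN.isPrime.mem_of_pow_mem b (hJN hqJ)
    obtain ⟨u, v, hv, huv⟩ := hloc N ⟨Fact.out, hN, hqN⟩
    refine hv (hJN ?_)
    show IsIntegral ℤ ((v : ℂ) * z)
    have hv0 : (v : ℂ) ≠ 0 := by
      have := hN.isPrime
      exact CfsgLib.Blocks.coe_ne_zero_of_notMem hv
    rw [← huv, mul_div_cancel₀ _ hv0]
    exact u.2
  have h1 : IsIntegral ℤ z := by
    have h : (1 : AlgInt) ∈ J := hJ ▸ Submodule.mem_top
    simpa [J] using h
  refine ⟨⟨z, h1⟩, ?_⟩
  have hfin : (∑ᶠ χ ∈ Bp ∩ Bq, (charDegree (χ : G → ℂ) : ℂ) * (χ : G → ℂ) y) = X :=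
    finsum_mem_eq_sum_of_inter_support_eq _ (by simp)
  rw [hfin]
  exact (mul_div_cancel₀ X (pow_ne_zero _ (Nat.cast_ne_zero.mpr (Fact.out : q.Prime).ne_zero))).symm

end Cfsg.Agent.S4731
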