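import Cfsg.Statements.S4735
import Cfsg.Agent.Lib.Blocks.KernelBlock
import Cfsg.Agent.Lib.Blocks.Inflate
import Cfsg.Agent.Lib.Blocks.RegPart
import Cfsg.Agent.Lib.Blocks.PairConj
import Cfsg.Agent.Lib.Char.ComplexAut
import Cfsg.Agent.Lib.Char.Galois
import Cfsg.Agent.Lib.Char.Twist
import Cfsg.Agent.Lib.Char.CMValue
import Cfsg.Agent.Lib.PSolvable.Core

set_option autoImplicit false
open Cfsg
open CfsgLib CfsgLib.Blocks
open scoped ComplexConjugate CfsgLib.Char

namespace Cfsg.Agent.S4735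

/-- The principal block is stable under the Galois action on characters. -/
theorem pow_mem_principal {p : ℕ} {M : Ideal AlgInt} (hM : IsPModular p M) {G : Type*} [Group G]
    [Finite G] {χ : IrrCharacter G} (hχ : χ ∈ principalBlock M G) {k : ℕ}
    (hk : k.Coprime (Nat.card G)) (σ : ℂ ≃+* ℂ) (hσ : ∀ g : G, σ ((χ : G → ℂ) g) = (χ : G → ℂ) (g ^ k)) :
    (⟨_, Char.isIrrCharacter_pow hk χ.2⟩ : IrrCharacter G) ∈ principalBlock M G := by
  haveI := Fintype.ofFinite G
  have := isPrime_of_isPModular hM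
  have hint : ∀ z : ℂ, IsIntegral ℤ z → IsIntegral ℤ (σ z) := fun z hz =>
    hz.map σ.toRingHom.toIntAlgHom
  have hint' : ∀ z : ℂ, IsIntegral ℤ z → IsIntegral ℤ (σ.symm z) := fun z hz =>
    hz.map σ.symm.toRingHom.toIntAlgHom
  let τ : AlgInt →+* AlgInt :=
    { toFun := fun a => ⟨σ a, hint a a.2⟩
      map_one' := Subtype.ext (map_one σ)
      map_mul' := fun a b => Subtype.ext (map_mul σ _ _)
      map_zero' := Subtype.ext (map_zero σ)
      map_add' := fun a b => Subtype.ext (map_add σ _ _) }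
  have hτ : Function.Surjective τ := fun a =>
    ⟨⟨σ.symm a, hint' a a.2⟩, Subtype.ext (σ.apply_symm_apply _)⟩
  haveI := hM.2.1
  have hM' : IsPModular p (M.comap τ) :=
    ⟨hM.1, Ideal.comap_isMaximal_of_surjective τ hτ, by rw [Ideal.mem_comap, map_natCast]; exact hM.2.2⟩
  have h' : SameBlock (M.comap τ) (trivIrr G : G → ℂ) (χ : G → ℂ) :=
    sameBlock_of_sameBlock hM hM' hχ
  intro g
  haveI := isPrime_of_isPModular hM'
  obtain ⟨r, s, hr, hs, hrs⟩ := h' g
  refine ⟨τ r, τ s, hr, hs, ?_⟩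
  have e := congrArg σ hrs
  rw [map_div₀] at e
  refine e.trans ?_
  rw [map_sub]
  simp only [centralChar, map_div₀, map_mul, map_natCast]
  rw [hσ g, hσ 1, show σ ((trivIrr G : G → ℂ) g) = 1 from map_one σ,
    show σ ((trivIrr G : G → ℂ) 1) = 1 from map_one σ]

/-- Let p be a prime, M a maximal ideal of the algebraic integers containing p, G a finite group, H = O_p'(G) and Ḡ = G/H. For x ∈ G write λ(G, x) for the sum of |χ(x)|^2 over the irreducible characters χ in the principal p-block of G. Then λ(G, x) is a positive integer, λ(G, x) = λ(Ḡ, x̄) where x̄ is the image of x, and λ(G, x) ≤ #C_Ḡ(x̄). Moreover λ(G, 1) = [G : H] if and only if the principal block is the only p-block of Ḡ. -/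
theorem result {G : Type*} [Group G] [Finite G] (p : ℕ) [Fact p.Prime] (M : Ideal Cfsg.AlgInt) (hM : Cfsg.IsPModular p M) (x : G) : (∃ n : ℕ, 0 < n ∧ ∑ᶠ χ ∈ Cfsg.principalBlock M G, Complex.normSq ((χ : G → ℂ) x) = n) ∧ ∑ᶠ χ ∈ Cfsg.principalBlock M G, Complex.normSq ((χ : G → ℂ) x) = ∑ᶠ ψ ∈ Cfsg.principalBlock M (G ⧸ Cfsg.pPrimeCore p G), Complex.normSq ((ψ : G ⧸ Cfsg.pPrimeCore p G → ℂ) (QuotientGroup.mk x)) ∧ ∑ᶠ χ ∈ Cfsg.principalBlock M G, Complex.normSq ((χ : G → ℂ) x) ≤ (Nat.card ↥(Subgroup.centralizer ({(QuotientGroup.mk x : G ⧸ Cfsg.pPrimeCore p G)} : Set (G ⧸ Cfsg.pPrimeCore p G))) : ℝ) ∧ ((∑ᶠ χ ∈ Cfsg.principalBlock M G, Cfsg.charDegree (χ : G → ℂ) ^ 2) = (Cfsg.pPrimeCore p G).index ↔ ∀ B : Set (Cfsg.IrrCharacter (G ⧸ Cfsg.pPrimeCore p G)), Cfsg.IsPBlock M B → B = Cfsg.principalBlock M (G ⧸ Cfsg.pPrimeCore p G)) := by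
  classical
  haveI := Fintype.ofFinite G
  haveI := Transfer.pPrimeCore_normal p G
  have := isPrime_of_isPModular hM
  set K := pPrimeCore p G with hKdef
  haveI := Fintype.ofFinite (G ⧸ K)
  set f := QuotientGroup.mk' K with hfdef
  have hf : Function.Surjective f := QuotientGroup.mk'_surjective K
  set B := principalBlock M G with hB
  set Bq := principalBlock M (G ⧸ K) with hBq
  have hmem : ∀ η : IrrCharacter (G ⧸ K), inflate f hf η ∈ B ↔ η ∈ Bq := by
    intro η
    constructor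
    · exact fun h => sameBlock_of_inflate hM f hf
        (by rw [QuotientGroup.ker_mk']; exact not_dvd_card_pPrimeCore (H := G) hM.1)
        (η := trivIrr (G ⧸ K)) h
    · exact fun h => sameBlock_inflate f hf (η := trivIrr (G ⧸ K)) h
  have hsurj : ∀ χ ∈ B, ∃ η ∈ Bq, χ = inflate f hf η := by
    intro χ hχ
    obtain ⟨η, rfl⟩ := exists_inflate_eq_of_ker K χ
      (trivial_on_of_mem_principalBlock hM _ (not_dvd_card_pPrimeCore (H := G) hM.1) hχ)
    exact ⟨η, (hmem η).mp hχ, rfl⟩
  set S := Finset.univ.filter (· ∈ B)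
  set T := Finset.univ.filter (· ∈ Bq)
  have hSB : ∀ {β : Type} [AddCommMonoid β] (F : IrrCharacter G → β), ∑ᶠ χ ∈ B, F χ = ∑ χ ∈ S, F χ :=
    fun F => finsum_mem_eq_sum_of_inter_support_eq _ (by simp [S])
  have hTB : ∀ {β : Type} [AddCommMonoid β] (F : IrrCharacter (G ⧸ K) → β),
      ∑ᶠ χ ∈ Bq, F χ = ∑ χ ∈ T, F χ :=
    fun F => finsum_mem_eq_sum_of_inter_support_eq _ (by simp [T])
  have hST : ∀ {β : Type} [AddCommMonoid β] (F : IrrCharacter G → β),
      ∑ χ ∈ S, F χ = ∑ η ∈ T, F (inflate f hf η) := by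
    intro β _ F
    refine (Finset.sum_bij (fun η _ => inflate f hf η) (fun η hη => ?_)
      (fun a _ b _ h => inflate_injective f hf h) (fun χ hχ => ?_) fun _ _ => rfl).symm
    · simp only [S, T, Finset.mem_filter, Finset.mem_univ, true_and] at hη ⊢
      exact (hmem η).mpr hη
    · simp only [S, Finset.mem_filter, Finset.mem_univ, true_and] at hχ
      obtain ⟨η, hη, rfl⟩ := hsurj χ hχ
      exact ⟨η, by simp [T, hη], rfl⟩
  have heq : ∑ χ ∈ S, Complex.normSq ((χ : G → ℂ) x) =
      ∑ η ∈ T, Complex.normSq ((η : G ⧸ K → ℂ) (f x)) := hST _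
  simp only [hSB]
  refine ⟨?_, heq.trans (hTB _).symm, ?_, ?_⟩
  · -- integrality
    set z : ℂ := ∑ χ ∈ S, (χ : G → ℂ) x * conj ((χ : G → ℂ) x) with hz
    have hzi : IsIntegral ℤ z := IsIntegral.sum _ fun χ _ =>
      (Char.isIntegral_value (Char.isCharacter_of_isIrr χ.2) x).mul
        (Char.isIntegral_conj (Char.isIntegral_value (Char.isCharacter_of_isIrr χ.2) x))
    let zq : Char.QBar := ⟨z, Char.mem_qbar_of_isIntegral hzi⟩
    have hfix : ∀ ψ : Char.QBar →ₐ[ℚ] ℂ, ψ zq = (zq : ℂ) := by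
      intro ψ
      obtain ⟨σ, hσ⟩ := Char.exists_ringEquiv_extend ψ
      obtain ⟨k, hk, hkv⟩ := Char.exists_galois_exponent (G := G) ψ
      have hχ : ∀ (χ : IrrCharacter G) (g : G), σ ((χ : G → ℂ) g) = (χ : G → ℂ) (g ^ k) := by
        intro χ g
        rw [← hkv (Char.isCharacter_of_isIrr χ.2) g, ← hσ]
        rfl
      rw [← hσ]
      show σ z = z
      rw [hz, map_sum]
      let P : IrrCharacter G → IrrCharacter G := fun χ => ⟨_, Char.isIrrCharacter_pow hk χ.2⟩
      have hPinj : Function.Injective P := fun a b h => Subtype.ext (funext fun g => by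
        have h1 := congrFun (congrArg Subtype.val h) g
        exact σ.injective (((hχ a g).trans h1).trans (hχ b g).symm))
      have hPS : S.image P = S := Finset.eq_of_subset_of_card_le (fun χ hχ' => by
        obtain ⟨ψ', hψ', rfl⟩ := Finset.mem_image.mp hχ'
        simp only [S, Finset.mem_filter, Finset.mem_univ, true_and] at hψ' ⊢
        exact pow_mem_principal hM hψ' hk σ (hχ ψ'))
        (Finset.card_image_of_injective S hPinj).ge
      conv_rhs => rw [← hPS, Finset.sum_image hPinj.injOn]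
      refine Finset.sum_congr rfl fun χ _ => ?_
      have hcon : conj ((χ : G → ℂ) x) = (χ : G → ℂ) x⁻¹ := (Char.value_inv_eq_conj (Char.isCharacter_of_isIrr χ.2) x).symm
      have hcon' : conj ((χ : G → ℂ) (x ^ k)) = (χ : G → ℂ) (x ^ k)⁻¹ :=
        (Char.value_inv_eq_conj (Char.isCharacter_of_isIrr χ.2) _).symm
      show σ ((χ : G → ℂ) x * conj ((χ : G → ℂ) x)) = (χ : G → ℂ) (x ^ k) * conj ((χ : G → ℂ) (x ^ k))
      rw [map_mul, hcon, hcon', hχ, hχ, inv_pow]
    obtain ⟨q, hq⟩ := Char.exists_rat_of_fixed zq hfix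
    have hq' : z = (q : ℂ) := hq
    obtain ⟨n, hn⟩ : ∃ n : ℤ, (n : ℚ) = q := IsIntegrallyClosed.isIntegral_iff.mp
      ((isIntegral_algebraMap_iff (R := ℤ) (algebraMap ℚ ℂ).injective).mp (show IsIntegral ℤ (algebraMap ℚ ℂ q) by
        rw [eq_ratCast, ← hq']; exact hzi))
    have hre : ∑ χ ∈ S, Complex.normSq ((χ : G → ℂ) x) = (n : ℝ) := by
      apply Complex.ofReal_injective
      rw [Complex.ofReal_sum, Complex.ofReal_intCast, ← Rat.cast_intCast, hn, ← hq', hz]
      exact Finset.sum_congr rfl fun χ _ => (Complex.mul_conj _).symm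
    have hpos : (1 : ℝ) ≤ (n : ℝ) := by
      rw [← hre]
      refine le_trans ?_ (Finset.single_le_sum (fun χ _ => Complex.normSq_nonneg _)
        (show trivIrr G ∈ S by simp [S, hB, trivIrr_mem_principalBlock]))
      simp [trivIrr]
    obtain ⟨m, rfl⟩ := Int.eq_ofNat_of_zero_le (show (0 : ℤ) ≤ n by exact_mod_cast le_trans zero_le_one hpos)
    refine ⟨m, ?_, by rw [hre]; norm_num⟩
    have : (0 : ℝ) < m := by exact_mod_cast lt_of_lt_of_le zero_lt_one hpos
    exact_mod_cast this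
  · rw [heq]
    refine (Finset.sum_le_univ_sum_of_nonneg fun η => Complex.normSq_nonneg _).trans (le_of_eq ?_)
    have h := Char.column_orthogonality (G := G ⧸ K) (f x) (f x)
    rw [if_pos (IsConj.refl _)] at h
    apply Complex.ofReal_injective
    rw [Complex.ofReal_natCast]
    push_cast
    rw [show QuotientGroup.mk x = f x from rfl, ← h]
    exact Finset.sum_congr rfl fun η _ => (Complex.mul_conj _).symm
  · have hdeg : ∀ η : IrrCharacter (G ⧸ K),
        charDegree (inflate f hf η : G → ℂ) = charDegree (η : G ⧸ K → ℂ) := fun η => by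
      have h1 := (irr_degree_eq (inflate f hf η)).1
      rw [show (inflate f hf η : G → ℂ) 1 = (η : G ⧸ K → ℂ) 1 from congrArg (η : G ⧸ K → ℂ) (map_one f),
        (irr_degree_eq η).1] at h1
      exact (Nat.cast_injective h1).symm
    rw [hST]
    simp only [hdeg]
    have htot : ∑ η : IrrCharacter (G ⧸ K), charDegree (η : G ⧸ K → ℂ) ^ 2 = K.index := by
      have h := Char.sum_sq_degree (G := G ⧸ K)
      simp only [(irr_degree_eq _).1, ← Nat.cast_pow] at h
      rw [← Nat.cast_sum] at h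
      exact Nat.cast_injective h
    constructor
    · intro h B' hB'
      rw [← htot] at h
      obtain ⟨η, hη⟩ := IsPBlock.nonempty hB'
      refine IsPBlock.eq_of_mem_of_mem hB' isPBlock_principalBlock hη ?_
      by_contra hnot
      refine h.not_lt (Finset.sum_lt_sum_of_subset (Finset.subset_univ T) (Finset.mem_univ η)
        (fun hc => hnot (Finset.mem_filter.mp hc).2) (pow_pos (irr_degree_eq η).2 2)
        fun _ _ _ => Nat.zero_le _)
    · intro h
      rw [← htot]
      refine Finset.sum_congr (Finset.eq_univ_iff_forall.mpr fun η => ?_) fun _ _ => rfl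
      simp only [T, Finset.mem_filter, Finset.mem_univ, true_and]
      exact (h (blockOf M (η : G ⧸ K → ℂ)) (isPBlock_blockOf η)).subset (mem_blockOf_self η)

end Cfsg.Agent.S4735
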