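import Cfsg.Statements.S4736
import Cfsg.Agent.Lib.Blocks.PrincipalPSolvable
import Cfsg.Agent.Lib.Char.ItoMichler

set_option autoImplicit false
open Cfsg
open CfsgLib CfsgLib.Blocks

namespace Cfsg.Agent.S4736

/-- Let p be a prime, M a maximal ideal of the algebraic integers containing p, and G a finite p-solvable group with Sylow p-subgroup P. Then P is abelian if and only if every irreducible character in the principal p-block of G has height zero. -/
theorem result {G : Type*} [Group G] [Finite G] (p : ℕ) [Fact p.Prime] (M : Ideal Cfsg.AlgInt) (hM : Cfsg.IsPModular p M) (hsolv : Cfsg.IsPSolvable p G) (P : Sylow p G) : IsMulCommutative P ↔ ∀ χ ∈ Cfsg.principalBlock M G, Cfsg.blockHeight p (Cfsg.principalBlock M G) (χ : G → ℂ) = 0 := by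
  classical
  haveI := Fintype.ofFinite G
  haveI := Transfer.pPrimeCore_normal p G
  haveI := isPrime_of_isPModular hM
  set K := pPrimeCore p G with hKdef
  set f := QuotientGroup.mk' K with hfdef
  have hf : Function.Surjective f := QuotientGroup.mk'_surjective K
  haveI := Fintype.ofFinite (G ⧸ K)
  obtain ⟨hR, hRi⟩ := sylow_map_mk' P
  have h0 : sInf ((fun ψ : IrrCharacter G => (charDegree (ψ : G → ℂ)).factorization p) ''
      principalBlock M G) = 0 := by
    refine Nat.le_zero.mp (Nat.sInf_le ⟨trivIrr G, trivIrr_mem_principalBlock G, ?_⟩)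
    have h1 : charDegree (trivIrr G : G → ℂ) = 1 := by
      have h2 : ((1 : ℂ)) = (charDegree (trivIrr G : G → ℂ) : ℂ) := (irr_degree_eq (trivIrr G)).1
      exact_mod_cast h2.symm
    simp only [h1, Nat.factorization_one, Finsupp.coe_zero, Pi.zero_apply]
  have hdeg : ∀ η : IrrCharacter (G ⧸ K),
      charDegree (inflate f hf η : G → ℂ) = charDegree (η : G ⧸ K → ℂ) := fun η => by
    have h1 := (irr_degree_eq (inflate f hf η)).1
    have h2 := (irr_degree_eq η).1
    have h3 : (inflate f hf η : G → ℂ) 1 = (η : G ⧸ K → ℂ) 1 := congrArg (η : G ⧸ K → ℂ) (map_one f)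
    rw [h3, h2] at h1
    exact (Nat.cast_injective h1).symm
  have hsolQ := PSolvable.isPSolvable_of_surjective f hf hsolv
  have hC := PSolvable.centralizer_pCore_le hsolQ
    (PSolvable.pPrimeCore_eq_bot_of_ker hf (QuotientGroup.ker_mk' _))
  set R := (P : Subgroup G).map f with hRdef
  constructor
  · intro hab χ hχ
    obtain ⟨η, rfl⟩ := (mem_principalBlock_iff_of_pSolvable hM hsolv χ).mp hχ
    have hRab : ∀ a ∈ R, ∀ b ∈ R, a * b = b * a := by
      rintro _ ⟨a, ha, rfl⟩ _ ⟨b, hb, rfl⟩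
      rw [← map_mul, ← map_mul]
      exact congrArg f (congrArg Subtype.val (hab.is_comm.comm ⟨a, ha⟩ ⟨b, hb⟩))
    have hle : pCore p (G ⧸ K) ≤ R :=
      (Fitting.pCore_eq_iInf_sylow (G := G ⧸ K) p).le.trans (iInf_le _ (hR.toSylow hRi))
    have heq : pCore p (G ⧸ K) = R :=
      le_antisymm hle fun a ha => hC fun b hb => hRab b (hle hb) a ha
    haveI : R.Normal := heq ▸ Fitting.pCore_normal p
    have hnd := Char.ItoMichler.not_dvd_of_normal_abelian R hRab hRi η
    rw [blockHeight, h0, Nat.sub_zero]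
    show (charDegree (inflate f hf η : G → ℂ)).factorization p = 0
    rw [hdeg]
    exact Nat.factorization_eq_zero_of_not_dvd hnd
  · intro h
    have hp' : ∀ (η : IrrCharacter (G ⧸ K)) (d : ℕ), (η : G ⧸ K → ℂ) 1 = d → ¬ p ∣ d := by
      intro η d hd hpd
      have h1 := h _ ((mem_principalBlock_iff_of_pSolvable hM hsolv _).mpr ⟨η, rfl⟩)
      rw [blockHeight, h0, Nat.sub_zero, hdeg] at h1
      obtain ⟨h2, h3⟩ := irr_degree_eq η
      rw [hd] at h2
      rw [← Nat.cast_injective h2] at h1 h3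
      exact (hM.1.factorization_pos_of_dvd h3.ne' hpd).ne' h1
    obtain ⟨S, hSn, hS, hSi, hSab⟩ := Char.ItoMichler.aux p _ (G ⧸ K) rfl hsolQ hp'
    have hRS : R ≤ S := by
      intro x hx
      have hk : ∀ y : (G ⧸ K) ⧸ S, (∃ n : ℕ, y ^ p ^ n = 1) → y = 1 := by
        rintro y ⟨n, hn⟩
        have h1 : orderOf y ∣ p ^ n := orderOf_dvd_of_pow_eq_one hn
        have h2 : orderOf y ∣ S.index := orderOf_dvd_natCard y
        exact orderOf_eq_one_iff.mp (Nat.eq_one_of_dvd_coprimes
          (Nat.Coprime.pow_left n (hM.1.coprime_iff_not_dvd.mpr hSi)) h1 h2)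
      obtain ⟨n, hn⟩ := hR ⟨x, hx⟩
      refine (QuotientGroup.eq_one_iff x).mp (hk _ ⟨n, ?_⟩)
      rw [← QuotientGroup.mk_pow, (QuotientGroup.eq_one_iff _)]
      have h1 : x ^ p ^ n = 1 := congrArg Subtype.val hn
      rw [h1]; exact one_mem _
    refine ⟨⟨fun a b => Subtype.ext ?_⟩⟩
    have hab := hSab _ (hRS ⟨a, a.2, rfl⟩) _ (hRS ⟨b, b.2, rfl⟩)
    rw [← map_mul, ← map_mul, hfdef, QuotientGroup.mk'_apply, QuotientGroup.mk'_apply,
      QuotientGroup.eq] at hab
    have hm : ((a : G) * b)⁻¹ * ((b : G) * a) ∈ (P : Subgroup G) :=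
      mul_mem (inv_mem (mul_mem a.2 b.2)) (mul_mem b.2 a.2)
    have h1 := PSolvable.eq_one_of_mem_of_mem P.isPGroup' (Transfer.pPrimeCore_coprime p) hm hab
    exact inv_mul_eq_one.mp h1

end Cfsg.Agent.S4736
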