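import Cfsg.Statements.S4738
import Cfsg.Agent.Lib.Blocks.NoTwoP.PElements
import Cfsg.Agent.Lib.Blocks.NoTwoP.Inverting

set_option linter.style.haveILetI false

set_option autoImplicit false
open Cfsg

namespace Cfsg.Agent.S4738

/-- Let p be an odd prime and G a finite group of even order containing no element of order 2p. Then either G has an irreducible character of p-defect zero (its degree has the same p-part as the order of G), or every Sylow p-subgroup of G is abelian and all involutions of G are conjugate. -/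
theorem result {G : Type*} [Group G] [Finite G] (p : ℕ) [Fact p.Prime] (hp2 : p ≠ 2) (hG : Even (Nat.card G)) (h2p : ∀ g : G, orderOf g ≠ 2 * p) : (∃ χ : Cfsg.IrrCharacter G, (Cfsg.charDegree (χ : G → ℂ)).factorization p = (Nat.card G).factorization p) ∨ ((∀ P : Sylow p G, IsMulCommutative ↥(P : Subgroup G)) ∧ ∀ s t : G, orderOf s = 2 → orderOf t = 2 → IsConj s t) := by
  classical
  haveI := Fintype.ofFinite G
  by_cases hno : ∃ χ : Cfsg.IrrCharacter G,
      (Cfsg.charDegree (χ : G → ℂ)).factorization p = (Nat.card G).factorization p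
  · exact Or.inl hno
  have hp : p.Prime := Fact.out
  have key : ∀ s : G, orderOf s = 2 → ∃ u : G, u ≠ 1 ∧ (∃ k, orderOf u = p ^ k) ∧
      ∃ P : Sylow p G, u ∈ (P : Subgroup G) ∧ ∀ x ∈ (P : Subgroup G), s * x * s⁻¹ = x⁻¹ := by
    intro s hs
    obtain ⟨u, hu, hupow, hsu⟩ := CfsgLib.Blocks.NoTwoP.exists_inverted hp hno hs fun h => by
      obtain ⟨v, hv⟩ := exists_prime_orderOf_dvd_card' p h
      refine CfsgLib.Blocks.NoTwoP.not_commute hp hp2 h2p hs (u := (v : G)) (fun h1 => ?_)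
        ⟨1, by rw [Subgroup.orderOf_coe, hv, pow_one]⟩
        (Subgroup.mem_centralizer_singleton_iff.mp v.2).symm
      rw [← Subgroup.orderOf_coe, h1, orderOf_one] at hv
      exact hp.one_lt.ne hv
    exact ⟨u, hu, hupow, CfsgLib.Blocks.NoTwoP.exists_inverted_sylow hp2 h2p hs hu hupow hsu⟩
  refine Or.inr ⟨fun P => ?_, fun s t hs ht => ?_⟩
  · obtain ⟨s, hs⟩ := exists_prime_orderOf_dvd_card' 2 (even_iff_two_dvd.mp hG)
    obtain ⟨u, -, -, Q, -, hQ⟩ := key s hs
    obtain ⟨g, hg⟩ := MulAction.exists_smul_eq G Q P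
    have hcomm : ∀ x ∈ (Q : Subgroup G), ∀ y ∈ (Q : Subgroup G), x * y = y * x := by
      intro x hx y hy
      have h1 := hQ _ (mul_mem hx hy)
      rw [← conj_mul, hQ x hx, hQ y hy, ← mul_inv_rev] at h1
      exact (inv_injective h1).symm
    refine ⟨⟨fun x y => Subtype.ext ?_⟩⟩
    have hmem : ∀ z : (P : Subgroup G), g⁻¹ * (z : G) * g ∈ (Q : Subgroup G) := fun z => by
      have h1 : (z : G) ∈ ((g • Q : Sylow p G) : Subgroup G) := by rw [hg]; exact z.2
      rw [Sylow.coe_subgroup_smul, Subgroup.mem_pointwise_smul_iff_inv_smul_mem] at h1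
      simpa [MulAut.smul_def, MulAut.conj_inv_apply] using h1
    have h1 := hcomm _ (hmem x) _ (hmem y)
    calc (x : G) * y = g * ((g⁻¹ * x * g) * (g⁻¹ * y * g)) * g⁻¹ := by group
      _ = g * ((g⁻¹ * y * g) * (g⁻¹ * x * g)) * g⁻¹ := by rw [h1]
      _ = (y : G) * x := by group
  · obtain ⟨u, hu, hupow, P, huP, hP⟩ := key s hs
    obtain ⟨v, -, -, Q, -, hQ⟩ := key t ht
    obtain ⟨g, hg⟩ := MulAction.exists_smul_eq G Q P
    have ht' : orderOf (g * t * g⁻¹) = 2 := by
      rw [← ht]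
      exact orderOf_injective (MulAut.conj g).toMonoidHom (MulAut.conj g).injective t
    have h1 : u ∈ ((g • Q : Sylow p G) : Subgroup G) := by rw [hg]; exact huP
    rw [Sylow.coe_subgroup_smul, Subgroup.mem_pointwise_smul_iff_inv_smul_mem] at h1
    have h2 : g⁻¹ * u * g ∈ (Q : Subgroup G) := by
      simpa [MulAut.smul_def, MulAut.conj_inv_apply] using h1
    have htu : g * t * g⁻¹ * u * (g * t * g⁻¹)⁻¹ = u⁻¹ :=
      calc g * t * g⁻¹ * u * (g * t * g⁻¹)⁻¹ = g * (t * (g⁻¹ * u * g) * t⁻¹) * g⁻¹ := by group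
        _ = u⁻¹ := by rw [hQ _ h2]; group
    have hw : s * (g * t * g⁻¹) * u = u * (s * (g * t * g⁻¹)) :=
      calc s * (g * t * g⁻¹) * u
          = s * (g * t * g⁻¹ * u * (g * t * g⁻¹)⁻¹) * s⁻¹ * (s * (g * t * g⁻¹)) := by group
        _ = u * (s * (g * t * g⁻¹)) := by rw [htu, hP _ (inv_mem huP), inv_inv]
    obtain ⟨c, -, hc⟩ := CfsgLib.Blocks.NoTwoP.exists_conj_of_odd hs ht'
      ((CfsgLib.Blocks.NoTwoP.odd_card_centralizer hp hp2 h2p hu hupow).of_dvd_nat
        (Subgroup.orderOf_dvd_natCard _ (Subgroup.mem_centralizer_singleton_iff.mpr hw)))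
    refine isConj_iff.mpr ⟨g⁻¹ * c, ?_⟩
    calc g⁻¹ * c * s * (g⁻¹ * c)⁻¹ = g⁻¹ * (c * s * c⁻¹) * g := by group
      _ = t := by rw [← hc]; group

end Cfsg.Agent.S4738
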