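import Cfsg.Statements.S4740
import Cfsg.Agent.Lib.Blocks.SylowCount
import Cfsg.Agent.Lib.Blocks.Sections
import Cfsg.Agent.Lib.Blocks.BrauerFeit

set_option autoImplicit false
open Cfsg
open scoped CfsgLib.Char

set_option autoImplicit false
open Cfsg

namespace Cfsg.Agent.S4740

/-- Let p be an odd prime, G a finite group of even order, x an involution of G and P a subgroup of G of order p ^ c such that no conjugate of x inverts a non-identity element of P. If p ^ a is the p-part of the order of C_G(x), then some irreducible character of G has degree divisible by p ^ (c - a). -/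
theorem result {G : Type*} [Group G] [Finite G] (p : ℕ) [Fact p.Prime] (hp2 : p ≠ 2) (hG : Even (Nat.card G)) (x : G) (hx : orderOf x = 2) (P : Subgroup G) (c : ℕ) (hP : Nat.card ↥P = p ^ c) (hinv : ∀ g : G, IsConj x g → ∀ z ∈ P, z ≠ 1 → g * z * g⁻¹ ≠ z⁻¹) (a : ℕ) (ha : (Nat.card ↥(Subgroup.centralizer ({x} : Set G))).factorization p = a) : ∃ χ : Cfsg.IrrCharacter G, p ^ (c - a) ∣ Cfsg.charDegree (χ : G → ℂ) := by
  classical
  have := Fintype.ofFinite G
  have := Fintype.ofFinite P
  rcases Nat.le_or_ge c a with hca | hca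
  · refine ⟨CfsgLib.Blocks.trivIrr G, ?_⟩
    rw [Nat.sub_eq_zero_of_le hca, pow_zero]
    exact one_dvd _
  rcases hca.eq_or_lt with hca | hca
  · exact ⟨CfsgLib.Blocks.trivIrr G, by rw [hca, Nat.sub_self, pow_zero]; exact one_dvd _⟩
  obtain ⟨M, hM⟩ := CfsgLib.Blocks.exists_isPModular (Fact.out : p.Prime)
  have := CfsgLib.Blocks.isPrime_of_isPModular hM
  have hinvol : ∀ y : G, IsConj x y → y⁻¹ = y := fun y hy => by
    obtain ⟨k, rfl⟩ := isConj_iff.mp hy
    have ho : orderOf (k * x * k⁻¹) = 2 :=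
      (orderOf_injective (MulAut.conj k).toMonoidHom (MulAut.conj k).injective x).trans hx
    exact inv_eq_of_mul_eq_one_right (by rw [← sq, ← ho, pow_orderOf_eq_one])
  have hpair : ∀ yz : G × G,
      (IsConj x yz.1 ∧ IsConj x yz.2 ∧ yz.2 * yz.1⁻¹ ∈ P) ↔ (IsConj x yz.1 ∧ yz.2 = yz.1) := by
    refine fun yz => ⟨fun ⟨h1, h2, h3⟩ => ⟨h1, ?_⟩,
      fun ⟨h1, h2⟩ => ⟨h1, h2 ▸ h1, by rw [h2, mul_inv_cancel]; exact one_mem _⟩⟩
    by_contra hne
    refine hinv yz.2 h2 _ h3 (fun h => hne (mul_inv_eq_one.mp h)) ?_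
    rw [mul_inv_rev, inv_inv, hinvol _ h1, hinvol _ h2,
      show yz.2 * (yz.2 * yz.1) * yz.2 = (yz.2 * yz.2) * (yz.1 * yz.2) by group,
      show yz.2 * yz.2 = 1 from inv_eq_iff_mul_eq_one.mp (hinvol _ h2), one_mul]
  have h := CfsgLib.Blocks.card_pairs_subgroup P x x
  rw [Nat.card_congr (Equiv.subtypeEquivRight hpair),
    show Nat.card {yz : G × G // IsConj x yz.1 ∧ yz.2 = yz.1} = Nat.card {y : G // IsConj x y} from
      Nat.card_congr
        { toFun := fun yz => ⟨yz.1.1, yz.2.1⟩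
          invFun := fun y => ⟨(y.1, y.1), y.2, rfl⟩
          left_inv := fun yz => Subtype.ext (Prod.ext rfl yz.2.2.symm)
          right_inv := fun y => rfl },
    ← CfsgLib.Blocks.index_centralizer_eq_card] at h
  set C := Subgroup.centralizer ({x} : Set G)
  by_contra hcon
  push Not at hcon
  set e := c - a
  have he : 0 < e := Nat.sub_pos_of_lt hca
  have hp0 : (p : ℂ) ≠ 0 := Nat.cast_ne_zero.mpr hM.1.ne_zero
  have hC0 : (C.index : ℂ) ≠ 0 := Nat.cast_ne_zero.mpr C.index_ne_zero_of_finite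
  have hP0 : (P.index : ℂ) ≠ 0 := Nat.cast_ne_zero.mpr P.index_ne_zero_of_finite
  have hsum : ∑ χ : IrrCharacter G, classInner (fun v : P => (χ : G → ℂ) v) 1 *
      ((χ : G → ℂ) x * (starRingEnd ℂ) ((χ : G → ℂ) x)) / (χ : G → ℂ) 1 = (P.index : ℂ) / C.index := by
    rw [div_mul_eq_mul_div, eq_div_iff hP0] at h
    have h' := (mul_left_cancel₀ hC0 h).symm
    rw [eq_div_iff hC0, Finset.sum_mul, ← h']
    refine Finset.sum_congr rfl fun χ _ => ?_
    rw [centralChar]
    ring
  have hloc : MemLocalRing M ((p : ℂ) ^ (e - 1) * ((P.index : ℂ) / C.index)) := by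
    rw [← hsum, Finset.mul_sum]
    refine CfsgLib.Blocks.memLocalRing_sum _ _ fun χ _ => ?_
    obtain ⟨k, hk⟩ := CfsgLib.Char.exists_nat_classInner
      (CfsgLib.Char.isCharacter_restrict P (CfsgLib.Char.isCharacter_of_isIrr χ.2))
      CfsgLib.Char.isCharacter_one
    set d := charDegree (χ : G → ℂ)
    set f := d.factorization p
    have hf : f ≤ e - 1 := by
      by_contra hlt
      exact hcon χ ((hM.1.pow_dvd_iff_le_factorization (CfsgLib.Blocks.irr_degree_eq χ).2.ne').mpr
        (by show e ≤ d.factorization p; omega))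
    obtain ⟨j, hj⟩ := Nat.exists_eq_add_of_le hf
    set d' := d / p ^ f
    have hd : (d : ℂ) = (p : ℂ) ^ f * (d' : ℂ) := by
      rw [← Nat.cast_pow, ← Nat.cast_mul, Nat.ordProj_mul_ordCompl_eq_self]
    have hd' : ¬ p ∣ d' := Nat.not_dvd_ordCompl hM.1 (CfsgLib.Blocks.irr_degree_eq χ).2.ne'
    have hterm : MemLocalRing M ((p : ℂ) ^ j * ((k : ℂ) *
        (((χ : G → ℂ) x * (starRingEnd ℂ) ((χ : G → ℂ) x)) * (d' : ℂ)⁻¹))) :=
      CfsgLib.Blocks.memLocalRing_mul
        (CfsgLib.Blocks.memLocalRing_pow (CfsgLib.Blocks.memLocalRing_natCast p) j)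
        (CfsgLib.Blocks.memLocalRing_mul (CfsgLib.Blocks.memLocalRing_natCast k)
          (CfsgLib.Blocks.memLocalRing_mul (CfsgLib.Blocks.memLocalRing_of_isIntegral
            ((CfsgLib.Blocks.irr_isIntegral χ.2 x).mul (CfsgLib.Blocks.irr_conj_isIntegral χ.2 x)))
            (CfsgLib.Blocks.memLocalRing_natCast_inv hM hd')))
    convert hterm using 1
    have hd'0 : (d' : ℂ) ≠ 0 := Nat.cast_ne_zero.mpr fun h0 => hd' (h0 ▸ dvd_zero p)
    rw [show classInner (fun v : P => (χ : G → ℂ) v) 1 = (k : ℂ) from hk,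
      (CfsgLib.Blocks.irr_degree_eq χ).1, hd, hj, pow_add]
    field_simp
  -- but its valuation is negative
  have hci : C.index.factorization p + a = (Nat.card G).factorization p := by
    rw [← C.card_mul_index, Nat.factorization_mul Nat.card_pos.ne' C.index_ne_zero_of_finite,
      Finsupp.add_apply, ha, add_comm]
  have hPi : P.index.factorization p + c = (Nat.card G).factorization p := by
    rw [← P.card_mul_index, Nat.factorization_mul Nat.card_pos.ne' P.index_ne_zero_of_finite,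
      Finsupp.add_apply, hP, Nat.Prime.factorization_pow hM.1, Finsupp.single_eq_same, add_comm]
  obtain ⟨hu, -⟩ := CfsgLib.Blocks.unit_natCast_div hM C.index_ne_zero_of_finite
    (mul_ne_zero (pow_ne_zero e hM.1.ne_zero) P.index_ne_zero_of_finite) (by
      rw [Nat.factorization_mul (pow_ne_zero e hM.1.ne_zero) P.index_ne_zero_of_finite,
        Finsupp.add_apply, Nat.Prime.factorization_pow hM.1, Finsupp.single_eq_same]
      omega)
  have hone : MemLocalIdeal M (1 : ℂ) := by
    convert CfsgLib.Blocks.memLocalIdeal_mul_right (CfsgLib.Blocks.memLocalIdeal_p hM)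
      (CfsgLib.Blocks.memLocalRing_mul hloc hu) using 1
    push_cast
    rw [show e = e - 1 + 1 by omega, Nat.add_sub_cancel, pow_succ]
    field_simp
  exact CfsgLib.Blocks.not_memLocalIdeal_one hone

end Cfsg.Agent.S4740
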