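import Cfsg.Statements.S4741
import Cfsg.Agent.Lib.Blocks.SylowCount
import Cfsg.Agent.Lib.Blocks.Sections

set_option autoImplicit false
open Cfsg
open scoped CfsgLib.Char

set_option autoImplicit false
open Cfsg

namespace Cfsg.Agent.S4741

/-- Let p be a prime, M a maximal ideal of the algebraic integers containing p, and D a subgroup of the finite group G. Let x₁, …, x_r be pairwise non-conjugate elements of G such that D is a Sylow p-subgroup of the centralizer of each xᵢ, and such that for any conjugates g of some xᵢ and h of some xⱼ the element g h⁻¹ is never a non-identity p-element. Then there are r distinct p-blocks B₁, …, B_r of G, each having D as a defect group, such that for every choice of characters χᵢ ∈ Bᵢ of height zero the determinant of the r × r matrix (χᵢ(xⱼ)) does not lie in the local ideal at M. -/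
theorem result {G : Type*} [Group G] [Finite G] (p : ℕ) [Fact p.Prime] (M : Ideal Cfsg.AlgInt) (hM : Cfsg.IsPModular p M) (D : Subgroup G) {r : ℕ} (x : Fin r → G) (hx : ∀ i j : Fin r, IsConj (x i) (x j) → i = j) (hD : ∀ i : Fin r, ∃ S : Sylow p ↥(Subgroup.centralizer ({x i} : Set G)), (S : Subgroup ↥(Subgroup.centralizer ({x i} : Set G))).map (Subgroup.centralizer ({x i} : Set G)).subtype = D) (hsep : ∀ i j : Fin r, ∀ g h : G, IsConj (x i) g → IsConj (x j) h → ∀ k : ℕ, 0 < k → orderOf (g * h⁻¹) ≠ p ^ k) : ∃ B : Fin r → Set (Cfsg.IrrCharacter G), Function.Injective B ∧ (∀ i : Fin r, Cfsg.IsPBlock M (B i) ∧ Cfsg.IsDefectGroup p M (B i) D) ∧ ∀ χ : Fin r → Cfsg.IrrCharacter G, (∀ i : Fin r, χ i ∈ B i ∧ Cfsg.blockHeight p (B i) (χ i : G → ℂ) = 0) → ¬ Cfsg.MemLocalIdeal M (Matrix.det (Matrix.of fun i j : Fin r => (χ i : G → ℂ) (x j))) := by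
  classical
  have := Fintype.ofFinite G
  have := CfsgLib.Blocks.isPrime_of_isPModular hM
  let S : Sylow p G := default
  have := Fintype.ofFinite (S : Subgroup G)
  have hxi : ∀ i, CfsgLib.Blocks.IsSylowCent p (x i) D := fun i => by
    obtain ⟨Q, hQ⟩ := hD i
    exact CfsgLib.Blocks.isSylowCent_iff.mpr ⟨Q, hQ.symm⟩
  set a := (Nat.card G).factorization p
  set il : ℂ := ((S : Subgroup G).index : ℂ)⁻¹
  have hil : MemLocalRing M il := CfsgLib.Blocks.memLocalRing_natCast_inv hM S.not_dvd_index
  set m : Fin r → IrrCharacter G → ℂ := fun i χ =>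
    classInner (fun v : (S : Subgroup G) => (χ : G → ℂ) v) 1 * (starRingEnd ℂ) ((χ : G → ℂ) (x i))
  have hml : ∀ i χ, MemLocalRing M (m i χ) := fun i χ => by
    obtain ⟨k, hk⟩ := CfsgLib.Char.exists_nat_classInner
      (CfsgLib.Char.isCharacter_restrict (S : Subgroup G) (CfsgLib.Char.isCharacter_of_isIrr χ.2))
      CfsgLib.Char.isCharacter_one
    refine CfsgLib.Blocks.memLocalRing_mul ?_ (CfsgLib.Blocks.memLocalRing_of_isIntegral
      (CfsgLib.Blocks.irr_conj_isIntegral χ.2 _))
    exact (show classInner (fun v : (S : Subgroup G) => (χ : G → ℂ) v) 1 = (k : ℂ) from hk) ▸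
      CfsgLib.Blocks.memLocalRing_natCast k
  -- the pairs
  have hid : ∀ i j, il * ∑ χ : IrrCharacter G, centralChar (χ : G → ℂ) (x j) * m i χ =
      if i = j then 1 else 0 := by
    intro i j
    have h := CfsgLib.Blocks.card_pairs_coset S (x i) (x j)
    have hpair : ∀ yz : G × G,
        (IsConj (x i) yz.1 ∧ IsConj (x j) yz.2 ∧ yz.2 * yz.1⁻¹ ∈ (S : Subgroup G)) ↔
          (i = j ∧ IsConj (x i) yz.1 ∧ yz.2 = yz.1) := by
      refine fun yz => ⟨fun ⟨h1, h2, h3⟩ => ?_, fun ⟨hij, h1, h2⟩ =>
        ⟨h1, hij ▸ h2 ▸ h1, by rw [h2, mul_inv_cancel]; exact one_mem _⟩⟩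
      obtain ⟨k, hk⟩ := IsPGroup.iff_orderOf.mp S.2 ⟨_, h3⟩
      rw [← Subgroup.orderOf_coe] at hk
      have hk0 : k = 0 := by
        by_contra hk0
        exact hsep j i yz.2 yz.1 h2 h1 k (Nat.pos_of_ne_zero hk0) hk
      rw [hk0, pow_zero, orderOf_eq_one_iff, mul_inv_eq_one] at hk
      exact ⟨hx i j (h1.trans (hk ▸ h2).symm), h1, hk⟩
    rw [Nat.card_congr (Equiv.subtypeEquivRight hpair)] at h
    have hi0 : ((Subgroup.centralizer ({x i} : Set G)).index : ℂ) ≠ 0 :=
      Nat.cast_ne_zero.mpr Subgroup.index_ne_zero_of_finite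
    refine mul_left_cancel₀ hi0 ?_
    simp only [m, il]
    rw [← mul_assoc, ← div_eq_mul_inv, ← h]
    split_ifs with hij
    · rw [mul_one, Nat.cast_inj, CfsgLib.Blocks.index_centralizer_eq_card]
      exact Nat.card_congr
        { toFun := fun yz => ⟨yz.1.1, yz.2.2.1⟩
          invFun := fun y => ⟨(y.1, y.1), hij, y.2, rfl⟩
          left_inv := fun yz => Subtype.ext (Prod.ext rfl yz.2.2.2.symm)
          right_inv := fun y => rfl }
    · rw [mul_zero, Nat.cast_eq_zero, Nat.card_eq_zero]
      exact Or.inl ⟨fun yz => hij yz.2.1⟩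
  -- blocks
  set I := {B : Set (IrrCharacter G) // IsPBlock M B ∧ IsDefectGroup p M B D}
  choose c hc using fun B : I => CfsgLib.Blocks.IsPBlock.nonempty B.2.1
  set T : Set (IrrCharacter G) → Fin r → CfsgLib.Blocks.ResField M := fun B i =>
    CfsgLib.Blocks.res M (il * ∑ χ : IrrCharacter G with χ ∈ B, m i χ)
  set E : Matrix (Fin r) I (CfsgLib.Blocks.ResField M) := Matrix.of fun i B => T B.1 i
  set L : Matrix I (Fin r) (CfsgLib.Blocks.ResField M) :=
    Matrix.of fun B j => CfsgLib.Blocks.res M (centralChar (c B : G → ℂ) (x j))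
  have hEL : E * L = 1 := by
    ext i j
    set F : Set (IrrCharacter G) → ℂ := fun B =>
      il * ∑ χ : IrrCharacter G with χ ∈ B, centralChar (χ : G → ℂ) (x j) * m i χ
    have hFl : ∀ B ∈ CfsgLib.Blocks.blocks M G, MemLocalRing M (F B) := fun B _ =>
      CfsgLib.Blocks.memLocalRing_mul hil (CfsgLib.Blocks.memLocalRing_sum _ _ fun χ _ =>
        CfsgLib.Blocks.memLocalRing_mul (CfsgLib.Blocks.memLocalRing_centralChar χ _) (hml i χ))
    have hsplit : ∑ B ∈ CfsgLib.Blocks.blocks M G, F B =
        il * ∑ χ : IrrCharacter G, centralChar (χ : G → ℂ) (x j) * m i χ := by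
      simp only [F, ← Finset.mul_sum, Finset.sum_filter]
      rw [Finset.sum_comm]
      congr 1
      refine Finset.sum_congr rfl fun χ _ => ?_
      rw [Finset.sum_eq_single_of_mem (blockOf M (χ : G → ℂ))
        (CfsgLib.Blocks.mem_blocks.mpr (CfsgLib.Blocks.isPBlock_blockOf χ)) fun B hB hne => if_neg
          fun h => hne (CfsgLib.Blocks.IsPBlock.eq_of_mem_of_mem (CfsgLib.Blocks.mem_blocks.mp hB)
            (CfsgLib.Blocks.isPBlock_blockOf χ) h (CfsgLib.Blocks.mem_blockOf_self χ)),
        if_pos (CfsgLib.Blocks.mem_blockOf_self χ)]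
    have hFB : ∀ B, IsPBlock M B → ∀ χ ∈ B, CfsgLib.Blocks.res M (F B) =
        T B i * CfsgLib.Blocks.res M (centralChar (χ : G → ℂ) (x j)) := by
      intro B hB χ hχ
      have hs := CfsgLib.Blocks.memLocalRing_mul hil (CfsgLib.Blocks.memLocalRing_sum
        (Finset.univ.filter (· ∈ B)) (m i) fun η _ => hml i η)
      rw [show T B i = _ from rfl,
        ← CfsgLib.Blocks.res_mul hs (CfsgLib.Blocks.memLocalRing_centralChar χ _)]
      refine (CfsgLib.Blocks.res_eq_iff (hFl B (CfsgLib.Blocks.mem_blocks.mpr hB))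
        (CfsgLib.Blocks.memLocalRing_mul hs (CfsgLib.Blocks.memLocalRing_centralChar χ _))).mpr ?_
      rw [mul_assoc, ← mul_sub, Finset.sum_mul, ← Finset.sum_sub_distrib]
      refine CfsgLib.Blocks.memLocalIdeal_mul_left hil (CfsgLib.Blocks.memLocalIdeal_sum _ _ fun η hη => ?_)
      rw [mul_comm (m i η), ← sub_mul]
      exact CfsgLib.Blocks.memLocalIdeal_mul_right
        (CfsgLib.Blocks.IsPBlock.sameBlock hB (Finset.mem_filter.mp hη).2 hχ _) (hml i η)
    set s : Finset (Set (IrrCharacter G)) := Finset.univ.image fun B : I => B.1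
    have hzero : ∀ B ∈ CfsgLib.Blocks.blocks M G, B ∉ s → CfsgLib.Blocks.res M (F B) = 0 := by
      intro B hB hBs
      have hBp := CfsgLib.Blocks.mem_blocks.mp hB
      obtain ⟨χ, hχ⟩ := CfsgLib.Blocks.IsPBlock.nonempty hBp
      rw [hFB B hBp χ hχ]
      by_contra hne
      have hw : ¬ MemLocalIdeal M (centralChar (χ : G → ℂ) (x j)) := fun h =>
        hne (by rw [CfsgLib.Blocks.res_eq_zero h, mul_zero])
      obtain ⟨D', hD'⟩ := CfsgLib.Blocks.exists_isDefectGroup hM hBp
      obtain ⟨y, hy, hle⟩ := CfsgLib.Blocks.IsDefectGroup.exists_isConj_centralizing hM hBp hD' hχ hw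
      obtain ⟨z, hz⟩ := CfsgLib.Blocks.IsSylowCent.exists_conj_le_of_isConj (hxi j) hy
        (CfsgLib.Blocks.IsDefectGroup.isPGroup hM hD') hle
      rcases lt_or_eq_of_le (Subgroup.card_le_of_le hz) with hlt | heq
      · -- small defect: every term vanishes
        refine hne (mul_eq_zero_of_left ?_ _)
        refine CfsgLib.Blocks.res_eq_zero (CfsgLib.Blocks.memLocalIdeal_mul_left hil
          (CfsgLib.Blocks.memLocalIdeal_sum _ _ fun η hη => ?_))
        obtain ⟨k, hk⟩ := CfsgLib.Char.exists_nat_classInner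
          (CfsgLib.Char.isCharacter_restrict (S : Subgroup G) (CfsgLib.Char.isCharacter_of_isIrr η.2))
          CfsgLib.Char.isCharacter_one
        simp only [m]
        rw [show classInner (fun v : (S : Subgroup G) => (η : G → ℂ) v) 1 = (k : ℂ) from hk,
          CfsgLib.Blocks.conj_value_eq_centralChar, CfsgLib.Blocks.centralizer_singleton_inv]
        refine CfsgLib.Blocks.memLocalIdeal_mul_left (CfsgLib.Blocks.memLocalRing_natCast _)
          (CfsgLib.Blocks.memLocalIdeal_mul_left (CfsgLib.Blocks.memLocalRing_centralChar η _) ?_)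
        obtain ⟨hdle, -, hall, -⟩ := CfsgLib.Blocks.blockDefect_le_and_degree hM hBp
        rw [Subgroup.card_map_of_injective (MulAut.conj z).injective,
          CfsgLib.Blocks.IsDefectGroup.card_eq hM hBp hD', (hxi i).2,
          Nat.pow_lt_pow_iff_right hM.1.one_lt] at hlt
        have hfac := congrArg (fun n : ℕ => n.factorization p)
          (Subgroup.centralizer ({x i} : Set G)).card_mul_index
        simp only [Nat.factorization_mul Nat.card_pos.ne' Subgroup.index_ne_zero_of_finite,
          Finsupp.add_apply] at hfac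
        have hdeg := hall η (Finset.mem_filter.mp hη).2
        set e := (Subgroup.centralizer ({x i} : Set G)).index.factorization p with he
        have hl : e < (charDegree (η : G → ℂ)).factorization p := by omega
        obtain ⟨q, hq⟩ := (hM.1.pow_dvd_iff_le_factorization
          (CfsgLib.Blocks.irr_degree_eq η).2.ne').mpr hl
        set u := (Subgroup.centralizer ({x i} : Set G)).index / p ^ e with hu
        have hidx : (Subgroup.centralizer ({x i} : Set G)).index = p ^ e * u :=
          (Nat.ordProj_mul_ordCompl_eq_self _ p).symm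
        have hup : ¬ p ∣ u := Nat.not_dvd_ordCompl hM.1 Subgroup.index_ne_zero_of_finite
        have hmem : MemLocalIdeal M ((p : ℂ) * ((q : ℂ) * (u : ℂ)⁻¹)) :=
          CfsgLib.Blocks.memLocalIdeal_mul_right (CfsgLib.Blocks.memLocalIdeal_p hM)
            (CfsgLib.Blocks.memLocalRing_mul (CfsgLib.Blocks.memLocalRing_natCast q)
              (CfsgLib.Blocks.memLocalRing_natCast_inv hM hup))
        convert hmem using 1
        rw [(CfsgLib.Blocks.irr_degree_eq η).1, hidx, hq]
        have hp0 : (p : ℂ) ≠ 0 := Nat.cast_ne_zero.mpr hM.1.ne_zero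
        push_cast
        field_simp
        rw [Nat.succ_eq_add_one, pow_succ']
        ring
      · refine hBs (Finset.mem_image.mpr ⟨⟨B, hBp, ?_⟩, Finset.mem_univ _, rfl⟩)
        have hDD := Subgroup.eq_of_le_of_card_ge hz heq.ge
        have hb := CfsgLib.Blocks.IsDefectGroup.conj hM hD' z⁻¹
        rw [hDD, Subgroup.map_map] at hb
        rwa [show ((MulAut.conj z⁻¹).toMonoidHom.comp (MulAut.conj z).toMonoidHom) = MonoidHom.id G by
          ext w; simp [mul_assoc], Subgroup.map_id] at hb
    have h1 := congrArg (CfsgLib.Blocks.res M) (hsplit.trans (hid i j))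
    rw [CfsgLib.Blocks.res_sum _ _ hFl,
      ← Finset.sum_subset (fun B hB => by
        obtain ⟨C, -, rfl⟩ := Finset.mem_image.mp hB
        exact CfsgLib.Blocks.mem_blocks.mpr C.2.1) hzero,
      Finset.sum_image fun B _ C _ h => Subtype.ext h] at h1
    rw [Matrix.mul_apply, Matrix.one_apply]
    simp only [E, L, Matrix.of_apply, ← fun B : I => hFB B.1 B.2.1 (c B) (hc B)]
    rw [h1]
    split_ifs
    · exact CfsgLib.Blocks.res_one
    · exact CfsgLib.Blocks.res_zero
  -- independent rows
  have hrank : L.rank = r := by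
    refine le_antisymm ((Matrix.rank_le_card_width L).trans (Fintype.card_fin r).le) ?_
    calc r = (E * L).rank := by rw [hEL, Matrix.rank_one, Fintype.card_fin]
      _ ≤ L.rank := Matrix.rank_mul_le_right E L
  obtain ⟨b, hb, hspan, hli⟩ := exists_linearIndependent (CfsgLib.Blocks.ResField M) (Set.range L.row)
  have : Finite b := ((Set.finite_range L.row).subset hb).to_subtype
  have := Fintype.ofFinite b
  have hcardb : Fintype.card b = r := by
    rw [← finrank_span_eq_card hli, Subtype.range_coe, hspan, ← Matrix.rank_eq_finrank_span_row, hrank]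
  set eb : Fin r ≃ b := (Fintype.equivFinOfCardEq hcardb).symm
  choose Bi hBi using fun i : Fin r => hb (eb i).2
  refine ⟨fun i => (Bi i).1, fun i j h => eb.injective (Subtype.ext ?_), fun i => (Bi i).2, ?_⟩
  · rw [← hBi i, ← hBi j, Subtype.ext h]
  intro χ hχ hdet
  have hd : ∀ i, blockDefect p (Bi i).1 = (Nat.card D).factorization p := fun i => by
    rw [CfsgLib.Blocks.IsDefectGroup.card_eq hM (Bi i).2.1 (Bi i).2.2,
      Nat.Prime.factorization_pow hM.1, Finsupp.single_eq_same]
  set A : Matrix (Fin r) (Fin r) (CfsgLib.Blocks.ResField M) :=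
    Matrix.of fun i j => CfsgLib.Blocks.res M (centralChar (χ i : G → ℂ) (x j))
  have hA : A.det ≠ 0 := by
    have hrow : A.row = fun i => ((eb i : b) : Fin r → CfsgLib.Blocks.ResField M) := by
      funext i j
      rw [← hBi i]
      exact (CfsgLib.Blocks.res_eq_iff (CfsgLib.Blocks.memLocalRing_centralChar _ _)
        (CfsgLib.Blocks.memLocalRing_centralChar _ _)).mpr
        (CfsgLib.Blocks.IsPBlock.sameBlock (Bi i).2.1 (hχ i).1 (hc (Bi i)) _)
    have hu : IsUnit A := Matrix.linearIndependent_rows_iff_isUnit.mp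
      (hrow ▸ hli.comp eb eb.injective)
    exact ((Matrix.isUnit_iff_isUnit_det A).mp hu).ne_zero
  -- the values
  have hval : ∀ i j, MemLocalRing M ((χ i : G → ℂ) (x j)) := fun i j =>
    CfsgLib.Blocks.memLocalRing_of_isIntegral (CfsgLib.Blocks.irr_isIntegral (χ i).2 _)
  have hu : ∀ i j, MemLocalRing M ((charDegree (χ i : G → ℂ) : ℂ) /
        ((Subgroup.centralizer ({x j} : Set G)).index : ℂ)) ∧
      ¬ MemLocalIdeal M ((charDegree (χ i : G → ℂ) : ℂ) /
        ((Subgroup.centralizer ({x j} : Set G)).index : ℂ)) := by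
    intro i j
    refine CfsgLib.Blocks.unit_natCast_div hM (CfsgLib.Blocks.irr_degree_eq (χ i)).2.ne'
      Subgroup.index_ne_zero_of_finite ?_
    have h := congrArg (fun n : ℕ => n.factorization p)
      (Subgroup.centralizer ({x j} : Set G)).card_mul_index
    have hc' := congrArg (fun n : ℕ => n.factorization p) (hxi j).2
    simp only [Nat.factorization_mul Nat.card_pos.ne' Subgroup.index_ne_zero_of_finite,
      Finsupp.add_apply, Nat.Prime.factorization_pow hM.1, Finsupp.single_eq_same] at h hc'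
    rw [(CfsgLib.Blocks.blockHeight_eq_zero_iff hM (Bi i).2.1 (hχ i).1).mp (hχ i).2, hd i]
    omega
  set VR : Matrix (Fin r) (Fin r) (CfsgLib.Blocks.locRing M) :=
    Matrix.of fun i j => ⟨(χ i : G → ℂ) (x j), hval i j⟩
  have hVR : (CfsgLib.Blocks.locRing M).subtype VR.det =
      Matrix.det (Matrix.of fun i j : Fin r => (χ i : G → ℂ) (x j)) := by
    rw [RingHom.map_det]; rfl
  have hdet0 : Ideal.Quotient.mk (CfsgLib.Blocks.locIdeal M) VR.det = 0 :=
    Ideal.Quotient.eq_zero_iff_mem.mpr (CfsgLib.Blocks.mem_locIdeal.mpr (by rw [← hVR] at hdet; exact hdet))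
  rw [RingHom.map_det] at hdet0
  rcases Nat.eq_zero_or_pos r with rfl | hr0
  · simp at hdet0
  set j0 : Fin r := ⟨0, hr0⟩
  -- factor the degrees and the class sizes
  set du : Fin r → CfsgLib.Blocks.ResField M := fun i => CfsgLib.Blocks.res M
    ((charDegree (χ i : G → ℂ) : ℂ) / ((Subgroup.centralizer ({x j0} : Set G)).index : ℂ))
  have hk : ∀ j, MemLocalRing M (((Subgroup.centralizer ({x j0} : Set G)).index : ℂ) /
        ((Subgroup.centralizer ({x j} : Set G)).index : ℂ)) ∧
      ¬ MemLocalIdeal M (((Subgroup.centralizer ({x j0} : Set G)).index : ℂ) /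
        ((Subgroup.centralizer ({x j} : Set G)).index : ℂ)) := by
    intro j
    refine CfsgLib.Blocks.unit_natCast_div hM Subgroup.index_ne_zero_of_finite
      Subgroup.index_ne_zero_of_finite ?_
    have h1 := congrArg (fun n : ℕ => n.factorization p)
      (Subgroup.centralizer ({x j} : Set G)).card_mul_index
    have h2 := congrArg (fun n : ℕ => n.factorization p)
      (Subgroup.centralizer ({x j0} : Set G)).card_mul_index
    have h3 := congrArg (fun n : ℕ => n.factorization p) ((hxi j).2.symm.trans (hxi j0).2)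
    simp only [Nat.factorization_mul Nat.card_pos.ne' Subgroup.index_ne_zero_of_finite,
      Finsupp.add_apply, Nat.Prime.factorization_pow hM.1, Finsupp.single_eq_same] at h1 h2 h3
    omega
  set ku : Fin r → CfsgLib.Blocks.ResField M := fun j => CfsgLib.Blocks.res M
    (((Subgroup.centralizer ({x j0} : Set G)).index : ℂ) /
        ((Subgroup.centralizer ({x j} : Set G)).index : ℂ))
  have hmap : (Ideal.Quotient.mk (CfsgLib.Blocks.locIdeal M)).mapMatrix VR =
      Matrix.diagonal du * A * Matrix.diagonal ku := by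
    ext i j
    rw [RingHom.mapMatrix_apply, Matrix.map_apply, Matrix.mul_diagonal, Matrix.diagonal_mul]
    simp only [du, ku, A, VR, Matrix.of_apply]
    rw [← CfsgLib.Blocks.res_mul (hu i j0).1 (CfsgLib.Blocks.memLocalRing_centralChar _ _),
      ← CfsgLib.Blocks.res_mul (CfsgLib.Blocks.memLocalRing_mul (hu i j0).1
        (CfsgLib.Blocks.memLocalRing_centralChar _ _)) (hk j).1, ← CfsgLib.Blocks.res_mk]
    congr 1
    rw [centralChar, (CfsgLib.Blocks.irr_degree_eq (χ i)).1]
    have h1 : ((Subgroup.centralizer ({x j} : Set G)).index : ℂ) ≠ 0 :=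
      Nat.cast_ne_zero.mpr Subgroup.index_ne_zero_of_finite
    have h2 : ((Subgroup.centralizer ({x j0} : Set G)).index : ℂ) ≠ 0 :=
      Nat.cast_ne_zero.mpr Subgroup.index_ne_zero_of_finite
    have h3 : (charDegree (χ i : G → ℂ) : ℂ) ≠ 0 :=
      Nat.cast_ne_zero.mpr (CfsgLib.Blocks.irr_degree_eq (χ i)).2.ne'
    field_simp
  rw [hmap, Matrix.det_mul, Matrix.det_mul, Matrix.det_diagonal, Matrix.det_diagonal] at hdet0
  rcases mul_eq_zero.mp hdet0 with h | h
  · rcases mul_eq_zero.mp h with h | h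
    · obtain ⟨i, -, hi⟩ := Finset.prod_eq_zero_iff.mp h
      exact (hu i j0).2 ((CfsgLib.Blocks.res_eq_zero_iff (hu i j0).1).mp hi)
    · exact hA h
  · obtain ⟨i, -, hi⟩ := Finset.prod_eq_zero_iff.mp h
    exact (hk i).2 ((CfsgLib.Blocks.res_eq_zero_iff (hk i).1).mp hi)

end Cfsg.Agent.S4741
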