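import Cfsg.Statements.S4742
import Cfsg.Agent.Lib.Blocks.ClassPairs

set_option autoImplicit false
open Cfsg
open scoped CfsgLib.Char

set_option autoImplicit false
open Cfsg

namespace Cfsg.Agent.S4742

/-- Let p ≠ q be primes dividing the order of the finite group G, and suppose the centralizer of every non-identity p-element of G has order prime to q. Then either G has an irreducible character of p-defect zero, or for every non-identity q-element z of G there are conjugates g, h of z such that g h⁻¹ is a non-identity p-element. -/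
theorem result {G : Type*} [Group G] [Finite G] (p q : ℕ) [Fact p.Prime] [Fact q.Prime] (hppq : p ≠ q) (hpG : p ∣ Nat.card G) (hqG : q ∣ Nat.card G) (hC : ∀ g : G, g ≠ 1 → (∃ k : ℕ, orderOf g = p ^ k) → ¬ q ∣ Nat.card ↥(Subgroup.centralizer ({g} : Set G))) : (∃ χ : Cfsg.IrrCharacter G, (Cfsg.charDegree (χ : G → ℂ)).factorization p = (Nat.card G).factorization p) ∨ ∀ z : G, z ≠ 1 → (∃ k : ℕ, orderOf z = q ^ k) → ∃ g h : G, IsConj z g ∧ IsConj z h ∧ g * h⁻¹ ≠ 1 ∧ ∃ k : ℕ, orderOf (g * h⁻¹) = p ^ k := by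
  classical
  have := Fintype.ofFinite G
  refine or_iff_not_imp_left.mpr fun hno z hz1 hzq => ?_
  refine (CfsgLib.Blocks.exists_defectZero_or_pair Fact.out fun hd => ?_).resolve_left hno
  obtain ⟨u, hu⟩ := exists_prime_orderOf_dvd_card' p hd
  rw [← Subgroup.orderOf_coe] at hu
  have hu1 : (u : G) ≠ 1 := fun h => by
    rw [h, orderOf_one] at hu; exact (Fact.out : p.Prime).ne_one hu.symm
  refine hC _ hu1 ⟨1, by rw [hu, pow_one]⟩ ?_
  obtain ⟨k, hk⟩ := hzq
  have hqz : q ∣ orderOf z := by
    rw [hk]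
    exact dvd_pow_self q fun h => hz1 (orderOf_eq_one_iff.mp (by rw [hk, h, pow_zero]))
  refine hqz.trans ?_
  rw [← Subgroup.orderOf_mk z (Subgroup.mem_centralizer_singleton_iff.mpr
    (Subgroup.mem_centralizer_singleton_iff.mp u.2).symm)]
  exact orderOf_dvd_natCard _

end Cfsg.Agent.S4742
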