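import Cfsg.Statements.S4743
import Cfsg.Agent.S4742

set_option autoImplicit false
open Cfsg

namespace Cfsg.Agent.S4743

/-- The hypothesis on centralizers is symmetric in the two primes. -/
theorem centralizer_symm {G : Type*} [Group G] [Finite G] {p q : ℕ} [Fact p.Prime] [Fact q.Prime]
    (hC : ∀ g : G, g ≠ 1 → (∃ k : ℕ, orderOf g = p ^ k) → ¬ q ∣ Nat.card ↥(Subgroup.centralizer ({g} : Set G))) :
    ∀ g : G, g ≠ 1 → (∃ k : ℕ, orderOf g = q ^ k) → ¬ p ∣ Nat.card ↥(Subgroup.centralizer ({g} : Set G)) := by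
  intro z hz1 hzq hd
  obtain ⟨u, hu⟩ := exists_prime_orderOf_dvd_card' p hd
  rw [← Subgroup.orderOf_coe] at hu
  have hu1 : (u : G) ≠ 1 := fun h => by
    rw [h, orderOf_one] at hu; exact (Fact.out : p.Prime).ne_one hu.symm
  refine hC _ hu1 ⟨1, by rw [hu, pow_one]⟩ ?_
  obtain ⟨k, hk⟩ := hzq
  have hqz : q ∣ orderOf z := by
    rw [hk]
    exact dvd_pow_self q fun h => hz1 (orderOf_eq_one_iff.mp (by rw [hk, h, pow_zero]))
  refine hqz.trans ?_
  rw [← Subgroup.orderOf_mk z (Subgroup.mem_centralizer_singleton_iff.mpr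
    (Subgroup.mem_centralizer_singleton_iff.mp u.2).symm)]
  exact orderOf_dvd_natCard _

/-- A normal subgroup divisible by one prime only gives a defect zero character for the other. -/
theorem exists_of_normal {G : Type*} [Group G] [Finite G] {p q : ℕ} [Fact p.Prime] [Fact q.Prime] (hpq : p ≠ q)
    (hpG : p ∣ Nat.card G) (hqG : q ∣ Nat.card G)
    (hC : ∀ g : G, g ≠ 1 → (∃ k : ℕ, orderOf g = p ^ k) → ¬ q ∣ Nat.card ↥(Subgroup.centralizer ({g} : Set G)))
    (N : Subgroup G) [N.Normal] (hqN : q ∣ Nat.card N) (hpN : ¬ p ∣ Nat.card N) :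
    ∃ χ : Cfsg.IrrCharacter G, (Cfsg.charDegree (χ : G → ℂ)).factorization p = (Nat.card G).factorization p := by
  refine (Cfsg.Agent.S4742.result p q hpq hpG hqG hC).resolve_right fun h => ?_
  obtain ⟨z, hz⟩ := exists_prime_orderOf_dvd_card' q hqN
  rw [← Subgroup.orderOf_coe] at hz
  obtain ⟨g, g', hg, hg', hne, k, hk⟩ := h z (fun h => by
    rw [h, orderOf_one] at hz; exact (Fact.out : q.Prime).ne_one hz.symm) ⟨1, by rw [hz, pow_one]⟩
  have hmem : ∀ {x : G}, IsConj (z : G) x → x ∈ N := fun {x} hx => by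
    obtain ⟨c, rfl⟩ := isConj_iff.mp hx
    exact ‹N.Normal›.conj_mem _ z.2 c
  have hd := Subgroup.orderOf_mk (g * g'⁻¹) (N.mul_mem (hmem hg) (N.inv_mem (hmem hg')))
  rcases k with _ | k
  · exact hne (orderOf_eq_one_iff.mp (by simpa using hk))
  · exact hpN ((dvd_pow_self p k.succ_ne_zero).trans (hk ▸ hd ▸ orderOf_dvd_natCard _))

/-- In a solvable series, the first layer divisible by one of the primes gives the character. -/
theorem exists_of_solvable {G : Type*} [Group G] [Finite G] {p q : ℕ} [Fact p.Prime] [Fact q.Prime] (hpq : p ≠ q)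
    (hpG : p ∣ Nat.card G) (hqG : q ∣ Nat.card G)
    (hC : ∀ g : G, g ≠ 1 → (∃ k : ℕ, orderOf g = p ^ k) → ¬ q ∣ Nat.card ↥(Subgroup.centralizer ({g} : Set G)))
    (hC' : ∀ g : G, g ≠ 1 → (∃ k : ℕ, orderOf g = q ^ k) → ¬ p ∣ Nat.card ↥(Subgroup.centralizer ({g} : Set G)))
    (hsolv : Cfsg.IsPSolvable p G) :
    (∃ χ : Cfsg.IrrCharacter G, (Cfsg.charDegree (χ : G → ℂ)).factorization p = (Nat.card G).factorization p) ∨
      (∃ χ : Cfsg.IrrCharacter G, (Cfsg.charDegree (χ : G → ℂ)).factorization q = (Nat.card G).factorization q) := by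
  obtain ⟨n, H, h0, hl, hmono, hnorm, hstep⟩ := hsolv
  have hp := (Fact.out : p.Prime)
  have hq := (Fact.out : q.Prime)
  by_contra hno
  rw [not_or] at hno
  have key : ∀ i : Fin (n + 1), ¬ p ∣ Nat.card (H i) ∧ ¬ q ∣ Nat.card (H i) := by
    intro i
    induction i using Fin.induction with
    | zero => rw [h0, Subgroup.card_bot]; exact ⟨hp.not_dvd_one, hq.not_dvd_one⟩
    | succ i ih =>
      haveI := hnorm i.succ
      have hc := Subgroup.relIndex_mul_relIndex ⊥ _ _ bot_le (hmono (Fin.castSucc_le_succ i))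
      simp only [Subgroup.relIndex_bot_left] at hc
      have hnp : ¬ p ∣ Nat.card (H i.succ) := by
        intro hpi
        by_cases hqi : q ∣ Nat.card (H i.succ)
        · rcases hstep i with ⟨m, hm⟩ | hcop
          · rw [← hc, hm] at hqi
            rcases hq.dvd_mul.mp hqi with h | h
            · exact ih.2 h
            · exact hpq ((Nat.prime_dvd_prime_iff_eq hq hp).mp (hq.dvd_of_dvd_pow h)).symm
          · rw [← hc] at hpi
            rcases hp.dvd_mul.mp hpi with h | h
            · exact ih.1 h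
            · exact hp.coprime_iff_not_dvd.mp hcop.symm h
        · exact hno.2 (exists_of_normal hpq.symm hqG hpG hC' (H i.succ) hpi hqi)
      exact ⟨hnp, fun hqi => hno.1 (exists_of_normal hpq hpG hqG hC (H i.succ) hqi hnp)⟩
  have := (key (Fin.last n)).1
  rw [hl, Subgroup.card_top] at this
  exact this hpG


/-- Let p ≠ q be primes dividing the order of the finite group G, suppose the centralizer of every non-identity p-element has order prime to q, and suppose G is p-solvable or q-solvable. Then G has an irreducible character of p-defect zero or an irreducible character of q-defect zero. -/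
theorem result {G : Type*} [Group G] [Finite G] (p q : ℕ) [Fact p.Prime] [Fact q.Prime] (hppq : p ≠ q) (hpG : p ∣ Nat.card G) (hqG : q ∣ Nat.card G) (hC : ∀ g : G, g ≠ 1 → (∃ k : ℕ, orderOf g = p ^ k) → ¬ q ∣ Nat.card ↥(Subgroup.centralizer ({g} : Set G))) (hsolv : Cfsg.IsPSolvable p G ∨ Cfsg.IsPSolvable q G) : (∃ χ : Cfsg.IrrCharacter G, (Cfsg.charDegree (χ : G → ℂ)).factorization p = (Nat.card G).factorization p) ∨ (∃ χ : Cfsg.IrrCharacter G, (Cfsg.charDegree (χ : G → ℂ)).factorization q = (Nat.card G).factorization q) := by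
  rcases hsolv with h | h
  · exact exists_of_solvable hppq hpG hqG hC (centralizer_symm hC) h
  · exact (exists_of_solvable hppq.symm hqG hpG (centralizer_symm hC) hC h).symm
end Cfsg.Agent.S4743
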