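import Cfsg.Statements.S4744
import Cfsg.Agent.Lib.Blocks.ClassPairs

set_option autoImplicit false
open Cfsg
open scoped CfsgLib.Char

set_option autoImplicit false
open Cfsg

namespace Cfsg.Agent.S4744

/-- Let p be an odd prime and G a finite group of even order divisible by p in which the centralizer of every non-identity p-element has odd order. Then either G has an irreducible character of p-defect zero, or the normalizer of every Sylow p-subgroup P of G has even order and P is abelian. -/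
theorem result {G : Type*} [Group G] [Finite G] (p : ℕ) [Fact p.Prime] (hp2 : p ≠ 2) (hpG : p ∣ Nat.card G) (h2G : 2 ∣ Nat.card G) (hC : ∀ g : G, g ≠ 1 → (∃ k : ℕ, orderOf g = p ^ k) → Odd (Nat.card ↥(Subgroup.centralizer ({g} : Set G)))) : (∃ χ : Cfsg.IrrCharacter G, (Cfsg.charDegree (χ : G → ℂ)).factorization p = (Nat.card G).factorization p) ∨ ∀ P : Sylow p G, Even (Nat.card ↥(Subgroup.normalizer ((P : Subgroup G) : Set G))) ∧ IsMulCommutative ↥(P : Subgroup G) := by
  classical
  have := Fintype.ofFinite G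
  have : Fact (Nat.Prime 2) := ⟨Nat.prime_two⟩
  refine (CfsgLib.Blocks.exists_defectZero_or_inverting Fact.out hp2 h2G hC).imp_right
    fun ⟨t, u, ht, hu1, hu, htu⟩ P => ?_
  -- an element inverted by an involution normalizing a Sylow subgroup of its centralizer
  have key : ∀ (t v : G), orderOf t = 2 → v ≠ 1 → (∃ k : ℕ, orderOf v = p ^ k) → t * v * t⁻¹ = v⁻¹ →
      ∃ (Q : Subgroup G) (s : G), CfsgLib.Blocks.IsSylowCent p v Q ∧ orderOf s = 2 ∧
        ∀ y ∈ Q, s * y * s⁻¹ = y⁻¹ := by
    intro t v ht hv hvp htv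
    set C := Subgroup.centralizer ({v} : Set G)
    have hodd : ∀ y : G, y ≠ 1 → (∃ k : ℕ, orderOf y = p ^ k) →
        ∀ s : G, orderOf s = 2 → s * y ≠ y * s := by
      intro y hy hyp s hs hcomm
      refine Nat.not_even_iff_odd.mpr (hC y hy hyp) (even_iff_two_dvd.mpr ?_)
      rw [← hs, ← Subgroup.orderOf_mk s (Subgroup.mem_centralizer_singleton_iff.mpr hcomm)]
      exact orderOf_dvd_natCard _
    set L : Subgroup G := C ⊔ Subgroup.zpowers t
    have hCn : Subgroup.zpowers t ≤ Subgroup.normalizer (C : Set G) := by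
      refine Subgroup.zpowers_le.mpr (Subgroup.mem_normalizer_iff.mpr fun y => ?_)
      have e : t * v⁻¹ * t⁻¹ = v := by
        rw [show t * v⁻¹ * t⁻¹ = (t * v * t⁻¹)⁻¹ by group, htv, inv_inv]
      constructor <;> intro hy
      · refine Subgroup.mem_centralizer_singleton_iff.mpr ?_
        calc t * y * t⁻¹ * v = t * y * (t⁻¹ * (t * v⁻¹ * t⁻¹)) := by rw [e]; group
          _ = t * (y * v⁻¹) * t⁻¹ := by group
          _ = t * (v⁻¹ * y) * t⁻¹ := by
              rw [((show Commute y v from Subgroup.mem_centralizer_singleton_iff.mp hy).inv_right).eq]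
          _ = t * v⁻¹ * t⁻¹ * (t * y * t⁻¹) := by group
          _ = _ := by rw [e]
      · refine Subgroup.mem_centralizer_singleton_iff.mpr ?_
        have h := Subgroup.mem_centralizer_singleton_iff.mp hy
        calc y * v = t⁻¹ * ((t * y * t⁻¹) * (t * v * t⁻¹)) * t := by group
          _ = t⁻¹ * ((t * v * t⁻¹) * (t * y * t⁻¹)) * t := by
              rw [htv, ((show Commute (t * y * t⁻¹) v from h).inv_right).eq]
          _ = v * y := by group
    have hLn : L ≤ Subgroup.normalizer (C : Set G) := sup_le Subgroup.le_normalizer hCn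
    have hCL : C ≤ L := le_sup_left
    haveI : (C.subgroupOf L).Normal := Subgroup.normal_subgroupOf_of_le_normalizer hLn
    let Q0 : Sylow p (C.subgroupOf L) := default
    set Q1 : Subgroup L := (Q0 : Subgroup (C.subgroupOf L)).map (C.subgroupOf L).subtype
    have hfr := Sylow.normalizer_sup_eq_top Q0
    have heven : 2 ∣ Nat.card (Subgroup.normalizer (Q1 : Set L)) := by
      by_contra hn
      have hL : 2 ∣ Nat.card L := by
        rw [← ht, ← Subgroup.orderOf_mk t (Subgroup.mem_sup_right (Subgroup.mem_zpowers t) : t ∈ L)]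
        exact orderOf_dvd_natCard _
      have hNC : Nat.card (C.subgroupOf L) = Nat.card C :=
        Nat.card_congr (Subgroup.subgroupOfEquivOfLe hCL).toEquiv
      have hmul := Subgroup.card_mul_index (C.subgroupOf L)
      have h1 : (C.subgroupOf L).index ∣ Nat.card (Subgroup.normalizer (Q1 : Set L)) := by
        rw [← Subgroup.relIndex_top_right, ← hfr, Subgroup.relIndex_sup_right]
        exact Subgroup.relIndex_dvd_card _ _
      rw [← hmul] at hL
      rcases Nat.prime_two.dvd_mul.mp hL with h | h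
      · rw [hNC] at h
        exact Nat.not_even_iff_odd.mpr (hC v hv hvp) (even_iff_two_dvd.mpr h)
      · exact hn (h.trans h1)
    obtain ⟨s, hs⟩ := exists_prime_orderOf_dvd_card' 2 heven
    rw [← Subgroup.orderOf_coe, ← Subgroup.orderOf_coe] at hs
    refine ⟨Q1.map L.subtype, ((s : L) : G), ?_, hs, ?_⟩
    · refine ⟨?_, ?_⟩
      · rintro _ ⟨y, ⟨w, -, rfl⟩, rfl⟩
        exact w.2
      · rw [Subgroup.card_map_of_injective (Subgroup.subtype_injective _),
          Subgroup.card_map_of_injective (Subgroup.subtype_injective _), Q0.card_eq_multiplicity,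
          Nat.card_congr (Subgroup.subgroupOfEquivOfLe hCL).toEquiv]
    -- a fixed-point-free involution inverts
    set Q := Q1.map L.subtype
    have hQp : ∀ y ∈ Q, ∃ k : ℕ, orderOf y = p ^ k := by
      rintro _ ⟨y, ⟨w, hw, rfl⟩, rfl⟩
      obtain ⟨k, hk⟩ := IsPGroup.iff_orderOf.mp Q0.2 ⟨w, hw⟩
      rw [← Subgroup.orderOf_coe] at hk
      exact ⟨k, by rw [Subgroup.subtype_apply, Subgroup.subtype_apply, Subgroup.orderOf_coe,
        Subgroup.orderOf_coe, hk]⟩
    have hmem : ∀ y ∈ Q, ((s : L) : G) * y * ((s : L) : G)⁻¹ ∈ Q := by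
      rintro _ ⟨y, hy, rfl⟩
      exact ⟨(s : L) * y * (s : L)⁻¹, (Subgroup.mem_normalizer_iff.mp s.2 y).mp hy, by simp⟩
    have hss : ((s : L) : G) * ((s : L) : G) = 1 := by
      rw [← sq, ← hs, pow_orderOf_eq_one]
    set f : Q → Q := fun y => ⟨y.1⁻¹ * (((s : L) : G) * y.1 * ((s : L) : G)⁻¹),
      Q.mul_mem (Q.inv_mem y.2) (hmem _ y.2)⟩
    have hinj : Function.Injective f := by
      intro a b hab
      have h : a.1⁻¹ * (((s : L) : G) * a.1 * ((s : L) : G)⁻¹) =
          b.1⁻¹ * (((s : L) : G) * b.1 * ((s : L) : G)⁻¹) := congrArg Subtype.val hab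
      have hc : ((s : L) : G) * (b.1 * a.1⁻¹) = (b.1 * a.1⁻¹) * ((s : L) : G) := by
        calc ((s : L) : G) * (b.1 * a.1⁻¹)
            = b.1 * (b.1⁻¹ * (((s : L) : G) * b.1 * ((s : L) : G)⁻¹)) *
              (((s : L) : G) * a.1⁻¹) := by group
          _ = b.1 * (a.1⁻¹ * (((s : L) : G) * a.1 * ((s : L) : G)⁻¹)) *
              (((s : L) : G) * a.1⁻¹) := by rw [h]
          _ = _ := by group
      by_contra hne
      refine hodd (b.1 * a.1⁻¹) (fun h1 => hne (Subtype.ext (mul_inv_eq_one.mp h1).symm))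
        (hQp _ (Q.mul_mem b.2 (Q.inv_mem a.2))) _ hs hc
    intro y hy
    obtain ⟨a, ha⟩ := (Finite.injective_iff_surjective.mp hinj) ⟨y, hy⟩
    have e : a.1⁻¹ * (((s : L) : G) * a.1 * ((s : L) : G)⁻¹) = y := congrArg Subtype.val ha
    rw [← e, inv_eq_of_mul_eq_one_right hss]
    calc ((s : L) : G) * (a.1⁻¹ * (((s : L) : G) * a.1 * ((s : L) : G))) * ((s : L) : G)
        = ((s : L) : G) * a.1⁻¹ * ((s : L) : G) * a.1 * (((s : L) : G) * ((s : L) : G)) := by group
      _ = ((s : L) : G) * a.1⁻¹ * ((s : L) : G) * a.1 := by rw [hss, mul_one]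
      _ = _ := by
          have hi : ((s : L) : G)⁻¹ = ((s : L) : G) := inv_eq_of_mul_eq_one_right hss
          simp only [mul_inv_rev, inv_inv, hi]
          group
  obtain ⟨Q, s, hQ, hs, hinv⟩ := key t u ht hu1 hu htu
  obtain ⟨P0, hP0⟩ := IsPGroup.exists_le_sylow hQ.isPGroup
  have huQ : u ∈ Q := by
    have hz : Subgroup.zpowers u ≤ Subgroup.centralizer (Q : Set G) := by
      refine Subgroup.zpowers_le.mpr (Subgroup.mem_centralizer_iff.mpr fun y hy => ?_)
      exact Subgroup.mem_centralizer_singleton_iff.mp (hQ.1 hy)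
    have hp' : IsPGroup p ↥(Subgroup.zpowers u ⊔ Q) := by
      obtain ⟨k, hk⟩ := hu
      exact (IsPGroup.of_card (n := k) (by rw [Nat.card_zpowers, hk])).to_sup_of_normal_right'
        hQ.isPGroup (hz.trans (Subgroup.centralizer_le_normalizer _))
    have hle : Subgroup.zpowers u ⊔ Q ≤ Subgroup.centralizer ({u} : Set G) :=
      sup_le (Subgroup.zpowers_le.mpr (Subgroup.mem_centralizer_singleton_iff.mpr rfl)) hQ.1
    obtain ⟨n, hn⟩ := hp'.exists_card_eq
    have hd := Subgroup.card_dvd_of_le hle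
    rw [hn, (Fact.out : p.Prime).pow_dvd_iff_le_factorization Nat.card_pos.ne'] at hd
    have heq : Subgroup.zpowers u ⊔ Q = Q := (Subgroup.eq_of_le_of_card_ge le_sup_right (by
      rw [hn, hQ.2]; exact Nat.pow_le_pow_right (Fact.out : p.Prime).pos hd)).symm
    rw [← heq]
    exact Subgroup.mem_sup_left (Subgroup.mem_zpowers u)
  -- a central element of a Sylow subgroup in `Q`
  have hPne : Nontrivial (P0 : Subgroup G) := by
    rw [Subgroup.nontrivial_iff_ne_bot]
    intro h
    exact hu1 (Subgroup.mem_bot.mp (h ▸ hP0 huQ))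
  obtain ⟨⟨v, hvP⟩, hvc, hv1⟩ : ∃ v : (P0 : Subgroup G), v ∈ Subgroup.center (P0 : Subgroup G) ∧ v ≠ 1 := by
    have := P0.2.center_nontrivial
    obtain ⟨⟨v, hv⟩, hv1⟩ := exists_ne (1 : Subgroup.center (P0 : Subgroup G))
    exact ⟨v, hv, fun h => hv1 (Subtype.ext h)⟩
  have hcent : ∀ y ∈ (P0 : Subgroup G), y * v = v * y := fun y hy =>
    congrArg Subtype.val (Subgroup.mem_center_iff.mp hvc ⟨y, hy⟩)
  have hvp : ∃ k : ℕ, orderOf v = p ^ k := by
    obtain ⟨k, hk⟩ := IsPGroup.iff_orderOf.mp P0.2 ⟨v, hvP⟩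
    exact ⟨k, by rwa [← Subgroup.orderOf_coe] at hk⟩
  have hvQ : v ∈ Q := by
    have hle : Subgroup.zpowers v ⊔ Q ≤ Subgroup.centralizer ({u} : Set G) := sup_le
      (Subgroup.zpowers_le.mpr (Subgroup.mem_centralizer_singleton_iff.mpr (hcent u (hP0 huQ)).symm))
      hQ.1
    have hp' : IsPGroup p ↥(Subgroup.zpowers v ⊔ Q) :=
      P0.2.to_le (sup_le (Subgroup.zpowers_le.mpr hvP) hP0)
    obtain ⟨n, hn⟩ := hp'.exists_card_eq
    have hd := Subgroup.card_dvd_of_le hle
    rw [hn, (Fact.out : p.Prime).pow_dvd_iff_le_factorization Nat.card_pos.ne'] at hd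
    have heq : Subgroup.zpowers v ⊔ Q = Q := (Subgroup.eq_of_le_of_card_ge le_sup_right (by
      rw [hn, hQ.2]; exact Nat.pow_le_pow_right (Fact.out : p.Prime).pos hd)).symm
    rw [← heq]
    exact Subgroup.mem_sup_left (Subgroup.mem_zpowers v)
  obtain ⟨R, r, hR, hr, hrinv⟩ := key s v hs (fun h => hv1 (Subtype.ext h)) hvp (hinv v hvQ)
  -- `R` is a Sylow subgroup of the whole group
  have hRcard : Nat.card R = p ^ (Nat.card G).factorization p := by
    rw [hR.2]
    refine congrArg (p ^ ·) (le_antisymm ((Nat.factorization_le_iff_dvd Nat.card_pos.ne'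
      Nat.card_pos.ne').mpr (Subgroup.card_subgroup_dvd_card _) p) ?_)
    rw [← (Fact.out : p.Prime).pow_dvd_iff_le_factorization Nat.card_pos.ne', ← P0.card_eq_multiplicity]
    exact Subgroup.card_dvd_of_le fun y hy => Subgroup.mem_centralizer_singleton_iff.mpr (hcent y hy)
  set R' : Sylow p G := Sylow.ofCard R hRcard
  obtain ⟨g, rfl⟩ := MulAction.exists_smul_eq G R' P
  have hP' : ((g • R' : Sylow p G) : Subgroup G) = R.map (MulAut.conj g).toMonoidHom := by
    rw [Sylow.coe_subgroup_smul]; rfl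
  refine ⟨?_, ?_⟩
  · rw [even_iff_two_dvd, ← hr, show orderOf r = orderOf (g * r * g⁻¹) from
      (orderOf_injective (MulAut.conj g).toMonoidHom (MulAut.conj g).injective r).symm]
    have hm : g * r * g⁻¹ ∈ Subgroup.normalizer (((g • R' : Sylow p G) : Subgroup G) : Set G) := by
      rw [hP']
      refine Subgroup.mem_normalizer_fintype ?_
      rintro _ ⟨y, hy, rfl⟩
      refine ⟨y⁻¹, R.inv_mem hy, ?_⟩
      simp only [MulEquiv.coe_toMonoidHom, MulAut.conj_apply]
      rw [← hrinv y hy]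
      group
    rw [← Subgroup.orderOf_mk _ hm]
    exact orderOf_dvd_natCard _
  · refine ⟨⟨fun a b => Subtype.ext ?_⟩⟩
    have ha := a.2
    have hb := b.2
    simp only [hP'] at ha hb
    obtain ⟨x, hx, hxe⟩ := ha
    obtain ⟨y, hy, hye⟩ := hb
    have hR2 : ∀ x ∈ R, ∀ y ∈ R, x * y = y * x := by
      intro x hx y hy
      have h1 := hrinv _ (R.mul_mem hx hy)
      rw [mul_inv_rev, ← hrinv x hx, ← hrinv y hy] at h1
      have h2 : r * (x * y) * r⁻¹ = r * (y * x) * r⁻¹ := h1.trans (by group)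
      exact mul_left_cancel (mul_right_cancel h2)
    show (a : G) * b = b * a
    rw [← hxe, ← hye, ← map_mul, ← map_mul, hR2 x hx y hy]

end Cfsg.Agent.S4744
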