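import Cfsg.Statements.S4746
import Cfsg.Agent.Lib.Blocks.ClassPairs
import Cfsg.Agent.Lib.Char.Table

set_option autoImplicit false
open Cfsg
open scoped CfsgLib.Char

set_option autoImplicit false
open Cfsg

namespace Cfsg.Agent.S4746

/-- Let p be an odd prime and G a finite group of even order divisible by p in which the centralizer of every non-identity p-element has odd order. Then G has an irreducible character of p-defect zero or an irreducible character of even degree. -/
theorem result {G : Type*} [Group G] [Finite G] (p : ℕ) [Fact p.Prime] (hp2 : p ≠ 2) (hpG : p ∣ Nat.card G) (h2G : 2 ∣ Nat.card G) (hC : ∀ g : G, g ≠ 1 → (∃ k : ℕ, orderOf g = p ^ k) → Odd (Nat.card ↥(Subgroup.centralizer ({g} : Set G)))) : (∃ χ : Cfsg.IrrCharacter G, (Cfsg.charDegree (χ : G → ℂ)).factorization p = (Nat.card G).factorization p) ∨ ∃ χ : Cfsg.IrrCharacter G, Even (Cfsg.charDegree (χ : G → ℂ)) := by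
  classical
  have := Fintype.ofFinite G
  refine (CfsgLib.Blocks.exists_defectZero_or_inverting Fact.out hp2 h2G hC).imp_right
    fun ⟨t, u, ht, hu1, hu, htu⟩ => ?_
  by_contra hall
  push Not at hall
  obtain ⟨M, hM⟩ := CfsgLib.Blocks.exists_isPModular Nat.prime_two
  have := CfsgLib.Blocks.isPrime_of_isPModular hM
  have := CfsgLib.Blocks.charP_resField hM
  have : Fact (Nat.Prime 2) := ⟨Nat.prime_two⟩
  have hloc : ∀ χ : IrrCharacter G, MemLocalRing M ((χ : G → ℂ) u) := fun χ =>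
    CfsgLib.Blocks.memLocalRing_of_isIntegral (CfsgLib.Blocks.irr_isIntegral χ.2 u)
  have hreal : ∀ χ : IrrCharacter G, (starRingEnd ℂ) ((χ : G → ℂ) u) = (χ : G → ℂ) u := fun χ => by
    rw [← CfsgLib.Blocks.irr_value_inv χ.2, ← htu, CfsgLib.Blocks.irr_classFunction χ u t]
  have hu' : ¬ IsConj (1 : G) u := fun h => hu1 (by simpa [isConj_iff, eq_comm] using h)
  have h1 := CfsgLib.Char.column_orthogonality u (1 : G)
  rw [if_neg fun h => hu' h.symm] at h1
  have h2 := CfsgLib.Char.column_orthogonality u u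
  rw [if_pos (IsConj.refl u)] at h2
  simp only [hreal] at h2
  have hdeg : ∀ χ : IrrCharacter G, CfsgLib.Blocks.res M ((χ : G → ℂ) 1) = 1 := fun χ => by
    obtain ⟨k, hk⟩ := Nat.not_even_iff_odd.mp (hall χ)
    rw [(CfsgLib.Blocks.irr_degree_eq χ).1, hk, ← CfsgLib.Blocks.res_one]
    refine (CfsgLib.Blocks.res_eq_iff (CfsgLib.Blocks.memLocalRing_natCast _)
      CfsgLib.Blocks.memLocalRing_one).mpr ?_
    push_cast
    rw [add_sub_cancel_right, ← Nat.cast_ofNat, ← Nat.cast_mul]
    exact (CfsgLib.Blocks.memLocalIdeal_natCast_iff hM).mpr (dvd_mul_right 2 k)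
  have hl1 : ∀ χ : IrrCharacter G, MemLocalRing M ((χ : G → ℂ) 1) := fun χ =>
    CfsgLib.Blocks.memLocalRing_of_isIntegral (CfsgLib.Blocks.irr_isIntegral χ.2 1)
  have hs : ∑ χ : IrrCharacter G, CfsgLib.Blocks.res M ((χ : G → ℂ) u) = 0 := by
    have h : ∑ χ : IrrCharacter G, (χ : G → ℂ) u * (χ : G → ℂ) 1 = 0 := by
      rw [← h1]
      refine Finset.sum_congr rfl fun χ _ => ?_
      rw [(CfsgLib.Blocks.irr_degree_eq χ).1, Complex.conj_natCast]
    have h' := congrArg (CfsgLib.Blocks.res M) h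
    rw [CfsgLib.Blocks.res_sum _ _ fun χ _ => CfsgLib.Blocks.memLocalRing_mul (hloc χ) (hl1 χ),
      CfsgLib.Blocks.res_zero] at h'
    rw [← h']
    exact Finset.sum_congr rfl fun χ _ => by rw [CfsgLib.Blocks.res_mul (hloc χ) (hl1 χ), hdeg, mul_one]
  have hc := congrArg (CfsgLib.Blocks.res M) h2
  rw [CfsgLib.Blocks.res_sum _ _ fun χ _ => CfsgLib.Blocks.memLocalRing_mul (hloc χ) (hloc χ),
    Finset.sum_congr rfl fun χ _ => by
      rw [CfsgLib.Blocks.res_mul (hloc χ) (hloc χ), ← pow_two],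
    ← sum_pow_char, hs, zero_pow two_ne_zero] at hc
  have hmem := (CfsgLib.Blocks.res_eq_zero_iff (CfsgLib.Blocks.memLocalRing_natCast _)).mp hc.symm
  exact (Nat.not_even_iff_odd.mpr (hC u hu1 hu))
    (even_iff_two_dvd.mpr ((CfsgLib.Blocks.memLocalIdeal_natCast_iff hM).mp hmem))

end Cfsg.Agent.S4746
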