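import Cfsg.Statements.S4748
import Cfsg.Agent.Lib.TI.FaithfulDegree

set_option autoImplicit false
open scoped Pointwise
open Cfsg

namespace Cfsg.Agent.S4748

/-- Let G be a finite p-solvable group whose Sylow p-subgroup P meets each conjugate g P g⁻¹ with g outside N_G(P) trivially, and let χ be a faithful character of G (χ g = χ 1 only for g = 1) whose degree d satisfies d² ≤ |P|. Then P is normal in G. -/
theorem result {G : Type*} [Group G] [Finite G] (p : ℕ) [Fact p.Prime] (hsolv : Cfsg.IsPSolvable p G) (P : Sylow p G) (hTI : ∀ g : G, g ∉ Subgroup.normalizer ((P : Subgroup G) : Set G) → (P : Subgroup G) ⊓ (MulAut.conj g • (P : Subgroup G)) = ⊥) (χ : G → ℂ) (hχ : Cfsg.IsCharacter G χ) (hfaith : ∀ g : G, χ g = χ 1 → g = 1) (hdeg : Cfsg.charDegree χ ^ 2 ≤ Nat.card ↥(P : Subgroup G)) : (P : Subgroup G).Normal := by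
  classical
  obtain ⟨n, ρ, rfl⟩ := hχ
  have hn : Cfsg.charDegree ρ.character = n := by
    simp [Cfsg.charDegree, Representation.char_one]
  rw [hn] at hdeg
  haveI := CfsgLib.Fitting.pCore_normal (G := G) p
  by_cases hO : Cfsg.pCore p G = ⊥
  swap
  · rw [← Subgroup.normalizer_eq_top_iff, ← top_le_iff]
    intro g _
    by_contra hg
    refine hO (le_bot_iff.mp ((le_inf ?_ ?_).trans (hTI g hg).le))
    · exact (CfsgLib.Fitting.pCore_eq_iInf_sylow p).le.trans (iInf_le _ P)
    · intro x hx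
      have hx' : g⁻¹ * x * g ∈ Cfsg.pCore p G := by
        simpa using (CfsgLib.Fitting.pCore_normal (G := G) p).conj_mem x hx g⁻¹
      exact ⟨g⁻¹ * x * g, (CfsgLib.Fitting.pCore_eq_iInf_sylow p).le.trans (iInf_le _ P) hx', by
        show g * (g⁻¹ * x * g) * g⁻¹ = x
        group⟩
  by_cases hP1 : (P : Subgroup G) = ⊥
  · rw [hP1]; infer_instance
  exfalso
  haveI := CfsgLib.Transfer.pPrimeCore_normal p G
  set K := Cfsg.pPrimeCore p G with hK
  have hKp : (Nat.card K).Coprime p := CfsgLib.Transfer.pPrimeCore_coprime p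
  have hPK := CfsgLib.PSolvable.coprime_card_of_isPGroup P.2 hKp
  have hPnK : (P : Subgroup G) ≤ Subgroup.normalizer (K : Set G) := Subgroup.le_normalizer_of_normal
  have hnotc : ¬ (P : Subgroup G) ≤ Subgroup.centralizer (K : Set G) := fun h =>
    hP1 ((Subgroup.eq_bot_iff_forall _).mpr fun x hx => CfsgLib.PSolvable.eq_one_of_mem_of_mem P.2 hKp hx
      (CfsgLib.TIDegree.centralizer_pPrimeCore_le hsolv hO (h hx)))
  obtain ⟨r, hr, R₀, hR₀K, hR₀, hR₀n, hR₀c⟩ : ∃ r : ℕ, r.Prime ∧ ∃ R : Subgroup G, R ≤ K ∧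
      IsPGroup r R ∧ (P : Subgroup G) ≤ Subgroup.normalizer (R : Set G) ∧
      ¬ (P : Subgroup G) ≤ Subgroup.centralizer (R : Set G) := by
    by_contra h
    push Not at h
    refine hnotc fun x hx => ?_
    have hle : Nat.card K ∣ Nat.card (K ⊓ Subgroup.centralizer {x} : Subgroup G) := by
      rw [Nat.dvd_iff_prime_pow_dvd_dvd]
      intro q k hq hqk
      haveI := Fact.mk hq
      obtain ⟨Q, hQ⟩ := CfsgLib.Coprime.exists_invariant_sylow hPnK hPK
        (Or.inl (by haveI := P.2.isNilpotent; infer_instance)) q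
      have hQc := h q hq _ (Subgroup.map_subtype_le _) (Q.2.map _) hQ
      refine (Q.pow_dvd_card_of_pow_dvd_card hqk).trans ?_
      rw [← Subgroup.card_map_of_injective K.subtype_injective (K := (Q : Subgroup K))]
      exact Subgroup.card_dvd_of_le (le_inf (Subgroup.map_subtype_le _) fun y hy =>
        Subgroup.mem_centralizer_singleton_iff.mpr (Subgroup.mem_centralizer_iff.mp (hQc hx) y hy))
    have heq : K ⊓ Subgroup.centralizer {x} = K :=
      Subgroup.eq_of_le_of_card_ge inf_le_left (Nat.le_of_dvd Nat.card_pos hle)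
    refine Subgroup.mem_centralizer_iff.mpr fun y hy => ?_
    exact Subgroup.mem_centralizer_singleton_iff.mp (heq.ge hy).2
  let Pr : Subgroup G → Prop := fun R => R ≤ R₀ ∧ (P : Subgroup G) ≤ Subgroup.normalizer (R : Set G) ∧
    ¬ (P : Subgroup G) ≤ Subgroup.centralizer (R : Set G)
  obtain ⟨R, ⟨hRR, hRn, hRc⟩, hmin⟩ := exists_minimal_of_wellFoundedLT Pr ⟨R₀, le_rfl, hR₀n, hR₀c⟩
  haveI := Fact.mk hr
  haveI : Group.IsNilpotent R := (hR₀.to_le hRR).isNilpotent
  have hlt : Nat.card (P : Subgroup G) < n ^ 2 := by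
    refine CfsgLib.TIDegree.card_lt_finrank_sq hP1 hRn
      (hPK.coprime_dvd_right (Subgroup.card_dvd_of_le (hRR.trans hR₀K))) inferInstance hRc ?_ ?_ ρ ?_
    · intro S hS hne hSn
      by_contra hSc
      exact hne (le_antisymm hS (hmin ⟨hS.trans hRR, hSn, hSc⟩ hS))
    · intro x hx hx1 r hrR hxr u hu
      have hrK : r ∈ K := hR₀K (hRR hrR)
      have hrN : r ∈ Subgroup.normalizer ((P : Subgroup G) : Set G) := by
        by_contra hrN
        refine hx1 (Subgroup.mem_bot.mp ((hTI r hrN).le ⟨hx, x, hx, ?_⟩))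
        show r * x * r⁻¹ = x
        rw [← hxr.eq, mul_inv_cancel_right]
      have h1 : u⁻¹ * (r * u * r⁻¹) ∈ (P : Subgroup G) :=
        mul_mem (inv_mem hu) ((Subgroup.mem_normalizer_iff.mp hrN u).mp hu)
      have h2 : u⁻¹ * (r * u * r⁻¹) ∈ K := by
        rw [show u⁻¹ * (r * u * r⁻¹) = u⁻¹ * r * u * r⁻¹ by group]
        exact mul_mem (by simpa using (CfsgLib.Transfer.pPrimeCore_normal p G).conj_mem r hrK u⁻¹) (inv_mem hrK)
      have h3 := CfsgLib.PSolvable.eq_one_of_mem_of_mem P.2 hKp h1 h2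
      rw [inv_mul_eq_one, eq_mul_inv_iff_mul_eq] at h3
      exact h3
    · intro g hg hg1
      refine hfaith g ?_
      simp [Representation.character, hg1, map_one]
  exact absurd hdeg (not_le.mpr hlt)

end Cfsg.Agent.S4748
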