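import Cfsg.Statements.S4750
import Cfsg.Agent.Lib.TI.SmallFixed
import Cfsg.Agent.Lib.Char.Orth

set_option autoImplicit false
open scoped Pointwise
open Cfsg
open scoped CfsgLib.Char

namespace Cfsg.Agent.S4750

open Representation

/-- In dimension at most the square root of the order of a TI Sylow subgroup, maps commuting with
its normalizer commute with the group. -/
theorem commutes {G : Type*} [Group G] [Fintype G] {p : ℕ} [Fact p.Prime] (P : Sylow p G)
    (hTI : ∀ g : G, g ∉ Subgroup.normalizer ((P : Subgroup G) : Set G) →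
      (P : Subgroup G) ⊓ (MulAut.conj g • (P : Subgroup G)) = ⊥)
    {V : Type*} [AddCommGroup V] [Module ℂ V] [FiniteDimensional ℂ V] (ρ : Representation ℂ G V)
    (hV : Module.finrank ℂ V ^ 2 ≤ Nat.card (P : Subgroup G)) (T : V →ₗ[ℂ] V)
    (hT : ∀ h ∈ Subgroup.normalizer ((P : Subgroup G) : Set G), T ∘ₗ ρ h = ρ h ∘ₗ T) (g : G) :
    T ∘ₗ ρ g = ρ g ∘ₗ T := by
  classical
  rcases subsingleton_or_nontrivial V with hs | hs
  · ext x
    exact Subsingleton.elim _ _
  set σ := linHom ρ ρ
  set A : (V →ₗ[ℂ] V) →ₗ[ℂ] (V →ₗ[ℂ] V) := ∑ y : G, σ y with hA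
  have hAσ : ∀ g, A ∘ₗ σ g = A := fun g => by
    rw [hA, ← Module.End.mul_eq_comp, Finset.sum_mul]
    refine (Finset.sum_congr rfl fun y _ => ?_).trans (Equiv.sum_comp (Equiv.mulRight g) (fun y => σ y))
    exact (map_mul σ y g).symm
  have hσA : ∀ g, σ g ∘ₗ A = A := fun g => by
    rw [hA, ← Module.End.mul_eq_comp, Finset.mul_sum]
    refine (Finset.sum_congr rfl fun y _ => ?_).trans (Equiv.sum_comp (Equiv.mulLeft g) (fun y => σ y))
    exact (map_mul σ g y).symm
  let W : Submodule ℂ (V →ₗ[ℂ] V) := LinearMap.ker A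
  let σ₀ : Representation ℂ G W :=
    { toFun := fun g => (σ g).restrict (p := W) (q := W) (fun v hv => by
        rw [LinearMap.mem_ker] at hv ⊢
        rw [← LinearMap.comp_apply, hAσ, hv])
      map_one' := by ext v : 2; simp
      map_mul' := fun g h => by ext v : 2; simp }
  have hid : ∀ y : G, σ y LinearMap.id = LinearMap.id := fun y => by
    ext x
    simp [σ]
  have hA1 : A LinearMap.id = (Nat.card G : ℂ) • LinearMap.id := by
    rw [hA, LinearMap.sum_apply, Finset.sum_congr rfl (fun y _ => hid y), Finset.sum_const,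
      Nat.cast_smul_eq_nsmul, Nat.card_eq_fintype_card, Finset.card_univ]
  have hcard : (Nat.card G : ℂ) ≠ 0 := Nat.cast_ne_zero.mpr Nat.card_pos.ne'
  have hdim : Module.finrank ℂ W < Nat.card (P : Subgroup G) := by
    refine lt_of_lt_of_le (Submodule.finrank_lt (fun h => ?_)) ?_
    · have hid0 : (LinearMap.id : V →ₗ[ℂ] V) ∈ W := h ▸ Submodule.mem_top
      rw [LinearMap.mem_ker, hA1, smul_eq_zero] at hid0
      obtain ⟨x, hx⟩ := exists_ne (0 : V)
      exact hx (LinearMap.congr_fun (hid0.resolve_left hcard) x)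
    · rw [Module.finrank_linearMap, ← sq]
      exact hV
  have hTfix : ∀ h ∈ Subgroup.normalizer ((P : Subgroup G) : Set G), σ h T = T := fun h hh => by
    simp only [σ, linHom_apply]
    rw [← LinearMap.comp_assoc, ← hT h hh, LinearMap.comp_assoc, ← Module.End.mul_eq_comp, ← Module.End.mul_eq_comp, ← map_mul, mul_inv_cancel, map_one, mul_one]
  have hAA : A (A T) = (Nat.card G : ℂ) • A T := by
    conv_lhs => rw [hA, LinearMap.sum_apply]
    rw [Finset.sum_congr rfl (fun y _ => show σ y (A T) = A T by rw [← LinearMap.comp_apply, hσA]),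
      Finset.sum_const, Nat.cast_smul_eq_nsmul, Nat.card_eq_fintype_card, Finset.card_univ]
  set w : V →ₗ[ℂ] V := (Nat.card G : ℂ) • T - A T with hw
  have hwW : w ∈ W := by
    rw [LinearMap.mem_ker, hw, map_sub, map_smul, hAA, sub_self]
  have h0 := CfsgLib.TI.SmallFixed.eq_zero_of_fixed P hTI σ₀ hdim ⟨w, hwW⟩
    (fun h hh => Subtype.ext (by
      show σ h w = w
      rw [hw, map_sub, map_smul, hTfix h hh, ← LinearMap.comp_apply, hσA]))
    (Subtype.ext (by
      rw [AddSubmonoidClass.coe_finset_sum, ZeroMemClass.coe_zero]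
      show ∑ g : G, σ g w = 0
      rw [← LinearMap.sum_apply, ← hA]
      exact LinearMap.mem_ker.mp hwW))
  have h1 : (Nat.card G : ℂ) • T = A T := sub_eq_zero.mp (congrArg Subtype.val h0)
  have h2 : σ g T = T := by
    have h3 : σ g ((Nat.card G : ℂ) • T) = (Nat.card G : ℂ) • T := by
      rw [h1, ← LinearMap.comp_apply, hσA]
    rw [map_smul] at h3
    exact smul_right_injective _ hcard h3
  calc T ∘ₗ ρ g = σ g T ∘ₗ ρ g := by rw [h2]
    _ = ρ g ∘ₗ T := by
      simp only [σ, linHom_apply]
      rw [LinearMap.comp_assoc, LinearMap.comp_assoc, ← Module.End.mul_eq_comp (ρ g⁻¹), ← map_mul, inv_mul_cancel, map_one, Module.End.one_eq_id, LinearMap.comp_id]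

/-- Let P be a Sylow p-subgroup of the finite group G that meets each conjugate g P g⁻¹ with g outside N_G(P) trivially, χ a character of G with χ(1)² ≤ |P|, and H a subgroup of G containing N_G(P). Then the inner product of χ with itself over G equals the inner product over H of the restriction of χ to H. -/
theorem result {G : Type*} [Group G] [Fintype G] [DecidableEq G] (p : ℕ) [Fact p.Prime] (P : Sylow p G) (hTI : ∀ g : G, g ∉ Subgroup.normalizer ((P : Subgroup G) : Set G) → (P : Subgroup G) ⊓ (MulAut.conj g • (P : Subgroup G)) = ⊥) (χ : G → ℂ) (hχ : Cfsg.IsCharacter G χ) (hdeg : Cfsg.charDegree χ ^ 2 ≤ Nat.card ↥(P : Subgroup G)) (H : Subgroup G) [Fintype ↥H] (hH : Subgroup.normalizer ((P : Subgroup G) : Set G) ≤ H) : Cfsg.classInner χ χ = Cfsg.classInner (fun h : ↥H => χ h) (fun h : ↥H => χ h) := by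
  classical
  obtain ⟨n, ρ, rfl⟩ := hχ
  have hn : Cfsg.charDegree ρ.character = n := by
    unfold Cfsg.charDegree
    rw [Representation.char_one]
    simp
  rw [hn] at hdeg
  let ρH : Representation ℂ H (Fin n → ℂ) := ρ.comp H.subtype
  show Cfsg.classInner ρ.character ρ.character = Cfsg.classInner ρH.character ρH.character
  rw [CfsgLib.Char.classInner_character_eq_finrank, CfsgLib.Char.classInner_character_eq_finrank,
    Nat.cast_inj]
  let F : IntertwiningMap ρ ρ →ₗ[ℂ] IntertwiningMap ρH ρH :=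
    { toFun := fun S => ⟨S.toLinearMap, fun k => S.isIntertwining' (k : G)⟩
      map_add' := fun a b => rfl
      map_smul' := fun a b => rfl }
  refine (LinearEquiv.ofBijective F ⟨fun a b hab =>
    IntertwiningMap.ext (congrArg IntertwiningMap.toLinearMap hab :), fun S => ?_⟩).finrank_eq
  exact ⟨⟨S.toLinearMap, fun g => commutes P hTI ρ (by simpa using hdeg) S.toLinearMap
    (fun h hh => S.isIntertwining' ⟨h, hH hh⟩) g⟩, IntertwiningMap.ext rfl⟩

end Cfsg.Agent.S4750
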