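import Cfsg.Statements.S4751
import Cfsg.Agent.Lib.Char.Clifford
import Cfsg.Agent.Lib.Char.Artin
import Cfsg.Agent.Lib.Char.AbelianQuotient
import Cfsg.Agent.Lib.Char.Table
import Cfsg.Agent.Lib.Char.Central
import Cfsg.Agent.Lib.Char.Kernel
import Cfsg.Agent.Lib.Fitting.Basic

/-!
Faithful characters whose values on `p`-singular elements are roots of unity, `O_p ≠ 1`.

On `P = O_p(G)` Clifford and the norm force `χ|P = ρ_reg - 1`. The same norm argument on abelian and
on `p`-subgroups containing `P` gives the rest.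
-/

set_option autoImplicit false
set_option linter.unusedSectionVars false
open Cfsg

namespace Cfsg.Agent.S4751

open CfsgLib.Char
open scoped ComplexConjugate CfsgLib.Char commutatorElement

set_option synthInstance.maxSize 256 in
theorem perm_three : ∀ τ σ : Equiv.Perm (Fin 3), τ ^ 3 = 1 → τ ≠ 1 → σ * σ = 1 → σ ≠ 1 →
    (τ * σ * τ⁻¹ * σ) ^ 3 = 1 ∧ τ * σ * τ⁻¹ * σ ≠ 1 := by decide +kernel

open scoped Classical

variable {G : Type*} [Group G] [Fintype G]

/-- A normal subgroup on which a faithful irreducible character has trivial constituent is trivial. -/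
theorem eq_bot_of_trivial_constituent {χ : G → ℂ} (hχ : IsIrrCharacter G χ)
    (hfaith : ∀ g, χ g = χ 1 → g = 1) (N : Subgroup G) [N.Normal] [Fintype N]
    (h : classInner (fun n : N => χ n) (fun _ : N => (1 : ℂ)) ≠ 0) : N = ⊥ := by
  have hc := clifford_invariant N hχ (isIrrCharacter_one (G := N)) (fun g => rfl) h
  refine (Subgroup.eq_bot_iff_forall _).2 fun n hn => hfaith n ?_
  have h1 : χ n = classInner (fun n : N => χ n) (fun _ : N => (1 : ℂ)) := by
    simpa using congrFun hc ⟨n, hn⟩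
  have h2 : χ 1 = classInner (fun n : N => χ n) (fun _ : N => (1 : ℂ)) := by
    simpa using congrFun hc 1
  rw [h1, h2]

/-- A faithful irreducible character takes maximal absolute value only on the center. -/
theorem mem_center_of_norm {χ : G → ℂ} (hχ : IsIrrCharacter G χ)
    (hfaith : ∀ g, χ g = χ 1 → g = 1) {g : G} (h : ‖χ g‖ = ‖χ 1‖) : g ∈ Subgroup.center G := by
  obtain ⟨n, ρ, hρ, rfl⟩ := hχ
  rw [Representation.char_one, Complex.norm_natCast] at h
  obtain ⟨ω, hω⟩ := (norm_character_eq_iff ρ g).mp h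
  refine Subgroup.mem_center_iff.2 fun k => inv_mul_eq_one.1 (hfaith _ ?_)
  rw [Representation.char_one]
  refine (character_eq_finrank_iff ρ _).2 ?_
  have hc : ρ (k * g) = ρ (g * k) := by
    rw [map_mul, map_mul, hω]
    ext v
    simp
  rw [map_mul, ← hc, ← map_mul, inv_mul_cancel, map_one]
  rfl

section Basic

variable {p : ℕ} [hp : Fact p.Prime] {χ : G → ℂ}

theorem norm_eq_one (hroot : ∀ g : G, p ∣ orderOf g → ∃ n : ℕ, 0 < n ∧ χ g ^ n = 1) {g : G}
    (hg : p ∣ orderOf g) : ‖χ g‖ = 1 := by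
  obtain ⟨n, hn, h⟩ := hroot g hg
  exact Complex.norm_eq_one_of_pow_eq_one h hn.ne'

theorem dvd_orderOf_of_mem {H : Subgroup G} (hH : IsPGroup p H) {x : G} (hx : x ∈ H) (hx1 : x ≠ 1) :
    p ∣ orderOf x := by
  obtain ⟨k, hk⟩ := (IsPGroup.iff_orderOf.1 hH) ⟨x, hx⟩
  rw [← Subgroup.orderOf_coe] at hk
  rw [hk]
  refine dvd_pow_self p fun h0 => hx1 (orderOf_eq_one_iff.1 ?_)
  simpa [h0] using hk

/-- The norm of the restriction to a subgroup. -/
theorem classInner_restrict_self (H : Subgroup G) :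
    classInner (fun n : H => χ n) (fun n : H => χ n) =
      (Nat.card H : ℂ)⁻¹ * ∑ n : H, ((‖χ n‖ ^ 2 : ℝ) : ℂ) := by
  refine congrArg _ (Finset.sum_congr rfl fun n _ => ?_)
  rw [Complex.mul_conj']
  push_cast
  rfl

/-- The restriction to a nontrivial normal `p`-subgroup is the regular character minus the trivial
one. -/
theorem restrict_normal (hχ : IsIrrCharacter G χ) (hfaith : ∀ g, χ g = χ 1 → g = 1)
    (hnl : χ 1 ≠ 1) (hroot : ∀ g : G, p ∣ orderOf g → ∃ n : ℕ, 0 < n ∧ χ g ^ n = 1)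
    (P : Subgroup G) [P.Normal] (hPp : IsPGroup p P) (hP : P ≠ ⊥) :
    (∀ a ∈ P, ∀ b ∈ P, a * b = b * a) ∧ 3 ≤ Nat.card P ∧ χ 1 = (Nat.card P : ℂ) - 1 ∧
      (∀ x ∈ P, x ≠ 1 → χ x = -1) ∧
      ∀ φ ψ : IrrCharacter P, (φ : P → ℂ) ≠ (fun _ => 1) → (ψ : P → ℂ) ≠ (fun _ => 1) →
        ∃ g : G, conjBy P (φ : P → ℂ) g = ψ := by
  obtain ⟨b, hb0, hb⟩ := exists_nat_degree_irr hχ
  have hχc := isCharacter_of_isIrr hχ
  obtain ⟨θ, hθc⟩ := exists_constituent P hχc (irr_degree_ne_zero hχ)
  obtain ⟨e, he⟩ := exists_nat_classInner (isCharacter_restrict P hχc) (isCharacter_of_isIrr θ.2)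
  obtain ⟨d, hd0, hd⟩ := exists_nat_degree_irr θ.2
  set O := orbit P (θ : P → ℂ) with hO
  have hval : ∀ x : P, χ x = (e : ℂ) * ∑ φ ∈ O, φ x := fun x => by
    have h := congrFun (clifford P hχ θ.2 hθc) x
    rw [he] at h
    simpa [Finset.sum_apply] using h
  have hOirr : ∀ φ ∈ O, IsIrrCharacter P φ := fun φ hφ => by
    obtain ⟨g, rfl⟩ := (mem_orbit P).mp hφ
    exact isIrrCharacter_conjBy P θ.2 g
  have hOdeg : ∀ φ ∈ O, φ 1 = d := fun φ hφ => by
    obtain ⟨g, rfl⟩ := (mem_orbit P).mp hφ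
    rw [conjBy_apply_one, hd]
  have hint : ∀ z : P, z ∈ Subgroup.center P → ∀ φ ∈ O, IsIntegral ℤ (φ z / d) := by
    intro z hz φ hφ
    have h := isIntegral_omega_irr (hOirr φ hφ) z
    rw [omega, hOdeg φ hφ, Subgroup.centralizer_eq_top_iff_subset.mpr (by simpa using hz),
      Subgroup.index_top, Nat.cast_one, one_mul] at h
    exact h
  -- the constituents are linear
  have hd1 : d = 1 := by
    haveI : Nontrivial P := (Subgroup.nontrivial_iff_ne_bot P).2 hP
    haveI := hPp.center_nontrivial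
    obtain ⟨z, hz⟩ := exists_ne (1 : Subgroup.center P)
    have hz1 : ((z : P) : G) ≠ 1 := fun h => hz (Subtype.ext (Subtype.ext h))
    obtain ⟨n, hn, hzn⟩ := hroot _ (dvd_orderOf_of_mem hPp (z : P).2 hz1)
    have hw : IsIntegral ℤ ((e : ℂ) * ∑ φ ∈ O, φ z / d) :=
      IsIntegral.mul (isIntegral_natCast _) (IsIntegral.sum _ fun φ hφ => hint z z.2 φ hφ)
    have hd' : (d : ℂ) ≠ 0 := Nat.cast_ne_zero.mpr hd0.ne'
    have e1 : ((e : ℂ) * ∑ φ ∈ O, φ z / d) = χ (z : P) / d := by
      rw [hval, ← Finset.sum_div, mul_div_assoc]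
    have h := hw.pow n
    rw [e1, div_pow, hzn] at h
    have h' := dvd_of_isIntegral_div (a := 1) (b := d ^ n) (pow_ne_zero _ hd0.ne')
      (by simpa using h)
    have := Nat.eq_one_of_dvd_one h'
    rcases Nat.pow_eq_one.1 this with h | h
    · exact h
    · omega
  subst hd1
  have hcomm : ∀ a b : P, a * b = b * a := by
    intro a b
    refine inv_mul_eq_one.1 (Subtype.ext (hfaith _ ?_)) |>.symm
    show χ ((((b * a)⁻¹ * (a * b) : P)) : G) = χ ((1 : P) : G)
    rw [hval, hval]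
    refine congrArg _ (Finset.sum_congr rfl fun φ hφ => ?_)
    have hlin := linear_mul (isCharacter_of_isIrr (hOirr φ hφ)) (by simpa using hOdeg φ hφ)
    have hone : φ 1 = 1 := by simpa using hOdeg φ hφ
    have h1 : φ ((b * a)⁻¹ * (a * b)) * φ (b * a) = φ (a * b) := by
      rw [hlin (b * a)⁻¹, mul_assoc, mul_comm, mul_assoc, ← hlin (b * a), mul_inv_cancel, hone,
        mul_one]
    have h2 : φ (a * b) = φ (b * a) := by rw [hlin, hlin, mul_comm]
    have h3 : φ (b * a) ≠ 0 := fun h0 => by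
      have := hlin (b * a) (b * a)⁻¹
      rw [mul_inv_cancel, hone, h0, zero_mul] at this
      exact one_ne_zero this
    rw [h2] at h1
    rw [hone]
    exact mul_right_cancel₀ h3 (h1.trans (one_mul _).symm)
  set q := Nat.card P with hq
  set t := O.card with ht
  have hbet : (b : ℂ) = e * t := by
    have h := hval 1
    rw [Subgroup.coe_one, hb, Finset.sum_congr rfl hOdeg, Finset.sum_const] at h
    simpa using h
  -- the norm equation
  have hsum : ∑ n : P, ((‖χ n‖ ^ 2 : ℝ) : ℂ) = (b : ℂ) ^ 2 + ((q : ℂ) - 1) := by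
    rw [Fintype.sum_eq_add_sum_compl (1 : P), Finset.sum_congr rfl fun (n : P) hn => show
      ((‖χ n‖ ^ 2 : ℝ) : ℂ) = 1 by
        rw [norm_eq_one hroot (dvd_orderOf_of_mem hPp n.2 fun h => by
          simp at hn; exact hn (Subtype.ext h))]
        norm_num]
    rw [Finset.sum_const, nsmul_one, Subgroup.coe_one, hb, Complex.norm_natCast,
      Finset.card_compl, Finset.card_singleton, Nat.cast_sub Fintype.card_pos, hq,
      Nat.card_eq_fintype_card]
    push_cast
    rfl
  have hnorm : classInner (fun n : P => χ n) (fun n : P => χ n) = (e : ℂ) ^ 2 * t := by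
    have hf : (fun n : P => χ n) = (e : ℂ) • ∑ φ ∈ O, φ := funext fun x => by
      rw [hval]; simp [Finset.sum_apply]
    rw [hf, classInner_smul_left, classInner_smul_right, classInner_sum_left,
      Finset.sum_congr rfl fun φ hφ => show classInner φ (∑ ψ ∈ O, ψ) = 1 by
        rw [classInner_sum_right, Finset.sum_congr rfl fun ψ hψ =>
          classInner_irr (hOirr φ hφ) (hOirr ψ hψ), Finset.sum_ite_eq, if_pos hφ]]
    simp [ht, sq, mul_assoc]
  have hq1 : 1 < q := Finite.one_lt_card_iff_nontrivial.2 ((Subgroup.nontrivial_iff_ne_bot P).2 hP)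
  -- the trivial character does not occur
  have hnotriv : (fun _ : P => (1 : ℂ)) ∉ O := by
    intro h
    obtain ⟨g, hg⟩ := (mem_orbit P).mp h
    have hθ1 : (θ : P → ℂ) = fun _ => 1 := by
      have := congrArg (fun φ => conjBy P φ g⁻¹) hg
      rw [← conjBy_mul, mul_inv_cancel, conjBy_one] at this
      exact this
    exact hP (eq_bot_of_trivial_constituent hχ hfaith P (hθ1 ▸ hθc))
  set T : Finset (P → ℂ) :=
    ((Finset.univ : Finset (IrrCharacter P)).image Subtype.val).erase (fun _ => 1) with hT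
  have hOT : O ⊆ T := fun φ hφ => Finset.mem_erase.2
    ⟨fun h => hnotriv (h ▸ hφ), Finset.mem_image.2 ⟨⟨φ, hOirr φ hφ⟩, Finset.mem_univ _, rfl⟩⟩
  have hcardP : Fintype.card (IrrCharacter P) = q := by
    have h := sum_sq_degree (G := P)
    simp only [degree_one_of_comm hcomm, one_pow, Finset.sum_const, nsmul_one,
      Finset.card_univ] at h
    exact_mod_cast h
  have hone : (fun _ : P => (1 : ℂ)) ∈
      (Finset.univ : Finset (IrrCharacter P)).image Subtype.val :=
    Finset.mem_image.2 ⟨⟨_, isIrrCharacter_one⟩, Finset.mem_univ _, rfl⟩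
  have hTcard : T.card = q - 1 := by
    rw [hT, Finset.card_erase_of_mem hone, Finset.card_image_of_injective _ Subtype.val_injective,
      Finset.card_univ, hcardP]
  have htq : t ≤ q - 1 := hTcard ▸ Finset.card_le_card hOT
  have hkey : e ^ 2 * t * q = b ^ 2 + (q - 1) := by
    have h := classInner_restrict_self (χ := χ) P
    rw [hnorm, hsum, eq_inv_mul_iff_mul_eq₀ (Nat.cast_ne_zero.mpr (by omega))] at h
    have h' : ((e ^ 2 * t * q : ℕ) : ℂ) = ((b ^ 2 + (q - 1) : ℕ) : ℂ) := by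
      push_cast [Nat.cast_sub hq1.le]
      rw [← h]; ring
    exact_mod_cast h'
  have hbet' : b = e * t := by exact_mod_cast hbet
  have hb1 : b ≠ 1 := fun h => hnl (by rw [hb, h, Nat.cast_one])
  have hbig : e = 1 ∧ t = q - 1 ∧ 3 ≤ q := by
    obtain ⟨r, hr⟩ : ∃ r, q = t + r + 1 := ⟨q - 1 - t, by omega⟩
    subst hbet'
    have h1 : e ^ 2 * t * (r + 1) = t + r := by
      have h2 : q - 1 = t + r := by omega
      rw [h2, hr] at hkey
      nlinarith [hkey]
    have ht1 : 1 ≤ t := Nat.one_le_iff_ne_zero.2 fun h => by simp [h] at hb0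
    have he1 : 1 ≤ e := Nat.one_le_iff_ne_zero.2 fun h => by simp [h] at hb0
    have he : e = 1 := by
      by_contra hne
      have : 4 ≤ e ^ 2 := by
        calc 4 = 2 ^ 2 := rfl
          _ ≤ e ^ 2 := Nat.pow_le_pow_left (by omega) 2
      nlinarith [Nat.mul_le_mul this (Nat.mul_le_mul ht1 (le_refl (r + 1))),
        Nat.mul_le_mul this (Nat.mul_le_mul (le_refl t) (show 1 ≤ r + 1 by omega))]
    subst he
    have hr0 : r = 0 := by
      rcases Nat.eq_zero_or_pos r with h | h
      · exact h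
      · exfalso
        have h2 : 2 ≤ t := by omega
        nlinarith [Nat.mul_le_mul h2 (le_refl r)]
    refine ⟨rfl, by omega, by omega⟩
  obtain ⟨he1, htq', hq3⟩ := hbig
  have hOeq : O = T := Finset.eq_of_subset_of_card_le hOT (by omega)
  have hbq : χ 1 = (q : ℂ) - 1 := by
    rw [hb, hbet', he1, one_mul, htq', Nat.cast_sub hq1.le, Nat.cast_one]
  refine ⟨fun a ha b hb => congrArg Subtype.val (hcomm ⟨a, ha⟩ ⟨b, hb⟩), hq3, hbq, ?_, ?_⟩
  · intro x hx hx1
    have h := hval ⟨x, hx⟩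
    have h0 := sum_degree_mul_irr (⟨x, hx⟩ : P)
    rw [if_neg fun e => hx1 (congrArg Subtype.val e)] at h0
    simp only [degree_one_of_comm hcomm, one_mul] at h0
    rw [he1, Nat.cast_one, one_mul, hOeq, hT,
      Finset.sum_erase_eq_sub hone,
      Finset.sum_image fun a _ b _ h => Subtype.ext h, h0, zero_sub] at h
    exact h
  · intro φ ψ hφ hψ
    have hm : ∀ ξ : IrrCharacter P, (ξ : P → ℂ) ≠ (fun _ => 1) → (ξ : P → ℂ) ∈ O := fun ξ hξ => by
      rw [hOeq]
      exact Finset.mem_erase.2 ⟨hξ, Finset.mem_image.2 ⟨ξ, Finset.mem_univ _, rfl⟩⟩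
    obtain ⟨a, ha⟩ := (mem_orbit P).mp (hm φ hφ)
    obtain ⟨c, hc⟩ := (mem_orbit P).mp (hm ψ hψ)
    refine ⟨a⁻¹ * c, ?_⟩
    rw [← ha, ← conjBy_mul, mul_inv_cancel_left, hc]

/-- With `χ|P` regular minus trivial, a normal subgroup inside `P` is trivial or `P`. -/
theorem normal_le_eq (hχ : IsIrrCharacter G χ) (hfaith : ∀ g, χ g = χ 1 → g = 1)
    (P : Subgroup G) (hb : χ 1 = (Nat.card P : ℂ) - 1) (hval : ∀ x ∈ P, x ≠ 1 → χ x = -1)
    (Q : Subgroup G) [Q.Normal] (hQ : Q ≤ P) : Q = ⊥ ∨ Q = P := by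
  by_contra h
  push_neg at h
  refine h.1 (eq_bot_of_trivial_constituent hχ hfaith Q ?_)
  have hlt : Nat.card Q < Nat.card P :=
    lt_of_le_of_ne (Subgroup.card_le_of_le hQ) fun e =>
      h.2 (Subgroup.eq_of_le_of_card_ge hQ e.ge)
  intro h0
  rw [classInner, mul_eq_zero] at h0
  rcases h0 with h0 | h0
  · simp at h0
  rw [Fintype.sum_eq_add_sum_compl (1 : Q), Finset.sum_congr rfl fun (n : Q) hn => show
    χ n * conj (1 : ℂ) = -1 by
      rw [map_one, mul_one]
      exact hval n (hQ n.2) fun e => by simp at hn; exact hn (Subtype.ext e)] at h0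
  rw [Finset.sum_const, Finset.card_compl, Finset.card_singleton, Subgroup.coe_one, map_one,
    mul_one, hb, nsmul_eq_mul, Nat.cast_sub Fintype.card_pos, ← Nat.card_eq_fintype_card] at h0
  have : (Nat.card P : ℂ) = Nat.card Q := by
    push_cast at h0
    linear_combination h0
  exact hlt.ne' (by exact_mod_cast this)

/-- The elements of order prime to `p` centralizing `P` are central. -/
theorem mem_center_of_coprime (hχ : IsIrrCharacter G χ) (hfaith : ∀ g, χ g = χ 1 → g = 1)
    (hroot : ∀ g : G, p ∣ orderOf g → ∃ n : ℕ, 0 < n ∧ χ g ^ n = 1)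
    (P : Subgroup G) [P.Normal] (hPp : IsPGroup p P)
    (hPc : ∀ a ∈ P, ∀ b ∈ P, a * b = b * a) (hb : χ 1 = (Nat.card P : ℂ) - 1) {g : G}
    (hg : g ∈ Subgroup.centralizer (P : Set G)) (hgp : (orderOf g).Coprime p) :
    g ∈ Subgroup.center G := by
  obtain ⟨bn, hbn0, hbn⟩ := exists_nat_degree_irr hχ
  set L : Subgroup G := Subgroup.closure ((P : Set G) ∪ {g}) with hL
  have hgL : g ∈ L := Subgroup.subset_closure (Or.inr rfl)
  have hPL : P ≤ L := fun x hx => Subgroup.subset_closure (Or.inl hx)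
  have hLc : ∀ a b : L, a * b = b * a := by
    haveI : IsMulCommutative L := Subgroup.isMulCommutative_closure (by
      rintro a (ha | rfl) b (hb | rfl)
      · exact hPc a ha b hb
      · exact hg a ha
      · exact (hg b hb).symm
      · rfl)
    exact fun a b => mul_comm' a b
  have hdec : ∀ l ∈ L, ∃ y ∈ P, ∃ i : ℤ, l = y * g ^ i := by
    intro l hl
    rw [hL, Subgroup.closure_union, Subgroup.closure_eq, ← Subgroup.zpowers_eq_closure] at hl
    have : l ∈ (↑(P ⊔ Subgroup.zpowers g) : Set G) := hl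
    rw [Subgroup.normal_mul] at this
    obtain ⟨y, hy, _, ⟨i, rfl⟩, rfl⟩ := this
    exact ⟨y, hy, i, rfl⟩
  -- squared norms
  have hle : ∀ x, ‖χ x‖ ≤ (bn : ℝ) := fun x => by
    obtain ⟨n, ρ, hρ, rfl⟩ := hχ
    have h := norm_character_le ρ x
    have hbn' : (Module.finrank ℂ (Fin n → ℂ) : ℕ) = bn := by
      exact_mod_cast (Representation.char_one ρ).symm.trans hbn
    rwa [hbn'] at h
  have hbq : (bn : ℝ) + 1 = Nat.card P := by
    have : ((bn + 1 : ℕ) : ℂ) = (Nat.card P : ℕ) := by push_cast; rw [← hbn, hb]; ring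
    exact_mod_cast this
  have hnorm : (bn : ℝ) * Nat.card L ≤ ∑ l : L, ‖χ l‖ ^ 2 := by
    obtain ⟨m, hm⟩ := exists_multiplicities (isCharacter_restrict L (isCharacter_of_isIrr hχ))
    have h1 : classInner (fun n : L => χ n) (fun n : L => χ n) =
        ((∑ ψ : IrrCharacter L, m ψ * m ψ : ℕ) : ℂ) := by
      rw [hm, classInner_sum_smul_sum_smul]
      simp
    have h2 : bn = ∑ ψ : IrrCharacter L, m ψ := by
      have h := congrFun hm 1
      simp only [Finset.sum_apply, Pi.smul_apply, smul_eq_mul, degree_one_of_comm hLc, mul_one,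
        Subgroup.coe_one, hbn] at h
      exact_mod_cast h
    have h3 : bn ≤ ∑ ψ : IrrCharacter L, m ψ * m ψ := h2 ▸ Finset.sum_le_sum fun ψ _ => Nat.le_mul_self _
    rw [classInner_restrict_self, inv_mul_eq_iff_eq_mul₀ (Nat.cast_ne_zero.mpr Nat.card_pos.ne')] at h1
    have h4 : ∑ l : L, ‖χ l‖ ^ 2 =
        (Nat.card L : ℝ) * ((∑ ψ : IrrCharacter L, m ψ * m ψ : ℕ) : ℝ) := by exact_mod_cast h1
    rw [h4, mul_comm]
    gcongr
  -- split along the cosets of `zpowers g`
  have hinter : ∀ y ∈ P, ∀ i : ℤ, g ^ i = y → y = 1 := by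
    intro y hy i h
    by_contra hy1
    have h1 := dvd_orderOf_of_mem hPp hy hy1
    rw [← h] at h1
    have h2 : p ∣ orderOf g := h1.trans
      (orderOf_dvd_of_mem_zpowers (Subgroup.zpow_mem_zpowers g i))
    exact hp.out.ne_one ((hgp.coprime_dvd_left h2).eq_one_of_dvd dvd_rfl)
  let F : P × Subgroup.zpowers g → L := fun a =>
    ⟨a.1 * a.2, mul_mem (hPL a.1.2) (Subgroup.zpowers_le.2 hgL a.2.2)⟩
  have hF : Function.Bijective F := by
    constructor
    · rintro ⟨⟨y, hy⟩, ⟨_, ⟨i, rfl⟩⟩⟩ ⟨⟨y', hy'⟩, ⟨_, ⟨j, rfl⟩⟩⟩ h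
      have h' : y * g ^ i = y' * g ^ j := congrArg Subtype.val h
      have h1 : g ^ (i - j) = y⁻¹ * y' := by
        rw [zpow_sub, eq_inv_mul_iff_mul_eq, ← mul_assoc, h', mul_inv_cancel_right]
      have h2 := hinter _ (mul_mem (inv_mem hy) hy') _ h1
      obtain rfl := inv_mul_eq_one.1 h2
      exact Prod.ext rfl (Subtype.ext (mul_left_cancel h'))
    · rintro ⟨l, hl⟩
      obtain ⟨y, hy, i, rfl⟩ := hdec l hl
      exact ⟨(⟨y, hy⟩, ⟨g ^ i, ⟨i, rfl⟩⟩), rfl⟩
  rw [← Equiv.sum_comp (Equiv.ofBijective F hF), Fintype.sum_prod_type_right] at hnorm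
  have hrow : ∀ c : Subgroup.zpowers g, ∑ y : P, ‖χ (F (y, c) : L)‖ ^ 2 =
      ‖χ (c : G)‖ ^ 2 + ((Nat.card P : ℝ) - 1) := by
    intro c
    rw [Fintype.sum_eq_add_sum_compl (1 : P), Finset.sum_congr rfl fun y hy => show
      ‖χ (F (y, c) : L)‖ ^ 2 = 1 by
        have hy1 : (y : G) ≠ 1 := fun h => by simp at hy; exact hy (Subtype.ext h)
        rw [norm_eq_one hroot]
        · norm_num
        · show p ∣ orderOf ((y : G) * (c : G))
          obtain ⟨i, hi⟩ := c.2
          have hcy : Commute (y : G) (c : G) := by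
            rw [← hi]
            exact Commute.zpow_right (hg y y.2) i
          have hd := dvd_orderOf_of_mem hPp y.2 hy1
          rw [hcy.orderOf_mul_eq_mul_orderOf_of_coprime]
          · exact hd.mul_right _
          · obtain ⟨k, hk⟩ := (IsPGroup.iff_orderOf.1 hPp) y
            rw [← Subgroup.orderOf_coe] at hk
            rw [hk]
            exact (Nat.Coprime.coprime_dvd_left (orderOf_dvd_of_mem_zpowers c.2) hgp).symm.pow_left k]
    rw [Finset.sum_const, Finset.card_compl, Finset.card_singleton, nsmul_one,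
      Nat.cast_sub Fintype.card_pos, ← Nat.card_eq_fintype_card, Nat.cast_one]
    simp [F]
  simp only [Equiv.ofBijective_apply, hrow] at hnorm
  refine mem_center_of_norm hχ hfaith ?_
  rw [hbn, Complex.norm_natCast]
  refine le_antisymm (hle g) ?_
  by_contra hlt
  push_neg at hlt
  have hcard : (Nat.card L : ℝ) = Nat.card P * Nat.card (Subgroup.zpowers g) := by
    rw [← Nat.card_congr (Equiv.ofBijective F hF), Nat.card_prod]
    push_cast; rfl
  have hstrict : ∑ c : Subgroup.zpowers g, (‖χ (c : G)‖ ^ 2 + ((Nat.card P : ℝ) - 1)) <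
      ∑ _c : Subgroup.zpowers g, ((bn : ℝ) ^ 2 + ((Nat.card P : ℝ) - 1)) := by
    refine Finset.sum_lt_sum (fun c _ => ?_) ⟨⟨g, Subgroup.mem_zpowers g⟩, Finset.mem_univ _, ?_⟩
    · have := hle c
      gcongr
    · gcongr
  rw [Finset.sum_const, Finset.card_univ, ← Nat.card_eq_fintype_card, nsmul_eq_mul] at hstrict
  rw [hcard] at hnorm
  have h9 : ∀ m : ℝ, (bn : ℝ) * ((Nat.card P : ℝ) * m) =
      m * ((bn : ℝ) ^ 2 + ((Nat.card P : ℝ) - 1)) := fun m => by rw [← hbq]; ring
  rw [h9] at hnorm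
  linarith

end Basic

/-- The `p'`- and `p`-parts of a centralizing element. -/
theorem centralizer_eq {p : ℕ} [hp : Fact p.Prime] (P : Subgroup G) [P.Normal]
    (hPc : ∀ a ∈ P, ∀ b ∈ P, a * b = b * a)
    (hPmax : ∀ N : Subgroup G, N.Normal → IsPGroup p N → N ≤ P)
    (hcen : ∀ g ∈ Subgroup.centralizer (P : Set G), (orderOf g).Coprime p → g ∈ Subgroup.center G) :
    Subgroup.centralizer (P : Set G) = P ⊔ Subgroup.center G ∧
      ∀ g ∈ Subgroup.centralizer (P : Set G), (∃ k : ℕ, g ^ p ^ k = 1) → g ∈ P := by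
  set C := Subgroup.centralizer (P : Set G) with hC
  haveI hCn : C.Normal := by rw [hC]; infer_instance
  have hpow : ∀ c : C, ∃ k, c ^ p ^ k ∈ Subgroup.center C := by
    intro c
    refine ⟨(orderOf (c : G)).factorization p, Subgroup.mem_center_iff.2 fun d => Subtype.ext ?_⟩
    refine Subgroup.mem_center_iff.1 (hcen _ (c ^ p ^ _).2 ?_) (d : G)
    rw [SubmonoidClass.coe_pow, orderOf_pow_of_dvd (pow_ne_zero _ hp.out.ne_zero)
      (Nat.ordProj_dvd _ _)]
    exact (Nat.coprime_ordCompl hp.out (orderOf_pos _).ne').symm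
  haveI : Group.IsNilpotent C := by
    refine Group.of_quotient_center_nilpotent (IsPGroup.isNilpotent (p := p) ?_)
    intro x
    obtain ⟨c, rfl⟩ := QuotientGroup.mk_surjective x
    obtain ⟨k, hk⟩ := hpow c
    exact ⟨k, by rw [← QuotientGroup.mk_pow]; exact (QuotientGroup.eq_one_iff _).2 hk⟩
  obtain ⟨R⟩ : Nonempty (Sylow p C) := inferInstance
  haveI hRn : (R : Subgroup C).Normal := Sylow.normal_of_normalizerCondition normalizerCondition_of_isNilpotent R
  haveI := R.characteristic_of_normal hRn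
  have hRle : (R : Subgroup C).map C.subtype ≤ P :=
    hPmax _ ConjAct.normal_of_characteristic_of_normal (R.2.map _)
  have hpel : ∀ g ∈ C, (∃ k : ℕ, g ^ p ^ k = 1) → g ∈ P := by
    rintro g hg ⟨k, hk⟩
    have hz : IsPGroup p (Subgroup.zpowers (⟨g, hg⟩ : C)) := by
      rintro ⟨x, i, rfl⟩
      refine ⟨k, Subtype.ext (Subtype.ext ?_)⟩
      simp only [SubmonoidClass.coe_pow, SubgroupClass.coe_zpow, OneMemClass.coe_one]
      rw [← zpow_natCast, ← zpow_mul, mul_comm, zpow_mul, zpow_natCast, hk, one_zpow]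
    obtain ⟨R', hR'⟩ := hz.exists_le_sylow
    haveI := Sylow.unique_of_normal R hRn
    rw [Subsingleton.elim R' R] at hR'
    exact hRle ⟨⟨g, hg⟩, hR' (Subgroup.mem_zpowers _), rfl⟩
  refine ⟨le_antisymm (fun g hg => ?_) (sup_le ?_ (Subgroup.center_le_centralizer _)), hpel⟩
  · set n := orderOf g
    set a := p ^ n.factorization p
    set c := n / a
    have hn : n ≠ 0 := (orderOf_pos g).ne'
    have hac : a * c = n := Nat.ordProj_mul_ordCompl_eq_self n p
    have h1 : g ^ c ∈ P := hpel _ (pow_mem hg _) ⟨n.factorization p, by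
      rw [← pow_mul, mul_comm, hac, pow_orderOf_eq_one]⟩
    have h2 : g ^ a ∈ Subgroup.center G := hcen _ (pow_mem hg _) (by
      rw [orderOf_pow_of_dvd (pow_ne_zero _ hp.out.ne_zero) (Nat.ordProj_dvd _ _)]
      exact (Nat.coprime_ordCompl hp.out hn).symm)
    have hcop : a.Coprime c := (Nat.coprime_ordCompl hp.out hn).pow_left _
    have hg' : g = (g ^ c) ^ Nat.gcdB a c * (g ^ a) ^ Nat.gcdA a c := by
      rw [← zpow_natCast, ← zpow_natCast g a, ← zpow_mul, ← zpow_mul, ← zpow_add, add_comm,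
        ← Nat.gcd_eq_gcd_ab, hcop.gcd_eq_one, Nat.cast_one, zpow_one]
    rw [hg']
    exact Subgroup.mul_mem_sup (zpow_mem h1 _) (zpow_mem h2 _)
  · exact fun a ha b hb => hPc b hb a ha

/-- The Sylow case fails only for `p = 2` and `|P| = 4`. -/
theorem sylow_case {p : ℕ} [hp : Fact p.Prime] {χ : G → ℂ} (hχ : IsIrrCharacter G χ)
    (hroot : ∀ g : G, p ∣ orderOf g → ∃ n : ℕ, 0 < n ∧ χ g ^ n = 1)
    (P : Subgroup G) [P.Normal] (hPp : IsPGroup p P) (hPc : ∀ a ∈ P, ∀ b ∈ P, a * b = b * a)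
    (hPe : ∀ a ∈ P, a ^ p = 1)
    (hq : 3 ≤ Nat.card P) (hb : χ 1 = (Nat.card P : ℂ) - 1) (hval : ∀ x ∈ P, x ≠ 1 → χ x = -1)
    {g : G} (hg : g ∉ Subgroup.centralizer (P : Set G)) (hgk : ∃ k : ℕ, g ^ p ^ k = 1)
    (hgp : g ^ p ∈ P) : p = 2 ∧ Nat.card P = 4 := by
  have hgP : g ∉ P := fun h => hg fun a ha => hPc a ha g h
  set L : Subgroup G := P ⊔ Subgroup.zpowers g with hL
  have hPL : P ≤ L := le_sup_left
  have hgL : g ∈ L := Subgroup.mem_sup_right (Subgroup.mem_zpowers g)
  have hLp : IsPGroup p L := by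
    refine hPp.to_sup_of_normal_left' ?_ Subgroup.le_normalizer_of_normal
    obtain ⟨k, hk⟩ := hgk
    rintro ⟨x, i, rfl⟩
    refine ⟨k, Subtype.ext ?_⟩
    simp only [SubmonoidClass.coe_pow, OneMemClass.coe_one]
    rw [← zpow_natCast, ← zpow_mul, mul_comm, zpow_mul, zpow_natCast, hk, one_zpow]
  -- every element is `y * g ^ i` with `i < p`
  have hdec : ∀ l ∈ L, ∃ y ∈ P, ∃ i : ℕ, i < p ∧ l = y * g ^ i := by
    intro l hl
    have : l ∈ (↑(P ⊔ Subgroup.zpowers g) : Set G) := hl
    rw [Subgroup.normal_mul] at this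
    obtain ⟨y, hy, _, ⟨i, rfl⟩, rfl⟩ := this
    have hpos : (0 : ℤ) < p := by exact_mod_cast hp.out.pos
    refine ⟨y * (g ^ p) ^ (i / p), mul_mem hy (zpow_mem hgp _), (i % p).toNat, ?_, ?_⟩
    · have := Int.emod_lt_of_pos i hpos
      omega
    · rw [mul_assoc, ← zpow_natCast g p, ← zpow_mul, ← zpow_natCast g, ← zpow_add,
        Int.toNat_of_nonneg (Int.emod_nonneg i hpos.ne'), Int.mul_ediv_add_emod]
  let F : P × Fin p → L := fun a => ⟨a.1 * g ^ (a.2 : ℕ), mul_mem (hPL a.1.2) (pow_mem hgL _)⟩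
  have hF : Function.Bijective F := by
    constructor
    · rintro ⟨y, i⟩ ⟨y', j⟩ h
      have h' : (y : G) * g ^ (i : ℕ) = y' * g ^ (j : ℕ) := congrArg Subtype.val h
      have key : ∀ (y y' : P) (i j : ℕ), i ≤ j → j < p → (y : G) * g ^ i = y' * g ^ j → i = j := by
        intro y y' i j hij hj h'
        by_contra hne
        have hd : g ^ (j - i) ∈ P := by
          have : (y' : G)⁻¹ * y = g ^ (j - i) := by
            rw [inv_mul_eq_iff_eq_mul, ← mul_right_cancel_iff (a := g ^ i), h', mul_assoc,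
              ← pow_add, Nat.sub_add_cancel hij]
          exact this ▸ mul_mem (inv_mem y'.2) y.2
        have hco : (j - i).Coprime p :=
          ((hp.out.coprime_iff_not_dvd).2 fun hd' => by
            have := Nat.le_of_dvd (by omega) hd'
            omega).symm
        refine hgP ?_
        have := Subgroup.mul_mem P (zpow_mem hd (Nat.gcdA (j - i) p))
          (zpow_mem hgp (Nat.gcdB (j - i) p))
        rwa [← zpow_natCast, ← zpow_natCast g p, ← zpow_mul, ← zpow_mul, ← zpow_add,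
          ← Nat.gcd_eq_gcd_ab, hco.gcd_eq_one, Nat.cast_one, zpow_one] at this
      have hij : i = j := by
        rcases le_total (i : ℕ) j with hl | hl
        · exact Fin.ext (key y y' i j hl j.2 h')
        · exact Fin.ext (key y' y j i hl i.2 h'.symm).symm
      subst hij
      exact Prod.ext (Subtype.ext (mul_right_cancel h')) rfl
    · rintro ⟨l, hl⟩
      obtain ⟨y, hy, i, hi, rfl⟩ := hdec l hl
      exact ⟨(⟨y, hy⟩, ⟨i, hi⟩), rfl⟩
  have hcardL : Nat.card L = Nat.card P * p := by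
    rw [← Nat.card_congr (Equiv.ofBijective F hF), Nat.card_prod, Nat.card_fin]
  -- multiplicities
  obtain ⟨m, hm⟩ := exists_multiplicities (isCharacter_restrict L (isCharacter_of_isIrr hχ))
  set q := Nat.card P with hq'
  set N := ∑ ψ : IrrCharacter L, m ψ * m ψ with hN
  have hinner : classInner (fun n : L => χ n) (fun n : L => χ n) = (N : ℂ) := by
    rw [hm, classInner_sum_smul_sum_smul, hN]
    simp
  rw [classInner_restrict_self, inv_mul_eq_iff_eq_mul₀ (Nat.cast_ne_zero.mpr Nat.card_pos.ne'),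
    Fintype.sum_eq_add_sum_compl (1 : L), Finset.sum_congr rfl fun (n : L) hn => show
      ((‖χ n‖ ^ 2 : ℝ) : ℂ) = 1 by
        rw [norm_eq_one hroot (dvd_orderOf_of_mem hLp n.2 fun h => by
          simp at hn; exact hn (Subtype.ext h))]
        norm_num] at hinner
  rw [Finset.sum_const, Finset.card_compl, Finset.card_singleton, nsmul_one, Subgroup.coe_one,
    ← Nat.card_eq_fintype_card] at hinner
  have hb' : ‖χ 1‖ = ((q - 1 : ℕ) : ℝ) := by
    rw [hb, show (q : ℂ) - 1 = ((q - 1 : ℕ) : ℂ) by rw [Nat.cast_sub (by omega)]; simp,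
      Complex.norm_natCast]
  rw [hb'] at hinner
  have hNeq : (q - 1) ^ 2 + (q * p - 1) = q * p * N := by
    rw [hcardL] at hinner
    exact_mod_cast hinner
  obtain ⟨k, hk⟩ := hPp.exists_card_eq
  have hk1 : p ∣ q := by
    rw [hq', hk]
    refine dvd_pow_self p fun h0 => ?_
    rw [hq', hk, h0, pow_zero] at hq
    omega
  have hN2 : q - 2 + p = p * N := by
    obtain ⟨r, hr⟩ : ∃ r, q = r + 2 := ⟨q - 2, by omega⟩
    have hp2 := hp.out.two_le
    have h1 : q * (q - 2 + p) = q * (p * N) := by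
      rw [← mul_assoc, ← hNeq, hr]
      have : (r + 2) * p - 1 = (r + 2) * p - 1 := rfl
      obtain ⟨s, hs⟩ : ∃ s, (r + 2) * p = s + 1 :=
        ⟨(r + 2) * p - 1, by have : 1 ≤ (r + 2) * p := Nat.one_le_iff_ne_zero.2 (by positivity); omega⟩
      rw [hs, show r + 2 - 1 = r + 1 from rfl, show r + 2 - 2 = r from rfl, Nat.add_sub_cancel]
      nlinarith [hs]
    exact Nat.eq_of_mul_eq_mul_left (by omega) h1
  have hp2 : p = 2 := by
    refine (Nat.prime_dvd_prime_iff_eq hp.out Nat.prime_two).1 ?_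
    have h1 : p ∣ q - 2 := (Nat.dvd_add_left dvd_rfl).1 (hN2 ▸ dvd_mul_right p N)
    have h2 := Nat.dvd_sub hk1 h1
    rwa [show q - (q - 2) = 2 by omega] at h2
  subst hp2
  refine ⟨rfl, ?_⟩
  have hN' : 2 * N = q := by omega
  -- the derived subgroup of `L`
  set K : Subgroup L := commutator L with hK
  let σ : G → G := fun x => g * x * g⁻¹
  have hσP : ∀ x ∈ P, σ x ∈ P := fun x hx => Subgroup.Normal.conj_mem inferInstance x hx g
  have hinv : ∀ x ∈ P, x⁻¹ = x := fun x hx => inv_eq_of_mul_eq_one_right (by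
    rw [← sq]; exact hPe x hx)
  let φ : P →* P :=
    { toFun := fun x => ⟨x * σ x, mul_mem x.2 (hσP x x.2)⟩
      map_one' := Subtype.ext (by simp [σ])
      map_mul' := fun x y => Subtype.ext (by
        show (x : G) * y * (g * (x * y) * g⁻¹) = x * (g * x * g⁻¹) * (y * (g * y * g⁻¹))
        have h : (y : G) * (g * x * g⁻¹) = g * x * g⁻¹ * y := hPc y y.2 _ (hσP x x.2)
        calc (x : G) * y * (g * (x * y) * g⁻¹) = x * (y * (g * x * g⁻¹)) * (g * y * g⁻¹) := by group
          _ = x * (g * x * g⁻¹ * y) * (g * y * g⁻¹) := by rw [h]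
          _ = x * (g * x * g⁻¹) * (y * (g * y * g⁻¹)) := by group) }
  set R : Subgroup G := φ.range.map P.subtype with hR
  have hRmem : ∀ x ∈ P, x * σ x ∈ R := fun x hx => ⟨φ ⟨x, hx⟩, ⟨_, rfl⟩, rfl⟩
  have hRP : R ≤ P := Subgroup.map_subtype_le _
  have hcommR : ⁅L, L⁆ ≤ R := by
    rw [Subgroup.commutator_le]
    intro a ha b hb
    obtain ⟨x, hx, i, hi, rfl⟩ := hdec a ha
    obtain ⟨y, hy, j, hj, rfl⟩ := hdec b hb
    have hxy := hPc x hx y hy
    interval_cases i <;> interval_cases j <;>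
      simp only [pow_zero, pow_one, mul_one, commutatorElement_def]
    · have : x * y * x⁻¹ * y⁻¹ = 1 := by rw [hxy]; group
      rw [this]
      exact one_mem _
    · have h := hPc _ (hσP _ (inv_mem hx)) _ (inv_mem hy)
      have : x * (y * g) * x⁻¹ * (y * g)⁻¹ = x * σ x := by
        calc x * (y * g) * x⁻¹ * (y * g)⁻¹ = x * y * (σ x⁻¹ * y⁻¹) := by simp only [σ]; group
          _ = x * y * (y⁻¹ * σ x⁻¹) := by rw [h]
          _ = x * σ x⁻¹ := by group
          _ = x * σ x := by rw [hinv x hx]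
      rw [this]
      exact hRmem x hx
    · have h := hPc _ (hσP _ hy) _ hx
      have : x * g * y * (x * g)⁻¹ * y⁻¹ = y * σ y := by
        calc x * g * y * (x * g)⁻¹ * y⁻¹ = x * σ y * x⁻¹ * y⁻¹ := by simp only [σ]; group
          _ = σ y * x * x⁻¹ * y⁻¹ := by rw [h]
          _ = σ y * y⁻¹ := by group
          _ = y * σ y := by rw [hinv y hy, hPc _ (hσP _ hy) y hy]
      rw [this]
      exact hRmem y hy
    · have h := hPc _ (hσP _ hy) _ (hσP _ (inv_mem hx))
      have : x * g * (y * g) * (x * g)⁻¹ * (y * g)⁻¹ = x * σ x * (y * σ y) := by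
        calc x * g * (y * g) * (x * g)⁻¹ * (y * g)⁻¹ = x * (σ y * σ x⁻¹) * y⁻¹ := by
              simp only [σ]; group
          _ = x * (σ x⁻¹ * σ y) * y⁻¹ := by rw [h]
          _ = x * σ x * (σ y * y) := by rw [hinv x hx, hinv y hy]; group
          _ = x * σ x * (y * σ y) := by rw [hPc _ (hσP _ hy) y hy]
      rw [this]
      exact mul_mem (hRmem x hx) (hRmem y hy)
  have hKR : K.map L.subtype ≤ R := by rw [hK, Subgroup.map_subtype_commutator]; exact hcommR
  set c := Nat.card K with hc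
  have hcR : c ≤ Nat.card R := by
    rw [hc, Nat.card_congr (K.equivMapOfInjective L.subtype L.subtype_injective).toEquiv]
    exact Subgroup.card_le_of_le hKR
  -- `|R| ^ 2 ≤ |P|`
  have hR2 : Nat.card R * Nat.card R ≤ q := by
    have h1 : φ.range ≤ φ.ker := by
      rintro _ ⟨x, rfl⟩
      rw [MonoidHom.mem_ker]
      apply Subtype.ext
      show (x : G) * σ x * σ ((x : G) * σ x) = 1
      have h2 : σ (σ (x : G)) = x := by
        have hgg : g * g ∈ P := by rw [← sq]; exact hgp
        calc σ (σ (x : G)) = g * g * x * (g * g)⁻¹ := by simp only [σ]; group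
          _ = x := by rw [hPc _ hgg x x.2]; group
      have h3 : σ ((x : G) * σ x) = σ x * σ (σ (x : G)) := by simp only [σ]; group
      rw [h3, h2]
      have hx2 : (x : G) * x = 1 := by rw [← sq]; exact hPe x x.2
      have hs2 : σ (x : G) * σ x = 1 := by rw [← sq]; exact hPe _ (hσP x x.2)
      calc (x : G) * σ x * (σ x * x) = x * (σ x * σ x) * x := by group
        _ = 1 := by rw [hs2, mul_one, hx2]
    have h2 := φ.ker.card_mul_index
    rw [Subgroup.index_ker, ← hq'] at h2
    rw [hR, Nat.card_congr (φ.range.equivMapOfInjective P.subtype P.subtype_injective).symm.toEquiv,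
      ← h2]
    exact Nat.mul_le_mul_right _ (Subgroup.card_le_of_le h1)
  have hc2 : 2 ≤ c := by
    rw [hc]
    refine Finite.one_lt_card_iff_nontrivial.2 ((Subgroup.nontrivial_iff_ne_bot _).2 fun h => hg ?_)
    rw [Subgroup.mem_centralizer_iff_commutator_eq_one]
    intro a ha
    have h1 : ⁅(⟨a, hPL ha⟩ : L), ⟨g, hgL⟩⁆ ∈ K :=
      Subgroup.commutator_mem_commutator (Subgroup.mem_top _) (Subgroup.mem_top _)
    rw [h, Subgroup.mem_bot] at h1
    have h2 := congrArg Subtype.val h1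
    simpa [commutatorElement_def] using h2
  have hKP : ∀ k ∈ K, (k : G) ∈ P := fun k hk => hRP (hKR ⟨k, hk, rfl⟩)
  -- the linear constituents
  have hab : ∀ x y : L, x * y * x⁻¹ * y⁻¹ ∈ K := fun x y =>
    Subgroup.commutator_mem_commutator (Subgroup.mem_top x) (Subgroup.mem_top y)
  haveI : Fintype (LinTriv K) := Fintype.ofFinite _
  obtain ⟨hlin1, hlin2⟩ := sum_linTriv K hab
  let ι : LinTriv K → IrrCharacter L := fun β => ⟨fun l => (β.1 l : ℂ), isIrrCharacter_monoidHom β.1⟩
  have hι : Function.Injective ι := fun β β' h => Subtype.ext (MonoidHom.ext fun l =>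
    Units.ext (congrFun (congrArg Subtype.val h) l))
  set S := Finset.univ.image ι with hS
  set r := ∑ ψ ∈ S, m ψ with hr
  have hrc : (r : ℂ) * c + c = q := by
    have h1 : (r : ℂ) = classInner (fun n : L => χ n) (indFun K fun _ : K => (1 : ℂ)) := by
      rw [hlin2, classInner_sum_right, hr, hS, Finset.sum_image fun a _ b _ h => hι h]
      push_cast
      refine Finset.sum_congr rfl fun β _ => ?_
      rw [hm]
      exact (classInner_sum_smul_irr (fun ψ => (m ψ : ℂ)) (ι β)).symm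
    have h2 : classInner (fun n : L => χ n) (indFun K fun _ : K => (1 : ℂ)) =
        (c : ℂ)⁻¹ * ∑ k : K, χ (k : L) := by
      rw [← classInner_conj_symm,
        frobenius_reciprocity K (fun _ : K => (1 : ℂ))
          (isClassFunction_of_isCharacter (isCharacter_restrict L (isCharacter_of_isIrr hχ))),
        classInner_conj_symm, classInner]
      simp [hc]
    rw [Fintype.sum_eq_add_sum_compl (1 : K), Finset.sum_congr rfl fun (k : K) hk => show
      χ (k : L) = -1 from hval _ (hKP k k.2) fun h => by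
        simp at hk; exact hk (Subtype.ext (Subtype.ext h))] at h2
    rw [Finset.sum_const, Finset.card_compl, Finset.card_singleton, nsmul_eq_mul,
      Nat.cast_sub Fintype.card_pos, ← Nat.card_eq_fintype_card, ← hc] at h2
    simp only [Subgroup.coe_one, hb] at h2
    have hc0 : (c : ℂ) ≠ 0 := Nat.cast_ne_zero.mpr (by omega)
    rw [← h1] at h2
    rw [h2]
    push_cast
    field_simp
    ring
  have hrc' : (r + 1) * c = q := by
    have : (((r + 1) * c : ℕ) : ℂ) = (q : ℂ) := by push_cast; rw [← hrc]; ring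
    exact_mod_cast this
  have hScard : S.card = 2 * (r + 1) := by
    rw [hS, Finset.card_image_of_injective _ hι, Finset.card_univ, hlin1]
    have h1 := K.card_mul_index
    rw [hcardL, ← hc, ← hrc'] at h1
    exact Nat.eq_of_mul_eq_mul_left (show 0 < c by omega) (h1.trans (by ring))
  -- Cauchy–Schwarz on the others
  choose d hd0 hd using fun ψ : IrrCharacter L => exists_nat_degree_irr ψ.2
  have hdS : ∀ ψ ∈ S, d ψ = 1 := fun ψ hψ => by
    obtain ⟨β, -, rfl⟩ := Finset.mem_image.1 hψ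
    have h : ((1 : L →* ℂˣ) 1 : ℂ) = 1 := by simp
    have := hd (ι β)
    simp only [ι, map_one, Units.val_one] at this
    exact_mod_cast this.symm
  have hdeg : ∑ ψ : IrrCharacter L, m ψ * d ψ = q - 1 := by
    have h := congrFun hm 1
    simp only [Finset.sum_apply, Pi.smul_apply, smul_eq_mul, hd, Subgroup.coe_one, hb] at h
    have : (((q - 1 : ℕ)) : ℂ) = ((∑ ψ : IrrCharacter L, m ψ * d ψ : ℕ) : ℂ) := by
      rw [Nat.cast_sub (by omega), Nat.cast_one, h]
      push_cast; rfl
    exact_mod_cast this.symm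
  have hsq : ∑ ψ : IrrCharacter L, d ψ ^ 2 = 2 * q := by
    have h := sum_sq_degree (G := L)
    simp only [hd, hcardL] at h
    rw [mul_comm 2 q]
    exact_mod_cast h
  set U := Finset.univ \ S with hU
  have hsplit : ∀ f : IrrCharacter L → ℕ, ∑ ψ : IrrCharacter L, f ψ = ∑ ψ ∈ U, f ψ + ∑ ψ ∈ S, f ψ :=
    fun f => (Finset.sum_sdiff (Finset.subset_univ S)).symm
  have h1 : ∑ ψ ∈ U, m ψ * d ψ + r = q - 1 := by
    rw [← hdeg, hsplit, hr]
    congr 1
    exact Finset.sum_congr rfl fun ψ hψ => by rw [hdS ψ hψ, mul_one]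
  have h2 : ∑ ψ ∈ U, d ψ ^ 2 + 2 * (r + 1) = 2 * q := by
    rw [← hsq, hsplit, ← hScard]
    congr 1
    rw [Finset.card_eq_sum_ones]
    exact Finset.sum_congr rfl fun ψ hψ => by rw [hdS ψ hψ, one_pow]
  have h3 : ∑ ψ ∈ U, m ψ ^ 2 + r ≤ N := by
    rw [hN, hsplit, hr]
    simp only [sq]
    gcongr
    exact Nat.le_mul_self _
  have hCS : (∑ ψ ∈ U, m ψ * d ψ) ^ 2 ≤ (∑ ψ ∈ U, m ψ ^ 2) * ∑ ψ ∈ U, d ψ ^ 2 :=
    Finset.sum_mul_sq_le_sq_mul_sq U m d
  set A := ∑ ψ ∈ U, m ψ * d ψ
  set B := ∑ ψ ∈ U, m ψ ^ 2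
  set D := ∑ ψ ∈ U, d ψ ^ 2
  have hA : A + (r + 1) = q := by omega
  have hD : D = 2 * A := by omega
  have hB : 2 * B + 2 * r ≤ A + (r + 1) := by omega
  have hA0 : 0 < A := by
    have : 2 * (r + 1) ≤ q := by
      rw [← hrc', mul_comm 2]
      exact Nat.mul_le_mul_left _ hc2
    omega
  have hr1 : r ≤ 1 := by
    have h4 : A * A ≤ A * (2 * B) := by
      calc A * A = A ^ 2 := (sq A).symm
        _ ≤ B * D := hCS
        _ = A * (2 * B) := by rw [hD]; ring
    have := Nat.le_of_mul_le_mul_left h4 hA0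
    omega
  have hq4 : q ≤ 4 := by
    have h5 : q ≤ 2 * c := by rw [← hrc']; exact Nat.mul_le_mul_right _ (by omega)
    have h6 : c * c ≤ q := (Nat.mul_le_mul hcR hcR).trans hR2
    nlinarith
  obtain ⟨s, hs⟩ := hk1
  omega

set_option maxHeartbeats 800000 in
/-- An index six situation gives `S₄ × Z(G)`. -/
theorem symmetric_case {χ : G → ℂ} (hχ : IsIrrCharacter G χ)
    (hfaith : ∀ g, χ g = χ 1 → g = 1) (P : Subgroup G) [P.Normal]
    (hPp : IsPGroup 2 P) (hPc : ∀ a ∈ P, ∀ b ∈ P, a * b = b * a)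
    (hcard : Nat.card P = 4) (hb : χ 1 = (Nat.card P : ℂ) - 1) (hval : ∀ x ∈ P, x ≠ 1 → χ x = -1)
    (htrans : ∀ φ ψ : IrrCharacter P, (φ : P → ℂ) ≠ (fun _ => 1) → (ψ : P → ℂ) ≠ (fun _ => 1) →
      ∃ g : G, conjBy P (φ : P → ℂ) g = ψ)
    (hC : Subgroup.centralizer (P : Set G) = P ⊔ Subgroup.center G)
    (hPZ : P ⊓ Subgroup.center G = ⊥) (hZodd : Odd (Nat.card (Subgroup.center G)))
    {g : G} (hg : g ∉ Subgroup.centralizer (P : Set G)) (hgp : g ^ 2 ∈ P) :
    ∃ H : Subgroup G, Nonempty (↥H ≃* Equiv.Perm (Fin 4)) ∧ H ⊓ Subgroup.center G = ⊥ ∧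
      H ⊔ Subgroup.center G = ⊤ := by
  set C := Subgroup.centralizer (P : Set G) with hCdef
  set T := {x : P // x ≠ 1}
  have hT : Fintype.card T = 3 := by
    rw [Fintype.card_subtype_compl, Fintype.card_subtype_eq, ← Nat.card_eq_fintype_card, hcard]
  have hne : ∀ (a : G) (x : P), x ≠ 1 ↔ MulAut.conjNormal a x ≠ 1 := fun a x => by simp
  let π : G →* Equiv.Perm T :=
    { toFun := fun a => Equiv.subtypeEquiv (MulAut.conjNormal a).toEquiv (hne a)
      map_one' := by ext x; simp
      map_mul' := fun a b => by ext x; simp }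
  have hπ : ∀ (a : G) (x : T), (((π a x : T) : P) : G) = a * ((x : P) : G) * a⁻¹ := fun a x =>
    MulAut.conjNormal_apply a (x : P)
  have hπker : π.ker = C := by
    ext a
    rw [MonoidHom.mem_ker, hCdef, Subgroup.mem_centralizer_iff]
    constructor
    · intro h x hx
      by_cases hx1 : x = 1
      · simp [hx1]
      · have := congrArg (fun t : T => ((t : P) : G))
          (Equiv.congr_fun h ⟨⟨x, hx⟩, fun e => hx1 (congrArg Subtype.val e)⟩)
        rw [hπ] at this
        simp only [Equiv.Perm.coe_one, id_eq] at this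
        calc x * a = a * x * a⁻¹ * a := by rw [this]
          _ = a * x := by group
    · intro h
      ext x
      show (((π a x : T) : P) : G) = _
      rw [hπ, ← h _ (x : P).2, mul_inv_cancel_right]
      rfl
  have hperm : Nat.card (Equiv.Perm T) = 6 := by
    rw [Nat.card_eq_fintype_card, Fintype.card_perm, hT]; rfl
  have hPC : P ≤ C := fun a ha b hb => hPc b hb a ha
  have hCidx : C.index ∣ 6 := by
    rw [← hπker, Subgroup.index_ker, ← hperm]
    exact Subgroup.card_subgroup_dvd_card _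
  have h2 : 2 ∣ C.index := by
    have hgC : (QuotientGroup.mk g : G ⧸ C) ≠ 1 := fun h => hg ((QuotientGroup.eq_one_iff g).1 h)
    have hg2 : (QuotientGroup.mk g : G ⧸ C) ^ 2 = 1 := by
      rw [← QuotientGroup.mk_pow]; exact (QuotientGroup.eq_one_iff _).2 (hPC hgp)
    rw [Subgroup.index, ← orderOf_eq_prime hg2 hgC]
    exact orderOf_dvd_natCard _
  have h3 : 3 ∣ C.index := by
    obtain ⟨θ, hθ⟩ := exists_constituent P (isCharacter_of_isIrr hχ) (irr_degree_ne_zero hχ)
    have hθ1 : (θ : P → ℂ) ≠ fun _ => 1 := fun h => by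
      have := eq_bot_of_trivial_constituent hχ hfaith P (h ▸ hθ)
      rw [this, Subgroup.card_bot] at hcard
      omega
    have hle : C ≤ inertia P (θ : P → ℂ) := fun a ha => (mem_inertia_iff P).2 fun n =>
      congrArg (θ : P → ℂ) (Subtype.ext (by
        show a * n * a⁻¹ = n
        rw [← ha n n.2, mul_inv_cancel_right]))
    have horb : (orbit P (θ : P → ℂ)).card = 3 := by
      have heq : orbit P (θ : P → ℂ) =
          ((Finset.univ : Finset (IrrCharacter P)).image Subtype.val).erase (fun _ => 1) := by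
        ext φ
        rw [mem_orbit, Finset.mem_erase]
        constructor
        · rintro ⟨a, rfl⟩
          refine ⟨fun h => hθ1 ?_, Finset.mem_image.2
            ⟨⟨_, isIrrCharacter_conjBy P θ.2 a⟩, Finset.mem_univ _, rfl⟩⟩
          have := congrArg (fun φ => conjBy P φ a⁻¹) h
          rw [← conjBy_mul, mul_inv_cancel, conjBy_one] at this
          exact this
        · rintro ⟨hφ, h⟩
          obtain ⟨ψ, -, rfl⟩ := Finset.mem_image.1 h
          exact htrans θ ψ hθ1 hφ
      rw [heq, Finset.card_erase_of_mem (show (fun _ : P => (1 : ℂ)) ∈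
        (Finset.univ : Finset (IrrCharacter P)).image Subtype.val from
        Finset.mem_image.2 ⟨⟨_, isIrrCharacter_one⟩, Finset.mem_univ _, rfl⟩), Finset.card_image_of_injective _ Subtype.val_injective,
        Finset.card_univ]
      have h := sum_sq_degree (G := P)
      simp only [degree_one_of_comm fun a b : P => Subtype.ext (hPc a a.2 b b.2), one_pow,
        Finset.sum_const, nsmul_one, Finset.card_univ] at h
      have h' : Fintype.card (IrrCharacter P) = 4 := by rw [← hcard]; exact_mod_cast h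
      rw [h']
    have := Subgroup.index_dvd_of_le hle
    rwa [← card_orbit_eq_index, horb] at this
  have hC6 : C.index = 6 := Nat.dvd_antisymm hCidx (Nat.Coprime.mul_dvd_of_dvd_of_dvd (by norm_num) h2 h3)
  have hπs : Function.Surjective π := by
    rw [← MonoidHom.range_eq_top]
    exact Subgroup.eq_top_of_card_eq _ (by rw [← Subgroup.index_ker, hπker, hC6, hperm])
  -- work modulo `P`
  set Q := G ⧸ P
  set mk := QuotientGroup.mk' P
  let π' : Q →* Equiv.Perm T := QuotientGroup.lift P π fun x hx => hπker ▸ hPC hx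
  have hker' : ∀ w : Q, π' w = 1 → ∃ z ∈ Subgroup.center G, mk z = w := by
    intro w hw
    obtain ⟨a, rfl⟩ := QuotientGroup.mk'_surjective P w
    have ha : a ∈ C := hπker ▸ hw
    rw [hCdef] at hC
    rw [hCdef, hC] at ha
    have : a ∈ (↑(P ⊔ Subgroup.center G) : Set G) := ha
    rw [Subgroup.normal_mul] at this
    obtain ⟨y, hy, z, hz, rfl⟩ := this
    refine ⟨z, hz, ?_⟩
    rw [map_mul, show mk y = 1 from (QuotientGroup.eq_one_iff y).2 hy, one_mul]
  have hkodd : ∀ w : Q, π' w = 1 → Odd (orderOf w) := by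
    intro w hw
    obtain ⟨z, hz, rfl⟩ := hker' w hw
    exact hZodd.of_dvd_nat ((orderOf_map_dvd _ z).trans
      ((Subgroup.orderOf_coe (⟨z, hz⟩ : Subgroup.center G)).dvd.trans (orderOf_dvd_natCard _)))
  have hkc : ∀ w v : Q, π' w = 1 → w * v = v * w := by
    intro w v hw
    obtain ⟨z, hz, rfl⟩ := hker' w hw
    obtain ⟨a, rfl⟩ := QuotientGroup.mk'_surjective P v
    rw [← map_mul, ← map_mul, (Subgroup.mem_center_iff.1 hz a).symm]
  set s : Q := mk g with hs
  have hss : s * s = 1 := by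
    rw [hs, ← map_mul, ← sq]; exact (QuotientGroup.eq_one_iff _).2 hgp
  have hsne : π' s ≠ 1 := fun h => hg (hπker ▸ h)
  haveI : Fact (Nat.Prime 3) := ⟨Nat.prime_three⟩
  obtain ⟨τ, hτ⟩ := exists_prime_orderOf_dvd_card' (G := Equiv.Perm T) 3 (by rw [hperm]; norm_num)
  obtain ⟨a, ha⟩ := hπs τ
  set x : Q := mk a
  have hx : π' x = τ := ha
  set d := x * s * x⁻¹ * s with hd
  have hπd : orderOf (π' d) = 3 := by
    let E := (Fintype.equivFinOfCardEq hT).permCongrHom
    have := perm_three (E τ) (E (π' s)) (by rw [← map_pow, orderOf_dvd_iff_pow_eq_one.1 hτ.dvd, map_one])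
      (fun h => by
        rw [E.map_eq_one_iff] at h
        rw [h, orderOf_one] at hτ
        omega)
      (by rw [← map_mul, ← map_mul, hss, map_one, map_one]) (by rwa [Ne, E.map_eq_one_iff])
    simp only [← map_mul, ← map_inv, ← map_pow, E.map_eq_one_iff, Ne] at this
    refine orderOf_eq_prime ?_ ?_
    · rw [hd, map_mul, map_mul, map_mul, map_inv, hx]; exact this.1
    · rw [hd, map_mul, map_mul, map_mul, map_inv, hx]; exact this.2
  have hsinv : s⁻¹ = s := inv_eq_of_mul_eq_one_right hss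
  have hsd : s * d * s = d⁻¹ := by
    rw [hd]
    calc s * (x * s * x⁻¹ * s) * s = s * x * s * x⁻¹ * (s * s) := by group
      _ = s⁻¹ * x * s⁻¹ * x⁻¹ := by rw [hss, hsinv, mul_one]
      _ = (x * s * x⁻¹ * s)⁻¹ := by group
  have hd3 : d ^ 3 = 1 := by
    have hw : π' (d ^ 3) = 1 := by rw [map_pow, ← hπd, pow_orderOf_eq_one]
    have h1 : s * d ^ 3 * s = (d ^ 3)⁻¹ := by
      calc s * d ^ 3 * s = s * d * s * (s * d * s) * (s * d * s) := by
            rw [pow_three' d]
            calc s * (d * d * d) * s = s * d * (1 : Q) * d * (1 : Q) * d * s := by group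
              _ = s * d * (s * s) * d * (s * s) * d * s := by rw [hss]
              _ = _ := by group
        _ = _ := by rw [hsd]; group
    rw [← hkc _ _ hw, mul_assoc, hss, mul_one] at h1
    have h2 : (d ^ 3) ^ 2 = 1 := by rw [sq]; nth_rw 2 [h1]; exact mul_inv_cancel _
    have h3 := hkodd _ hw
    have h4 := orderOf_dvd_of_pow_eq_one h2
    rcases (Nat.dvd_prime Nat.prime_two).1 h4 with h | h
    · exact orderOf_eq_one_iff.1 h
    · rw [h] at h3; exact absurd h3 (by decide)
  have hdne : d ≠ 1 := fun h => by rw [h, map_one, orderOf_one] at hπd; omega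
  set D := Subgroup.zpowers d ⊔ Subgroup.zpowers s with hD
  have hnorm : Subgroup.zpowers s ≤ Subgroup.normalizer (Subgroup.zpowers d : Set Q) := by
    rw [Subgroup.zpowers_le, Subgroup.mem_normalizer_iff_map_conj_eq, MonoidHom.map_zpowers]
    show Subgroup.zpowers (s * d * s⁻¹) = _
    rw [hsinv, hsd, Subgroup.zpowers_inv]
  have hinj : ∀ w ∈ D, π' w = 1 → w = 1 := by
    intro w hw h1
    have : w ∈ (↑(Subgroup.zpowers d ⊔ Subgroup.zpowers s) : Set Q) := hw
    rw [Subgroup.coe_mul_of_right_le_normalizer_left _ _ hnorm] at this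
    obtain ⟨_, ⟨i, rfl⟩, _, ⟨j, rfl⟩, rfl⟩ := this
    have hdo : orderOf d = 3 := orderOf_eq_prime hd3 hdne
    have hso : orderOf s = 2 := orderOf_eq_prime (by rw [sq, hss]) fun h => hsne (by rw [h, map_one])
    have hπs2 : orderOf (π' s) = 2 :=
      orderOf_eq_prime (by rw [← map_pow, sq, hss, map_one]) hsne
    simp only [map_mul, map_zpow] at h1
    have hi : (3 : ℤ) ∣ i := by
      have : (π' d ^ i) ^ (2 : ℤ) = 1 := by
        rw [eq_inv_of_mul_eq_one_left h1, inv_zpow, inv_eq_one, ← zpow_mul, mul_comm, zpow_mul,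
          zpow_two, ← map_mul, hss, map_one, one_zpow]
      rw [← zpow_mul, ← orderOf_dvd_iff_zpow_eq_one, hπd] at this
      omega
    have hd' : d ^ i = 1 := orderOf_dvd_iff_zpow_eq_one.1 (by rw [hdo]; exact hi)
    have hπd' : π' d ^ i = 1 := orderOf_dvd_iff_zpow_eq_one.1 (by rw [hπd]; exact hi)
    rw [hπd', one_mul, ← orderOf_dvd_iff_zpow_eq_one, hπs2] at h1
    show d ^ i * s ^ j = 1
    rw [hd', one_mul, ← orderOf_dvd_iff_zpow_eq_one, hso]
    exact h1
  have hDsurj : ∀ σ : Equiv.Perm T, ∃ w ∈ D, π' w = σ := by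
    have h1 : D.map π' = ⊤ := by
      refine Subgroup.eq_top_of_card_eq _ (Nat.dvd_antisymm (Subgroup.card_subgroup_dvd_card _) ?_)
      rw [hperm, show (6 : ℕ) = 2 * 3 from rfl]
      refine Nat.Coprime.mul_dvd_of_dvd_of_dvd (by norm_num) ?_ ?_
      · rw [← orderOf_eq_prime (x := π' s) (p := 2) (by rw [← map_pow, sq, hss, map_one]) hsne]
        exact (Subgroup.orderOf_coe (⟨π' s, s, Subgroup.mem_sup_right
          (Subgroup.mem_zpowers s), rfl⟩ : D.map π')).dvd.trans (orderOf_dvd_natCard _)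
      · rw [← hπd]
        exact (Subgroup.orderOf_coe (⟨π' d, d, Subgroup.mem_sup_left
          (Subgroup.mem_zpowers d), rfl⟩ : D.map π')).dvd.trans (orderOf_dvd_natCard _)
    intro σ
    have : σ ∈ D.map π' := h1 ▸ Subgroup.mem_top σ
    exact this
  set H := D.comap mk with hH
  have hPH : P ≤ H := fun y hy => by
    show mk y ∈ D
    rw [show mk y = 1 from (QuotientGroup.eq_one_iff y).2 hy]
    exact one_mem _
  have hHC : ∀ y ∈ H, y ∈ C → y ∈ P := fun y hy hyC =>
    (QuotientGroup.eq_one_iff y).1 (hinj _ hy (hπker ▸ hyC : y ∈ π.ker))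
  have hcap : H ⊓ Subgroup.center G = ⊥ := by
    rw [Subgroup.eq_bot_iff_forall]
    intro z hz
    have : z ∈ P ⊓ Subgroup.center G :=
      ⟨hHC z hz.1 (Subgroup.center_le_centralizer _ hz.2), hz.2⟩
    rw [hPZ] at this
    exact this
  have hsup : H ⊔ Subgroup.center G = ⊤ := by
    refine top_le_iff.1 fun y _ => ?_
    obtain ⟨w, hw, hwy⟩ := hDsurj (π y)
    obtain ⟨u, rfl⟩ := QuotientGroup.mk'_surjective P w
    have hu : u ∈ H := hw
    have hk : u⁻¹ * y ∈ C := by
      rw [← hπker, MonoidHom.mem_ker, map_mul, map_inv, ← hwy]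
      exact inv_mul_cancel _
    rw [hC] at hk
    rw [show y = u * (u⁻¹ * y) by group]
    exact mul_mem (Subgroup.mem_sup_left hu)
      ((sup_le_sup_right hPH _ : P ⊔ Subgroup.center G ≤ _) hk)
  refine ⟨H, ?_, hcap, hsup⟩
  -- `|H| = 24`
  let f : H →* Equiv.Perm T := π.comp H.subtype
  have hfk : f.ker = P.subgroupOf H := by
    ext y
    rw [Subgroup.mem_subgroupOf]
    refine ⟨fun h => hHC _ y.2 (hπker ▸ h), fun h => ?_⟩
    exact (hπker ▸ hPC h : (y : G) ∈ π.ker)
  have hfs : f.range = ⊤ := MonoidHom.range_eq_top.2 fun σ => by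
    obtain ⟨w, hw, hwy⟩ := hDsurj σ
    obtain ⟨u, rfl⟩ := QuotientGroup.mk'_surjective P w
    exact ⟨⟨u, hw⟩, hwy⟩
  have hHcard : Nat.card H = 24 := by
    rw [← f.ker.card_mul_index, Subgroup.index_ker, hfs, Subgroup.card_top, hperm, hfk,
      Nat.card_congr (Subgroup.subgroupOfEquivOfLe hPH).toEquiv, hcard]
  obtain ⟨S⟩ : Nonempty (Sylow 3 H) := inferInstance
  set M := Subgroup.normalizer ((S : Subgroup H) : Set H) with hM
  have hScard : Nat.card (S : Subgroup H) = 3 := by
    rw [S.card_eq_multiplicity, hHcard, show (24 : ℕ) = 3 * 8 from rfl,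
      Nat.factorization_mul (by norm_num) (by norm_num)]
    simp [Nat.Prime.factorization_self Nat.prime_three,
      Nat.factorization_eq_zero_of_not_dvd (show ¬ 3 ∣ 8 by norm_num)]
  have hSidx : (S : Subgroup H).index = 8 := by
    have := (S : Subgroup H).card_mul_index
    rw [hScard, hHcard] at this
    omega
  haveI hPHn : (P.subgroupOf H).Normal := inferInstance
  have hSC : ∀ y ∈ (S : Subgroup H), (∀ a ∈ P.subgroupOf H, a * y = y * a) → y = 1 := by
    intro y hy h
    have hyP : (y : G) ∈ P := hHC _ y.2 fun a ha =>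
      congrArg Subtype.val (h ⟨a, hPH ha⟩ ha)
    have h1 := (Subgroup.orderOf_coe (⟨y, hy⟩ : (S : Subgroup H))).dvd.trans (orderOf_dvd_natCard _)
    rw [hScard] at h1
    have h2 : orderOf y ∣ 4 := by
      rw [← Subgroup.orderOf_coe y, ← hcard]
      exact (Subgroup.orderOf_coe (⟨y, hyP⟩ : P)).dvd.trans (orderOf_dvd_natCard _)
    exact orderOf_eq_one_iff.1 (Nat.eq_one_of_dvd_one (by
      simpa using Nat.dvd_gcd h1 h2))
  have hSne : (S : Subgroup H) ≠ ⊥ := fun h => by
    rw [h, Subgroup.card_bot] at hScard; omega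
  have hdisj : P.subgroupOf H ⊓ (S : Subgroup H) = ⊥ := by
    refine (Subgroup.eq_bot_iff_forall _).2 fun y hy => hSC y hy.2 fun a ha => ?_
    exact Subtype.ext (hPc _ ha _ hy.1)
  have hPM : ¬ P.subgroupOf H ≤ M := by
    intro h
    refine hSne ((Subgroup.eq_bot_iff_forall _).2 fun y hy => hSC y hy fun a ha => ?_)
    have h1 : a * y * a⁻¹ * y⁻¹ ∈ P.subgroupOf H ⊓ (S : Subgroup H) := by
      refine Subgroup.mem_inf.2 ⟨?_, mul_mem (show a * y * a⁻¹ ∈ (S : Subgroup H) from
        (Subgroup.mem_normalizer_iff.1 (h ha) y).1 hy) (inv_mem hy)⟩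
      have : a * (y * a⁻¹ * y⁻¹) ∈ P.subgroupOf H :=
        mul_mem ha (hPHn.conj_mem _ (inv_mem ha) y)
      simpa [mul_assoc] using this
    rw [hdisj, Subgroup.mem_bot, mul_inv_eq_one, mul_inv_eq_iff_eq_mul] at h1
    exact h1
  have hMidx : M.index = 4 := by
    have h1 : M.index ∣ 8 := hSidx ▸ Subgroup.index_dvd_of_le Subgroup.le_normalizer
    have h2 : M.index % 3 = 1 := by
      have h3 : M.index = Nat.card (Sylow 3 H) := S.card_eq_index_normalizer.symm
      rw [h3]
      exact card_sylow_modEq_one 3 H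
    have h4 : M.index ≠ 1 := fun h => hPM (Subgroup.index_eq_one.1 h ▸ le_top)
    have := Nat.le_of_dvd (by norm_num) h1
    interval_cases M.index <;> omega
  have hcore : M.normalCore = ⊥ := by
    have hNn : (M.normalCore ⊓ P.subgroupOf H).Normal :=
      @Subgroup.normal_inf_normal _ _ _ _ (Subgroup.normalCore_normal M) hPHn
    set N0 := ((M.normalCore ⊓ P.subgroupOf H).map H.subtype) with hN0
    haveI : N0.Normal := by
      refine Subgroup.normalizer_eq_top_iff.1 (top_le_iff.1 ?_)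
      rw [← hsup]
      refine sup_le (fun y hy => ?_) (fun y hy => ?_)
      · rw [Subgroup.mem_normalizer_iff]
        intro w
        constructor
        · rintro ⟨v, hv, rfl⟩
          exact ⟨(⟨y, hy⟩ : H) * v * (⟨y, hy⟩ : H)⁻¹,
            hNn.conj_mem v hv _, rfl⟩
        · rintro ⟨v, hv, hvw⟩
          refine ⟨(⟨y, hy⟩ : H)⁻¹ * v * (⟨y, hy⟩ : H), ?_, ?_⟩
          · have h5 := hNn.conj_mem v hv (⟨y, hy⟩ : H)⁻¹
            rwa [inv_inv] at h5
          · simp only [Subgroup.subtype_apply, Subgroup.coe_mul, Subgroup.coe_inv] at hvw ⊢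
            rw [hvw]; group
      · refine Subgroup.centralizer_le_normalizer _ fun w _ => ?_
        exact Subgroup.mem_center_iff.1 hy w
    have hNP : N0 ≤ P := by
      rintro _ ⟨v, hv, rfl⟩
      exact hv.2
    rcases normal_le_eq hχ hfaith P hb hval N0 hNP with h | h
    · rw [hN0, (Subgroup.map_eq_bot_iff_of_injective _ H.subtype_injective)] at h
      refine (Subgroup.eq_bot_iff_forall _).2 fun v hv => ?_
      have hvP : v ∈ P.subgroupOf H := by
        refine hHC _ v.2 fun a ha => ?_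
        have h1 : (⟨a, hPH ha⟩ : H) * v * (⟨a, hPH ha⟩ : H)⁻¹ * v⁻¹ ∈
            M.normalCore ⊓ P.subgroupOf H := by
          refine Subgroup.mem_inf.2 ⟨mul_mem ((Subgroup.normalCore_normal M).conj_mem v hv _) (inv_mem hv), ?_⟩
          have : (⟨a, hPH ha⟩ : H) * (v * (⟨a, hPH ha⟩ : H)⁻¹ * v⁻¹) ∈ P.subgroupOf H :=
            mul_mem ha (hPHn.conj_mem _ (inv_mem (show (⟨a, hPH ha⟩ : H) ∈ P.subgroupOf H from ha)) v)
          simpa [mul_assoc] using this
        rw [h, Subgroup.mem_bot, mul_inv_eq_one, mul_inv_eq_iff_eq_mul] at h1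
        exact congrArg Subtype.val h1
      exact (Subgroup.eq_bot_iff_forall _).1 h v ⟨hv, hvP⟩
    · exfalso
      refine hPM fun y hy => ?_
      have : (y : G) ∈ N0 := h ▸ hy
      obtain ⟨v, hv, hvy⟩ := this
      rw [← (Subtype.ext hvy : v = y)]
      exact Subgroup.normalCore_le M hv.1
  haveI : Fintype (H ⧸ M) := Fintype.ofFinite _
  have hcard4 : Fintype.card (H ⧸ M) = 4 := by rw [← Nat.card_eq_fintype_card]; exact hMidx
  let e := (Fintype.equivFinOfCardEq hcard4).permCongrHom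
  let F : H →* Equiv.Perm (Fin 4) := e.toMonoidHom.comp (MulAction.toPermHom H (H ⧸ M))
  have hinjF : Function.Injective F := by
    refine e.injective.comp ?_
    rw [← MonoidHom.ker_eq_bot_iff, ← Subgroup.normalCore_eq_ker]
    exact hcore
  exact ⟨MulEquiv.ofBijective F ((Nat.bijective_iff_injective_and_card F).2 ⟨hinjF, by
    rw [hHcard, Nat.card_eq_fintype_card, Fintype.card_perm, Fintype.card_fin]; rfl⟩)⟩

/-- Let χ be a faithful, non-linear irreducible character of the finite group G (χ g = χ 1 only for g = 1, χ 1 ≠ 1) whose value at every element of order divisible by p is a root of unity, and suppose P = O_p(G) ≠ 1. Then either P is an elementary abelian Sylow p-subgroup of G, C_G(P) is the internal direct product of P and Z(G), G acts transitively by conjugation on the non-principal linear characters of P, and χ 1 = |P| − 1; or p = 2 and G is the internal direct product of a subgroup isomorphic to the symmetric group S₄ and the centre Z(G), which has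 odd order. -/
theorem result {G : Type*} [Group G] [Finite G] (p : ℕ) [Fact p.Prime] (χ : Cfsg.IrrCharacter G) (hfaith : ∀ g : G, (χ : G → ℂ) g = (χ : G → ℂ) 1 → g = 1) (hnl : (χ : G → ℂ) 1 ≠ 1) (hroot : ∀ g : G, p ∣ orderOf g → ∃ n : ℕ, 0 < n ∧ ((χ : G → ℂ) g) ^ n = 1) (hP : Cfsg.pCore p G ≠ ⊥) : ((Nat.card ↥(Cfsg.pCore p G)).factorization p = (Nat.card G).factorization p ∧ Cfsg.IsElementaryAbelian p (Cfsg.pCore p G) ∧ Subgroup.centralizer ((Cfsg.pCore p G : Subgroup G) : Set G) = Cfsg.pCore p G ⊔ Subgroup.center G ∧ Cfsg.pCore p G ⊓ Subgroup.center G = ⊥ ∧ (∀ lam mu : ↥(Cfsg.pCore p G) → ℂ, Cfsg.IsCharacter ↥(Cfsg.pCore p G) lam → lam 1 = 1 → lam ≠ (fun _ => (1 : ℂ)) → Cfsg.IsCharacter ↥(Cfsg.pCore p G) mu → mu 1 = 1 → mu ≠ (fun _ => (1 : ℂ)) → ∃ g : G, ∀ (x : G) (hx : x ∈ Cfsg.pCore p G) (hgx : g * x * g⁻¹ ∈ Cfsg.pCore p G), mu ⟨x, hx⟩ = lam ⟨g * x * g⁻¹, hgx⟩) ∧ (χ : G → ℂ) 1 = (Nat.card ↥(Cfsg.pCore p G) : ℂ) - 1) ∨ (p = 2 ∧ Odd (Nat.card ↥(Subgroup.center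 G)) ∧ ∃ H : Subgroup G, Nonempty (↥H ≃* Equiv.Perm (Fin 4)) ∧ H ⊓ Subgroup.center G = ⊥ ∧ H ⊔ Subgroup.center G = ⊤) := by
  haveI := Fintype.ofFinite G
  haveI := CfsgLib.Fitting.pCore_normal (G := G) p
  set P := Cfsg.pCore p G with hPdef
  have hPp : IsPGroup p P := CfsgLib.Fitting.pCore_isPGroup p
  obtain ⟨hPc, hq, hb, hval, htrans⟩ := restrict_normal χ.2 hfaith hnl hroot P hPp hP
  haveI : IsMulCommutative P := ⟨⟨fun a b => Subtype.ext (hPc a a.2 b b.2)⟩⟩
  -- exponent `p`
  have hPe : ∀ a ∈ P, a ^ p = 1 := by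
    let φ : P →* P :=
      { toFun := fun x => x ^ p
        map_one' := one_pow p
        map_mul' := fun x y => Commute.mul_pow (mul_comm' x y) p }
    set Q := φ.range.map P.subtype with hQ
    haveI : Q.Normal := ⟨by
      rintro _ ⟨_, ⟨x, rfl⟩, rfl⟩ g
      refine ⟨_, ⟨⟨g * x * g⁻¹, Subgroup.Normal.conj_mem inferInstance _ x.2 g⟩, rfl⟩, ?_⟩
      simp [φ, conj_pow]⟩
    rcases normal_le_eq χ.2 hfaith P hb hval Q (Subgroup.map_subtype_le _) with h | h
    · intro a ha
      have : (a ^ p : G) ∈ Q := ⟨φ ⟨a, ha⟩, ⟨_, rfl⟩, rfl⟩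
      rwa [h, Subgroup.mem_bot] at this
    · exfalso
      have hpd : p ∣ Nat.card P := by
        obtain ⟨k, hk⟩ := hPp.exists_card_eq
        refine hk ▸ dvd_pow_self p fun h0 => ?_
        rw [hk, h0, pow_zero] at hq
        omega
      obtain ⟨x, hx⟩ := exists_prime_orderOf_dvd_card' p hpd
      have hs : Function.Surjective φ := fun y => by
        have : (y : G) ∈ Q := h.symm ▸ y.2
        obtain ⟨v, ⟨u, rfl⟩, hv⟩ := this
        exact ⟨u, Subtype.ext hv⟩
      have hinj := Finite.injective_iff_surjective.2 hs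
      have : x = 1 := hinj (by
        show x ^ p = (1 : P) ^ p
        rw [one_pow, ← hx, pow_orderOf_eq_one])
      rw [this, orderOf_one] at hx
      exact (Fact.out : p.Prime).ne_one hx.symm
  have hPZ : P ⊓ Subgroup.center G = ⊥ := by
    rcases normal_le_eq χ.2 hfaith P hb hval (P ⊓ Subgroup.center G) inf_le_left with h | h
    · exact h
    · exfalso
      have hPZle : P ≤ Subgroup.center G := h.ge.trans inf_le_right
      obtain ⟨θ, hθ⟩ := exists_constituent P (isCharacter_of_isIrr χ.2) (irr_degree_ne_zero χ.2)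
      have hinv : ∀ g : G, conjBy P (θ : P → ℂ) g = θ := fun g => funext fun n =>
        congrArg (θ : P → ℂ) (Subtype.ext (by
          show g * n * g⁻¹ = n
          rw [Subgroup.mem_center_iff.1 (hPZle n.2) g, mul_inv_cancel_right]))
      have hc := clifford_invariant P χ.2 θ.2 hinv hθ
      haveI : Nontrivial P := (Subgroup.nontrivial_iff_ne_bot P).2 hP
      obtain ⟨x, hx⟩ := exists_ne (1 : P)
      obtain ⟨d, hd0, hd⟩ := exists_nat_degree_irr θ.2
      have hd1 := degree_one_of_comm (G := P) (fun a b => mul_comm' a b) θ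
      have h1 := congrFun hc 1
      have h2 := congrFun hc x
      simp only [Pi.smul_apply, smul_eq_mul, hd1, mul_one, Subgroup.coe_one] at h1 h2
      rw [← h1, hval x x.2 fun e => hx (Subtype.ext e)] at h2
      obtain ⟨n, hn⟩ := Nat.exists_eq_add_of_le (show 1 ≤ orderOf x from orderOf_pos x)
      have hθx : ‖(θ : P → ℂ) x‖ = 1 := by
        rw [← linearHom_apply (isCharacter_of_isIrr θ.2) hd1]
        refine Complex.norm_eq_one_of_pow_eq_one (n := orderOf x) ?_ (orderOf_pos x).ne'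
        rw [← Units.val_pow_eq_pow_val, ← map_pow, pow_orderOf_eq_one, map_one, Units.val_one]
      have h3 := congrArg (fun z : ℂ => ‖z‖) h2
      simp only [norm_neg, norm_one, norm_mul, hθx, mul_one] at h3
      rw [hb, show (Nat.card P : ℂ) - 1 = ((Nat.card P - 1 : ℕ) : ℂ) by
        rw [Nat.cast_sub (by omega)]; simp, Complex.norm_natCast] at h3
      have : 1 = Nat.card P - 1 := by exact_mod_cast h3
      omega
  obtain ⟨hC, hpel⟩ := centralizer_eq P hPc
    (fun N hN hNp => CfsgLib.Fitting.le_pCore hN hNp)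
    (fun g hg hgp => mem_center_of_coprime χ.2 hfaith hroot P hPp hPc hb hg hgp)
  by_cases hsyl : ∀ R : Subgroup G, IsPGroup p R → P ≤ R → R = P
  · left
    obtain ⟨R, hR⟩ := hPp.exists_le_sylow
    have hRP := hsyl R R.2 hR
    refine ⟨?_, ⟨inferInstance, hPe⟩, hC, hPZ, ?_, hb⟩
    · rw [← hRP, R.card_eq_multiplicity, Nat.Prime.factorization_pow Fact.out]
      simp
    · intro lam mu hl hl1 hl2 hm hm1 hm2
      obtain ⟨g, hg⟩ := htrans ⟨lam, isIrrCharacter_of_degree_one hl hl1⟩
        ⟨mu, isIrrCharacter_of_degree_one hm hm1⟩ hl2 hm2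
      exact ⟨g, fun x hx hgx => (congrFun hg ⟨x, hx⟩).symm⟩
  · right
    push_neg at hsyl
    obtain ⟨R, hRp, hPR, hRne⟩ := hsyl
    obtain ⟨g, hgR, hgP⟩ := SetLike.exists_of_lt (lt_of_le_of_ne hPR (Ne.symm hRne))
    obtain ⟨k, hk⟩ := hRp ⟨g, hgR⟩
    have hk' : g ^ p ^ k = 1 := congrArg Subtype.val hk
    have hex : ∃ j, g ^ p ^ j ∈ P := ⟨k, hk' ▸ one_mem P⟩
    obtain ⟨j, hj⟩ : ∃ j, Nat.find hex = j + 1 := by
      refine ⟨Nat.find hex - 1, ?_⟩
      have : Nat.find hex ≠ 0 := fun h => by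
        have := Nat.find_spec hex
        rw [h, pow_zero, pow_one] at this
        exact hgP this
      omega
    set u := g ^ p ^ j with hu
    have huP : u ∉ P := Nat.find_min hex (by omega)
    have hup : u ^ p ∈ P := by
      rw [hu, ← pow_mul, ← pow_succ, ← hj]
      exact Nat.find_spec hex
    have huk : ∃ k : ℕ, u ^ p ^ k = 1 := ⟨k, by rw [hu, ← pow_mul, mul_comm, pow_mul, hk', one_pow]⟩
    have huC : u ∉ Subgroup.centralizer (P : Set G) := fun h => huP (hpel u h huk)
    obtain ⟨rfl, hcard⟩ := sylow_case χ.2 hroot P hPp hPc hPe hq hb hval huC huk hup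
    have hZodd : Odd (Nat.card (Subgroup.center G)) := by
      rw [← Nat.not_even_iff_odd, even_iff_two_dvd]
      intro h2
      obtain ⟨z, hz⟩ := exists_prime_orderOf_dvd_card' 2 h2
      have hzP : (z : G) ∈ P ⊓ Subgroup.center G :=
        ⟨hpel _ (Subgroup.center_le_centralizer _ z.2) ⟨1, by
          rw [pow_one, ← hz, ← Subgroup.orderOf_coe, pow_orderOf_eq_one]⟩, z.2⟩
      rw [hPZ, Subgroup.mem_bot] at hzP
      rw [← Subgroup.orderOf_coe, hzP, orderOf_one] at hz
      omega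
    exact ⟨rfl, hZodd, symmetric_case χ.2 hfaith P hPp hPc hcard hb hval htrans hC hPZ hZodd huC hup⟩

end Cfsg.Agent.S4751
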