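import Cfsg.Statements.S4754
import Cfsg.Agent.Lib.Char.ClassProd

set_option autoImplicit false
open Cfsg

namespace Cfsg.Agent.S4754

open CfsgLib.Char
open scoped CfsgLib.Char

/-- For elements x, y of a finite group G, the conjugacy class of x y equals the set of all products of a conjugate of x with a conjugate of y if and only if χ(1) χ(a x a⁻¹ b y b⁻¹) = χ(x) χ(y) for all a, b ∈ G and every irreducible character χ. -/
theorem result {G : Type*} [Group G] [Finite G] (x y : G) : (∀ z : G, IsConj (x * y) z ↔ ∃ a b : G, z = a * x * a⁻¹ * (b * y * b⁻¹)) ↔ ∀ (a b : G) (χ : Cfsg.IrrCharacter G), (χ : G → ℂ) 1 * (χ : G → ℂ) (a * x * a⁻¹ * (b * y * b⁻¹)) = (χ : G → ℂ) x * (χ : G → ℂ) y := by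
  classical
  haveI : Fintype G := Fintype.ofFinite G
  refine ⟨fun h a b χ => ?_, fun h => CfsgLib.Char.ClassProd.isConj_products h⟩
  rw [← CfsgLib.Char.eq_of_isConj (CfsgLib.Char.isClassFunction_irr χ) ((h _).mpr ⟨a, b, rfl⟩)]
  refine CfsgLib.Char.ClassProd.mul_degree_eq χ.2 x y _ fun u v hu hv => ?_
  obtain ⟨c, rfl⟩ := isConj_iff.mp hu.symm
  obtain ⟨d, rfl⟩ := isConj_iff.mp hv.symm
  exact (CfsgLib.Char.eq_of_isConj (CfsgLib.Char.isClassFunction_irr χ) ((h _).mpr ⟨c, d, rfl⟩)).symm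

end Cfsg.Agent.S4754
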