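import Cfsg.Statements.S4755
import Cfsg.Agent.Lib.Char.ClassProd

set_option autoImplicit false
open Cfsg

namespace Cfsg.Agent.S4755

open CfsgLib.Char
open scoped CfsgLib.Char

/-- Let x, y be non-identity elements of the finite group G such that χ(x' y') = χ(x') χ(y') for all conjugates x' of x, y' of y and every irreducible character χ. Then the conjugacy class of x y is the set of all products of a conjugate of x with a conjugate of y; every irreducible character of degree greater than 1 vanishes at x y; and the conjugacy class of x y is the coset of the commutator subgroup containing x y. -/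
theorem result {G : Type*} [Group G] [Finite G] (x y : G) (hx : x ≠ 1) (hy : y ≠ 1) (h : ∀ (a b : G) (χ : Cfsg.IrrCharacter G), (χ : G → ℂ) (a * x * a⁻¹ * (b * y * b⁻¹)) = (χ : G → ℂ) (a * x * a⁻¹) * (χ : G → ℂ) (b * y * b⁻¹)) : (∀ z : G, IsConj (x * y) z ↔ ∃ a b : G, z = a * x * a⁻¹ * (b * y * b⁻¹)) ∧ (∀ χ : Cfsg.IrrCharacter G, (χ : G → ℂ) 1 ≠ 1 → (χ : G → ℂ) (x * y) = 0) ∧ (∀ z : G, IsConj (x * y) z ↔ (x * y)⁻¹ * z ∈ commutator G) := by
  classical
  haveI : Fintype G := Fintype.ofFinite G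
  have hval : ∀ (a b : G) (χ : Cfsg.IrrCharacter G),
      (χ : G → ℂ) (a * x * a⁻¹ * (b * y * b⁻¹)) = (χ : G → ℂ) x * (χ : G → ℂ) y := fun a b χ => by
    rw [h a b χ, CfsgLib.Char.isClassFunction_irr χ x a, CfsgLib.Char.isClassFunction_irr χ y b]
  have hxy : ∀ χ : Cfsg.IrrCharacter G, (χ : G → ℂ) (x * y) = (χ : G → ℂ) x * (χ : G → ℂ) y :=
    fun χ => by simpa using hval 1 1 χ
  have hclass : ∀ z : G, IsConj (x * y) z ↔ ∃ a b : G, z = a * x * a⁻¹ * (b * y * b⁻¹) := fun z => by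
    refine ⟨fun hz => ?_, ?_⟩
    · obtain ⟨c, rfl⟩ := isConj_iff.mp hz
      exact ⟨c, c, by group⟩
    · rintro ⟨a, b, rfl⟩
      exact (CfsgLib.Char.isConj_iff_irr_agree _ _).mpr fun χ => by rw [hval a b χ, hxy χ]
  have hzero : ∀ χ : Cfsg.IrrCharacter G, (χ : G → ℂ) 1 ≠ 1 → (χ : G → ℂ) (x * y) = 0 := by
    intro χ hχ
    have := CfsgLib.Char.ClassProd.mul_degree_eq χ.2 x y ((χ : G → ℂ) (x * y)) fun u v hu hv => by
      obtain ⟨c, rfl⟩ := isConj_iff.mp hu.symm
      obtain ⟨d, rfl⟩ := isConj_iff.mp hv.symm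
      rw [hval c d χ, hxy χ]
    rw [← hxy χ] at this
    exact (mul_left_eq_self₀.mp this).resolve_left hχ
  refine ⟨hclass, hzero, fun z => ⟨fun hz => ?_, fun hz => ?_⟩⟩
  · obtain ⟨c, rfl⟩ := isConj_iff.mp hz
    rw [commutator_def, show (x * y)⁻¹ * (c * (x * y) * c⁻¹) = (x * y)⁻¹ * c * (x * y) * c⁻¹ by group]
    have := Subgroup.commutator_mem_commutator (Subgroup.mem_top ((x * y)⁻¹)) (Subgroup.mem_top c)
    rw [commutatorElement_def, inv_inv] at this
    exact this
  · set L := Finset.univ.filter (fun χ : Cfsg.IrrCharacter G => (χ : G → ℂ) 1 = 1) with hL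
    have hlin : ∀ χ ∈ L, (χ : G → ℂ) z = (χ : G → ℂ) (x * y) := by
      intro χ hχ
      have h1 := (Finset.mem_filter.mp hχ).2
      have hc := CfsgLib.Char.isCharacter_of_isIrr χ.2
      set f := CfsgLib.Char.linearHom hc h1 with hf
      have hker : f ((x * y)⁻¹ * z) = 1 :=
        MonoidHom.mem_ker.mp (Abelianization.commutator_subset_ker f hz)
      rw [map_mul, map_inv, inv_mul_eq_one] at hker
      rw [← CfsgLib.Char.linearHom_apply hc h1 z, ← CfsgLib.Char.linearHom_apply hc h1 (x * y),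
        ← hf, hker]
    by_contra hn
    have h0 := CfsgLib.Char.column_orthogonality z (x * y)
    rw [if_neg (fun e => hn e.symm)] at h0
    have h2 := CfsgLib.Char.column_orthogonality (x * y) (x * y)
    rw [if_pos (IsConj.refl _)] at h2
    have hEq : ∀ χ : Cfsg.IrrCharacter G, (χ : G → ℂ) z * (starRingEnd ℂ) ((χ : G → ℂ) (x * y))
        = (χ : G → ℂ) (x * y) * (starRingEnd ℂ) ((χ : G → ℂ) (x * y)) := by
      intro χ
      by_cases h1 : (χ : G → ℂ) 1 = 1
      · rw [hlin χ (Finset.mem_filter.mpr ⟨Finset.mem_univ _, h1⟩)]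
      · rw [hzero χ h1, map_zero, mul_zero, mul_zero]
    rw [Finset.sum_congr rfl fun χ _ => hEq χ, h2] at h0
    exact Nat.card_pos.ne' (Nat.cast_eq_zero.mp h0)

end Cfsg.Agent.S4755
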