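import Cfsg.Statements.S4756
import Cfsg.Agent.Lib.Char.ClassProd
import Cfsg.Agent.Lib.Char.Counting
import Cfsg.Agent.Lib.Coprime.Action
import Cfsg.Agent.Lib.Coprime.Generation
import Cfsg.Agent.Lib.Coprime.SchurZassenhaus

set_option autoImplicit false
open Cfsg

namespace Cfsg.Agent.S4756

open CfsgLib.Char
open scoped ComplexConjugate CfsgLib.Char commutatorElement Pointwise

variable {G : Type*} [Group G] [Finite G]

theorem normSq_linear {χ : IrrCharacter G} (h1 : (χ : G → ℂ) 1 = 1) (g : G) :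
    Complex.normSq ((χ : G → ℂ) g) = 1 := by
  have hc := isCharacter_of_isIrr χ.2
  have hp : ((χ : G → ℂ) g) ^ orderOf g = 1 := by
    rw [← linearHom_apply hc h1 g, ← Units.val_pow_eq_pow_val, ← map_pow, pow_orderOf_eq_one,
      map_one, Units.val_one]
  rw [Complex.normSq_eq_norm_sq, Complex.norm_eq_one_of_pow_eq_one hp (orderOf_pos g).ne', one_pow]

theorem card_centralizer_split (g : G) :
    (Nat.card (Subgroup.centralizer ({g} : Set G)) : ℝ) = ((commutator G).index : ℝ) +
      ∑ χ ∈ Finset.univ.filter (fun χ : IrrCharacter G => (χ : G → ℂ) 1 ≠ 1),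
        Complex.normSq ((χ : G → ℂ) g) := by
  classical
  have h := column_orthogonality g g
  rw [if_pos (IsConj.refl g)] at h
  have h2 : (Nat.card (Subgroup.centralizer ({g} : Set G)) : ℂ) =
      ((∑ χ : IrrCharacter G, Complex.normSq ((χ : G → ℂ) g) : ℝ) : ℂ) := by
    rw [← h]
    push_cast
    exact Finset.sum_congr rfl fun χ _ => Complex.mul_conj _
  rw [← Finset.sum_filter_add_sum_filter_not Finset.univ
    (fun χ : IrrCharacter G => (χ : G → ℂ) 1 = 1)] at h2
  have hcard : ((Finset.univ.filter fun χ : IrrCharacter G => (χ : G → ℂ) 1 = 1).card : ℝ) =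
      ((commutator G).index : ℝ) := by
    rw [← card_linear, Nat.card_eq_fintype_card, Fintype.card_subtype]
  rw [Finset.sum_congr rfl (fun χ hχ => normSq_linear (Finset.mem_filter.mp hχ).2 g),
    Finset.sum_const, nsmul_one, hcard] at h2
  exact_mod_cast h2

theorem card_centralizer_of_vanish {g : G}
    (hv : ∀ χ : IrrCharacter G, (χ : G → ℂ) 1 ≠ 1 → (χ : G → ℂ) g = 0) :
    Nat.card (Subgroup.centralizer ({g} : Set G)) = (commutator G).index := by
  classical
  have h := card_centralizer_split g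
  rw [Finset.sum_eq_zero fun χ hχ => by rw [hv χ (Finset.mem_filter.mp hχ).2, map_zero],
    add_zero] at h
  exact_mod_cast h

theorem vanish_of_card_centralizer {g : G}
    (hle : Nat.card (Subgroup.centralizer ({g} : Set G)) ≤ (commutator G).index)
    (χ : IrrCharacter G) (hχ : (χ : G → ℂ) 1 ≠ 1) : (χ : G → ℂ) g = 0 := by
  classical
  have h := card_centralizer_split g
  have hle' : (Nat.card (Subgroup.centralizer ({g} : Set G)) : ℝ) ≤ ((commutator G).index : ℝ) := by
    exact_mod_cast hle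
  have hsum : ∑ χ ∈ Finset.univ.filter (fun χ : IrrCharacter G => (χ : G → ℂ) 1 ≠ 1),
      Complex.normSq ((χ : G → ℂ) g) ≤ 0 := by linarith
  have h0 := le_antisymm hsum (Finset.sum_nonneg fun χ _ => Complex.normSq_nonneg _)
  exact Complex.normSq_eq_zero.mp ((Finset.sum_eq_zero_iff_of_nonneg
    (fun χ _ => Complex.normSq_nonneg _)).mp h0 χ (Finset.mem_filter.mpr ⟨Finset.mem_univ _, hχ⟩))

/-- A character vanishing on the non-identity elements of a subgroup has degree divisible by its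
order. -/
theorem card_dvd_degree (Q : Subgroup G) {χ : IrrCharacter G} {d : ℕ}
    (hd : (χ : G → ℂ) 1 = d) (hv : ∀ u ∈ Q, u ≠ 1 → (χ : G → ℂ) u = 0) : Nat.card Q ∣ d := by
  classical
  haveI := Fintype.ofFinite Q
  obtain ⟨k, hk⟩ := exists_nat_classInner (isCharacter_restrict Q (isCharacter_of_isIrr χ.2))
    (isCharacter_one (G := Q))
  rw [classInner, Finset.sum_eq_single (1 : Q)
    (fun u _ hu => by rw [hv u u.2 (by simpa using hu), zero_mul]) (by simp), map_one, mul_one,
    Subgroup.coe_one, hd, inv_mul_eq_iff_eq_mul₀ (Nat.cast_ne_zero.mpr Nat.card_pos.ne')] at hk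
  exact ⟨k, by exact_mod_cast hk⟩

/-- The first condition. -/
def Multiplicative' (G : Type*) [Group G] : Prop :=
  ∀ (x y : G) (χ : IrrCharacter G), x ≠ 1 → y ≠ 1 → (∃ p q a b : ℕ, p.Prime ∧ q.Prime ∧ p ≠ q ∧
    orderOf x = p ^ a ∧ orderOf y = q ^ b) → (χ : G → ℂ) (x * y) = (χ : G → ℂ) x * (χ : G → ℂ) y

theorem vanish_pair (h : Multiplicative' G) {x y : G} (hx : x ≠ 1) (hy : y ≠ 1) {p q a b : ℕ}
    (hp : p.Prime) (hq : q.Prime) (hpq : p ≠ q) (hox : orderOf x = p ^ a) (hoy : orderOf y = q ^ b)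
    {χ : IrrCharacter G} (hχ : (χ : G → ℂ) 1 ≠ 1) :
    (χ : G → ℂ) x * (χ : G → ℂ) y = 0 ∧ (χ : G → ℂ) (x * y) = 0 := by
  haveI := Fintype.ofFinite G
  have hcl := isClassFunction_irr χ
  have e := ClassProd.mul_degree_eq χ.2 x y ((χ : G → ℂ) x * (χ : G → ℂ) y) fun u v hu hv => by
    obtain ⟨c, rfl⟩ := isConj_iff.mp hu.symm
    obtain ⟨c', rfl⟩ := isConj_iff.mp hv.symm
    have h1 : ∀ (c z : G), z ≠ 1 → c * z * c⁻¹ ≠ 1 := fun c z hz he => hz (by simpa using he)
    rw [h _ _ χ (h1 c x hx) (h1 c' y hy) ⟨p, q, a, b, hp, hq, hpq,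
        by rw [← hox]; exact orderOf_injective (MulAut.conj c).toMonoidHom (MulEquiv.injective _) x,
        by rw [← hoy]; exact orderOf_injective (MulAut.conj c').toMonoidHom (MulEquiv.injective _) y⟩,
      eq_of_isConj hcl (isConj_iff.mpr ⟨c, rfl⟩ : IsConj x _).symm,
      eq_of_isConj hcl (isConj_iff.mpr ⟨c', rfl⟩ : IsConj y _).symm]
  have h0 : (χ : G → ℂ) x * (χ : G → ℂ) y = 0 := by
    have : ((χ : G → ℂ) 1 - 1) * ((χ : G → ℂ) x * (χ : G → ℂ) y) = 0 := by linear_combination e
    exact (mul_eq_zero.mp this).resolve_left (sub_ne_zero.mpr hχ)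
  exact ⟨h0, by rw [h x y χ hx hy ⟨p, q, a, b, hp, hq, hpq, hox, hoy⟩, h0]⟩

/-- `A` with its fixed points and commutator. -/
theorem decomposition {p : ℕ} [Fact p.Prime] {P A : Subgroup G} [P.Normal] (hP : IsPGroup p P)
    (hcop : (Nat.card A).Coprime (Nat.card P)) :
    (P ⊓ Subgroup.centralizer (A : Set G)) ⊔ ⁅A, P⁆ = P := by
  have hs : Group.IsSolvable P := by
    haveI := hP.isNilpotent
    infer_instance
  rw [sup_comm, Subgroup.commutator_comm]
  exact CfsgLib.Coprime.commutator_sup_centralizer Subgroup.le_normalizer_of_normal hcop (Or.inr hs)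

theorem commutator_normal {P A : Subgroup G} [P.Normal] (htop : A ⊔ P = ⊤) :
    (⁅A, P⁆ : Subgroup G).Normal := by
  rw [← Subgroup.normalizer_eq_top_iff, eq_top_iff, ← htop, sup_le_iff]
  exact ⟨Subgroup.normalizer_commutator_ge_left _ _, Subgroup.normalizer_commutator_ge_right _ _⟩

/-- `[G, G] ≤ D` when `D` together with an abelian subgroup is everything. -/
theorem commutator_le_of_sup {B D : Subgroup G} [D.Normal] (htop : B ⊔ D = ⊤)
    (hB : ∀ a ∈ B, ∀ b ∈ B, a * b = b * a) : commutator G ≤ D := by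
  rw [commutator_def, Subgroup.commutator_le]
  intro g _ h _
  have hsurj : ∀ g : G, ∃ b ∈ B, QuotientGroup.mk' D g = QuotientGroup.mk' D b := by
    intro g
    have hg : g ∈ B ⊔ D := htop ▸ Subgroup.mem_top g
    rw [← SetLike.mem_coe, Subgroup.mul_normal B D, Set.mem_mul] at hg
    obtain ⟨b, hb, d, hd, rfl⟩ := hg
    exact ⟨b, hb, by rw [map_mul, show QuotientGroup.mk' D d = 1 from
      (QuotientGroup.eq_one_iff d).mpr hd, mul_one]⟩
  obtain ⟨a, ha, ea⟩ := hsurj g
  obtain ⟨b, hb, eb⟩ := hsurj h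
  refine (QuotientGroup.eq_one_iff _).mp ?_
  have h1 := map_commutatorElement (QuotientGroup.mk' D) g h
  rw [ea, eb, ← map_commutatorElement, commutatorElement_eq_one_iff_commute.mpr (hB a ha b hb),
    map_one] at h1
  exact h1

theorem forward (h : Multiplicative' G) :
    (∃ p : ℕ, p.Prime ∧ IsPGroup p G) ∨ IsMulCommutative G ∨ ∃ (p : ℕ) (_ : Fact p.Prime)
      (P : Sylow p G) (A : Subgroup G), (P : Subgroup G).Normal ∧ IsCyclic ↥A ∧ A ≠ ⊥ ∧
      (Nat.card ↥A).Coprime p ∧ A ⊔ (P : Subgroup G) = ⊤ ∧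
      IsMulCommutative ↥((P : Subgroup G) ⊓ Subgroup.centralizer (A : Set G)) ∧
      (⁅A, (P : Subgroup G)⁆).Normal ∧
      ((P : Subgroup G) ⊓ Subgroup.centralizer (A : Set G)) ⊔ ⁅A, (P : Subgroup G)⁆ = (P : Subgroup G) ∧
      ((P : Subgroup G) ⊓ Subgroup.centralizer (A : Set G)) ⊓ ⁅A, (P : Subgroup G)⁆ = ⊥ ∧
      ∀ a ∈ A, a ≠ 1 → ∀ d ∈ ⁅A, (P : Subgroup G)⁆, a * d = d * a → d = 1 := by
  classical
  by_cases hab : IsMulCommutative G
  · exact Or.inr (Or.inl hab)
  by_cases hpg : ∃ p : ℕ, p.Prime ∧ IsPGroup p G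
  · exact Or.inl hpg
  refine Or.inr (Or.inr ?_)
  choose d hd hd0 hdvd using fun χ : IrrCharacter G => exists_degree_dvd_card χ.2
  -- the special prime of a non-linear character
  have hspecial : ∀ χ : IrrCharacter G, (χ : G → ℂ) 1 ≠ 1 → ∃ r : ℕ, r.Prime ∧ r ∣ Nat.card G ∧
      (∀ (q : ℕ) (y : G) (b : ℕ), q.Prime → q ≠ r → orderOf y = q ^ b → y ≠ 1 → (χ : G → ℂ) y = 0) ∧
      Nat.card G / r ^ (Nat.card G).factorization r ∣ d χ ∧
      Nat.card G / r ^ (Nat.card G).factorization r < r ^ (Nat.card G).factorization r := by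
    intro χ hχ
    have hpart : ∀ (q : ℕ), q.Prime → (∀ (y : G) (b : ℕ), orderOf y = q ^ b → y ≠ 1 →
        (χ : G → ℂ) y = 0) → q ^ (Nat.card G).factorization q ∣ d χ := by
      intro q hq hv
      haveI := Fact.mk hq
      obtain ⟨Q⟩ := (inferInstance : Nonempty (Sylow q G))
      rw [← Q.card_eq_multiplicity]
      refine card_dvd_degree _ (hd χ) fun u hu hu1 => ?_
      obtain ⟨b, hb⟩ := IsPGroup.iff_orderOf.mp Q.2 ⟨u, hu⟩
      rw [Subgroup.orderOf_mk] at hb
      exact hv u b hb hu1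
    have hsq : d χ * d χ ≤ Nat.card G := by
      have hs : ∑ ψ : IrrCharacter G, d ψ * d ψ = Nat.card G := by
        have := sum_sq_degree (G := G)
        simp only [hd, sq] at this
        exact_mod_cast this
      exact hs ▸ Finset.single_le_sum (f := fun ψ => d ψ * d ψ) (fun _ _ => Nat.zero_le _)
        (Finset.mem_univ χ)
    obtain ⟨r, x, a, hr, hx, hx1, hxv⟩ : ∃ (r : ℕ) (x : G) (a : ℕ), r.Prime ∧ orderOf x = r ^ a ∧
        x ≠ 1 ∧ (χ : G → ℂ) x ≠ 0 := by
      by_contra hno
      push_neg at hno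
      have hdvdG : Nat.card G ∣ d χ := by
        rw [← Nat.factorization_le_iff_dvd Nat.card_pos.ne' (hd0 χ).ne']
        intro q
        by_cases hq : q.Prime
        · exact (hq.pow_dvd_iff_le_factorization (hd0 χ).ne').mp
            (hpart q hq fun y b hy hy1 => hno q y b hq hy hy1)
        · simp [Nat.factorization_eq_zero_of_not_prime _ hq]
      have h1 := Nat.le_of_dvd (hd0 χ) hdvdG
      have h2 : d χ ≠ 1 := fun e => hχ (by rw [hd χ, e, Nat.cast_one])
      have h4 : 2 ≤ d χ := by have := hd0 χ; omega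
      nlinarith [hsq, h1]
    have hv : ∀ (q : ℕ) (y : G) (b : ℕ), q.Prime → q ≠ r → orderOf y = q ^ b → y ≠ 1 →
        (χ : G → ℂ) y = 0 := fun q y b hq hqr hy hy1 =>
      (mul_eq_zero.mp (vanish_pair h hx1 hy1 hr hq hqr.symm hx hy hχ).1).resolve_left hxv
    have hrG : r ∣ Nat.card G := by
      refine dvd_trans ?_ (orderOf_dvd_natCard x)
      rw [hx]
      exact dvd_pow_self r fun h0 => hx1 (orderOf_eq_one_iff.mp (by rw [hx, h0, pow_zero]))
    have hm : Nat.card G / r ^ (Nat.card G).factorization r ∣ d χ := by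
      rw [← Nat.factorization_le_iff_dvd (Nat.ordCompl_pos r Nat.card_pos.ne').ne' (hd0 χ).ne',
        Nat.factorization_ordCompl]
      intro q
      by_cases hqr : q = r
      · simp [hqr]
      · rw [Finsupp.erase_ne hqr]
        by_cases hq : q.Prime
        · exact (hq.pow_dvd_iff_le_factorization (hd0 χ).ne').mp
            (hpart q hq fun y b hy hy1 => hv q y b hq hqr hy hy1)
        · simp [Nat.factorization_eq_zero_of_not_prime _ hq]
    refine ⟨r, hr, hrG, hv, hm, ?_⟩
    have hmd := Nat.le_of_dvd (hd0 χ) hm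
    have hprod := Nat.ordProj_mul_ordCompl_eq_self (Nat.card G) r
    set m := Nat.card G / r ^ (Nat.card G).factorization r
    set N := r ^ (Nat.card G).factorization r
    -- the inequality is strict as the principal character also counts
    have hlt : d χ * d χ < Nat.card G := by
      have hs : ∑ ψ : IrrCharacter G, d ψ * d ψ = Nat.card G := by
        have := sum_sq_degree (G := G)
        simp only [hd, sq] at this
        exact_mod_cast this
      let one : IrrCharacter G := ⟨fun _ => 1, isIrrCharacter_one⟩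
      have hne : χ ≠ one := fun e => hχ (by rw [e])
      rw [← hs, ← Finset.add_sum_erase _ _ (Finset.mem_univ χ)]
      refine Nat.lt_add_of_pos_right (lt_of_lt_of_le (Nat.mul_pos (hd0 one) (hd0 one))
        (Finset.single_le_sum (f := fun ψ => d ψ * d ψ) (fun _ _ => Nat.zero_le _)
          (Finset.mem_erase.mpr ⟨hne.symm, Finset.mem_univ _⟩)))
    have h3 : m * m < N * m := lt_of_le_of_lt (Nat.mul_le_mul hmd hmd) (hprod.symm ▸ hlt)
    exact lt_of_mul_lt_mul_right h3 (Nat.zero_le m)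
  -- a non-linear character exists
  obtain ⟨χ₀, hχ₀⟩ : ∃ χ : IrrCharacter G, (χ : G → ℂ) 1 ≠ 1 := by
    by_contra hall
    push_neg at hall
    refine hab ⟨⟨fun a b => ?_⟩⟩
    have hc : IsConj (a * b) (b * a) := isConj_iff.mpr ⟨a⁻¹, by group⟩
    have hcomm : ∀ g : G, Nat.card (Subgroup.centralizer ({g} : Set G)) = Nat.card G := fun g => by
      have h1 := card_centralizer_of_vanish (g := g) fun χ hχ => absurd (hall χ) hχ
      have h2 := card_centralizer_of_vanish (g := (1 : G)) fun χ hχ => absurd (hall χ) hχ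
      rw [h1, ← h2, Subgroup.centralizer_eq_top_iff_subset.mpr (by simp), Subgroup.card_top]
    have := Subgroup.eq_top_of_card_eq _ (hcomm a) ▸ Subgroup.mem_top b
    exact (Subgroup.mem_centralizer_singleton_iff.mp this).symm
  obtain ⟨p, hp, hpG, -, -, hplt⟩ := hspecial χ₀ hχ₀
  haveI := Fact.mk hp
  have huniq : ∀ χ : IrrCharacter G, (χ : G → ℂ) 1 ≠ 1 →
      (∀ (q : ℕ) (y : G) (b : ℕ), q.Prime → q ≠ p → orderOf y = q ^ b → y ≠ 1 → (χ : G → ℂ) y = 0) ∧
      Nat.card G / p ^ (Nat.card G).factorization p ∣ d χ := by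
    intro χ hχ
    obtain ⟨r, hr, -, hv, hm, hrlt⟩ := hspecial χ hχ
    suffices r = p by subst this; exact ⟨hv, hm⟩
    by_contra hne
    have h1 : p ^ (Nat.card G).factorization p ∣ Nat.card G / r ^ (Nat.card G).factorization r := by
      refine Nat.Coprime.dvd_of_dvd_mul_left (m := r ^ (Nat.card G).factorization r)
        (((Nat.coprime_primes hp hr).mpr (Ne.symm hne)).pow _ _) ?_
      rw [Nat.ordProj_mul_ordCompl_eq_self]
      exact Nat.ordProj_dvd _ _
    have h2 : r ^ (Nat.card G).factorization r ∣ Nat.card G / p ^ (Nat.card G).factorization p := by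
      refine Nat.Coprime.dvd_of_dvd_mul_left (m := p ^ (Nat.card G).factorization p)
        (((Nat.coprime_primes hr hp).mpr hne).pow _ _) ?_
      rw [Nat.ordProj_mul_ordCompl_eq_self]
      exact Nat.ordProj_dvd _ _
    have := Nat.le_of_dvd (Nat.ordCompl_pos r Nat.card_pos.ne') h1
    have := Nat.le_of_dvd (Nat.ordCompl_pos p Nat.card_pos.ne') h2
    omega
  set m := Nat.card G / p ^ (Nat.card G).factorization p with hm
  obtain ⟨P⟩ := (inferInstance : Nonempty (Sylow p G))
  have hPc : Nat.card (P : Subgroup G) = p ^ (Nat.card G).factorization p := P.card_eq_multiplicity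
  have hGm : Nat.card G = Nat.card (P : Subgroup G) * m := by
    rw [hPc, hm, Nat.ordProj_mul_ordCompl_eq_self]
  -- the commutator subgroup is a p-group
  have hma : m ∣ (commutator G).index := by
    have hs : ∑ ψ : IrrCharacter G, d ψ * d ψ = Nat.card G := by
      have := sum_sq_degree (G := G)
      simp only [hd, sq] at this
      exact_mod_cast this
    rw [← Finset.sum_filter_add_sum_filter_not Finset.univ
      (fun χ : IrrCharacter G => (χ : G → ℂ) 1 = 1)] at hs
    have hone : ∀ χ : IrrCharacter G, (χ : G → ℂ) 1 = 1 → d χ = 1 := fun χ hχ =>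
      Nat.cast_injective (R := ℂ) (by rw [← hd χ, hχ, Nat.cast_one])
    rw [Finset.sum_congr rfl (fun χ hχ => by rw [hone χ (Finset.mem_filter.mp hχ).2, mul_one]),
      Finset.sum_const, smul_eq_mul, mul_one] at hs
    rw [show (Finset.univ.filter fun χ : IrrCharacter G => (χ : G → ℂ) 1 = 1).card =
      (commutator G).index by rw [← card_linear, Nat.card_eq_fintype_card, Fintype.card_subtype]] at hs
    refine (Nat.dvd_add_left (Finset.dvd_sum fun χ hχ => ?_)).mp (hs ▸ Dvd.intro_left _ hGm.symm)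
    exact dvd_mul_of_dvd_left (huniq χ (Finset.mem_filter.mp hχ).2).2 _
  have hG'p : IsPGroup p (commutator G) := by
    have h1 : Nat.card (commutator G) ∣ Nat.card (P : Subgroup G) := by
      obtain ⟨k, hk⟩ := hma
      refine ⟨k, Nat.eq_of_mul_eq_mul_right (Nat.ordCompl_pos (n := Nat.card G) p Nat.card_pos.ne') ?_⟩
      rw [← hm, ← hGm, ← (commutator G).card_mul_index, hk]
      ring
    rw [hPc] at h1
    obtain ⟨k, -, hk⟩ := (Nat.dvd_prime_pow hp).mp h1
    exact IsPGroup.of_card hk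
  have hG'P : commutator G ≤ (P : Subgroup G) := hG'p.le_sylow_of_normal P
  haveI hPn : (P : Subgroup G).Normal := Subgroup.Normal.of_commutator_le G hG'P
  have hPcop : (Nat.card (P : Subgroup G)).Coprime (P : Subgroup G).index := P.card_coprime_index
  obtain ⟨A, hA⟩ := Subgroup.exists_right_complement'_of_coprime hPcop
  have hAc : Nat.card A = m := by
    have h1 := hA.card_mul
    rw [hGm] at h1
    exact Nat.eq_of_mul_eq_mul_left Nat.card_pos h1
  have hAp : (Nat.card A).Coprime p := by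
    rw [hAc, hm]; exact (Nat.coprime_ordCompl hp Nat.card_pos.ne').symm
  have hAP : (Nat.card A).Coprime (Nat.card (P : Subgroup G)) := by rw [hPc]; exact hAp.pow_right _
  have htop : A ⊔ (P : Subgroup G) = ⊤ := by rw [sup_comm]; exact hA.sup_eq_top
  have hA1 : A ≠ ⊥ := by
    intro hb
    rw [hb, Subgroup.card_bot] at hAc
    refine hpg ⟨p, hp, IsPGroup.of_card (n := (Nat.card G).factorization p) ?_⟩
    rw [← hPc, hGm, ← hAc, mul_one]
  have hAab : ∀ a ∈ A, ∀ b ∈ A, a * b = b * a := fun a ha b hb => by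
    have h1 : ⁅a, b⁆ ∈ (P : Subgroup G) ⊓ A := ⟨hG'P (Subgroup.commutator_mem_commutator
        (Subgroup.mem_top a) (Subgroup.mem_top b)),
      (show ⁅a, b⁆ ∈ A from mul_mem (mul_mem (mul_mem ha hb) (inv_mem ha)) (inv_mem hb))⟩
    rw [hA.disjoint.eq_bot, Subgroup.mem_bot] at h1
    exact commutatorElement_eq_one_iff_mul_comm.mp h1
  set C := (P : Subgroup G) ⊓ Subgroup.centralizer (A : Set G) with hC
  set D : Subgroup G := ⁅A, (P : Subgroup G)⁆ with hD
  haveI hDn : D.Normal := commutator_normal htop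
  have hCD : C ⊔ D = (P : Subgroup G) := decomposition P.2 hAP
  have hDle : D ≤ commutator G := Subgroup.commutator_mono le_top le_top
  have hDP : D ≤ (P : Subgroup G) := hDle.trans hG'P
  have hACn : C ≤ Subgroup.normalizer (A : Set G) := inf_le_right.trans (Subgroup.centralizer_le_normalizer _)
  have hdisj : A ⊓ C = ⊥ := le_bot_iff.mp (by
    rw [← hA.disjoint.eq_bot, inf_comm A]; exact inf_le_inf_right _ inf_le_left)
  have hACc : Nat.card ↥(A ⊔ C) = Nat.card A * Nat.card C := by
    have := CfsgLib.Coprime.card_sup_mul_card_inf (K := A) (S := C) hACn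
    rw [hdisj, Subgroup.card_bot, mul_one] at this
    exact this
  -- centralisers of p'-elements of prime power order in A
  have hax : ∀ x ∈ A, x ≠ 1 → ∀ (q b : ℕ), q.Prime → orderOf x = q ^ b →
      Nat.card (Subgroup.centralizer ({x} : Set G)) = (commutator G).index ∧ q ≠ p := by
    intro x hx hx1 q b hq hox
    have hqp : q ≠ p := by
      rintro rfl
      have h1 : q ∣ Nat.card A := by
        refine dvd_trans ?_ (hox ▸ Subgroup.orderOf_dvd_natCard A hx)
        exact dvd_pow_self q fun h0 => hx1 (orderOf_eq_one_iff.mp (by rw [hox, h0, pow_zero]))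
      exact hp.ne_one (Nat.dvd_one.mp (hAp ▸ Nat.dvd_gcd h1 dvd_rfl))
    exact ⟨card_centralizer_of_vanish fun χ hχ => (huniq χ hχ).1 q x b hq hqp hox hx1, hqp⟩
  obtain ⟨x₀, hx₀, q₀, hq₀, hox₀⟩ : ∃ x ∈ A, ∃ q : ℕ, q.Prime ∧ orderOf x = q := by
    have hne : Nat.card A ≠ 1 := fun e => hA1 (Subgroup.card_eq_one.mp e)
    obtain ⟨q, hq, hqd⟩ := Nat.exists_prime_and_dvd hne
    haveI := Fact.mk hq
    obtain ⟨x, hx⟩ := exists_prime_orderOf_dvd_card' (G := A) q hqd
    exact ⟨x, x.2, q, hq, by rw [Subgroup.orderOf_coe, hx]⟩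
  have hx₀1 : x₀ ≠ 1 := fun e => hq₀.ne_one (by rw [← hox₀, e, orderOf_one])
  have hle : ∀ x ∈ A, A ⊔ C ≤ Subgroup.centralizer ({x} : Set G) := by
    intro x hx
    refine sup_le (fun a ha => Subgroup.mem_centralizer_singleton_iff.mpr (hAab a ha x hx)) ?_
    exact fun c hc => Subgroup.mem_centralizer_singleton_iff.mpr
      (Subgroup.mem_centralizer_iff.mp hc.2 x hx).symm
  have hup : (commutator G).index * Nat.card ↥(C ⊓ D) ≤ Nat.card A * Nat.card C := by
    have h1 : Nat.card ↥(C ⊔ D) * Nat.card ↥(C ⊓ D) = Nat.card C * Nat.card D := by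
      have := CfsgLib.Coprime.card_sup_mul_card_inf (K := D) (S := C) Subgroup.le_normalizer_of_normal
      rw [sup_comm, inf_comm, mul_comm (Nat.card C)]
      exact this
    rw [hCD] at h1
    have h2 : (commutator G).index ≤ D.index :=
      Nat.le_of_dvd (Nat.pos_of_ne_zero Subgroup.index_ne_zero_of_finite) (Subgroup.index_dvd_of_le hDle)
    refine (Nat.mul_le_mul_right _ h2).trans (le_of_eq ?_)
    refine Nat.eq_of_mul_eq_mul_left (Nat.card_pos (α := D)) ?_
    rw [← mul_assoc, D.card_mul_index, hGm, hAc, mul_right_comm, h1]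
    ring
  obtain ⟨hcx₀, -⟩ := hax x₀ hx₀ hx₀1 q₀ 1 hq₀ (by rw [hox₀, pow_one])
  have hlow := Subgroup.card_le_of_le (hle x₀ hx₀)
  rw [hcx₀, hACc] at hlow
  have hCD1 : Nat.card ↥(C ⊓ D) = 1 := by
    have hpos := Nat.card_pos (α := ↥(C ⊓ D))
    have hpos2 : 0 < (commutator G).index := Nat.pos_of_ne_zero Subgroup.index_ne_zero_of_finite
    by_contra hne
    have : 2 ≤ Nat.card ↥(C ⊓ D) := by omega
    nlinarith
  have ha : (commutator G).index = Nat.card A * Nat.card C := by
    rw [hCD1, mul_one] at hup; omega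
  have hcent : ∀ x ∈ A, x ≠ 1 → ∀ (q b : ℕ), q.Prime → orderOf x = q ^ b →
      Subgroup.centralizer ({x} : Set G) = A ⊔ C := by
    intro x hx hx1 q b hq hox
    refine (Subgroup.eq_of_le_of_card_ge (hle x hx) ?_).symm
    rw [(hax x hx hx1 q b hq hox).1, ha, hACc]
  have hCab : ∀ y ∈ C, ∀ z ∈ C, y * z = z * y := by
    intro y hy z hz
    rcases eq_or_ne y 1 with rfl | hy1
    · simp
    obtain ⟨b, hb⟩ := IsPGroup.iff_orderOf.mp P.2 ⟨y, hy.1⟩
    rw [Subgroup.orderOf_mk] at hb
    obtain ⟨-, hq₀p⟩ := hax x₀ hx₀ hx₀1 q₀ 1 hq₀ (by rw [hox₀, pow_one])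
    have hcxy : Nat.card (Subgroup.centralizer ({x₀ * y} : Set G)) = (commutator G).index :=
      card_centralizer_of_vanish fun χ hχ =>
        (vanish_pair h hx₀1 hy1 hq₀ hp hq₀p (a := 1) (by rw [hox₀, pow_one]) hb hχ).2
    have hcomm : Commute x₀ y := Subgroup.mem_centralizer_iff.mp hy.2 x₀ hx₀
    have hle2 : Subgroup.centralizer ({x₀ * y} : Set G) ≤
        Subgroup.centralizer ({x₀} : Set G) ⊓ Subgroup.centralizer ({y} : Set G) := by
      intro g hg
      have hg' : Commute g (x₀ * y) := Subgroup.mem_centralizer_singleton_iff.mp hg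
      obtain ⟨k, hk1, hk2⟩ := Nat.chineseRemainder
        (show q₀.Coprime (p ^ b) from ((Nat.coprime_primes hq₀ hp).mpr hq₀p).pow_right b) 1 0
      have e1 : (x₀ * y) ^ k = x₀ := by
        rw [hcomm.mul_pow, pow_eq_pow_iff_modEq.mpr (hox₀ ▸ hk1 : k ≡ 1 [MOD orderOf x₀]), pow_one,
          pow_eq_pow_iff_modEq.mpr (hb ▸ hk2 : k ≡ 0 [MOD orderOf y]), pow_zero, mul_one]
      have hgx : Commute g x₀ := e1 ▸ hg'.pow_right k
      refine ⟨Subgroup.mem_centralizer_singleton_iff.mpr hgx.eq,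
        Subgroup.mem_centralizer_singleton_iff.mpr ?_⟩
      have := hgx.inv_right.mul_right hg'
      rwa [inv_mul_cancel_left] at this
    have h1 := Subgroup.card_le_of_le hle2
    rw [hcxy] at h1
    have h3 : Subgroup.centralizer ({x₀} : Set G) ⊓ Subgroup.centralizer ({y} : Set G) =
        Subgroup.centralizer ({x₀} : Set G) :=
      Subgroup.eq_of_le_of_card_ge inf_le_left (by rw [hcx₀]; exact h1)
    have h4 : z ∈ Subgroup.centralizer ({y} : Set G) :=
      (inf_eq_left.mp h3) (hle x₀ hx₀ (Subgroup.mem_sup_right hz))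
    exact (Subgroup.mem_centralizer_singleton_iff.mp h4).symm
  have hfpf : ∀ a ∈ A, a ≠ 1 → ∀ v ∈ D, a * v = v * a → v = 1 := by
    intro a haA ha1 v hv hav
    obtain ⟨q, hq, hqd⟩ := Nat.exists_prime_and_dvd
      (show orderOf a ≠ 1 from fun e => ha1 (orderOf_eq_one_iff.mp e))
    set x := a ^ (orderOf a / q) with hx
    have hox : orderOf x = q := orderOf_pow_orderOf_div (orderOf_pos a).ne' hqd
    have hx1 : x ≠ 1 := fun e => hq.ne_one (by rw [← hox, e, orderOf_one])
    have hvc : v ∈ A ⊔ C := by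
      rw [← hcent x (pow_mem haA _) hx1 q 1 hq (by rw [hox, pow_one])]
      exact Subgroup.mem_centralizer_singleton_iff.mpr ((show Commute v a from hav.symm).pow_right _).eq
    have hCn : A ≤ Subgroup.normalizer (C : Set G) := fun a ha => Subgroup.mem_normalizer_iff.mpr
      fun z => by
        constructor <;> intro hz
        · have := Subgroup.mem_centralizer_iff.mp hz.2 a ha
          rwa [this, mul_inv_cancel_right]
        · have := Subgroup.mem_centralizer_iff.mp hz.2 a ha
          have e : a * z * a⁻¹ = z := by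
            have e2 : a * (a * z * a⁻¹) = (a * z * a⁻¹) * a := this
            have : a * (a * z * a⁻¹) = a * z := by rw [e2, inv_mul_cancel_right]
            exact mul_left_cancel this
          rwa [e] at hz
    rw [← SetLike.mem_coe, Subgroup.coe_mul_of_left_le_normalizer_right A C hCn, Set.mem_mul] at hvc
    obtain ⟨a', ha', c, hc, he⟩ := hvc
    have ha'P : a' ∈ (P : Subgroup G) ⊓ A := ⟨by
      rw [show a' = v * c⁻¹ by rw [← he, mul_inv_cancel_right]]
      exact (P : Subgroup G).mul_mem (hDP hv) ((P : Subgroup G).inv_mem (show c ∈ C from hc).1), ha'⟩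
    rw [hA.disjoint.eq_bot, Subgroup.mem_bot] at ha'P
    have : v ∈ C ⊓ D := ⟨by rw [← he, ha'P, one_mul]; exact hc, hv⟩
    rw [Subgroup.card_eq_one.mp hCD1, Subgroup.mem_bot] at this
    exact this
  haveI : IsMulCommutative ↥A := ⟨⟨fun a b => Subtype.ext (hAab a a.2 b b.2)⟩⟩
  have hcyc : IsCyclic ↥A := by
    by_contra hcy
    have hD1 : D ≤ ⊥ := CfsgLib.Coprime.le_of_centralizer_le hcy Subgroup.le_normalizer_of_normal
      (hAP.coprime_dvd_right (Subgroup.card_dvd_of_le hDP)) fun g hg hg1 v hv =>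
      Subgroup.mem_bot.mpr (hfpf g hg hg1 v hv.1
        (Subgroup.mem_centralizer_singleton_iff.mp hv.2).symm)
    refine hab ⟨⟨fun u w => ?_⟩⟩
    have hB : ∀ a ∈ A ⊔ C, ∀ b ∈ A ⊔ C, a * b = b * a := by
      have h1 : A ⊔ C = Subgroup.closure ((A : Set G) ∪ (C : Set G)) := by
        rw [Subgroup.closure_union, Subgroup.closure_eq, Subgroup.closure_eq]
      rw [h1]
      intro a ha b hb
      refine Subgroup.mem_centralizer_iff.mp
        ((Subgroup.closure_le _).mpr (fun z hz => ?_) hb) a ha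
      rw [SetLike.mem_coe, Subgroup.centralizer_closure, Subgroup.mem_centralizer_iff]
      rintro w (hw | hw) <;> rcases hz with hz | hz
      · exact hAab w hw z hz
      · exact Subgroup.mem_centralizer_iff.mp hz.2 w hw
      · exact (Subgroup.mem_centralizer_iff.mp hw.2 z hz).symm
      · exact hCab w hw z hz
    have h2 : commutator G ≤ D := commutator_le_of_sup (B := A ⊔ C)
      (by rw [sup_assoc, hCD, htop]) hB
    exact commutatorElement_eq_one_iff_mul_comm.mp (Subgroup.mem_bot.mp (hD1 (h2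
      (Subgroup.commutator_mem_commutator (Subgroup.mem_top u) (Subgroup.mem_top w)))))
  exact ⟨p, inferInstance, P, A, hPn, hcyc, hA1, hAp, htop,
    ⟨⟨fun y z => Subtype.ext (hCab y y.2 z z.2)⟩⟩, hDn, hCD, Subgroup.card_eq_one.mp hCD1, hfpf⟩

theorem backward {p : ℕ} [Fact p.Prime] (P : Sylow p G) (A : Subgroup G)
    (hPn : (P : Subgroup G).Normal) (hcyc : IsCyclic ↥A) (hAp : (Nat.card ↥A).Coprime p)
    (htop : A ⊔ (P : Subgroup G) = ⊤)
    (hCab : IsMulCommutative ↥((P : Subgroup G) ⊓ Subgroup.centralizer (A : Set G)))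
    (hDn : (⁅A, (P : Subgroup G)⁆).Normal)
    (hCD : ((P : Subgroup G) ⊓ Subgroup.centralizer (A : Set G)) ⊔ ⁅A, (P : Subgroup G)⁆ = (P : Subgroup G))
    (hfpf : ∀ a ∈ A, a ≠ 1 → ∀ d ∈ ⁅A, (P : Subgroup G)⁆, a * d = d * a → d = 1)
    {g : G} (hg : g ∉ (P : Subgroup G)) (χ : IrrCharacter G) (hχ : (χ : G → ℂ) 1 ≠ 1) :
    (χ : G → ℂ) g = 0 := by
  haveI := hPn
  haveI := hDn
  set C := (P : Subgroup G) ⊓ Subgroup.centralizer (A : Set G) with hC
  set D : Subgroup G := ⁅A, (P : Subgroup G)⁆ with hD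
  obtain ⟨k, hk⟩ := P.2.exists_card_eq
  have hAP : (Nat.card A).Coprime (Nat.card (P : Subgroup G)) := by rw [hk]; exact hAp.pow_right k
  have hB : ∀ a ∈ A ⊔ C, ∀ b ∈ A ⊔ C, a * b = b * a := by
    have h1 : A ⊔ C = Subgroup.closure ((A : Set G) ∪ (C : Set G)) := by
      rw [Subgroup.closure_union, Subgroup.closure_eq, Subgroup.closure_eq]
    rw [h1]
    intro a ha b hb
    refine Subgroup.mem_centralizer_iff.mp ((Subgroup.closure_le _).mpr (fun z hz => ?_) hb) a ha
    rw [SetLike.mem_coe, Subgroup.centralizer_closure, Subgroup.mem_centralizer_iff]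
    rintro w (hw | hw) <;> rcases hz with hz | hz
    · exact congrArg Subtype.val (mul_comm' (⟨w, hw⟩ : A) ⟨z, hz⟩)
    · exact Subgroup.mem_centralizer_iff.mp hz.2 w hw
    · exact (Subgroup.mem_centralizer_iff.mp hw.2 z hz).symm
    · exact congrArg Subtype.val (hCab.is_comm.comm (⟨w, hw⟩ : C) ⟨z, hz⟩)
  have hG'D : commutator G = D := le_antisymm
    (commutator_le_of_sup (B := A ⊔ C) (by rw [sup_assoc, hCD, htop]) hB)
    (Subgroup.commutator_mono le_top le_top)
  refine vanish_of_card_centralizer ?_ χ hχ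
  rw [hG'D]
  set h := g ^ Nat.card (P : Subgroup G) with hh
  have hPA : A ⊓ (P : Subgroup G) = ⊥ := CfsgLib.Coprime.inf_eq_bot_of_coprime_card hAP
  have hidx : (P : Subgroup G).index = Nat.card A := by
    have h1 := CfsgLib.Coprime.card_sup_of_coprime (N := (P : Subgroup G)) (H := A)
      Subgroup.le_normalizer_of_normal hAP.symm
    rw [sup_comm, htop, Subgroup.card_top, ← (P : Subgroup G).card_mul_index] at h1
    exact Nat.eq_of_mul_eq_mul_left Nat.card_pos h1
  have hgA : g ^ Nat.card A ∈ (P : Subgroup G) := hidx ▸ Subgroup.pow_index_mem _ g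
  have hhA : h ^ Nat.card A = 1 := by
    rw [hh, ← pow_mul, mul_comm, pow_mul]
    exact congrArg Subtype.val (pow_card_eq_one' (x := (⟨g ^ Nat.card A, hgA⟩ : (P : Subgroup G))))
  have hh1 : h ≠ 1 := by
    intro e
    refine hg ?_
    obtain ⟨i, hi⟩ := exists_pow_eq_self_of_coprime (x := g) (n := Nat.card A)
      (hAP.coprime_dvd_right (orderOf_dvd_of_pow_eq_one e))
    rw [← hi]; exact pow_mem hgA i
  -- conjugate `h` into `A`
  set X := (P : Subgroup G) ⊔ Subgroup.zpowers h with hX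
  have hA'X : (P : Subgroup G) ⊔ (A ⊓ X) = X := by
    refine le_antisymm (sup_le le_sup_left inf_le_right) fun x hx => ?_
    have hxG : x ∈ A ⊔ (P : Subgroup G) := htop ▸ Subgroup.mem_top x
    rw [← SetLike.mem_coe, Subgroup.mul_normal, Set.mem_mul] at hxG
    obtain ⟨a, ha, u, hu, rfl⟩ := hxG
    refine mul_mem (Subgroup.mem_sup_right ⟨ha, ?_⟩) (Subgroup.mem_sup_left hu)
    have := mul_mem hx (inv_mem (le_sup_left (b := Subgroup.zpowers h) hu))
    rwa [mul_inv_cancel_right] at this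
  have hPs : Group.IsSolvable (P : Subgroup G) := by
    haveI := P.2.isNilpotent
    infer_instance
  obtain ⟨x, hxP, hxe⟩ := CfsgLib.Coprime.exists_conj_of_coprime (N := (P : Subgroup G))
    (H := A ⊓ X) (K := Subgroup.zpowers h) Subgroup.le_normalizer_of_normal
    (hAP.symm.coprime_dvd_right (Subgroup.card_dvd_of_le inf_le_left))
    (hAP.symm.coprime_dvd_right (by rw [Nat.card_zpowers]; exact orderOf_dvd_of_pow_eq_one hhA))
    hA'X (Or.inl hPs)
  have hha : x⁻¹ * h * x ∈ A := by
    have h2 : h ∈ MulAut.conj x • (A ⊓ X) := hxe ▸ Subgroup.mem_zpowers h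
    exact (CfsgLib.Coprime.mem_conj_smul_iff.mp h2).1
  have hha1 : x⁻¹ * h * x ≠ 1 := fun e => hh1 (by
    have := congrArg (fun z => x * z * x⁻¹) e
    simpa [mul_assoc] using this)
  have hCh : ∀ v ∈ D, v * h = h * v → v = 1 := by
    intro v hv hvh
    have hv' : x⁻¹ * v * x ∈ D := by simpa using hDn.conj_mem v hv x⁻¹
    have := hfpf _ hha hha1 _ hv' (by
      calc x⁻¹ * h * x * (x⁻¹ * v * x) = x⁻¹ * (h * v) * x := by group
        _ = x⁻¹ * (v * h) * x := by rw [hvh]
        _ = x⁻¹ * v * x * (x⁻¹ * h * x) := by group)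
    simpa [mul_assoc] using congrArg (fun z => x * z * x⁻¹) this
  rw [Subgroup.index_eq_card]
  refine Nat.card_le_card_of_injective (fun c : Subgroup.centralizer ({g} : Set G) => ((c : G) : G ⧸ D))
    fun c c' he => ?_
  have hm := QuotientGroup.eq.mp he
  have hc : ∀ c : Subgroup.centralizer ({g} : Set G), Commute (c : G) h := fun c =>
    (show Commute (c : G) g from Subgroup.mem_centralizer_singleton_iff.mp c.2).pow_right _
  have := hCh _ hm ((hc c).inv_left.mul_left (hc c')).eq
  exact Subtype.ext (inv_mul_eq_one.mp this)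


/-- For a finite group G the following are equivalent. (1) χ(x y) = χ(x) χ(y) for every irreducible character χ and all non-identity elements x, y of prime power orders for two different primes. (2) G is a p-group for some prime p, or G is abelian, or for some prime p: G = A P with P a normal Sylow p-subgroup and A a nontrivial cyclic subgroup of order prime to p such that, with C = C_P(A) and D = [A, P], one has P = C D, C abelian, D normal in G, C ∩ D = 1, and A acts fixed-point-freely on D (no non-identity element of A centralizes a non-identity element of D). -/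
theorem result {G : Type*} [Group G] [Finite G] : (∀ (x y : G) (χ : Cfsg.IrrCharacter G), x ≠ 1 → y ≠ 1 → (∃ p q a b : ℕ, p.Prime ∧ q.Prime ∧ p ≠ q ∧ orderOf x = p ^ a ∧ orderOf y = q ^ b) → (χ : G → ℂ) (x * y) = (χ : G → ℂ) x * (χ : G → ℂ) y) ↔ ((∃ p : ℕ, p.Prime ∧ IsPGroup p G) ∨ IsMulCommutative G ∨ ∃ (p : ℕ) (_ : Fact p.Prime) (P : Sylow p G) (A : Subgroup G), (P : Subgroup G).Normal ∧ IsCyclic ↥A ∧ A ≠ ⊥ ∧ (Nat.card ↥A).Coprime p ∧ A ⊔ (P : Subgroup G) = ⊤ ∧ IsMulCommutative ↥((P : Subgroup G) ⊓ Subgroup.centralizer (A : Set G)) ∧ (⁅A, (P : Subgroup G)⁆).Normal ∧ ((P : Subgroup G) ⊓ Subgroup.centralizer (A : Set G)) ⊔ ⁅A, (P : Subgroup G)⁆ = (P : Subgroup G) ∧ ((P : Subgroup G) ⊓ Subgroup.centralizer (A : Set G)) ⊓ ⁅A, (P : Subgroup G)⁆ = ⊥ ∧ ∀ a ∈ A, a ≠ 1 → ∀ d ∈ ⁅A, (P : Subgroup G)⁆, a * d = d * a → d = 1) := by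
  constructor
  · exact forward
  · intro h x y χ hx hy ⟨p, q, a, b, hp, hq, hpq, hox, hoy⟩
    by_cases h1 : (χ : G → ℂ) 1 = 1
    · exact linear_mul (isCharacter_of_isIrr χ.2) h1 x y
    rcases h with ⟨r, hr, hG⟩ | hab | ⟨r, hrf, P, A, hPn, hcyc, -, hAp, htop, hCab, hDn, hCD, -, hfpf⟩
    · exfalso
      have hr' : ∀ (z : G) (s e : ℕ), s.Prime → orderOf z = s ^ e → z ≠ 1 → s = r := by
        intro z s e hs hz hz1
        obtain ⟨k, hk⟩ := (@IsPGroup.iff_orderOf r G _ ⟨hr⟩).mp hG z
        have he : e ≠ 0 := fun h0 => hz1 (orderOf_eq_one_iff.mp (by rw [hz, h0, pow_zero]))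
        exact (Nat.prime_dvd_prime_iff_eq hs hr).mp
          (hs.dvd_of_dvd_pow (hk ▸ hz ▸ dvd_pow_self s he))
      exact hpq ((hr' x p a hp hox hx).trans (hr' y q b hq hoy hy).symm)
    · exfalso
      refine h1 ?_
      haveI := Fintype.ofFinite G
      exact degree_one_of_comm (fun u v => mul_comm' u v) χ
    · haveI := hrf
      have key : ∀ {g : G}, g ∉ (P : Subgroup G) → (χ : G → ℂ) g = 0 := fun hg =>
        backward P A hPn hcyc hAp htop hCab hDn hCD hfpf hg χ h1
      have hmem : ∀ (z : G) (s e : ℕ), s.Prime → s ≠ r → orderOf z = s ^ e → z ≠ 1 →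
          z ∉ (P : Subgroup G) := by
        intro z s e hs hsr hz hz1 hzP
        obtain ⟨k, hk⟩ := IsPGroup.iff_orderOf.mp P.2 ⟨z, hzP⟩
        rw [Subgroup.orderOf_mk, hz] at hk
        have he : e ≠ 0 := fun h0 => hz1 (orderOf_eq_one_iff.mp (by rw [hz, h0, pow_zero]))
        exact hsr ((Nat.prime_dvd_prime_iff_eq hs hrf.out).mp
          (hs.dvd_of_dvd_pow (hk ▸ dvd_pow_self s he)))
      haveI := hPn
      by_cases hpr : p = r
      · have hy' := hmem y q b hq (fun e => hpq (hpr.trans e.symm)) hoy hy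
        rw [key hy', mul_zero]
        refine key fun hxy => hy' ?_
        obtain ⟨k, hk⟩ := IsPGroup.iff_orderOf.mp P.2 ⟨_, hxy⟩
        have hzp : IsPGroup r (Subgroup.zpowers x) :=
          IsPGroup.of_card (n := a) (by rw [Nat.card_zpowers, hox, hpr])
        obtain ⟨Q, hQ⟩ := IsPGroup.exists_le_sylow hzp
        haveI := (Sylow.unique_of_normal P hPn)
        have hxP : x ∈ (P : Subgroup G) := Subsingleton.elim Q P ▸ hQ (Subgroup.mem_zpowers x)
        exact (Subgroup.mul_mem_cancel_left _ hxP).mp hxy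
      · have hx' := hmem x p a hp hpr hox hx
        rw [key hx', zero_mul]
        refine key fun hxy => hx' ?_
        -- the image of `x` is the inverse of the image of `y`
        have e : QuotientGroup.mk' (P : Subgroup G) x = (QuotientGroup.mk' (P : Subgroup G) y)⁻¹ := by
          rw [← mul_eq_one_iff_eq_inv, ← map_mul]
          exact (QuotientGroup.eq_one_iff _).mpr hxy
        have h2 : orderOf (QuotientGroup.mk' (P : Subgroup G) x) ∣ p ^ a := hox ▸ orderOf_map_dvd _ x
        have h3 : orderOf (QuotientGroup.mk' (P : Subgroup G) x) ∣ q ^ b := by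
          rw [e, orderOf_inv]; exact hoy ▸ orderOf_map_dvd _ y
        exact (QuotientGroup.eq_one_iff x).mp (orderOf_eq_one_iff.mp (Nat.dvd_one.mp
          ((((Nat.coprime_primes hp hq).mpr hpq).pow a b) ▸ Nat.dvd_gcd h2 h3)))

end Cfsg.Agent.S4756
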