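import Cfsg.Statements.S4757
import Cfsg.Agent.Lib.Blocks.CentralChar
import Cfsg.Agent.Lib.Char.AbelianQuotient
import Cfsg.Agent.Lib.Char.Counting
import Cfsg.Agent.Lib.Transfer.Basic
import Cfsg.Agent.Lib.Char.Table

set_option autoImplicit false
set_option linter.style.haveILetI false
open Cfsg
open CfsgLib
open scoped CfsgLib.Char ComplexConjugate commutatorElement

namespace Cfsg.Agent.S4757

/-- Let u ≠ 1 be an element of the finite group G and c a complex number such that every non-principal irreducible character χ satisfies χ(1) − χ(u) = c or χ(u) = 0. Then the following are equivalent: (a) u has order 2, G is generated by u together with O(G), the largest normal subgroup of G of odd order, and the centralizer of u is {1, u}; (b) G is not perfect; (c) c = 2. -/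
theorem result {G : Type*} [Group G] [Finite G] (u : G) (hu : u ≠ 1) (c : ℂ) (hyp : ∀ χ : Cfsg.IrrCharacter G, (χ : G → ℂ) ≠ (fun _ => (1 : ℂ)) → ((χ : G → ℂ) 1 - (χ : G → ℂ) u = c ∨ (χ : G → ℂ) u = 0)) : ((orderOf u = 2 ∧ Subgroup.zpowers u ⊔ Cfsg.oddCore G = ⊤ ∧ Subgroup.centralizer ({u} : Set G) = Subgroup.zpowers u) ↔ commutator G ≠ ⊤) ∧ (commutator G ≠ ⊤ ↔ c = 2) := by
  classical
  haveI := Fintype.ofFinite G
  haveI : Finite (Cfsg.IrrCharacter G) := Char.finite_irrCharacter
  set T : Cfsg.IrrCharacter G := ⟨fun _ => (1 : ℂ), Char.isIrrCharacter_one⟩ with hT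
  have hTv : (T : G → ℂ) = fun _ => (1 : ℂ) := rfl
  have hreg : ∑ χ : Cfsg.IrrCharacter G, (χ : G → ℂ) 1 * conj ((χ : G → ℂ) u) = 0 := by
    have h := Char.column_orthogonality (1 : G) u
    rw [if_neg (fun e => hu (isConj_one_right.mp e))] at h
    exact h
  rw [← Finset.add_sum_erase _ _ (Finset.mem_univ T)] at hreg
  simp only [hTv, map_one, mul_one] at hreg
  have hsplit : ∀ χ : Cfsg.IrrCharacter G, χ ≠ T → (χ : G → ℂ) 1 - (χ : G → ℂ) u = c ∨ (χ : G → ℂ) u = 0 :=
    fun χ h => hyp χ fun e => h (Subtype.ext (e.trans hTv.symm))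
  -- perfect groups
  have hperf : commutator G = ⊤ → c ≠ 2 := by
    intro hG hc
    have hnl : ∀ χ : Cfsg.IrrCharacter G, χ ≠ T → 2 ≤ Cfsg.charDegree (χ : G → ℂ) := by
      intro χ hχ
      have h0 := (Blocks.irr_degree_eq χ).1
      by_contra h
      interval_cases hd : Cfsg.charDegree (χ : G → ℂ)
      · exact Char.irr_degree_ne_zero χ.2 (by rw [h0, Nat.cast_zero])
      · refine hχ (Subtype.ext (funext fun g => ?_))
        have h1 : (χ : G → ℂ) 1 = 1 := by rw [h0, Nat.cast_one]
        rw [hTv, ← Char.linearHom_apply (Char.isCharacter_of_isIrr χ.2) h1 g]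
        have hk : g ∈ (Char.linearHom (Char.isCharacter_of_isIrr χ.2) h1).ker :=
          Abelianization.commutator_subset_ker _ (hG ▸ Subgroup.mem_top g)
        rw [MonoidHom.mem_ker] at hk
        rw [hk, Units.val_one]
    have hnn : ∀ χ ∈ Finset.univ.erase T, ∃ a : ℕ, (χ : G → ℂ) 1 * conj ((χ : G → ℂ) u) = a := by
      intro χ hχ
      have hne : χ ≠ T := by simpa using hχ
      rw [(Blocks.irr_degree_eq χ).1]
      rcases hsplit χ hne with h | h
      · rw [(Blocks.irr_degree_eq χ).1, hc, sub_eq_iff_eq_add, ← sub_eq_iff_eq_add'] at h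
        refine ⟨Cfsg.charDegree (χ : G → ℂ) * (Cfsg.charDegree (χ : G → ℂ) - 2), ?_⟩
        rw [← h, Nat.cast_mul, Nat.cast_sub (hnl χ hne)]
        simp [Complex.conj_natCast, map_ofNat]
      · exact ⟨0, by rw [h]; simp⟩
    choose! a ha using hnn
    rw [Finset.sum_congr rfl ha, ← Nat.cast_sum, ← Nat.cast_one, ← Nat.cast_add] at hreg
    have := Nat.cast_eq_zero.mp hreg
    omega
  have himp : commutator G ≠ ⊤ → c = 2 ∧ Nat.card (Subgroup.centralizer ({u} : Set G)) = 2 := by
    intro hG
    -- a nontrivial linear character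
    obtain ⟨l, hl⟩ : ∃ l : G →* ℂˣ, l ≠ 1 := by
      obtain ⟨g, hg⟩ : ∃ g, g ∉ commutator G := by
        by_contra h
        push Not at h
        exact hG ((commutator G).eq_top_iff'.mpr h)
      haveI : HasEnoughRootsOfUnity ℂ (Monoid.exponent (Abelianization G)) := inferInstance
      obtain ⟨r, hr⟩ := CommGroup.exists_apply_ne_one_of_hasEnoughRootsOfUnity (Abelianization G) ℂ
        (a := Abelianization.of g) (fun h => hg (by rw [← Abelianization.ker_of G]; exact h))
      exact ⟨r.comp Abelianization.of, fun h => hr (DFunLike.congr_fun h g)⟩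
    let ch : (G →* ℂˣ) → Cfsg.IrrCharacter G := fun r => ⟨fun g => ((r g : ℂˣ) : ℂ), by
      have := Char.isIrrCharacter_linear_mul (Char.isIrrCharacter_one (G := G)) r
      simpa using this⟩
    have hch : ∀ r : G →* ℂˣ, r ≠ 1 → ch r ≠ T := fun r hr h => hr (MonoidHom.ext fun g => Units.ext (by
      have := congrFun (congrArg Subtype.val h) g
      simpa [ch, hTv] using this))
    have hval : ∀ r : G →* ℂˣ, r ≠ 1 → ((r u : ℂˣ) : ℂ) = 1 - c := fun r hr => by
      rcases hsplit (ch r) (hch r hr) with h | h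
      · simp only [ch, map_one, Units.val_one] at h
        rw [← h, sub_sub_cancel]
      · exact absurd h (Units.ne_zero _)
    set z := ((l u : ℂˣ) : ℂ) with hz
    have hz1 : z ≠ 1 := by
      intro h1
      have hc0 : c = 0 := by
        have := hval l hl
        rw [← hz, h1] at this
        linear_combination this
      have hnn : ∀ χ ∈ Finset.univ.erase T, ∃ a : ℕ, (χ : G → ℂ) 1 * conj ((χ : G → ℂ) u) = a := by
        intro χ hχ
        rw [(Blocks.irr_degree_eq χ).1]
        rcases hsplit χ (by simpa using hχ) with h | h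
        · rw [hc0, sub_eq_zero] at h
          rw [← h, (Blocks.irr_degree_eq χ).1, Complex.conj_natCast]
          exact ⟨Cfsg.charDegree (χ : G → ℂ) * Cfsg.charDegree (χ : G → ℂ), by push_cast; ring⟩
        · exact ⟨0, by rw [h]; simp⟩
      choose! a ha using hnn
      rw [Finset.sum_congr rfl ha, ← Nat.cast_sum, ← Nat.cast_one, ← Nat.cast_add] at hreg
      have := Nat.cast_eq_zero.mp hreg
      omega
    have hsame : ∀ r : G →* ℂˣ, r ≠ 1 → ((r u : ℂˣ) : ℂ) = z := fun r hr => (hval r hr).trans (hval l hl).symm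
    have hl2 : l * l = 1 := by
      by_contra h
      have := hsame _ h
      rw [MonoidHom.mul_apply, Units.val_mul, ← hz, mul_left_eq_self₀] at this
      exact this.elim hz1 (Units.ne_zero _)
    have huniq : ∀ r : G →* ℂˣ, r ≠ 1 → r = l := by
      intro r hr
      by_contra hne
      have h1 : r * l ≠ 1 := fun h => hne (MonoidHom.ext fun g => by
        have e1 := DFunLike.congr_fun h g
        have e2 := DFunLike.congr_fun hl2 g
        simp only [MonoidHom.mul_apply, MonoidHom.one_apply] at e1 e2
        exact mul_right_cancel (e1.trans e2.symm))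
      have := hsame _ h1
      rw [MonoidHom.mul_apply, Units.val_mul, hsame r hr, ← hz, mul_left_eq_self₀] at this
      exact this.elim hz1 (Units.ne_zero _)
    have hzm : z = -1 := by
      have := congrArg (fun r : G →* ℂˣ => ((r u : ℂˣ) : ℂ)) hl2
      simp only [MonoidHom.mul_apply, Units.val_mul, MonoidHom.one_apply, Units.val_one, ← hz] at this
      exact (mul_self_eq_one_iff.mp this).resolve_left hz1
    have hc2 : c = 2 := by
      have := hval l hl
      rw [← hz, hzm] at this
      linear_combination this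
    refine ⟨hc2, ?_⟩
    set L : Cfsg.IrrCharacter G := ch l
    have hLT : L ≠ T := hch l hl
    have hLv : (L : G → ℂ) u = -1 := hzm
    have hnl : ∀ χ : Cfsg.IrrCharacter G, χ ≠ T → χ ≠ L → 2 ≤ Cfsg.charDegree (χ : G → ℂ) := by
      intro χ hχ hχL
      have h0 := (Blocks.irr_degree_eq χ).1
      by_contra h
      interval_cases hd : Cfsg.charDegree (χ : G → ℂ)
      · exact Char.irr_degree_ne_zero χ.2 (by rw [h0, Nat.cast_zero])
      · have h1 : (χ : G → ℂ) 1 = 1 := by rw [h0, Nat.cast_one]
        set r := Char.linearHom (Char.isCharacter_of_isIrr χ.2) h1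
        have hr : ch r = χ := Subtype.ext (funext fun g => Char.linearHom_apply (Char.isCharacter_of_isIrr χ.2) h1 g)
        refine hχL ?_
        rw [← hr]
        refine congrArg ch (huniq r fun h => hχ ?_)
        rw [← hr, h]
        exact Subtype.ext (funext fun g => by simp [ch, hTv])
    rw [← Finset.add_sum_erase (Finset.univ.erase T) _ (show L ∈ Finset.univ.erase T by simp [hLT])] at hreg
    rw [hLv, show (L : G → ℂ) 1 = 1 by simp [L, ch], map_neg, map_one, one_mul, ← add_assoc, add_neg_cancel, zero_add] at hreg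
    have hnn : ∀ χ ∈ (Finset.univ.erase T).erase L, ∃ a : ℕ, (χ : G → ℂ) 1 * conj ((χ : G → ℂ) u) = a ∧
        (a = 0 → (χ : G → ℂ) u = 0) := by
      intro χ hχ
      replace hχ : χ ≠ T ∧ χ ≠ L := by simp only [Finset.mem_erase, Finset.mem_univ, and_true] at hχ; exact ⟨hχ.2, hχ.1⟩
      have hd := hnl χ hχ.1 hχ.2
      rw [(Blocks.irr_degree_eq χ).1]
      rcases hsplit χ hχ.1 with h | h
      · rw [(Blocks.irr_degree_eq χ).1, hc2, sub_eq_iff_eq_add, ← sub_eq_iff_eq_add'] at h
        refine ⟨Cfsg.charDegree (χ : G → ℂ) * (Cfsg.charDegree (χ : G → ℂ) - 2), ?_, fun h0 => ?_⟩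
        · rw [← h, Nat.cast_mul, Nat.cast_sub hd]
          simp [Complex.conj_natCast, map_ofNat]
        · rw [← h]
          rcases mul_eq_zero.mp h0 with e | e
          · omega
          · rw [show Cfsg.charDegree (χ : G → ℂ) = 2 by omega]
            norm_num
      · exact ⟨0, by rw [h]; simp, fun _ => h⟩
    choose! a ha ha0 using hnn
    rw [Finset.sum_congr rfl ha, ← Nat.cast_sum, Nat.cast_eq_zero, Finset.sum_eq_zero_iff] at hreg
    have hC := Char.column_orthogonality u u
    rw [if_pos (IsConj.refl u), ← Finset.add_sum_erase _ _ (Finset.mem_univ T),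
      ← Finset.add_sum_erase (Finset.univ.erase T) _ (show L ∈ Finset.univ.erase T by simp [hLT]),
      Finset.sum_eq_zero (fun χ hχ => by rw [ha0 χ hχ (hreg χ hχ), zero_mul]), hLv] at hC
    simp only [hTv, map_one, map_neg, mul_one, add_zero, neg_mul_neg] at hC
    norm_num at hC
    rw [Nat.card_eq_fintype_card]
    exact_mod_cast hC.symm
  refine ⟨⟨fun ⟨h2, hsup, _⟩ hG => ?_, fun hG => ?_⟩, fun hG => (himp hG).1, fun hc hG => hperf hG hc⟩
  · -- the structure gives imperfection
    haveI := Transfer.pPrimeCore_normal 2 G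
    set O := Cfsg.oddCore G
    have hle : commutator G ≤ O := by
      rw [commutator_def, Subgroup.commutator_le]
      intro a _ b _
      rw [← QuotientGroup.eq_one_iff]
      show QuotientGroup.mk' O ⁅a, b⁆ = 1
      rw [map_commutatorElement, commutatorElement_eq_one_iff_mul_comm]
      have hz : ∀ g, QuotientGroup.mk' O g ∈ Subgroup.zpowers (QuotientGroup.mk' O u) := fun g => by
        have hg : g ∈ Subgroup.zpowers u ⊔ O := hsup.symm ▸ Subgroup.mem_top g
        have := Subgroup.mem_map_of_mem (QuotientGroup.mk' O) hg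
        rwa [Subgroup.map_sup, QuotientGroup.map_mk'_self, sup_bot_eq, MonoidHom.map_zpowers] at this
      obtain ⟨i, hi⟩ := hz a
      obtain ⟨j, hj⟩ := hz b
      rw [← hi, ← hj]
      exact Commute.zpow_zpow_self _ i j
    rw [hG, top_le_iff] at hle
    have hO : (Nat.card O).Coprime 2 := Transfer.pPrimeCore_coprime 2
    rw [hle, Subgroup.card_top] at hO
    have := orderOf_dvd_natCard u
    rw [h2] at this
    exact (Nat.Prime.coprime_iff_not_dvd Nat.prime_two).mp hO.symm this
  · obtain ⟨hc, hC⟩ := himp hG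
    set C := Subgroup.centralizer ({u} : Set G)
    have huC : u ∈ C := Subgroup.mem_centralizer_singleton_iff.mpr rfl
    have hu2 : orderOf u = 2 := by
      refine ((Nat.dvd_prime Nat.prime_two).mp ?_).resolve_left (fun h => hu (orderOf_eq_one_iff.mp h))
      have := orderOf_dvd_natCard (⟨u, huC⟩ : C)
      rwa [Subgroup.orderOf_mk, hC] at this
    have hCz : C = Subgroup.zpowers u := (Subgroup.eq_of_le_of_card_ge (Subgroup.zpowers_le.mpr huC)
      (by rw [hC, Nat.card_zpowers, hu2])).symm
    refine ⟨hu2, ?_, hCz⟩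
    haveI : Fact (Nat.Prime 2) := ⟨Nat.prime_two⟩
    have hu2' : IsPGroup 2 (Subgroup.zpowers u) := IsPGroup.of_card (n := 1) (by rw [Nat.card_zpowers, hu2, pow_one])
    obtain ⟨P, hP⟩ := hu2'.exists_le_sylow
    have hPe : (P : Subgroup G) = Subgroup.zpowers u := by
      haveI : Nontrivial (P : Subgroup G) := ⟨⟨u, hP (Subgroup.mem_zpowers u)⟩, 1, fun h => hu (congrArg Subtype.val h)⟩
      haveI := P.2.center_nontrivial
      obtain ⟨⟨w, hw⟩, hw1⟩ := exists_ne (1 : Subgroup.center (P : Subgroup G))
      have hwC : (w : G) ∈ Subgroup.zpowers u := hCz ▸ Subgroup.mem_centralizer_singleton_iff.mpr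
        (congrArg Subtype.val (Subgroup.mem_center_iff.mp hw ⟨u, hP (Subgroup.mem_zpowers u)⟩)).symm
      have hwz : Subgroup.zpowers (w : G) = Subgroup.zpowers u := by
        refine Subgroup.eq_of_le_of_card_ge (Subgroup.zpowers_le.mpr hwC) ?_
        rw [Nat.card_zpowers, Nat.card_zpowers, hu2]
        have : orderOf (w : G) ≠ 1 := fun h => hw1 (Subtype.ext (Subtype.ext (orderOf_eq_one_iff.mp h)))
        have := orderOf_pos (w : G)
        omega
      refine le_antisymm (fun x hx => ?_) hP
      rw [← hCz, Subgroup.mem_centralizer_singleton_iff]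
      obtain ⟨i, hi⟩ := (hwz.symm ▸ Subgroup.mem_zpowers u : u ∈ Subgroup.zpowers (w : G))
      rw [← hi]
      exact (Commute.zpow_right (congrArg Subtype.val (Subgroup.mem_center_iff.mp hw ⟨x, hx⟩) : Commute x (w : G)) i).eq
    have hN : Subgroup.normalizer ((P : Subgroup G) : Set G) ≤ Subgroup.centralizer ((P : Subgroup G) : Set G) := by
      intro g hg y hy
      rw [hPe] at hy hg
      have hgu : g * u * g⁻¹ = u := by
        have h1 := (Subgroup.mem_normalizer_iff.mp hg u).mp (Subgroup.mem_zpowers u)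
        rw [mem_zpowers_iff_mem_range_orderOf, hu2] at h1
        simp only [Finset.mem_image, Finset.mem_range] at h1
        obtain ⟨i, hi, he⟩ := h1
        interval_cases i
        · exact absurd (conj_eq_one_iff.mp (he.symm.trans (pow_zero u))) hu
        · rwa [pow_one, eq_comm] at he
      obtain ⟨i, rfl⟩ := hy
      exact (Commute.zpow_left (mul_inv_eq_iff_eq_mul.mp hgu).symm i).eq
    have hcompl := MonoidHom.ker_transferSylow_isComplement' P hN
    set K := (MonoidHom.transferSylow P hN).ker
    have hK : K ≤ Cfsg.oddCore G := by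
      refine Transfer.le_pPrimeCore (MonoidHom.normal_ker _) ?_
      rw [Nat.coprime_comm, Nat.Prime.coprime_iff_not_dvd Nat.prime_two]
      intro h
      have h2 := P.not_dvd_index
      rw [hcompl.index_eq_card] at h2
      exact h2 h
    rw [eq_top_iff, ← hcompl.sup_eq_top, sup_le_iff, hPe]
    exact ⟨hK.trans le_sup_right, le_sup_left⟩

end Cfsg.Agent.S4757
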