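import Cfsg.Statements.S4758
import Cfsg.Agent.Lib.Char.ValueMinusFour
import Cfsg.Agent.Lib.PerfectCompl.Cover
import Cfsg.Agent.Lib.Classical.A8Subgroups
import Cfsg.Agent.Lib.Classical.Transvection
import Cfsg.Agent.Lib.Transfer.Basic
import Cfsg.Agent.S0494

set_option autoImplicit false
open Cfsg

namespace Cfsg.Agent.S4758

open CfsgLib.Char

/-- An involutory automorphism by conjugation without non-trivial fixed points inverts. -/
theorem inverts {G : Type*} [Group G] [Finite G] (W : Subgroup G) (x : G)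
    (hW : ∀ c ∈ W, x * c * x⁻¹ ∈ W) (h2 : ∀ c ∈ W, x * (x * c * x⁻¹) * x⁻¹ = c)
    (hfix : ∀ c ∈ W, x * c * x⁻¹ = c → c = 1) : ∀ c ∈ W, x * c * x⁻¹ = c⁻¹ := by
  intro c hc
  let φ : W →* W :=
    { toFun := fun a => ⟨x * a * x⁻¹, hW a a.2⟩
      map_one' := Subtype.ext (by simp)
      map_mul' := fun a b => Subtype.ext (by simp [mul_assoc]) }
  have hfpf : MonoidHom.FixedPointFree φ := fun a ha =>
    Subtype.ext (hfix a a.2 (congrArg Subtype.val ha))
  have h := hfpf.coe_eq_inv_of_involutive (fun a => Subtype.ext (h2 a a.2))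
  exact congrArg Subtype.val (congrFun h ⟨c, hc⟩)

theorem alt_five_sq : ∀ a : Equiv.Perm (Fin 5), Equiv.Perm.sign a = 1 →
    a * a * (a * a) = 1 → a * a = 1 := by decide +kernel

theorem zmod_five : (2 : ZMod 5) ≠ 0 ∧ (2 : ZMod 5) ^ 2 ≠ 1 := by decide

theorem iso_five {R : Type*} [Group R] [Finite R] [IsSimpleGroup R] (h : Nat.card R = 60) :
    Nonempty (R ≃* Matrix.ProjectiveSpecialLinearGroup (Fin 2) (ZMod 5)) := by
  haveI : Fact (Nat.Prime 5) := ⟨Nat.prime_five⟩
  have h2 : Nat.card (Matrix.ProjectiveSpecialLinearGroup (Fin 2) (ZMod 5)) = 60 := by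
    have h := CfsgLib.Classical.card_PSL_two (F := ZMod 5)
    rw [ZMod.card, show Nat.gcd 2 (5 - 1) = 2 from rfl] at h
    norm_num at h
    rw [Nat.card_eq_fintype_card]
    omega
  haveI : IsSimpleGroup (Matrix.ProjectiveSpecialLinearGroup (Fin 2) (ZMod 5)) :=
    CfsgLib.Classical.isSimpleGroup_PSL (Or.inr ⟨2, zmod_five.1, zmod_five.2⟩)
  obtain ⟨e1⟩ := Cfsg.Agent.S0494.result h
  obtain ⟨e2⟩ := Cfsg.Agent.S0494.result h2
  exact ⟨e1.trans e2.symm⟩

theorem mul_eq_inv_of_sq {G : Type*} [Group G] {x d : G} (hx : x * x = 1) (h : x * d * (x * d) = 1) :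
    x * d * x⁻¹ = d⁻¹ := by
  rw [inv_eq_of_mul_eq_one_right hx, eq_inv_iff_mul_eq_one]
  simpa only [mul_assoc] using h

/-- The group-theoretic part when the distinguished element is an involution. -/
theorem case_two {G : Type*} [Group G] [Finite G] {u : G} (K : Subgroup G) [K.Normal]
    (hidx : K.index = 60) (hu2 : u * u = 1) (huK : u ∉ K)
    (hC : Nat.card (Subgroup.centralizer ({u} : Set G)) = 4)
    (hconj : ∀ g : G, g ∉ K → g * g ∈ K → IsConj g u) (T : Sylow 2 G)
    (huT : u ∈ (T : Subgroup G)) (hcard : 4 * Nat.card ↥(K ⊓ (T : Subgroup G)) = Nat.card T)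
    {y : G} (hyT : y ∈ (T : Subgroup G)) (hy : y ∉ K) (huy : u * y ∉ K)
    (hsq : ∀ x ∈ (T : Subgroup G), x * x ∈ K) :
    Odd (Nat.card K) ∧ ∀ k ∈ K, u * k * u⁻¹ = k⁻¹ := by
  have hinv : ∀ g : G, g ∉ K → g * g ∈ K → g * g = 1 := by
    intro g hg hgg
    obtain ⟨c, hc⟩ := isConj_iff.mp (hconj g hg hgg).symm
    rw [← hc, show c * u * c⁻¹ * (c * u * c⁻¹) = c * (u * u) * c⁻¹ by group, hu2]
    group
  have hTinv : ∀ x ∈ (T : Subgroup G), x ∉ K → x * x = 1 := fun x hx hxK => hinv x hxK (hsq x hx)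
  have hd : ∀ x ∈ (T : Subgroup G), x ∉ K → ∀ d ∈ (T : Subgroup G), d ∈ K → x * d * x⁻¹ = d⁻¹ := by
    intro x hx hxK d hdT hdK
    exact mul_eq_inv_of_sq (hTinv x hx hxK)
      (hTinv _ (mul_mem hx hdT) fun h => hxK ((K.mul_mem_cancel_right hdK).mp h))
  have hcomm : u * y = y * u := by
    have h := hTinv _ (mul_mem huT hyT) huy
    calc u * y = (u * y)⁻¹ := (inv_eq_of_mul_eq_one_right h).symm
      _ = y⁻¹ * u⁻¹ := mul_inv_rev _ _
      _ = y * u := by
        rw [inv_eq_of_mul_eq_one_right hu2, inv_eq_of_mul_eq_one_right (hTinv y hyT hy)]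
  have hD2 : ∀ d ∈ (T : Subgroup G), d ∈ K → d * d = 1 := by
    intro d hdT hdK
    have h1 := hd _ (mul_mem huT hyT) huy d hdT hdK
    rw [show u * y * d * (u * y)⁻¹ = u * (y * d * y⁻¹) * u⁻¹ by group, hd y hyT hy d hdT hdK,
      show u * d⁻¹ * u⁻¹ = (u * d * u⁻¹)⁻¹ by group, hd u huT huK d hdT hdK, inv_inv] at h1
    exact eq_inv_iff_mul_eq_one.mp h1
  have hT2 : ∀ x ∈ (T : Subgroup G), x * x = 1 := fun x hx => by
    by_cases hxK : x ∈ K
    · exact hD2 x hx hxK
    · exact hTinv x hx hxK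
  have hle : (T : Subgroup G) ≤ Subgroup.centralizer ({u} : Set G) := fun x hx => by
    rw [Subgroup.mem_centralizer_singleton_iff]
    calc x * u = (x * u)⁻¹ := (inv_eq_of_mul_eq_one_right (hT2 _ (mul_mem hx huT))).symm
      _ = u⁻¹ * x⁻¹ := mul_inv_rev _ _
      _ = u * x := by rw [inv_eq_of_mul_eq_one_right hu2, inv_eq_of_mul_eq_one_right (hT2 x hx)]
  have hT4 : Nat.card T = 4 := by
    have h1 := Subgroup.card_le_of_le hle
    rw [hC] at h1
    change Nat.card T ≤ 4 at h1
    have := Nat.card_pos (α := ↥(K ⊓ (T : Subgroup G)))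
    omega
  refine ⟨?_, fun k hk => mul_eq_inv_of_sq hu2 (hinv _ (fun h => huK ((K.mul_mem_cancel_right hk).mp h)) ?_)⟩
  · have h1 := K.card_mul_index
    rw [hidx, ← (T : Subgroup G).card_mul_index, hT4] at h1
    have h2 := T.not_dvd_index
    rw [Nat.odd_iff]
    omega
  · rw [show u * k * (u * k) = u * k * u⁻¹ * (u * u) * k by group, hu2, mul_one]
    exact mul_mem (Subgroup.Normal.conj_mem inferInstance k hk u) hk

/-- An element of order 4 whose centraliser is the group it generates. -/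
theorem central_in_normal {G : Type*} [Group G] [Finite G] (K : Subgroup G) [K.Normal] {x : G}
    (h4 : orderOf x = 4) (hC : Nat.card (Subgroup.centralizer ({x} : Set G)) = 4) (hx : x ∉ K)
    (hxx : x * x ∈ K) {c : G} (hc : c ∈ K) (hcx : c * x = x * c) : c = 1 ∨ c = x * x := by
  have heq : Subgroup.zpowers x = Subgroup.centralizer ({x} : Set G) :=
    Subgroup.eq_of_le_of_card_ge (Subgroup.zpowers_le.mpr
      (Subgroup.mem_centralizer_singleton_iff.mpr rfl)) (by rw [hC, Nat.card_zpowers, h4])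
  have hcz : c ∈ Subgroup.zpowers x := heq ▸ Subgroup.mem_centralizer_singleton_iff.mpr hcx
  classical
  obtain ⟨i, hi, rfl⟩ := Finset.mem_image.mp
    ((mem_zpowers_iff_mem_range_orderOf).mp hcz)
  rw [h4, Finset.mem_range] at hi
  interval_cases i
  · exact Or.inl (pow_zero x)
  · exact absurd (by simpa using hc) hx
  · exact Or.inr (pow_two x)
  · refine absurd ?_ hx
    have h : x * (x * x) ∈ K := by simpa [pow_succ, mul_assoc] using hc
    exact (K.mul_mem_cancel_right hxx).mp h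

/-- A normal subgroup of order twice an odd number contains an odd normal half. -/
theorem exists_half {G : Type*} [Group G] [Finite G] (K : Subgroup G) [K.Normal] {m : ℕ}
    (hm : Odd m) (hKm : Nat.card K = 2 * m) :
    ∃ N : Subgroup G, N.Normal ∧ N ≤ K ∧ Nat.card N = m ∧ ∀ n ∈ K, Odd (orderOf n) → n ∈ N := by
  haveI : Fact (Nat.Prime 2) := ⟨Nat.prime_two⟩
  obtain ⟨P⟩ := (inferInstance : Nonempty (Sylow 2 K))
  have hP : Nat.card P = 2 := by
    rw [P.card_eq_multiplicity, hKm, Nat.factorization_mul two_ne_zero hm.pos.ne', Finsupp.add_apply,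
      Nat.Prime.factorization_self Nat.prime_two,
      Nat.factorization_eq_zero_of_not_dvd (by
        rw [← even_iff_two_dvd, Nat.not_even_iff_odd]; exact hm), add_zero, pow_one]
  obtain ⟨Q, hQn, hQc⟩ : ∃ Q : Subgroup K, Q.Normal ∧ Q.IsComplement' (P : Subgroup K) := by
    refine (CfsgLib.Transfer.hasNormalPComplement_iff_forall_sylow P).mp ?_
    refine CfsgLib.Transfer.hasNormalPComplement_of_normalizer_le_centralizer P fun n hn => ?_
    rw [Subgroup.mem_centralizer_iff]
    intro a ha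
    by_cases ha1 : a = 1
    · subst ha1; simp
    have hb : n * a * n⁻¹ ∈ (P : Subgroup K) := (Subgroup.mem_normalizer_iff.mp hn a).mp ha
    obtain ⟨s, t, hst, huniv⟩ := Nat.card_eq_two_iff.mp hP
    have key : ∀ p q : P, p ≠ 1 → q ≠ 1 → p = q := by
      intro p q hp hq
      have h3 : ∀ r : P, r = s ∨ r = t := fun r => by
        have : r ∈ ({s, t} : Set P) := huniv ▸ Set.mem_univ r
        simpa using this
      rcases h3 1 with e | e <;> rcases h3 p with e' | e' <;> rcases h3 q with e'' | e'' <;>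
        simp_all
    have := congrArg Subtype.val (key ⟨_, hb⟩ ⟨a, ha⟩
      (fun h => ha1 (conj_eq_one_iff.mp (congrArg Subtype.val h)))
      (fun h => ha1 (congrArg Subtype.val h)))
    exact (mul_inv_eq_iff_eq_mul.mp this).symm
  haveI := hQn
  have hmem : ∀ k : K, k ∈ Q ↔ (orderOf k).Coprime 2 := fun k =>
    CfsgLib.Transfer.mem_iff_coprime_orderOf (CfsgLib.Transfer.coprime_card_of_isComplement' hQc)
      (CfsgLib.Transfer.isPGroup_quotient_of_isComplement' hQc) (x := k)
  have hQcard : Nat.card Q = m := by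
    have := hQc.card_mul
    rw [hKm, show Nat.card (P : Subgroup K) = 2 from hP] at this
    omega
  refine ⟨Q.map K.subtype, ⟨fun n hn g => ?_⟩, Subgroup.map_subtype_le Q, ?_, fun n hn hno => ?_⟩
  · obtain ⟨k, hk, rfl⟩ := hn
    refine ⟨⟨g * k * g⁻¹, Subgroup.Normal.conj_mem inferInstance _ k.2 g⟩, ?_, rfl⟩
    rw [SetLike.mem_coe, hmem] at hk ⊢
    rwa [Subgroup.orderOf_mk, CfsgLib.Transfer.orderOf_conj, Subgroup.orderOf_coe]
  · rw [Subgroup.card_map_of_injective K.subtype_injective, hQcard]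
  · refine ⟨⟨n, hn⟩, (hmem _).mpr ?_, rfl⟩
    rw [Subgroup.orderOf_mk]
    exact Nat.coprime_comm.mp (Nat.coprime_two_left.mpr hno)

/-- The group-theoretic part when the distinguished element has order four. -/
theorem case_four {G : Type*} [Group G] [Finite G] {u : G} (K : Subgroup G) [K.Normal]
    (hidx : K.index = 60) (h4 : orderOf u = 4) (huK : u ∉ K) (huu : u * u ∈ K)
    (hC : Nat.card (Subgroup.centralizer ({u} : Set G)) = 4)
    (hconj : ∀ g : G, g ∉ K → g * g ∈ K → IsConj g u) (T : Sylow 2 G)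
    (huT : u ∈ (T : Subgroup G)) (hcard : 4 * Nat.card ↥(K ⊓ (T : Subgroup G)) = Nat.card T)
    {y : G} (hyT : y ∈ (T : Subgroup G)) (hy : y ∉ K) (huy : u * y ∉ K)
    (hsq : ∀ x ∈ (T : Subgroup G), x * x ∈ K) :
    (∃ m, Odd m ∧ Nat.card K = 2 * m) ∧
      ∀ c ∈ K, Odd (orderOf c) → c * (u * u) = u * u * c → c = 1 := by
  have hz1 : u * u ≠ 1 := fun h => by
    have := orderOf_le_of_pow_eq_one two_pos ((pow_two u).trans h)
    omega
  have hord : ∀ x ∈ (T : Subgroup G), x ∉ K →
      orderOf x = 4 ∧ Nat.card (Subgroup.centralizer ({x} : Set G)) = 4 := by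
    intro x hx hxK
    obtain ⟨c, hc⟩ := isConj_iff.mp (hconj x hxK (hsq x hx)).symm
    refine ⟨?_, (CfsgLib.Char.card_centralizer_eq_of_isConj (hconj x hxK (hsq x hx))).trans hC⟩
    rw [← hc, CfsgLib.Transfer.orderOf_conj, h4]
  have hfix : ∀ x ∈ (T : Subgroup G), x ∉ K → ∀ c ∈ K, c * x = x * c → c = 1 ∨ c = x * x :=
    fun x hx hxK c hc hcx =>
      central_in_normal K (hord x hx hxK).1 (hord x hx hxK).2 hxK (hsq x hx) hc hcx
  -- `u * u` is central in `T`
  have hzc : ∀ x ∈ (T : Subgroup G), u * u * x = x * (u * u) := by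
    have hne : K.subgroupOf (T : Subgroup G) ≠ ⊥ := fun h => hz1 (by
      have : (⟨u * u, mul_mem huT huT⟩ : (T : Subgroup G)) ∈ K.subgroupOf (T : Subgroup G) := huu
      rw [h, Subgroup.mem_bot] at this
      exact congrArg Subtype.val this)
    obtain ⟨d, hdK, hdc, hd2⟩ := exists_central_of_normal T.isPGroup' (K.subgroupOf (T : Subgroup G)) hne
    have hd : ∀ x ∈ (T : Subgroup G), (d : G) * x = x * d := fun x hx =>
      (congrArg Subtype.val (Subgroup.mem_center_iff.mp hdc ⟨x, hx⟩)).symm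
    have hd1 : (d : G) ≠ 1 := fun h => by
      rw [show d = 1 from Subtype.ext h, orderOf_one] at hd2
      norm_num at hd2
    rw [← (hfix u huT huK d hdK (hd u huT)).resolve_left hd1]
    exact hd
  have hzsq : ∀ x ∈ (T : Subgroup G), x ∉ K → x * x = u * u := fun x hx hxK =>
    ((hfix x hx hxK _ huu (hzc x hx)).resolve_left hz1).symm
  have hd : ∀ x ∈ (T : Subgroup G), x ∉ K → ∀ d ∈ (T : Subgroup G), d ∈ K → x * d * x⁻¹ = d⁻¹ := by
    intro x hx hxK d hdT hdK
    have h := hzsq _ (mul_mem hx hdT) fun h => hxK ((K.mul_mem_cancel_right hdK).mp h)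
    rw [← hzsq x hx hxK] at h
    have h' : d * x * d = x := mul_left_cancel (a := x) (by simpa only [mul_assoc] using h)
    calc x * d * x⁻¹ = d⁻¹ * (d * x * d) * x⁻¹ := by group
      _ = d⁻¹ := by rw [h']; group
  have hD : ∀ d ∈ (T : Subgroup G), d ∈ K → d = 1 ∨ d = u * u := by
    intro d hdT hdK
    have h1 := hd _ (mul_mem huT hyT) huy d hdT hdK
    rw [show u * y * d * (u * y)⁻¹ = u * (y * d * y⁻¹) * u⁻¹ by group, hd y hyT hy d hdT hdK,
      show u * d⁻¹ * u⁻¹ = (u * d * u⁻¹)⁻¹ by group, hd u huT huK d hdT hdK, inv_inv] at h1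
    have h2 := hd u huT huK d hdT hdK
    rw [← h1, mul_inv_eq_iff_eq_mul] at h2
    exact hfix u huT huK d hdK h2.symm
  have hD2 : Nat.card ↥(K ⊓ (T : Subgroup G)) = 2 := by
    have hzp : K ⊓ (T : Subgroup G) = Subgroup.zpowers (u * u) := by
      refine le_antisymm (fun d hd' => ?_) (Subgroup.zpowers_le.mpr ⟨huu, mul_mem huT huT⟩)
      rcases hD d hd'.2 hd'.1 with rfl | rfl
      · exact one_mem _
      · exact Subgroup.mem_zpowers _
    rw [hzp, Nat.card_zpowers, ← pow_two, orderOf_pow' u two_ne_zero, h4]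
    rfl
  have hhalf : ∃ m, Odd m ∧ Nat.card K = 2 * m := by
    have hT8 : Nat.card T = 8 := by omega
    have h1 := K.card_mul_index
    rw [hidx, ← (T : Subgroup G).card_mul_index, hT8] at h1
    have h2 := T.not_dvd_index
    exact ⟨Nat.card K / 2, by rw [Nat.odd_iff]; omega, by omega⟩
  refine ⟨hhalf, fun c hcK hcodd hcz => ?_⟩
  -- the four-group acts without fixed points on the centraliser of `u * u` in the odd elements
  have hone : ∀ x ∈ (T : Subgroup G), x ∉ K → ∀ d ∈ K, Odd (orderOf d) → d * x = x * d → d = 1 := by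
    intro x hx hxK d hdK hdo hdx
    refine (hfix x hx hxK d hdK hdx).resolve_right fun h => ?_
    rw [h, hzsq x hx hxK, ← pow_two, orderOf_pow' u two_ne_zero, h4] at hdo
    exact absurd hdo (by decide)
  obtain ⟨N, hN, hNodd, hcN⟩ : ∃ N : Subgroup G, (∀ g : G, ∀ n ∈ N, g * n * g⁻¹ ∈ N) ∧
      (∀ n ∈ N, n ∈ K ∧ Odd (orderOf n)) ∧ c ∈ N := by
    obtain ⟨m, hm, hKm⟩ := hhalf
    obtain ⟨N, hNn, hNK, hNc, hNmem⟩ := exists_half K hm hKm
    exact ⟨N, fun g n hn => hNn.conj_mem n hn g,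
      fun n hn => ⟨hNK hn, Odd.of_dvd_nat hm (hNc ▸ Subgroup.orderOf_dvd_natCard N hn)⟩,
      hNmem c hcK hcodd⟩
  let W : Subgroup G := N ⊓ Subgroup.centralizer ({u * u} : Set G)
  have hW : ∀ x ∈ (T : Subgroup G), x ∉ K → ∀ d ∈ W, x * d * x⁻¹ = d⁻¹ := by
    intro x hx hxK
    refine inverts W x (fun d hd' => ⟨hN x d hd'.1, ?_⟩) (fun d hd' => ?_) fun d hd' he => ?_
    · refine Subgroup.mem_centralizer_singleton_iff.mpr ?_
      have h1 : d * (u * u) = u * u * d := Subgroup.mem_centralizer_singleton_iff.mp hd'.2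
      have h2 := hzc x hx
      have h3 : x⁻¹ * (u * u) = u * u * x⁻¹ := by
        calc x⁻¹ * (u * u) = x⁻¹ * (u * u * x) * x⁻¹ := by group
          _ = u * u * x⁻¹ := by rw [h2]; group
      calc x * d * x⁻¹ * (u * u) = x * d * (x⁻¹ * (u * u)) := by group
        _ = x * (d * (u * u)) * x⁻¹ := by rw [h3]; group
        _ = x * (u * u) * (d * x⁻¹) := by rw [h1]; group
        _ = u * u * (x * d * x⁻¹) := by rw [← h2]; group
    · have h1 : d * (u * u) = u * u * d := Subgroup.mem_centralizer_singleton_iff.mp hd'.2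
      rw [show x * (x * d * x⁻¹) * x⁻¹ = x * x * d * (x * x)⁻¹ by group, hzsq x hx hxK, ← h1]
      group
    · exact hone x hx hxK d (hNodd d hd'.1).1 (hNodd d hd'.1).2 (mul_inv_eq_iff_eq_mul.mp he).symm
  have hcW : c ∈ W := ⟨hcN, Subgroup.mem_centralizer_singleton_iff.mpr hcz⟩
  have h1 := hW _ (mul_mem huT hyT) huy c hcW
  rw [show u * y * c * (u * y)⁻¹ = u * (y * c * y⁻¹) * u⁻¹ by group, hW y hyT hy c hcW,
    show u * c⁻¹ * u⁻¹ = (u * c * u⁻¹)⁻¹ by group, hW u huT huK c hcW, inv_inv] at h1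
  have h2 : orderOf c ∣ 2 := orderOf_dvd_of_pow_eq_one
    ((pow_two c).trans (eq_inv_iff_mul_eq_one.mp h1))
  rcases (Nat.dvd_prime Nat.prime_two).mp h2 with h | h
  · exact orderOf_eq_one_iff.mp h
  · rw [h] at hcodd
    exact absurd hcodd (by decide)


/-- Let u ≠ 1 be an element of the finite group G such that every non-principal irreducible character χ satisfies χ(1) − χ(u) = 4 or χ(u) = 0. Then O(G), the largest normal subgroup of odd order, is abelian, and either G ⧸ O(G) ≅ PSL₂(5) and u is an involution, or G ⧸ O(G) ≅ SL₂(5) and u has order 4. -/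
theorem result {G : Type*} [Group G] [Finite G] (u : G) (hu : u ≠ 1) (hyp : ∀ χ : Cfsg.IrrCharacter G, (χ : G → ℂ) ≠ (fun _ => (1 : ℂ)) → ((χ : G → ℂ) 1 - (χ : G → ℂ) u = 4 ∨ (χ : G → ℂ) u = 0)) : IsMulCommutative ↥(Cfsg.oddCore G) ∧ ((Nonempty (G ⧸ Cfsg.oddCore G ≃* Matrix.ProjectiveSpecialLinearGroup (Fin 2) (ZMod 5)) ∧ orderOf u = 2) ∨ (Nonempty (G ⧸ Cfsg.oddCore G ≃* Matrix.SpecialLinearGroup (Fin 2) (ZMod 5)) ∧ orderOf u = 4)) := by
  classical
  haveI : Fintype G := Fintype.ofFinite G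
  haveI : Fact (Nat.Prime 2) := ⟨Nat.prime_two⟩
  have hH : MinusFour.Hyp u := ⟨hu, fun χ hχ => hyp χ fun h => hχ (Subtype.ext h)⟩
  have hperf := MinusFour.perfect hH
  obtain ⟨K, hKn, hidx, huK, huu, hC, hconj⟩ := MinusFour.main hH
  haveI := hKn
  have hR : Nat.card (G ⧸ K) = 60 := hidx
  have hperfQ : ∀ (N : Subgroup G) [N.Normal], commutator (G ⧸ N) = ⊤ := fun N _ => by
    rw [commutator_def, ← Subgroup.map_top_of_surjective (QuotientGroup.mk' N)
      (QuotientGroup.mk'_surjective N), ← Subgroup.map_commutator, ← commutator_def, hperf]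
  haveI : Nontrivial (G ⧸ K) := Finite.one_lt_card_iff_nontrivial.mp (by omega)
  haveI : IsSimpleGroup (G ⧸ K) := CfsgLib.AEightSub.simple_of_sixty (fun hs => by
    haveI := hs
    exact absurd (hperfQ K) (Group.IsSolvable.commutator_lt_top_of_nontrivial (G ⧸ K)).ne) hR
  -- the odd core lies in `K`
  haveI hOn : (Cfsg.oddCore G).Normal := CfsgLib.Transfer.pPrimeCore_normal 2 G
  have hOodd : Odd (Nat.card (Cfsg.oddCore G)) :=
    Nat.coprime_two_left.mp (CfsgLib.Transfer.pPrimeCore_coprime (G := G) 2).symm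
  have hOK : Cfsg.oddCore G ≤ K := by
    have hn : ((Cfsg.oddCore G).map (QuotientGroup.mk' K)).Normal :=
      hOn.map _ (QuotientGroup.mk'_surjective K)
    rcases hn.eq_bot_or_eq_top with h | h
    · rwa [Subgroup.map_eq_bot_iff, QuotientGroup.ker_mk'] at h
    · exfalso
      have hd : Nat.card ((Cfsg.oddCore G).map (QuotientGroup.mk' K)) ∣ Nat.card (Cfsg.oddCore G) :=
        Subgroup.card_map_dvd _ _
      rw [h, Subgroup.card_top, hR] at hd
      rw [Nat.odd_iff] at hOodd
      omega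
  -- a Sylow subgroup through `u`
  have hu4 : u ^ 4 = 1 := by
    have huC : u ∈ Subgroup.centralizer ({u} : Set G) := Subgroup.mem_centralizer_singleton_iff.mpr rfl
    have := pow_card_eq_one' (x := (⟨u, huC⟩ : Subgroup.centralizer ({u} : Set G)))
    rw [hC] at this
    exact congrArg Subtype.val this
  have hord : orderOf u ∣ 2 ^ 2 := orderOf_dvd_of_pow_eq_one hu4
  obtain ⟨T, hT⟩ := (CfsgLib.Transfer.isPGroup_zpowers (p := 2) (x := u) (by
    obtain ⟨k, -, hk⟩ := (Nat.dvd_prime_pow Nat.prime_two).mp hord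
    exact ⟨k, hk⟩)).exists_le_sylow
  have huT : u ∈ (T : Subgroup G) := hT (Subgroup.mem_zpowers u)
  have hrel : K.relIndex (T : Subgroup G) = 4 := by
    have h1 : K.relIndex (T : Subgroup G) ∣ 60 := hidx ▸ Subgroup.relIndex_dvd_index_of_normal _ _
    obtain ⟨k, hk⟩ := T.isPGroup'.exists_card_eq
    have h2 : K.relIndex (T : Subgroup G) ∣ 2 ^ k := hk ▸ Subgroup.relIndex_dvd_card _ _
    obtain ⟨j, -, hj⟩ := (Nat.dvd_prime_pow Nat.prime_two).mp h2
    have h3 : K.relIndex (K ⊔ (T : Subgroup G)) * (K ⊔ (T : Subgroup G)).index = 60 :=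
      hidx ▸ Subgroup.relIndex_mul_index le_sup_left
    rw [Subgroup.relIndex_sup_left] at h3
    have h4 : ¬ 2 ∣ (K ⊔ (T : Subgroup G)).index := fun h =>
      T.not_dvd_index (h.trans (Subgroup.index_dvd_of_le le_sup_right))
    rw [hj] at h1 h3 ⊢
    have hj3 : j < 3 := by
      by_contra hlt
      obtain ⟨i, rfl⟩ := Nat.exists_eq_add_of_le (not_lt.mp hlt)
      rw [pow_add] at h1
      exact absurd (dvd_trans (dvd_mul_right _ _) h1) (by norm_num)
    interval_cases j <;> omega
  have hcard : 4 * Nat.card ↥(K ⊓ (T : Subgroup G)) = Nat.card T := by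
    have h := (K.subgroupOf (T : Subgroup G)).card_mul_index
    rw [show (K.subgroupOf (T : Subgroup G)).index = 4 from hrel] at h
    have e : Nat.card (K.subgroupOf (T : Subgroup G)) = Nat.card ↥(K ⊓ (T : Subgroup G)) := by
      rw [← Subgroup.inf_subgroupOf_right,
        Nat.card_congr (Subgroup.subgroupOfEquivOfLe inf_le_right).toEquiv]
    rw [e] at h
    omega
  obtain ⟨eA⟩ := Cfsg.Agent.S0494.result hR
  have hsq : ∀ x ∈ (T : Subgroup G), x * x ∈ K := by
    intro x hx
    set q : G ⧸ K := QuotientGroup.mk x with hq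
    suffices h : q * q = 1 by
      rw [← QuotientGroup.eq_one_iff, QuotientGroup.mk_mul]; exact h
    have hd4 : orderOf q ∣ 4 := by
      obtain ⟨k, hk⟩ := T.isPGroup' ⟨x, hx⟩
      have h1 : orderOf q ∣ 2 ^ k := orderOf_dvd_of_pow_eq_one (by
        rw [hq, ← QuotientGroup.mk_pow, QuotientGroup.eq_one_iff,
          show x ^ 2 ^ k = 1 from congrArg Subtype.val hk]
        exact one_mem K)
      have h2 : orderOf q ∣ 60 := hR ▸ orderOf_dvd_natCard q
      obtain ⟨j, -, hj⟩ := (Nat.dvd_prime_pow Nat.prime_two).mp h1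
      rw [hj] at h2 ⊢
      have hj3 : j < 3 := by
        by_contra hlt
        obtain ⟨i, rfl⟩ := Nat.exists_eq_add_of_le (not_lt.mp hlt)
        rw [pow_add] at h2
        exact absurd (dvd_trans (dvd_mul_right _ _) h2) (by norm_num)
      interval_cases j <;> norm_num
    have h4 : q * q * (q * q) = 1 := by
      have := orderOf_dvd_iff_pow_eq_one.mp hd4
      simpa [pow_succ, mul_assoc] using this
    have := alt_five_sq (eA q : Equiv.Perm (Fin 5)) (Equiv.Perm.mem_alternatingGroup.mp (eA q).2)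
      (by simpa [← Subgroup.coe_mul, ← map_mul] using congrArg (fun r => (eA r : Equiv.Perm (Fin 5))) h4)
    rw [← Subgroup.coe_mul, ← map_mul, OneMemClass.coe_eq_one] at this
    exact (map_eq_one_iff eA eA.injective).mp this
  obtain ⟨y, hyT, hy, huy⟩ : ∃ y ∈ (T : Subgroup G), y ∉ K ∧ u * y ∉ K := by
    by_contra hno
    push Not at hno
    have hle : K.relIndex (T : Subgroup G) ≤ 2 := by
      classical
      refine le_trans (Nat.card_le_card_of_injective
        (fun r : (T : Subgroup G) ⧸ K.subgroupOf (T : Subgroup G) => decide ((r.out : G) ∈ K)) ?_)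
        (le_of_eq (by simp))
      intro r s h
      rw [← QuotientGroup.out_eq' r, ← QuotientGroup.out_eq' s]
      refine QuotientGroup.eq.mpr ?_
      show (r.out : G)⁻¹ * (s.out : G) ∈ K
      simp only [decide_eq_decide] at h
      by_cases hr : (r.out : G) ∈ K
      · exact mul_mem (inv_mem hr) (h.mp hr)
      · have hs : (s.out : G) ∉ K := fun hs => hr (h.mpr hs)
        have h1 := hno _ r.out.2 hr
        have h2 := hno _ s.out.2 hs
        rw [show (r.out : G)⁻¹ * (s.out : G) = (u * r.out)⁻¹ * (u * s.out) by group]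
        exact mul_mem (inv_mem h1) h2
    omega
  rcases (show orderOf u = 2 ∨ orderOf u = 4 by
    obtain ⟨k, hk, hk'⟩ := (Nat.dvd_prime_pow Nat.prime_two).mp hord
    interval_cases k
    · exact absurd (orderOf_eq_one_iff.mp hk') hu
    · exact Or.inl hk'
    · exact Or.inr hk') with ho | ho
  · have hu2 : u * u = 1 := by rw [← pow_two, ← ho, pow_orderOf_eq_one]
    obtain ⟨hKodd, hinv⟩ := case_two K hidx hu2 huK hC hconj T huT hcard hyT hy huy hsq
    have hO : Cfsg.oddCore G = K := le_antisymm hOK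
      (CfsgLib.Transfer.le_pPrimeCore hKn (Nat.coprime_comm.mp (Nat.coprime_two_left.mpr hKodd)))
    refine ⟨⟨⟨fun a b => Subtype.ext ?_⟩⟩, Or.inl ⟨?_, ho⟩⟩
    · have ha : (a : G) ∈ K := hO ▸ a.2
      have hb : (b : G) ∈ K := hO ▸ b.2
      show (a : G) * b = b * a
      have h := hinv _ (mul_mem ha hb)
      rw [show u * ((a : G) * b) * u⁻¹ = (u * a * u⁻¹) * (u * b * u⁻¹) by group, hinv _ ha, hinv _ hb,
        mul_inv_rev] at h
      calc (a : G) * b = ((b : G)⁻¹ * (a : G)⁻¹)⁻¹ := by group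
        _ = b * a := by rw [← h]; group
    · obtain ⟨e⟩ := iso_five hR
      exact ⟨(QuotientGroup.quotientMulEquivOfEq hO).trans e⟩
  · obtain ⟨⟨m, hm, hKm⟩, hfree⟩ := case_four K hidx ho huK huu hC hconj T huT hcard hyT hy huy hsq
    set O := Cfsg.oddCore G with hOdef
    -- the odd core has index two in `K`
    have hOm : Nat.card O = m := by
      have h1 : Nat.card O ∣ 2 * m := hKm ▸ Subgroup.card_dvd_of_le hOK
      have h2 : Nat.card O ∣ m := (Nat.Coprime.dvd_of_dvd_mul_left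
        (Nat.coprime_two_right.mpr hOodd) h1)
      refine Nat.dvd_antisymm h2 ?_
      obtain ⟨N, hNn, -, hNc, -⟩ := exists_half K hm hKm
      have hNO : N ≤ O := CfsgLib.Transfer.le_pPrimeCore hNn (by
        rw [hNc]; exact Nat.coprime_comm.mp (Nat.coprime_two_left.mpr hm))
      exact hNc ▸ Subgroup.card_dvd_of_le hNO
    have hrelO : O.relIndex K = 2 := by
      have h := (O.subgroupOf K).card_mul_index
      rw [Nat.card_congr (Subgroup.subgroupOfEquivOfLe hOK).toEquiv, hOm, hKm] at h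
      have := hm.pos
      exact Nat.eq_of_mul_eq_mul_left this (by rw [mul_comm m 2]; exact h)
    have hzO : u * u ∉ O := fun h => by
      have h1 : orderOf (u * u) ∣ Nat.card O := Subgroup.orderOf_dvd_natCard O h
      rw [← pow_two, orderOf_pow' u two_ne_zero, ho, show 4 / Nat.gcd 4 2 = 2 from rfl] at h1
      rw [Nat.odd_iff] at hOodd
      omega
    have hzconj : ∀ g : G, g * (u * u) * g⁻¹ * (u * u)⁻¹ ∈ O := by
      intro g
      have hg : g * (u * u) * g⁻¹ ∈ K := Subgroup.Normal.conj_mem inferInstance _ huu g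
      have hg' : g * (u * u) * g⁻¹ ∉ O := fun h => hzO (by
        have := hOn.conj_mem _ h g⁻¹
        simpa [mul_assoc] using this)
      have key := (Subgroup.mul_mem_iff_of_index_two (H := O.subgroupOf K) hrelO
        (a := ⟨_, hg⟩) (b := (⟨u * u, huu⟩ : K)⁻¹)).mpr
      exact key ⟨fun h => absurd h hg', fun h => absurd ((Subgroup.inv_mem_iff _).mp h) hzO⟩
    refine ⟨⟨⟨fun a b => Subtype.ext ?_⟩⟩, Or.inr ⟨?_, ho⟩⟩
    · have hzz : (u * u) * (u * u) = 1 := by
        have := pow_orderOf_eq_one u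
        rw [ho] at this
        simpa [pow_succ, mul_assoc] using this
      have hinv : ∀ c ∈ O, u * u * c * (u * u)⁻¹ = c⁻¹ := inverts O (u * u)
        (fun c hc => hOn.conj_mem c hc _)
        (fun c _ => by
          rw [inv_eq_of_mul_eq_one_right hzz]
          simp only [← mul_assoc]
          rw [show u * u * u * u = 1 by simpa only [mul_assoc] using hzz, one_mul,
            mul_assoc c, mul_assoc c, mul_assoc c,
            show u * u * u * u = 1 by simpa only [mul_assoc] using hzz, mul_one])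
        fun c hc he => hfree c (hOK hc)
          (Odd.of_dvd_nat hOodd (Subgroup.orderOf_dvd_natCard O hc))
          (mul_inv_eq_iff_eq_mul.mp he).symm
      show (a : G) * b = b * a
      have h := hinv _ (mul_mem a.2 b.2)
      rw [show u * u * ((a : G) * b) * (u * u)⁻¹ =
        (u * u * a * (u * u)⁻¹) * (u * u * b * (u * u)⁻¹) by group, hinv _ a.2, hinv _ b.2,
        mul_inv_rev] at h
      calc (a : G) * b = ((b : G)⁻¹ * (a : G)⁻¹)⁻¹ := by group
        _ = b * a := by rw [← h]; group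
    · refine CfsgLib.PerfectCompl.iso_SL25 (hperfQ O) ?_ (z := ((u * u : G) : G ⧸ O)) ?_ ?_
      · have h := Subgroup.relIndex_mul_index hOK
        rw [hrelO, hidx] at h
        exact h.symm
      · refine orderOf_eq_prime ?_ fun h => hzO ((QuotientGroup.eq_one_iff _).mp h)
        rw [← QuotientGroup.mk_pow, QuotientGroup.eq_one_iff]
        have := pow_orderOf_eq_one u
        rw [ho] at this
        rw [← pow_two, ← pow_mul, this]
        exact one_mem O
      · intro q
        induction q using QuotientGroup.induction_on with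
        | H g =>
          rw [commute_iff_eq, ← QuotientGroup.mk_mul, ← QuotientGroup.mk_mul, eq_comm, QuotientGroup.eq]
          have h := hzconj g⁻¹
          generalize u * u = z at h ⊢
          rw [show (g * z)⁻¹ * (z * g) = z⁻¹ * (g⁻¹ * z * g⁻¹⁻¹ * z⁻¹) * z⁻¹⁻¹ by group]
          exact hOn.conj_mem _ h z⁻¹

end Cfsg.Agent.S4758
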