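import Cfsg.Statements.S4759
import Cfsg.Agent.Lib.SpinExt.Solvable

set_option autoImplicit false
open Cfsg CfsgLib

namespace Cfsg.Agent.S4759

/-- Let G be a finite group that is the semidirect product of a normal extraspecial 2-subgroup E and a complement H acting faithfully on E (no non-identity element of H centralizes E), and suppose H has a normal subgroup K of odd order with [E, K] = E. Then every faithful irreducible character θ of E (there is exactly one) extends to G: some irreducible character of G restricts to θ on E. -/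
theorem result {G : Type*} [Group G] [Finite G] (E H : Subgroup G) [E.Normal] (hE : Cfsg.IsExtraspecial 2 ↥E) (hEH : E ⊓ H = ⊥) (hEHtop : E ⊔ H = ⊤) (hfaith : ∀ h ∈ H, (∀ e ∈ E, h * e = e * h) → h = 1) (K : Subgroup G) (hKH : K ≤ H) (hKn : ∀ h ∈ H, ∀ k ∈ K, h * k * h⁻¹ ∈ K) (hKodd : Odd (Nat.card ↥K)) (hEK : ⁅E, K⁆ = E) (θ : Cfsg.IrrCharacter ↥E) (hθ : ∀ e : ↥E, (θ : ↥E → ℂ) e = (θ : ↥E → ℂ) 1 → e = 1) : ∃ χ : Cfsg.IrrCharacter G, ∀ e : ↥E, (χ : G → ℂ) e = (θ : ↥E → ℂ) e := by
  classical
  haveI : Fact (Nat.Prime 2) := ⟨Nat.prime_two⟩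
  obtain ⟨z, hsp⟩ := SpinExt.exists_sp E hE
  have hKE : ∀ e ∈ E, (∀ k ∈ K, Commute e k) → e = 1 ∨ e = z := by
    intro e he hek
    refine hsp.center e he fun b hb => ?_
    have hle : E ≤ Subgroup.centralizer ({e} : Set G) := by
      conv_lhs => rw [← hEK]
      rw [Subgroup.commutator_le]
      intro f hf k hk
      rw [Subgroup.mem_centralizer_singleton_iff, commutatorElement_def]
      exact (SpinExt.commute_comm hsp hf he (hek k hk)
        (mul_inv_eq_iff_eq_mul.mp (hsp.conj_z (Subgroup.le_normalizer_of_normal (show k ∈ K from hk))))).symm.eq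
    exact (Subgroup.mem_centralizer_singleton_iff.mp (hle hb)).symm
  have hcommz : ∃ a b : E, a * b * a⁻¹ * b⁻¹ = ⟨z, hsp.mem⟩ := by
    obtain ⟨a, ha, b, hb, hab⟩ := hsp.exists_not_commute
    refine ⟨⟨a, ha⟩, ⟨b, hb⟩, Subtype.ext ((hsp.comm a ha b hb).resolve_left fun e => hab ?_)⟩
    rw [mul_inv_eq_one, mul_inv_eq_iff_eq_mul] at e
    exact e
  have h1 : (θ : ↥E → ℂ) 1 ≠ 1 := by
    intro h1
    obtain ⟨a, b, hab⟩ := hcommz
    let f := Char.linearHom (Char.isCharacter_of_isIrr θ.2) h1
    have h2 : f (a * b * a⁻¹ * b⁻¹) = 1 := by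
      rw [map_mul, map_mul, map_mul, map_inv, map_inv]
      rw [mul_comm (f a) (f b), mul_inv_cancel_right, mul_inv_cancel]
    rw [hab] at h2
    have h3 : (θ : ↥E → ℂ) ⟨z, hsp.mem⟩ = (θ : ↥E → ℂ) 1 := by
      rw [h1]
      exact congrArg Units.val h2
    exact hsp.ne_one (congrArg Subtype.val (hθ _ h3))
  obtain ⟨hcard, hθeq⟩ := hsp.irr_eq θ.2 h1
  have hinv : ∀ g : G, Char.conjBy E (θ : ↥E → ℂ) g = (θ : ↥E → ℂ) := by
    intro g
    funext n
    rw [Char.conjBy_apply, hθeq]
    exact hsp.spin_conj (hsp.conj_z (by rw [Subgroup.normalizer_eq_top]; trivial)) rfl _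
  obtain ⟨χ, hχ, hres⟩ := Char.extends_of_sylow E θ.2 hinv fun p hp _ => by
    haveI := Fact.mk hp
    obtain ⟨S⟩ : Nonempty (Sylow p H) := inferInstance
    set X : Subgroup G := (S : Subgroup H).map H.subtype with hX
    have hXH : X ≤ H := Subgroup.map_subtype_le _
    have hXE : X ≤ Subgroup.normalizer (E : Set G) := Subgroup.le_normalizer_of_normal
    have hdX : E ⊓ X = ⊥ := eq_bot_iff.mpr ((inf_le_inf_left E hXH).trans hEH.le)
    have hcX : Nat.card ↥(E ⊔ X) = Nat.card E * Nat.card X :=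
      Coprime.card_sup_of_normalizer hXE hdX
    have hidx : (E ⊔ X).index = (S : Subgroup H).index := by
      have h2 : Nat.card G = Nat.card E * Nat.card H := by
        rw [← Coprime.card_sup_of_normalizer Subgroup.le_normalizer_of_normal hEH, hEHtop,
          Subgroup.card_top]
      have h3 := (E ⊔ X).card_mul_index
      rw [hcX, h2, ← (S : Subgroup H).card_mul_index, hX,
        Subgroup.card_map_of_injective H.subtype_injective, mul_assoc] at h3
      exact Nat.eq_of_mul_eq_mul_left Nat.card_pos (Nat.eq_of_mul_eq_mul_left Nat.card_pos h3)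
    have hnd : ¬ p ∣ (E ⊔ X).index := hidx ▸ S.not_dvd_index
    by_cases hp2 : p = 2
    · subst hp2
      obtain ⟨η, hη⟩ := SpinExt.exists_extn_of_solvable _ G z E H K rfl hsp inferInstance hEH
        hfaith hKH hKn hKodd hKE X hXH (S.isPGroup'.map _)
      exact ⟨E ⊔ X, le_sup_left, fun g => η g, hnd, hη.1,
        fun n => by rw [hθeq]; exact hη.2 n n.2⟩
    · haveI : (E.subgroupOf (E ⊔ X)).Normal :=
        Subgroup.normal_subgroupOf_of_le_normalizer (sup_le Subgroup.le_normalizer hXE)
      let θ' : ↥(E.subgroupOf (E ⊔ X)) → ℂ := fun n => SpinExt.spin z E ((n : ↥(E ⊔ X)) : G)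
      have hθ' : IsIrrCharacter ↥(E.subgroupOf (E ⊔ X)) θ' :=
        Blocks.isIrrCharacter_comp_of_surjective hsp.spin_irr.1
          (Subgroup.subgroupOfEquivOfLe (le_sup_left : E ≤ E ⊔ X)).toMonoidHom
          (Subgroup.subgroupOfEquivOfLe (le_sup_left : E ≤ E ⊔ X)).surjective
      obtain ⟨χ, hχ, hres⟩ := Char.extends_of_det (E.subgroupOf (E ⊔ X)) hθ'
        (fun g => by
          funext n
          rw [Char.conjBy_apply]
          exact hsp.spin_conj (hsp.conj_z (by rw [Subgroup.normalizer_eq_top]; trivial)) rfl _)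
        (SpinExt.deg E) 2 (by simp [θ', SpinExt.spin]) 1
        (fun n => by
          obtain ⟨f, hf⟩ := Char.exists_det_hom (Char.isCharacter_of_isIrr hθ')
          rw [hf, MonoidHom.one_apply, Units.val_one, ← Units.val_pow_eq_pow_val, ← map_pow]
          symm
          rw [Units.val_eq_one]
          let e := Subgroup.subgroupOfEquivOfLe (le_sup_left : E ≤ E ⊔ X)
          have hsq : ∀ v : ↥E, (f.comp e.symm.toMonoidHom) (v ^ 2) = 1 := by
            intro v
            rcases hsp.sq v v.2 with hv | hv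
            · rw [show v ^ 2 = 1 from Subtype.ext (by rw [pow_two]; exact hv), map_one]
            · obtain ⟨a, b, hab⟩ := hcommz
              rw [show v ^ 2 = a * b * a⁻¹ * b⁻¹ from hab.symm ▸
                Subtype.ext (by rw [pow_two]; exact hv), map_mul, map_mul, map_mul, map_inv, map_inv]
              rw [mul_comm ((f.comp e.symm.toMonoidHom) a) ((f.comp e.symm.toMonoidHom) b),
                mul_inv_cancel_right, mul_inv_cancel]
          have := hsq (e n)
          rwa [← map_pow, MonoidHom.comp_apply, MulEquiv.coe_toMonoidHom,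
            MulEquiv.symm_apply_apply] at this)
        (by
          obtain ⟨i, hi⟩ := IsPGroup.iff_card.mp ((S.isPGroup'.map _ : IsPGroup p ↥X))
          obtain ⟨j, hj⟩ := IsPGroup.iff_card.mp hsp.isPGroup
          have h4 : (E.subgroupOf (E ⊔ X)).index = Nat.card X := by
            have h5 := (E.subgroupOf (E ⊔ X)).card_mul_index
            rw [Nat.card_congr (Subgroup.subgroupOfEquivOfLe (le_sup_left : E ≤ E ⊔ X)).toEquiv,
              hcX] at h5
            exact Nat.eq_of_mul_eq_mul_left Nat.card_pos h5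
          rw [h4, hi]
          refine Nat.Coprime.coprime_dvd_right (show SpinExt.deg E * 2 ∣ Nat.card E from
            ⟨SpinExt.deg E, by rw [hsp.spin_irr.2.1]; ring⟩) ?_
          rw [hj]
          exact ((Nat.coprime_primes hp Nat.prime_two).mpr hp2).pow i j)
      exact ⟨E ⊔ X, le_sup_left, χ, hnd, Char.isCharacter_of_isIrr hχ, fun n => by
        rw [hθeq]; exact hres ⟨⟨n, Subgroup.mem_sup_left n.2⟩, n.2⟩⟩
  exact ⟨⟨χ, hχ⟩, hres⟩

end Cfsg.Agent.S4759
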