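import Cfsg.Statements.S4762
import Cfsg.Agent.Lib.Char.Extraspecial

set_option autoImplicit false
open Cfsg

namespace Cfsg.Agent.S4762

open CfsgLib.Char
open scoped CfsgLib.Char

/-- Let p be a prime and G a finite nilpotent group. Then G has exactly one irreducible complex character of degree divisible by p if and only if p = 2 and G is an extraspecial 2-group. -/
theorem result {G : Type*} [Group G] [Finite G] [Group.IsNilpotent G] (p : ℕ) [Fact p.Prime] : Nat.card {χ : Cfsg.IrrCharacter G // p ∣ Cfsg.charDegree (χ : G → ℂ)} = 1 ↔ (p = 2 ∧ Cfsg.IsExtraspecial 2 G) := by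
  classical
  haveI : Fintype G := Fintype.ofFinite G
  constructor
  · intro hcard
    obtain ⟨⟨hsub⟩, ⟨⟨χ, hχp⟩⟩⟩ := Nat.card_eq_one_iff_unique.mp hcard
    exact CfsgLib.Char.Extraspecial.of_unique p χ hχp
      (fun ψ hψ => congrArg Subtype.val (hsub ⟨ψ, hψ⟩ ⟨χ, hχp⟩))
  · rintro ⟨rfl, hE⟩
    obtain ⟨hN, m, hm0, hcm, hdeg⟩ := CfsgLib.Char.Extraspecial.card_nonlinear hE
    rw [← show Nat.card {χ : Cfsg.IrrCharacter G // (χ : G → ℂ) 1 ≠ 1} = 1 from hN]
    refine Nat.card_congr (Equiv.subtypeEquivRight fun χ => ⟨fun h h1 => ?_, fun h => ?_⟩)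
    · rw [CfsgLib.Char.Extraspecial.charDegree_eq (d := 1) (by rw [h1, Nat.cast_one])] at h
      norm_num at h
    · obtain ⟨h1, h2⟩ := hdeg χ h
      rw [CfsgLib.Char.Extraspecial.charDegree_eq h1]
      have h3 : m ∣ 2 * (m * m) := ⟨2 * m, by ring⟩
      obtain ⟨k, hk⟩ := IsPGroup.iff_card.mp hE.1.1
      obtain ⟨j, -, rfl⟩ := (Nat.dvd_prime_pow Nat.prime_two).mp (hk ▸ hcm ▸ h3)
      rcases j with _ | j
      · norm_num at h2
      · exact ⟨2 ^ j, by ring⟩

end Cfsg.Agent.S4762
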