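import Cfsg.Statements.S4763
import Cfsg.Agent.Lib.Char.GlaubermanClasses
import Cfsg.Agent.Lib.Char.PResidual
import Cfsg.Agent.Lib.Char.PowerExtension
import Cfsg.Agent.Lib.Char.Gallagher
import Cfsg.Agent.Lib.Char.AbelianQuotient
import Cfsg.Agent.Lib.Char.Kernel
import Cfsg.Agent.Lib.Blocks.Covering
import Cfsg.Agent.Lib.Blocks.Inflate
import Cfsg.Agent.Lib.Transfer.Basic

set_option autoImplicit false
set_option linter.style.haveILetI false
open Cfsg
open CfsgLib
open scoped CfsgLib.Char ComplexConjugate commutatorElement Pointwise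

namespace Cfsg.Agent.S4763

/-- Let p be a prime and G a finite group that is not nilpotent and has a normal p-complement (a normal subgroup of order prime to p and index a power of p). If G has exactly one irreducible complex character of degree divisible by p, then G has exactly one conjugacy class whose size is divisible by p. -/
theorem result {G : Type*} [Group G] [Finite G] (p : ℕ) [Fact p.Prime] (hnil : ¬ Group.IsNilpotent G) (N : Subgroup G) [N.Normal] (hN : (Nat.card N).Coprime p) (hidx : ∃ k : ℕ, N.index = p ^ k) (hone : Nat.card {χ : Cfsg.IrrCharacter G // p ∣ Cfsg.charDegree (χ : G → ℂ)} = 1) : Nat.card {C : ConjClasses G // p ∣ Nat.card C.carrier} = 1 := by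
  classical
  have : Fintype G := Fintype.ofFinite G
  have hp : p.Prime := Fact.out
  obtain ⟨k, hk⟩ := hidx
  obtain ⟨P⟩ : Nonempty (Sylow p G) := inferInstance
  have hNp : ¬ p ∣ Nat.card N := (hp.coprime_iff_not_dvd).mp hN.symm
  have hQ : IsPGroup p (G ⧸ N) := IsPGroup.of_card (n := k) (by rw [← Subgroup.index_eq_card, hk])
  have hcompl := Transfer.isComplement'_sylow hN hQ P
  have hdisj : N ⊓ (P : Subgroup G) = ⊥ := disjoint_iff.mp hcompl.disjoint
  have hsup : (P : Subgroup G) ⊔ N = ⊤ := by rw [sup_comm]; exact hcompl.sup_eq_top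
  have hdec : ∀ g : G, ∃ a ∈ (P : Subgroup G), ∃ n ∈ N, a * n = g := fun g =>
    Subgroup.mem_sup_of_normal_right.mp (hsup ▸ Subgroup.mem_top g)
  have hPcard : Nat.card (P : Subgroup G) = p ^ k := by
    rw [← hk, hcompl.symm.index_eq_card]
  have hdegN : ∀ (χ : IrrCharacter G), ¬ p ∣ charDegree (χ : G → ℂ) →
      IsIrrCharacter N (fun n : N => (χ : G → ℂ) n) ∧
        ∀ g, Char.conjBy N (fun n : N => (χ : G → ℂ) n) g = fun n : N => (χ : G → ℂ) n :=
    fun χ h => Char.PResidual.restrict_irr N hk χ.2 (Blocks.irr_degree_eq χ).1 h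
  have hcop : N.index.Coprime (Nat.card N) := by rw [hk]; exact (hN.symm).pow_left k
  -- gallagher over an extension
  have hgal : ∀ (θ : IrrCharacter N), (∀ g, Char.conjBy N (θ : N → ℂ) g = θ) →
      ∀ {χ : G → ℂ}, IsIrrCharacter G χ → (∀ n : N, χ n = (θ : N → ℂ) n) →
      Set.BijOn (fun β : G → ℂ => β * χ)
        {β : G → ℂ | IsIrrCharacter G β ∧ classInner (indFun N (fun _ : N => (1 : ℂ))) β ≠ 0}
        {ψ : G → ℂ | IsIrrCharacter G ψ ∧
          classInner (indFun N ((fun _ : N => (1 : ℂ)) * (θ : N → ℂ))) ψ ≠ 0} := by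
    intro θ hθ χ hχ hext
    exact Char.gallagher N Char.isIrrCharacter_one (fun _ => rfl) hθ
      (by rw [show (fun _ : N => (1 : ℂ)) * (θ : N → ℂ) = θ from one_mul _]; exact θ.2) hχ hext
  have hmem1 : ∀ β : IrrCharacter G, (∀ n : N, (β : G → ℂ) n = (β : G → ℂ) 1) →
      (β : G → ℂ) ∈ {b : G → ℂ | IsIrrCharacter G b ∧
        classInner (indFun N (fun _ : N => (1 : ℂ))) b ≠ 0} := by
    intro β hβ
    refine ⟨β.2, ?_⟩
    rw [Char.frobenius_reciprocity N _ (Char.isClassFunction_irr β),
      show (fun n : N => (β : G → ℂ) n) = ((β : G → ℂ) 1) • fun _ : N => (1 : ℂ) from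
        funext fun n => by rw [hβ]; simp,
      Char.classInner_smul_right, Char.classInner_irr_self Char.isIrrCharacter_one, mul_one,
      Ne, map_eq_zero]
    exact Char.irr_degree_ne_zero β.2
  -- the Sylow subgroup is abelian
  have hPab : ∀ a ∈ (P : Subgroup G), ∀ b ∈ (P : Subgroup G), a * b = b * a := by
    by_contra hno
    have hnab : ¬ IsMulCommutative (G ⧸ N) := fun hc => hno fun a ha b hb => by
      refine commutatorElement_eq_one_iff_mul_comm.mp (Subgroup.mem_bot.mp (hdisj ▸
        Subgroup.mem_inf.mpr ⟨(QuotientGroup.eq_one_iff _).mp ?_, ?_⟩))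
      · show QuotientGroup.mk' N ⁅a, b⁆ = 1
        rw [map_commutatorElement, commutatorElement_eq_one_iff_mul_comm]
        exact mul_comm' _ _
      · rw [commutatorElement_def]
        exact mul_mem (mul_mem (mul_mem ha hb) (inv_mem ha)) (inv_mem hb)
    obtain ⟨η, hη⟩ : ∃ η : IrrCharacter (G ⧸ N), charDegree (η : G ⧸ N → ℂ) ≠ 1 := by
      by_contra hall
      push Not at hall
      refine hnab ⟨⟨fun a b => ?_⟩⟩
      refine commutatorElement_eq_one_iff_mul_comm.mp (Char.eq_one_of_forall_irr fun ψ => ?_)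
      have h1 : (ψ : G ⧸ N → ℂ) 1 = 1 := by
        rw [(Blocks.irr_degree_eq ψ).1, hall ψ, Nat.cast_one]
      have hψ := Char.isCharacter_of_isIrr ψ.2
      rw [h1, ← Char.linearHom_apply hψ h1, map_commutatorElement,
        commutatorElement_eq_one_iff_mul_comm.mpr (mul_comm _ _), Units.val_one]
    have hpη : p ∣ charDegree (η : G ⧸ N → ℂ) := by
      obtain ⟨d, hd, -, hdvd⟩ := Char.exists_degree_dvd_card η.2
      have hd' : charDegree (η : G ⧸ N → ℂ) = d := by
        rw [charDegree, hd, Complex.natCast_re, Nat.floor_natCast]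
      rw [hd'] at hη ⊢
      rw [← Subgroup.index_eq_card, hk] at hdvd
      obtain ⟨i, -, rfl⟩ := (Nat.dvd_prime_pow hp).mp hdvd
      exact dvd_pow_self p fun h => hη (by rw [h, pow_zero])
    let H : IrrCharacter G := Blocks.inflate (QuotientGroup.mk' N) (QuotientGroup.mk'_surjective N) η
    have hHd : charDegree (H : G → ℂ) = charDegree (η : G ⧸ N → ℂ) := by
      show ⌊((η : G ⧸ N → ℂ) (QuotientGroup.mk' N 1)).re⌋₊ = _
      rw [map_one]; rfl
    have hHN : ∀ n : N, (H : G → ℂ) n = (H : G → ℂ) 1 := fun n => by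
      show (η : G ⧸ N → ℂ) (QuotientGroup.mk' N (n : G)) = (η : G ⧸ N → ℂ) (QuotientGroup.mk' N 1)
      rw [show QuotientGroup.mk' N (n : G) = 1 from (QuotientGroup.eq_one_iff _).mpr n.2, map_one]
    have huniq : ∀ χ : IrrCharacter G, p ∣ charDegree (χ : G → ℂ) → χ = H := fun χ hχ => by
      obtain ⟨hsub, -⟩ := Nat.card_eq_one_iff_unique.mp hone
      exact congrArg Subtype.val (hsub.elim ⟨χ, hχ⟩ ⟨H, hHd ▸ hpη⟩)
    -- every character of the normal subgroup is trivial
    have htriv : ∀ θ : IrrCharacter N, ∀ n, (θ : N → ℂ) n = (θ : N → ℂ) 1 := by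
      intro θ
      by_contra hθ
      push Not at hθ
      obtain ⟨n₀, hn₀⟩ := hθ
      obtain ⟨χ, hχ⟩ := Blocks.exists_irr_above (N := N) θ
      have hχd : ¬ p ∣ charDegree (χ : G → ℂ) := by
        intro hd
        rw [huniq χ hd] at hχ
        refine hχ ?_
        rw [show (fun n : N => (H : G → ℂ) n) = ((H : G → ℂ) 1) • fun _ : N => (1 : ℂ) from
          funext fun n => by rw [hHN]; simp, Char.classInner_smul_left,
          Char.classInner_irr_ne Char.isIrrCharacter_one θ.2 fun e => hn₀ (by rw [← e]), mul_zero]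
      obtain ⟨hirr, hinv⟩ := hdegN χ hχd
      have hres : (fun n : N => (χ : G → ℂ) n) = (θ : N → ℂ) := by
        by_contra hne
        exact hχ (Char.classInner_irr_ne hirr θ.2 hne)
      have hmaps := (hgal θ (hres ▸ hinv) χ.2 (congrFun hres)).mapsTo (hmem1 H hHN)
      have hd : p ∣ charDegree (((H : G → ℂ) * (χ : G → ℂ))) := by
        rw [charDegree, Pi.mul_apply, (Blocks.irr_degree_eq H).1, (Blocks.irr_degree_eq χ).1,
          ← Nat.cast_mul, Complex.natCast_re, Nat.floor_natCast]
        exact dvd_mul_of_dvd_left (hHd ▸ hpη) _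
      have he := congrArg Subtype.val (huniq ⟨_, hmaps.1⟩ hd)
      have h1 := congrFun he (n₀ : G)
      have h2 := congrFun he 1
      simp only [Pi.mul_apply, hHN n₀] at h1 h2
      have h3 := h1.trans h2.symm
      have h4 := mul_left_cancel₀ (Char.irr_degree_ne_zero H.2) h3
      exact hn₀ (by rw [← hres]; exact h4)
    refine hnil ?_
    have hbot : N = ⊥ := (Subgroup.eq_bot_iff_forall N).mpr fun n hn =>
      congrArg Subtype.val (Char.eq_one_of_forall_irr (g := (⟨n, hn⟩ : N)) fun θ => htriv θ _)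
    exact (IsPGroup.of_card (n := k) (by
      rw [← hk, hbot, Subgroup.index_bot])).isNilpotent
  -- the fixed points
  have hPN : (P : Subgroup G) ≤ Subgroup.normalizer (N : Set G) := by
    rw [Subgroup.normalizer_eq_top_iff.mpr inferInstance]; exact le_top
  have hcopP : (Nat.card N).Coprime (Nat.card (P : Subgroup G)) := by
    rw [hPcard]; exact hN.pow_right k
  set C := Char.Glauberman.fix N (P : Subgroup G) with hC
  have : Fintype C := Fintype.ofFinite C
  obtain ⟨F, hF, -⟩ := Char.Glauberman.hasCorr_of_isPGroup hp (G := N) (Nat.card (P : Subgroup G))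
    (P : Subgroup G) rfl hPN P.2 hcopP C inf_le_left rfl
  have hquot : ∀ a b : G ⧸ N, a * b = b * a := by
    intro a b
    obtain ⟨g, rfl⟩ := QuotientGroup.mk'_surjective N a
    obtain ⟨h, rfl⟩ := QuotientGroup.mk'_surjective N b
    obtain ⟨u, hu, n, hn, rfl⟩ := hdec g
    obtain ⟨v, hv, m, hm, rfl⟩ := hdec h
    simp only [map_mul, show QuotientGroup.mk' N n = 1 from (QuotientGroup.eq_one_iff n).mpr hn,
      show QuotientGroup.mk' N m = 1 from (QuotientGroup.eq_one_iff m).mpr hm, mul_one]
    rw [← map_mul, ← map_mul, hPab u hu v hv]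
  -- characters of degree prime to `p`
  have hirrcount : Nat.card {χ : IrrCharacter G // ¬ p ∣ charDegree (χ : G → ℂ)} =
      Nat.card (ConjClasses C) * p ^ k := by
    have hinvP : ∀ θ : IrrCharacter N, Char.Glauberman.Inv N (P : Subgroup G) (θ : N → ℂ) →
        ∀ g, Char.conjBy N (θ : N → ℂ) g = θ := by
      intro θ h g
      funext n
      obtain ⟨a, ha, u, hu, rfl⟩ := hdec g
      refine Eq.trans ?_ (Char.isClassFunction_irr θ n ⟨u, hu⟩)
      refine h a ha _ _ ?_
      show a * u * (n : G) * (a * u)⁻¹ = a * (u * (n : G) * u⁻¹) * a⁻¹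
      group
    let f : {χ : IrrCharacter G // ¬ p ∣ charDegree (χ : G → ℂ)} →
        {θ : IrrCharacter N // Char.Glauberman.Inv N (P : Subgroup G) (θ : N → ℂ)} :=
      fun χ => ⟨⟨_, (hdegN χ.1 χ.2).1⟩, fun s _ g g' e => by
        show (χ.1 : G → ℂ) (g' : G) = (χ.1 : G → ℂ) g
        rw [e, Char.isClassFunction_irr χ.1]⟩
    have hfib : ∀ θ, Nat.card {χ // f χ = θ} = p ^ k := by
      rintro ⟨θ, hθ⟩
      have hinv := hinvP θ hθ
      obtain ⟨χ₀, hχ₀, hχ₀θ, -⟩ := Char.exists_power_extension N θ.2 hinv hcop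
      letI : CommGroup (G ⧸ N) := { (inferInstance : Group (G ⧸ N)) with mul_comm := hquot }
      have hθd : ¬ p ∣ charDegree (θ : N → ℂ) := by
        obtain ⟨d, hd, -, hdvd⟩ := Char.exists_degree_dvd_card θ.2
        intro hc
        rw [charDegree, hd, Complex.natCast_re, Nat.floor_natCast] at hc
        exact hNp (hc.trans hdvd)
      have hc0 := Char.isCharacter_of_isIrr hχ₀
      let mkX : ((G ⧸ N) →* ℂˣ) → IrrCharacter G := fun β =>
        ⟨fun g => ((β (QuotientGroup.mk' N g) : ℂˣ) : ℂ) * χ₀ g,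
          Char.isIrrCharacter_linear_mul hχ₀ (β.comp (QuotientGroup.mk' N))⟩
      have hmkN : ∀ β (n : N), (mkX β : G → ℂ) n = (θ : N → ℂ) n := fun β n => by
        show ((β (QuotientGroup.mk' N (n : G)) : ℂˣ) : ℂ) * χ₀ n = _
        rw [show QuotientGroup.mk' N (n : G) = 1 from (QuotientGroup.eq_one_iff _).mpr n.2, map_one,
          Units.val_one, one_mul, hχ₀θ]
      have hmkd : ∀ β, ¬ p ∣ charDegree (mkX β : G → ℂ) := fun β => by
        rw [show charDegree (mkX β : G → ℂ) = charDegree (θ : N → ℂ) by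
          simp only [charDegree]
          rw [← OneMemClass.coe_one N, hmkN]]
        exact hθd
      refine (Nat.card_congr (Equiv.ofBijective (fun β : (G ⧸ N) →* ℂˣ =>
        (⟨⟨mkX β, hmkd β⟩, Subtype.ext (Subtype.ext (funext (hmkN β)))⟩ :
          {χ // f χ = ⟨θ, hθ⟩})) ⟨?_, ?_⟩)).symm.trans ?_
      · intro β β' h
        have h1 : (mkX β : G → ℂ) = (mkX β' : G → ℂ) :=
          congrArg (fun χ : {χ // f χ = ⟨θ, hθ⟩} => (χ.1.1 : G → ℂ)) h
        have hg : ∀ b : (G ⧸ N) →* ℂˣ, (fun g => ((b (QuotientGroup.mk' N g) : ℂˣ) : ℂ)) ∈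
            {b : G → ℂ | IsIrrCharacter G b ∧ classInner (indFun N (fun _ : N => (1 : ℂ))) b ≠ 0} :=
          fun b => hmem1 ⟨_, Char.isIrrCharacter_monoidHom (b.comp (QuotientGroup.mk' N))⟩ fun n => by
            show ((b (QuotientGroup.mk' N (n : G)) : ℂˣ) : ℂ) = ((b (QuotientGroup.mk' N 1) : ℂˣ) : ℂ)
            rw [show QuotientGroup.mk' N (n : G) = 1 from (QuotientGroup.eq_one_iff _).mpr n.2,
              map_one (QuotientGroup.mk' N), map_one]
        have h2 := (hgal θ hinv hχ₀ hχ₀θ).injOn (hg β) (hg β') h1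
        refine MonoidHom.ext fun q => ?_
        obtain ⟨g, rfl⟩ := QuotientGroup.mk'_surjective N q
        exact Units.ext (congrFun h2 g)
      · rintro ⟨⟨χ, hχd⟩, hχ⟩
        have hχN : ∀ n : N, (χ : G → ℂ) n = (θ : N → ℂ) n := fun n =>
          congrFun (congrArg (fun t : {θ : IrrCharacter N // _} => (t.1 : N → ℂ)) hχ) n
        obtain ⟨b, hbN, hb⟩ := Char.extensions_differ N θ.2 hχ₀ χ.2 hχ₀θ hχN
        exact ⟨QuotientGroup.lift N b fun n hn => hbN ⟨n, hn⟩,
          Subtype.ext (Subtype.ext (Subtype.ext hb.symm))⟩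
      · rw [Char.card_hom_units, ← Subgroup.index_eq_card, hk]
    have : Fintype {θ : IrrCharacter N // Char.Glauberman.Inv N (P : Subgroup G) (θ : N → ℂ)} :=
      Fintype.ofFinite _
    rw [Nat.card_congr (Equiv.sigmaFiberEquiv f).symm, Nat.card_sigma,
      Finset.sum_congr rfl fun θ _ => hfib θ, Finset.sum_const, Finset.card_univ, smul_eq_mul,
      ← Nat.card_eq_fintype_card, Nat.card_congr (Equiv.ofBijective F hF),
      Char.card_irr_eq_card_conjClasses]
  -- classes of size prime to `p`
  have hsize : ∀ g : G, Nat.card (ConjClasses.mk g).carrier =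
      (Subgroup.centralizer ({g} : Set G)).index := by
    intro g
    rw [← Char.card_isConj_eq_index]
    exact Nat.card_congr (Equiv.subtypeEquivRight fun x => by
      rw [ConjClasses.mem_carrier_iff_mk_eq, ConjClasses.mk_eq_mk_iff_isConj])
  have hcent : ∀ (c : C) (z : (P : Subgroup G)), (c : G) * z = z * c := fun c z =>
    (Subgroup.mem_centralizer_iff.mp (Subgroup.mem_inf.mp c.2).2 _ z.2).symm
  let Φ : ConjClasses C × (P : Subgroup G) → {K : ConjClasses G // ¬ p ∣ Nat.card K.carrier} :=
    fun x => ⟨Quotient.liftOn x.1 (fun c : C => ConjClasses.mk ((c : G) * (x.2 : G))) (fun c c' h => by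
      obtain ⟨u, hu⟩ := isConj_iff.mp (h : IsConj c c')
      refine ConjClasses.mk_eq_mk_iff_isConj.mpr (isConj_iff.mpr ⟨(u : G), ?_⟩)
      have hu' : (u : G) * (c : G) * (u : G)⁻¹ = (c' : G) := congrArg Subtype.val hu
      calc (u : G) * ((c : G) * x.2) * (u : G)⁻¹
          = ((u : G) * c * (u : G)⁻¹) * ((u : G) * x.2 * (u : G)⁻¹) := by group
        _ = c' * x.2 := by rw [hu', hcent u x.2, mul_inv_cancel_right]), by
      obtain ⟨q, z⟩ := x
      induction q using Quotient.inductionOn with
      | h c =>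
        show ¬ p ∣ Nat.card (ConjClasses.mk ((c : G) * z)).carrier
        rw [hsize]
        intro hd
        refine P.not_dvd_index (hd.trans (Subgroup.index_dvd_of_le fun v hv => ?_))
        rw [Subgroup.mem_centralizer_singleton_iff]
        have e1 : v * (c : G) = c * v := (hcent c ⟨v, hv⟩).symm
        calc v * ((c : G) * z) = v * c * z := by group
          _ = c * (v * z) := by rw [e1]; group
          _ = c * (z * v) := by rw [hPab v hv z z.2]
          _ = (c : G) * z * v := by group⟩
  have hΦ : Function.Bijective Φ := by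
    constructor
    · rintro ⟨q, z⟩ ⟨q', z'⟩ h
      induction q using Quotient.inductionOn with
      | h c =>
      induction q' using Quotient.inductionOn with
      | h c' =>
      have h' : ConjClasses.mk ((c : G) * z) = ConjClasses.mk ((c' : G) * z') := congrArg Subtype.val h
      obtain ⟨g, hg⟩ := isConj_iff.mp (ConjClasses.mk_eq_mk_iff_isConj.mp h')
      have hzz : z = z' := by
        have e1 := congrArg (QuotientGroup.mk' N) hg
        rw [map_mul, map_mul, hquot (QuotientGroup.mk' N g), mul_assoc, ← map_mul, mul_inv_cancel,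
          map_one, mul_one, map_mul, map_mul,
          show QuotientGroup.mk' N (c : G) = 1 from (QuotientGroup.eq_one_iff _).mpr (Subgroup.mem_inf.mp c.2).1,
          show QuotientGroup.mk' N (c' : G) = 1 from (QuotientGroup.eq_one_iff _).mpr (Subgroup.mem_inf.mp c'.2).1,
          one_mul, one_mul, QuotientGroup.mk'_eq_mk'] at e1
        obtain ⟨n, hn, hn'⟩ := e1
        have hnP : n ∈ (P : Subgroup G) := by
          rw [show n = (z : G)⁻¹ * (z' : G) by rw [← hn']; group]
          exact mul_mem (inv_mem z.2) z'.2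
        have : n = 1 := Subgroup.mem_bot.mp (hdisj ▸ Subgroup.mem_inf.mpr ⟨hn, hnP⟩)
        rw [this, mul_one] at hn'
        exact Subtype.ext hn'
      subst hzz
      obtain ⟨u, hu, n, hn, rfl⟩ := hdec g
      -- remove the part in the Sylow subgroup
      have hz : u⁻¹ * ((c' : G) * z) * u = (c' : G) * z := by
        have e1 : u * (c' : G) = c' * u := (hcent c' ⟨u, hu⟩).symm
        have e2 : u * (z : G) = z * u := hPab u hu z z.2
        calc u⁻¹ * ((c' : G) * z) * u = u⁻¹ * ((c' : G) * (z * u)) := by group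
          _ = u⁻¹ * ((c' : G) * u * z) := by rw [← e2]; group
          _ = (c' : G) * z := by rw [← e1]; group
      have hn' : n * ((c : G) * z) * n⁻¹ = (c' : G) * z := by
        rw [← hz, ← hg]; group
      -- separate the parts
      obtain ⟨j, -, hj⟩ : ∃ j, True ∧ ∀ (d : C), ((d : G) * z) ^ j = z := by
        obtain ⟨i, hi⟩ : ∃ i, Nat.card N * i % Nat.card (P : Subgroup G) = 1 ∨
            Nat.card (P : Subgroup G) = 1 := by
          by_cases h1 : Nat.card (P : Subgroup G) = 1
          · exact ⟨0, Or.inr h1⟩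
          · obtain ⟨i, -, hi⟩ := Nat.exists_mul_mod_eq_one_of_coprime hcopP
              (by have := Nat.card_pos (α := (P : Subgroup G)); omega)
            exact ⟨i, Or.inl hi⟩
        refine ⟨Nat.card N * i, trivial, fun d => ?_⟩
        rw [(show Commute (d : G) z from hcent d z).mul_pow]
        have e1 : (d : G) ^ (Nat.card N * i) = 1 := by
          rw [pow_mul, ← Subgroup.coe_mk N (d : G) (Subgroup.mem_inf.mp d.2).1, ← Subgroup.coe_pow,
            pow_card_eq_one', Subgroup.coe_one, one_pow]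
        rw [e1, one_mul]
        have e2 : z ^ (Nat.card N * i) = z := by
          rw [← pow_mod_natCard]
          rcases hi with hi | hi
          · rw [hi, pow_one]
          · have hs : Subsingleton (P : Subgroup G) := (Nat.card_eq_one_iff_unique.mp hi).1
            exact Subsingleton.elim _ _
        rw [← Subgroup.coe_pow, e2]
      have hzc : n * (z : G) * n⁻¹ = z := by
        conv_lhs => rw [← hj c]
        rw [← conj_pow, hn', hj c']
      have hcc : n * (c : G) * n⁻¹ = c' := by
        have e1 : n * ((c : G) * z) * n⁻¹ = n * (c : G) * n⁻¹ * (n * z * n⁻¹) := by group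
        rw [e1, hzc] at hn'
        exact mul_right_cancel hn'
      have hsolv : Group.IsSolvable (P : Subgroup G) := by
        have := P.2.isNilpotent
        infer_instance
      obtain ⟨d, hd, hdc⟩ := Char.Glauberman.exists_fix_conj hPN hcopP hsolv c.2 c'.2 hn hcc
      exact Prod.ext (Quotient.sound (isConj_iff.mpr ⟨⟨d, hd⟩, Subtype.ext hdc⟩ : IsConj c c')) rfl
    · rintro ⟨K, hK⟩
      obtain ⟨g, rfl⟩ := ConjClasses.exists_rep K
      rw [hsize] at hK
      set D := Subgroup.centralizer ({g} : Set G)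
      obtain ⟨S⟩ : Nonempty (Sylow p D) := inferInstance
      have hS : Nat.card ((S : Subgroup D).map D.subtype) = p ^ (Nat.card G).factorization p := by
        rw [Nat.card_congr ((S : Subgroup D).equivMapOfInjective _ D.subtype_injective).symm.toEquiv,
          S.card_eq_multiplicity, ← D.card_mul_index, Nat.factorization_mul Nat.card_pos.ne'
            D.index_ne_zero_of_finite, Finsupp.add_apply, Nat.factorization_eq_zero_of_not_dvd hK,
          add_zero]
      let S' : Sylow p G := Sylow.ofCard _ hS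
      obtain ⟨h, hh⟩ := MulAction.exists_smul_eq G S' P
      have hcomm : ∀ v ∈ (P : Subgroup G), v * (h * g * h⁻¹) = (h * g * h⁻¹) * v := by
        intro v hv
        rw [← hh] at hv
        obtain ⟨s, hs, rfl⟩ := (hv : v ∈ MulAut.conj h • ((S : Subgroup D).map D.subtype))
        obtain ⟨s', -, rfl⟩ := hs
        have e := Subgroup.mem_centralizer_singleton_iff.mp s'.2
        show h * (s' : G) * h⁻¹ * (h * g * h⁻¹) = h * g * h⁻¹ * (h * (s' : G) * h⁻¹)
        calc h * (s' : G) * h⁻¹ * (h * g * h⁻¹) = h * ((s' : G) * g) * h⁻¹ := by group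
          _ = h * (g * s') * h⁻¹ := by rw [e]
          _ = h * g * h⁻¹ * (h * (s' : G) * h⁻¹) := by group
      obtain ⟨z, hz, n, hn, hzn⟩ := hdec (h * g * h⁻¹)
      have hnC : n ∈ C := by
        refine Subgroup.mem_inf.mpr ⟨hn, Subgroup.mem_centralizer_iff.mpr fun v hv => ?_⟩
        have e := hcomm v hv
        rw [← hzn, ← mul_assoc, hPab v hv z hz, mul_assoc, mul_assoc] at e
        exact mul_left_cancel e
      refine ⟨(ConjClasses.mk ⟨n, hnC⟩, ⟨z, hz⟩), Subtype.ext ?_⟩
      show ConjClasses.mk (n * z) = ConjClasses.mk g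
      rw [hcent ⟨n, hnC⟩ ⟨z, hz⟩, hzn]
      exact (ConjClasses.mk_eq_mk_iff_isConj.mpr (isConj_iff.mpr ⟨h, rfl⟩)).symm
  have hclcount : Nat.card {K : ConjClasses G // ¬ p ∣ Nat.card K.carrier} =
      Nat.card (ConjClasses C) * p ^ k := by
    rw [← Nat.card_congr (Equiv.ofBijective Φ hΦ), Nat.card_prod, hPcard]
  -- totals
  have hsplit : ∀ {α : Type _} [Finite α] (q : α → Prop),
      Nat.card {a // q a} + Nat.card {a // ¬ q a} = Nat.card α := fun {α} _ q => by
    rw [← Nat.card_sum]; exact Nat.card_congr (Equiv.sumCompl q)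
  have h1 := hsplit (fun χ : IrrCharacter G => p ∣ charDegree (χ : G → ℂ))
  have h2 := hsplit (fun K : ConjClasses G => p ∣ Nat.card K.carrier)
  rw [hone, hirrcount, Char.card_irr_eq_card_conjClasses] at h1
  rw [hclcount] at h2
  omega

end Cfsg.Agent.S4763
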