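import Cfsg.Statements.S4765
import Cfsg.Agent.Lib.RankOne.SLDegreeSet
-- import your own Cfsg.Agent.* helpers here

set_option autoImplicit false
open Cfsg

namespace Cfsg.Agent.S4765

/-- Let F be a finite field of characteristic p with at least 4 elements. Then PSL(2,F) has exactly one irreducible complex character of degree divisible by p, and its degree is the order of F. -/
theorem result (p : ℕ) [Fact p.Prime] (F : Type*) [Field F] [Fintype F] [CharP F p] (hF : 4 ≤ Fintype.card F) : Nat.card {χ : Cfsg.IrrCharacter (Matrix.ProjectiveSpecialLinearGroup (Fin 2) F) // p ∣ Cfsg.charDegree (χ : Matrix.ProjectiveSpecialLinearGroup (Fin 2) F → ℂ)} = 1 ∧ ∀ χ : Cfsg.IrrCharacter (Matrix.ProjectiveSpecialLinearGroup (Fin 2) F), p ∣ Cfsg.charDegree (χ : Matrix.ProjectiveSpecialLinearGroup (Fin 2) F → ℂ) → Cfsg.charDegree (χ : Matrix.ProjectiveSpecialLinearGroup (Fin 2) F → ℂ) = Fintype.card F := by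
  classical
  have hp : p.Prime := Fact.out
  obtain ⟨n, -, hn⟩ := FiniteField.card F p
  have hpq : p ∣ Fintype.card F := by rw [hn]; exact dvd_pow_self _ n.ne_zero
  have hne : ¬ p ∣ 1 := fun h => hp.ne_one (Nat.dvd_one.1 h)
  obtain ⟨f, hf, hk⟩ := CfsgLib.RankOne.SLTwo.exists_quot (F := F)
    (S := Matrix.ProjectiveSpecialLinearGroup (Fin 2) F) (Or.inl ⟨MulEquiv.refl _⟩)
  have key : ∀ χ : Cfsg.IrrCharacter (Matrix.ProjectiveSpecialLinearGroup (Fin 2) F),
      p ∣ Cfsg.charDegree (χ : Matrix.ProjectiveSpecialLinearGroup (Fin 2) F → ℂ) →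
      Cfsg.charDegree (χ : Matrix.ProjectiveSpecialLinearGroup (Fin 2) F → ℂ) = Fintype.card F := by
    intro χ hd
    have a1 : ¬ p ∣ Fintype.card F + 1 := fun h => hne ((Nat.dvd_add_right hpq).1 h)
    have a2 : ¬ p ∣ Fintype.card F - 1 := fun h => hne (by
      have := Nat.dvd_sub hpq h
      rwa [show Fintype.card F - (Fintype.card F - 1) = 1 by omega] at this)
    rcases CfsgLib.RankOne.SLTwo.charDegree_quot_cases f hf χ with
      e | e | e | ⟨h2, e⟩ | e | ⟨h2, e⟩ <;> rw [e] at hd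
    · exact absurd hd hne
    · exact e
    · exact absurd hd a1
    · have := FiniteField.odd_card_of_char_ne_two h2
      exact absurd (hd.trans (Nat.div_dvd_of_dvd (by omega))) a1
    · exact absurd hd a2
    · have := FiniteField.odd_card_of_char_ne_two h2
      exact absurd (hd.trans (Nat.div_dvd_of_dvd (by omega))) a2
  refine ⟨?_, key⟩
  have uniq : ∀ χ : Cfsg.IrrCharacter (Matrix.ProjectiveSpecialLinearGroup (Fin 2) F),
      p ∣ Cfsg.charDegree (χ : Matrix.ProjectiveSpecialLinearGroup (Fin 2) F → ℂ) →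
      (CfsgLib.Blocks.inflate f hf χ : Matrix.SpecialLinearGroup (Fin 2) F → ℂ) =
        CfsgLib.RankOne.SLTwo.stb := by
    intro χ hd
    obtain ⟨m, ρ, -, hρ⟩ := χ.2
    apply CfsgLib.RankOne.SLTwo.kind_of_degree_card (CfsgLib.Blocks.inflate f hf χ).2
    have h := key χ hd
    have h1 : (χ : Matrix.ProjectiveSpecialLinearGroup (Fin 2) F → ℂ) 1 = (m : ℂ) := by
      rw [← hρ, Representation.char_one]; simp
    rw [CfsgLib.RankOne.SLTwo.charDegree_of_apply_one h1] at h
    simp [CfsgLib.Blocks.inflate, h1, h]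
  rw [Nat.card_eq_one_iff_unique]
  obtain ⟨η, hη⟩ := CfsgLib.RankOne.SLTwo.card_mem_charDegrees f hf hk
  exact ⟨⟨fun a b => Subtype.ext (CfsgLib.Blocks.inflate_injective f hf
    (Subtype.ext ((uniq a.1 a.2).trans (uniq b.1 b.2).symm)))⟩, ⟨⟨η, by rw [hη]; exact hpq⟩⟩⟩


end Cfsg.Agent.S4765
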