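import Cfsg.Statements.S4768
import Cfsg.Agent.Lib.Char.ItoMichler
import Cfsg.Agent.Lib.Char.ExtendChar
import Cfsg.Agent.Lib.Char.AbelianQuotient
import Cfsg.Agent.Lib.Char.Artin
import Cfsg.Agent.Lib.Char.PowerExtension
import Cfsg.Agent.Lib.Blocks.Inflate
import Cfsg.Agent.Lib.Blocks.CentralChar
import Cfsg.Agent.Lib.PSolvable.Core

set_option autoImplicit false
set_option linter.style.haveILetI false
open Cfsg
open CfsgLib
open scoped CfsgLib.Char

namespace Cfsg.Agent.S4768

theorem derived_succ {A B : Type*} [Group A] [Group B] (φ : A →* B)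
    (hker : ∀ a ∈ φ.ker, ∀ b ∈ φ.ker, a * b = b * a) {k : ℕ} (h : derivedSeries B k = ⊥) :
    derivedSeries A (k + 1) = ⊥ := by
  have hle : derivedSeries A k ≤ φ.ker := by
    intro x hx
    have h1 := map_derivedSeries_le_derivedSeries φ k (Subgroup.mem_map_of_mem φ hx)
    rw [h, Subgroup.mem_bot] at h1
    exact h1
  rw [derivedSeries_succ, eq_bot_iff]
  refine (Subgroup.commutator_mono hle hle).trans (le_of_eq ?_)
  rw [Subgroup.commutator_eq_bot_iff_le_centralizer]
  exact fun a ha b hb => hker b hb a ha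

theorem derived_of_injective {A B : Type*} [Group A] [Group B] (φ : A →* B)
    (hφ : Function.Injective φ) {k : ℕ} (h : derivedSeries B k = ⊥) :
    derivedSeries A k = ⊥ := by
  have h1 := map_derivedSeries_le_derivedSeries φ k
  rw [h, le_bot_iff, Subgroup.map_eq_bot_iff_of_injective _ hφ] at h1
  exact h1

theorem derived_mono {A : Type*} [Group A] {k l : ℕ} (hkl : k ≤ l) (h : derivedSeries A k = ⊥) :
    derivedSeries A l = ⊥ := le_bot_iff.mp (h ▸ derivedSeries_antitone A hkl)

/-- The number of irreducible characters of degree divisible by `p`. -/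
noncomputable def sing (p : ℕ) (G : Type*) [Group G] : ℕ :=
  Nat.card {χ : IrrCharacter G // p ∣ charDegree (χ : G → ℂ)}

theorem charDegree_of_eq {G : Type*} [Group G] [Finite G] (χ : IrrCharacter G) {d : ℕ}
    (h : (χ : G → ℂ) 1 = d) : charDegree (χ : G → ℂ) = d := by
  haveI := Fintype.ofFinite G
  exact (Nat.cast_injective (R := ℂ) (h.symm.trans (Blocks.irr_degree_eq χ).1)).symm

theorem charDegree_inflate {G Q : Type*} [Group G] [Finite G] [Group Q] [Finite Q] (f : G →* Q)
    (hf : Function.Surjective f) (η : IrrCharacter Q) :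
    charDegree (Blocks.inflate f hf η : G → ℂ) = charDegree (η : Q → ℂ) := by
  haveI := Fintype.ofFinite Q
  refine charDegree_of_eq _ ?_
  show (η : Q → ℂ) (f 1) = _
  rw [map_one]
  exact (Blocks.irr_degree_eq η).1

theorem sing_quotient_le (p : ℕ) {G Q : Type*} [Group G] [Finite G] [Group Q] [Finite Q] (f : G →* Q)
    (hf : Function.Surjective f) : sing p Q ≤ sing p G :=
  Nat.card_le_card_of_injective
    (fun η => (⟨Blocks.inflate f hf η.1, by rw [charDegree_inflate]; exact η.2⟩ :
      {χ : IrrCharacter G // p ∣ charDegree (χ : G → ℂ)}))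
    fun a b h => Subtype.ext (Blocks.inflate_injective f hf (congrArg Subtype.val h))

theorem map_sylow {p : ℕ} [Fact p.Prime] {G Q : Type*} [Group G] [Finite G] [Group Q] (f : G →* Q)
    (hf : Function.Surjective f) (P : Sylow p G) :
    IsPGroup p ((P : Subgroup G).map f) ∧ ¬ p ∣ ((P : Subgroup G).map f).index :=
  ⟨P.isPGroup'.map _, fun h => P.not_dvd_index (h.trans ((P : Subgroup G).index_map_dvd hf))⟩

/-- If all characters over a nontrivial linear character of a normal `p`-subgroup have degree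
prime to `p`, a Sylow subgroup is metabelian. -/
theorem metabelian_of_linear {p : ℕ} [hp : Fact p.Prime] {G : Type*} [Group G] [Finite G]
    (hsol : IsPSolvable p G) (N : Subgroup G) [hN : N.Normal] (hNp : IsPGroup p N)
    (hNab : ∀ a ∈ N, ∀ b ∈ N, a * b = b * a) (hNne : N ≠ ⊥)
    (hgood : ∀ χ : IrrCharacter G, (∃ n ∈ N, (χ : G → ℂ) n ≠ (χ : G → ℂ) 1) →
      ¬ p ∣ charDegree (χ : G → ℂ)) (P : Sylow p G) :
    derivedSeries ↥(P : Subgroup G) 2 = ⊥ := by
  classical
  haveI := Fintype.ofFinite G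
  haveI := Fintype.ofFinite N
  -- a nontrivial linear character
  obtain ⟨n₀, hn₀, hn₀1⟩ : ∃ n ∈ N, n ≠ (1 : G) := by
    by_contra h
    push_neg at h
    exact hNne ((Subgroup.eq_bot_iff_forall _).mpr h)
  obtain ⟨θ, hθ⟩ : ∃ θ : IrrCharacter N, (θ : N → ℂ) ⟨n₀, hn₀⟩ ≠ (θ : N → ℂ) 1 := by
    by_contra h
    push_neg at h
    exact hn₀1 (congrArg Subtype.val (Char.eq_one_of_forall_irr h))
  have hθ1 : (θ : N → ℂ) 1 = 1 :=
    Char.degree_one_of_comm (fun a b => Subtype.ext (hNab a a.2 b b.2)) θ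
  set lam := Char.linearHom (Char.isCharacter_of_isIrr θ.2) hθ1 with hlam
  have hlam' : ∀ n : N, (lam n : ℂ) = (θ : N → ℂ) n := Char.linearHom_apply _ hθ1
  set T := Char.inertia N (θ : N → ℂ) with hTdef
  have hNT : N ≤ T := Char.le_inertia N (Char.isClassFunction_irr θ)
  haveI := Fintype.ofFinite T
  have hT : ∀ g, g ∈ T ↔ Char.conjBy N (θ : N → ℂ) g = θ := fun g => Char.mem_inertia N
  -- characters of `T` over `θ` have degree prime to `p`, as has the index of `T`
  have hover : ∀ (ψ : T → ℂ), IsIrrCharacter T ψ → classInner (Char.resTo N T hNT ψ) (θ : N → ℂ) ≠ 0 →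
      ∀ d : ℕ, ψ 1 = d → ¬ p ∣ d ∧ ¬ p ∣ T.index := by
    intro ψ hψ hcon d hd
    obtain ⟨hirr, hmult, -⟩ := Char.clifford_correspondence N T θ.2 hT hNT hψ hcon
    have hdeg : charDegree (indFun T ψ) = T.index * d :=
      charDegree_of_eq ⟨_, hirr⟩ (by
        show indFun T ψ 1 = _
        rw [Char.indFun_one, hd, Nat.cast_mul])
    have h := hgood ⟨_, hirr⟩ (by
      by_contra hc
      push_neg at hc
      refine hcon (hmult.symm.trans ?_)
      have he : (fun n : N => indFun T ψ n) = indFun T ψ 1 • fun _ : N => (1 : ℂ) :=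
        funext fun n => by simpa using hc n n.2
      rw [he, Char.classInner_smul_left]
      refine mul_eq_zero_of_right _ (Char.classInner_irr_ne Char.isIrrCharacter_one θ.2 ?_)
      exact fun e => hθ ((congrFun e _).symm.trans (congrFun e 1)))
    simp only [hdeg] at h
    exact ⟨fun h' => h (h'.mul_left _), fun h' => h (h'.mul_right _)⟩
  obtain ⟨ψ, hψcon⟩ : ∃ ψ : IrrCharacter T,
      classInner (Char.resTo N T hNT (ψ : T → ℂ)) (θ : N → ℂ) ≠ 0 := by
    by_contra hc
    push_neg at hc
    let e := Subgroup.subgroupOfEquivOfLe hNT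
    have hθ' : IsCharacter (N.subgroupOf T) (fun x => (θ : N → ℂ) (e x)) :=
      Char.isCharacter_of_isIrr ((Char.isIrrCharacter_comp_equiv e).mpr θ.2)
    have h0 := Char.classFunction_expansion (Char.isClassFunction_of_isCharacter
      (Char.isCharacter_indFun (N.subgroupOf T) hθ'))
    have h1 : ∀ ψ : IrrCharacter T,
        classInner (indFun (N.subgroupOf T) (fun x => (θ : N → ℂ) (e x))) (ψ : T → ℂ) = 0 := by
      intro ψ
      obtain ⟨k, hk⟩ := Char.exists_nat_classInner (Char.isCharacter_resTo N T hNT (Char.isCharacter_of_isIrr ψ.2))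
        (Char.isCharacter_of_isIrr θ.2)
      have h2 := Char.indFun_subgroupOf_reciprocity N T hNT (θ : N → ℂ) (Char.isClassFunction_irr ψ)
      refine h2.trans ?_
      rw [← Char.classInner_conj_symm, hc ψ, map_zero]
    rw [Finset.sum_eq_zero fun ψ _ => by rw [h1 ψ, zero_smul]] at h0
    have h3 := congrFun h0 1
    simp only [Pi.zero_apply, Char.indFun_one, map_one] at h3
    exact mul_ne_zero (Nat.cast_ne_zero.mpr (N.subgroupOf T).index_ne_zero_of_finite)
      (Char.irr_degree_ne_zero θ.2) h3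
  obtain ⟨d, hd0, hd⟩ := Char.exists_nat_degree_irr ψ.2
  obtain ⟨hpd, hpT⟩ := hover _ ψ.2 hψcon d hd
  -- the determinant gives an extension of `θ`
  have hres := Char.resTo_eq_smul N T θ.2 (fun g hg => (hT g).mp hg) hNT ψ.2 hψcon
  have hres' : ∀ n : N, (ψ : T → ℂ) ⟨(n : G), hNT n.2⟩ = (lam n : ℂ) * (d : ℂ) := by
    intro n
    have h1 := congrFun hres n
    have h2 := congrFun hres 1
    simp only [Char.resTo, Pi.smul_apply, smul_eq_mul] at h1 h2
    have h3 : ((ψ : T → ℂ) 1) = classInner (Char.resTo N T hNT (ψ : T → ℂ)) (θ : N → ℂ) := by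
      rw [hθ1, mul_one] at h2
      exact h2
    rw [h1, hlam', ← hd, h3, mul_comm]
  obtain ⟨δ, hδ⟩ := Char.exists_det_hom (Char.isCharacter_of_isIrr ψ.2)
  let ι : N →* T := Subgroup.inclusion hNT
  have hδN : ∀ n : N, (δ (ι n) : ℂ) = (lam n : ℂ) ^ d := by
    intro n
    rw [← congrFun hδ (ι n)]
    have htriv : (fun _ : N => (d : ℂ)) =
        (Representation.trivial ℂ N (Fin d → ℂ)).character := funext fun m => by
      show _ = LinearMap.trace ℂ _ LinearMap.id
      rw [LinearMap.trace_id, Module.finrank_fin_fun]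
    have h1 := Char.detChar_linear_mul (Char.isCharacter_character
      (Representation.trivial ℂ N (Fin d → ℂ))) lam d (by
        rw [Representation.char_one, Module.finrank_fin_fun])
    have e1 : (fun m : N => (lam m : ℂ) *
        (Representation.trivial ℂ N (Fin d → ℂ)).character m) =
        fun m : N => (ψ : T → ℂ) (ι m) := funext fun m => by
      rw [← htriv]; exact (hres' m).symm
    rw [e1] at h1
    rw [Char.detChar_character] at h1
    have h2 := congrFun h1 n
    simp only [Char.detHom_apply] at h2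
    have h4 : LinearMap.det ((Representation.trivial ℂ N (Fin d → ℂ)) n) = 1 := LinearMap.det_id
    rw [h4, mul_one] at h2
    rw [← h2]
    exact (Char.detChar_comp ι (Char.isCharacter_of_isIrr ψ.2) n).symm
  obtain ⟨k, hk⟩ := IsPGroup.iff_card.mp hNp
  have hcop : (p ^ k).Coprime d := (hp.out.coprime_iff_not_dvd.mpr hpd).pow_left k
  obtain ⟨u, hu⟩ := Nat.exists_mul_mod_eq_gcd (k := p ^ k) (n := d) (by
    rcases Nat.eq_zero_or_pos k with rfl | hk0
    · exact absurd ((Subgroup.card_eq_one).mp (by rw [hk, pow_zero])) hNne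
    · rw [Nat.coprime_comm.mp hcop |>.gcd_eq_one]
      exact Nat.one_lt_pow hk0.ne' hp.out.one_lt)
  let μ : T →* ℂˣ := δ ^ u
  have hμ : ∀ n : N, (μ (ι n) : ℂ) = (θ : N → ℂ) n := by
    intro n
    show ((δ (ι n)) ^ u : ℂˣ).val = _
    rw [Units.val_pow_eq_pow_val, hδN, ← pow_mul, ← hlam']
    have hord : (lam n : ℂ) ^ (p ^ k) = 1 := by
      rw [← hk, ← Units.val_pow_eq_pow_val, ← map_pow, pow_card_eq_one', map_one, Units.val_one]
    rw [pow_eq_pow_mod _ hord, hu.2, (Nat.coprime_comm.mp hcop).gcd_eq_one, pow_one]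
  -- the quotient by `N`
  set N' := N.subgroupOf T with hN'
  haveI := Fintype.ofFinite (T ⧸ N')
  have hsolT := PSolvable.isPSolvable_of_surjective (QuotientGroup.mk' N')
    (QuotientGroup.mk'_surjective N') (PSolvable.isPSolvable_subgroup T hsol)
  have hdeg : ∀ (β : IrrCharacter (T ⧸ N')) (e : ℕ), (β : T ⧸ N' → ℂ) 1 = e → ¬ p ∣ e := by
    intro β e he
    have hirr := Char.isIrrCharacter_linear_mul
      (Blocks.inflate (QuotientGroup.mk' N') (QuotientGroup.mk'_surjective N') β).2 μ
    refine (hover _ hirr ?_ e ?_).1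
    · have he' : Char.resTo N T hNT (fun g : T => (μ g : ℂ) *
          (Blocks.inflate (QuotientGroup.mk' N') (QuotientGroup.mk'_surjective N') β : T → ℂ) g) =
          (e : ℂ) • (θ : N → ℂ) := funext fun n => by
        show (μ (ι n) : ℂ) * (β : T ⧸ N' → ℂ) (QuotientGroup.mk' N' (ι n)) = _
        have h1 : QuotientGroup.mk' N' (ι n) = 1 :=
          (QuotientGroup.eq_one_iff (ι n)).mpr (Subgroup.mem_subgroupOf.mpr n.2)
        rw [hμ, h1, he, Pi.smul_apply, smul_eq_mul, mul_comm]
      rw [he', Char.classInner_smul_left, Char.classInner_irr_self θ.2, mul_one]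
      intro h
      exact Char.irr_degree_ne_zero β.2 (he.trans h)
    · show (μ 1 : ℂ) * (β : T ⧸ N' → ℂ) (QuotientGroup.mk' N' 1) = _
      rw [map_one, map_one, Units.val_one, one_mul, he]
  obtain ⟨S, hSn, hSp, hSi, hSab⟩ := Char.ItoMichler.aux p _ (T ⧸ N') rfl hsolT hdeg
  -- a Sylow subgroup of `T` is one of `G`
  let R : Sylow p T := default
  have hR2 : derivedSeries ↥(R : Subgroup T) 2 = ⊥ := by
    let φ : (R : Subgroup T) →* T ⧸ N' := (QuotientGroup.mk' N').comp (R : Subgroup T).subtype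
    have hRS : ∀ r, φ r ∈ S := by
      intro r
      haveI := hSn
      obtain ⟨j, hj⟩ := R.isPGroup' r
      rw [← QuotientGroup.eq_one_iff (N := S)]
      refine orderOf_eq_one_iff.mp (Nat.eq_one_of_dvd_coprimes
        (Nat.Coprime.pow_left j (hp.out.coprime_iff_not_dvd.mpr hSi))
        (orderOf_dvd_of_pow_eq_one ?_) (orderOf_dvd_natCard _))
      rw [← QuotientGroup.mk_pow, ← map_pow, hj, map_one, QuotientGroup.mk_one]
    have hcl : commutator S = ⊥ :=
      (derivedSeries_one S).symm.trans (derived_succ (1 : S →* Unit)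
        (fun a _ b _ => Subtype.ext (hSab a a.2 b b.2)) (k := 0) (Subsingleton.elim _ _))
    refine derived_succ (φ.codRestrict S hRS) (fun a ha b hb => ?_) (k := 1)
      ((derivedSeries_one S).trans hcl)
    have hm : ∀ c ∈ (φ.codRestrict S hRS).ker, ((c : T) : G) ∈ N := fun c hc =>
      Subgroup.mem_subgroupOf.mp
        ((QuotientGroup.eq_one_iff (c : T)).mp (congrArg Subtype.val (MonoidHom.mem_ker.mp hc)))
    exact Subtype.ext (Subtype.ext (hNab _ (hm a ha) _ (hm b hb)))
  have hRG : ¬ p ∣ ((R : Subgroup T).map T.subtype).index := by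
    rw [Subgroup.index_map_subtype]
    exact hp.out.not_dvd_mul R.not_dvd_index hpT
  have h1 : derivedSeries ↥((R : Subgroup T).map T.subtype) 2 = ⊥ :=
    derived_of_injective
      ((R : Subgroup T).equivMapOfInjective T.subtype T.subtype_injective).symm.toMonoidHom
      (MulEquiv.injective _) hR2
  exact derived_of_injective (Sylow.equiv P ((R.isPGroup'.map T.subtype).toSylow hRG)).toMonoidHom
    (MulEquiv.injective _) h1

universe u

theorem main (p : ℕ) [hp : Fact p.Prime] : ∀ n : ℕ, ∀ (G : Type u) [Group G] [Finite G],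
    Nat.card G = n → IsPSolvable p G → ∀ P : Sylow p G,
      derivedSeries ↥(P : Subgroup G) (sing p G + 1) = ⊥ := by
  classical
  intro n
  induction n using Nat.strong_induction_on with
  | _ n ih =>
  intro G _ _ hn hsol P
  haveI := Fintype.ofFinite G
  rcases Nat.eq_zero_or_pos (sing p G) with hs | hs
  · -- no singular characters
    have hdeg : ∀ (χ : IrrCharacter G) (d : ℕ), (χ : G → ℂ) 1 = d → ¬ p ∣ d := fun χ d hd hpd => by
      have : Nonempty {χ : IrrCharacter G // p ∣ charDegree (χ : G → ℂ)} :=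
        ⟨⟨χ, by rwa [charDegree_of_eq χ hd]⟩⟩
      exact hs.not_gt Nat.card_pos
    obtain ⟨S, hSn, hSp, hSi, hSab⟩ := Char.ItoMichler.aux p _ G rfl hsol hdeg
    haveI := hSn
    haveI := Sylow.unique_of_normal (hSp.toSylow hSi) (by rw [IsPGroup.toSylow_coe]; exact hSn)
    have hle : (P : Subgroup G) = S := by
      rw [Subsingleton.elim P (hSp.toSylow hSi), IsPGroup.toSylow_coe]
    rw [hs]
    exact derived_succ (1 : (P : Subgroup G) →* Unit)
      (fun a _ b _ => Subtype.ext (hSab a (hle ▸ a.2) b (hle ▸ b.2))) (k := 0)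
      (Subsingleton.elim _ _)
  have step : ∀ (N : Subgroup G) [N.Normal], N ≠ ⊥ →
      derivedSeries ↥((P : Subgroup G).map (QuotientGroup.mk' N)) (sing p (G ⧸ N) + 1) = ⊥ := by
    intro N _ hN
    have hlt : Nat.card (G ⧸ N) < n := by
      rw [← hn, Subgroup.card_eq_card_quotient_mul_card_subgroup N]
      exact lt_mul_of_one_lt_right Nat.card_pos ((Subgroup.one_lt_card_iff_ne_bot N).mpr hN)
    obtain ⟨hQ, hQi⟩ := map_sylow (QuotientGroup.mk' N) (QuotientGroup.mk'_surjective N) P
    exact ih _ hlt (G ⧸ N) rfl (PSolvable.isPSolvable_of_surjective _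
      (QuotientGroup.mk'_surjective N) hsol) (hQ.toSylow hQi)
  by_cases hK : pPrimeCore p G = ⊥
  swap
  · haveI := Transfer.pPrimeCore_normal p G
    refine derived_of_injective ((QuotientGroup.mk' (pPrimeCore p G)).subgroupMap (P : Subgroup G))
      (fun a b h => ?_) (derived_mono (Nat.add_le_add_right
        (sing_quotient_le p _ (QuotientGroup.mk'_surjective _)) 1) (step _ hK))
    have h1 : ((a : G))⁻¹ * b ∈ pPrimeCore p G := QuotientGroup.eq.mp (congrArg Subtype.val h)
    exact Subtype.ext (inv_mul_eq_one.mp (PSolvable.eq_one_of_mem_of_mem P.isPGroup'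
      (Transfer.pPrimeCore_coprime p) (mul_mem (inv_mem a.2) b.2) h1))
  haveI := Fitting.pCore_normal (G := G) p
  have hO : pCore p G ≠ ⊥ := by
    intro h
    have h1 := PSolvable.centralizer_pCore_le hsol hK
    rw [h] at h1
    haveI : Subsingleton G := ⟨fun a b => by
      have : ∀ c : G, c = 1 := fun c => Subgroup.mem_bot.mp
        (h1 (fun u hu => by rw [Subgroup.mem_bot.mp hu, one_mul, mul_one]))
      rw [this a, this b]⟩
    obtain ⟨⟨χ, hχ⟩⟩ := (Nat.card_pos_iff.mp hs).1
    obtain ⟨d, hd, -, hdvd⟩ := Char.exists_degree_dvd_card χ.2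
    rw [charDegree_of_eq χ hd] at hχ
    rw [Nat.card_of_subsingleton (1 : G)] at hdvd
    exact hp.out.not_dvd_one (Nat.eq_one_of_dvd_one hdvd ▸ hχ)
  set N := (Subgroup.center (pCore p G)).map (pCore p G).subtype with hNdef
  haveI hNn : N.Normal := PSolvable.normal_map_of_characteristic (pCore p G) _
  have hNp : IsPGroup p N :=
    ((Fitting.pCore_isPGroup p).to_subgroup (Subgroup.center (pCore p G))).map _
  have hNab : ∀ a ∈ N, ∀ b ∈ N, a * b = b * a := by
    rintro _ ⟨a, ha, rfl⟩ _ ⟨b, hb, rfl⟩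
    rw [← map_mul, ← map_mul, Subgroup.mem_center_iff.mp hb a]
  have hNne : N ≠ ⊥ := by
    haveI : Nontrivial (pCore p G) := (Subgroup.nontrivial_iff_ne_bot _).mpr hO
    haveI := (Fitting.pCore_isPGroup (G := G) p).center_nontrivial
    rw [hNdef, Ne, Subgroup.map_eq_bot_iff_of_injective _ (pCore p G).subtype_injective]
    exact (Subgroup.nontrivial_iff_ne_bot _).mp inferInstance
  have hle := sing_quotient_le p (QuotientGroup.mk' N) (QuotientGroup.mk'_surjective N)
  rcases hle.lt_or_eq with hlt | heq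
  · refine derived_succ ((QuotientGroup.mk' N).subgroupMap (P : Subgroup G)) (fun a ha b hb => ?_)
      (derived_mono hlt (step N hNne))
    have hm : ∀ c ∈ ((QuotientGroup.mk' N).subgroupMap (P : Subgroup G)).ker, (c : G) ∈ N :=
      fun c hc => (QuotientGroup.eq_one_iff (c : G)).mp (congrArg Subtype.val (MonoidHom.mem_ker.mp hc))
    exact Subtype.ext (hNab _ (hm a ha) _ (hm b hb))
  · refine derived_mono (by omega) (metabelian_of_linear hsol N hNp hNab hNne ?_ P)
    rintro χ ⟨m, hm, hne⟩ hdvd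
    let j : {η : IrrCharacter (G ⧸ N) // p ∣ charDegree (η : G ⧸ N → ℂ)} →
        {χ : IrrCharacter G // p ∣ charDegree (χ : G → ℂ)} := fun η =>
      ⟨Blocks.inflate (QuotientGroup.mk' N) (QuotientGroup.mk'_surjective N) η.1,
        by rw [charDegree_inflate]; exact η.2⟩
    have hj : Function.Injective j := fun a b h =>
      Subtype.ext (Blocks.inflate_injective (QuotientGroup.mk' N)
        (QuotientGroup.mk'_surjective N) (congrArg Subtype.val h))
    obtain ⟨η, hη⟩ := (hj.bijective_of_nat_card_le heq.ge).2 ⟨χ, hdvd⟩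
    apply hne
    rw [show χ = (j η).1 from (congrArg Subtype.val hη).symm]
    show (η.1 : G ⧸ N → ℂ) (QuotientGroup.mk' N m) = (η.1 : G ⧸ N → ℂ) (QuotientGroup.mk' N 1)
    rw [map_one, show QuotientGroup.mk' N m = 1 from (QuotientGroup.eq_one_iff m).mpr hm]

/-- Let G be a finite p-solvable group; the derived length of a Sylow p-subgroup is at most one more than the number of irreducible characters of degree divisible by p. -/
theorem result {G : Type*} [Group G] [Finite G] (p : ℕ) [Fact p.Prime] (hG : Cfsg.IsPSolvable p G) (P : Sylow p G) : derivedSeries ↥(P : Subgroup G) (Nat.card {χ : Cfsg.IrrCharacter G // p ∣ Cfsg.charDegree (χ : G → ℂ)} + 1) = ⊥ :=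
  main p _ G rfl hG P

end Cfsg.Agent.S4768
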