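import Cfsg.Statements.S4775
import Cfsg.Agent.Lib.Suzuki.DegreeGraph
import Cfsg.Agent.Lib.Suzuki.LieEquiv
import Cfsg.Agent.Lib.Char.Constituents

set_option autoImplicit false
open Cfsg
set_option linter.style.haveILetI false

namespace Cfsg.Agent.S4775

/-- Let F be a finite field with q = 2^(2m+1) ≥ 8 elements and let S be isomorphic to the Suzuki group over F. Then the vertices of the character degree graph of S are 2 and the primes dividing (q − 1)(q² + 1); the primes dividing (q − 1)(q² + 1) are pairwise adjacent, and 2 is adjacent exactly to the primes dividing q − 1. -/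
theorem result (F : Type*) [Field F] [Fintype F] (m : ℕ) (hm : 1 ≤ m) (q : ℕ) (hq : Fintype.card F = q) (hqm : q = 2 ^ (2 * m + 1)) {S : Type*} [Group S] [Finite S] (hS : Nonempty (S ≃* ↥(Cfsg.Lie.Sz F (2 ^ (m + 1))))) : Cfsg.degreePrimes S = {r : ℕ | r.Prime ∧ (r = 2 ∨ r ∣ (q - 1) * (q ^ 2 + 1))} ∧ ∀ r s : ℕ, (Cfsg.degreeGraph S).Adj r s ↔ (r ≠ s ∧ r.Prime ∧ s.Prime ∧ ((r ∣ (q - 1) * (q ^ 2 + 1) ∧ s ∣ (q - 1) * (q ^ 2 + 1)) ∨ (r = 2 ∧ s ∣ q - 1) ∨ (s = 2 ∧ r ∣ q - 1))) := by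
  classical
  subst hq
  haveI := CfsgLib.Suzuki.charP_two_of_card hqm
  haveI : CfsgLib.Suzuki.Param F m := ⟨hm, hqm⟩
  obtain ⟨e₀⟩ := hS
  let e : S ≃* CfsgLib.Suzuki.Gp F m := e₀.trans (CfsgLib.Suzuki.lieEquiv (F := F) (m := m)).symm
  have hD : Cfsg.charDegrees S = Cfsg.charDegrees (CfsgLib.Suzuki.Gp F m) := by
    ext d
    constructor
    · rintro ⟨χ, rfl⟩
      refine ⟨⟨fun g => χ.1 (e.symm g),
        CfsgLib.Char.isIrrCharacter_comp_mulEquiv e.symm χ.2⟩, ?_⟩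
      simp only [Cfsg.charDegree, map_one]
    · rintro ⟨χ, rfl⟩
      refine ⟨⟨fun g => χ.1 (e g), CfsgLib.Char.isIrrCharacter_comp_mulEquiv e χ.2⟩, ?_⟩
      simp only [Cfsg.charDegree, map_one]
  obtain ⟨hdvd, hcop, hsq, hsucc, ⟨d₂, hd₂, hd₂'⟩, hmix⟩ :=
    CfsgLib.Suzuki.degree_facts (F := F) (m := m)
  set q := Fintype.card F with hq
  have h8 : 8 ≤ q := CfsgLib.Suzuki.eight_le_card (F := F) (m := m)
  have hq2 : 2 ∣ q := hqm ▸ dvd_pow_self 2 (by omega)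
  have hpr : ∀ r : ℕ, r.Prime → r ∣ Nat.card (CfsgLib.Suzuki.Gp F m) →
      r = 2 ∨ r ∣ (q - 1) * (q ^ 2 + 1) := fun r hr h => by
    rcases CfsgLib.Suzuki.prime_dvd_card hr h with h | h | h
    · exact Or.inl h
    · exact Or.inr (dvd_mul_of_dvd_left h _)
    · exact Or.inr (dvd_mul_of_dvd_right h _)
  have hcl : ∀ r s : ℕ, r.Prime → s.Prime → r ≠ s → r ∣ (q - 1) * (q ^ 2 + 1) →
      s ∣ (q - 1) * (q ^ 2 + 1) → ∃ d ∈ Cfsg.charDegrees (CfsgLib.Suzuki.Gp F m), r * s ∣ d := by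
    intro r s hr hs hne h1 h2
    have hrs : r.Coprime s := (Nat.coprime_primes hr hs).mpr hne
    rcases hr.dvd_mul.mp h1 with h1 | h1 <;> rcases hs.dvd_mul.mp h2 with h2 | h2
    · exact ⟨d₂, hd₂, (hrs.mul_dvd_of_dvd_of_dvd h1 h2).trans ((dvd_mul_right _ _).trans hd₂')⟩
    · obtain ⟨d, hd, hd'⟩ := hmix s hs h2
      exact ⟨d, hd, (Nat.mul_dvd_mul h1 dvd_rfl).trans hd'⟩
    · obtain ⟨d, hd, hd'⟩ := hmix r hr h1
      exact ⟨d, hd, (mul_comm r s ▸ Nat.mul_dvd_mul h2 dvd_rfl).trans hd'⟩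
    · exact ⟨_, hsucc, hrs.mul_dvd_of_dvd_of_dvd h1 h2⟩
  have h2T : ∀ s : ℕ, s.Prime → s ≠ 2 → ∀ d ∈ Cfsg.charDegrees (CfsgLib.Suzuki.Gp F m),
      2 * s ∣ d → s ∣ q - 1 := by
    intro s hs hs2 d hd h
    have hsd : s ∣ d := (dvd_mul_left s 2).trans h
    rcases CfsgLib.Suzuki.prime_dvd_card hs (hsd.trans (hdvd d hd)) with h' | h' | h'
    · exact absurd h' hs2
    · exact h'
    · exact absurd (Nat.eq_one_of_dvd_coprimes (hcop d hd ((dvd_mul_right 2 s).trans h)) hsd h')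
        hs.one_lt.ne'
  constructor
  · ext r
    simp only [Cfsg.degreePrimes, hD, Set.mem_setOf_eq]
    constructor
    · rintro ⟨hr, d, hd, h⟩
      exact ⟨hr, hpr r hr (h.trans (hdvd d hd))⟩
    · rintro ⟨hr, rfl | h⟩
      · exact ⟨hr, _, hsq, dvd_pow hq2 two_ne_zero⟩
      · rcases hr.dvd_mul.mp h with h | h
        · exact ⟨hr, d₂, hd₂, h.trans ((dvd_mul_right _ _).trans hd₂')⟩
        · exact ⟨hr, _, hsucc, h⟩
  · intro r s
    simp only [Cfsg.degreeGraph, hD]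
    refine and_congr_right fun hne => and_congr_right fun hr => and_congr_right fun hs => ⟨?_, ?_⟩
    · rintro ⟨d, hd, h⟩
      rcases hpr r hr (((dvd_mul_right r s).trans h).trans (hdvd d hd)) with rfl | h1
      · exact Or.inr (Or.inl ⟨rfl, h2T s hs (Ne.symm hne) d hd h⟩)
      · rcases hpr s hs (((dvd_mul_left s r).trans h).trans (hdvd d hd)) with rfl | h2
        · exact Or.inr (Or.inr ⟨rfl, h2T r hr hne d hd (mul_comm r 2 ▸ h)⟩)
        · exact Or.inl ⟨h1, h2⟩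
    · rintro (⟨h1, h2⟩ | ⟨rfl, h⟩ | ⟨rfl, h⟩)
      · exact hcl r s hr hs hne h1 h2
      · exact ⟨d₂, hd₂, (mul_comm 2 s ▸ Nat.mul_dvd_mul h dvd_rfl).trans hd₂'⟩
      · exact ⟨d₂, hd₂, (Nat.mul_dvd_mul h dvd_rfl).trans hd₂'⟩

end Cfsg.Agent.S4775
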