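import Cfsg.Statements.S4780
import Cfsg.Agent.Lib.NDDeg.Main

set_option autoImplicit false
open Cfsg

namespace Cfsg.Agent.S4780

/-- Let G be a finite solvable group in which no irreducible complex character degree a with 1 < a divides a larger irreducible character degree. Then G has at most four distinct irreducible character degrees and the third derived subgroup of G is trivial. -/
theorem result {G : Type*} [Group G] [Finite G] [Group.IsSolvable G] (hnd : ∀ a ∈ Cfsg.charDegrees G, ∀ b ∈ Cfsg.charDegrees G, 1 < a → a < b → ¬ a ∣ b) : Nat.card ↥(Cfsg.charDegrees G) ≤ 4 ∧ derivedSeries G 3 = ⊥ := by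
  refine CfsgLib.NDDeg.bounds fun χ χ' d d' hd hd' h1 h1' hdvd => ?_
  have hd0 : d ≠ 0 := fun e => CfsgLib.Char.irr_degree_ne_zero χ.2 (by rw [hd, e, Nat.cast_zero])
  have hd0' : d' ≠ 0 := fun e => CfsgLib.Char.irr_degree_ne_zero χ'.2 (by rw [hd', e, Nat.cast_zero])
  have hmem : ∀ (ψ : Cfsg.IrrCharacter G) (a : ℕ), (ψ : G → ℂ) 1 = a → a ∈ Cfsg.charDegrees G :=
    fun ψ a ha => ⟨ψ, CfsgLib.Char.Extraspecial.charDegree_eq ha⟩
  by_contra hne
  exact hnd d (hmem χ d hd) d' (hmem χ' d' hd') (by omega)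
    (lt_of_le_of_ne (Nat.le_of_dvd (Nat.pos_of_ne_zero hd0') hdvd) hne) hdvd

end Cfsg.Agent.S4780
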