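import Cfsg.Statements.S4782
import Cfsg.Agent.Lib.Char.DegreeThreePrimes
import Cfsg.Agent.Lib.Char.Extraspecial

set_option autoImplicit false
open Cfsg

namespace Cfsg.Agent.S4782

/-- If the finite group G is not solvable, then at least three distinct primes each divide some irreducible complex character degree of G. -/
theorem result {G : Type*} [Group G] [Finite G] (hG : ¬ Group.IsSolvable G) : ∃ p q r : ℕ, p ≠ q ∧ q ≠ r ∧ p ≠ r ∧ p ∈ Cfsg.degreePrimes G ∧ q ∈ Cfsg.degreePrimes G ∧ r ∈ Cfsg.degreePrimes G := by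
  obtain ⟨p, q, r, hpq, hqr, hpr, h⟩ := CfsgLib.Char.ThreePrimes.nonsolvable_three hG
  have key : ∀ t ∈ ({p, q, r} : Set ℕ), t ∈ Cfsg.degreePrimes G := fun t ht => by
    obtain ⟨htp, χ, d, hd, htd⟩ := h t ht
    exact ⟨htp, d, ⟨χ, CfsgLib.Char.Extraspecial.charDegree_eq hd⟩, htd⟩
  exact ⟨p, q, r, hpq, hqr, hpr, key p (by simp), key q (by simp), key r (by simp)⟩

end Cfsg.Agent.S4782
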