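import Cfsg.Statements.S4784
import Cfsg.Agent.Lib.Char.SquareRoots
import Cfsg.Agent.Lib.Blocks.Inflate
import Cfsg.Agent.Lib.Char.TICoherent

set_option autoImplicit false
open Cfsg

namespace Cfsg.Agent.S4784

open CfsgLib.Char
open scoped CfsgLib.Char

/-- Let H be a subgroup of the finite group G and consider the permutation character of G on the cosets of H (the function induced from the principal character of H). Then exactly one irreducible constituent of it is real-valued with Frobenius–Schur indicator +1 (namely the principal character) if and only if the normal core of H has odd index in G. -/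
theorem result {G : Type*} [Group G] [Fintype G] (H : Subgroup G) : Nat.card {χ : Cfsg.IrrCharacter G // Cfsg.classInner (Cfsg.indFun H (fun _ : H => (1 : ℂ))) (χ : G → ℂ) ≠ 0 ∧ (∀ g : G, (starRingEnd ℂ) ((χ : G → ℂ) g) = (χ : G → ℂ) g) ∧ (Nat.card G : ℂ)⁻¹ * ∑ g : G, (χ : G → ℂ) (g * g) = 1} = 1 ↔ Odd H.normalCore.index := by
  classical
  haveI : Fact (Nat.Prime 2) := ⟨Nat.prime_two⟩
  haveI : Fintype H := Fintype.ofFinite _
  have hrec : ∀ χ : Cfsg.IrrCharacter G,
      Cfsg.classInner (Cfsg.indFun H (fun _ : H => (1 : ℂ))) (χ : G → ℂ) =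
        Cfsg.classInner (fun _ : H => (1 : ℂ)) (fun h : H => (χ : G → ℂ) h) := fun χ =>
    CfsgLib.Char.frobenius_reciprocity H _ (CfsgLib.Char.isClassFunction_irr χ)
  have hnat : ∀ χ : Cfsg.IrrCharacter G, ∃ m : ℕ,
      Cfsg.classInner (Cfsg.indFun H (fun _ : H => (1 : ℂ))) (χ : G → ℂ) = m := fun χ => by
    rw [hrec]
    exact CfsgLib.Char.exists_nat_classInner
      (CfsgLib.Char.isCharacter_of_isIrr CfsgLib.Char.isIrrCharacter_one)
      (CfsgLib.Char.isCharacter_restrict H (CfsgLib.Char.isCharacter_of_isIrr χ.2))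
  choose m hm using hnat
  set P := fun χ : Cfsg.IrrCharacter G =>
    Cfsg.classInner (Cfsg.indFun H (fun _ : H => (1 : ℂ))) (χ : G → ℂ) ≠ 0 ∧
      (∀ g : G, (starRingEnd ℂ) ((χ : G → ℂ) g) = (χ : G → ℂ) g) ∧
      (Nat.card G : ℂ)⁻¹ * ∑ g : G, (χ : G → ℂ) (g * g) = 1 with hP
  set one : Cfsg.IrrCharacter G := ⟨fun _ => 1, CfsgLib.Char.isIrrCharacter_one⟩ with hone
  have hm1 : m one = 1 := by
    have := hm one
    rw [hrec] at this
    change Cfsg.classInner (fun _ : H => (1 : ℂ)) (fun _ : H => (1 : ℂ)) = _ at this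
    rw [CfsgLib.Char.classInner_irr_self CfsgLib.Char.isIrrCharacter_one] at this
    exact_mod_cast this.symm
  have hPone : P one := ⟨by rw [hm, hm1]; norm_num, fun g => map_one (starRingEnd ℂ),
    CfsgLib.Char.SquareRoots.indicator_one⟩
  constructor
  · intro hcard
    have huniq : ∀ χ, P χ → χ = one := fun χ hχ => by
      haveI := (Nat.card_eq_one_iff_unique.mp hcard).1
      exact congrArg Subtype.val (Subsingleton.elim (⟨χ, hχ⟩ : {χ // P χ}) ⟨one, hPone⟩)
    have hθ : (∑ h : H, (Nat.card {x : G // x * x = (h : G)} : ℂ)) =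
        (Nat.card H : ℂ) * ∑ χ : Cfsg.IrrCharacter G, CfsgLib.Char.indicator (χ : G → ℂ) * m χ := by
      simp only [CfsgLib.Char.SquareRoots.card_sqrt]
      rw [Finset.sum_comm, Finset.mul_sum]
      refine Finset.sum_congr rfl fun χ _ => ?_
      have h1 : (starRingEnd ℂ) ((Nat.card H : ℂ)⁻¹ * ∑ h : H, (starRingEnd ℂ) ((χ : G → ℂ) h)) = m χ := by
        have := hm χ
        rw [hrec] at this
        simp only [Cfsg.classInner, one_mul] at this
        rw [this, map_natCast]
      rw [map_mul, map_inv₀, map_natCast, map_sum] at h1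
      simp only [Complex.conj_conj] at h1
      rw [← Finset.mul_sum, ← h1]
      field_simp
    have hle : (∑ χ : Cfsg.IrrCharacter G, CfsgLib.Char.indicator (χ : G → ℂ) * m χ).re ≤ 1 := by
      rw [Complex.re_sum, ← Finset.add_sum_erase _ _ (Finset.mem_univ one)]
      have h1 : (CfsgLib.Char.indicator (one : G → ℂ) * m one).re = 1 := by
        rw [hm1, show (one : G → ℂ) = fun _ => 1 from rfl, CfsgLib.Char.SquareRoots.indicator_one]
        norm_num
      rw [h1]
      refine add_le_of_nonpos_right (Finset.sum_nonpos fun χ hχ => ?_)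
      rcases CfsgLib.Char.indicator_cases χ.2 with ⟨hreal, e | e⟩ | ⟨-, e⟩
      · have : m χ = 0 := by
          by_contra hne
          exact Finset.ne_of_mem_erase hχ (huniq χ ⟨by rw [hm]; exact_mod_cast hne,
            fun g => Complex.conj_eq_iff_im.mpr (hreal g), e⟩)
        simp [this]
      · rw [e]; simp
      · rw [e]; simp
    have hcount : ∑ h : H, Nat.card {x : G // x * x = (h : G)} ≤ Nat.card H := by
      have h2 := congrArg Complex.re hθ
      rw [Complex.re_sum, ← Complex.ofReal_natCast, Complex.re_ofReal_mul] at h2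
      simp only [Complex.natCast_re] at h2
      have h3 : (∑ h : H, (Nat.card {x : G // x * x = (h : G)} : ℝ)) ≤ (Nat.card H : ℝ) := by
        rw [h2]
        exact mul_le_of_le_one_right (Nat.cast_nonneg _) hle
      exact_mod_cast h3
    have hsqmem : ∀ x : G, x * x ∈ H → x ∈ H := by
      intro x hx
      by_contra hxH
      set T := Finset.univ.filter (fun y : G => y * y ∈ H) with hT
      have hTc : T.card = ∑ h : H, Nat.card {x : G // x * x = (h : G)} := by
        rw [Finset.card_eq_sum_card_fiberwise (f := fun y => y * y)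
          (t := Finset.univ.filter (· ∈ H)) (fun y hy => by simpa [hT] using hy),
          Finset.sum_subtype (Finset.univ.filter (· ∈ H)) (p := (· ∈ H)) (fun y => by simp)]
        refine Finset.sum_congr rfl fun h _ => ?_
        rw [Nat.card_eq_fintype_card, Fintype.card_subtype]
        congr 1
        ext y
        simp only [hT, Finset.mem_filter, Finset.mem_univ, true_and]
        exact ⟨fun e => e.2, fun e => ⟨e ▸ h.2, e⟩⟩
      have hlt : (Finset.univ.filter (· ∈ H)).card < T.card := by
        refine Finset.card_lt_card ⟨fun y hy => ?_, fun hss => hxH ?_⟩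
        · simp only [hT, Finset.mem_filter, Finset.mem_univ, true_and] at hy ⊢
          exact H.mul_mem hy hy
        · simpa using hss (show x ∈ T by simp [hT, hx])
      rw [hTc, ← Fintype.card_subtype, ← Nat.card_eq_fintype_card] at hlt
      exact absurd hlt (not_lt.mpr hcount)
    have hpow : ∀ (k : ℕ) (x : G), x ^ (2 ^ k) = 1 → x ∈ H := by
      intro k
      induction k with
      | zero => intro x hx; simp only [pow_zero, pow_one] at hx; exact hx ▸ H.one_mem
      | succ k ih =>
        intro x hx
        refine hsqmem x (ih _ ?_)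
        rw [← sq, ← pow_mul, ← pow_succ']; exact hx
    obtain ⟨Q⟩ : Nonempty (Sylow 2 G) := inferInstance
    have hQ : (Q : Subgroup G) ≤ H.normalCore := by
      intro x hx b
      obtain ⟨k, hk⟩ := Q.2 ⟨x, hx⟩
      refine hpow k _ ?_
      have hk' : x ^ 2 ^ k = 1 := congrArg Subtype.val hk
      rw [conj_pow, hk', mul_one, mul_inv_cancel]
    rw [← Nat.not_even_iff_odd, even_iff_two_dvd]
    exact fun h => Q.not_dvd_index (h.trans (Subgroup.index_dvd_of_le hQ))
  · intro hodd
    haveI : Subsingleton {χ // P χ} := by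
      suffices h : ∀ χ, P χ → χ = one from ⟨fun a b => Subtype.ext ((h _ a.2).trans (h _ b.2).symm)⟩
      rintro χ ⟨hne, hreal, -⟩
      set N := H.normalCore
      haveI : Fintype N := Fintype.ofFinite _
      have hNH : ∀ n : N, (n : G) ∈ H := fun n => H.normalCore_le n.2
      have hker : ∀ u ∈ N, (χ : G → ℂ) u = (χ : G → ℂ) 1 := by
        by_contra hc
        push_neg at hc
        obtain ⟨u, hu, hune⟩ := hc
        apply hne
        rw [hrec]
        obtain ⟨c, hc⟩ := CfsgLib.Char.exists_multiplicities
          (CfsgLib.Char.isCharacter_restrict H (CfsgLib.Char.isCharacter_of_isIrr χ.2))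
        have h0 : ∑ n : N, (χ : G → ℂ) n = 0 :=
          CfsgLib.Char.TIKernel.sum_eq_zero_of_nonconstant N χ.2 ⟨u, hu, hune⟩
        let NH : Subgroup H := N.subgroupOf H
        haveI : Fintype NH := Fintype.ofFinite _
        have h0' : ∑ n : NH, (χ : G → ℂ) (n : H) = 0 := by
          rw [← h0]
          exact Fintype.sum_equiv (Subgroup.subgroupOfEquivOfLe H.normalCore_le).toEquiv _ _
            (fun n => rfl)
        have hq : ∀ ψ : Cfsg.IrrCharacter H, ∃ q : ℕ,
            Cfsg.classInner (fun x : NH => (ψ : H → ℂ) x) (fun _ => 1) = q := fun ψ =>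
          CfsgLib.Char.exists_nat_classInner
            (CfsgLib.Char.isCharacter_restrict NH (CfsgLib.Char.isCharacter_of_isIrr ψ.2))
            (CfsgLib.Char.isCharacter_of_isIrr CfsgLib.Char.isIrrCharacter_one)
        choose q hq using hq
        have hzero : ∑ ψ : Cfsg.IrrCharacter H, c ψ * q ψ = 0 := by
          have h1 : ((∑ ψ : Cfsg.IrrCharacter H, c ψ * q ψ : ℕ) : ℂ) = 0 := by
            push_cast
            simp only [← hq, Cfsg.classInner, map_one, mul_one]
            simp only [← mul_assoc, mul_comm _ (Nat.card NH : ℂ)⁻¹]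
            simp only [mul_assoc, ← Finset.mul_sum]
            simp only [Finset.mul_sum]
            rw [Finset.sum_comm, ← mul_zero ((Nat.card NH : ℂ)⁻¹), ← h0', Finset.mul_sum]
            refine Finset.sum_congr rfl fun x _ => ?_
            have := congrFun hc (x : H)
            rw [this, Finset.sum_apply, Finset.mul_sum]
            exact Finset.sum_congr rfl fun ψ _ => rfl
          exact_mod_cast h1
        have hc1 := (Finset.sum_eq_zero_iff.mp hzero) ⟨fun _ => 1, CfsgLib.Char.isIrrCharacter_one⟩
          (Finset.mem_univ _)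
        have hq1 : q ⟨fun _ => 1, CfsgLib.Char.isIrrCharacter_one⟩ = 1 := by
          have := hq ⟨fun _ => 1, CfsgLib.Char.isIrrCharacter_one⟩
          rw [CfsgLib.Char.classInner_irr_self CfsgLib.Char.isIrrCharacter_one] at this
          exact_mod_cast this.symm
        rw [hq1, mul_one] at hc1
        rw [hc, ← CfsgLib.Char.classInner_conj_symm,
          CfsgLib.Char.classInner_sum_smul_irr _ ⟨fun _ => 1, CfsgLib.Char.isIrrCharacter_one⟩, hc1]
        simp
      obtain ⟨η, hη⟩ := CfsgLib.Blocks.exists_inflate_eq_of_ker N χ hker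
      have h1 := CfsgLib.Char.irr_real_of_odd (G := G ⧸ N) (by rwa [← Subgroup.index_eq_card]) η
        (fun g => by
          obtain ⟨x, rfl⟩ := QuotientGroup.mk'_surjective N g
          exact Complex.conj_eq_iff_im.mp (by have := hreal x; rw [hη] at this; exact this))
      rw [hη]
      exact Subtype.ext (funext fun x => congrFun h1 _)
    haveI : Nonempty {χ // P χ} := ⟨⟨one, hPone⟩⟩
    exact Nat.card_eq_one_iff_unique.mpr ⟨inferInstance, inferInstance⟩

end Cfsg.Agent.S4784
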