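import Cfsg.Statements.S4797
import Cfsg.Agent.Lib.Char.PrimeCodegree

set_option autoImplicit false
open Cfsg

namespace Cfsg.Agent.S4797

open CfsgLib.Char
open scoped CfsgLib.Char

/-- The codegree of an irreducible complex character χ of a finite group G is [G : ker χ] / χ(1), where ker χ is the set of elements at which χ takes the value χ(1). A non-trivial finite group is perfect if and only if no irreducible complex character of it has prime codegree. -/
theorem result {G : Type*} [Group G] [Finite G] [Nontrivial G] : commutator G = ⊤ ↔ ∀ χ : Cfsg.IrrCharacter G, ¬ ((Nat.card G / (Nat.card {g : G // (χ : G → ℂ) g = (χ : G → ℂ) 1} * Cfsg.charDegree (χ : G → ℂ)))).Prime := by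
  constructor
  · intro hperf χ hprime
    obtain ⟨K, d, c, hK, hmem, hχ1, -, hd0, hsq, hidx, hcod⟩ :=
      CfsgLib.Char.Codegree.exists_codegree χ
    rw [hcod] at hprime
    haveI := Fact.mk hprime
    have hQ : Nat.card (G ⧸ K) = d * c := by rw [← Subgroup.index_eq_card, hidx]
    have hdc : d ≤ c := Nat.le_of_mul_le_mul_left (hidx ▸ hsq) hd0
    have hperfQ : commutator (G ⧸ K) = ⊤ := by
      rw [commutator_def, ← Subgroup.map_top_of_surjective _ (QuotientGroup.mk'_surjective K),
        ← Subgroup.map_commutator, ← commutator_def, hperf]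
    exact CfsgLib.Char.Codegree.no_prime_codegree (G ⧸ K) hperfQ c hprime d hdc (hQ.trans (mul_comm _ _))
  · intro h
    by_contra hperf
    haveI : Nontrivial (Abelianization G) := QuotientGroup.nontrivial_iff.mpr hperf
    haveI : Finite (Abelianization G) := Finite.of_surjective _ QuotientGroup.mk_surjective
    obtain ⟨q, hq, hqdvd⟩ := Nat.exists_prime_and_dvd
      (Finite.one_lt_card (α := Abelianization G)).ne'
    have hcard : Nat.card (Abelianization G →* ℂˣ) = Nat.card (Abelianization G) :=
      CfsgLib.Char.card_hom_units _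
    haveI : Finite (Abelianization G →* ℂˣ) := Nat.finite_of_card_ne_zero (by
      rw [hcard]; exact Nat.card_pos.ne')
    haveI := Fact.mk hq
    obtain ⟨f, hf⟩ := exists_prime_orderOf_dvd_card' (G := Abelianization G →* ℂˣ) q (hcard ▸ hqdvd)
    let g : G →* ℂˣ := f.comp Abelianization.of
    let χ : Cfsg.IrrCharacter G := ⟨fun x => (g x : ℂ), CfsgLib.Char.isIrrCharacter_monoidHom g⟩
    refine h χ ?_
    obtain ⟨K, d, c, hK, hmem, hχ1, -, -, -, hidx, hcod⟩ := CfsgLib.Char.Codegree.exists_codegree χ
    rw [hcod]
    have hd1 : d = 1 := by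
      have : ((g 1 : ℂˣ) : ℂ) = (d : ℂ) := hχ1
      rw [map_one, Units.val_one] at this
      exact_mod_cast this.symm
    have hKker : K = g.ker := by
      ext x
      rw [hmem, MonoidHom.mem_ker]
      show ((g x : ℂˣ) : ℂ) = ((g 1 : ℂˣ) : ℂ) ↔ g x = 1
      rw [map_one, Units.val_one, Units.val_eq_one]
    have hgc : g.ker.index = q := by
      rw [Subgroup.index_ker]
      have hpow : ∀ u ∈ g.range, u ^ q = 1 := by
        rintro _ ⟨x, rfl⟩
        show (f (Abelianization.of x)) ^ q = 1
        have hfq : f ^ q = 1 := by rw [← hf]; exact pow_orderOf_eq_one f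
        exact DFunLike.congr_fun hfq (Abelianization.of x)
      haveI : Finite g.range := Finite.of_surjective g.rangeRestrict g.rangeRestrict_surjective
      haveI : Fintype g.range := Fintype.ofFinite _
      haveI : IsCyclic g.range := isCyclic_of_subgroup_isDomain
        ((Units.coeHom ℂ).comp g.range.subtype) (Units.val_injective.comp Subtype.val_injective)
      have hdvd : Nat.card g.range ∣ q := by
        rw [← IsCyclic.exponent_eq_card, Monoid.exponent_dvd_iff_forall_pow_eq_one]
        exact fun u => Subtype.ext (hpow u u.2)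
      refine (hq.eq_one_or_self_of_dvd _ hdvd).resolve_left fun h1 => ?_
      have hf1 : f = 1 := by
        refine MonoidHom.ext fun a => ?_
        obtain ⟨x, rfl⟩ := QuotientGroup.mk_surjective a
        have : g x ∈ g.range := ⟨x, rfl⟩
        rw [Subgroup.card_eq_one.mp h1, Subgroup.mem_bot] at this
        exact this
      rw [hf1, orderOf_one] at hf
      exact hq.one_lt.ne hf
    rw [hKker, hgc, hd1, one_mul] at hidx
    exact hidx ▸ hq

end Cfsg.Agent.S4797
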