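import Cfsg.Statements.S4798
import Cfsg.Agent.Lib.Char.Central
import Cfsg.Agent.Lib.Char.Induced
import Cfsg.Agent.Lib.Blocks.CentralChar

set_option autoImplicit false
set_option linter.style.haveILetI false
open Cfsg
open CfsgLib
open scoped CfsgLib.Char

namespace Cfsg.Agent.S4798

/-- Let p be a prime and χ a faithful irreducible complex character of the finite group G (χ(g) = χ(1) only for g = 1), so that its codegree is #G / χ(1). Then #G / χ(1) is a power of p if and only if χ is induced from a character of a Sylow p-subgroup of G. -/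
theorem result {G : Type*} [Group G] [Fintype G] (p : ℕ) [Fact p.Prime] (χ : Cfsg.IrrCharacter G) (hfaith : ∀ g : G, (χ : G → ℂ) g = (χ : G → ℂ) 1 → g = 1) : (∃ k : ℕ, Nat.card G = p ^ k * Cfsg.charDegree (χ : G → ℂ)) ↔ ∃ (P : Sylow p G) (θ : ↥(P : Subgroup G) → ℂ), Cfsg.IsCharacter ↥(P : Subgroup G) θ ∧ (χ : G → ℂ) = Cfsg.indFun (P : Subgroup G) θ := by
  classical
  have hp : p.Prime := Fact.out
  obtain ⟨d, hd1, hd0, hdG⟩ := Char.exists_degree_dvd_card χ.2
  have hd : Cfsg.charDegree (χ : G → ℂ) = d := by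
    have h := (Blocks.irr_degree_eq χ).1
    rw [hd1] at h
    exact_mod_cast h.symm
  rw [hd]
  constructor
  · rintro ⟨k, hk⟩
    let P : Sylow p G := default
    haveI := Fintype.ofFinite (P : Subgroup G)
    obtain ⟨a, ha⟩ := IsPGroup.iff_card.mp P.2
    set m := (P : Subgroup G).index
    have hm : ¬ p ∣ m := P.not_dvd_index
    have hG : Nat.card G = p ^ a * m := by rw [← ha, (P : Subgroup G).card_mul_index]
    obtain ⟨c, hc⟩ : m ∣ d := (((hp.coprime_iff_not_dvd.mpr hm).pow_left k).symm).dvd_of_dvd_mul_left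
      (hk ▸ hG ▸ dvd_mul_left m (p ^ a))
    have hca : c ∣ p ^ a := by
      rw [hG, hc, mul_comm (p ^ a)] at hdG
      exact Nat.dvd_of_mul_dvd_mul_left (Nat.pos_of_ne_zero (P : Subgroup G).index_ne_zero_of_finite) hdG
    obtain ⟨j, hja, rfl⟩ := (Nat.dvd_prime_pow hp).mp hca
    obtain ⟨r, hr⟩ := Char.exists_multiplicities
      (Char.isCharacter_restrict (P : Subgroup G) (Char.isCharacter_of_isIrr χ.2))
    choose e he1 _ he2 using fun ξ : Cfsg.IrrCharacter (P : Subgroup G) => Char.exists_degree_dvd_card ξ.2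
    have hsum : ((∑ ξ : Cfsg.IrrCharacter (P : Subgroup G), r ξ * e ξ : ℕ) : ℂ) = (d : ℂ) := by
      have h := congrFun hr 1
      simp only [Finset.sum_apply, Pi.smul_apply, smul_eq_mul, Subgroup.coe_one, hd1, he1] at h
      push_cast
      exact h.symm
    have hsum' : ∑ ξ : Cfsg.IrrCharacter (P : Subgroup G), r ξ * e ξ = d := by exact_mod_cast hsum
    obtain ⟨ξ, hξr, hξe⟩ : ∃ ξ, r ξ ≠ 0 ∧ e ξ ≤ p ^ j := by
      by_contra hno
      push Not at hno
      have : p ^ (j + 1) ∣ d := by
        rw [← hsum']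
        refine Finset.dvd_sum fun ξ _ => ?_
        by_cases h0 : r ξ = 0
        · simp [h0]
        obtain ⟨i, -, hi⟩ := (Nat.dvd_prime_pow hp).mp (ha ▸ he2 ξ)
        refine Dvd.dvd.mul_left ?_ _
        rw [hi]
        refine pow_dvd_pow p ?_
        have h1 := hno ξ h0
        rw [hi] at h1
        exact (Nat.pow_lt_pow_iff_right hp.one_lt).mp h1
      rw [hc, pow_succ, mul_comm (p ^ j) p] at this
      exact hm (Nat.dvd_of_mul_dvd_mul_right (pow_pos hp.pos j) this)
    obtain ⟨s, hs⟩ := Char.exists_multiplicities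
      (Char.isCharacter_indFun (P : Subgroup G) (Char.isCharacter_of_isIrr ξ.2))
    have hsχ : s χ = r ξ := by
      have h := Char.frobenius_reciprocity' (P : Subgroup G) (ξ : ↥(P : Subgroup G) → ℂ) (Char.isClassFunction_irr χ)
      rw [← Char.classInner_conj_symm, hs, Char.classInner_sum_smul_irr, hr, Char.classInner_sum_smul_irr, map_natCast] at h
      exact_mod_cast h
    choose t ht using fun η : Cfsg.IrrCharacter G => Char.exists_degree_dvd_card η.2
    have hdeg : ∑ η : Cfsg.IrrCharacter G, s η * t η = m * e ξ := by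
      have h := congrFun hs 1
      simp only [Finset.sum_apply, Pi.smul_apply, smul_eq_mul, Char.indFun_one, he1] at h
      have h' : ((∑ η : Cfsg.IrrCharacter G, s η * t η : ℕ) : ℂ) = ((m * e ξ : ℕ) : ℂ) := by
        push_cast
        rw [h]
        exact Finset.sum_congr rfl fun η _ => by rw [(ht η).1]
      exact_mod_cast h'
    have htχ : t χ = d := by
      have := (ht χ).1
      rw [hd1] at this
      exact_mod_cast this.symm
    have hsplit := Finset.add_sum_erase Finset.univ (fun η => s η * t η) (Finset.mem_univ χ)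
    rw [hdeg] at hsplit
    rw [htχ, hsχ] at hsplit
    have h1 : r ξ = 1 ∧ ∑ η ∈ Finset.univ.erase χ, s η * t η = 0 := by
      have hle : m * e ξ ≤ d := by rw [hc]; exact Nat.mul_le_mul_left m hξe
      have hr1 : 1 ≤ r ξ := Nat.one_le_iff_ne_zero.mpr hξr
      have hr2 : r ξ = 1 := le_antisymm
        (Nat.le_of_mul_le_mul_right (show r ξ * d ≤ 1 * d by omega) hd0) hr1
      rw [hr2, one_mul] at hsplit
      exact ⟨hr2, by omega⟩
    refine ⟨P, (ξ : ↥(P : Subgroup G) → ℂ), Char.isCharacter_of_isIrr ξ.2, ?_⟩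
    rw [hs, Finset.sum_eq_single χ]
    · rw [hsχ, h1.1, Nat.cast_one, one_smul]
    · intro η _ hη
      have h2 := Finset.sum_eq_zero_iff.mp h1.2 η (Finset.mem_erase.mpr ⟨hη, Finset.mem_univ η⟩)
      have ht0 : t η ≠ 0 := fun e0 => Char.irr_degree_ne_zero η.2 (by rw [(ht η).1, e0, Nat.cast_zero])
      rw [(mul_eq_zero.mp h2).resolve_right ht0, Nat.cast_zero, zero_smul]
    · simp
  · rintro ⟨P, θ, hθ, he⟩
    obtain ⟨a, ha⟩ := IsPGroup.iff_card.mp P.2
    obtain ⟨n, ρ, rfl⟩ := hθ
    have h1 : d = (P : Subgroup G).index * n := by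
      have h := congrFun he 1
      rw [hd1, Char.indFun_one, Representation.char_one, Module.finrank_fin_fun] at h
      exact_mod_cast h
    have hG : Nat.card G = p ^ a * (P : Subgroup G).index := by rw [← ha, (P : Subgroup G).card_mul_index]
    rw [hG, h1, mul_comm (p ^ a)] at hdG
    obtain ⟨j, hja, hj⟩ := (Nat.dvd_prime_pow hp).mp
      (Nat.dvd_of_mul_dvd_mul_left (Nat.pos_of_ne_zero (P : Subgroup G).index_ne_zero_of_finite) hdG)
    refine ⟨a - j, ?_⟩
    rw [hG, h1, hj, show p ^ a = p ^ (a - j) * p ^ j by rw [← pow_add, Nat.sub_add_cancel hja]]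
    ring

end Cfsg.Agent.S4798
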