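import Cfsg.Statements.S4801
import Cfsg.Agent.Lib.Char.Codegree

set_option autoImplicit false
open Cfsg

namespace Cfsg.Agent.S4801

open CfsgLib.Char
open scoped CfsgLib.Char

/-- The codegree of an irreducible complex character χ of a finite group G is [G : ker χ] / χ(1), where ker χ is the set of elements at which χ takes the value χ(1). Let S be a finite simple group and G a finite group such that every codegree of an irreducible character of S is a codegree of an irreducible character of G. Then the order of S divides the order of G. -/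
theorem result {S : Type*} [Group S] [Finite S] (hS : IsSimpleGroup S) {G : Type*} [Group G] [Finite G] (hsub : ∀ χ : Cfsg.IrrCharacter S, ∃ ψ : Cfsg.IrrCharacter G, (Nat.card S / (Nat.card {g : S // (χ : S → ℂ) g = (χ : S → ℂ) 1} * Cfsg.charDegree (χ : S → ℂ))) = (Nat.card G / (Nat.card {g : G // (ψ : G → ℂ) g = (ψ : G → ℂ) 1} * Cfsg.charDegree (ψ : G → ℂ)))) : Nat.card S ∣ Nat.card G := by
  rw [Nat.dvd_iff_prime_pow_dvd_dvd]
  intro p k hp hdvd
  rcases Nat.eq_zero_or_pos k with rfl | hk
  · simp
  obtain ⟨χ, hχ, hnd⟩ := CfsgLib.Char.Codegree.exists_degree_not_dvd p hp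
    ((dvd_pow_self p hk.ne').trans hdvd)
  obtain ⟨K, d, c, hK, hmem, hχ1, -, -, -, hidx, hcod⟩ := CfsgLib.Char.Codegree.exists_codegree χ
  have hKbot : K = ⊥ := by
    refine (hK.eq_bot_or_eq_top).resolve_right fun htop => hχ ?_
    subst htop
    rw [Subgroup.index_top] at hidx
    have hd : d = 1 := Nat.eq_one_of_mul_eq_one_right hidx.symm
    funext g
    rw [(hmem g).mp trivial, hχ1, hd, Nat.cast_one]
  rw [hKbot, Subgroup.index_bot] at hidx
  have hc : p ^ k ∣ c :=
    (((hp.coprime_iff_not_dvd.mpr (hnd d hχ1)).pow_left k).dvd_mul_left).mp (hidx ▸ hdvd)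
  obtain ⟨ψ, hψ⟩ := hsub χ
  obtain ⟨K', d', c', -, -, -, -, -, -, hidx', hcod'⟩ := CfsgLib.Char.Codegree.exists_codegree ψ
  rw [hcod, hcod'] at hψ
  exact hc.trans (hψ ▸ (Dvd.intro_left d' hidx'.symm).trans K'.index_dvd_card)

end Cfsg.Agent.S4801
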