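import Cfsg.Statements.S4802
import Cfsg.Agent.Lib.Char.ClassProd

set_option autoImplicit false
open Cfsg

namespace Cfsg.Agent.S4802

open CfsgLib.Char
open scoped CfsgLib.Char

/-- Let N < M be normal subgroups of the finite group G and g ∈ M ∖ N. Then the conjugacy class of g is exactly M ∖ N if and only if every irreducible complex character of G whose kernel contains N takes the same value at all elements of M ∖ N, and every irreducible complex character of G whose kernel does not contain N vanishes at g. -/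
theorem result {G : Type*} [Group G] [Finite G] (N M : Subgroup G) [N.Normal] [M.Normal] (hNM : N < M) (g : G) (hgM : g ∈ M) (hgN : g ∉ N) : {h : G | IsConj g h} = (M : Set G) \ (N : Set G) ↔ ((∀ χ : Cfsg.IrrCharacter G, (∀ x ∈ N, (χ : G → ℂ) x = (χ : G → ℂ) 1) → ∀ x ∈ M, x ∉ N → ∀ y ∈ M, y ∉ N → (χ : G → ℂ) x = (χ : G → ℂ) y) ∧ (∀ χ : Cfsg.IrrCharacter G, (∃ x ∈ N, (χ : G → ℂ) x ≠ (χ : G → ℂ) 1) → (χ : G → ℂ) g = 0)) := by
  classical
  haveI : Fintype G := Fintype.ofFinite G
  constructor
  · intro hset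
    have hmem : ∀ u ∈ M, u ∉ N → IsConj g u := fun u hu hu' => hset.symm.subset ⟨hu, hu'⟩
    refine ⟨fun χ _ u hu hu' v hv hv' => ?_, fun χ hχ => ?_⟩
    · exact CfsgLib.Char.eq_of_isConj (CfsgLib.Char.isClassFunction_irr χ)
        ((hmem u hu hu').symm.trans (hmem v hv hv'))
    · refine CfsgLib.Char.ClassProd.eq_zero_of_coset_conj N χ.2 hχ g fun n hn => ?_
      exact hmem _ (M.mul_mem hgM (hNM.le hn)) fun h => hgN ((N.mul_mem_cancel_right hn).mp h)
  · rintro ⟨ha, hb⟩
    ext u
    constructor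
    · intro hu
      obtain ⟨c, rfl⟩ := isConj_iff.mp hu
      refine ⟨(inferInstance : M.Normal).conj_mem g hgM c, fun h => hgN ?_⟩
      have := (inferInstance : N.Normal).conj_mem _ h c⁻¹
      simpa [mul_assoc] using this
    · rintro ⟨hu, hu'⟩
      by_contra hn
      have h0 := CfsgLib.Char.column_orthogonality u g
      rw [if_neg (fun e => hn e.symm)] at h0
      have h2 := CfsgLib.Char.column_orthogonality g g
      rw [if_pos (IsConj.refl _)] at h2
      have hEq : ∀ χ : Cfsg.IrrCharacter G, (χ : G → ℂ) u * (starRingEnd ℂ) ((χ : G → ℂ) g)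
          = (χ : G → ℂ) g * (starRingEnd ℂ) ((χ : G → ℂ) g) := by
        intro χ
        by_cases hχ : ∃ x ∈ N, (χ : G → ℂ) x ≠ (χ : G → ℂ) 1
        · rw [hb χ hχ, map_zero, mul_zero, mul_zero]
        · push_neg at hχ
          rw [ha χ hχ u hu hu' g hgM hgN]
      rw [Finset.sum_congr rfl fun χ _ => hEq χ, h2] at h0
      exact Nat.card_pos.ne' (Nat.cast_eq_zero.mp h0)

end Cfsg.Agent.S4802
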