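import Cfsg.Statements.S4805
import Cfsg.Agent.Lib.OneException.Char
import Cfsg.Agent.Lib.OneException.Big

set_option autoImplicit false
open Cfsg

namespace Cfsg.Agent.S4805

/-- Let G be a finite group, g an element outside the centre of G, and χ an irreducible complex character of degree greater than one with χ(g) ≠ 0 such that every other irreducible character of degree greater than one vanishes at g. Then g lies in the derived subgroup G′ and χ(g) = −[G : G′]/χ(1); G′ is the union of the kernel of χ (the elements where χ takes the value χ(1)) and the conjugacy class of g, and χ vanishes outside G′; every irreducible character of degree greater than one whose kernel contains that of χ equals χ; and G is solvable. -/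
theorem result {G : Type*} [Group G] [Finite G] (g : G) (hg : g ∉ Subgroup.center G) (χ : Cfsg.IrrCharacter G) (hχ1 : Cfsg.charDegree (χ : G → ℂ) ≠ 1) (hχg : (χ : G → ℂ) g ≠ 0) (hother : ∀ ψ : Cfsg.IrrCharacter G, Cfsg.charDegree (ψ : G → ℂ) ≠ 1 → ψ ≠ χ → (ψ : G → ℂ) g = 0) : g ∈ commutator G ∧ (χ : G → ℂ) g = -(((commutator G).index : ℂ) / (χ : G → ℂ) 1) ∧ ((commutator G : Set G) = {x : G | (χ : G → ℂ) x = (χ : G → ℂ) 1} ∪ {h : G | IsConj g h}) ∧ (∀ x : G, x ∉ commutator G → (χ : G → ℂ) x = 0) ∧ (∀ ψ : Cfsg.IrrCharacter G, Cfsg.charDegree (ψ : G → ℂ) ≠ 1 → (∀ x : G, (χ : G → ℂ) x = (χ : G → ℂ) 1 → (ψ : G → ℂ) x = (ψ : G → ℂ) 1) → ψ = χ) ∧ Group.IsSolvable G := by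
  classical
  have h : CfsgLib.OneException.Exc g χ :=
    { deg := (CfsgLib.OneException.charDegree_ne_one_iff χ).mp hχ1
      ne := hχg
      other := fun ψ h1 h2 => hother ψ ((CfsgLib.OneException.charDegree_ne_one_iff ψ).mpr h1) h2 }
  refine ⟨h.mem_commutator, h.value hg, h.commutator_eq hg, h.zero_off,
    fun ψ h1 h2 => h.unique hg ψ ((CfsgLib.OneException.charDegree_ne_one_iff ψ).mp h1) h2, ?_⟩
  obtain ⟨K, hKn, hK, -⟩ :=
    CfsgLib.Char.exists_kernel (CfsgLib.Char.isCharacter_of_isIrr χ.2)
  have hset := h.commutator_eq hg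
  have hcls : CfsgLib.OneException.Cls K g :=
    { normal := hKn
      le := fun x hx => by
        have h1 : x ∈ (commutator G : Set G) := by rw [hset]; exact Or.inl ((hK x).mp hx)
        exact h1
      mem := h.mem_commutator
      notMem := fun e => h.value_ne hg ((hK g).mp e)
      cls := fun y hy hyK => by
        have h1 : y ∈ (commutator G : Set G) := hy
        rw [hset] at h1
        exact h1.resolve_left fun e => hyK ((hK y).mpr e)
      cent := fun z hz => h.central_mem z fun x => (hK _).mp (hz x) }
  by_cases h2 : ∀ a ∈ commutator G, a ∉ K → g⁻¹ * a ∈ K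
  · exact hcls.solvable_two h2
  · push Not at h2
    exact hcls.solvable_big h2

end Cfsg.Agent.S4805
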