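import Cfsg.Statements.S4807
import Cfsg.Agent.Lib.Char.RelMcKay.Main

set_option autoImplicit false
open Cfsg CfsgLib.Char CfsgLib.Char.RelMcKay
open CfsgLib.Char.Glauberman (res Inv)

attribute [local instance 10000] Fintype.ofFinite

namespace Cfsg.Agent.S4807

theorem over_iff {G : Type*} [Group G] [Finite G] {L M : Subgroup G} (h : L ≤ M) (χ : M → ℂ)
    (ν : L → ℂ) :
    Over h χ ν ↔ (∑ᶠ l : L, χ (Subgroup.inclusion h l) * (starRingEnd ℂ) (ν l)) ≠ 0 := by
  rw [finsum_eq_sum_of_fintype]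
  unfold Over classInner
  rw [mul_ne_zero_iff]
  exact ⟨fun h' => h'.2, fun h' => ⟨inv_ne_zero (Nat.cast_ne_zero.mpr Nat.card_pos.ne'), h'⟩⟩

/-- Let p be a prime and G a finite p-solvable group, L a normal subgroup of G, S a Sylow p-subgroup of G and P the subgroup generated by L and S (so P/L is a Sylow p-subgroup of G/L), and let ν be an irreducible complex character of L that is invariant under conjugation by every element of P. Let N be the normalizer of P in G (it contains L). Then the number of irreducible characters of G of degree prime to p lying over ν (restriction to L not orthogonal to ν) equals the number of irreducible characters of N of degree prime to p lying over ν. -/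
theorem result {G : Type*} [Group G] [Finite G] (p : ℕ) [Fact p.Prime] (hG : Cfsg.IsPSolvable p G) (L : Subgroup G) [L.Normal] (S : Sylow p G) (P : Subgroup G) (hP : P = L ⊔ (S : Subgroup G)) (hLN : L ≤ (Subgroup.normalizer ((P : Subgroup G) : Set G))) (ν : Cfsg.IrrCharacter ↥L) (hν : ∀ x ∈ P, Cfsg.IsConjCharOf L x (ν : ↥L → ℂ) (ν : ↥L → ℂ)) : Nat.card {χ : Cfsg.IrrCharacter G // ¬ p ∣ Cfsg.charDegree (χ : G → ℂ) ∧ (∑ᶠ l : ↥L, (χ : G → ℂ) (l : G) * (starRingEnd ℂ) ((ν : ↥L → ℂ) l)) ≠ 0} = Nat.card {ψ : Cfsg.IrrCharacter ↥(Subgroup.normalizer ((P : Subgroup G) : Set G)) // ¬ p ∣ Cfsg.charDegree (ψ : ↥(Subgroup.normalizer ((P : Subgroup G) : Set G)) → ℂ) ∧ (∑ᶠ l : ↥L, (ψ : ↥(Subgroup.normalizer ((P : Subgroup G) : Set G)) → ℂ) (Subgroup.inclusion hLN l) * (starRingEnd ℂ) ((ν : ↥L → ℂ) l)) ≠ 0} := by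
  have hp : p.Prime := Fact.out
  have hidx : ¬ p ∣ (S : Subgroup G).relIndex ⊤ := by
    rw [Subgroup.relIndex_top_right]
    exact S.not_dvd_index
  have hn : (⊤ : Subgroup G) ≤ Subgroup.normalizer (L : Set G) :=
    (Subgroup.normalizer_eq_top (H := L)).ge
  have hLN' : L ≤ ⊤ ⊓ Subgroup.normalizer ((P : Subgroup G) : Set G) := le_inf le_top hLN
  have h := card_above_eq_normalizer hp hG _ (M := ⊤) (le_top : L ≤ ⊤) rfl hn S.2 le_top hidx hP ν
    (fun x hx a b e => hν x hx a b e) hLN'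
  rw [above_congr (top_inf_eq _) hLN' hLN] at h
  let e : (⊤ : Subgroup G) ≃* G := Subgroup.topEquiv
  let E : Cfsg.IrrCharacter G ≃ Cfsg.IrrCharacter ↥(⊤ : Subgroup G) :=
    { toFun := fun χ => ⟨fun g => (χ : G → ℂ) (e g), isIrrCharacter_comp_mulEquiv e χ.2⟩
      invFun := fun χ => ⟨fun g => (χ : (⊤ : Subgroup G) → ℂ) (e.symm g),
        isIrrCharacter_comp_mulEquiv e.symm χ.2⟩
      left_inv := fun χ => rfl
      right_inv := fun χ => rfl }
  refine (Nat.card_congr (Equiv.subtypeEquiv E fun χ => ?_)).trans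
    (h.trans (Nat.card_congr (Equiv.subtypeEquivRight fun ψ => and_congr_right fun _ =>
      over_iff hLN _ _)))
  rw [over_iff]
  exact Iff.rfl

end Cfsg.Agent.S4807
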