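import Cfsg.Statements.S4813
import Cfsg.Agent.Lib.PrimeDegrees.Main
import Cfsg.Agent.Lib.Char.Extraspecial

set_option autoImplicit false
open Cfsg

namespace Cfsg.Agent.S4813

/-- If every irreducible complex character of the finite group G of degree greater than one has prime degree, then G has at most three distinct irreducible character degrees. -/
theorem result {G : Type*} [Group G] [Finite G] (hprime : ∀ d ∈ Cfsg.charDegrees G, d = 1 ∨ d.Prime) : Nat.card ↥(Cfsg.charDegrees G) ≤ 3 := by
  classical
  obtain ⟨s, hs, hcov⟩ := CfsgLib.PrimeDegrees.exists_two (G := G) fun χ d hd =>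
    hprime d ⟨χ, CfsgLib.Char.Extraspecial.charDegree_eq hd⟩
  have hsub : Cfsg.charDegrees G ⊆ ↑(insert 1 s) := by
    rintro d ⟨χ, rfl⟩
    obtain ⟨n, -, hn⟩ := CfsgLib.Char.exists_nat_degree_irr χ.2
    rw [CfsgLib.Char.Extraspecial.charDegree_eq hn, Finset.coe_insert, Set.mem_insert_iff]
    exact hcov χ n hn
  rw [Nat.card_coe_set_eq]
  refine (Set.ncard_le_ncard hsub).trans ?_
  rw [Set.ncard_coe_finset]
  exact (Finset.card_insert_le 1 s).trans (by omega)

end Cfsg.Agent.S4813
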