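import Cfsg.Statements.S4814
import Cfsg.Agent.Lib.Char.Convolution
import Cfsg.Agent.Lib.Char.MeanValue
import Cfsg.Agent.Lib.Char.Virtual
import Mathlib.RingTheory.Polynomial.Cyclotomic.Eval
import Mathlib.RingTheory.Polynomial.Cyclotomic.Roots

set_option autoImplicit false
open Cfsg

namespace Cfsg.Agent.S4814

open CfsgLib.Char
open scoped CfsgLib.Char

/-- Let G be a finite group such that the sum, over the irreducible complex characters χ of G, of 1/χ(1)² is less than 2. Then every element of G is a product of two commutators. -/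
theorem result {G : Type*} [Group G] [Finite G]
    (h : ∑ᶠ χ : Cfsg.IrrCharacter G, 1 / ‖(χ : G → ℂ) 1‖ ^ 2 < (2 : ℝ)) (g : G) :
    ∃ a b c d : G, (a * b * a⁻¹ * b⁻¹) * (c * d * c⁻¹ * d⁻¹) = g := by
  classical
  have : Fintype G := Fintype.ofFinite G
  set N : G → ℕ := fun z => Nat.card {xy : G × G // xy.1 * xy.2 * xy.1⁻¹ * xy.2⁻¹ = z}
  have hN : ∀ z, (N z : ℂ) = (Nat.card G : ℂ) * ∑ χ : Cfsg.IrrCharacter G, (χ : G → ℂ) z / (χ : G → ℂ) 1 :=
    card_commutator_solutions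
  have hGc : (Nat.card G : ℂ) ≠ 0 := Nat.cast_ne_zero.mpr Nat.card_pos.ne'
  have htot : ∑ z : G, N z = Nat.card G ^ 2 := by
    rw [← Nat.card_sigma, sq, ← Nat.card_prod]
    exact Nat.card_congr (Equiv.sigmaFiberEquiv fun xy : G × G => xy.1 * xy.2 * xy.1⁻¹ * xy.2⁻¹)
  choose d hd hd0 using fun χ : Cfsg.IrrCharacter G =>
    (exists_nat_degree_irr χ.2).imp fun n h => And.intro h.2 h.1
  have hsq : ∑ z : G, ((N z : ℝ)) ^ 2 = (Nat.card G : ℝ) ^ 3 * ∑ χ : Cfsg.IrrCharacter G, 1 / ((d χ : ℝ) ^ 2) := by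
    have h1 : Cfsg.classInner (fun z => (N z : ℂ)) (fun z => (N z : ℂ)) =
        (Nat.card G : ℂ) ^ 2 * ∑ χ : Cfsg.IrrCharacter G, 1 / ((d χ : ℂ) ^ 2) := by
      have e : (fun z => (N z : ℂ)) = ∑ χ : Cfsg.IrrCharacter G, ((Nat.card G : ℂ) / d χ) • (χ : G → ℂ) := by
        funext z
        rw [hN, Finset.mul_sum, Finset.sum_apply]
        refine Finset.sum_congr rfl fun χ _ => ?_
        rw [hd]; simp only [Pi.smul_apply, smul_eq_mul]; ring
      rw [e, classInner_sum_smul_sum_smul, Finset.mul_sum]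
      refine Finset.sum_congr rfl fun χ _ => ?_
      rw [map_div₀, map_natCast, map_natCast]; field_simp
    simp only [Cfsg.classInner, map_natCast] at h1
    rw [inv_mul_eq_iff_eq_mul₀ hGc] at h1
    have h2 : ((∑ z : G, ((N z : ℝ)) ^ 2 : ℝ) : ℂ) =
        (((Nat.card G : ℝ) ^ 3 * ∑ χ : Cfsg.IrrCharacter G, 1 / ((d χ : ℝ) ^ 2) : ℝ) : ℂ) := by
      push_cast
      simp only [sq] at h1 ⊢
      rw [h1]; ring
    exact_mod_cast h2
  have hlt : ∑ χ : Cfsg.IrrCharacter G, 1 / ((d χ : ℝ) ^ 2) < 2 := by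
    rw [finsum_eq_sum_of_fintype] at h
    simpa [hd] using h
  set S := Finset.univ.filter fun z : G => N z ≠ 0 with hS
  have hSbig : (Nat.card G : ℝ) < 2 * S.card := by
    have hcs := Finset.sum_mul_sq_le_sq_mul_sq S (fun z => (N z : ℝ)) (fun _ => (1 : ℝ))
    simp only [mul_one, one_pow, Finset.sum_const, nsmul_eq_mul, mul_one] at hcs
    have e1 : ∑ z ∈ S, (N z : ℝ) = (Nat.card G : ℝ) ^ 2 := by
      rw [hS, Finset.sum_filter_of_ne fun z _ hz => by exact_mod_cast hz]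
      exact_mod_cast htot
    have e2 : ∑ z ∈ S, (N z : ℝ) ^ 2 ≤ (Nat.card G : ℝ) ^ 3 * ∑ χ : Cfsg.IrrCharacter G, 1 / ((d χ : ℝ) ^ 2) := by
      rw [← hsq]
      exact Finset.sum_le_sum_of_subset_of_nonneg (Finset.subset_univ _) fun _ _ _ => sq_nonneg _
    rw [e1] at hcs
    have hpos : (0 : ℝ) < Nat.card G := Nat.cast_pos.mpr Nat.card_pos
    have hS0 : (0 : ℝ) ≤ S.card := Nat.cast_nonneg _
    have hSum0 : 0 ≤ ∑ χ : Cfsg.IrrCharacter G, 1 / ((d χ : ℝ) ^ 2) := Finset.sum_nonneg fun _ _ => by positivity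
    by_contra hcon
    rw [not_lt] at hcon
    have hSpos : (0 : ℝ) < S.card := by
      refine lt_of_le_of_ne hS0 fun e => ?_
      rw [← e, mul_zero] at hcs
      exact absurd hcs (not_le.mpr (pow_pos (pow_pos hpos 2) 2))
    have c1 := hcs.trans (mul_le_mul_of_nonneg_right e2 hS0)
    have c2 := mul_lt_mul_of_pos_right (mul_lt_mul_of_pos_left hlt (pow_pos hpos 3)) hSpos
    have c3 := mul_le_mul_of_nonneg_left hcon (pow_nonneg hpos.le 3)
    nlinarith [c1, c2, c3]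
  have hint : (S ∩ S.image fun w => g * w⁻¹).Nonempty := by
    rw [← Finset.card_pos]
    have h1 := Finset.card_union_add_card_inter S (S.image fun w => g * w⁻¹)
    have hinj : Function.Injective fun w : G => g * w⁻¹ := fun a b hab =>
      inv_inj.mp (mul_left_cancel (a := g) hab)
    rw [Finset.card_image_of_injective _ hinj] at h1
    have h2 := Finset.card_le_univ (S ∪ S.image fun w => g * w⁻¹)
    rw [← Nat.card_eq_fintype_card] at h2
    have h3 : Nat.card G < 2 * S.card := by exact_mod_cast hSbig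
    omega
  obtain ⟨w, hw⟩ := hint
  obtain ⟨h1, h2⟩ := Finset.mem_inter.mp hw
  obtain ⟨v, hv, hvw⟩ := Finset.mem_image.mp h2
  obtain ⟨⟨⟨⟨a, b⟩, hab⟩⟩, -⟩ := Nat.card_pos_iff.mp (Nat.pos_of_ne_zero (Finset.mem_filter.mp h1).2)
  obtain ⟨⟨⟨⟨c, e⟩, hce⟩⟩, -⟩ := Nat.card_pos_iff.mp (Nat.pos_of_ne_zero (Finset.mem_filter.mp hv).2)
  refine ⟨a, b, c, e, ?_⟩
  rw [hab, hce, ← hvw, inv_mul_cancel_right]

end Cfsg.Agent.S4814
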