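import Cfsg.Statements.S4825
import Cfsg.Agent.Lib.Blocks.Sections
import Cfsg.Agent.Lib.Blocks.MainSecond
import Cfsg.Agent.Lib.Char.Clifford

set_option autoImplicit false
open Cfsg
open scoped CfsgLib.Char

namespace Cfsg.Agent.S4825

/-- Let p be a prime, G a finite group with Sylow p-subgroup P, M a maximal ideal of the algebraic integers containing p, and B a p-block of G with defect group P. Let N be a normal subgroup of G not containing P and θ an irreducible character of N. Then the number of irreducible characters in B of degree prime to p lying over θ (having θ as a constituent on restriction to N) is either 0 or at least 2, and when p ≤ 3 it is divisible by p. -/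
theorem result {G : Type*} [Group G] [Fintype G] (p : ℕ) [Fact p.Prime] (P : Sylow p G) (M : Ideal Cfsg.AlgInt) (hM : Cfsg.IsPModular p M) (B : Set (Cfsg.IrrCharacter G)) (hB : Cfsg.IsPBlock M B) (hBP : Cfsg.IsDefectGroup p M B P) (N : Subgroup G) [N.Normal] [Fintype N] (hPN : ¬ (P : Subgroup G) ≤ N) (θ : Cfsg.IrrCharacter N) :
    (Nat.card {χ : Cfsg.IrrCharacter G // χ ∈ B ∧ ¬ p ∣ Cfsg.charDegree (χ : G → ℂ) ∧ Cfsg.classInner (fun n : N => (χ : G → ℂ) n) (θ : N → ℂ) ≠ 0} = 0 ∨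
      2 ≤ Nat.card {χ : Cfsg.IrrCharacter G // χ ∈ B ∧ ¬ p ∣ Cfsg.charDegree (χ : G → ℂ) ∧ Cfsg.classInner (fun n : N => (χ : G → ℂ) n) (θ : N → ℂ) ≠ 0}) ∧
    (p ≤ 3 → p ∣ Nat.card {χ : Cfsg.IrrCharacter G // χ ∈ B ∧ ¬ p ∣ Cfsg.charDegree (χ : G → ℂ) ∧ Cfsg.classInner (fun n : N => (χ : G → ℂ) n) (θ : N → ℂ) ≠ 0}) := by
  classical
  have := CfsgLib.Blocks.isPrime_of_isPModular hM
  set T := {χ : IrrCharacter G // χ ∈ B ∧ ¬ p ∣ charDegree (χ : G → ℂ) ∧
    classInner (fun n : N => (χ : G → ℂ) n) (θ : N → ℂ) ≠ 0} with hT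
  set s : Finset (IrrCharacter G) := {χ | χ ∈ B ∧ ¬ p ∣ charDegree (χ : G → ℂ) ∧
    classInner (fun n : N => (χ : G → ℂ) n) (θ : N → ℂ) ≠ 0} with hs
  have hcard : Nat.card T = s.card := by
    rw [hT, hs, ← Fintype.card_subtype, ← Nat.card_eq_fintype_card]
  choose e he using fun χ : IrrCharacter G => CfsgLib.Char.exists_nat_classInner
    (CfsgLib.Char.isCharacter_restrict N (CfsgLib.Char.isCharacter_of_isIrr χ.2))
    (CfsgLib.Char.isCharacter_of_isIrr θ.2)
  obtain ⟨x, hxP, hxN⟩ := SetLike.not_le_iff_exists.mp hPN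
  have hxp : ∃ k : ℕ, orderOf x = p ^ k := by
    obtain ⟨k, hk⟩ := IsPGroup.iff_orderOf.mp P.2 ⟨x, hxP⟩
    exact ⟨k, by rwa [← Subgroup.orderOf_coe] at hk⟩
  have h1N : ¬ p ∣ orderOf (1 : G) := by rw [orderOf_one, Nat.dvd_one]; exact hM.1.ne_one
  have hzero : ∑ χ : IrrCharacter G with χ ∈ B, (e χ : ℂ) * (χ : G → ℂ) x = 0 := by
    have hterm : ∀ n : N, ∑ χ : IrrCharacter G with χ ∈ B,
        (χ : G → ℂ) n * (starRingEnd ℂ) ((χ : G → ℂ) x⁻¹) = 0 := by
      intro n
      obtain ⟨a, ha, hamem⟩ := CfsgLib.Blocks.exists_isPPart hM.1 (n : G)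
      have haN : a ∈ N := Subgroup.zpowers_le.mpr n.2 hamem
      refine CfsgLib.Blocks.sum_block_eq_zero_of_not_isConj hM ha (b := x⁻¹) ?_ ?_ hB
      · have := CfsgLib.Blocks.isPPart_mul (Commute.one_right x⁻¹)
          (by obtain ⟨k, hk⟩ := hxp; exact ⟨k, by rw [orderOf_inv, hk]⟩) h1N
        rwa [mul_one] at this
      · intro hc
        obtain ⟨g, hg⟩ := isConj_iff.mp hc
        exact hxN (inv_mem_iff.mp (hg ▸ ‹N.Normal›.conj_mem a haN g))
    simp only [← he, classInner, mul_assoc, Finset.sum_mul, ← Finset.mul_sum]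
    rw [Finset.sum_comm, Finset.sum_eq_zero, mul_zero]
    intro n _
    rw [← mul_zero ((starRingEnd ℂ) ((θ : N → ℂ) n)), ← hterm n, Finset.mul_sum]
    refine Finset.sum_congr rfl fun χ _ => ?_
    rw [CfsgLib.Blocks.irr_value_inv χ.2, Complex.conj_conj]
    ring
  have hmod : MemLocalIdeal M
      ((∑ χ ∈ s, e χ * charDegree (χ : G → ℂ) : ℕ) : ℂ) := by
    have hdiff : ∀ χ : IrrCharacter G,
        MemLocalIdeal M ((χ : G → ℂ) 1 - (χ : G → ℂ) x) := fun χ => by
      have h := CfsgLib.Blocks.res_value_mul_pElement hM χ.2 (Commute.one_right x) hxp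
      rw [mul_one] at h
      exact CfsgLib.Blocks.memLocalIdeal_sub_comm ((CfsgLib.Blocks.res_eq_iff
        (CfsgLib.Blocks.memLocalRing_of_isIntegral (CfsgLib.Blocks.irr_isIntegral χ.2 x))
        (CfsgLib.Blocks.memLocalRing_of_isIntegral (CfsgLib.Blocks.irr_isIntegral χ.2 1))).mp h)
    have hall : MemLocalIdeal M (∑ χ : IrrCharacter G with χ ∈ B, (e χ : ℂ) * (χ : G → ℂ) 1) := by
      refine (CfsgLib.Blocks.memLocalIdeal_iff_of_sub ?_).mpr
        (hzero ▸ CfsgLib.Blocks.memLocalIdeal_zero)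
      rw [← Finset.sum_sub_distrib]
      refine CfsgLib.Blocks.memLocalIdeal_sum _ _ fun χ _ => ?_
      rw [← mul_sub]
      exact CfsgLib.Blocks.memLocalIdeal_mul_left (CfsgLib.Blocks.memLocalRing_natCast _) (hdiff χ)
    push_cast
    refine (CfsgLib.Blocks.memLocalIdeal_iff_of_sub ?_).mp hall
    have hsub : s ⊆ ({χ : IrrCharacter G | χ ∈ B} : Finset _) := fun χ hχ => by
      simp only [hs, Finset.mem_filter] at hχ ⊢
      exact ⟨hχ.1, hχ.2.1⟩
    rw [← Finset.sum_sdiff hsub]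
    simp only [fun χ : IrrCharacter G => (CfsgLib.Blocks.irr_degree_eq χ).1, add_sub_cancel_right]
    refine CfsgLib.Blocks.memLocalIdeal_sum _ _ fun χ hχ => ?_
    obtain ⟨hχB, hχs⟩ := Finset.mem_sdiff.mp hχ
    by_cases hd : p ∣ charDegree (χ : G → ℂ)
    · exact CfsgLib.Blocks.memLocalIdeal_mul_left (CfsgLib.Blocks.memLocalRing_natCast _)
        ((CfsgLib.Blocks.memLocalIdeal_natCast_iff hM).mpr hd)
    · have hi : classInner (fun n : N => (χ : G → ℂ) n) (θ : N → ℂ) = 0 := by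
        by_contra hi
        exact hχs (Finset.mem_filter.mpr ⟨Finset.mem_univ _,
          (Finset.mem_filter.mp hχB).2, hd, hi⟩)
      rw [← he, hi, zero_mul]
      exact CfsgLib.Blocks.memLocalIdeal_zero
  have hdvd : p ∣ ∑ χ ∈ s, e χ * charDegree (χ : G → ℂ) :=
    (CfsgLib.Blocks.memLocalIdeal_natCast_iff hM).mp hmod
  obtain ⟨c, hc⟩ : ∃ c : ℕ, ∀ χ ∈ s, charDegree (χ : G → ℂ) = e χ * c := by
    refine ⟨(CfsgLib.Char.orbit N (θ : N → ℂ)).card * charDegree (θ : N → ℂ), fun χ hχ => ?_⟩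
    have h := CfsgLib.Char.clifford_degree N χ.2 θ.2 (Finset.mem_filter.mp hχ).2.2.2
    rw [he χ, (CfsgLib.Blocks.irr_degree_eq χ).1, (CfsgLib.Blocks.irr_degree_eq θ).1] at h
    exact_mod_cast h
  refine ⟨?_, fun hp3 => ?_⟩
  · rw [hcard]
    by_contra hn
    have h1 : s.card = 1 := by omega
    obtain ⟨χ, hχ⟩ := Finset.card_eq_one.mp h1
    have hmem : χ ∈ s := by rw [hχ]; exact Finset.mem_singleton_self χ
    have hnd := (Finset.mem_filter.mp hmem).2.2.1
    rw [hχ, Finset.sum_singleton] at hdvd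
    rcases hM.1.dvd_mul.mp hdvd with h | h
    · exact hnd (hc χ hmem ▸ h.mul_right c)
    · exact hnd h
  · rw [hcard, ← ZMod.natCast_eq_zero_iff]
    have h0 := (ZMod.natCast_eq_zero_iff _ p).mpr (hdvd.mul_left c)
    rw [Finset.mul_sum, Nat.cast_sum] at h0
    rw [Finset.sum_congr rfl (g := fun _ => (1 : ZMod p)) fun χ hχ => by
      rw [← mul_assoc, mul_comm c, ← hc χ hχ, Nat.cast_mul]
      have hne : (charDegree (χ : G → ℂ) : ZMod p) ≠ 0 := fun h =>
        (Finset.mem_filter.mp hχ).2.2.1 ((ZMod.natCast_eq_zero_iff _ p).mp h)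
      have hp : p = 2 ∨ p = 3 := by
        have := hM.1.two_le
        omega
      have hf := ZMod.pow_card_sub_one_eq_one hne
      rcases hp with rfl | rfl
      · rw [show (2 : ℕ) - 1 = 1 from rfl, pow_one] at hf
        rw [hf, one_mul]
      · rw [show (3 : ℕ) - 1 = 2 from rfl, pow_two] at hf
        exact hf] at h0
    simpa using h0

end Cfsg.Agent.S4825
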