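import Cfsg.Statements.S4828
import Cfsg.Agent.Lib.Blocks.MaxCriterion

set_option autoImplicit false
open Cfsg CfsgLib.Blocks
open scoped CfsgLib.Char

namespace Cfsg.Agent.S4828

/-- Let p be a prime, M a maximal ideal of the algebraic integers containing p, and (Q, e) a Brauer pair of the finite group G (Q a p-subgroup, e a block of C_G(Q)). Then (Q, e) is a maximal Brauer pair of some block of G if and only if e contains an irreducible character θ such that θ takes the value θ(1) at every element of Z(Q) = Q ∩ C_G(Q), the p-part of θ(1) times the p-part of the order of Z(Q) equals the p-part of the order of C_G(Q) (θ has defect zero as a character of C_G(Q)/Z(Q)), and every element of N_G(Q) of p-power order that stabilizes e lies in Q·C_G(Q) (the stabilizer of e in N_G(Q) has index prime to p over Q·C_G(Q)). -/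
theorem result {G : Type*} [Group G] [Finite G] (p : ℕ) [Fact p.Prime] (M : Ideal Cfsg.AlgInt) (hM : Cfsg.IsPModular p M) (Q : Subgroup G) (e : Set (Cfsg.IrrCharacter (Subgroup.centralizer (Q : Set G)))) (he : Cfsg.IsBrauerPair p M Q e) :
    (∃ B : Set (Cfsg.IrrCharacter G), Cfsg.IsMaximalBrauerPair p M B Q e) ↔
      ∃ θ ∈ e, (∀ z : Subgroup.centralizer (Q : Set G), (z : G) ∈ Q → (θ : Subgroup.centralizer (Q : Set G) → ℂ) z = (θ : Subgroup.centralizer (Q : Set G) → ℂ) 1) ∧
        (Cfsg.charDegree (θ : Subgroup.centralizer (Q : Set G) → ℂ)).factorization p + (Nat.card ↥(Q ⊓ Subgroup.centralizer (Q : Set G))).factorization p = (Nat.card (Subgroup.centralizer (Q : Set G))).factorization p ∧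
        (∀ g : G, g ∈ Subgroup.normalizer (Q : Set G) → Cfsg.StabilizesBlock (Subgroup.centralizer (Q : Set G)) e g → (∃ k : ℕ, orderOf g = p ^ k) → g ∈ Q ⊔ Subgroup.centralizer (Q : Set G)) := by
  classical
  have := isPrime_of_isPModular hM
  haveI := Fintype.ofFinite G
  haveI := Fintype.ofFinite (blockT Q e)
  obtain ⟨F, hF, hFc⟩ := exists_blockT_block hM he
  rw [exists_maximal_iff hM he (fun g => mem_blockT) hF hFc,
    isDefectGroup_stab_iff hM he.1 he.2 le_blockT centralizer_le_blockT blockT_le_normalizer hF hFc]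
  have hZc : Q.subgroupOf (Subgroup.centralizer (Q : Set G)) ≤
      Subgroup.center (Subgroup.centralizer (Q : Set G)) := fun z hz =>
    Subgroup.mem_center_iff.mpr fun c => Subtype.ext
      (Subgroup.mem_centralizer_iff.mp c.2 _ (Subgroup.mem_subgroupOf.mp hz)).symm
  have hZp : IsPGroup p (Q.subgroupOf (Subgroup.centralizer (Q : Set G))) :=
    he.1.comap_of_injective _ (Subgroup.subtype_injective _)
  have hcard : Nat.card (Q.subgroupOf (Subgroup.centralizer (Q : Set G))) =
      Nat.card ↥(Q ⊓ Subgroup.centralizer (Q : Set G)) := by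
    rw [← Subgroup.card_map_of_injective (Subgroup.subtype_injective _),
      Subgroup.subgroupOf_map_subtype]
  haveI := Fintype.ofFinite (Subgroup.centralizer (Q : Set G))
  have key := blockDefect_eq_central_iff (M := M) _ hM hZc hZp he.2
  rw [hcard] at key
  rw [key]
  constructor
  · rintro ⟨⟨θ, hθe, hθ, hdeg⟩, hrest⟩
    exact ⟨θ, hθe, fun z hz => hθ z (Subgroup.mem_subgroupOf.mpr hz), hdeg,
      fun g hg hs hp => hrest g (mem_blockT.mpr ⟨hg, hs⟩) hp⟩
  · rintro ⟨θ, hθe, hθ, hdeg, hrest⟩
    exact ⟨⟨θ, hθe, fun z hz => hθ z (Subgroup.mem_subgroupOf.mp hz), hdeg⟩,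
      fun g hg hp => hrest g (mem_blockT.mp hg).1 (mem_blockT.mp hg).2 hp⟩


end Cfsg.Agent.S4828
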