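import Cfsg.Statements.S4837
import Cfsg.Agent.Lib.Char.TwoClassFrobenius

set_option autoImplicit false
open Cfsg
open scoped CfsgLib.Char

namespace Cfsg.Agent.S4837

/-- Let G be a finite group of order greater than 2 with an irreducible character χ nonzero on exactly two conjugacy classes, and let N be the set of elements where χ is nonzero, given as a nontrivial normal p-subgroup of G for the prime p. Then for every nonidentity x in N the centralizer C_G(x) is a Sylow p-subgroup of G, and for every irreducible character λ ≠ 1 of N the stabilizer of λ in G (its inertia group) is a Sylow p-subgroup of G. -/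
theorem result {G : Type*} [Group G] [Finite G] (hG : 2 < Nat.card G) (χ : Cfsg.IrrCharacter G) (hχ : Nat.card {C : ConjClasses G // ∃ g ∈ C.carrier, (χ : G → ℂ) g ≠ 0} = 2) (p : ℕ) [Fact p.Prime] (N : Subgroup G) [N.Normal] (hN : ∀ g : G, g ∈ N ↔ (χ : G → ℂ) g ≠ 0) (hNp : IsPGroup p N) (hN1 : N ≠ ⊥) :
    (∀ x ∈ N, x ≠ 1 → ∃ P : Sylow p G, Subgroup.centralizer ({x} : Set G) = P) ∧
      (∀ μ : Cfsg.IrrCharacter N, (μ : N → ℂ) ≠ (fun _ => (1 : ℂ)) → ∃ P : Sylow p G, ∀ g : G, g ∈ (P : Subgroup G) ↔ ∀ n n' : N, (n' : G) = g * n * g⁻¹ → (μ : N → ℂ) n' = (μ : N → ℂ) n) := by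
  classical
  obtain ⟨N', hN'n, h⟩ := CfsgLib.TwoClass.exists_setting hG χ hχ
  obtain rfl : N' = N := SetLike.ext fun g => (h.supp g).trans (hN g).symm
  haveI := Fintype.ofFinite G
  haveI := Fintype.ofFinite N'
  obtain ⟨k, n, hn0, hn, hd, hval, hcard, hcent⟩ := h.exists_pow hG hNp
  refine ⟨fun x hx hx1 => ⟨Sylow.ofCard (Subgroup.centralizer ({x} : Set G)) (by
    rw [hcent x hx hx1, h.pow_eq_card_sylow hn0 hn hcard]), rfl⟩, fun μ hμ => ?_⟩
  obtain ⟨q, hq, hab, hexp⟩ := h.exists_prime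
  have hclass : Nat.card (IrrCharacter N') = Nat.card N' := by
    rw [CfsgLib.Char.card_irr_eq_card_conjClasses]
    refine (Nat.card_congr (Equiv.ofBijective (ConjClasses.mk : N' → ConjClasses N')
      ⟨fun a b e => ?_, ConjClasses.exists_rep⟩)).symm
    obtain ⟨c, hc⟩ := isConj_iff.mp (ConjClasses.mk_eq_mk_iff_isConj.mp e)
    rw [← hc, show c * a = a * c from Subtype.ext (hab c c.2 a a.2), mul_inv_cancel_right]
  have hcon : ∀ ν : IrrCharacter N', ν ≠ CfsgLib.TwoClass.one N' →
      classInner (fun z : N' => (χ : G → ℂ) z) (ν : N' → ℂ) ≠ 0 := by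
    intro ν hν
    have h0 : ∑ z : N', (ν : N' → ℂ) z = 0 := by
      have h1 := CfsgLib.Char.classInner_irr_ne ν.2 (CfsgLib.TwoClass.one N').2
        (fun e => hν (Subtype.ext e))
      simp only [classInner, CfsgLib.TwoClass.one_apply, map_one, mul_one] at h1
      exact (mul_eq_zero.mp h1).resolve_left (inv_ne_zero (Nat.cast_ne_zero.mpr Nat.card_pos.ne'))
    have hsum : ∑ z : N', (χ : G → ℂ) z * (starRingEnd ℂ) ((ν : N' → ℂ) z) =
        ((p ^ k * Nat.card N' : ℕ) : ℂ) * (starRingEnd ℂ) ((ν : N' → ℂ) 1) := by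
      have h2 : ∀ z : N', (χ : G → ℂ) z * (starRingEnd ℂ) ((ν : N' → ℂ) z) =
          (if z = 1 then ((p ^ k * Nat.card N' : ℕ) : ℂ) * (starRingEnd ℂ) ((ν : N' → ℂ) 1) else 0) -
            ((p ^ k : ℕ) : ℂ) * (starRingEnd ℂ) ((ν : N' → ℂ) z) := by
        intro z
        rcases eq_or_ne z 1 with rfl | hz
        · rw [if_pos rfl, OneMemClass.coe_one, hd]
          have h3 : 1 ≤ Nat.card N' := Nat.card_pos
          push_cast [h3]
          ring
        · rw [if_neg hz, hval z z.2 fun e => hz (Subtype.ext e)]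
          ring
      rw [Finset.sum_congr rfl fun z _ => h2 z, Finset.sum_sub_distrib, ← Finset.mul_sum, ← map_sum,
        h0, map_zero, mul_zero, sub_zero, Finset.sum_ite_eq', if_pos (Finset.mem_univ _)]
    rw [classInner, hsum]
    refine mul_ne_zero (inv_ne_zero (Nat.cast_ne_zero.mpr Nat.card_pos.ne'))
      (mul_ne_zero (Nat.cast_ne_zero.mpr ?_) ?_)
    · exact Nat.mul_ne_zero (pow_ne_zero _ (Fact.out : p.Prime).ne_zero) Nat.card_pos.ne'
    · exact (map_ne_zero _).mpr (CfsgLib.Char.irr_degree_ne_zero ν.2)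
  have hμ' : μ ≠ CfsgLib.TwoClass.one N' := fun e => hμ (by
    rw [e]; funext z; exact CfsgLib.TwoClass.one_apply z)
  have horb : CfsgLib.Char.orbit N' (μ : N' → ℂ) = (Finset.univ.erase (CfsgLib.TwoClass.one N')).image
      (fun ν : IrrCharacter N' => (ν : N' → ℂ)) := by
    ext f
    rw [CfsgLib.Char.mem_orbit, Finset.mem_image]
    constructor
    · rintro ⟨g, rfl⟩
      refine ⟨⟨_, CfsgLib.Char.isIrrCharacter_conjBy N' μ.2 g⟩,
        Finset.mem_erase.mpr ⟨fun e => ?_, Finset.mem_univ _⟩, rfl⟩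
      apply hμ
      funext z
      have h4 := congrFun (congrArg Subtype.val e)
        ⟨g⁻¹ * z * g, by simpa using hN'n.conj_mem (z : G) z.2 g⁻¹⟩
      rw [CfsgLib.TwoClass.one_apply] at h4
      rw [← h4]
      show _ = (μ : N' → ℂ) _
      refine congrArg _ (Subtype.ext ?_)
      show (z : G) = g * (g⁻¹ * z * g) * g⁻¹
      group
    · rintro ⟨ν, hν, rfl⟩
      exact CfsgLib.Char.exists_conjBy_of_constituents N' χ.2 μ.2 ν.2 (hcon μ hμ')
        (hcon ν (Finset.mem_erase.mp hν).1)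
  have hidx : (CfsgLib.Char.inertia N' (μ : N' → ℂ)).index = Nat.card N' - 1 := by
    rw [← CfsgLib.Char.card_orbit_eq_index, horb,
      Finset.card_image_of_injective _ Subtype.val_injective,
      Finset.card_erase_of_mem (Finset.mem_univ _), Finset.card_univ, ← Nat.card_eq_fintype_card,
      hclass]
  have hT : Nat.card (CfsgLib.Char.inertia N' (μ : N' → ℂ)) = p ^ (2 * k + n) := by
    have h5 := (CfsgLib.Char.inertia N' (μ : N' → ℂ)).card_mul_index
    rw [hidx, hcard] at h5
    exact Nat.eq_of_mul_eq_mul_right (by have := h.two_le_card; omega) h5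
  refine ⟨Sylow.ofCard (CfsgLib.Char.inertia N' (μ : N' → ℂ)) (by
    rw [hT, h.pow_eq_card_sylow hn0 hn hcard]), fun g => ?_⟩
  show g ∈ CfsgLib.Char.inertia N' (μ : N' → ℂ) ↔ _
  rw [CfsgLib.Char.mem_inertia]
  constructor
  · intro hg z z' hz
    have h6 := congrFun hg z
    rw [CfsgLib.Char.conjBy_apply] at h6
    refine Eq.trans ?_ h6
    exact congrArg _ (Subtype.ext hz)
  · intro hg
    funext z
    rw [CfsgLib.Char.conjBy_apply]
    exact hg z _ rfl

end Cfsg.Agent.S4837
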