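import Cfsg.Statements.S4838
import Cfsg.Agent.Lib.Char.TwoClassFrobenius

set_option autoImplicit false
open Cfsg

namespace Cfsg.Agent.S4838

/-- Let G be a finite group of order greater than 2 with an irreducible character χ nonzero on exactly two conjugacy classes, N the normal p-subgroup of elements where χ is nonzero, and P a Sylow p-subgroup of G. Then (a) for every x outside N the centralizer of x in G has the same order as the centralizer of xN in G/N; (b) the centre of P lies in N, and equals N exactly when P is normal in G; (c) N, viewed inside P, is a term of the upper central series of P. -/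
theorem result {G : Type*} [Group G] [Finite G] (hG : 2 < Nat.card G) (χ : Cfsg.IrrCharacter G) (hχ : Nat.card {C : ConjClasses G // ∃ g ∈ C.carrier, (χ : G → ℂ) g ≠ 0} = 2) (p : ℕ) [Fact p.Prime] (N : Subgroup G) [N.Normal] (hN : ∀ g : G, g ∈ N ↔ (χ : G → ℂ) g ≠ 0) (hNp : IsPGroup p N) (hN1 : N ≠ ⊥) (P : Sylow p G) :
    (∀ x : G, x ∉ N → Nat.card (Subgroup.centralizer ({x} : Set G)) = Nat.card (Subgroup.centralizer ({(x : G ⧸ N)} : Set (G ⧸ N)))) ∧
      ((Subgroup.center ↥(P : Subgroup G)).map (P : Subgroup G).subtype ≤ N ∧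
        ((Subgroup.center ↥(P : Subgroup G)).map (P : Subgroup G).subtype = N ↔ (P : Subgroup G).Normal)) ∧
      (∃ i : ℕ, Subgroup.upperCentralSeries ↥(P : Subgroup G) i = N.subgroupOf (P : Subgroup G)) := by
  classical
  obtain ⟨N', hN'n, h⟩ := CfsgLib.TwoClass.exists_setting hG χ hχ
  obtain rfl : N' = N := SetLike.ext fun g => (h.supp g).trans (hN g).symm
  obtain ⟨k, n, hn0, hn, hd, hval, hcard, hcent⟩ := h.exists_pow hG hNp
  have hPcard : Nat.card (P : Subgroup G) = p ^ (2 * k + n) := by
    rw [P.card_eq_multiplicity, h.pow_eq_card_sylow hn0 hn hcard]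
  have hcop : (p ^ (2 * k + n)).Coprime (Nat.card N' - 1) := by
    refine Nat.Coprime.pow_left _ ((Fact.out : p.Prime).coprime_iff_not_dvd.mpr fun hdvd => ?_)
    have h2 : p ∣ Nat.card N' := hn ▸ dvd_pow_self p hn0.ne'
    have := Nat.dvd_sub h2 hdvd
    rw [Nat.sub_sub_self Nat.card_pos] at this
    exact (Fact.out : p.Prime).not_dvd_one this
  have hbig : ∀ x : G, x ∉ N' → ∀ Q : Subgroup G, Q ≤ (P : Subgroup G) →
      Q ≤ Subgroup.centralizer ({x} : Set G) →
      Nat.card Q * Nat.card N' ≤ Nat.card (P : Subgroup G) := by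
    intro x hx Q hQ hQx
    have h1 := h.card_mul_le hx Q hQx
    rw [hPcard]
    refine Nat.le_of_dvd (pow_pos (Fact.out : p.Prime).pos _) (Nat.Coprime.dvd_of_dvd_mul_right ?_ (hcard ▸ h1))
    obtain ⟨j, hj⟩ := (P.isPGroup'.to_le hQ).exists_card_eq
    rw [hj, hn, ← pow_add]
    rw [hn] at hcop
    refine Nat.Coprime.pow_left _ ?_
    exact (Nat.coprime_pow_left_iff (by omega) _ _).mp hcop
  have hNP := h.le_sylow hNp P
  have hZN : (Subgroup.center ↥(P : Subgroup G)).map (P : Subgroup G).subtype ≤ N' := by
    rintro _ ⟨z, hz, rfl⟩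
    by_contra hzN
    have := hbig z hzN P le_rfl fun y hy => Subgroup.mem_centralizer_iff.mpr fun w hw => by
      rw [Set.mem_singleton_iff.mp hw]
      exact (congrArg Subtype.val (Subgroup.mem_center_iff.mp hz ⟨y, hy⟩)).symm
    have h2 := h.two_le_card
    have h3 : 0 < Nat.card (P : Subgroup G) := Nat.card_pos
    nlinarith
  refine ⟨fun x hx => h.card_centralizer_of_notMem hx, ⟨hZN, ?_, ?_⟩, ?_⟩
  · intro e
    obtain ⟨c, hc, hc1⟩ := h.exists_mem
    have hPC : ∀ z ∈ N', z ≠ 1 → (P : Subgroup G) = Subgroup.centralizer ({z} : Set G) := by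
      intro z hz hz1
      refine Subgroup.eq_of_le_of_card_ge (fun y hy => Subgroup.mem_centralizer_iff.mpr fun w hw => ?_)
        (by rw [hcent z hz hz1, hPcard])
      rw [Set.mem_singleton_iff.mp hw]
      obtain ⟨z', hz', rfl⟩ := e.ge hz
      exact (congrArg Subtype.val (Subgroup.mem_center_iff.mp hz' ⟨y, hy⟩)).symm
    refine ⟨fun y hy g => ?_⟩
    have hz' : g * c * g⁻¹ ∈ N' := hN'n.conj_mem c hc g
    rw [hPC _ hz' (by simpa using hc1), Subgroup.mem_centralizer_iff]
    intro w hw
    rw [hPC c hc hc1, Subgroup.mem_centralizer_iff] at hy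
    rw [Set.mem_singleton_iff.mp hw]
    calc g * c * g⁻¹ * (g * y * g⁻¹) = g * (c * y) * g⁻¹ := by group
      _ = g * (y * c) * g⁻¹ := by rw [hy c rfl]
      _ = g * y * g⁻¹ * (g * c * g⁻¹) := by group
  · intro hPn
    haveI := hPn
    haveI : Nontrivial (P : Subgroup G) := by
      rw [Subgroup.nontrivial_iff_ne_bot]
      intro e
      exact h.ne_bot (le_bot_iff.mp (e ▸ hNP))
    haveI := (P.isPGroup').center_nontrivial
    haveI : ((Subgroup.center ↥(P : Subgroup G)).map (P : Subgroup G).subtype).Normal :=
      ConjAct.normal_of_characteristic_of_normal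
    refine le_antisymm hZN (h.minimal _ fun e => ?_)
    rw [Subgroup.map_eq_bot_iff_of_injective _ (Subgroup.subtype_injective _)] at e
    exact (Subgroup.nontrivial_iff_ne_bot _).mp inferInstance e
  · haveI : Group.IsNilpotent (P : Subgroup G) := P.isPGroup'.isNilpotent
    by_contra hno
    push Not at hno
    have hsub : ∀ i, Subgroup.upperCentralSeries ↥(P : Subgroup G) i < N'.subgroupOf (P : Subgroup G) := by
      intro i
      induction i with
      | zero =>
        refine lt_of_le_of_ne ?_ (hno 0)
        simp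
      | succ i ih =>
        refine lt_of_le_of_ne ?_ (hno (i + 1))
        intro x hx
        by_contra hxN
        rw [Subgroup.mem_upperCentralSeries_succ_iff] at hx
        set Z := Subgroup.upperCentralSeries ↥(P : Subgroup G) i
        set C := Subgroup.centralizer ({x} : Set ↥(P : Subgroup G))
        have hle : C.index ≤ Nat.card Z := by
          refine Nat.card_le_card_of_injective
            (fun u : ↥(P : Subgroup G) ⧸ C => (⟨x * u.out * x⁻¹ * u.out⁻¹, hx u.out⟩ : Z))
            fun u v e => ?_
          have e' : x * u.out * x⁻¹ * u.out⁻¹ = x * v.out * x⁻¹ * v.out⁻¹ := congrArg Subtype.val e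
          rw [← QuotientGroup.out_eq' u, ← QuotientGroup.out_eq' v]
          refine QuotientGroup.eq.mpr (Subgroup.mem_centralizer_iff.mpr fun w hw => ?_)
          rw [Set.mem_singleton_iff.mp hw]
          have e2 : u.out * x * u.out⁻¹ = v.out * x * v.out⁻¹ := by
            have e3 : u.out * x⁻¹ * u.out⁻¹ = v.out * x⁻¹ * v.out⁻¹ := by
              simpa [mul_assoc] using e'
            have e4 := congrArg (fun t => t⁻¹) e3
            simpa [mul_assoc] using e4
          calc x * (u.out⁻¹ * v.out) = u.out⁻¹ * (u.out * x * u.out⁻¹) * v.out := by group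
            _ = u.out⁻¹ * (v.out * x * v.out⁻¹) * v.out := by rw [e2]
            _ = u.out⁻¹ * v.out * x := by group
        have hC := hbig (x : G) hxN (C.map (P : Subgroup G).subtype) (Subgroup.map_subtype_le _) (by
          rintro _ ⟨y, hy, rfl⟩
          refine Subgroup.mem_centralizer_iff.mpr fun w hw => ?_
          rw [Set.mem_singleton_iff.mp hw]
          exact congrArg Subtype.val (Subgroup.mem_centralizer_iff.mp hy x rfl))
        rw [Subgroup.card_map_of_injective (Subgroup.subtype_injective _)] at hC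
        have hZ : Nat.card Z < Nat.card N' := by
          have h6 : Nat.card (N'.subgroupOf (P : Subgroup G)) = Nat.card N' :=
            Nat.card_congr (Subgroup.subgroupOfEquivOfLe hNP).toEquiv
          rw [← h6]
          exact Set.ncard_lt_ncard (SetLike.coe_ssubset_coe.mpr ih) (Set.toFinite _)
        rw [← C.card_mul_index] at hC
        have h7 := Nat.le_of_mul_le_mul_left hC Nat.card_pos
        omega
    obtain ⟨m, hm⟩ := Group.IsNilpotent.nilpotent (G := ↥(P : Subgroup G))
    exact not_top_lt (hm ▸ hsub m)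

end Cfsg.Agent.S4838
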