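import Cfsg.Statements.S4839
import Cfsg.Agent.Lib.Char.TwoClassFrobenius

set_option autoImplicit false
open Cfsg
open scoped Pointwise

namespace Cfsg.Agent.S4839

/-- Let G be a finite group of order greater than 2 with an irreducible character χ nonzero on exactly two conjugacy classes, and let N be the normal p-subgroup of elements where χ is nonzero. Then N is the whole p-core O_p(G) if and only if G is a doubly transitive Frobenius group with kernel N: G has a Frobenius complement H whose Frobenius kernel is N and whose order is one less than that of N. -/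
theorem result {G : Type*} [Group G] [Finite G] (hG : 2 < Nat.card G) (χ : Cfsg.IrrCharacter G) (hχ : Nat.card {C : ConjClasses G // ∃ g ∈ C.carrier, (χ : G → ℂ) g ≠ 0} = 2) (p : ℕ) [Fact p.Prime] (N : Subgroup G) [N.Normal] (hN : ∀ g : G, g ∈ N ↔ (χ : G → ℂ) g ≠ 0) (hNp : IsPGroup p N) (hN1 : N ≠ ⊥) :
    N = Cfsg.pCore p G ↔ ∃ H : Subgroup G, Cfsg.IsFrobeniusComplement H ∧ Cfsg.frobeniusKernel H = (N : Set G) ∧ Nat.card H + 1 = Nat.card N := by
  classical
  obtain ⟨N', hN'n, h⟩ := CfsgLib.TwoClass.exists_setting hG χ hχ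
  obtain rfl : N' = N := SetLike.ext fun g => (h.supp g).trans (hN g).symm
  obtain ⟨k, n, hn0, hn, hd, hval, hcard, hcent⟩ := h.exists_pow hG hNp
  obtain ⟨q, hq, hab, hexp⟩ := h.exists_prime
  constructor
  · intro hcore
    have hC : Subgroup.centralizer (N' : Set G) ≤ N' := by
      haveI : (Subgroup.centralizer (N' : Set G)).Normal := Subgroup.normal_centralizer
      obtain ⟨c, hc, hc1⟩ := h.exists_mem
      rw [hcore]
      refine le_sSup ⟨hcore ▸ inferInstance, fun y => ⟨2 * k + n, Subtype.ext ?_⟩⟩
      have hy : (y : G) ∈ Subgroup.centralizer ({c} : Set G) :=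
        Subgroup.mem_centralizer_iff.mpr fun w hw => by
          rw [Set.mem_singleton_iff.mp hw]
          exact Subgroup.mem_centralizer_iff.mp (hcore ▸ y.2 : (y : G) ∈ Subgroup.centralizer (N' : Set G)) c hc
      have h1 := pow_card_eq_one' (G := Subgroup.centralizer ({c} : Set G)) (x := ⟨(y : G), hy⟩)
      rw [hcent c hc hc1] at h1
      simpa using congrArg Subtype.val h1
    have P : Sylow p G := default
    have hPN := h.sylow_le hG hNp hC P
    have hk : k = 0 := by
      have h1 := Subgroup.card_le_of_le hPN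
      rw [P.card_eq_multiplicity, h.pow_eq_card_sylow hn0 hn hcard, hn] at h1
      have := (Nat.pow_le_pow_iff_right (Fact.out : p.Prime).one_lt).mp h1
      omega
    subst hk
    simp only [Nat.mul_zero, Nat.zero_add] at hcard hcent
    rw [← hn] at hcard hcent
    have hidx : N'.index = Nat.card N' - 1 := by
      have h1 := N'.index_mul_card
      conv_rhs at h1 => rw [hcard, mul_comm]
      exact Nat.eq_of_mul_eq_mul_right Nat.card_pos h1
    obtain ⟨H, hH⟩ := Subgroup.exists_right_complement'_of_coprime (N := N') (by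
      rw [hidx]
      exact Nat.coprime_self_sub_right (m := 1) (n := Nat.card N') Nat.card_pos |>.mpr (Nat.coprime_one_right _))
    have hHcard : Nat.card H = Nat.card N' - 1 := by
      rw [← hidx]; exact hH.symm.index_eq_card.symm
    have hcentN : ∀ z ∈ N', z ≠ 1 → Subgroup.centralizer ({z} : Set G) = N' := fun z hz hz1 =>
      (Subgroup.eq_of_le_of_card_ge (fun y hy => Subgroup.mem_centralizer_iff.mpr fun w hw => by
        rw [Set.mem_singleton_iff.mp hw]; exact hab z hz y hy) (hcent z hz hz1).le).symm
    have hFC : IsFrobeniusComplement H := by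
      refine ⟨fun e => ?_, fun e => ?_, fun g hg => ?_⟩
      · rw [e, Subgroup.card_bot] at hHcard
        rw [← hHcard, mul_one] at hcard
        have := h.two_le_card
        omega
      · exact h.ne_bot (by simpa [e] using hH.disjoint.eq_bot)
      · rw [eq_bot_iff]
        rintro y ⟨hy, hy'⟩
        obtain ⟨⟨⟨u, hu⟩, ⟨v, hv⟩⟩, huv⟩ := hH.2 g
        simp only at huv
        have hu1 : u ≠ 1 := by rintro rfl; exact hg (by simpa [← huv] using hv)
        change y ∈ MulAut.conj g • H at hy'
        rw [Subgroup.mem_pointwise_smul_iff_inv_smul_mem, MulAut.smul_def, MulAut.inv_apply,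
          MulAut.conj_symm_apply] at hy'
        have h2 : u⁻¹ * y * u ∈ H := by
          have := H.mul_mem (H.mul_mem hv hy') (H.inv_mem hv)
          rw [← huv] at this
          simpa [mul_assoc] using this
        have h3 : u⁻¹ * y * u * y⁻¹ ∈ N' ⊓ H := by
          refine ⟨?_, H.mul_mem h2 (H.inv_mem hy)⟩
          rw [show u⁻¹ * y * u * y⁻¹ = u⁻¹ * (y * u * y⁻¹) by group]
          exact N'.mul_mem (N'.inv_mem hu) (hN'n.conj_mem u hu y)
        rw [hH.disjoint.eq_bot, Subgroup.mem_bot] at h3
        have h4 : y ∈ Subgroup.centralizer ({u} : Set G) :=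
          Subgroup.mem_centralizer_iff.mpr fun w hw => by
            rw [Set.mem_singleton_iff.mp hw]
            calc u * y = u * (u⁻¹ * y * u * y⁻¹) * y := by rw [h3, mul_one]
              _ = y * u := by group
        rw [hcentN u hu hu1] at h4
        exact hH.disjoint.le_bot ⟨h4, hy⟩
    exact ⟨H, hFC, CfsgLib.FrobCompl.frobeniusKernel_eq_of_complement hFC hH,
      by rw [hHcard]; exact Nat.sub_add_cancel Nat.card_pos⟩
  · rintro ⟨H, hH, hker, hcardH⟩
    refine le_antisymm (le_sSup ⟨hN'n, hNp⟩) fun y hy => ?_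
    by_contra hyN
    have hyk : y ∉ frobeniusKernel H := hker ▸ hyN
    simp only [frobeniusKernel, Set.mem_ofPred_eq, not_or, not_forall, not_not] at hyk
    obtain ⟨hy1, g, hg⟩ := hyk
    rw [Subgroup.mem_pointwise_smul_iff_inv_smul_mem, MulAut.smul_def, MulAut.inv_apply,
      MulAut.conj_symm_apply] at hg
    have P : Sylow p G := default
    obtain ⟨j, hj⟩ := P.isPGroup' ⟨y, CfsgLib.TwoClass.pCore_le_sylow P hy⟩
    have h1 : orderOf y ∣ p ^ j := orderOf_dvd_of_pow_eq_one (congrArg Subtype.val hj)
    have h2 : orderOf y ∣ Nat.card H := by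
      have h3 : orderOf y = orderOf (g⁻¹ * y * g) := by
        refine (orderOf_injective (MulAut.conj g⁻¹).toMonoidHom (MulAut.conj g⁻¹).injective y).symm.trans ?_
        simp
      rw [h3, ← Subgroup.orderOf_mk _ hg]
      exact orderOf_dvd_natCard _
    have h4 : ¬ p ∣ Nat.card H := fun hd' => by
      have h5 : p ∣ Nat.card H + 1 := hcardH ▸ hn ▸ dvd_pow_self p hn0.ne'
      exact (Fact.out : p.Prime).not_dvd_one ((Nat.dvd_add_right hd').mp h5)
    exact hy1 (orderOf_eq_one_iff.mp (Nat.eq_one_of_dvd_coprimes
      (((Fact.out : p.Prime).coprime_iff_not_dvd.mpr h4).pow_left j) h1 h2))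

end Cfsg.Agent.S4839
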