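import Cfsg.Statements.S4840
import Cfsg.Agent.S4835
import Cfsg.Agent.S4837
import Cfsg.Agent.Lib.TransLinear.PStabilizer

set_option autoImplicit false
open Cfsg

namespace Cfsg.Agent.S4840

/-- Automorphisms of an elementary abelian group as linear maps. -/
def linAut (p : ℕ) (A : Type*) [CommGroup A] [Module (ZMod p) (Additive A)] :
    MulAut A →* (Additive A ≃ₗ[ZMod p] Additive A) where
  toFun e :=
    { MulEquiv.toAdditive e with
      map_smul' := fun c v => ZMod.map_smul (MulEquiv.toAdditive e).toAddMonoidHom c v }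
  map_one' := LinearEquiv.ext fun _ => rfl
  map_mul' _ _ := LinearEquiv.ext fun _ => rfl

/-- The quotient by the `p`-core acts as a transitive linear group. -/
theorem quotient_of_action {G : Type*} [Group G] [Finite G] [Group.IsSolvable G] {p : ℕ}
    [Fact p.Prime] {A : Type*} [CommGroup A] [Finite A] [Nontrivial A] (hexp : ∀ a : A, a ^ p = 1)
    (c : G →* MulAut A) (hker : c.ker = Cfsg.pCore p G)
    (htrans : ∀ a b : A, a ≠ 1 → b ≠ 1 → ∃ g, c g a = b)
    (hstab : ∀ a : A, a ≠ 1 → ∀ g : G, c g a = a → ∃ k : ℕ, g ^ p ^ k = 1) :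
    Cfsg.HasNormalPComplement p (G ⧸ Cfsg.pCore p G) ∧
      ∀ Q : Sylow p (G ⧸ Cfsg.pCore p G),
        IsMulCommutative (Q : Subgroup (G ⧸ Cfsg.pCore p G)) := by
  haveI hPn := CfsgLib.Fitting.pCore_normal (G := G) p
  have h0 : ∀ x : Additive A, p • x = 0 := fun a => Additive.toMul.injective (hexp a.toMul)
  haveI : Module (ZMod p) (Additive A) := AddCommGroup.zmodModule h0
  let ρ := QuotientGroup.lift (Cfsg.pCore p G) ((linAut p A).comp c) fun g hg => by
    rw [← hker, MonoidHom.mem_ker] at hg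
    rw [MonoidHom.mem_ker, MonoidHom.comp_apply, hg, map_one]
  have hval : ∀ (g : G) (a : A), ρ (g : G ⧸ Cfsg.pCore p G) (Additive.ofMul a) =
      Additive.ofMul (c g a) := fun g a => rfl
  have hρ : Function.Injective ρ := by
    rw [injective_iff_map_eq_one]
    intro z hz
    obtain ⟨g, rfl⟩ := QuotientGroup.mk_surjective z
    refine (QuotientGroup.eq_one_iff g).mpr (hker ▸ MonoidHom.mem_ker.mpr (MulEquiv.ext fun a => ?_))
    have h := hval g a
    rw [hz] at h
    exact (Additive.ofMul.injective h).symm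
  refine CfsgLib.TransLinear.PStab.main (ρ := ρ) hρ (fun v w hv hw => ?_) (fun v hv z hz => ?_) ?_
  · obtain ⟨g, hg⟩ := htrans v.toMul w.toMul hv hw
    exact ⟨g, (hval g v.toMul).trans (congrArg Additive.ofMul hg)⟩
  · obtain ⟨g, rfl⟩ := QuotientGroup.mk_surjective z
    obtain ⟨k, hk⟩ := hstab v.toMul hv g
      (Additive.ofMul.injective ((hval g v.toMul).symm.trans hz))
    exact ⟨k, by rw [← QuotientGroup.mk_pow, hk, QuotientGroup.mk_one]⟩
  · have hker' : IsPGroup p (QuotientGroup.mk' (Cfsg.pCore p G)).ker := by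
      rw [QuotientGroup.ker_mk']
      exact CfsgLib.Fitting.pCore_isPGroup p
    have h := CfsgLib.Fitting.le_pCore
      ((CfsgLib.Fitting.pCore_normal (G := G ⧸ Cfsg.pCore p G) p).comap (QuotientGroup.mk' _))
      ((CfsgLib.Fitting.pCore_isPGroup (G := G ⧸ Cfsg.pCore p G) p).comap_of_ker_isPGroup _ hker')
    refine eq_bot_iff.mpr fun z hz => ?_
    obtain ⟨g, rfl⟩ := QuotientGroup.mk'_surjective _ z
    exact Subgroup.mem_bot.mpr ((QuotientGroup.eq_one_iff g).mpr (h hz))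

/-- Let G be a finite solvable group of order greater than 2 with an irreducible character nonzero on exactly two conjugacy classes. Then there is exactly one prime p with O_p(G) ≠ 1, and the quotient G/O_p(G) has a normal p-complement and commutative Sylow p-subgroups. -/
theorem result {G : Type*} [Group G] [Finite G] [hs : Group.IsSolvable G] (hG : 2 < Nat.card G) (χ : Cfsg.IrrCharacter G) (hχ : Nat.card {C : ConjClasses G // ∃ g ∈ C.carrier, (χ : G → ℂ) g ≠ 0} = 2) :
    ∃ p : ℕ, p.Prime ∧ (∀ q : ℕ, q.Prime → (Cfsg.pCore q G ≠ ⊥ ↔ q = p)) ∧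
      Cfsg.HasNormalPComplement p (G ⧸ Cfsg.pCore p G) ∧ ∀ Q : Sylow p (G ⧸ Cfsg.pCore p G), IsMulCommutative (Q : Subgroup (G ⧸ Cfsg.pCore p G)) := by
  classical
  obtain ⟨N, hNn, hN1, hmin, ⟨p, hp, hab, hexp⟩, hsupp, hcls⟩ := Cfsg.Agent.S4835.result hG χ hχ
  haveI := Fact.mk hp
  haveI := hNn
  have hNp : IsPGroup p N := fun a => ⟨1, Subtype.ext (by simpa using hexp a a.2)⟩
  have hcent := (Cfsg.Agent.S4837.result hG χ hχ p N (fun g => (hsupp g).symm) hNp hN1).1
  haveI hPn := CfsgLib.Fitting.pCore_normal (G := G) p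
  have hNP : N ≤ Cfsg.pCore p G := CfsgLib.Fitting.le_pCore hNn hNp
  have huniq : ∀ q : ℕ, q.Prime → (Cfsg.pCore q G ≠ ⊥ ↔ q = p) := by
    intro q hq
    refine ⟨fun hne => ?_, fun e h => hN1 (eq_bot_iff.mpr (h ▸ e ▸ hNP))⟩
    haveI := Fact.mk hq
    have hle := hmin _ (CfsgLib.Fitting.pCore_normal q) hne
    obtain ⟨x, hx, hx1⟩ := N.bot_or_exists_ne_one.resolve_left hN1
    have hop : orderOf x = p := orderOf_eq_prime (hexp x hx) hx1
    obtain ⟨k, hk⟩ := CfsgLib.Fitting.pCore_isPGroup (G := G) q ⟨x, hle hx⟩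
    have h := orderOf_dvd_of_pow_eq_one (congrArg Subtype.val hk : x ^ q ^ k = 1)
    rw [hop] at h
    exact ((Nat.prime_dvd_prime_iff_eq hp hq).mp (hp.dvd_of_dvd_pow h)).symm
  refine ⟨p, hp, huniq, ?_⟩
  letI : CommGroup N := { (inferInstance : Group N) with mul_comm := hab.is_comm.comm }
  have hfix : ∀ (g : G) (a : N), MulAut.conjNormal g a = a ↔
      g ∈ Subgroup.centralizer ({(a : G)} : Set G) := by
    intro g a
    rw [Subgroup.mem_centralizer_singleton_iff, ← Subtype.coe_inj, MulAut.conjNormal_apply]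
    exact mul_inv_eq_iff_eq_mul
  obtain ⟨x₀, hx₀, hx₀1⟩ := N.bot_or_exists_ne_one.resolve_left hN1
  obtain ⟨P₀, hP₀⟩ := hcent x₀ hx₀ hx₀1
  haveI : Nontrivial N := ⟨⟨⟨x₀, hx₀⟩, 1, fun e => hx₀1 (congrArg Subtype.val e)⟩⟩
  have hne : ∀ a : N, a ≠ 1 → (a : G) ≠ 1 := fun a ha e => ha (Subtype.ext e)
  refine quotient_of_action (fun a => Subtype.ext (by simpa using hexp a a.2))
    (MulAut.conjNormal (H := N)) ?_ (fun a b ha hb => ?_) (fun a ha g hg => ?_)
  · refine le_antisymm (CfsgLib.Fitting.le_pCore inferInstance (P₀.2.to_le fun g hg => ?_))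
      fun g hg => MonoidHom.mem_ker.mpr (MulEquiv.ext fun a => (hfix g a).mpr ?_)
    · rw [← hP₀]
      exact (hfix g ⟨x₀, hx₀⟩).mp (by rw [MonoidHom.mem_ker.mp hg]; rfl)
    · rcases eq_or_ne (a : G) 1 with e | ha
      · rw [e, Subgroup.mem_centralizer_singleton_iff, mul_one, one_mul]
      obtain ⟨P, hP⟩ := hcent a a.2 ha
      rw [hP]
      exact CfsgLib.Fitting.mem_pCore_iff_forall_sylow.mp hg P
  · obtain ⟨g, hg⟩ := hcls a a.2 b b.2 (hne a ha) (hne b hb)
    exact ⟨g, Subtype.ext ((MulAut.conjNormal_apply g a).trans hg)⟩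
  · obtain ⟨P, hP⟩ := hcent a a.2 (hne a ha)
    obtain ⟨k, hk⟩ := P.2 ⟨g, hP ▸ (hfix g a).mp hg⟩
    exact ⟨k, congrArg Subtype.val hk⟩

end Cfsg.Agent.S4840
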