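import Cfsg.Statements.S4843
import Cfsg.Agent.Lib.Char.Clifford
import Cfsg.Agent.Lib.Char.Artin
import Cfsg.Agent.Lib.Char.Twist
import Cfsg.Agent.Lib.Char.Kernel
import Cfsg.Agent.Lib.Char.CMValue
import Cfsg.Agent.Lib.Fitting.Basic

set_option autoImplicit false
set_option linter.style.haveILetI false
set_option linter.unusedSectionVars false
open Cfsg
open CfsgLib
open scoped CfsgLib.Char ComplexConjugate

namespace Cfsg.Agent.S4843

variable {G : Type*} [Group G] [Fintype G]

/-- An irreducible character is not the sum of two non-zero characters. -/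
theorem not_irr_add {a b : G → ℂ} (ha : IsCharacter G a) (hb : IsCharacter G b) (ha1 : a 1 ≠ 0)
    (hb1 : b 1 ≠ 0) : ¬ IsIrrCharacter G (a + b) := by
  classical
  intro h
  have e := Char.classInner_irr_self h
  obtain ⟨m, hm⟩ := Char.exists_multiplicities ha
  obtain ⟨n, hn⟩ := Char.exists_multiplicities hb
  have hs : a + b = ∑ ψ : IrrCharacter G, ((m ψ + n ψ : ℕ) : ℂ) • (ψ : G → ℂ) := by
    rw [hm, hn, ← Finset.sum_add_distrib]
    exact Finset.sum_congr rfl fun ψ _ => by rw [Nat.cast_add, add_smul]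
  rw [hs, Char.classInner_sum_smul_sum_smul] at e
  simp only [map_natCast, ← Nat.cast_mul, ← Nat.cast_sum, Nat.cast_eq_one] at e
  obtain ⟨ψ, hψ⟩ : ∃ ψ, m ψ ≠ 0 := by
    by_contra hc
    push Not at hc
    exact ha1 (by rw [hm]; simp [hc])
  obtain ⟨ξ, hξ⟩ : ∃ ξ, n ξ ≠ 0 := by
    by_contra hc
    push Not at hc
    exact hb1 (by rw [hn]; simp [hc])
  by_cases hψξ : ψ = ξ
  · subst hψξ
    have := Finset.single_le_sum (f := fun ψ => (m ψ + n ψ) * (m ψ + n ψ)) (fun _ _ => Nat.zero_le _)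
      (Finset.mem_univ ψ)
    nlinarith [Nat.pos_of_ne_zero hψ, Nat.pos_of_ne_zero hξ]
  · have := Finset.sum_le_univ_sum_of_nonneg (s := {ψ, ξ})
      (fun ψ : IrrCharacter G => Nat.zero_le ((m ψ + n ψ) * (m ψ + n ψ)))
    rw [Finset.sum_pair hψξ] at this
    nlinarith [Nat.pos_of_ne_zero hψ, Nat.pos_of_ne_zero hξ]

variable {χ : G → ℂ} {k : ℕ}

/-- Constituents on normal subgroups are invariant. -/
theorem invariant (hχ : IsIrrCharacter G χ) (hk : k.Coprime (Nat.card G))
    (hirr : IsIrrCharacter G (fun g => χ g * χ (g ^ k))) (N : Subgroup G) [N.Normal] [Fintype N]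
    {θ : N → ℂ} (hθ : IsIrrCharacter N θ) (hcon : classInner (fun n : N => χ n) θ ≠ 0) (g : G) :
    Char.conjBy N θ g = θ := by
  classical
  set T := Char.inertia N θ with hTdef
  haveI := Fintype.ofFinite T
  have hT : ∀ g, g ∈ T ↔ Char.conjBy N θ g = θ := fun g => Char.mem_inertia N
  refine (hT g).mp ?_
  by_contra hg
  have hNT : N ≤ T := Char.le_inertia N (Char.isClassFunction_of_isCharacter (Char.isCharacter_of_isIrr hθ))
  obtain ⟨ψ, hψ, hind, -⟩ := Char.clifford_correspondence_surjective N T hθ hT hNT hχ hcon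
  have hkT : k.Coprime (Nat.card T) := Nat.Coprime.coprime_dvd_right T.card_subgroup_dvd_card hk
  set χ' : G → ℂ := fun g => χ (g ^ k)
  have hχ' := Char.isIrrCharacter_pow hk hχ
  have hψ' := Char.isIrrCharacter_pow hkT hψ
  have hχc := Char.isClassFunction_of_isCharacter (Char.isCharacter_of_isIrr hχ)
  obtain ⟨m, hm⟩ := Char.exists_multiplicities
    (Char.isCharacter_comp T.subtype (Char.isCharacter_of_isIrr hχ'))
  let ψ₀ : IrrCharacter T := ⟨_, hψ'⟩
  have hm0 : (m ψ₀ : ℂ) = 1 := by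
    have h1 : classInner (fun t : T => χ' (T.subtype t)) (ψ₀ : T → ℂ) = (m ψ₀ : ℂ) := by
      rw [hm, Char.classInner_sum_smul_irr]
    rw [← h1]
    have h2 := Char.classInner_pow hkT (fun t : T => χ t) ψ
    refine Eq.trans ?_ (h2.trans ?_)
    · rfl
    · rw [← Char.classInner_conj_symm, ← Char.frobenius_reciprocity T ψ hχc, hind,
        Char.classInner_irr_self hχ, map_one]
  let R : T → ℂ := ∑ ξ ∈ Finset.univ.erase ψ₀, (m ξ : ℂ) • (ξ : T → ℂ)
  have hR : IsCharacter T R := Char.isCharacter_sum _ _ fun ξ _ =>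
    Char.isCharacter_natCast_smul (Char.isCharacter_of_isIrr ξ.2) _
  have hsplit : (fun t : T => χ' t) = (ψ₀ : T → ℂ) + R := by
    show (fun t : T => χ' (T.subtype t)) = _
    rw [hm, ← Finset.add_sum_erase _ _ (Finset.mem_univ ψ₀), hm0, one_smul]
  have hprod : (fun g => χ g * χ (g ^ k)) =
      indFun T (ψ * (ψ₀ : T → ℂ)) + indFun T (ψ * R) := by
    rw [← Char.indFun_add, ← mul_add, ← hsplit,
      Char.indFun_mul_restrict T ψ (Char.isClassFunction_of_isCharacter (Char.isCharacter_of_isIrr hχ')), hind]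
    rfl
  rw [hprod] at hirr
  have hψ1 := Char.irr_degree_ne_zero hψ
  have hi : (T.index : ℂ) ≠ 0 := Nat.cast_ne_zero.mpr T.index_ne_zero_of_finite
  refine not_irr_add (Char.isCharacter_indFun T (Char.isCharacter_mul (Char.isCharacter_of_isIrr hψ)
    (Char.isCharacter_of_isIrr hψ'))) (Char.isCharacter_indFun T
    (Char.isCharacter_mul (Char.isCharacter_of_isIrr hψ) hR)) ?_ ?_ hirr
  · rw [Char.indFun_one]
    exact mul_ne_zero hi (mul_ne_zero hψ1 (Char.irr_degree_ne_zero ψ₀.2))
  · rw [Char.indFun_one]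
    refine mul_ne_zero hi (mul_ne_zero hψ1 fun h0 => ?_)
    have h1 := congrFun hsplit 1
    simp only [Pi.add_apply, h0, add_zero] at h1
    change χ ((1 : G) ^ k) = ψ ((1 : T) ^ k) at h1
    rw [one_pow, one_pow, ← hind, Char.indFun_one] at h1
    have h2 : ((T.index : ℂ) - 1) * ψ 1 = 0 := by linear_combination h1
    rcases mul_eq_zero.mp h2 with h3 | h3
    · have h4 : T.index = 1 := Nat.cast_eq_one.mp (sub_eq_zero.mp h3)
      exact hg (Subgroup.index_eq_one.mp h4 ▸ Subgroup.mem_top g)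
    · exact hψ1 h3

/-- Abelian normal subgroups are central. -/
theorem central_of_abelian (hχ : IsIrrCharacter G χ) (hfaith : ∀ g : G, χ g = χ 1 → g = 1)
    (hk : k.Coprime (Nat.card G)) (hirr : IsIrrCharacter G (fun g => χ g * χ (g ^ k)))
    (N : Subgroup G) [N.Normal] (hab : ∀ a ∈ N, ∀ b ∈ N, a * b = b * a) :
    N ≤ Subgroup.center G := by
  classical
  haveI := Fintype.ofFinite N
  obtain ⟨θ, hcon⟩ := Char.exists_constituent N (Char.isCharacter_of_isIrr hχ) (Char.irr_degree_ne_zero hχ)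
  have hinv := invariant hχ hk hirr N θ.2 hcon
  have hres := Char.clifford_invariant N hχ θ.2 hinv hcon
  have hθ1 : (θ : N → ℂ) 1 = 1 :=
    Char.degree_one_of_comm (fun a b => Subtype.ext (hab a a.2 b b.2)) θ
  intro n hn
  refine Subgroup.mem_center_iff.mpr fun g => ?_
  have hgn : g * n * g⁻¹ ∈ N := Subgroup.Normal.conj_mem inferInstance n hn g
  set f := Char.linearHom (Char.isCharacter_of_isIrr θ.2) hθ1
  have hf : f ⟨g * n * g⁻¹, hgn⟩ = f ⟨n, hn⟩ := Units.ext (by
    rw [Char.linearHom_apply, Char.linearHom_apply]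
    exact congrFun (hinv g) ⟨n, hn⟩)
  set y : N := ⟨g * n * g⁻¹, hgn⟩ * ⟨n, hn⟩⁻¹ with hy
  have hy1 : f y = 1 := by rw [hy, map_mul, map_inv, hf, mul_inv_cancel]
  have h1 : χ (y : G) = χ 1 := by
    have e1 := congrFun hres y
    have e2 := congrFun hres 1
    simp only [Pi.smul_apply] at e1 e2
    change χ (y : G) = _ at e1
    change χ 1 = _ at e2
    rw [e1, e2, ← Char.linearHom_apply (Char.isCharacter_of_isIrr θ.2) hθ1 y,
      ← Char.linearHom_apply (Char.isCharacter_of_isIrr θ.2) hθ1 1]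
    show _ • ((f y : ℂˣ) : ℂ) = _ • ((f 1 : ℂˣ) : ℂ)
    rw [hy1, map_one]
  have h2 : g * n * g⁻¹ * n⁻¹ = 1 := hfaith _ h1
  exact mul_inv_eq_iff_eq_mul.mp (mul_inv_eq_one.mp h2)

/-- The value of a central linear character, extended by zero. -/
noncomputable def scl (ω : Subgroup.center G →* ℂˣ) (u : G) : ℂ :=
  open Classical in if h : u ∈ Subgroup.center G then (ω ⟨u, h⟩ : ℂ) else 0

/-- The commutator datum: the scalar by which conjugation by `g` moves `ρ a`. -/
noncomputable def scalarAt (ω : Subgroup.center G →* ℂˣ) (g a : G) : ℂ :=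
  scl ω (a⁻¹ * (g * a * g⁻¹))

theorem scalarAt_of_mem (ω : Subgroup.center G →* ℂˣ) (g a : G)
    (h : a⁻¹ * (g * a * g⁻¹) ∈ Subgroup.center G) : scalarAt ω g a = (ω ⟨_, h⟩ : ℂ) := dif_pos h

theorem scalarAt_mul_center (ω : Subgroup.center G →* ℂˣ) (g a : G) {z : G}
    (hz : z ∈ Subgroup.center G) : scalarAt ω g (a * z) = scalarAt ω g a := by
  have e : (a * z)⁻¹ * (g * (a * z) * g⁻¹) = a⁻¹ * (g * a * g⁻¹) := by
    have h1 : z * g⁻¹ = g⁻¹ * z := (Subgroup.mem_center_iff.mp hz g⁻¹).symm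
    calc (a * z)⁻¹ * (g * (a * z) * g⁻¹) = z⁻¹ * (a⁻¹ * (g * a)) * (z * g⁻¹) := by group
      _ = z⁻¹ * (a⁻¹ * (g * a * g⁻¹) * z) := by rw [h1]; group
      _ = z⁻¹ * (z * (a⁻¹ * (g * a * g⁻¹))) := by rw [Subgroup.mem_center_iff.mp hz]
      _ = _ := inv_mul_cancel_left _ _
  simp only [scalarAt, e]

/-- The twist by a power map only reparametrises. -/
theorem scalarAt_pow (ω : Subgroup.center G →* ℂˣ) (hk : k.Coprime (Nat.card G)) (g a : G) :
    scalarAt ω (g ^ k) a = scalarAt ω g (a ^ k) := by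
  classical
  set u := a⁻¹ * (g * a * g⁻¹) with hu
  -- if `u` is central both commutators are its `k`-th power
  have hboth : u ∈ Subgroup.center G →
      a⁻¹ * (g ^ k * a * (g ^ k)⁻¹) = u ^ k ∧ (a ^ k)⁻¹ * (g * a ^ k * g⁻¹) = u ^ k := by
    intro huc
    have hga : g * a * g⁻¹ = a * u := by rw [hu]; group
    have hcu : Commute a u := Subgroup.mem_center_iff.mp huc a
    constructor
    · have key : ∀ j : ℕ, g ^ j * a * (g ^ j)⁻¹ = a * u ^ j := by
        intro j
        induction j with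
        | zero => simp
        | succ j ih =>
          have h1 : g * u ^ j * g⁻¹ = u ^ j := by
            rw [Subgroup.mem_center_iff.mp (Subgroup.pow_mem _ huc j) g, mul_inv_cancel_right]
          calc g ^ (j + 1) * a * (g ^ (j + 1))⁻¹ = g * (g ^ j * a * (g ^ j)⁻¹) * g⁻¹ := by
                rw [pow_succ']; group
            _ = (g * a * g⁻¹) * (g * u ^ j * g⁻¹) := by rw [ih]; group
            _ = a * u ^ (j + 1) := by rw [hga, h1, pow_succ', mul_assoc]
      rw [key, inv_mul_cancel_left]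
    · rw [← conj_pow, hga, hcu.mul_pow, inv_mul_cancel_left]
  by_cases huc : u ∈ Subgroup.center G
  · obtain ⟨e1, e2⟩ := hboth huc
    simp only [scalarAt, e1, e2]
  · have h2 : (a ^ k)⁻¹ * (g * a ^ k * g⁻¹) ∉ Subgroup.center G := by
      intro h
      refine huc ?_
      let q := QuotientGroup.mk' (Subgroup.center G)
      have hfix : q g * q a ^ k * (q g)⁻¹ = q a ^ k := by
        rw [← map_pow, ← map_inv, ← map_mul, ← map_mul]
        exact (QuotientGroup.eq.mpr h).symm
      obtain ⟨j, hj⟩ := exists_pow_eq_self_of_coprime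
        (Nat.Coprime.coprime_dvd_right ((orderOf_map_dvd q a).trans (orderOf_dvd_natCard a)) hk)
      refine QuotientGroup.eq.mp (Eq.symm ?_)
      show q (g * a * g⁻¹) = q a
      rw [map_mul, map_mul, map_inv, ← hj, ← conj_pow, hfix]
    have h1 : a⁻¹ * (g ^ k * a * (g ^ k)⁻¹) ∉ Subgroup.center G := by
      intro h
      refine huc ?_
      let q := QuotientGroup.mk' (Subgroup.center G)
      have hfix : Commute (q g ^ k) (q a) := by
        have : q (g ^ k * a * (g ^ k)⁻¹) = q a := (QuotientGroup.eq.mpr h).symm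
        rw [map_mul, map_mul, map_inv, map_pow] at this
        exact mul_inv_eq_iff_eq_mul.mp this
      obtain ⟨j, hj⟩ := exists_pow_eq_self_of_coprime
        (Nat.Coprime.coprime_dvd_right ((orderOf_map_dvd q g).trans (orderOf_dvd_natCard g)) hk)
      refine QuotientGroup.eq.mp (Eq.symm ?_)
      show q (g * a * g⁻¹) = q a
      have hc : Commute (q g) (q a) := hj ▸ hfix.pow_left j
      rw [map_mul, map_mul, map_inv, hc.eq, mul_inv_cancel_right]
    simp only [scalarAt, scl, dif_neg h1, dif_neg h2]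

/-- A monomially permuted independent family gives a constituent with explicit character. -/
theorem exists_monomial {V : Type*} [AddCommGroup V] [Module ℂ V] [FiniteDimensional ℂ V]
    (M : Representation ℂ G V) {ι : Type*} [Fintype ι] [DecidableEq ι] (R : ι → V)
    (hindep : LinearIndependent ℂ R) (act : G → ι → ι) (c : G → ι → ℂ)
    (hR : ∀ g i, M g (R i) = c g i • R (act g i)) :
    ∃ Φ : G → ℂ, IsCharacter G Φ ∧
      (∀ g, Φ g = ∑ i, if act g i = i then c g i else 0) ∧ Φ 1 = (Fintype.card ι : ℂ) ∧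
      (∀ ψ : IrrCharacter G, ∃ a b : ℕ, classInner Φ (ψ : G → ℂ) = a ∧
        classInner M.character (ψ : G → ℂ) = b ∧ a ≤ b) ∧
      ∀ x ∈ Submodule.span ℂ (Set.range R), x ≠ 0 → (∀ g, M g x = x) →
        classInner Φ (fun _ => 1) ≠ 0 := by
  classical
  let W : Submodule ℂ V := Submodule.span ℂ (Set.range R)
  have hW : ∀ g, ∀ x ∈ W, M g x ∈ W := by
    intro g x hx
    induction hx using Submodule.span_induction with
    | mem x hx =>
      obtain ⟨i, rfl⟩ := hx
      rw [hR]
      exact Submodule.smul_mem _ _ (Submodule.subset_span ⟨_, rfl⟩)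
    | zero => rw [map_zero]; exact Submodule.zero_mem _
    | add _ _ _ _ h1 h2 => rw [map_add]; exact Submodule.add_mem _ h1 h2
    | smul c _ _ h1 => rw [map_smul]; exact Submodule.smul_mem _ _ h1
  let S : Subrepresentation M := ⟨W, fun g x hx => hW g x hx⟩
  let τ : Representation ℂ G W := S.toRepresentation
  let B : Module.Basis ι ℂ W := Module.Basis.span hindep
  have hBval : ∀ i, ((B i : W) : V) = R i := fun i =>
    congrArg Subtype.val (Module.Basis.span_apply hindep i)
  have hτ : ∀ g (x : W), ((τ g x : W) : V) = M g (x : V) := fun g x => rfl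
  let incl : Representation.IntertwiningMap τ M := ⟨W.subtype, fun g => rfl⟩
  refine ⟨τ.character, Char.isCharacter_character τ, fun g => ?_, ?_, fun ψ => ?_, ?_⟩
  · show LinearMap.trace ℂ W (τ g) = _
    rw [LinearMap.trace_eq_matrix_trace ℂ B, Matrix.trace]
    refine Finset.sum_congr rfl fun i _ => ?_
    rw [Matrix.diag_apply, LinearMap.toMatrix_apply]
    have e : τ g (B i) = c g i • B (act g i) := Subtype.ext (by
      rw [hτ, hBval, hR, Submodule.coe_smul, hBval])
    rw [e, map_smul, Module.Basis.repr_self, Finsupp.smul_apply, Finsupp.single_apply, smul_eq_mul,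
      mul_ite, mul_one, mul_zero]
  · rw [Representation.char_one, Module.finrank_eq_card_basis B]
  · obtain ⟨e, σ, hσ, hψ⟩ := ψ.2
    refine ⟨_, _, by rw [← hψ]; exact Char.classInner_character_eq_finrank σ τ,
      by rw [← hψ]; exact Char.classInner_character_eq_finrank σ M, ?_⟩
    let L : Representation.IntertwiningMap σ τ →ₗ[ℂ] Representation.IntertwiningMap σ M :=
      { toFun := fun f => incl.comp f
        map_add' := fun f f' => by ext v; rfl
        map_smul' := fun c f => by ext v; rfl }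
    refine LinearMap.finrank_le_finrank_of_injective (f := L) fun f f' h => ?_
    exact Representation.IntertwiningMap.ext (LinearMap.ext fun v =>
      Subtype.ext (congrArg (fun F => F.toLinearMap v) h))
  · intro x hx hx0 hfix h0
    let f : Representation.IntertwiningMap (Representation.trivial ℂ G ℂ) τ :=
      ⟨LinearMap.toSpanSingleton ℂ W ⟨x, hx⟩, fun g => LinearMap.ext fun a => Subtype.ext (by
        show a • x = M g (a • x)
        rw [map_smul, hfix])⟩
    have htr : (Representation.trivial ℂ G ℂ).character = fun _ => (1 : ℂ) := funext fun g => by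
      show LinearMap.trace ℂ ℂ LinearMap.id = _
      rw [LinearMap.trace_id, Module.finrank_self, Nat.cast_one]
    have h3 := Char.classInner_character_eq_finrank (Representation.trivial ℂ G ℂ) τ
    rw [htr, h0] at h3
    haveI : Subsingleton (Representation.IntertwiningMap (Representation.trivial ℂ G ℂ) τ) :=
      Module.finrank_zero_iff.mp (Nat.cast_eq_zero.mp h3.symm)
    have h4 := congrArg (fun F => ((Representation.IntertwiningMap.toLinearMap F) 1 : W))
      (Subsingleton.elim f 0)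
    have h5 : (1 : ℂ) • x = 0 := congrArg Subtype.val h4
    rw [one_smul] at h5
    exact hx0 h5

/-- The contradiction from a class-two normal subgroup. -/
theorem class_two_false (hχ : IsIrrCharacter G χ) (hfaith : ∀ g : G, χ g = χ 1 → g = 1)
    (hk : k.Coprime (Nat.card G)) (hirr : IsIrrCharacter G (fun g => χ g * χ (g ^ k)))
    (A : Subgroup G) [hA : A.Normal]
    (hcls : ∀ a ∈ A, ∀ b ∈ A, a⁻¹ * (b * a * b⁻¹) ∈ Subgroup.center G)
    (hnd : ∀ a ∈ A, (∀ b ∈ A, b * a = a * b) → a ∈ Subgroup.center G)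
    (hne : ¬ A ≤ Subgroup.center G) : False := by
  classical
  obtain ⟨d, ρ, hρ, rfl⟩ := hχ
  have hirrρ : classInner ρ.character ρ.character = 1 := Char.classInner_irr_self ⟨d, ρ, hρ, rfl⟩
  have hd0 : d ≠ 0 := by
    intro h
    have := Char.irr_degree_ne_zero (χ := ρ.character) ⟨d, ρ, hρ, rfl⟩
    rw [Representation.char_one, Module.finrank_fin_fun, h, Nat.cast_zero] at this
    exact this rfl
  haveI : Nontrivial (Fin d → ℂ) := Module.nontrivial_of_finrank_pos (R := ℂ)
    (by rw [Module.finrank_fin_fun]; exact Nat.pos_of_ne_zero hd0)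
  -- scalars for the centre
  have hscal : ∀ z : Subgroup.center G, ∃ c : ℂ, ρ (z : G) = c • LinearMap.id := by
    intro z
    let f : Representation.IntertwiningMap ρ ρ := ⟨ρ (z : G), fun g => by
      show ρ (z : G) * ρ g = ρ g * ρ (z : G)
      rw [← map_mul, ← map_mul, Subgroup.mem_center_iff.mp z.2 g]⟩
    have h1 := (Char.classInner_character_eq_finrank ρ ρ).symm.trans hirrρ
    rw [Nat.cast_eq_one] at h1
    obtain ⟨c, hc⟩ := (finrank_eq_one_iff_of_nonzero' (Representation.IntertwiningMap.id ρ) (by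
      intro h0
      have h2 : (LinearMap.id : (Fin d → ℂ) →ₗ[ℂ] (Fin d → ℂ)) = 0 :=
        congrArg Representation.IntertwiningMap.toLinearMap h0
      exact one_ne_zero (α := Module.End ℂ (Fin d → ℂ)) h2)).mp h1 f
    exact ⟨c, (congrArg Representation.IntertwiningMap.toLinearMap hc).symm⟩
  choose w hw using hscal
  have hwinj : ∀ c c' : ℂ, c • (LinearMap.id : Module.End ℂ (Fin d → ℂ)) = c' • LinearMap.id → c = c' :=
    fun c c' h => smul_left_injective ℂ (one_ne_zero (α := Module.End ℂ (Fin d → ℂ))) h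
  let ωm : Subgroup.center G →* ℂ :=
    { toFun := w
      map_one' := hwinj _ _ (by rw [← hw, Subgroup.coe_one, map_one, one_smul]; rfl)
      map_mul' := fun a b => hwinj _ _ (by
        rw [← hw, Subgroup.coe_mul, map_mul, hw, hw]
        exact smul_mul_smul_comm (w a) _ (w b) _) }
  let ω : Subgroup.center G →* ℂˣ := ωm.toHomUnits
  have hω : ∀ z : Subgroup.center G, ρ (z : G) = (ω z : ℂ) • LinearMap.id := fun z => hw z
  have hωinj : Function.Injective ω := by
    refine (injective_iff_map_eq_one ω).mpr fun z hz => Subtype.ext (hfaith _ ?_)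
    show LinearMap.trace ℂ _ (ρ (z : G)) = LinearMap.trace ℂ _ (ρ 1)
    rw [hω, hz, Units.val_one, one_smul, map_one]
    rfl
  -- the cosets
  set Zc : Subgroup A := (Subgroup.center G).subgroupOf A
  haveI := Fintype.ofFinite (A ⧸ Zc)
  let r : A ⧸ Zc → G := fun i => ((Quotient.out i : A) : G)
  have hrA : ∀ i, r i ∈ A := fun i => (Quotient.out i : A).2
  let act : G → A ⧸ Zc → A ⧸ Zc := fun g i =>
    QuotientGroup.mk (⟨g * r i * g⁻¹, hA.conj_mem _ (hrA i) g⟩ : A)
  have hact : ∀ g i, (r (act g i))⁻¹ * (g * r i * g⁻¹) ∈ Subgroup.center G := fun g i =>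
    Subgroup.mem_subgroupOf.mp (QuotientGroup.eq.mp (QuotientGroup.out_eq' (act g i)))
  let R : A ⧸ Zc → Module.End ℂ (Fin d → ℂ) := fun i => ρ (r i)
  have hR : ∀ g i, ρ.linHom ρ g (R i) = (ω ⟨_, hact g i⟩ : ℂ) • R (act g i) := by
    intro g i
    show ρ g * ρ (r i) * ρ g⁻¹ = _
    rw [← map_mul, ← map_mul]
    conv_lhs => rw [show g * r i * g⁻¹ = r (act g i) * ((r (act g i))⁻¹ * (g * r i * g⁻¹)) by group]
    rw [map_mul, hω ⟨_, hact g i⟩]
    show R (act g i) ∘ₗ _ = _
    rw [LinearMap.comp_smul, LinearMap.comp_id]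
  -- independence
  have hfix : ∀ (b : A) i, act (b : G) i = i := by
    intro b i
    refine (QuotientGroup.eq.mpr ?_).trans (QuotientGroup.out_eq' i)
    refine Subgroup.mem_subgroupOf.mpr ?_
    have h := Subgroup.inv_mem _ (hcls (r i) (hrA i) b b.2)
    rw [mul_inv_rev, inv_inv] at h
    exact h
  have hne0 : ∀ i, R i ≠ 0 := fun i h => by
    have h1 : ρ (r i) * ρ (r i)⁻¹ = 1 := by rw [← map_mul, mul_inv_cancel, map_one]
    rw [show ρ (r i) = 0 from h, zero_mul] at h1
    exact zero_ne_one h1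
  let η : A ⧸ Zc → (A → ℂˣ) := fun i b => ω ⟨(r i)⁻¹ * ((b : G) * r i * (b : G)⁻¹), hcls _ (hrA i) _ b.2⟩
  have hηmul : ∀ i (b b' : A), η i (b * b') = η i b * η i b' := by
    intro i b b'
    simp only [η]
    rw [← map_mul]
    congr 1
    refine Subtype.ext ?_
    show (r i)⁻¹ * ((b : G) * b' * r i * ((b : G) * b')⁻¹) =
      (r i)⁻¹ * ((b : G) * r i * (b : G)⁻¹) * ((r i)⁻¹ * ((b' : G) * r i * (b' : G)⁻¹))
    set u' := (r i)⁻¹ * ((b' : G) * r i * (b' : G)⁻¹) with hu'
    have h1 : u' * (b : G)⁻¹ = (b : G)⁻¹ * u' :=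
      (Subgroup.mem_center_iff.mp (hcls _ (hrA i) _ b'.2) _).symm
    calc (r i)⁻¹ * ((b : G) * b' * r i * ((b : G) * b')⁻¹)
        = (r i)⁻¹ * ((b : G) * r i * (u' * (b : G)⁻¹)) := by rw [hu']; group
      _ = _ := by rw [h1]; group
  let ηh : A ⧸ Zc → (A →* ℂˣ) := fun i => MonoidHom.mk' (η i) (hηmul i)
  have hηinj : ∀ i j, ηh i = ηh j → i = j := by
    intro i j h
    rw [← QuotientGroup.out_eq' i, ← QuotientGroup.out_eq' j]
    refine QuotientGroup.eq.mpr (Subgroup.mem_subgroupOf.mpr ?_)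
    show (r i)⁻¹ * r j ∈ Subgroup.center G
    refine hnd _ (mul_mem (inv_mem (hrA i)) (hrA j)) fun b hb => ?_
    have h1 : (r i)⁻¹ * (b * r i * b⁻¹) = (r j)⁻¹ * (b * r j * b⁻¹) :=
      congrArg Subtype.val (hωinj (DFunLike.congr_fun h ⟨b, hb⟩))
    have hc := Subgroup.mem_center_iff.mp (hcls _ (hrA i) _ hb)
    set u := (r i)⁻¹ * (b * r i * b⁻¹) with hu
    have hi : b * r i * b⁻¹ = r i * u := by rw [hu]; group
    have hj : b * r j * b⁻¹ = r j * u := by rw [h1]; group
    have h2 : b * ((r i)⁻¹ * r j) * b⁻¹ = (r i)⁻¹ * r j := by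
      calc b * ((r i)⁻¹ * r j) * b⁻¹ = (b * r i * b⁻¹)⁻¹ * (b * r j * b⁻¹) := by group
        _ = u⁻¹ * ((r i)⁻¹ * r j * u) := by rw [hi, hj]; group
        _ = u⁻¹ * (u * ((r i)⁻¹ * r j)) := by rw [hc]
        _ = _ := inv_mul_cancel_left _ _
    exact mul_inv_eq_iff_eq_mul.mp h2
  have hRb : ∀ (b : A) i, ρ.linHom ρ (b : G) (R i) = (ηh i b : ℂ) • R i := by
    intro b i
    have key : ∀ j, act (b : G) i = j → ∀ h : (r j)⁻¹ * ((b : G) * r i * (b : G)⁻¹) ∈ Subgroup.center G,
        ρ.linHom ρ (b : G) (R i) = (ω ⟨_, h⟩ : ℂ) • R j := by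
      rintro j rfl h
      exact hR _ i
    exact key i (hfix b i) _
  haveI := Fintype.ofFinite A
  have hindep : LinearIndependent ℂ R := by
    refine Fintype.linearIndependent_iff.mpr fun c hc j => ?_
    have h1 : ∑ i, ∑ b : A, (((ηh j)⁻¹ b : ℂˣ) : ℂ) • (ρ.linHom ρ (b : G) (c i • R i)) = 0 := by
      rw [Finset.sum_comm]
      refine Finset.sum_eq_zero fun b _ => ?_
      rw [← Finset.smul_sum, ← map_sum, hc, map_zero, smul_zero]
    have h2 : ∀ i, ∑ b : A, (((ηh j)⁻¹ b : ℂˣ) : ℂ) • (ρ.linHom ρ (b : G) (c i • R i)) =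
        (c i * ∑ b : A, ((((ηh j)⁻¹ * ηh i) b : ℂˣ) : ℂ)) • R i := by
      intro i
      rw [Finset.mul_sum, Finset.sum_smul]
      refine Finset.sum_congr rfl fun b _ => ?_
      rw [map_smul, hRb, smul_smul, smul_smul, MonoidHom.mul_apply, Units.val_mul]
      congr 1
      ring
    simp only [h2] at h1
    rw [Finset.sum_eq_single j (fun i _ hij => ?_) (fun h => absurd (Finset.mem_univ j) h)] at h1
    · rw [show (ηh j)⁻¹ * ηh j = 1 from MonoidHom.ext fun b => by simp] at h1
      simp only [MonoidHom.one_apply, Units.val_one, Finset.sum_const, nsmul_one] at h1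
      exact (mul_eq_zero.mp ((smul_eq_zero.mp h1).resolve_right (hne0 j))).resolve_right
        (Nat.cast_ne_zero.mpr (Finset.card_ne_zero.mpr Finset.univ_nonempty))
    · obtain ⟨b₀, hb₀⟩ : ∃ b, ((ηh j)⁻¹ * ηh i) b ≠ 1 := by
        by_contra hall
        push Not at hall
        exact hij (hηinj i j (inv_mul_eq_one.mp (MonoidHom.ext hall)).symm)
      have h0 : ∑ b : A, ((((ηh j)⁻¹ * ηh i) b : ℂˣ) : ℂ) = 0 := by
        set e := (ηh j)⁻¹ * ηh i
        have h3 : ((e b₀ : ℂˣ) : ℂ) * ∑ b : A, ((e b : ℂˣ) : ℂ) = ∑ b : A, ((e b : ℂˣ) : ℂ) := by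
          rw [Finset.mul_sum]
          exact Fintype.sum_equiv (Equiv.mulLeft b₀) _ _ fun b => by
            rw [Equiv.coe_mulLeft, map_mul, Units.val_mul]
        by_contra hne
        exact hb₀ (Units.ext (mul_right_cancel₀ hne (h3.trans (one_mul _).symm)))
      rw [h0, mul_zero, zero_smul]
  -- the subrepresentation
  obtain ⟨Φ, hΦc, hΦsum, hΦ1, hle, hΦtriv⟩ :=
    exists_monomial (ρ.linHom ρ) R hindep act (fun g i => (ω ⟨_, hact g i⟩ : ℂ)) hR
  have hΦval : ∀ g, Φ g = ∑ i, scalarAt ω g (r i) := by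
    intro g
    rw [hΦsum]
    refine Finset.sum_congr rfl fun i _ => ?_
    by_cases hi : act g i = i
    · rw [if_pos hi]
      have key : ∀ j, act g i = j → ∀ h : (r j)⁻¹ * (g * r i * g⁻¹) ∈ Subgroup.center G,
          ω ⟨_, hact g i⟩ = ω ⟨_, h⟩ := by
        rintro j rfl h
        rfl
      have h' : (r i)⁻¹ * (g * r i * g⁻¹) ∈ Subgroup.center G := by
        have := hact g i; rwa [hi] at this
      rw [scalarAt_of_mem ω g (r i) h', key i hi h']
    · rw [if_neg hi, scalarAt, scl, dif_neg]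
      intro hmem
      refine hi ((QuotientGroup.eq.mpr (Subgroup.mem_subgroupOf.mpr ?_)).trans (QuotientGroup.out_eq' i))
      have h := Subgroup.inv_mem _ hmem
      rwa [mul_inv_rev, inv_inv] at h
  -- invariance under the twist
  have hsum : ∀ g, ∑ a : A, scalarAt ω g (a : G) = (Nat.card Zc : ℂ) * Φ g := by
    intro g
    rw [hΦval, ← Finset.sum_fiberwise Finset.univ (fun a : A => (QuotientGroup.mk a : A ⧸ Zc)),
      Finset.mul_sum]
    refine Finset.sum_congr rfl fun i _ => ?_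
    rw [Finset.sum_congr rfl (g := fun _ => scalarAt ω g (r i)) fun a ha => ?_, Finset.sum_const,
      nsmul_eq_mul]
    · congr 2
      rw [← Fintype.card_subtype, ← Nat.card_eq_fintype_card]
      refine Nat.card_congr (Equiv.subtypeEquiv (Equiv.mulLeft (Quotient.out i : A)⁻¹) fun a => ?_)
      rw [Equiv.coe_mulLeft, ← QuotientGroup.eq, QuotientGroup.out_eq', eq_comm]
    · have h1 : (Quotient.out i : A)⁻¹ * a ∈ Zc :=
        QuotientGroup.eq.mp ((QuotientGroup.out_eq' i).trans (Finset.mem_filter.mp ha).2.symm)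
      have h2 := scalarAt_mul_center ω g (r i) (Subgroup.mem_subgroupOf.mp h1)
      rwa [show r i * (((Quotient.out i : A)⁻¹ * a : A) : G) = (a : G) by
        show r i * ((r i)⁻¹ * (a : G)) = _; group] at h2
  have hkA : k.Coprime (Nat.card A) := Nat.Coprime.coprime_dvd_right A.card_subgroup_dvd_card hk
  have hΦk : ∀ g, Φ (g ^ k) = Φ g := by
    intro g
    refine mul_left_cancel₀ (Nat.cast_ne_zero.mpr (Nat.card_pos (α := Zc)).ne') ?_
    rw [← hsum, ← hsum]
    exact Fintype.sum_equiv (powCoprime (G := A) (n := k) hkA.symm) _ _ fun a => by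
      rw [scalarAt_pow ω hk]; rfl
  -- multiplicities
  set J : G → ℂ := (ρ.linHom ρ).character with hJdef
  have hJc : IsCharacter G J := Char.isCharacter_character _
  choose a b ha hb hab using hle
  let P : IrrCharacter G → IrrCharacter G := fun ψ => ⟨_, Char.isIrrCharacter_pow hk ψ.2⟩
  have hP : Function.Bijective P := by
    refine Finite.injective_iff_bijective.mp fun x y h => Subtype.ext (funext fun g => ?_)
    obtain ⟨j, hj⟩ := exists_pow_eq_self_of_coprime
      (Nat.Coprime.coprime_dvd_right (orderOf_dvd_natCard g) hk)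
    have := congrFun (congrArg Subtype.val h) (g ^ j)
    change (x : G → ℂ) ((g ^ j) ^ k) = (y : G → ℂ) ((g ^ j) ^ k) at this
    rwa [← pow_mul, mul_comm, pow_mul, hj] at this
  set J' : G → ℂ := fun g => J (g ^ k) with hJ'def
  have hb' : ∀ ψ, classInner J' (P ψ : G → ℂ) = b ψ := fun ψ => by
    rw [← hb ψ]; exact Char.classInner_pow hk J _
  have ha' : ∀ ψ, a (P ψ) = a ψ := fun ψ => by
    have h1 : classInner (fun g => Φ (g ^ k)) (P ψ : G → ℂ) = a ψ := by
      rw [← ha ψ]; exact Char.classInner_pow hk Φ _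
    rw [show (fun g => Φ (g ^ k)) = Φ from funext hΦk, ha] at h1
    exact Nat.cast_injective h1
  have hJval : ∀ g, J g = ρ.character g⁻¹ * ρ.character g := fun g => Representation.char_linHom ρ ρ g
  have hnorm : classInner J J' = 1 := by
    rw [← Char.classInner_irr_self hirr]
    simp only [classInner]
    congr 1
    refine Finset.sum_congr rfl fun g _ => ?_
    have hinv : ∀ x, ρ.character x⁻¹ = conj (ρ.character x) :=
      Char.value_inv_eq_conj (Char.isCharacter_character ρ)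
    simp only [hJ'def, hJval, hinv, map_mul, Complex.conj_conj]
    ring
  obtain ⟨mJ, hmJ⟩ := Char.exists_multiplicities hJc
  obtain ⟨mJ', hmJ'⟩ := Char.exists_multiplicities (Char.isCharacter_pow hk hJc)
  obtain ⟨mΦ, hmΦ⟩ := Char.exists_multiplicities hΦc
  have eJ : ∀ ψ, (mJ ψ : ℂ) = b ψ := fun ψ => by rw [← hb ψ, hmJ, Char.classInner_sum_smul_irr]
  have eJ' : ∀ ψ, (mJ' (P ψ) : ℂ) = b ψ := fun ψ => by
    rw [← hb' ψ, hJ'def, hmJ', Char.classInner_sum_smul_irr]
  have eΦ : ∀ ψ, (mΦ ψ : ℂ) = a ψ := fun ψ => by rw [← ha ψ, hmΦ, Char.classInner_sum_smul_irr]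
  have h1 : ∑ ψ, mJ ψ * mJ' ψ = 1 := by
    have h := hnorm
    rw [hJ'def, hmJ', hmJ, Char.classInner_sum_smul_sum_smul] at h
    simp only [map_natCast] at h
    exact_mod_cast h
  have h2 : ∑ ψ, mΦ ψ * mΦ ψ ≤ 1 := by
    rw [← h1]
    refine Finset.sum_le_sum fun ψ _ => Nat.mul_le_mul ?_ ?_
    · rw [Nat.cast_injective (eΦ ψ), Nat.cast_injective (eJ ψ)]; exact hab ψ
    · obtain ⟨ψ', rfl⟩ := hP.2 ψ
      rw [Nat.cast_injective (eΦ _), ha', Nat.cast_injective (eJ' ψ')]
      exact hab ψ'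
  -- the trivial character occurs, so `Φ` is trivial
  obtain ⟨t, ht⟩ : ∃ t : IrrCharacter G, (t : G → ℂ) = fun _ => 1 := ⟨⟨_, Char.isIrrCharacter_one⟩, rfl⟩
  have ht0 : mΦ t ≠ 0 := by
    intro h0
    set i₀ : A ⧸ Zc := QuotientGroup.mk 1
    have hz : r i₀ ∈ Subgroup.center G := by
      have := QuotientGroup.eq.mp (QuotientGroup.out_eq' i₀).symm
      rw [inv_one, one_mul] at this
      exact Subgroup.mem_subgroupOf.mp this
    have e : (1 : Module.End ℂ (Fin d → ℂ)) = ((ω ⟨_, hz⟩ : ℂ))⁻¹ • R i₀ := by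
      show _ = _ • ρ (r i₀)
      rw [hω ⟨_, hz⟩, smul_smul, inv_mul_cancel₀ (Units.ne_zero _), one_smul]
      rfl
    refine hΦtriv 1 (by rw [e]; exact Submodule.smul_mem _ _ (Submodule.subset_span ⟨i₀, rfl⟩))
      one_ne_zero (fun g => by
        show ρ g * 1 * ρ g⁻¹ = 1
        rw [mul_one, ← map_mul, mul_inv_cancel, map_one]) ?_
    rw [← ht, hmΦ, Char.classInner_sum_smul_irr, h0, Nat.cast_zero]
  have h6 : ∀ ψ, ψ ≠ t → mΦ ψ = 0 := by
    intro ψ hψ
    have hs := Finset.sum_le_univ_sum_of_nonneg (s := {t, ψ})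
      (fun ψ : IrrCharacter G => Nat.zero_le (mΦ ψ * mΦ ψ))
    rw [Finset.sum_pair hψ.symm] at hs
    rcases Nat.eq_zero_or_pos (mΦ ψ) with h | h
    · exact h
    · exfalso; nlinarith [Nat.pos_of_ne_zero ht0]
  have h7 : mΦ t = 1 := by
    have hs := Finset.single_le_sum (f := fun ψ => mΦ ψ * mΦ ψ) (fun _ _ => Nat.zero_le _)
      (Finset.mem_univ t)
    nlinarith [Nat.pos_of_ne_zero ht0]
  have h8 : Φ 1 = 1 := by
    rw [hmΦ, Finset.sum_eq_single t (fun ψ _ h => by rw [h6 ψ h, Nat.cast_zero, zero_smul])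
      (fun h => absurd (Finset.mem_univ t) h), h7, Nat.cast_one, one_smul, ht]
  rw [hΦ1, Nat.cast_eq_one, ← Nat.card_eq_fintype_card] at h8
  refine hne fun x hx => ?_
  haveI := (Nat.card_eq_one_iff_unique.mp h8).1
  have := QuotientGroup.eq.mp (Subsingleton.elim ((1 : A) : A ⧸ Zc) ((⟨x, hx⟩ : A) : A ⧸ Zc))
  rw [inv_one, one_mul] at this
  exact Subgroup.mem_subgroupOf.mp this

/-- If a faithful irreducible character times one of its Galois conjugates is irreducible, the Fitting subgroup is the centre. -/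
theorem result {G : Type*} [Group G] [Finite G] (χ : Cfsg.IrrCharacter G) (hfaith : ∀ g : G, (χ : G → ℂ) g = (χ : G → ℂ) 1 → g = 1) (k : ℕ) (hk : Nat.Coprime k (Nat.card G)) (hirr : Cfsg.IsIrrCharacter G (fun g => (χ : G → ℂ) g * (χ : G → ℂ) (g ^ k))) : Cfsg.fittingSubgroup G = Subgroup.center G := by
  classical
  haveI := Fintype.ofFinite G
  set Z := Subgroup.center G with hZ
  haveI hZn : Z.Normal := inferInstance
  haveI hFn : (Cfsg.fittingSubgroup G).Normal := Fitting.fittingSubgroup_normal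
  refine le_antisymm ?_ (Fitting.le_fittingSubgroup hZn ⟨⟨1, ?_⟩⟩)
  swap
  · rw [Subgroup.upperCentralSeries_one, eq_top_iff]
    exact fun x _ => Subgroup.mem_center_iff.mpr fun y => Subtype.ext (Subgroup.mem_center_iff.mp x.2 y)
  set F := Cfsg.fittingSubgroup G with hF
  by_contra hFZ
  haveI := Fitting.fittingSubgroup_isNilpotent (G := G)
  set q := QuotientGroup.mk' Z
  set Fb := F.map q with hFb
  haveI : Fb.Normal := hFn.map q (QuotientGroup.mk'_surjective Z)
  haveI : Group.IsNilpotent Fb :=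
    Group.nilpotent_of_surjective (q.subgroupMap F) (q.subgroupMap_surjective F)
  haveI : Nontrivial Fb := by
    rw [Subgroup.nontrivial_iff_ne_bot]
    intro h
    rw [hFb, Subgroup.map_eq_bot_iff, QuotientGroup.ker_mk'] at h
    exact hFZ h
  set A : Subgroup G := F ⊓ (Subgroup.centralizer (Fb : Set (G ⧸ Z))).comap q with hA
  haveI : A.Normal := inferInstance
  have hmemF : ∀ a ∈ A, ∀ b ∈ F, a⁻¹ * (b * a * b⁻¹) ∈ Z := by
    intro a ha b hb
    have h1 : q b * q a = q a * q b := (Subgroup.mem_inf.mp ha).2 (q b) (Subgroup.mem_map_of_mem q hb)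
    refine QuotientGroup.eq.mp (Eq.symm ?_)
    show q (b * a * b⁻¹) = q a
    rw [map_mul, map_mul, map_inv, h1, mul_inv_cancel_right]
  have hAne : ¬ A ≤ Z := by
    intro hle
    haveI : Nontrivial (Subgroup.center Fb) :=
      (Subgroup.nontrivial_iff_ne_bot _).mpr (Group.IsNilpotent.center_ne_bot Fb)
    obtain ⟨x, hx⟩ := exists_ne (1 : Subgroup.center Fb)
    obtain ⟨a, ha, hax⟩ := (x : Fb).2
    have haA : a ∈ A := Subgroup.mem_inf.mpr ⟨ha, Subgroup.mem_comap.mpr fun y hy => by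
      show y * q a = q a * y
      rw [hax]
      exact congrArg Subtype.val (Subgroup.mem_center_iff.mp x.2 ⟨y, hy⟩)⟩
    refine hx (Subtype.ext (Subtype.ext ?_))
    show ((x : Fb) : G ⧸ Z) = 1
    rw [← hax]
    exact (QuotientGroup.eq_one_iff a).mpr (hle haA)
  have hnd : ∀ a ∈ A, (∀ b ∈ A, b * a = a * b) → a ∈ Z := by
    intro a ha hcomm
    haveI : (A ⊓ Subgroup.centralizer (A : Set G)).Normal := inferInstance
    exact central_of_abelian χ.2 hfaith hk hirr (A ⊓ Subgroup.centralizer (A : Set G))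
      (fun x hx y hy => Subgroup.mem_centralizer_iff.mp (Subgroup.mem_inf.mp hy).2 x
        (Subgroup.mem_inf.mp hx).1)
      (Subgroup.mem_inf.mpr ⟨ha, Subgroup.mem_centralizer_iff.mpr hcomm⟩)
  exact class_two_false χ.2 hfaith hk hirr A
    (fun a ha b hb => hmemF a ha b (Subgroup.mem_inf.mp hb).1) hnd hAne

end Cfsg.Agent.S4843
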