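import Cfsg.Statements.S4845
import Cfsg.Agent.Lib.Char.Extraspecial
import Cfsg.Agent.Lib.Char.Kernel
import Cfsg.Agent.Lib.Char.Twist
import Cfsg.Agent.Lib.Blocks.Inflate
import Cfsg.Agent.Lib.Blocks.CentralChar

set_option autoImplicit false
set_option linter.style.haveILetI false
open Cfsg
open CfsgLib
open scoped CfsgLib.Char ComplexConjugate commutatorElement

namespace Cfsg.Agent.S4845

universe u

/-- Irreducible characters of equal degree, not linear, are Galois conjugate. -/
def Hyp (G : Type u) [Group G] : Prop :=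
  ∀ χ ψ : IrrCharacter G, charDegree (χ : G → ℂ) ≠ 1 →
    charDegree (χ : G → ℂ) = charDegree (ψ : G → ℂ) →
    ∃ k : ℕ, Nat.Coprime k (Nat.card G) ∧ ∀ g : G, (ψ : G → ℂ) g = (χ : G → ℂ) (g ^ k)

variable {G : Type u} [Group G] [Finite G]

/-- Equal degrees give equal kernels. -/
theorem ker_le (h : Hyp G) {χ ψ : IrrCharacter G} (hχ : charDegree (χ : G → ℂ) ≠ 1)
    (hd : charDegree (χ : G → ℂ) = charDegree (ψ : G → ℂ)) {g : G}
    (hg : (χ : G → ℂ) g = (χ : G → ℂ) 1) : (ψ : G → ℂ) g = (ψ : G → ℂ) 1 := by
  obtain ⟨k, -, hk⟩ := h χ ψ hχ hd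
  obtain ⟨K, -, hK, -⟩ := Char.exists_kernel (Char.isCharacter_of_isIrr χ.2)
  rw [hk, hk, one_pow]
  exact (hK _).mp (K.pow_mem ((hK g).mpr hg) k)

/-- The property passes to factor groups. -/
theorem hyp_quotient (h : Hyp G) (N : Subgroup G) [N.Normal] : Hyp (G ⧸ N) := by
  intro χ ψ hχ hd
  have e : ∀ η : IrrCharacter (G ⧸ N), charDegree
      (Blocks.inflate (QuotientGroup.mk' N) (QuotientGroup.mk'_surjective N) η : G → ℂ) =
      charDegree (η : G ⧸ N → ℂ) := fun η => by
    show ⌊((η : G ⧸ N → ℂ) (QuotientGroup.mk' N 1)).re⌋₊ = _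
    rw [map_one]; rfl
  obtain ⟨k, hk, hkg⟩ := h (Blocks.inflate _ (QuotientGroup.mk'_surjective N) χ)
    (Blocks.inflate _ (QuotientGroup.mk'_surjective N) ψ) (by rwa [e]) (by rwa [e, e])
  refine ⟨k, hk.coprime_dvd_right (Subgroup.card_quotient_dvd_card N), fun q => ?_⟩
  obtain ⟨g, rfl⟩ := QuotientGroup.mk'_surjective N q
  have := hkg g
  rw [← map_pow]
  exact this

/-- A linear character kills the derived subgroup. -/
theorem linear_eq_one (χ : IrrCharacter G) (h1 : charDegree (χ : G → ℂ) = 1) {c : G}
    (hc : c ∈ commutator G) : (χ : G → ℂ) c = (χ : G → ℂ) 1 := by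
  have hχ := Char.isCharacter_of_isIrr χ.2
  have hone : (χ : G → ℂ) 1 = 1 := by rw [(Blocks.irr_degree_eq χ).1, h1, Nat.cast_one]
  have hker : commutator G ≤ (Char.linearHom hχ hone).ker := Abelianization.commutator_subset_ker _
  rw [hone, ← Char.linearHom_apply hχ hone c, MonoidHom.mem_ker.mp (hker hc), Units.val_one]

/-- A character that is nontrivial on the derived subgroup is not linear. -/
theorem degree_ne_one (χ : IrrCharacter G) {c : G} (hc : c ∈ commutator G)
    (hne : (χ : G → ℂ) c ≠ (χ : G → ℂ) 1) : charDegree (χ : G → ℂ) ≠ 1 :=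
  fun h => hne (linear_eq_one χ h hc)

theorem comm_mul_right (x a b : G) : ⁅x, a * b⁆ = ⁅x, a⁆ * (a * ⁅x, b⁆ * a⁻¹) := by
  simp only [commutatorElement_def]; group

theorem comm_mul_left (a b x : G) : ⁅a * b, x⁆ = a * ⁅b, x⁆ * a⁻¹ * ⁅a, x⁆ := by
  simp only [commutatorElement_def]; group

theorem mem_derived (a b : G) : ⁅a, b⁆ ∈ commutator G := by
  rw [commutator_def]
  exact Subgroup.commutator_mem_commutator (Subgroup.mem_top a) (Subgroup.mem_top b)

theorem commutator_absorb {s t a b : G} (hsa : Commute s a) (hsb : Commute s b) (hta : Commute t a)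
    (htb : Commute t b) (hst : Commute s t) : ⁅s * a, t * b⁆ = ⁅a, b⁆ := by
  have hb : Commute s (a * b * a⁻¹) := (hsa.mul_right hsb).mul_right hsa.inv_right
  have e1 : ⁅a, t * b⁆ = ⁅a, b⁆ := by
    rw [comm_mul_right, commutatorElement_eq_one_iff_mul_comm.mpr hta.symm.eq, one_mul]
    refine Commute.mul_inv_cancel ?_
    simp only [commutatorElement_def]
    exact ((hta.mul_right htb).mul_right hta.inv_right).mul_right htb.inv_right
  rw [comm_mul_left, e1, commutatorElement_eq_one_iff_mul_comm.mpr (hst.mul_right hsb).eq, mul_one]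
  refine Commute.mul_inv_cancel ?_
  simp only [commutatorElement_def]
  exact hb.mul_right hsb.inv_right

/-- Powers in the left entry, for a central commutator. -/
theorem comm_pow_left (x y : G) (hc : ⁅x, y⁆ ∈ Subgroup.center G) (n : ℕ) :
    ⁅x ^ n, y⁆ = ⁅x, y⁆ ^ n := by
  induction n with
  | zero => simp [commutatorElement_def]
  | succ n ih =>
    have h := Subgroup.mem_center_iff.mp hc (x ^ n)
    rw [pow_succ, comm_mul_left, h, mul_inv_cancel_right, ih, pow_succ']

/-- Powers in the right entry, for a central commutator. -/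
theorem comm_pow_right (x y : G) (hc : ⁅x, y⁆ ∈ Subgroup.center G) (n : ℕ) :
    ⁅x, y ^ n⁆ = ⁅x, y⁆ ^ n := by
  have h : ∀ a b : G, ⁅a, b⁆⁻¹ = ⁅b, a⁆ := fun a b => commutatorElement_inv a b
  rw [← h, comm_pow_left y x (h x y ▸ inv_mem hc), ← inv_pow, h]

/-- The centre and the nonlinear characters when the derived subgroup has prime order. -/
theorem prime_derived {p : ℕ} (hp : p.Prime) (hcard : Nat.card (commutator G) = p)
    (hcen : commutator G ≤ Subgroup.center G) (χ : IrrCharacter G)
    (h1 : charDegree (χ : G → ℂ) ≠ 1) :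
    (∀ c ∈ commutator G, c ≠ 1 → (χ : G → ℂ) c ≠ (χ : G → ℂ) 1) ∧
      (∀ g, g ∉ Subgroup.center G → (χ : G → ℂ) g = 0) ∧
      charDegree (χ : G → ℂ) * charDegree (χ : G → ℂ) * Nat.card (Subgroup.center G) = Nat.card G := by
  classical
  have : Fintype G := Fintype.ofFinite G
  obtain ⟨K, hKn, hK, -⟩ := Char.exists_kernel (Char.isCharacter_of_isIrr χ.2)
  set d := charDegree (χ : G → ℂ) with hd
  have hone : (χ : G → ℂ) 1 = d := (Blocks.irr_degree_eq χ).1
  have hGK : ¬ commutator G ≤ K := by
    intro hle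
    refine h1 ?_
    have : IsMulCommutative (G ⧸ commutator G) :=
      (Subgroup.Normal.quotient_commutative_iff_commutator_le).mpr le_rfl
    obtain ⟨η, hη⟩ := Blocks.exists_inflate_eq_of_ker (commutator G) χ fun u hu => (hK u).mp (hle hu)
    have h2 := Char.degree_one_of_comm (fun a b => mul_comm' a b) η
    have h3 : (χ : G → ℂ) 1 = 1 := by
      rw [congrFun (congrArg Subtype.val hη) 1]
      show (η : G ⧸ commutator G → ℂ) (QuotientGroup.mk' _ 1) = 1
      rw [map_one, h2]
    rw [hone] at h3
    exact_mod_cast h3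
  have hne : ∀ c ∈ commutator G, c ≠ 1 → (χ : G → ℂ) c ≠ (χ : G → ℂ) 1 := by
    intro c hc hc1 h
    refine hGK ?_
    have hle : Subgroup.zpowers c ≤ commutator G := Subgroup.zpowers_le.mpr hc
    have he : Subgroup.zpowers c = commutator G := by
      refine Subgroup.eq_of_le_of_card_ge hle ?_
      rcases hp.eq_one_or_self_of_dvd _ (hcard ▸ Subgroup.card_dvd_of_le hle) with h2 | h2
      · exact absurd (Subgroup.zpowers_eq_bot.mp (Subgroup.card_eq_one.mp h2)) hc1
      · rw [hcard, h2]
    rw [← he, Subgroup.zpowers_le]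
    exact (hK c).mpr h
  have hd0 : (d : ℂ) ≠ 0 := hone ▸ Char.irr_degree_ne_zero χ.2
  have hvan : ∀ g, g ∉ Subgroup.center G → (χ : G → ℂ) g = 0 := by
    intro g hg
    obtain ⟨y, hy⟩ : ∃ y : G, ⁅y, g⁆ ≠ 1 := by
      by_contra hno
      push Not at hno
      exact hg (Subgroup.mem_center_iff.mpr fun y => commutatorElement_eq_one_iff_mul_comm.mp (hno y))
    have hcz : ⁅y, g⁆ ∈ Subgroup.center G := hcen (mem_derived y g)
    have h2 : y * g * y⁻¹ = g * ⁅y, g⁆ := by
      rw [(Subgroup.mem_center_iff.mp hcz g)]; simp only [commutatorElement_def]; group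
    refine Char.Extraspecial.eq_zero_of_fused (Char.isClassFunction_irr χ)
      (isConj_iff.mpr ⟨y, h2⟩) (ω := (χ : G → ℂ) ⁅y, g⁆ / (χ : G → ℂ) 1) ?_ ?_
    · have := Char.central_mul χ.2 hcz g
      rw [div_mul_eq_mul_div, eq_div_iff (hone ▸ hd0), this, mul_comm]
    · rw [Ne, div_eq_one_iff_eq (hone ▸ hd0)]
      exact hne _ (mem_derived y g) hy
  refine ⟨hne, hvan, ?_⟩
  have h2 := Char.classInner_irr_self χ.2
  simp only [classInner] at h2
  rw [inv_mul_eq_div, div_eq_one_iff_eq (Nat.cast_ne_zero.mpr Nat.card_pos.ne')] at h2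
  have hterm : ∀ x : G, (χ : G → ℂ) x * conj ((χ : G → ℂ) x) =
      if x ∈ Subgroup.center G then (d : ℂ) * d else 0 := by
    intro x
    split_ifs with hx
    · have h := Char.central_mul χ.2 hx x⁻¹
      rw [inv_mul_cancel, hone, show (χ : G → ℂ) x⁻¹ = conj ((χ : G → ℂ) x) from Char.irr_inv χ x] at h
      rw [h]; ring
    · rw [hvan x hx, zero_mul]
  rw [Finset.sum_congr rfl fun x _ => hterm x, ← Finset.sum_filter, Finset.sum_const, nsmul_eq_mul,
    ← Fintype.card_subtype, ← Nat.card_eq_fintype_card] at h2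
  have h3 : (Nat.card {x : G // x ∈ Subgroup.center G} * (d * d) : ℕ) = Nat.card G := by
    exact_mod_cast h2
  rw [mul_comm]; exact h3

/-- A faithful irreducible character makes the centre cyclic. -/
theorem center_cyclic (χ : IrrCharacter G)
    (hf : ∀ g ∈ Subgroup.center G, (χ : G → ℂ) g = (χ : G → ℂ) 1 → g = 1) :
    IsCyclic (Subgroup.center G) := by
  have h0 := Char.irr_degree_ne_zero χ.2
  let f : Subgroup.center G →* ℂ :=
    { toFun := fun z => (χ : G → ℂ) (z : G) / (χ : G → ℂ) 1
      map_one' := by simp [h0]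
      map_mul' := fun a b => by
        have h := Char.central_mul χ.2 a.2 (b : G)
        rw [Subgroup.mem_center_iff.mp a.2 (b : G)] at h
        push_cast
        field_simp
        linear_combination h }
  refine isCyclic_of_injective_ringHom f fun a b hab => ?_
  have h1 : f (a⁻¹ * b) = 1 := by
    rw [map_mul, ← hab, ← map_mul, inv_mul_cancel, map_one]
  have h2 : (χ : G → ℂ) ((a⁻¹ * b : Subgroup.center G) : G) = (χ : G → ℂ) 1 :=
    (div_eq_one_iff_eq h0).mp h1
  exact inv_mul_eq_one.mp (Subtype.ext (hf _ (a⁻¹ * b).2 h2))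

/-- With derived subgroup of prime order the centre is cyclic and the degree is determined. -/
theorem step_one (h : Hyp G) {p : ℕ} (hp : p.Prime) (hcard : Nat.card (commutator G) = p)
    (hcen : commutator G ≤ Subgroup.center G) :
    IsCyclic (Subgroup.center G) ∧ ∃ χ : IrrCharacter G, charDegree (χ : G → ℂ) ≠ 1 := by
  have : Fintype G := Fintype.ofFinite G
  have hne : commutator G ≠ ⊥ := fun e => hp.ne_one (by rw [← hcard, e, Subgroup.card_bot])
  obtain ⟨c, hc, hc1⟩ := Subgroup.bot_or_exists_ne_one _ |>.resolve_left hne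
  obtain ⟨χ, hχ⟩ : ∃ χ : IrrCharacter G, (χ : G → ℂ) c ≠ (χ : G → ℂ) 1 := by
    by_contra hno
    push Not at hno
    exact hc1 (Char.eq_one_of_forall_irr hno)
  have hχ1 := degree_ne_one χ hc hχ
  refine ⟨center_cyclic χ fun g _ hg => Char.eq_one_of_forall_irr fun ψ => ?_, χ, hχ1⟩
  have hall : ∀ η : IrrCharacter G, charDegree (η : G → ℂ) ≠ 1 →
      charDegree (η : G → ℂ) = charDegree (χ : G → ℂ) := by
    intro η hη
    have h2 := ((prime_derived hp hcard hcen η hη).2.2).trans
      (prime_derived hp hcard hcen χ hχ1).2.2.symm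
    exact Nat.mul_self_inj.mp (Nat.eq_of_mul_eq_mul_right Nat.card_pos h2)
  by_cases hψ : charDegree (ψ : G → ℂ) = 1
  · -- twist by the linear character
    have hψc := Char.isCharacter_of_isIrr ψ.2
    have hone : (ψ : G → ℂ) 1 = 1 := by rw [(Blocks.irr_degree_eq ψ).1, hψ, Nat.cast_one]
    let tw : IrrCharacter G := ⟨fun a => (ψ : G → ℂ) a * (χ : G → ℂ) a, by
      simpa [Char.linearHom_apply] using Char.isIrrCharacter_linear_mul χ.2 (Char.linearHom hψc hone)⟩
    have hd : charDegree (tw : G → ℂ) = charDegree (χ : G → ℂ) := by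
      show ⌊((ψ : G → ℂ) 1 * (χ : G → ℂ) 1).re⌋₊ = _
      rw [hone, one_mul]; rfl
    have h2 : (ψ : G → ℂ) g * (χ : G → ℂ) g = (ψ : G → ℂ) 1 * (χ : G → ℂ) 1 :=
      ker_le h hχ1 hd.symm hg
    rw [hg] at h2
    exact mul_right_cancel₀ (Char.irr_degree_ne_zero χ.2) h2
  · exact ker_le h hχ1 (hall ψ hψ).symm hg

/-- The order of the image of a subgroup above a normal one. -/
theorem card_map_mul (N : Subgroup G) [N.Normal] (H : Subgroup G) (hle : N ≤ H) :
    Nat.card N * Nat.card (H.map (QuotientGroup.mk' N)) = Nat.card H := by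
  have h1 := Subgroup.relIndex_ker (K := H) (QuotientGroup.mk' N)
  rw [QuotientGroup.ker_mk'] at h1
  rw [← Subgroup.relIndex_bot_left (H := H), ← Subgroup.relIndex_mul_relIndex ⊥ N H bot_le hle,
    Subgroup.relIndex_bot_left, h1]

theorem commutator_quotient (N : Subgroup G) [N.Normal] :
    (commutator G).map (QuotientGroup.mk' N) = commutator (G ⧸ N) := by
  rw [commutator_def, commutator_def, Subgroup.map_commutator,
    Subgroup.map_top_of_surjective _ (QuotientGroup.mk'_surjective N)]

/-- The quotient by a central subgroup of order `p` inside a derived subgroup of order `p ^ 2`. -/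
theorem quotient_data (h : Hyp G) {p : ℕ} (hp : p.Prime) (hP : IsPGroup p G)
    (h2 : Nat.card (commutator G) = p * p) (N : Subgroup G) [N.Normal]
    (hle : N ≤ commutator G) (hN : Nat.card N = p) :
    (∀ a ∈ commutator G, a ^ p ∈ N ∧ ∀ g : G, ⁅a, g⁆ ∈ N) ∧
      IsCyclic (Subgroup.center (G ⧸ N)) ∧
      ∃ χ : IrrCharacter G, charDegree (χ : G → ℂ) ≠ 1 ∧
        (∀ u ∈ N, (χ : G → ℂ) u = (χ : G → ℂ) 1) ∧
        charDegree (χ : G → ℂ) * charDegree (χ : G → ℂ) * Nat.card (Subgroup.center (G ⧸ N)) =
          Nat.card (G ⧸ N) := by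
  have : Fact p.Prime := ⟨hp⟩
  have hQ : IsPGroup p (G ⧸ N) := hP.to_quotient N
  have hcard : Nat.card (commutator (G ⧸ N)) = p := by
    have := card_map_mul N _ hle
    rw [commutator_quotient, hN, h2] at this
    exact Nat.eq_of_mul_eq_mul_left hp.pos this
  have hne : commutator (G ⧸ N) ≠ ⊥ := fun e => hp.ne_one (by rw [← hcard, e, Subgroup.card_bot])
  obtain ⟨z, hz, hzc, hzo⟩ := Char.exists_central_of_normal hQ (commutator (G ⧸ N)) hne
  have hcen : commutator (G ⧸ N) ≤ Subgroup.center (G ⧸ N) := by
    have he : Subgroup.zpowers z = commutator (G ⧸ N) :=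
      Subgroup.eq_of_le_of_card_ge (Subgroup.zpowers_le.mpr hz) (by rw [Nat.card_zpowers, hzo, hcard])
    rw [← he]; exact Subgroup.zpowers_le.mpr hzc
  obtain ⟨hcyc, η, hη⟩ := step_one (hyp_quotient h N) hp hcard hcen
  refine ⟨fun a ha => ?_, hcyc,
    Blocks.inflate (QuotientGroup.mk' N) (QuotientGroup.mk'_surjective N) η, ?_⟩
  · have ha' : QuotientGroup.mk' N a ∈ commutator (G ⧸ N) := by
      rw [← commutator_quotient]; exact Subgroup.mem_map_of_mem _ ha
    refine ⟨(QuotientGroup.eq_one_iff _).mp ?_, fun g => (QuotientGroup.eq_one_iff _).mp ?_⟩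
    · show QuotientGroup.mk' N (a ^ p) = 1
      rw [map_pow]
      exact orderOf_dvd_iff_pow_eq_one.mp (hcard ▸ Subgroup.orderOf_dvd_natCard _ ha')
    · show QuotientGroup.mk' N ⁅a, g⁆ = 1
      rw [map_commutatorElement, commutatorElement_eq_one_iff_mul_comm]
      exact (Subgroup.mem_center_iff.mp (hcen ha') _).symm
  · have e : charDegree (Blocks.inflate (QuotientGroup.mk' N) (QuotientGroup.mk'_surjective N) η : G → ℂ) =
        charDegree (η : G ⧸ N → ℂ) := by
      show ⌊((η : G ⧸ N → ℂ) (QuotientGroup.mk' N 1)).re⌋₊ = _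
      rw [map_one]; rfl
    refine ⟨by rwa [e], fun u hu => ?_, by rw [e]; exact (prime_derived hp hcard hcen η hη).2.2⟩
    show (η : G ⧸ N → ℂ) (QuotientGroup.mk' N u) = (η : G ⧸ N → ℂ) (QuotientGroup.mk' N 1)
    rw [show QuotientGroup.mk' N u = 1 from (QuotientGroup.eq_one_iff u).mpr hu, map_one]

theorem mem_zpowers_of_orderOf_dvd {A : Type*} [Group A] [Finite A] (_hc : IsCyclic A) {a b : A}
    (hab : orderOf a ∣ orderOf b) : a ∈ Subgroup.zpowers b := by
  classical
  have : Fintype A := Fintype.ofFinite A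
  have hn := orderOf_pos b
  have hsub : (Finset.univ.filter fun x => x ∈ Subgroup.zpowers b) ⊆
      Finset.univ.filter fun x => x ^ orderOf b = 1 := fun x hx => by
    simp only [Finset.mem_filter, Finset.mem_univ, true_and] at hx ⊢
    obtain ⟨i, rfl⟩ := Subgroup.mem_zpowers_iff.mp hx
    rw [← zpow_natCast (b ^ i), ← zpow_mul, mul_comm, zpow_mul, zpow_natCast, pow_orderOf_eq_one,
      one_zpow]
  have he := Finset.eq_of_subset_of_card_le hsub (by
    refine (IsCyclic.card_pow_eq_one_le hn).trans ?_
    rw [← Fintype.card_subtype, ← Nat.card_eq_fintype_card, Nat.card_zpowers])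
  have ha : a ∈ Finset.univ.filter fun x => x ^ orderOf b = 1 := by
    simp only [Finset.mem_filter, Finset.mem_univ, true_and]
    exact orderOf_dvd_iff_pow_eq_one.mp hab
  rw [← he] at ha
  exact (Finset.mem_filter.mp ha).2

theorem dvd_of_le_pgroup {A : Type*} [Group A] {p : ℕ} (hp : p.Prime) (hA : IsPGroup p A) {a b : A}
    (hab : orderOf a ≤ orderOf b) : orderOf a ∣ orderOf b := by
  have : Fact p.Prime := ⟨hp⟩
  obtain ⟨i, hi⟩ := IsPGroup.iff_orderOf.mp hA a
  obtain ⟨j, hj⟩ := IsPGroup.iff_orderOf.mp hA b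
  rw [hi, hj] at hab ⊢
  exact Nat.pow_dvd_pow p ((Nat.pow_le_pow_iff_right hp.one_lt).mp hab)

/-- The derived subgroup cannot have order `p ^ 2`. -/
theorem step_two (h : Hyp G) {p : ℕ} (hp : p.Prime) (hP : IsPGroup p G)
    (h2 : Nat.card (commutator G) = p * p) : False := by
  classical
  have : Fact p.Prime := ⟨hp⟩
  by_cases hcen : commutator G ≤ Subgroup.center G
  · have hnorm : ∀ a ∈ commutator G, (Subgroup.zpowers a).Normal := fun a ha => ⟨fun b hb g => by
      rw [Subgroup.mem_center_iff.mp ((Subgroup.zpowers_le.mpr (hcen ha)) hb) g, mul_inv_cancel_right]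
      exact hb⟩
    by_cases hexp : ∀ a ∈ commutator G, a ^ p = 1
    · -- two subgroups of order `p` give equal degrees
      have hordp : ∀ a ∈ commutator G, a ≠ 1 → Nat.card (Subgroup.zpowers a) = p := fun a ha ha1 => by
        rw [Nat.card_zpowers]; exact orderOf_eq_prime (hexp a ha) ha1
      obtain ⟨u, hu, hu1⟩ := (Subgroup.bot_or_exists_ne_one (commutator G)).resolve_left fun e => by
        rw [e, Subgroup.card_bot] at h2
        nlinarith [hp.two_le]
      obtain ⟨v, hv, hvu⟩ : ∃ v ∈ commutator G, v ∉ Subgroup.zpowers u := by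
        by_contra hno
        push Not at hno
        have := Subgroup.card_le_of_le (hno : commutator G ≤ Subgroup.zpowers u)
        rw [h2, hordp u hu hu1] at this
        nlinarith [hp.two_le]
      have hv1 : v ≠ 1 := fun e => hvu (e ▸ one_mem _)
      -- the degree determined by each of the two
      have key : ∀ a ∈ commutator G, a ≠ 1 → ∃ χ : IrrCharacter G, ∃ w : ℕ,
          charDegree (χ : G → ℂ) ≠ 1 ∧ (χ : G → ℂ) a = (χ : G → ℂ) 1 ∧
          (w = 1 ∨ w = p) ∧
          charDegree (χ : G → ℂ) * charDegree (χ : G → ℂ) * w *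
            Nat.card (powMonoidHom p : Abelianization G →* Abelianization G).range =
            (commutator G).index := by
        intro a ha ha1
        haveI := hnorm a ha
        set N := Subgroup.zpowers a
        have hle : N ≤ commutator G := Subgroup.zpowers_le.mpr ha
        obtain ⟨-, hcyc, χ, hχ1, hχN, hχd⟩ := quotient_data h hp hP h2 N hle (hordp a ha ha1)
        set R := (Subgroup.center (G ⧸ N)).comap (QuotientGroup.mk' N) with hR
        set W := (powMonoidHom p : Abelianization G →* Abelianization G).range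
        set C := R.map (Abelianization.of : G →* Abelianization G) with hCdef
        have hRG : commutator G ≤ R := fun b hb => by
          rw [hR, Subgroup.mem_comap, Subgroup.mem_center_iff]
          intro q
          obtain ⟨g, rfl⟩ := QuotientGroup.mk'_surjective N q
          rw [← map_mul, ← map_mul, Subgroup.mem_center_iff.mp (hcen hb) g]
        have hWC : W ≤ C := by
          rintro _ ⟨q, rfl⟩
          obtain ⟨g, rfl⟩ := QuotientGroup.mk'_surjective (commutator G) q
          refine ⟨g ^ p, ?_, map_pow Abelianization.of g p⟩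
          show g ^ p ∈ R
          rw [hR, Subgroup.mem_comap, Subgroup.mem_center_iff]
          intro q
          obtain ⟨y, rfl⟩ := QuotientGroup.mk'_surjective N q
          rw [← map_mul, ← map_mul]
          refine congrArg _ (commutatorElement_eq_one_iff_mul_comm.mp ?_).symm
          rw [comm_pow_left g y (hcen (mem_derived g y)), hexp _ (mem_derived g y)]
        have hCcyc : IsCyclic C := by
          obtain ⟨z, hz⟩ := hcyc.exists_generator
          obtain ⟨x, hx⟩ := QuotientGroup.mk'_surjective N (z : G ⧸ N)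
          have hxR : x ∈ R := by rw [hR, Subgroup.mem_comap, hx]; exact z.2
          have hCle : C ≤ Subgroup.zpowers (Abelianization.of x) := by
            rintro _ ⟨r, hr, rfl⟩
            obtain ⟨i, hi⟩ := Subgroup.mem_zpowers_iff.mp (hz ⟨QuotientGroup.mk' N r, hr⟩)
            have hi' : QuotientGroup.mk' N (x ^ i) = QuotientGroup.mk' N r := by
              rw [map_zpow, hx]
              have h9 := congrArg Subtype.val hi; push_cast at h9; exact h9
            rw [QuotientGroup.mk'_eq_mk'] at hi'
            obtain ⟨n, hn, hxn⟩ := hi'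
            refine Subgroup.mem_zpowers_iff.mpr ⟨i, ?_⟩
            rw [← map_zpow, ← hxn, map_mul]
            rw [show Abelianization.of n = 1 from (QuotientGroup.eq_one_iff n).mpr (hle hn), mul_one]
          exact isCyclic_of_injective (Subgroup.inclusion hCle) (Subgroup.inclusion_injective hCle)
        obtain ⟨c, hc⟩ := hCcyc.exists_ofOrder_eq_natCard
        have hCW : Nat.card C ∣ p * Nat.card W := by
          have h3 : ((c : Abelianization G)) ^ p ∈ W := ⟨_, rfl⟩
          rw [← hc, ← Subgroup.orderOf_coe]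
          refine orderOf_dvd_of_pow_eq_one ?_
          rw [pow_mul]
          exact orderOf_dvd_iff_pow_eq_one.mp (Subgroup.orderOf_dvd_natCard W h3)
        obtain ⟨w, hw⟩ := Subgroup.card_dvd_of_le hWC
        have hwp : w = 1 ∨ w = p := by
          refine hp.eq_one_or_self_of_dvd w ?_
          rw [hw, mul_comm p] at hCW
          exact Nat.dvd_of_mul_dvd_mul_left Nat.card_pos hCW
        refine ⟨χ, w, hχ1, hχN a (Subgroup.mem_zpowers a), hwp, ?_⟩
        have hNR : N ≤ R := hle.trans hRG
        have hRmap : R.map (QuotientGroup.mk' N) = Subgroup.center (G ⧸ N) :=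
          Subgroup.map_comap_eq_self_of_surjective (QuotientGroup.mk'_surjective N) _
        have h4 := card_map_mul N R hNR
        rw [hRmap] at h4
        have h5 : Nat.card (commutator G) * Nat.card C = Nat.card R :=
          card_map_mul (commutator G) R hRG
        have h6 := N.card_mul_index
        rw [Subgroup.index_eq_card] at h6
        have h7 := (commutator G).card_mul_index
        refine Nat.eq_of_mul_eq_mul_left (Nat.card_pos (α := commutator G)) ?_
        rw [h7, ← h6, ← hχd, ← mul_left_comm _ (Nat.card N), h4, ← h5, hw]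
        ring
      obtain ⟨χu, wu, hu1', huker, hwu, hdu⟩ := key u hu hu1
      obtain ⟨χv, wv, hv1', hvker, hwv, hdv⟩ := key v hv hv1
      have hdeg : charDegree (χu : G → ℂ) = charDegree (χv : G → ℂ) := by
        have h3 := Nat.eq_of_mul_eq_mul_right Nat.card_pos (hdu.trans hdv.symm)
        have hnsq : ∀ a b : ℕ, 0 < a → a * a ≠ b * b * p := by
          intro a b ha hab
          have hb : 0 < b := by
            rcases Nat.eq_zero_or_pos b with rfl | hb
            · simp at hab; omega
            · exact hb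
          have := congrArg (fun n => n.factorization p) hab
          simp only [Nat.factorization_mul ha.ne' ha.ne', Nat.factorization_mul
            (Nat.mul_pos hb hb).ne' hp.ne_zero, Nat.factorization_mul hb.ne' hb.ne',
            Finsupp.add_apply, hp.factorization_self] at this
          omega
        have hpu : 0 < charDegree (χu : G → ℂ) := (Blocks.irr_degree_eq χu).2
        have hpv : 0 < charDegree (χv : G → ℂ) := (Blocks.irr_degree_eq χv).2
        rcases hwu with rfl | rfl <;> rcases hwv with rfl | rfl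
        · exact Nat.mul_self_inj.mp (by simpa using h3)
        · exact absurd (by simpa using h3) (hnsq _ _ hpu)
        · exact absurd (by simpa using h3.symm) (hnsq _ _ hpv)
        · exact Nat.mul_self_inj.mp (Nat.eq_of_mul_eq_mul_right hp.pos h3)
      have hu' : (χv : G → ℂ) u = (χv : G → ℂ) 1 := ker_le h hu1' hdeg huker
      obtain ⟨K, -, hK, -⟩ := Char.exists_kernel (Char.isCharacter_of_isIrr χv.2)
      have hle : commutator G ≤ K := by
        have h3 : Subgroup.zpowers u ⊔ Subgroup.zpowers v ≤ commutator G :=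
          sup_le (Subgroup.zpowers_le.mpr hu) (Subgroup.zpowers_le.mpr hv)
        have h4 : Subgroup.zpowers u < Subgroup.zpowers u ⊔ Subgroup.zpowers v :=
          lt_of_le_of_ne le_sup_left fun e => hvu (e ▸ (le_sup_right :
            Subgroup.zpowers v ≤ Subgroup.zpowers u ⊔ Subgroup.zpowers v) (Subgroup.mem_zpowers v))
        have h5 : Subgroup.zpowers u ⊔ Subgroup.zpowers v = commutator G := by
          refine Subgroup.eq_of_le_of_card_ge h3 ?_
          have h6 := Subgroup.card_dvd_of_le h3
          have h7 := Subgroup.card_dvd_of_le h4.le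
          rw [h2, ← pow_two] at h6
          obtain ⟨j, hj, hj'⟩ := (Nat.dvd_prime_pow hp).mp h6
          rw [hordp u hu hu1, hj'] at h7
          rw [h2, hj', ← pow_two]
          refine Nat.pow_le_pow_right hp.pos ?_
          by_contra hlt
          have hj1 : j ≤ 1 := by omega
          refine h4.ne (Subgroup.eq_of_le_of_card_ge h4.le ?_)
          rw [hordp u hu hu1, hj']
          calc p ^ j ≤ p ^ 1 := Nat.pow_le_pow_right hp.pos hj1
            _ = p := pow_one p
        rw [← h5]
        exact sup_le (Subgroup.zpowers_le.mpr ((hK u).mpr hu'))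
          (Subgroup.zpowers_le.mpr ((hK v).mpr hvker))
      haveI := hnorm u hu
      have hQ : IsMulCommutative (G ⧸ commutator G) :=
        (Subgroup.Normal.quotient_commutative_iff_commutator_le).mpr le_rfl
      obtain ⟨η, hη⟩ := Blocks.exists_inflate_eq_of_ker (commutator G) χv
        fun w hw => (hK w).mp (hle hw)
      refine hv1' ?_
      show ⌊((χv : G → ℂ) 1).re⌋₊ = 1
      rw [congrFun (congrArg Subtype.val hη) 1]
      show ⌊((η : G ⧸ commutator G → ℂ) (QuotientGroup.mk' _ 1)).re⌋₊ = 1
      rw [map_one, Char.degree_one_of_comm (fun a b => mul_comm' a b) η]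
      simp
    · -- a commutator of order `p ^ 2`
      obtain ⟨x, y, hxy⟩ : ∃ x y : G, ⁅x, y⁆ ^ p ≠ 1 := by
        by_contra hno
        push Not at hno
        refine hexp fun a ha => ?_
        let S : Subgroup G :=
          { carrier := {b | b ∈ Subgroup.center G ∧ b ^ p = 1}
            one_mem' := ⟨one_mem _, one_pow p⟩
            mul_mem' := fun {b b'} hb hb' => ⟨mul_mem hb.1 hb'.1, by
              rw [Commute.mul_pow (show Commute b b' from (Subgroup.mem_center_iff.mp hb'.1 b)),
                hb.2, hb'.2, one_mul]⟩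
            inv_mem' := fun {b} hb => ⟨inv_mem hb.1, by rw [inv_pow, hb.2, inv_one]⟩ }
        have : commutator G ≤ S := by
          rw [commutator_def, Subgroup.commutator_le]
          exact fun s _ t _ => ⟨hcen (mem_derived s t), hno s t⟩
        exact (this ha).2
      set c := ⁅x, y⁆ with hc
      have hcG := mem_derived x y
      have hN : Nat.card (Subgroup.zpowers (c ^ p)) = p := by
        rw [Nat.card_zpowers]
        refine orderOf_eq_prime ?_ hxy
        rw [← pow_mul, ← h2]
        exact orderOf_dvd_iff_pow_eq_one.mp (Subgroup.orderOf_dvd_natCard _ hcG)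
      haveI := hnorm (c ^ p) (pow_mem hcG p)
      obtain ⟨hpow, hcyc, -⟩ := quotient_data h hp hP h2 (Subgroup.zpowers (c ^ p))
        (Subgroup.zpowers_le.mpr (pow_mem hcG p)) hN
      set N := Subgroup.zpowers (c ^ p)
      have hmem : ∀ a : G, QuotientGroup.mk' N (a ^ p) ∈ Subgroup.center (G ⧸ N) := by
        intro a
        rw [Subgroup.mem_center_iff]
        intro q
        obtain ⟨b, rfl⟩ := QuotientGroup.mk'_surjective N q
        refine (commutatorElement_eq_one_iff_mul_comm.mp ?_).symm
        rw [← map_commutatorElement, comm_pow_left a b (hcen (mem_derived a b))]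
        exact (QuotientGroup.eq_one_iff _).mpr (hpow _ (mem_derived a b)).1
      have hcomp : QuotientGroup.mk' N (x ^ p) ∈ Subgroup.zpowers (QuotientGroup.mk' N (y ^ p)) ∨
          QuotientGroup.mk' N (y ^ p) ∈ Subgroup.zpowers (QuotientGroup.mk' N (x ^ p)) := by
        have hZp : IsPGroup p (Subgroup.center (G ⧸ N)) := (hP.to_quotient N).to_subgroup _
        rcases le_total (orderOf (QuotientGroup.mk' N (x ^ p))) (orderOf (QuotientGroup.mk' N (y ^ p)))
          with hle | hle
        · left
          have := mem_zpowers_of_orderOf_dvd hcyc (a := ⟨_, hmem x⟩) (b := ⟨_, hmem y⟩) (by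
            rw [← Subgroup.orderOf_coe, ← Subgroup.orderOf_coe]
            exact dvd_of_le_pgroup hp (hP.to_quotient N) hle)
          obtain ⟨i, hi⟩ := Subgroup.mem_zpowers_iff.mp this
          exact Subgroup.mem_zpowers_iff.mpr ⟨i, by have h9 := congrArg Subtype.val hi; push_cast at h9; exact h9⟩
        · right
          have := mem_zpowers_of_orderOf_dvd hcyc (a := ⟨_, hmem y⟩) (b := ⟨_, hmem x⟩) (by
            rw [← Subgroup.orderOf_coe, ← Subgroup.orderOf_coe]
            exact dvd_of_le_pgroup hp (hP.to_quotient N) hle)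
          obtain ⟨i, hi⟩ := Subgroup.mem_zpowers_iff.mp this
          exact Subgroup.mem_zpowers_iff.mpr ⟨i, by have h9 := congrArg Subtype.val hi; push_cast at h9; exact h9⟩
      have hNc : N ≤ Subgroup.center G := Subgroup.zpowers_le.mpr (hcen (pow_mem hcG p))
      have hcommN : ∀ (a b : G) (i : ℤ) (n : G), n ∈ N → a = (b ^ p) ^ i * n → ⁅a, b⁆ = 1 := by
        intro a b i n hn ha
        rw [ha, commutatorElement_eq_one_iff_mul_comm]
        exact ((((Commute.refl b).pow_left p).zpow_left i).mul_left
          ((Subgroup.mem_center_iff.mp (hNc hn) b).symm : Commute n b)).eq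
      rcases hcomp with ⟨i, hi⟩ | ⟨i, hi⟩
      · have hi' : QuotientGroup.mk' N ((y ^ p) ^ i) = QuotientGroup.mk' N (x ^ p) := by
          rw [map_zpow]; exact hi
        rw [QuotientGroup.mk'_eq_mk'] at hi'
        obtain ⟨n, hn, hxn⟩ := hi'
        exact hxy (by rw [hc, ← comm_pow_left x y (hcen hcG), hcommN _ y i n hn hxn.symm])
      · have hi' : QuotientGroup.mk' N ((x ^ p) ^ i) = QuotientGroup.mk' N (y ^ p) := by
          rw [map_zpow]; exact hi
        rw [QuotientGroup.mk'_eq_mk'] at hi'
        obtain ⟨n, hn, hxn⟩ := hi'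
        refine hxy ?_
        rw [hc, ← comm_pow_right x y (hcen hcG), ← inv_eq_one, commutatorElement_inv]
        exact hcommN _ x i n hn hxn.symm
  · -- the derived subgroup is not central
    obtain ⟨z0, hz0, hz0c, hz0o⟩ := Char.exists_central_of_normal hP (commutator G)
      (fun e => hcen (e ▸ bot_le))
    set N := Subgroup.zpowers z0 with hNdef
    have hNc : N ≤ Subgroup.center G := Subgroup.zpowers_le.mpr hz0c
    haveI : N.Normal := ⟨fun b hb g => by
      rw [Subgroup.mem_center_iff.mp (hNc hb) g, mul_inv_cancel_right]; exact hb⟩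
    have hle : N ≤ commutator G := Subgroup.zpowers_le.mpr hz0
    have hN : Nat.card N = p := by rw [hNdef, Nat.card_zpowers, hz0o]
    obtain ⟨hpow, hcyc, χ, hχ1, hχN, hχd⟩ := quotient_data h hp hP h2 N hle hN
    have hinter : ∀ a ∈ commutator G, a ∈ Subgroup.center G → a ∈ N := by
      intro a ha hac
      by_contra haN
      have hlt : N < commutator G ⊓ Subgroup.center G :=
        lt_of_le_of_ne (le_inf hle hNc) fun e => haN (e ▸ Subgroup.mem_inf.mpr ⟨ha, hac⟩)
      refine hcen (le_of_eq_of_le (b := commutator G ⊓ Subgroup.center G) ?_ inf_le_right)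
      refine (Subgroup.eq_of_le_of_card_ge inf_le_left ?_).symm
      have h6 := Subgroup.card_dvd_of_le (inf_le_left : commutator G ⊓ Subgroup.center G ≤ _)
      rw [h2, ← pow_two] at h6
      obtain ⟨j, hj, hj'⟩ := (Nat.dvd_prime_pow hp).mp h6
      rw [h2, hj', ← pow_two]
      refine Nat.pow_le_pow_right hp.pos ?_
      by_contra hjl
      refine hlt.ne (Subgroup.eq_of_le_of_card_ge hlt.le ?_)
      rw [hN, hj']
      calc p ^ j ≤ p ^ 1 := Nat.pow_le_pow_right hp.pos (by omega)
        _ = p := pow_one p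
    have hcNc : ∀ a ∈ commutator G, ∀ g : G, ⁅a, g⁆ ∈ Subgroup.center G := fun a ha g =>
      hNc ((hpow a ha).2 g)
    -- the centralizer of the derived subgroup
    set C := Subgroup.centralizer (commutator G : Set G) with hCdef
    obtain ⟨c, hc, hcN⟩ : ∃ c ∈ commutator G, c ∉ N := by
      by_contra hno
      push Not at hno
      exact hcen ((show commutator G ≤ N from hno).trans hNc)
    have hgenG : Subgroup.zpowers c ⊔ N = commutator G := by
      refine Subgroup.eq_of_le_of_card_ge (sup_le (Subgroup.zpowers_le.mpr hc) hle) ?_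
      have h6 := Subgroup.card_dvd_of_le (sup_le (Subgroup.zpowers_le.mpr hc) hle)
      rw [h2, ← pow_two] at h6
      obtain ⟨j, hj, hj'⟩ := (Nat.dvd_prime_pow hp).mp h6
      rw [h2, hj', ← pow_two]
      refine Nat.pow_le_pow_right hp.pos ?_
      by_contra hjl
      have h7 : N = Subgroup.zpowers c ⊔ N := Subgroup.eq_of_le_of_card_ge le_sup_right (by
        rw [hN, hj']
        calc p ^ j ≤ p ^ 1 := Nat.pow_le_pow_right hp.pos (by omega)
          _ = p := pow_one p)
      exact hcN (h7.symm ▸ (le_sup_left : _ ≤ Subgroup.zpowers c ⊔ N) (Subgroup.mem_zpowers c))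
    let f : G →* N :=
      { toFun := fun g => ⟨⁅c, g⁆, (hpow c hc).2 g⟩
        map_one' := Subtype.ext (by simp [commutatorElement_def])
        map_mul' := fun a b => Subtype.ext (by
          push_cast
          rw [comm_mul_right, Subgroup.mem_center_iff.mp (hcNc c hc b) a, mul_inv_cancel_right]) }
    have hfker : f.ker = C := by
      ext g
      rw [MonoidHom.mem_ker]
      constructor
      · intro hg
        rw [hCdef, Subgroup.mem_centralizer_iff]
        intro w hw
        have hle' : commutator G ≤ Subgroup.centralizer ({g} : Set G) := by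
          rw [← hgenG]
          refine sup_le (Subgroup.zpowers_le.mpr ?_) fun n hn => ?_
          · rw [Subgroup.mem_centralizer_singleton_iff]
            exact (commutatorElement_eq_one_iff_mul_comm.mp (congrArg Subtype.val hg))
          · rw [Subgroup.mem_centralizer_singleton_iff]
            exact (Subgroup.mem_center_iff.mp (hNc hn) g).symm
        exact Subgroup.mem_centralizer_singleton_iff.mp (hle' hw)
      · intro hg
        exact Subtype.ext (commutatorElement_eq_one_iff_mul_comm.mpr
          (Subgroup.mem_centralizer_iff.mp hg c hc))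
    have hCn : C.Normal := hfker ▸ MonoidHom.normal_ker f
    have hCidx : C.index = p := by
      have hne : C ≠ ⊤ := fun e => hcen fun w hw => Subgroup.mem_center_iff.mpr fun g =>
        (Subgroup.mem_centralizer_iff.mp (show g ∈ C from e ▸ Subgroup.mem_top g) w hw).symm
      have h3 : C.index ∣ p := by
        rw [← hfker, Subgroup.index_ker, ← hN]
        exact Subgroup.card_subgroup_dvd_card _
      exact (hp.eq_one_or_self_of_dvd _ h3).resolve_left fun e => hne (Subgroup.index_eq_one.mp e)
    obtain ⟨g, hg⟩ : ∃ g, g ∉ C := by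
      by_contra hno
      push Not at hno
      have : C = ⊤ := eq_top_iff.mpr fun a _ => hno a
      rw [this, Subgroup.index_top] at hCidx
      exact hp.ne_one hCidx.symm
    -- commutators inside the centralizer are central
    have hCC : ∀ a ∈ C, ∀ b ∈ C, ⁅a, b⁆ ∈ N := by
      intro a ha b hb
      refine hinter _ (mem_derived a b) ?_
      have hcomm : ∀ w ∈ C, ∀ s t : G, w * ⁅s, t⁆ = ⁅s, t⁆ * w := fun w hw s t =>
        (Subgroup.mem_centralizer_iff.mp hw _ (mem_derived s t)).symm
      rw [Subgroup.mem_center_iff]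
      intro y
      have e1 : y * a * y⁻¹ = ⁅y, a⁆ * a := by simp only [commutatorElement_def]; group
      have e2 : y * b * y⁻¹ = ⁅y, b⁆ * b := by simp only [commutatorElement_def]; group
      have e3 : y * ⁅a, b⁆ * y⁻¹ = ⁅y * a * y⁻¹, y * b * y⁻¹⁆ := by
        simp only [commutatorElement_def]; group
      have hyC : ∀ s : G, ∀ w ∈ C, Commute ⁅y, s⁆ w := fun s w hw => (hcomm w hw y s).symm
      have hGC : ∀ w ∈ commutator G, ∀ w' ∈ commutator G, Commute w w' := by
        intro w hw w' hw'
        have hw2 : ∀ u ∈ commutator G, ∃ i : ℤ, ∃ n ∈ N, u = c ^ i * n := fun u hu => by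
          rw [← hgenG] at hu
          obtain ⟨q, ⟨i, rfl⟩, n, hn, rfl⟩ := Subgroup.mem_sup_of_normal_right.mp hu
          exact ⟨i, n, hn, rfl⟩
        obtain ⟨i, n, hn, rfl⟩ := hw2 w hw
        obtain ⟨j, m, hm, rfl⟩ := hw2 w' hw'
        have hnc : ∀ u, Commute n u := fun u => (Subgroup.mem_center_iff.mp (hNc hn) u).symm
        have hmc : ∀ u, Commute u m := fun u => Subgroup.mem_center_iff.mp (hNc hm) u
        exact Commute.mul_left ((((Commute.refl c).zpow_zpow i j)).mul_right (hmc _)) (hnc _)
      have e4 : ⁅⁅y, a⁆ * a, ⁅y, b⁆ * b⁆ = ⁅a, b⁆ := by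
        exact commutator_absorb (hyC a a ha) (hyC a b hb) (hyC b a ha) (hyC b b hb)
          (hGC _ (mem_derived y a) _ (mem_derived y b))
      calc y * ⁅a, b⁆ = y * ⁅a, b⁆ * y⁻¹ * y := by group
        _ = ⁅a, b⁆ * y := by rw [e3, e1, e2, e4]
    -- the degree is `p`
    set Q := G ⧸ N
    set A := C.map (QuotientGroup.mk' N) with hAdef
    haveI : A.Normal := Subgroup.Normal.map hCn _ (QuotientGroup.mk'_surjective N)
    have hAab : ∀ s ∈ A, ∀ t ∈ A, s * t = t * s := by
      rintro _ ⟨a, ha, rfl⟩ _ ⟨b, hb, rfl⟩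
      rw [← commutatorElement_eq_one_iff_mul_comm, ← map_commutatorElement]
      exact (QuotientGroup.eq_one_iff _).mpr (hCC a ha b hb)
    set d := charDegree (χ : G → ℂ) with hd
    have hdp : d = p := by
      obtain ⟨η, hη⟩ := Blocks.exists_inflate_eq_of_ker N χ hχN
      have hη1 : (η : Q → ℂ) 1 = d := by
        rw [← (Blocks.irr_degree_eq χ).1, congrFun (congrArg Subtype.val hη) 1]
        show _ = (η : Q → ℂ) (QuotientGroup.mk' N 1)
        rw [map_one]
      have h3 := Char.Extraspecial.ito η.2 A hAab hη1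
      have hNC : N ≤ C := fun n hn => by
        rw [hCdef, Subgroup.mem_centralizer_iff]
        exact fun w _ => Subgroup.mem_center_iff.mp (hNc hn) w
      rw [hAdef, Subgroup.index_map_eq _ (QuotientGroup.mk'_surjective N)
        (by rw [QuotientGroup.ker_mk']; exact hNC), hCidx] at h3
      exact (hp.eq_one_or_self_of_dvd _ h3).resolve_left hχ1
    -- the centre of the quotient is the derived subgroup
    set R := (Subgroup.center Q).comap (QuotientGroup.mk' N) with hR
    obtain ⟨z, hz⟩ := hcyc.exists_generator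
    obtain ⟨x, hx⟩ := QuotientGroup.mk'_surjective N (z : Q)
    have hxcomm : ∀ y : G, ⁅x, y⁆ ∈ N := fun y => by
      refine (QuotientGroup.eq_one_iff _).mp ?_
      show QuotientGroup.mk' N ⁅x, y⁆ = 1
      rw [map_commutatorElement, hx, commutatorElement_eq_one_iff_mul_comm]
      exact (Subgroup.mem_center_iff.mp z.2 _).symm
    have hxp : x ^ p ∈ Subgroup.center G := by
      rw [Subgroup.mem_center_iff]
      intro y
      refine (commutatorElement_eq_one_iff_mul_comm.mp ?_).symm
      rw [comm_pow_left x y (hNc (hxcomm y))]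
      exact orderOf_dvd_iff_pow_eq_one.mp (hN ▸ Subgroup.orderOf_dvd_natCard N (hxcomm y))
    have hform : ∀ r ∈ R, ∃ i : ℤ, ∃ n ∈ N, r = x ^ i * n := fun r hr => by
      obtain ⟨i, hi⟩ := Subgroup.mem_zpowers_iff.mp (hz ⟨QuotientGroup.mk' N r, hr⟩)
      have hi' : QuotientGroup.mk' N (x ^ i) = QuotientGroup.mk' N r := by
        rw [map_zpow, hx]
        have h9 := congrArg Subtype.val hi; push_cast at h9; exact h9
      rw [QuotientGroup.mk'_eq_mk'] at hi'
      obtain ⟨n, hn, hxn⟩ := hi'
      exact ⟨i, n, hn, hxn.symm⟩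
    have hRG : R ≤ commutator G := by
      have hcR : c ∈ R := by
        rw [hR, Subgroup.mem_comap, Subgroup.mem_center_iff]
        intro q
        obtain ⟨y, rfl⟩ := QuotientGroup.mk'_surjective N q
        refine (commutatorElement_eq_one_iff_mul_comm.mp ?_).symm
        rw [← map_commutatorElement]
        exact (QuotientGroup.eq_one_iff _).mpr ((hpow c hc).2 y)
      obtain ⟨i, n, hn, hcn⟩ := hform c hcR
      have hi : ¬ (p : ℤ) ∣ i := by
        rintro ⟨j, rfl⟩
        refine hcN (hinter c hc ?_)
        rw [hcn]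
        refine mul_mem ?_ (hNc hn)
        rw [zpow_mul, zpow_natCast]
        exact zpow_mem hxp j
      have hxG : x ∈ commutator G := by
        have h3 : x ^ i ∈ commutator G := by
          have : x ^ i = c * n⁻¹ := by rw [hcn]; group
          rw [this]; exact mul_mem hc (inv_mem (hle hn))
        obtain ⟨k, hk⟩ := hP x
        have hco : IsCoprime i ((p : ℤ) ^ k) :=
          ((Nat.prime_iff_prime_int.mp hp).coprime_iff_not_dvd.mpr hi).symm.pow_right
        obtain ⟨s, t, hst⟩ := hco
        have : x = (x ^ i) ^ s * (x ^ ((p : ℤ) ^ k)) ^ t := by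
          rw [← zpow_mul, ← zpow_mul, ← zpow_add, show i * s + (p : ℤ) ^ k * t = 1 by linarith, zpow_one]
        rw [this, show (x ^ ((p : ℤ) ^ k)) = 1 by rw [← Nat.cast_pow, zpow_natCast, hk], one_zpow,
          mul_one]
        exact zpow_mem h3 s
      intro r hr
      obtain ⟨j, m, hm, rfl⟩ := hform r hr
      exact mul_mem (zpow_mem hxG j) (hle hm)
    have hGidx : (commutator G).index = p * p := by
      have hGR : R = commutator G := le_antisymm hRG fun w hw => by
        rw [hR, Subgroup.mem_comap, Subgroup.mem_center_iff]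
        intro q
        obtain ⟨y, rfl⟩ := QuotientGroup.mk'_surjective N q
        refine (commutatorElement_eq_one_iff_mul_comm.mp ?_).symm
        rw [← map_commutatorElement]
        exact (QuotientGroup.eq_one_iff _).mpr ((hpow w hw).2 y)
      have h4 := card_map_mul N R (hGR ▸ hle)
      rw [Subgroup.map_comap_eq_self_of_surjective (QuotientGroup.mk'_surjective N)] at h4
      have h6 := N.card_mul_index
      rw [Subgroup.index_eq_card] at h6
      have h7 := (commutator G).card_mul_index
      rw [← h6, ← hχd, hdp, ← hGR, ← h4] at h7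
      refine Nat.eq_of_mul_eq_mul_left (Nat.card_pos (α := N))
        (Nat.eq_of_mul_eq_mul_left (Nat.card_pos (α := Subgroup.center Q)) ?_)
      rw [← hGR]
      linarith
    -- so the centralizer is abelian
    have hGC : commutator G ≤ C := by
      rw [hCdef]
      intro w hw
      rw [Subgroup.mem_centralizer_iff]
      intro w' hw'
      by_contra hne'
      have hcc : ∀ u ∈ commutator G, ∃ i : ℤ, ∃ n ∈ N, u = c ^ i * n := fun u hu => by
        rw [← hgenG] at hu
        obtain ⟨q, ⟨i, rfl⟩, n, hn, rfl⟩ := Subgroup.mem_sup_of_normal_right.mp hu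
        exact ⟨i, n, hn, rfl⟩
      obtain ⟨i, n, hn, rfl⟩ := hcc w hw
      obtain ⟨j, m, hm, rfl⟩ := hcc w' hw'
      have hnc : ∀ u, Commute n u := fun u => (Subgroup.mem_center_iff.mp (hNc hn) u).symm
      have hmc : ∀ u, Commute u m := fun u => Subgroup.mem_center_iff.mp (hNc hm) u
      exact hne' (Commute.mul_left ((((Commute.refl c).zpow_zpow i j)).mul_right (hmc _)) (hnc _)).eq.symm
    have hCab : ∀ a ∈ C, ∀ b ∈ C, a * b = b * a := by
      have hrel : (commutator G).relIndex C = p := by
        have := Subgroup.relIndex_mul_index hGC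
        rw [hCidx, hGidx] at this
        exact Nat.eq_of_mul_eq_mul_right hp.pos this
      have : IsCyclic (C ⧸ (commutator G).subgroupOf C) := isCyclic_of_prime_card (p := p) hrel
      intro a ha b hb
      have h3 := (MonoidHom.isMulCommutative_of_isCyclic_of_ker_le_center
        (QuotientGroup.mk' ((commutator G).subgroupOf C))
        (by
          rw [QuotientGroup.ker_mk']
          intro u hu
          rw [Subgroup.mem_center_iff]
          intro v
          exact Subtype.ext ((Subgroup.mem_centralizer_iff.mp v.2 _ hu).symm))).is_comm.comm ⟨a, ha⟩ ⟨b, hb⟩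
      exact congrArg Subtype.val h3
    obtain ⟨ψ, hψ⟩ : ∃ ψ : IrrCharacter G, (ψ : G → ℂ) z0 ≠ (ψ : G → ℂ) 1 := by
      by_contra hno
      push Not at hno
      have := Char.eq_one_of_forall_irr hno
      rw [this, orderOf_one] at hz0o
      exact hp.ne_one hz0o.symm
    have hψ1 := degree_ne_one ψ hz0 hψ
    have h3 := Char.Extraspecial.ito ψ.2 C hCab (Blocks.irr_degree_eq ψ).1
    rw [hCidx] at h3
    have h4 : charDegree (ψ : G → ℂ) = p := (hp.eq_one_or_self_of_dvd _ h3).resolve_left hψ1
    exact hψ (ker_le h hχ1 (by rw [← hd, hdp, h4]) (hχN z0 (Subgroup.mem_zpowers z0)))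

/-- The derived subgroup has order at most `p`. -/
theorem derived_card_le {p : ℕ} (hp : p.Prime) : ∀ (n : ℕ) (G : Type u) [Group G] [Finite G],
    Nat.card G = n → Hyp G → IsPGroup p G → Nat.card (commutator G) ≤ p := by
  intro n
  induction n using Nat.strong_induction_on with
  | _ n ih => ?_
  intro G _ _ hn h hP
  have : Fact p.Prime := ⟨hp⟩
  by_cases he : commutator G = ⊥
  · rw [he, Subgroup.card_bot]; exact hp.one_lt.le
  obtain ⟨z, hz, hzc, hzo⟩ := Char.exists_central_of_normal hP (commutator G) he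
  set N := Subgroup.zpowers z with hNdef
  have hNc : N ≤ Subgroup.center G := Subgroup.zpowers_le.mpr hzc
  haveI : N.Normal := ⟨fun b hb g => by
    rw [Subgroup.mem_center_iff.mp (hNc hb) g, mul_inv_cancel_right]; exact hb⟩
  have hN : Nat.card N = p := by rw [hNdef, Nat.card_zpowers, hzo]
  have hle : N ≤ commutator G := Subgroup.zpowers_le.mpr hz
  have hlt : Nat.card (G ⧸ N) < n := by
    rw [← hn, ← N.card_mul_index, Subgroup.index_eq_card, hN]
    exact lt_mul_of_one_lt_left Nat.card_pos hp.one_lt
  have h1 := ih _ hlt (G ⧸ N) rfl (hyp_quotient h N) (hP.to_quotient N)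
  have h2 := card_map_mul N _ hle
  rw [commutator_quotient, hN] at h2
  obtain ⟨j, hj⟩ := IsPGroup.iff_card.mp ((hP.to_quotient N).to_subgroup (commutator (G ⧸ N)))
  rw [hj] at h1 h2
  rcases Nat.eq_zero_or_pos j with rfl | hj0
  · rw [← h2, pow_zero, mul_one]
  have hj1 : j = 1 := by
    have := (Nat.pow_le_pow_iff_right hp.one_lt).mp (h1.trans (pow_one p).ge)
    omega
  subst hj1
  rw [pow_one] at h2
  exact (step_two h hp hP h2.symm).elim

/-- Let p be a prime and P a finite non-commutative p-group. Then every two irreducible characters of P of the same degree greater than 1 are Galois conjugate (one is obtained from the other by composing with g ↦ g^k for some k prime to the order of P) if and only if the centre of P is cyclic and the derived subgroup of P has order p. -/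
theorem result {P : Type*} [Group P] [Finite P] (p : ℕ) [Fact p.Prime] (hP : IsPGroup p P) (hna : ¬ IsMulCommutative P) :
    (∀ χ ψ : Cfsg.IrrCharacter P, Cfsg.charDegree (χ : P → ℂ) ≠ 1 → Cfsg.charDegree (χ : P → ℂ) = Cfsg.charDegree (ψ : P → ℂ) → ∃ k : ℕ, Nat.Coprime k (Nat.card P) ∧ ∀ g : P, (ψ : P → ℂ) g = (χ : P → ℂ) (g ^ k)) ↔
      (IsCyclic (Subgroup.center P) ∧ Nat.card (commutator P) = p) := by
  classical
  have : Fintype P := Fintype.ofFinite P
  have hp : p.Prime := Fact.out
  have hne : commutator P ≠ ⊥ := fun e => hna ⟨⟨fun a b => commutatorElement_eq_one_iff_mul_comm.mp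
    (Subgroup.mem_bot.mp (e ▸ mem_derived a b))⟩⟩
  constructor
  · intro h
    have hle := derived_card_le hp _ P rfl h hP
    obtain ⟨j, hj⟩ := IsPGroup.iff_card.mp (hP.to_subgroup (commutator P))
    have hcard : Nat.card (commutator P) = p := by
      rw [hj] at hle ⊢
      rcases Nat.eq_zero_or_pos j with rfl | hj0
      · rw [pow_zero] at hj
        exact absurd (Subgroup.card_eq_one.mp hj) hne
      · have : j = 1 := by
          have := (Nat.pow_le_pow_iff_right hp.one_lt).mp (hle.trans (pow_one p).ge)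
          omega
        rw [this, pow_one]
    obtain ⟨z, hz, hzc, hzo⟩ := Char.exists_central_of_normal hP (commutator P) hne
    have hcen : commutator P ≤ Subgroup.center P := by
      have he : Subgroup.zpowers z = commutator P :=
        Subgroup.eq_of_le_of_card_ge (Subgroup.zpowers_le.mpr hz) (by rw [Nat.card_zpowers, hzo, hcard])
      rw [← he]; exact Subgroup.zpowers_le.mpr hzc
    exact ⟨(step_one h hp hcard hcen).1, hcard⟩
  rintro ⟨hcyc, hcard⟩ χ ψ hχ hd
  obtain ⟨z, hz, hzc, hzo⟩ := Char.exists_central_of_normal hP (commutator P) hne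
  have he : Subgroup.zpowers z = commutator P :=
    Subgroup.eq_of_le_of_card_ge (Subgroup.zpowers_le.mpr hz) (by rw [Nat.card_zpowers, hzo, hcard])
  have hcen : commutator P ≤ Subgroup.center P := by
    rw [← he]; exact Subgroup.zpowers_le.mpr hzc
  obtain ⟨w, hw⟩ := hcyc.exists_generator
  -- central characters are faithful
  have hfaith : ∀ η : IrrCharacter P, charDegree (η : P → ℂ) ≠ 1 →
      IsPrimitiveRoot ((η : P → ℂ) (w : P) / (η : P → ℂ) 1) (Nat.card (Subgroup.center P)) ∧
      ∀ i : ℕ, (η : P → ℂ) ((w : P) ^ i) =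
        (η : P → ℂ) 1 * ((η : P → ℂ) (w : P) / (η : P → ℂ) 1) ^ i := by
    intro η hη
    have h0 := Char.irr_degree_ne_zero η.2
    have hpow : ∀ i : ℕ, (η : P → ℂ) ((w : P) ^ i) =
        (η : P → ℂ) 1 * ((η : P → ℂ) (w : P) / (η : P → ℂ) 1) ^ i := by
      intro i
      induction i with
      | zero => simp
      | succ i ih =>
        have h := Char.central_mul η.2 w.2 ((w : P) ^ i)
        rw [← pow_succ] at h
        refine mul_right_cancel₀ h0 (h.trans ?_)
        rw [ih, pow_succ]
        field_simp
    refine ⟨⟨?_, fun l hl => ?_⟩, hpow⟩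
    · have h := hpow (Nat.card (Subgroup.center P))
      rw [← Subgroup.coe_pow, pow_card_eq_one', Subgroup.coe_one] at h
      exact mul_left_cancel₀ h0 (h.symm.trans (mul_one _).symm)
    · have h1 : (η : P → ℂ) ((w : P) ^ l) = (η : P → ℂ) 1 := by rw [hpow, hl, mul_one]
      have hordw : orderOf w = Nat.card (Subgroup.center P) := orderOf_eq_card_of_forall_mem_zpowers hw
      rw [← hordw]
      refine orderOf_dvd_of_pow_eq_one ?_
      by_contra hwl
      -- the subgroup generated by the power meets the derived subgroup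
      have hb : ((w : P) ^ l) ≠ 1 := fun e => hwl (Subtype.ext (by rw [Subgroup.coe_pow, e]; rfl))
      obtain ⟨K, -, hK, -⟩ := Char.exists_kernel (Char.isCharacter_of_isIrr η.2)
      obtain ⟨i, hi⟩ := IsPGroup.iff_orderOf.mp (hP.to_subgroup (Subgroup.center P)) (w ^ l)
      have hi0 : i ≠ 0 := by
        rintro rfl
        rw [pow_zero, orderOf_eq_one_iff] at hi
        exact hwl hi
      have hzmem : (⟨z, hzc⟩ : Subgroup.center P) ∈ Subgroup.zpowers (w ^ l) := by
        refine mem_zpowers_of_orderOf_dvd hcyc ?_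
        rw [hi, Subgroup.orderOf_mk, hzo]
        exact dvd_pow_self p hi0
      obtain ⟨s, hs⟩ := Subgroup.mem_zpowers_iff.mp hzmem
      have hzK : z ∈ K := by
        rw [show z = ((w : P) ^ l) ^ s from by
          have := congrArg Subtype.val hs; push_cast at this; exact this.symm]
        exact K.zpow_mem ((hK _).mpr h1) s
      refine (prime_derived hp hcard hcen η hη).1 z hz ?_ ((hK z).mp hzK)
      rintro rfl
      exact hp.ne_one (hzo.symm.trans orderOf_one)
  obtain ⟨hζ, hχpow⟩ := hfaith χ hχ
  obtain ⟨hζ', hψpow⟩ := hfaith ψ (hd ▸ hχ)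
  have : NeZero (Nat.card (Subgroup.center P)) := ⟨Nat.card_pos.ne'⟩
  obtain ⟨k, -, hk, hkz⟩ := (hζ.isPrimitiveRoot_iff).mp hζ'
  have hone : (χ : P → ℂ) 1 = (ψ : P → ℂ) 1 := by
    rw [(Blocks.irr_degree_eq χ).1, (Blocks.irr_degree_eq ψ).1, hd]
  have hkP : Nat.Coprime k (Nat.card P) := by
    obtain ⟨a, ha⟩ := IsPGroup.iff_card.mp hP
    obtain ⟨b, hb⟩ := IsPGroup.iff_card.mp (hP.to_subgroup (Subgroup.center P))
    rw [ha]
    rcases Nat.eq_zero_or_pos b with rfl | hb0
    · rw [pow_zero] at hb
      have := Subgroup.card_dvd_of_le hcen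
      rw [hcard, hb] at this
      exact absurd this hp.not_dvd_one
    · rw [hb] at hk
      exact ((Nat.coprime_pow_right_iff hb0 _ _).mp hk).pow_right a
  refine ⟨k, hkP, fun g => ?_⟩
  by_cases hg : g ∈ Subgroup.center P
  · obtain ⟨i, hi⟩ := mem_powers_iff_mem_zpowers.mpr (hw ⟨g, hg⟩)
    have hgi : g = (w : P) ^ i := by
      have := congrArg Subtype.val hi
      simpa using this.symm
    rw [hgi, ← pow_mul, hψpow, hχpow, ← hkz, ← hone, ← pow_mul, mul_comm k]
  · have hgk : g ^ k ∉ Subgroup.center P := fun h =>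
      hg (Char.mem_of_pow_mem_of_coprime hkP _ h)
    rw [(prime_derived hp hcard hcen ψ (hd ▸ hχ)).2.1 g hg,
      (prime_derived hp hcard hcen χ hχ).2.1 _ hgk]

end Cfsg.Agent.S4845
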