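import Cfsg.Statements.S4848
import Cfsg.Agent.S0191
import Cfsg.Agent.S4456
import Cfsg.Agent.S4558
import Cfsg.Agent.Lib.Transfer.Basic
import Cfsg.Agent.Lib.VanishSingular.Zero
import Cfsg.Agent.Lib.IsaacsPassman.Quot
import Cfsg.Agent.Lib.TwoClassSizes.Basic

/-!
Groups all of whose vanishing elements have `p`-power order.  Every non-linear degree is divisible
by `p` (Burnside), so there is a normal `p`-complement `N` with Sylow complement `P`.  If `u : P`
commutes with `k ≠ 1` in `N`, then `k * u` does not vanish: hence `u` is central in `P`, and it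
lies in every inertia group of `Irr N`, hence centralizes `N`.  So `P` modulo `Z(G)` acts without
fixed points on `N`.
-/

set_option autoImplicit false
set_option linter.style.haveILetI false
open Cfsg CfsgLib.Char CfsgLib.VanishSingular
open scoped Pointwise CfsgLib.Char

namespace Cfsg.Agent.S4848

universe u

/-- A character of degree other than one has a zero. -/
theorem exists_zero_of_degree_ne_one {G : Type u} [Group G] [Finite G] (χ : IrrCharacter G)
    (h : charDegree (χ : G → ℂ) ≠ 1) : ∃ g : G, (χ : G → ℂ) g = 0 := by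
  obtain ⟨n, ρ, hρ, e⟩ := χ.2
  have h1 : (χ : G → ℂ) 1 = (n : ℂ) := by
    rw [← e, Representation.char_one, Module.finrank_fin_fun]
  have hd : charDegree (χ : G → ℂ) = n := by simp [charDegree, h1]
  have h0 : n ≠ 0 := fun hn => irr_degree_ne_zero χ.2 (by rw [h1, hn, Nat.cast_zero])
  haveI := hρ
  obtain ⟨g, hg⟩ := Cfsg.Agent.S0191.result ρ (by rw [Module.finrank_fin_fun]; omega)
  exact ⟨g, by rw [← e]; exact hg⟩

/-- A non-commutative group has a vanishing element. -/
theorem exists_van {G : Type u} [Group G] [Finite G] (h : ¬ IsMulCommutative G) : ∃ g : G, Van g := by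
  haveI := Fintype.ofFinite G
  have hc : commutator G ≠ ⊥ := by
    intro hb
    refine h ⟨⟨fun x y => ?_⟩⟩
    have h1 := CfsgLib.IP.commutator_mem x y
    rw [hb, Subgroup.mem_bot] at h1
    calc x * y = x * y * x⁻¹ * y⁻¹ * (y * x) := by group
      _ = y * x := by rw [h1, one_mul]
  obtain ⟨ψ, f, hf, hf2⟩ := CfsgLib.IP.exists_nonlinear hc
  obtain ⟨g, hg⟩ := exists_zero_of_degree_ne_one ψ (by
    simp [charDegree, hf]; omega)
  exact ⟨g, ψ, hg⟩

/-- In a `p`-group every non-central element is vanishing. -/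
theorem van_of_not_mem_center {p : ℕ} [Fact p.Prime] :
    ∀ (n : ℕ) (P : Type u) [Group P] [Finite P], Nat.card P = n → IsPGroup p P →
      ∀ x : P, x ∉ Subgroup.center P → Van x := by
  intro n
  induction n using Nat.strong_induction_on with
  | _ n ih =>
  intro P _ _ hn hP x hx
  haveI : Nontrivial P := ⟨⟨x, 1, fun e => hx (e ▸ one_mem _)⟩⟩
  obtain ⟨z, -, hzc, hzo⟩ := exists_central_of_normal hP (⊤ : Subgroup P) top_ne_bot
  set Z := Subgroup.zpowers z with hZdef
  haveI hZn : Z.Normal := ⟨fun a ha g => by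
    have : a ∈ Subgroup.center P := (Subgroup.zpowers_le.mpr hzc) ha
    rw [Subgroup.mem_center_iff.mp this g, mul_inv_cancel_right]
    exact ha⟩
  have hZcard : Nat.card Z = p := by rw [hZdef, Nat.card_zpowers, hzo]
  have hZne : Z ≠ ⊥ := fun e => by
    rw [e, Subgroup.card_bot] at hZcard
    exact (Fact.out : p.Prime).ne_one hZcard.symm
  by_cases hq : QuotientGroup.mk' Z x ∈ Subgroup.center (P ⧸ Z)
  swap
  · refine van_of_map (QuotientGroup.mk'_surjective Z) (ih _ ?_ (P ⧸ Z) rfl (hP.to_quotient Z) _ hq)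
    rw [← hn, Subgroup.card_eq_card_quotient_mul_card_subgroup Z]
    exact lt_mul_of_one_lt_right Nat.card_pos (Z.one_lt_card_iff_ne_bot.2 hZne)
  obtain ⟨y, hy⟩ : ∃ y, y * x ≠ x * y := by
    simpa [Subgroup.mem_center_iff] using hx
  set c := x⁻¹ * (y * x * y⁻¹) with hc
  have hcZ : c ∈ Z := by
    rw [← QuotientGroup.eq_one_iff (N := Z)]
    have h1 := Subgroup.mem_center_iff.mp hq (QuotientGroup.mk' Z y)
    simp only [QuotientGroup.mk'_apply] at h1
    rw [hc, QuotientGroup.mk_mul, QuotientGroup.mk_mul, QuotientGroup.mk_mul, QuotientGroup.mk_inv,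
      QuotientGroup.mk_inv, h1]
    group
  have hc1 : c ≠ 1 := fun e => hy (by
    have h1 : y * x = x * c * y := by rw [hc]; group
    rwa [e, mul_one] at h1)
  have hgen : Subgroup.zpowers c = Z := by
    haveI : Finite Z := inferInstance
    refine Subgroup.eq_of_le_of_card_ge (Subgroup.zpowers_le.mpr hcZ) ?_
    rw [hZcard, Nat.card_zpowers]
    have hd : orderOf c ∣ p := hzo ▸ orderOf_dvd_of_mem_zpowers hcZ
    rcases (Fact.out : p.Prime).eq_one_or_self_of_dvd _ hd with h1 | h1
    · exact absurd (orderOf_eq_one_iff.mp h1) hc1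
    · rw [h1]
  refine van_of_coset Z hZne x fun w hw => ?_
  rw [← hgen, mem_powers_iff_mem_zpowers.symm] at hw
  obtain ⟨k, rfl⟩ := hw
  refine ⟨y ^ k, ?_⟩
  have hcc : y * c = c * y := Subgroup.mem_center_iff.mp ((Subgroup.zpowers_le.mpr hzc) hcZ) y
  have hyx : y * x * y⁻¹ = x * c := by rw [hc]; group
  show y ^ k * x * (y ^ k)⁻¹ = x * c ^ k
  induction k with
  | zero => simp
  | succ j hj =>
    calc y ^ (j + 1) * x * (y ^ (j + 1))⁻¹ = y * (y ^ j * x * (y ^ j)⁻¹) * y⁻¹ := by
          rw [pow_succ' y j]; group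
      _ = y * (x * c ^ j) * y⁻¹ := by rw [hj]
      _ = y * x * y⁻¹ * (y * c ^ j * y⁻¹) := by group
      _ = x * c * c ^ j := by
          rw [hyx, (show Commute y c from hcc).pow_right j |>.eq, mul_inv_cancel_right]
      _ = x * c ^ (j + 1) := by rw [pow_succ', mul_assoc]

/-- A `p`-element fixing all irreducible characters of a normal `p'`-subgroup centralizes it. -/
theorem centralizes_of_inertia {p : ℕ} [Fact p.Prime] {G : Type u} [Group G] [Finite G]
    (N : Subgroup G) [N.Normal] (hN : (Nat.card N).Coprime p) (x : G)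
    (hx : ∃ j : ℕ, orderOf x = p ^ j)
    (h : ∀ θ : IrrCharacter N, x ∈ inertia N (θ : N → ℂ)) : ∀ n ∈ N, x * n = n * x := by
  classical
  let H : Subgroup N := (Subgroup.centralizer ({x} : Set G)).subgroupOf N
  suffices hH : H = ⊤ by
    intro n hn
    have : (⟨n, hn⟩ : N) ∈ H := hH ▸ Subgroup.mem_top _
    exact (Subgroup.mem_centralizer_singleton_iff.mp this).symm
  refine CfsgLib.TwoClassSizes.eq_top_of_conj_cover fun n => ?_
  have hall : ∀ g ∈ Subgroup.zpowers x, ∀ m : N,
      IsConj (⟨g * m * g⁻¹, (inferInstance : N.Normal).conj_mem _ m.2 g⟩ : N) m := by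
    intro g hg m
    rw [isConj_iff_irr_agree]
    intro θ
    exact (mem_inertia_iff N).mp ((Subgroup.zpowers_le.mpr (h θ)) hg) m
  let S : Set N := MulAction.orbit (ConjAct N) n
  have hmemS : ∀ m : N, m ∈ S ↔ IsConj m n := fun m => ConjAct.mem_orbit_conjAct
  letI : SMul (Subgroup.zpowers x) S :=
    ⟨fun g m => ⟨⟨(g : G) * ((m : N) : G) * (g : G)⁻¹,
      (inferInstance : N.Normal).conj_mem _ (m : N).2 _⟩,
      (hmemS _).mpr ((hall g g.2 m).trans ((hmemS _).mp m.2))⟩⟩
  letI : MulAction (Subgroup.zpowers x) S :=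
    { one_smul := fun m => Subtype.ext (Subtype.ext (by
        show (1 : G) * ((m : N) : G) * (1 : G)⁻¹ = _
        group))
      mul_smul := fun a b m => Subtype.ext (Subtype.ext (by
        show ((a : G) * b) * ((m : N) : G) * ((a : G) * b)⁻¹ =
          (a : G) * ((b : G) * ((m : N) : G) * (b : G)⁻¹) * (a : G)⁻¹
        group)) }
  obtain ⟨j, hj⟩ := hx
  have hP : IsPGroup p (Subgroup.zpowers x) :=
    IsPGroup.of_card (n := j) (by rw [Nat.card_zpowers, hj])
  have hdvd : Nat.card S ∣ Nat.card N := by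
    have h1 := MulAction.index_stabilizer (ConjAct N) n
    rw [show (S : Set N) = MulAction.orbit (ConjAct N) n from rfl, Nat.card_coe_set_eq, ← h1]
    exact Subgroup.index_dvd_card _
  have hnd : ¬ p ∣ Nat.card S := fun hd =>
    (Fact.out : p.Prime).coprime_iff_not_dvd.mp hN.symm (hd.trans hdvd)
  haveI : Finite S := inferInstance
  obtain ⟨m, hm⟩ := hP.nonempty_fixed_point_of_prime_not_dvd_card S hnd
  obtain ⟨c, hc⟩ := isConj_iff.mp ((hmemS _).mp m.2).symm
  refine ⟨c⁻¹, ?_⟩
  rw [inv_inv, hc]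
  have h2 := congrArg (fun t : S => ((t : N) : G)) (hm ⟨x, Subgroup.mem_zpowers x⟩)
  show ((m : N) : G) ∈ Subgroup.centralizer ({x} : Set G)
  rw [Subgroup.mem_centralizer_singleton_iff]
  calc ((m : N) : G) * x = x * ((m : N) : G) * x⁻¹ * x :=
        (congrArg (· * x) h2).symm
    _ = x * ((m : N) : G) := by group

/-- Let p be a prime and G a finite non-commutative group in which every vanishing element (an element at which some irreducible character is zero) has order a positive power of p. Then either G is a p-group, or the centre of G equals O_p(G) and G/Z(G) is a Frobenius group whose complement is a p-group. -/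
theorem result {G : Type*} [Group G] [Finite G] (hna : ¬ IsMulCommutative G) (p : ℕ) [Fact p.Prime] (hvan : ∀ g : G, (∃ χ : Cfsg.IrrCharacter G, (χ : G → ℂ) g = 0) → ∃ m : ℕ, 1 ≤ m ∧ orderOf g = p ^ m) : IsPGroup p G ∨ (Subgroup.center G = Cfsg.pCore p G ∧ ∃ H : Subgroup (G ⧸ Subgroup.center G), Cfsg.IsFrobeniusComplement H ∧ IsPGroup p H) := by
  classical
  obtain ⟨N, hNn, hNc, k, hNk⟩ := Cfsg.Agent.S4456.result (G := G) p Fact.out fun χ hχ => by
    obtain ⟨g, hg⟩ := exists_zero_of_degree_ne_one χ hχ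
    obtain ⟨m, -, hm⟩ := hvan g ⟨χ, hg⟩
    exact Cfsg.Agent.S4558.result p _ (isCharacter_of_isIrr χ.2) g ⟨m, hm⟩ hg
  haveI := hNn
  by_cases hN1 : N = ⊥
  · left
    subst hN1
    exact IsPGroup.of_card (n := k) (by rw [← Subgroup.index_bot]; exact hNk)
  right
  have hq : IsPGroup p (G ⧸ N) := IsPGroup.of_card (n := k) (by rw [← Subgroup.index_eq_card]; exact hNk)
  obtain ⟨P⟩ := (inferInstance : Nonempty (Sylow p G))
  have hcomp := CfsgLib.Transfer.isComplement'_sylow hNc hq P
  have hdisj : ∀ {t : G}, t ∈ N → t ∈ (P : Subgroup G) → t = 1 := fun {t} ht ht' =>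
    Subgroup.disjoint_def.mp hcomp.disjoint ht ht'
  have hdec : ∀ g : G, ∃ n ∈ N, ∃ v ∈ (P : Subgroup G), n * v = g := fun g => by
    obtain ⟨⟨n, v⟩, e⟩ := hcomp.2 g
    exact ⟨n, n.2, v, v.2, e⟩
  -- the projection onto `P`
  let i : (P : Subgroup G) →* G ⧸ N := (QuotientGroup.mk' N).comp (P : Subgroup G).subtype
  have hi : Function.Bijective i := by
    refine ⟨(injective_iff_map_eq_one i).mpr fun v hv => Subtype.ext ?_, fun t => ?_⟩
    · exact hdisj ((QuotientGroup.eq_one_iff _).mp hv) v.2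
    · obtain ⟨g, rfl⟩ := QuotientGroup.mk_surjective t
      obtain ⟨n, hn, v, hv, rfl⟩ := hdec g
      refine ⟨⟨v, hv⟩, ?_⟩
      show ((v : G) : G ⧸ N) = ((n * v : G) : G ⧸ N)
      rw [QuotientGroup.mk_mul, (QuotientGroup.eq_one_iff n).mpr hn, one_mul]
  let e := MulEquiv.ofBijective i hi
  let π : G →* (P : Subgroup G) := e.symm.toMonoidHom.comp (QuotientGroup.mk' N)
  have hπs : Function.Surjective π := e.symm.surjective.comp (QuotientGroup.mk'_surjective N)
  have hπ : ∀ n ∈ N, ∀ v : (P : Subgroup G), π (n * (v : G)) = v := fun n hn v => by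
    show e.symm (((n * (v : G) : G)) : G ⧸ N) = v
    rw [QuotientGroup.mk_mul, (QuotientGroup.eq_one_iff n).mpr hn, one_mul]
    exact e.symm_apply_apply v
  have hπp : ∀ v : (P : Subgroup G), π (v : G) = v := fun v => by simpa using hπ 1 (one_mem N) v
  -- elements of `P` with a fixed point on `N`
  have hmain : ∀ v : (P : Subgroup G), ∀ n ∈ N, n ≠ 1 → Commute n (v : G) →
      (v : G) ∈ Subgroup.center G := by
    intro v n hn hn1 hcomm
    have hnv : ¬ Van (n * (v : G)) := by
      intro hV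
      obtain ⟨m, -, hm⟩ := hvan _ hV
      have h1 : n ^ p ^ m * (v : G) ^ p ^ m = 1 := by
        rw [← hcomm.mul_pow, ← hm, pow_orderOf_eq_one]
      have h2 : n ^ p ^ m = 1 := hdisj (pow_mem hn _) (by
        rw [eq_inv_of_mul_eq_one_left h1]
        exact inv_mem (pow_mem v.2 _))
      have h3 : orderOf n ∣ p ^ m := orderOf_dvd_of_pow_eq_one h2
      have h4 : (orderOf n).Coprime (p ^ m) :=
        ((CfsgLib.Transfer.coprime_orderOf_of_mem hNc hn)).pow_right m
      exact hn1 (orderOf_eq_one_iff.mp (Nat.Coprime.eq_one_of_dvd h4 h3))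
    have hvc : v ∈ Subgroup.center (P : Subgroup G) := by
      by_contra hvc
      refine hnv (van_of_map hπs ?_)
      rw [hπ n hn v]
      exact van_of_not_mem_center _ _ rfl P.2 v hvc
    have hin : ∀ θ : IrrCharacter N, (v : G) ∈ inertia N (θ : N → ℂ) := by
      intro θ
      by_contra hv
      refine hnv (van_of_inertia N θ.2 _ fun x hx => hv ?_)
      set t := x⁻¹ * (n * (v : G)) * x with ht
      have h1 : π t = v := by
        rw [ht, map_mul, map_mul, map_inv, hπ n hn v, mul_assoc,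
          ← Subgroup.mem_center_iff.mp hvc (π x), inv_mul_cancel_left]
      obtain ⟨n', hn', v', hv', hdec'⟩ := hdec t
      have h2 : π (n' * v') = ⟨v', hv'⟩ := hπ n' hn' ⟨v', hv'⟩
      rw [hdec', h1] at h2
      have h3 : (v : G) = n'⁻¹ * t := by
        rw [← hdec', inv_mul_cancel_left]
        exact congrArg Subtype.val h2
      rw [h3]
      exact mul_mem (inv_mem (le_inertia N (isClassFunction_of_isCharacter
        (isCharacter_of_isIrr θ.2)) hn')) hx
    obtain ⟨j, hj⟩ := IsPGroup.iff_orderOf.mp P.2 v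
    have hcent := centralizes_of_inertia N hNc (v : G) ⟨j, by rw [Subgroup.orderOf_coe]; exact hj⟩ hin
    rw [Subgroup.mem_center_iff]
    intro g
    obtain ⟨n', hn', w, hw, rfl⟩ := hdec g
    have h5 : w * (v : G) = (v : G) * w :=
      congrArg Subtype.val (Subgroup.mem_center_iff.mp hvc ⟨w, hw⟩)
    calc n' * w * (v : G) = n' * ((v : G) * w) := by rw [mul_assoc, h5]
      _ = (v : G) * n' * w := by rw [hcent n' hn', mul_assoc]
      _ = (v : G) * (n' * w) := by rw [mul_assoc]
  obtain ⟨n₀, hn₀, hn₀1⟩ := (Subgroup.bot_or_exists_ne_one N).resolve_left hN1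
  -- `P` is not central
  have hPZ : ¬ (P : Subgroup G) ≤ Subgroup.center G := by
    intro hle
    haveI : (P : Subgroup G).Normal := ⟨fun a ha g => by
      rw [Subgroup.mem_center_iff.mp (hle ha) g, mul_inv_cancel_right]
      exact ha⟩
    have hQ : ¬ IsMulCommutative (G ⧸ (P : Subgroup G)) := by
      intro hcm
      refine hna ⟨⟨fun a b => ?_⟩⟩
      obtain ⟨na, hna', va, hva, rfl⟩ := hdec a
      obtain ⟨nb, hnb', vb, hvb, rfl⟩ := hdec b
      have h1 : ((na * nb : G) : G ⧸ (P : Subgroup G)) = ((nb * na : G) : G ⧸ (P : Subgroup G)) := by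
        rw [QuotientGroup.mk_mul, QuotientGroup.mk_mul]
        exact mul_comm' _ _
      have h2 : (na * nb)⁻¹ * (nb * na) = 1 :=
        hdisj (mul_mem (inv_mem (mul_mem hna' hnb')) (mul_mem hnb' hna')) (QuotientGroup.eq.mp h1)
      have h3 : na * nb = nb * na := inv_mul_eq_one.mp h2
      have hza := Subgroup.mem_center_iff.mp (hle hva)
      have hzb := Subgroup.mem_center_iff.mp (hle hvb)
      calc na * va * (nb * vb) = na * (va * nb) * vb := by group
        _ = na * nb * (va * vb) := by rw [← hza nb]; group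
        _ = nb * na * (vb * va) := by rw [h3, hzb va]
        _ = nb * (na * vb) * va := by group
        _ = nb * vb * (na * va) := by rw [hzb na]; group
    obtain ⟨t, ht⟩ := exists_van hQ
    obtain ⟨g, rfl⟩ := QuotientGroup.mk_surjective t
    obtain ⟨n, hn, v, hv, rfl⟩ := hdec g
    have he : ((n * v : G) : G ⧸ (P : Subgroup G)) = (n : G ⧸ (P : Subgroup G)) := by
      rw [QuotientGroup.mk_mul, (QuotientGroup.eq_one_iff v).mpr hv, mul_one]
    rw [he] at ht
    obtain ⟨m, hm1, hm⟩ := hvan n (van_of_map (QuotientGroup.mk'_surjective _) ht)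
    have h4 := CfsgLib.Transfer.coprime_orderOf_of_mem hNc hn
    rw [hm, Nat.coprime_pow_left_iff (by omega), Nat.coprime_self] at h4
    exact (Fact.out : p.Prime).ne_one h4
  have hZle : Subgroup.center G ≤ (P : Subgroup G) := by
    intro z hz
    obtain ⟨n, hn, v, hv, rfl⟩ := hdec z
    suffices hn1 : n = 1 by rwa [hn1, one_mul]
    by_contra hn1
    refine hPZ fun w hw => hmain ⟨w, hw⟩ n hn hn1 ?_
    have h1 : π (n * v) = ⟨v, hv⟩ := hπ n hn ⟨v, hv⟩
    have h2 : w * v = v * w := by
      have := congrArg π (Subgroup.mem_center_iff.mp hz w)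
      have h1' : π w = ⟨w, hw⟩ := hπp ⟨w, hw⟩
      rw [map_mul π w, map_mul π (n * v) w, h1, h1'] at this
      exact congrArg Subtype.val this
    have h3 := Subgroup.mem_center_iff.mp hz w
    show n * w = w * n
    calc n * w = n * (v * w) * v⁻¹ * ((v * w) * v⁻¹)⁻¹ * w := by group
      _ = (n * v * w) * v⁻¹ := by
          rw [mul_assoc n v w, ← h2]; group
      _ = w * (n * v) * v⁻¹ := by rw [h3]
      _ = w * n := by group
  refine ⟨le_antisymm (CfsgLib.Fitting.le_pCore inferInstance (P.2.to_le hZle)) ?_, ?_⟩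
  · intro z hz
    haveI := CfsgLib.Fitting.pCore_normal (G := G) p
    have hsup : IsPGroup p (Cfsg.pCore p G ⊔ (P : Subgroup G) : Subgroup G) :=
      (CfsgLib.Fitting.pCore_isPGroup p).to_sup_of_normal_left P.2
    have hzP : z ∈ (P : Subgroup G) := by
      rw [← P.3 hsup le_sup_right]
      exact Subgroup.mem_sup_left hz
    refine hmain ⟨z, hzP⟩ n₀ hn₀ hn₀1 ?_
    have h1 : n₀ * z * n₀⁻¹ * z⁻¹ ∈ N := by
      have := mul_mem hn₀ ((inferInstance : N.Normal).conj_mem _ (inv_mem hn₀) z)
      simpa [mul_assoc] using this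
    have h2 : n₀ * z * n₀⁻¹ * z⁻¹ ∈ (P : Subgroup G) := by
      refine mul_mem ?_ (inv_mem hzP)
      rw [← P.3 hsup le_sup_right]
      exact Subgroup.mem_sup_left
        ((CfsgLib.Fitting.pCore_normal (G := G) p).conj_mem z hz n₀)
    have h3 := hdisj h1 h2
    rw [mul_inv_eq_one, mul_inv_eq_iff_eq_mul] at h3
    exact h3
  refine ⟨(P : Subgroup G).map (QuotientGroup.mk' _), ⟨?_, ?_, ?_⟩, P.2.map _⟩
  · intro hb
    rw [Subgroup.map_eq_bot_iff, QuotientGroup.ker_mk'] at hb
    exact hPZ hb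
  · intro ht
    have h1 : (n₀ : G ⧸ Subgroup.center G) ∈ (P : Subgroup G).map (QuotientGroup.mk' _) :=
      ht ▸ Subgroup.mem_top _
    obtain ⟨v, hv, hve⟩ := Subgroup.mem_map.mp h1
    have h2 : v⁻¹ * n₀ ∈ (P : Subgroup G) := hZle (QuotientGroup.eq.mp hve)
    have h3 : n₀ ∈ (P : Subgroup G) := by
      have := mul_mem hv h2
      rwa [mul_inv_cancel_left] at this
    exact hn₀1 (hdisj hn₀ h3)
  · intro g hg
    obtain ⟨g, rfl⟩ := QuotientGroup.mk_surjective g
    obtain ⟨n, hn, v, hv, rfl⟩ := hdec g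
    have hn1 : n ≠ 1 := fun e => hg ⟨v, hv, by simp [e]⟩
    rw [eq_bot_iff]
    rintro t ⟨ht1, ht2⟩
    obtain ⟨a, ha, rfl⟩ := Subgroup.mem_map.mp ht1
    rw [SetLike.mem_coe, Subgroup.mem_toSubmonoid, Subgroup.mem_pointwise_smul_iff_inv_smul_mem, ← map_inv, MulAut.smul_def,
      MulAut.conj_apply, inv_inv] at ht2
    obtain ⟨b, hb, hbe⟩ := Subgroup.mem_map.mp ht2
    rw [Subgroup.mem_bot, QuotientGroup.mk'_apply, QuotientGroup.eq_one_iff]
    have h1 : b⁻¹ * ((n * v)⁻¹ * a * (n * v)) ∈ (P : Subgroup G) := by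
      refine hZle ?_
      rw [← QuotientGroup.eq]
      simpa using hbe
    have h2 : (n * v)⁻¹ * a * (n * v) ∈ (P : Subgroup G) := by
      have := mul_mem hb h1
      rwa [mul_inv_cancel_left] at this
    have h3 : n⁻¹ * a * n ∈ (P : Subgroup G) := by
      have h4 := mul_mem (mul_mem hv h2) (inv_mem hv)
      have h5 : v * ((n * v)⁻¹ * a * (n * v)) * v⁻¹ = n⁻¹ * a * n := by group
      rwa [h5] at h4
    have h6 : n⁻¹ * a * n * a⁻¹ ∈ N := by
      have := mul_mem (inv_mem hn) ((inferInstance : N.Normal).conj_mem _ hn a)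
      simpa [mul_assoc] using this
    have h7 := hdisj h6 (mul_mem h3 (inv_mem ha))
    rw [mul_inv_eq_one, mul_assoc, inv_mul_eq_iff_eq_mul] at h7
    exact hmain ⟨a, ha⟩ n hn hn1 h7.symm

end Cfsg.Agent.S4848
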