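import Cfsg.Statements.S4850
import Cfsg.Agent.Lib.VanishSingular.Main
import Cfsg.Agent.Lib.Subnormal.Basic

set_option autoImplicit false
open Cfsg

namespace Cfsg.Agent.S4850

/-- Let p be a prime and G a finite solvable group whose vanishing elements (elements at which some irreducible character is zero) of order divisible by p all have the same order, with at least one such element. Let P be a Sylow p-subgroup of G. Then the derived subgroup of P is subnormal in G and the image of P in G/O_p(G) is cyclic. -/
theorem result {G : Type*} [Group G] [Finite G] [hs : Group.IsSolvable G] (p : ℕ) [Fact p.Prime] (b : ℕ) (hvo : {n : ℕ | p ∣ n ∧ ∃ (g : G) (χ : Cfsg.IrrCharacter G), orderOf g = n ∧ (χ : G → ℂ) g = 0} = {b}) (P : Sylow p G) :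
    ((commutator ↥(P : Subgroup G)).map (P : Subgroup G).subtype).IsSubnormal ∧ IsCyclic ↥((P : Subgroup G).map (QuotientGroup.mk' (Cfsg.pCore p G))) := by
  haveI hOn := CfsgLib.Fitting.pCore_normal (G := G) p
  set O := Cfsg.pCore p G
  have hOP : O ≤ (P : Subgroup G) :=
    IsPGroup.le_sylow_of_normal (CfsgLib.Fitting.pCore_isPGroup p) P
  have hcard := CfsgLib.VanishSingular.card_sylow_le (p := p) (X := G) (fun x y hx hy hpx hpy => by
    obtain ⟨χ, hχ⟩ := hx
    obtain ⟨ψ, hψ⟩ := hy
    exact (hvo.subset ⟨hpx, x, χ, rfl, hχ⟩).trans (hvo.subset ⟨hpy, y, ψ, rfl, hψ⟩).symm) P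
  set π := QuotientGroup.mk' O
  set P' := (P : Subgroup G).map π
  have hle : Nat.card P' ≤ p := by
    have h := Subgroup.card_eq_card_quotient_mul_card_subgroup
      ((π.comp (P : Subgroup G).subtype).ker)
    rw [Nat.card_congr (QuotientGroup.quotientKerEquivRange _).toEquiv,
      MonoidHom.range_comp, Subgroup.range_subtype, ← MonoidHom.comap_ker, QuotientGroup.ker_mk']
      at h
    have h2 : Nat.card (O.subgroupOf (P : Subgroup G)) = Nat.card O :=
      Nat.card_congr (Subgroup.subgroupOfEquivOfLe hOP).toEquiv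
    change Nat.card (P : Subgroup G) = Nat.card P' * Nat.card (O.subgroupOf (P : Subgroup G)) at h
    rw [h2] at h
    rw [h] at hcard
    exact Nat.le_of_mul_le_mul_right hcard Nat.card_pos
  haveI hcyc : IsCyclic P' := by
    obtain ⟨n, hn⟩ := IsPGroup.iff_card.mp (P.isPGroup'.map π)
    have hn' : Nat.card P' = p ^ n := hn
    rw [hn'] at hle
    have hp := (Fact.out : p.Prime)
    have h1 : n ≤ 1 := by
      by_contra! h2
      exact absurd hle (not_le.mpr (by
        calc p = p ^ 1 := (pow_one p).symm
          _ < p ^ n := Nat.pow_lt_pow_right hp.one_lt h2))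
    interval_cases n
    · haveI : Subsingleton P' := (Nat.card_eq_one_iff_unique.mp (by rw [hn', pow_zero])).1
      exact isCyclic_of_subsingleton
    · exact isCyclic_of_prime_card (p := p) (by rw [hn', pow_one])
  refine ⟨?_, hcyc⟩
  set D := (commutator ↥(P : Subgroup G)).map (P : Subgroup G).subtype
  have hD : D ≤ O := by
    rintro _ ⟨x, hx, rfl⟩
    letI : CommGroup P' := IsCyclic.commGroup
    have h1 := Abelianization.commutator_subset_ker (π.subgroupMap (P : Subgroup G)) hx
    exact (QuotientGroup.eq_one_iff (x : G)).mp (congrArg Subtype.val (MonoidHom.mem_ker.mp h1))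
  haveI : Group.IsNilpotent O := (CfsgLib.Fitting.pCore_isPGroup p).isNilpotent
  have h := CfsgLib.Subnormal.isSubnormal_map_subtype (K := O)
    (CfsgLib.Subnormal.isSubnormal_of_isNilpotent (D.subgroupOf O)) hOn.isSubnormal
  rwa [Subgroup.subgroupOf_map_subtype, inf_eq_left.mpr hD] at h

end Cfsg.Agent.S4850
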