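import Cfsg.Statements.S4859
import Cfsg.Agent.Lib.Char.SquareRoots

set_option autoImplicit false
open Cfsg

namespace Cfsg.Agent.S4859

open CfsgLib.Char
open scoped CfsgLib.Char

/-- Let p be an odd prime, G a finite group and x an element of G whose order is a power of p (possibly 1) and whose centralizer has even order. Let y be a 2-element of the centralizer of x whose order is largest among the 2-elements of that centralizer. Then x * y is not a square in G, and some non-principal real-valued irreducible character of G does not vanish at x * y. -/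
theorem result {G : Type*} [Group G] [Finite G] (p : ℕ) [Fact p.Prime] (hp : p ≠ 2) (x : G) (hx : ∃ k : ℕ, orderOf x = p ^ k) (heven : Even (Nat.card (Subgroup.centralizer ({x} : Set G)))) (y : G) (hy : y ∈ Subgroup.centralizer ({x} : Set G)) (hy2 : ∃ k : ℕ, orderOf y = 2 ^ k) (hmax : ∀ z ∈ Subgroup.centralizer ({x} : Set G), (∃ k : ℕ, orderOf z = 2 ^ k) → orderOf z ≤ orderOf y) : (¬ ∃ u : G, u * u = x * y) ∧ ∃ χ : Cfsg.IrrCharacter G, ¬ ((χ : G → ℂ) = fun _ => (1 : ℂ)) ∧ (∀ g : G, ((χ : G → ℂ) g).im = 0) ∧ (χ : G → ℂ) (x * y) ≠ 0 := by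
  classical
  haveI : Fintype G := Fintype.ofFinite G
  haveI : Fact (Nat.Prime 2) := ⟨Nat.prime_two⟩
  obtain ⟨a, ha⟩ := hx
  obtain ⟨k, hk⟩ := hy2
  have hcomm : Commute x y := (Subgroup.mem_centralizer_singleton_iff.mp hy).symm
  have hkpos : k ≠ 0 := by
    rintro rfl
    obtain ⟨s, hs⟩ := exists_prime_orderOf_dvd_card' (G := Subgroup.centralizer ({x} : Set G)) 2
      heven.two_dvd
    have hs' : orderOf (s : G) = 2 := by rw [Subgroup.orderOf_coe]; exact hs
    have := hmax s s.2 ⟨1, by simpa using hs'⟩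
    rw [hs', hk] at this
    norm_num at this
  have hcop : (orderOf x).Coprime (orderOf y) := by
    rw [ha, hk]
    exact Nat.Coprime.pow _ _ ((Nat.coprime_primes Fact.out Nat.prime_two).mpr hp)
  have hnot : ¬ ∃ u : G, u * u = x * y := by
    rintro ⟨u, hu⟩
    have hord : orderOf (u ^ 2) = p ^ a * 2 ^ k := by
      rw [sq, hu, hcomm.orderOf_mul_eq_mul_orderOf_of_coprime hcop, ha, hk]
    have hux : u * x = x * u := by
      obtain ⟨n, hn1, hn2⟩ := Nat.chineseRemainder hcop 1 0
      have hxpow : x = (u * u) ^ n := by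
        rw [hu, hcomm.mul_pow]
        have h2 : y ^ n = 1 := orderOf_dvd_iff_pow_eq_one.mp (Nat.modEq_zero_iff_dvd.mp hn2)
        have h1 : x ^ n = x := (pow_eq_pow_iff_modEq.mpr hn1).trans (pow_one x)
        rw [h1, h2, mul_one]
      rw [hxpow]
      exact (((Commute.refl u).mul_right (Commute.refl u)).pow_right n).eq
    set z := u ^ (p ^ a) with hz
    have hzmem : z ∈ Subgroup.centralizer ({x} : Set G) :=
      Subgroup.pow_mem _ (Subgroup.mem_centralizer_singleton_iff.mpr hux) _
    have hev : 2 ∣ orderOf u := by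
      have h1 : orderOf (u ^ 2) ∣ orderOf u := orderOf_pow_dvd 2
      exact (dvd_mul_of_dvd_right (dvd_pow_self 2 hkpos) _).trans (hord ▸ h1)
    have hou : orderOf u = p ^ a * 2 ^ (k + 1) := by
      rw [orderOf_pow_of_dvd two_ne_zero hev] at hord
      rw [← Nat.div_mul_cancel hev, hord, pow_succ]
      ring
    have hoz : orderOf z = 2 ^ (k + 1) := by
      rw [hz, orderOf_pow_of_dvd (pow_ne_zero _ (Fact.out : p.Prime).ne_zero) (hou ▸ Dvd.intro _ rfl),
        hou, Nat.mul_div_cancel_left _ (pow_pos (Fact.out : p.Prime).pos _)]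
    have := hmax z hzmem ⟨_, hoz⟩
    rw [hoz, hk] at this
    exact absurd this (not_le.mpr (Nat.pow_lt_pow_right (by norm_num) (Nat.lt_succ_self k)))
  refine ⟨hnot, ?_⟩
  by_contra h
  push_neg at h
  have h0 := CfsgLib.Char.SquareRoots.card_sqrt (x * y)
  haveI : IsEmpty {u : G // u * u = x * y} := ⟨fun u => hnot ⟨u.1, u.2⟩⟩
  rw [Nat.card_of_isEmpty, Nat.cast_zero, Finset.sum_eq_single
    (⟨fun _ => 1, CfsgLib.Char.isIrrCharacter_one⟩ : Cfsg.IrrCharacter G)] at h0
  · simp [CfsgLib.Char.SquareRoots.indicator_one] at h0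
  · intro χ _ hχ
    rcases CfsgLib.Char.indicator_cases χ.2 with ⟨hreal, -⟩ | ⟨-, e⟩
    · rw [h χ (fun e => hχ (Subtype.ext e)) hreal, mul_zero]
    · rw [e, zero_mul]
  · exact fun hh => absurd (Finset.mem_univ _) hh

end Cfsg.Agent.S4859
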