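import Cfsg.Statements.S4862
import Cfsg.Agent.Lib.RealDegree.Main

set_option autoImplicit false
open Cfsg

open CfsgLib.RealDegree CfsgLib.Char
open scoped CfsgLib.Char commutatorElement

namespace Cfsg.Agent.S4862

/-- Let p be an odd prime and G a finite group such that the subgroup generated by the p-elements of G is solvable and every real-valued irreducible complex character of G has degree prime to p. Let K be the subgroup generated by the 2-elements of G and P a Sylow p-subgroup of G. Then every normal subgroup M of G contained in K and in the derived subgroup of P is centralized by K. -/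
theorem result {G : Type*} [Group G] [Finite G] (p : ℕ) [Fact p.Prime] (hp : p ≠ 2) (hsolv : Group.IsSolvable ↥(Subgroup.closure {g : G | ∃ k : ℕ, orderOf g = p ^ k})) (hreal : ∀ χ : Cfsg.IrrCharacter G, (∀ g : G, ((χ : G → ℂ) g).im = 0) → ¬ p ∣ Cfsg.charDegree (χ : G → ℂ)) (P : Sylow p G) (M : Subgroup G) (hM : M.Normal) (hMK : M ≤ (Subgroup.closure {g : G | ∃ k : ℕ, orderOf g = 2 ^ k})) (hMP : M ≤ ⁅(P : Subgroup G), (P : Subgroup G)⁆) : (Subgroup.closure {g : G | ∃ k : ℕ, orderOf g = 2 ^ k}) ≤ Subgroup.centralizer (M : Set G) := by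
  classical
  haveI := Fintype.ofFinite G
  haveI := hM
  haveI := Fintype.ofFinite M
  haveI := Fintype.ofFinite (P : Subgroup G)
  have hpr : p.Prime := Fact.out
  refine (Subgroup.closure_le _).mpr fun g hg => ?_
  obtain ⟨k, hk⟩ := hg
  by_contra hgM
  have hMPle : M ≤ (P : Subgroup G) := hMP.trans (Subgroup.commutator_le_self _)
  have hMp : IsPGroup p M := P.isPGroup'.to_le hMPle
  obtain ⟨n, hn⟩ := IsPGroup.iff_card.mp hMp
  have hodd : Odd (Nat.card M) := hn ▸ (hpr.odd_of_ne_two hp).pow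
  haveI : Group.IsNilpotent M := hMp.isNilpotent
  obtain ⟨t, ht1, ht2⟩ := exists_sq_mem hk hgM
  obtain ⟨μ, hμ, hμt⟩ := exists_inverted_of_normal M hodd t ht2 ht1
  obtain ⟨χ, hχr, hχ⟩ := exists_real_over_inverted M hodd μ t hμt
  -- a linear constituent on the Sylow subgroup
  obtain ⟨b, hb⟩ := exists_multiplicities
    (isCharacter_restrict (P : Subgroup G) (isCharacter_of_isIrr χ.2))
  obtain ⟨d, hd⟩ := exists_nat_degree (isCharacter_of_isIrr χ.2)
  choose e he hpos hdvd using fun ξ : Cfsg.IrrCharacter (P : Subgroup G) =>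
    exists_degree_dvd_card ξ.2
  have hd' : d = ∑ ξ, b ξ * e ξ := by
    have h := congrFun hb 1
    simp only [Finset.sum_apply, Pi.smul_apply, smul_eq_mul, he, OneMemClass.coe_one, hd] at h
    exact_mod_cast h
  obtain ⟨ξ, hξ⟩ : ∃ ξ, ¬ p ∣ b ξ * e ξ := by
    by_contra hno
    push_neg at hno
    exact hreal χ hχr (by rw [charDegree_of_eq hd, hd']; exact Finset.dvd_sum fun ξ _ => hno ξ)
  have he1 : e ξ = 1 := by
    obtain ⟨m, hm⟩ := IsPGroup.iff_card.mp P.isPGroup'
    obtain ⟨i, -, hi⟩ := (Nat.dvd_prime_pow hpr).mp (hm ▸ hdvd ξ)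
    rcases Nat.eq_zero_or_pos i with rfl | hi0
    · simpa using hi
    · exact absurd ((hi ▸ dvd_pow_self p hi0.ne' : p ∣ e ξ).mul_left _) hξ
  have hξ1 : (ξ : ↥(P : Subgroup G) → ℂ) 1 = 1 := by rw [he, he1, Nat.cast_one]
  set l := linearHom (isCharacter_of_isIrr ξ.2) hξ1 with hl
  have htriv : resTo M (P : Subgroup G) hMPle (ξ : ↥(P : Subgroup G) → ℂ) = fun _ => 1 := by
    funext m
    have h1 : ⁅(P : Subgroup G), (P : Subgroup G)⁆ ≤ l.ker.map (P : Subgroup G).subtype := by
      rw [Subgroup.commutator_le]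
      intro x hx y hy
      exact ⟨⁅(⟨x, hx⟩ : (P : Subgroup G)), ⟨y, hy⟩⁆, Abelianization.commutator_subset_ker l
        (Subgroup.commutator_mem_commutator (Subgroup.mem_top _) (Subgroup.mem_top _)), rfl⟩
    obtain ⟨x, hx, hxm⟩ := h1 (hMP m.2)
    show (ξ : ↥(P : Subgroup G) → ℂ) ⟨(m : G), _⟩ = 1
    rw [← linearHom_apply (isCharacter_of_isIrr ξ.2) hξ1, ← hl,
      show (⟨(m : G), hMPle m.2⟩ : (P : Subgroup G)) = x from Subtype.ext hxm.symm,
      show l x = 1 from hx, Units.val_one]
  have hone : classInner (fun m : M => (χ : G → ℂ) m) (fun _ => 1) ≠ 0 := by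
    choose q hq using fun η : Cfsg.IrrCharacter (P : Subgroup G) => exists_nat_classInner
      (isCharacter_resTo M (P : Subgroup G) hMPle (isCharacter_of_isIrr η.2))
      (isCharacter_of_isIrr (isIrrCharacter_one (G := M)))
    have hres : (fun m : M => (χ : G → ℂ) m) =
        ∑ η : Cfsg.IrrCharacter (P : Subgroup G),
          (b η : ℂ) • resTo M (P : Subgroup G) hMPle (η : ↥(P : Subgroup G) → ℂ) := by
      funext m
      have := congrFun hb ⟨(m : G), hMPle m.2⟩
      simpa [Finset.sum_apply, resTo] using this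
    rw [hres, classInner_sum_left]
    simp only [classInner_smul_left, hq, ← Nat.cast_mul, ← Nat.cast_sum, ne_eq, Nat.cast_eq_zero,
      Finset.sum_eq_zero_iff, not_forall]
    refine ⟨ξ, Finset.mem_univ _, fun h => ?_⟩
    rcases mul_eq_zero.mp h with h0 | h0
    · exact hξ (by simp [h0])
    · have h1 := hq ξ
      rw [htriv, classInner_irr_self isIrrCharacter_one, h0] at h1
      simp at h1
  obtain ⟨x, hx⟩ := exists_conjBy_of_constituents M χ.2 isIrrCharacter_one
    (isIrrCharacter_monoidHom μ) hone hχ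
  exact hμ (MonoidHom.ext fun m => Units.ext ((congrFun hx m).symm.trans rfl))

end Cfsg.Agent.S4862
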