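import Cfsg.Statements.S4866
import Cfsg.Agent.Lib.Char.Constituents
import Cfsg.Agent.Lib.Char.Counting

set_option autoImplicit false
open Cfsg

namespace Cfsg.Agent.S4866

open CfsgLib.Char
open scoped CfsgLib.Char ComplexConjugate

/-- Let K be a normal subgroup of odd index in the finite group G. Then G has as many orbits on the real-valued irreducible complex characters of K (acting by conjugation) as it has orbits on the conjugacy classes of K that are real in K; equivalently, the number of G-orbits of real-valued irreducible characters of K equals the number of G-conjugacy classes of elements of K that are conjugate in K to their inverses. -/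
theorem result {G : Type*} [Group G] [Finite G] (K : Subgroup G) [K.Normal] (hodd : Odd K.index) : Nat.card (Quot (fun θ η : {θ : Cfsg.IrrCharacter ↥K // (∀ k : ↥K, ((θ : ↥K → ℂ) k).im = 0)} => ∃ g : G, ∀ k k' : ↥K, (k' : G) = g * (k : G) * g⁻¹ → (η.1 : ↥K → ℂ) k' = (θ.1 : ↥K → ℂ) k)) = Nat.card (Quot (fun x y : {x : ↥K // IsConj x x⁻¹} => ∃ g : G, (y.1 : G) = g * x.1 * g⁻¹)) := by
  classical
  haveI := Fintype.ofFinite G
  haveI : Finite (IrrCharacter K) := finite_irrCharacter
  set Xc := {θ : Cfsg.IrrCharacter K // ∀ k : K, ((θ : K → ℂ) k).im = 0} with hXc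
  set Xk := {C : ConjClasses K // ∀ k : K, ConjClasses.mk k = C → IsConj k k⁻¹} with hXk
  let cj : G → (K ≃* K) := fun g => (MulAut.conjNormal g : MulAut K)
  have cj_coe : ∀ g (k : K), (cj g k : G) = g * k * g⁻¹ := fun g k => MulAut.conjNormal_apply g k
  have cj_one : ∀ k, cj 1 k = k := fun k => Subtype.ext (by rw [cj_coe]; simp)
  have cj_mul : ∀ a b k, cj (a * b) k = cj a (cj b k) := fun a b k =>
    Subtype.ext (by simp [cj_coe, mul_assoc])
  letI : MulAction G Xc :=
    { smul := fun g θ => ⟨⟨fun k => (θ.1 : K → ℂ) (cj g⁻¹ k), isIrrCharacter_comp_mulEquiv _ θ.1.2⟩,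
        fun k => θ.2 _⟩
      one_smul := fun θ => Subtype.ext (Subtype.ext (funext fun k => by
        show (θ.1 : K → ℂ) (cj 1⁻¹ k) = _
        rw [inv_one, cj_one]))
      mul_smul := fun a b θ => Subtype.ext (Subtype.ext (funext fun k => by
        show (θ.1 : K → ℂ) (cj (a * b)⁻¹ k) = (θ.1 : K → ℂ) (cj b⁻¹ (cj a⁻¹ k))
        rw [mul_inv_rev, cj_mul])) }
  have hmapK : ∀ (g : G) (C : Xk), ∀ k : K,
      ConjClasses.mk k = ConjClasses.map (cj g).toMonoidHom C.1 → IsConj k k⁻¹ := by
    intro g C k hk
    obtain ⟨x, hx⟩ := ConjClasses.exists_rep C.1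
    rw [← hx] at hk
    have h1 : IsConj k (cj g x) := ConjClasses.mk_eq_mk_iff_isConj.mp hk
    have h2 : IsConj (cj g x) (cj g x)⁻¹ := by
      rw [← map_inv]; exact MonoidHom.map_isConj (cj g).toMonoidHom (C.2 x hx)
    refine h1.trans (h2.trans ?_)
    obtain ⟨y, hy⟩ := isConj_iff.mp h1.symm
    exact isConj_iff.mpr ⟨y, by rw [← hy]; group⟩
  letI : MulAction G Xk :=
    { smul := fun g C => ⟨C.1.map (cj g).toMonoidHom, hmapK g C⟩
      one_smul := fun C => Subtype.ext (by
        obtain ⟨x, hx⟩ := ConjClasses.exists_rep C.1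
        show C.1.map (cj 1).toMonoidHom = C.1
        rw [← hx]
        exact congrArg ConjClasses.mk (cj_one x))
      mul_smul := fun a b C => Subtype.ext (by
        obtain ⟨x, hx⟩ := ConjClasses.exists_rep C.1
        show C.1.map (cj (a * b)).toMonoidHom = (C.1.map (cj b).toMonoidHom).map (cj a).toMonoidHom
        rw [← hx]
        exact congrArg ConjClasses.mk (cj_mul a b x)) }
  haveI : Finite Xc := Subtype.finite
  haveI := Fintype.ofFinite Xc
  haveI := Fintype.ofFinite Xk
  -- equal fixed point counts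
  have hfix : ∀ g : G, Nat.card (MulAction.fixedBy Xc g) = Nat.card (MulAction.fixedBy Xk g) := by
    intro g
    let σ : Equiv.Perm (Cfsg.IrrCharacter K) :=
      { toFun := fun θ => ⟨fun k => (conjPerm θ : K → ℂ) (cj g⁻¹ k),
          isIrrCharacter_comp_mulEquiv _ (conjPerm θ).2⟩
        invFun := fun θ => conjPerm ⟨fun k => (θ : K → ℂ) (cj g k), isIrrCharacter_comp_mulEquiv _ θ.2⟩
        left_inv := fun θ => Subtype.ext (funext fun k => by
          simp only [conjPerm_apply, ← cj_mul, inv_mul_cancel, cj_one, Complex.conj_conj])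
        right_inv := fun θ => Subtype.ext (funext fun k => by
          simp only [conjPerm_apply, ← cj_mul, mul_inv_cancel, cj_one, Complex.conj_conj]) }
    let T : Equiv.Perm (ConjClasses K) :=
      { toFun := fun C => invClass (C.map (cj g).toMonoidHom)
        invFun := fun C => (invClass C).map (cj g⁻¹).toMonoidHom
        left_inv := fun C => by
          obtain ⟨x, rfl⟩ := ConjClasses.exists_rep C
          show (ConjClasses.mk ((cj g x)⁻¹)⁻¹).map (cj g⁻¹).toMonoidHom = _
          rw [inv_inv]
          exact congrArg ConjClasses.mk (by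
            show cj g⁻¹ (cj g x) = x
            rw [← cj_mul, inv_mul_cancel, cj_one])
        right_inv := fun C => by
          obtain ⟨x, rfl⟩ := ConjClasses.exists_rep C
          show invClass (ConjClasses.mk (cj g (cj g⁻¹ x⁻¹))) = _
          rw [← cj_mul, mul_inv_cancel, cj_one, invClass_mk, inv_inv] }
    have h := brauer_perm σ T fun θ x x' hx => by
      have h1 : IsConj x' (cj g x)⁻¹ := ConjClasses.mk_eq_mk_iff_isConj.mp hx
      rw [eq_of_isConj (isClassFunction_irr (σ θ)) h1]
      show (conjPerm θ : K → ℂ) (cj g⁻¹ (cj g x)⁻¹) = _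
      rw [map_inv, ← cj_mul, inv_mul_cancel, cj_one, conjPerm_apply, irr_inv, Complex.conj_conj]
    have hK1 : ∀ (θ : Cfsg.IrrCharacter K) (x : K), (θ : K → ℂ) (cj (g ^ K.index) x) = (θ : K → ℂ) x :=
      fun θ x => by
        rw [show cj (g ^ K.index) x = ⟨g ^ K.index, K.pow_index_mem g⟩ * x *
          ⟨g ^ K.index, K.pow_index_mem g⟩⁻¹ from Subtype.ext (by rw [cj_coe]; rfl)]
        exact isClassFunction_irr θ x _
    have h1 : Nat.card {θ : Cfsg.IrrCharacter K // σ θ = θ} = Nat.card (MulAction.fixedBy Xc g) := by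
      have key : ∀ θ : Cfsg.IrrCharacter K, σ θ = θ → ∀ x, ((θ : K → ℂ) x).im = 0 := by
        intro θ hθ x
        have e : ∀ y, (θ : K → ℂ) (cj g y) = conj ((θ : K → ℂ) y) := fun y => by
          conv_lhs => rw [← hθ]
          show (conjPerm θ : K → ℂ) (cj g⁻¹ (cj g y)) = _
          rw [conjPerm_apply, ← cj_mul, inv_mul_cancel, cj_one]
        have it : ∀ j : ℕ, (θ : K → ℂ) (cj (g ^ (2 * j + 1)) x) = conj ((θ : K → ℂ) x) := by
          intro j
          induction j with
          | zero => rw [Nat.mul_zero, zero_add, pow_one, e]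
          | succ j ih =>
            rw [show 2 * (j + 1) + 1 = (2 * j + 1) + 1 + 1 by ring, pow_succ', pow_succ', cj_mul, e,
              cj_mul, e, Complex.conj_conj, ih]
        obtain ⟨j, hj⟩ := hodd
        have h2 := it j
        rw [← hj, hK1 θ x] at h2
        exact Complex.conj_eq_iff_im.mp h2.symm
      refine Nat.card_congr
        { toFun := fun θ => ⟨⟨θ.1, key θ.1 θ.2⟩, Subtype.ext (Subtype.ext (funext fun k => ?_))⟩
          invFun := fun θ => ⟨θ.1.1, Subtype.ext (funext fun k => ?_)⟩
          left_inv := fun θ => rfl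
          right_inv := fun θ => rfl }
      · show (θ.1 : K → ℂ) (cj g⁻¹ k) = (θ.1 : K → ℂ) k
        conv_rhs => rw [← θ.2]
        show _ = (conjPerm θ.1 : K → ℂ) (cj g⁻¹ k)
        rw [conjPerm_apply, Complex.conj_eq_iff_im.mpr (key θ.1 θ.2 _)]
      · show (conjPerm θ.1.1 : K → ℂ) (cj g⁻¹ k) = (θ.1.1 : K → ℂ) k
        rw [conjPerm_apply, Complex.conj_eq_iff_im.mpr (θ.1.2 _)]
        exact congrFun (congrArg (fun z : Xc => (z.1 : K → ℂ)) θ.2) k
    have h2 : Nat.card {C : ConjClasses K // T C = C} = Nat.card (MulAction.fixedBy Xk g) := by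
      have key : ∀ C : ConjClasses K, T C = C → ∀ x, ConjClasses.mk x = C → IsConj x x⁻¹ := by
        intro C hC x hx
        have e : ∀ y, ConjClasses.mk y = C → ConjClasses.mk (cj g y) = invClass C := fun y hy => by
          conv_rhs => rw [← hC]
          show _ = invClass (invClass (C.map (cj g).toMonoidHom))
          rw [← hy]
          show _ = invClass (invClass (ConjClasses.mk (cj g y)))
          rw [invClass_mk, invClass_mk, inv_inv]
        have e' : ∀ y, ConjClasses.mk y = invClass C → ConjClasses.mk (cj g y) = C := fun y hy => by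
          have := e y⁻¹ (by
            rw [← invClass_mk, hy]
            obtain ⟨z, rfl⟩ := ConjClasses.exists_rep C
            rw [invClass_mk, invClass_mk, inv_inv])
          rw [map_inv, ← invClass_mk] at this
          exact invClass.injective this
        have it : ∀ j : ℕ, ConjClasses.mk (cj (g ^ (2 * j + 1)) x) = invClass C := by
          intro j
          induction j with
          | zero => rw [Nat.mul_zero, zero_add, pow_one, e x hx]
          | succ j ih =>
            rw [show 2 * (j + 1) + 1 = (2 * j + 1) + 1 + 1 by ring, pow_succ', pow_succ', cj_mul]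
            refine e _ ?_
            rw [cj_mul]
            exact e' _ ih
        obtain ⟨j, hj⟩ := hodd
        have h2 := it j
        rw [← hj, ← hx, invClass_mk] at h2
        refine IsConj.trans ?_ (ConjClasses.mk_eq_mk_iff_isConj.mp h2)
        exact isConj_iff.mpr ⟨⟨g ^ K.index, K.pow_index_mem g⟩,
          Subtype.ext (by rw [cj_coe]; rfl)⟩
      refine Nat.card_congr
        { toFun := fun C => ⟨⟨C.1, key C.1 C.2⟩, Subtype.ext ?_⟩
          invFun := fun C => ⟨C.1.1, ?_⟩
          left_inv := fun C => rfl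
          right_inv := fun C => rfl }
      · show C.1.map (cj g).toMonoidHom = C.1
        obtain ⟨x, hx⟩ := ConjClasses.exists_rep C.1
        have h3 := C.2
        have hr := key C.1 C.2 x hx
        have hinvC : invClass C.1 = C.1 := by
          rw [← hx, invClass_mk]; exact (ConjClasses.mk_eq_mk_iff_isConj.mpr hr).symm
        exact invClass.injective (h3.trans hinvC.symm)
      · have hf : C.1.1.map (cj g).toMonoidHom = C.1.1 := congrArg Subtype.val C.2
        show invClass (C.1.1.map (cj g).toMonoidHom) = C.1.1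
        rw [hf]
        obtain ⟨x, hx⟩ := ConjClasses.exists_rep C.1.1
        rw [← hx, invClass_mk]
        exact (ConjClasses.mk_eq_mk_iff_isConj.mpr (C.1.2 x hx)).symm
    rw [← h1, ← h2]
    exact h
  -- orbit counting
  have hB := MulAction.sum_card_fixedBy_eq_card_orbits_mul_card_group G Xc
  have hB' := MulAction.sum_card_fixedBy_eq_card_orbits_mul_card_group G Xk
  rw [Finset.sum_congr rfl fun g _ => show Fintype.card (MulAction.fixedBy Xc g) =
      Fintype.card (MulAction.fixedBy Xk g) by
    rw [← Nat.card_eq_fintype_card, ← Nat.card_eq_fintype_card]; exact hfix g, hB'] at hB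
  have horb : Nat.card (MulAction.orbitRel.Quotient G Xc) = Nat.card (MulAction.orbitRel.Quotient G Xk) := by
    rw [Nat.card_eq_fintype_card, Nat.card_eq_fintype_card]
    exact (Nat.eq_of_mul_eq_mul_right Fintype.card_pos hB).symm
  refine Eq.trans ?_ (horb.trans ?_)
  · refine Nat.card_congr (Quot.congr (Equiv.refl Xc) fun θ η => ?_)
    show (∃ g : G, ∀ k k' : K, (k' : G) = g * k * g⁻¹ → (η.1 : K → ℂ) k' = (θ.1 : K → ℂ) k) ↔ θ ∈ MulAction.orbit G η
    constructor
    · rintro ⟨g, hg⟩
      refine ⟨g⁻¹, Subtype.ext (Subtype.ext (funext fun k => ?_))⟩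
      show (η.1 : K → ℂ) (cj g⁻¹⁻¹ k) = _
      rw [inv_inv]
      exact hg k _ (cj_coe g k)
    · rintro ⟨g, rfl⟩
      refine ⟨g⁻¹, fun k k' e => ?_⟩
      show _ = (η.1 : K → ℂ) (cj g⁻¹ k)
      rw [show k' = cj g⁻¹ k from Subtype.ext (by rw [cj_coe]; exact e)]
  · refine (Nat.card_eq_of_bijective (Quot.lift (fun x : {x : K // IsConj x x⁻¹} =>
        (Quotient.mk'' (⟨ConjClasses.mk x.1, fun k hk => ?_⟩ : Xk) :
          MulAction.orbitRel.Quotient G Xk)) ?_) ⟨?_, ?_⟩).symm
    · have h1 := ConjClasses.mk_eq_mk_iff_isConj.mp hk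
      refine h1.trans (x.2.trans ?_)
      obtain ⟨y, hy⟩ := isConj_iff.mp h1.symm
      exact isConj_iff.mpr ⟨y, by rw [← hy]; group⟩
    · rintro x y ⟨g, hg⟩
      refine Quotient.sound' ?_
      exact ⟨g⁻¹, Subtype.ext (congrArg ConjClasses.mk (show cj g⁻¹ y.1 = x.1 from
        Subtype.ext (by rw [cj_coe, hg]; group)))⟩
    · rintro ⟨x⟩ ⟨y⟩ hxy
      obtain ⟨g, hg⟩ := Quotient.exact' hxy
      obtain ⟨k, hk⟩ := isConj_iff.mp (ConjClasses.mk_eq_mk_iff_isConj.mp (congrArg Subtype.val hg))
      refine Quot.sound ⟨((k : G) * g)⁻¹, ?_⟩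
      rw [← show (k : G) * (cj g y.1 : K) * (k : G)⁻¹ = (x.1 : G) from congrArg Subtype.val hk, cj_coe]
      group
    · intro q
      induction q using Quotient.inductionOn' with
      | h C =>
        obtain ⟨x, hx⟩ := ConjClasses.exists_rep C.1
        exact ⟨Quot.mk _ ⟨x, C.2 x hx⟩, congrArg _ (Subtype.ext hx)⟩

end Cfsg.Agent.S4866
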