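import Cfsg.Statements.S4870
import Cfsg.Agent.Lib.Char.LinearCountBound

set_option autoImplicit false
set_option linter.style.haveILetI false
open Cfsg
open CfsgLib
open scoped CfsgLib.Char ComplexConjugate

namespace Cfsg.Agent.S4870

/-- Let G be a finite group with a non-abelian minimal normal subgroup N, and let φ be an irreducible complex character of N with stabilizer I in G (the elements g with φ(g n g⁻¹) = φ(n) for all n ∈ N) such that φ extends to an irreducible character of I. Put d = φ(1)·[G : I]. Then the number of linear characters of G is at most [G : I] times the number of irreducible characters of G of degree d. -/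
theorem result {G : Type*} [Group G] [Finite G] (N : Subgroup G) (hN : N.Normal) (hN1 : N ≠ ⊥) (hmin : ∀ M : Subgroup G, M.Normal → M ≤ N → M = ⊥ ∨ M = N) (hna : ¬ IsMulCommutative ↥N) (φ : Cfsg.IrrCharacter ↥N) (I : Subgroup G) (hI : ∀ g : G, g ∈ I ↔ ∀ n n' : ↥N, (n' : G) = g * (n : G) * g⁻¹ → (φ : ↥N → ℂ) n' = (φ : ↥N → ℂ) n) (hNI : N ≤ I) (hext : ∃ ψ : Cfsg.IrrCharacter ↥I, ∀ n : ↥N, (ψ : ↥I → ℂ) (Subgroup.inclusion hNI n) = (φ : ↥N → ℂ) n) : Nat.card {χ : Cfsg.IrrCharacter G // Cfsg.charDegree (χ : G → ℂ) = 1} ≤ I.index * Nat.card {χ : Cfsg.IrrCharacter G // Cfsg.charDegree (χ : G → ℂ) = Cfsg.charDegree (φ : ↥N → ℂ) * I.index} := by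
  classical
  haveI := Fintype.ofFinite G
  haveI := Fintype.ofFinite N
  haveI := Fintype.ofFinite I
  obtain ⟨ψ, hψ⟩ := hext
  have hI' : ∀ g, g ∈ I ↔ Char.conjBy N (φ : N → ℂ) g = (φ : N → ℂ) := fun g => by
    rw [hI g]
    exact ⟨fun h => funext fun n => h n _ rfl, fun h n n' e => by
      have := congrFun h n
      rw [← this]
      exact congrArg (φ : N → ℂ) (Subtype.ext e)⟩
  refine Char.linearCount_le N I hN1 hmin hna hNI hI' ψ hψ _ _
    (fun χ h => by rw [(Blocks.irr_degree_eq χ).1, h, Nat.cast_one]) fun χ η h hη => ?_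
  have h1 : (η : G → ℂ) 1 = ((Cfsg.charDegree (φ : N → ℂ) * I.index : ℕ) : ℂ) := by
    rw [congrFun hη 1, Char.indFun_one, (Blocks.irr_degree_eq χ).1, h]
    rw [show (ψ : I → ℂ) 1 = (φ : N → ℂ) 1 by rw [← hψ 1, map_one], (Blocks.irr_degree_eq φ).1]
    push_cast
    ring
  rw [(Blocks.irr_degree_eq η).1] at h1
  exact_mod_cast h1

end Cfsg.Agent.S4870
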