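import Cfsg.Statements.S4871
import Cfsg.Agent.Lib.Char.StrongRealAverage

set_option autoImplicit false
open Cfsg
open CfsgLib.Char
open CfsgLib.Char.Extraspecial (charDegree_eq)

namespace Cfsg.Agent.S4871

/-- Let G be a finite group that is the semidirect product of a normal elementary abelian subgroup N of odd order by a non-trivial 2-subgroup P, with N the unique minimal normal subgroup of G. Consider the strongly real irreducible complex characters of G (Frobenius–Schur indicator +1) whose degree is 1 or even. Then their average degree is at least 4/3: four times their number is at most three times the sum of their degrees. -/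
theorem result {G : Type*} [Group G] [Finite G] (N P : Subgroup G) (hN : N.Normal) (q : ℕ) [Fact q.Prime] (hq : q ≠ 2) (hNel : Cfsg.IsElementaryAbelian q N) (hP : IsPGroup 2 ↥P) (hP1 : P ≠ ⊥) (hdisj : N ⊓ P = ⊥) (hprod : N ⊔ P = ⊤) (hmin : N ≠ ⊥ ∧ ∀ M : Subgroup G, M.Normal → M ≠ ⊥ → N ≤ M) : 4 * Nat.card {χ : Cfsg.IrrCharacter G // (Cfsg.charDegree (χ : G → ℂ) = 1 ∨ 2 ∣ Cfsg.charDegree (χ : G → ℂ)) ∧ (Nat.card G : ℂ)⁻¹ * ∑ᶠ g : G, (χ : G → ℂ) (g * g) = 1} ≤ 3 * (∑ᶠ χ : {χ : Cfsg.IrrCharacter G // (Cfsg.charDegree (χ : G → ℂ) = 1 ∨ 2 ∣ Cfsg.charDegree (χ : G → ℂ)) ∧ (Nat.card G : ℂ)⁻¹ * ∑ᶠ g : G, (χ : G → ℂ) (g * g) = 1}, Cfsg.charDegree (χ.1 : G → ℂ)) := by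
  classical
  haveI : Fintype G := Fintype.ofFinite G
  haveI : Fintype N := Fintype.ofFinite N
  haveI : Fact (Nat.Prime 2) := ⟨Nat.prime_two⟩
  haveI := hN
  obtain ⟨hab0, hpow⟩ := hNel
  have hab : ∀ a ∈ N, ∀ b ∈ N, a * b = b * a := fun a ha b hb =>
    congrArg Subtype.val (hab0.is_comm.comm (⟨a, ha⟩ : N) ⟨b, hb⟩)
  have hqodd : Odd q := (Fact.out : q.Prime).odd_of_ne_two hq
  have hNp : IsPGroup q N := fun a => ⟨1, Subtype.ext (by simpa using hpow a a.2)⟩
  obtain ⟨k, hk⟩ := hNp.exists_card_eq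
  have hodd : Odd (Nat.card N) := hk ▸ hqodd.pow
  have hc : Subgroup.IsComplement' N P := by
    refine Subgroup.isComplement'_of_disjoint_and_mul_eq_univ (disjoint_iff.mpr hdisj) ?_
    rw [← Subgroup.normal_mul, hprod, Subgroup.coe_top]
  have hsplit : ∀ g : G, ∃ n ∈ N, ∃ y ∈ P, n * y = g := by
    intro g
    have hg : g ∈ ((N ⊔ P : Subgroup G) : Set G) := by rw [hprod]; exact Subgroup.mem_top g
    rw [Subgroup.normal_mul] at hg
    exact Set.mem_mul.mp hg
  obtain ⟨z, hzP, hz2, hz1, hzc⟩ : ∃ z ∈ P, z * z = 1 ∧ z ≠ 1 ∧ ∀ y ∈ P, z * y = y * z := by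
    haveI : Nontrivial P := (Subgroup.nontrivial_iff_ne_bot P).mpr hP1
    haveI := hP.center_nontrivial
    haveI := Fintype.ofFinite (Subgroup.center P)
    obtain ⟨j, hj⟩ := (hP.to_subgroup (Subgroup.center P)).exists_card_eq
    have hdvd : 2 ∣ Nat.card (Subgroup.center P) := by
      rw [hj]
      refine dvd_pow_self 2 fun hj0 => ?_
      rw [hj0, pow_zero] at hj
      exact absurd (Finite.one_lt_card (α := Subgroup.center P)) (by omega)
    obtain ⟨w, hw⟩ := exists_prime_orderOf_dvd_card' 2 hdvd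
    refine ⟨((w : P) : G), (w : P).2, ?_, ?_, fun y hy => ?_⟩
    · have h1 : w * w = 1 := by rw [← pow_two, ← hw, pow_orderOf_eq_one]
      exact congrArg (fun u : Subgroup.center P => ((u : P) : G)) h1
    · intro h
      have h1 : w = 1 := Subtype.ext (Subtype.ext h)
      rw [h1, orderOf_one] at hw
      omega
    · exact (congrArg Subtype.val (Subgroup.mem_center_iff.mp w.2 ⟨y, hy⟩)).symm
  have hnc : ∀ n ∈ N, ∀ y ∈ P, ∀ m : G, n * y * m * (n * y)⁻¹ = n * (y * m * y⁻¹) * n⁻¹ :=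
    fun n _ y _ m => by group
  have hfix : ∀ n ∈ N, z * n = n * z → n = 1 := by
    let F : Subgroup G := N ⊓ Subgroup.centralizer ({z} : Set G)
    have hFn : F.Normal := by
      refine ⟨fun m hm g => ?_⟩
      obtain ⟨hmN, hmc⟩ := Subgroup.mem_inf.mp hm
      obtain ⟨n, hn, y, hy, rfl⟩ := hsplit g
      have h1 : y * m * y⁻¹ ∈ N := hN.conj_mem m hmN y
      rw [hnc n hn y hy, hab n hn _ h1, mul_inv_cancel_right]
      refine Subgroup.mem_inf.mpr ⟨h1, Subgroup.mem_centralizer_singleton_iff.mpr ?_⟩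
      rw [Subgroup.mem_centralizer_singleton_iff] at hmc
      calc y * m * y⁻¹ * z = y * m * (y⁻¹ * (z * y)) * y⁻¹ := by group
        _ = y * (m * z) * y⁻¹ := by rw [hzc y hy]; group
        _ = y * z * m * y⁻¹ := by rw [hmc]; group
        _ = z * (y * m * y⁻¹) := by rw [← hzc y hy]; group
    by_cases hF : F = ⊥
    · intro n hn h
      have : n ∈ F := Subgroup.mem_inf.mpr ⟨hn, Subgroup.mem_centralizer_singleton_iff.mpr h.symm⟩
      rwa [hF, Subgroup.mem_bot] at this
    · exfalso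
      -- then `z` would centralize `N` and be central
      have hle := hmin.2 F hFn hF
      have hzn : ∀ n ∈ N, z * n = n * z := fun n hn =>
        (Subgroup.mem_centralizer_singleton_iff.mp (Subgroup.mem_inf.mp (hle hn)).2).symm
      have hzcen : z ∈ Subgroup.center G := by
        refine Subgroup.mem_center_iff.mpr fun g => ?_
        obtain ⟨n, hn, y, hy, rfl⟩ := hsplit g
        calc n * y * z = n * (y * z) := by group
          _ = n * z * y := by rw [← hzc y hy]; group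
          _ = z * (n * y) := by rw [← hzn n hn]; group
      have h1 := hmin.2 (Subgroup.zpowers z) ⟨fun m hm g => by
        have hm' := (Subgroup.zpowers_le.mpr hzcen) hm
        rwa [Subgroup.mem_center_iff.mp hm' g, mul_inv_cancel_right]⟩ (by simpa using hz1)
      refine hmin.1 (eq_bot_iff.mpr ?_)
      rw [← hdisj]
      exact le_inf le_rfl (h1.trans (Subgroup.zpowers_le.mpr hzP))
  have hzinv : ∀ n ∈ N, z * n * z⁻¹ = n⁻¹ := by
    intro n hn
    have hzi : z⁻¹ = z := inv_eq_of_mul_eq_one_right hz2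
    have h1 : z * n * z⁻¹ ∈ N := hN.conj_mem n hn z
    refine eq_inv_of_mul_eq_one_right (hfix _ (N.mul_mem hn h1) ?_)
    calc z * (n * (z * n * z⁻¹)) = z * n * z⁻¹ * (z * z) * n * z⁻¹ := by group
      _ = (z * n * z⁻¹ * n) * z⁻¹ := by rw [hz2]; group
      _ = n * (z * n * z⁻¹) * z := by rw [hab _ h1 n hn, hzi]
  obtain ⟨o, S, ho2, hoe, hS, hbound⟩ :=
    StrongReal.exists_family N P hc hab hodd hP hzP hz2 hzc hzinv hmin.1
  let C : IrrCharacter G → Prop := fun χ =>
    (Cfsg.charDegree (χ : G → ℂ) = 1 ∨ 2 ∣ Cfsg.charDegree (χ : G → ℂ)) ∧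
      (Nat.card G : ℂ)⁻¹ * ∑ᶠ g : G, (χ : G → ℂ) (g * g) = 1
  have hindC : ∀ χ : IrrCharacter G,
      (Nat.card G : ℂ)⁻¹ * ∑ᶠ g : G, (χ : G → ℂ) (g * g) = indicator (χ : G → ℂ) := fun χ => by
    rw [indicator, finsum_eq_sum_of_fintype]
  set A := Finset.univ.filter C with hA
  have hSA : ∀ χ ∈ S, χ ∈ A ∧ Cfsg.charDegree (χ : G → ℂ) = o := by
    intro χ hχ
    have hd := charDegree_eq (hS χ hχ).1
    refine ⟨Finset.mem_filter.mpr ⟨Finset.mem_univ _, Or.inr ?_, ?_⟩, hd⟩
    · rw [hd]; exact hoe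
    · rw [hindC]; exact (hS χ hχ).2
  set L := A.filter fun χ : IrrCharacter G => Cfsg.charDegree (χ : G → ℂ) = 1 with hL
  have hlin : L.card ≤ o * S.card := by
    have h1 : ∀ χ ∈ L, (χ : G → ℂ) 1 = 1 := by
      intro χ hχ
      obtain ⟨d, -, hd⟩ := exists_nat_degree_irr χ.2
      rw [hd, ← charDegree_eq hd, (Finset.mem_filter.mp hχ).2, Nat.cast_one]
    let F : {χ // χ ∈ L} → (G →* ℂˣ) := fun χ =>
      linearHom (isCharacter_of_isIrr χ.1.2) (h1 χ.1 χ.2)
    have hF : Function.Injective F := fun a b h => Subtype.ext (Subtype.ext (funext fun g => by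
      have := congrArg (fun f : G →* ℂˣ => ((f g : ℂˣ) : ℂ)) h
      simpa [F, linearHom_apply] using this))
    rw [← Finset.card_attach, ← Finset.card_image_of_injective _ hF]
    refine hbound _ fun f hf g => ?_
    obtain ⟨χ, -, rfl⟩ := Finset.mem_image.mp hf
    have hC : C χ.1 := (Finset.mem_filter.mp (Finset.mem_filter.mp χ.2).1).2
    have h2 : indicator (χ.1 : G → ℂ) = 1 := (hindC χ.1).symm.trans hC.2
    by_contra hne
    have h3 := StrongReal.sum_hom_eq_zero (F χ * F χ) fun h => hne (DFunLike.congr_fun h g)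
    have h4 : ∑ g : G, (χ.1 : G → ℂ) (g * g) = 0 := by
      rw [← h3]
      refine Finset.sum_congr rfl fun x _ => ?_
      rw [MonoidHom.mul_apply, ← map_mul]
      rfl
    rw [indicator, h4, mul_zero] at h2
    exact zero_ne_one h2
  show 4 * Nat.card {χ // C χ} ≤ 3 * ∑ᶠ χ : {χ // C χ}, Cfsg.charDegree (χ.1 : G → ℂ)
  rw [finsum_eq_sum_of_fintype,
    ← Finset.sum_subtype A (fun χ => by simp [hA]) (fun χ => Cfsg.charDegree (χ : G → ℂ)),
    Nat.card_eq_fintype_card, Fintype.card_subtype, ← hA]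
  set R := (A \ L) \ S with hR
  have hLA : L ⊆ A := Finset.filter_subset _ _
  have hSAL : S ⊆ A \ L := fun χ hχ => Finset.mem_sdiff.mpr ⟨(hSA χ hχ).1, fun h => by
    have := (Finset.mem_filter.mp h).2
    rw [(hSA χ hχ).2] at this
    omega⟩
  have hsum : ∑ χ ∈ A, Cfsg.charDegree (χ : G → ℂ) = L.card + (o * S.card +
      ∑ χ ∈ R, Cfsg.charDegree (χ : G → ℂ)) := by
    rw [← Finset.sum_sdiff hLA, ← Finset.sum_sdiff hSAL,
      Finset.sum_congr rfl fun χ hχ => (hSA χ hχ).2,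
      Finset.sum_congr rfl (fun χ (hχ : χ ∈ L) => (Finset.mem_filter.mp hχ).2)]
    simp only [Finset.sum_const, smul_eq_mul, mul_one]
    ring
  have hcard : A.card = L.card + (S.card + R.card) := by
    rw [hR, Finset.card_sdiff_of_subset hSAL, Finset.card_sdiff_of_subset hLA]
    have := Finset.card_le_card hLA
    have h2 := Finset.card_le_card hSAL
    rw [Finset.card_sdiff_of_subset hLA] at h2
    omega
  have hRdeg : 2 * R.card ≤ ∑ χ ∈ R, Cfsg.charDegree (χ : G → ℂ) := by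
    rw [mul_comm, ← smul_eq_mul]
    refine Finset.card_nsmul_le_sum R _ 2 fun χ hχ => ?_
    obtain ⟨hχAL, -⟩ := Finset.mem_sdiff.mp hχ
    obtain ⟨hχA, hχL⟩ := Finset.mem_sdiff.mp hχAL
    obtain ⟨d, hd0, hd⟩ := exists_nat_degree_irr χ.2
    rw [charDegree_eq hd]
    have : d ≠ 1 := fun h => hχL (Finset.mem_filter.mpr ⟨hχA, by rw [charDegree_eq hd, h]⟩)
    omega
  have h2S : 2 * S.card ≤ o * S.card := Nat.mul_le_mul_right _ ho2
  omega

end Cfsg.Agent.S4871
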