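import Cfsg.Statements.S4872
import Cfsg.Agent.Lib.Char.PermMultiplicity
import Cfsg.Agent.Lib.Char.MultiplicityDvd
import Cfsg.Agent.Lib.Char.DefectZero
import Cfsg.Agent.Lib.Blocks.CentralChar

set_option autoImplicit false
open Cfsg

namespace Cfsg.Agent.S4872

open CfsgLib.Char
open scoped ComplexConjugate CfsgLib.Char

/-- Let N be a normal subgroup of the finite group G with G/N a 2-group, and let φ be an irreducible complex character of N of 2-defect zero (the 2-part of #N divides φ(1)) whose complex conjugate is G-conjugate to φ. Then some irreducible character of G with Frobenius–Schur indicator +1 contains φ with multiplicity exactly one on restriction to N. -/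
theorem result {G : Type*} [Group G] [Finite G] (N : Subgroup G) [N.Normal] (h2 : IsPGroup 2 (G ⧸ N)) (φ : Cfsg.IrrCharacter ↥N) (hdef : 2 ^ (Nat.card ↥N).factorization 2 ∣ Cfsg.charDegree (φ : ↥N → ℂ)) (hconj : ∃ g : G, ∀ n n' : ↥N, (n' : G) = g * (n : G) * g⁻¹ → (φ : ↥N → ℂ) n' = (starRingEnd ℂ) ((φ : ↥N → ℂ) n)) : ∃ χ : Cfsg.IrrCharacter G, (Nat.card G : ℂ)⁻¹ * ∑ᶠ g : G, (χ : G → ℂ) (g * g) = 1 ∧ (Nat.card ↥N : ℂ)⁻¹ * ∑ᶠ n : ↥N, (χ : G → ℂ) n * (starRingEnd ℂ) ((φ : ↥N → ℂ) n) = 1 := by
  classical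
  haveI := Fintype.ofFinite G
  haveI := Fintype.ofFinite N
  haveI : Fact (Nat.Prime 2) := ⟨Nat.prime_two⟩
  obtain ⟨P⟩ := (inferInstance : Nonempty (Sylow 2 G))
  haveI := Fintype.ofFinite (P : Subgroup G)
  -- the degree
  obtain ⟨d, hd, hd0, hdN⟩ := exists_degree_dvd_card φ.2
  have hdc : charDegree (φ : ↥N → ℂ) = d :=
    Nat.cast_injective ((CfsgLib.Blocks.irr_degree_eq φ).1.symm.trans hd)
  rw [hdc] at hdef
  set v := (Nat.card ↥N).factorization 2 with hv
  obtain ⟨k, hk⟩ := h2.exists_card_eq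
  have hidx : N.index = 2 ^ k := by rw [Subgroup.index_eq_card, hk]
  obtain ⟨d', hd'⟩ := hdef
  have hd'odd : ¬ 2 ∣ d' := by
    intro h
    have h3 : 2 ^ (v + 1) ∣ Nat.card ↥N := by
      refine dvd_trans ?_ hdN
      rw [hd', pow_succ]
      exact mul_dvd_mul_left _ h
    exact Nat.pow_succ_factorization_not_dvd Nat.card_pos.ne' Nat.prime_two h3
  have hPc : Nat.card (P : Subgroup G) = 2 ^ (v + k) := by
    rw [P.card_eq_multiplicity, ← N.card_mul_index, hidx,
      Nat.factorization_mul Nat.card_pos.ne' (by positivity)]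
    simp [Nat.prime_two.factorization_pow, hv]
  -- the induced character on the Sylow subgroup
  set F := indFun N (φ : ↥N → ℂ) with hF
  have hvan : ∀ u : (P : Subgroup G), u ≠ 1 → F u = 0 := by
    intro u hu
    simp only [hF, indFun]
    rw [Finset.sum_eq_zero, mul_zero]
    intro x _
    by_cases hx : x⁻¹ * (u : G) * x ∈ N
    · rw [extendByZero_mem N _ hx]
      refine defect_zero_vanish φ.2 (p := 2) (n := v) hd (Nat.ordProj_dvd _ 2)
        (Nat.pow_succ_factorization_not_dvd Nat.card_pos.ne' Nat.prime_two) ⟨d', hd'⟩ ?_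
      rw [Subgroup.orderOf_mk,
        show orderOf (x⁻¹ * (u : G) * x) = orderOf (u : G) by
          have := CfsgLib.Transfer.orderOf_conj x⁻¹ (u : G)
          simpa using this, Subgroup.orderOf_coe]
      obtain ⟨e, he, hue⟩ := (Nat.dvd_prime_pow Nat.prime_two).mp (hPc ▸ orderOf_dvd_natCard u)
      rw [hue]
      refine dvd_pow_self 2 fun h => hu ?_
      rw [h, pow_zero] at hue
      exact orderOf_eq_one_iff.mp hue
    · exact extendByZero_notMem N _ hx
  have hsumP : classInner (fun u : (P : Subgroup G) => F u) (fun _ => (1 : ℂ)) = (d' : ℂ) := by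
    rw [classInner, Finset.sum_eq_single (1 : (P : Subgroup G))
      (fun u _ hu => by rw [hvan u hu, zero_mul]) (by simp), hPc, map_one, mul_one,
      show F ((1 : (P : Subgroup G)) : G) = (N.index : ℂ) * (φ : ↥N → ℂ) 1 from indFun_one N _,
      hd, hidx, hd']
    push_cast
    field_simp
    ring
  have ha : ∀ χ : IrrCharacter G, ∃ a : ℕ,
      classInner (fun n : N => (χ : G → ℂ) n) (φ : ↥N → ℂ) = a := fun χ =>
    exists_nat_classInner (isCharacter_restrict N (isCharacter_of_isIrr χ.2)) (isCharacter_of_isIrr φ.2)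
  have hb : ∀ χ : IrrCharacter G, ∃ b : ℕ,
      classInner (fun u : (P : Subgroup G) => (χ : G → ℂ) u) (fun _ => (1 : ℂ)) = b := fun χ =>
    exists_nat_classInner (isCharacter_restrict _ (isCharacter_of_isIrr χ.2)) isCharacter_one
  choose a ha using ha
  choose b hb using hb
  have hsum : ∑ χ : IrrCharacter G, a χ * b χ = d' := by
    have hexp := classFunction_expansion (isClassFunction_indFun N (φ : ↥N → ℂ))
    have hco : ∀ χ : IrrCharacter G, classInner F (χ : G → ℂ) = a χ := fun χ => by
      rw [hF, frobenius_reciprocity N _ (isClassFunction_irr χ), ← classInner_conj_symm, ha,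
        map_natCast]
    have h1 : (fun u : (P : Subgroup G) => F u) =
        ∑ χ : IrrCharacter G, (a χ : ℂ) • fun u : (P : Subgroup G) => (χ : G → ℂ) u := by
      funext u
      simp only [Finset.sum_apply, Pi.smul_apply, ← hco]
      have h2 := congrFun hexp (u : G)
      simpa [Finset.sum_apply, hF] using h2
    rw [h1, classInner_sum_left] at hsumP
    simp only [classInner_smul_left, hb] at hsumP
    exact_mod_cast hsumP
  -- complex conjugation pairs the non-real characters
  let bar : IrrCharacter G → IrrCharacter G := fun χ =>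
    ⟨fun g => conj ((χ : G → ℂ) g), isIrrCharacter_conj χ.2⟩
  have hbara : ∀ χ, a (bar χ) = a χ := by
    intro χ
    obtain ⟨g, hg⟩ := hconj
    have hcφ : conjBy N (φ : ↥N → ℂ) g = fun n => conj ((φ : ↥N → ℂ) n) :=
      funext fun n => hg n _ rfl
    have h1 : classInner (fun n : N => (χ : G → ℂ) n) (fun n => conj ((φ : ↥N → ℂ) n)) =
        (a χ : ℂ) := by
      rw [← hcφ, ← ha χ]
      conv_lhs => rw [← conjBy_restrict N (isClassFunction_irr χ) g]
      rw [classInner_conjBy]
    have h2 : (a (bar χ) : ℂ) = conj (classInner (fun n : N => (χ : G → ℂ) n)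
        (fun n => conj ((φ : ↥N → ℂ) n))) := by
      rw [← ha, classInner, classInner, map_mul, map_inv₀, map_natCast, map_sum]
      congr 1
      exact Finset.sum_congr rfl fun n _ => by simp [bar]
    rw [h1, map_natCast] at h2
    exact_mod_cast h2
  have hbarb : ∀ χ, b (bar χ) = b χ := by
    intro χ
    have h2 : (b (bar χ) : ℂ) = conj (b χ : ℂ) := by
      rw [← hb, ← hb, classInner, classInner, map_mul, map_inv₀, map_natCast, map_sum]
      congr 1
      exact Finset.sum_congr rfl fun n _ => by simp [bar]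
    rw [map_natCast] at h2
    exact_mod_cast h2
  obtain ⟨χ, hfix, hodd⟩ : ∃ χ : IrrCharacter G, bar χ = χ ∧ ¬ 2 ∣ a χ * b χ := by
    by_contra hno
    push_neg at hno
    refine hd'odd ?_
    rw [← hsum, ← ZMod.natCast_eq_zero_iff]
    push_cast
    refine Finset.sum_involution (fun χ _ => bar χ) (fun χ _ => ?_) (fun χ _ hne => ?_)
      (fun χ _ => Finset.mem_univ _) (fun χ _ => ?_)
    · rw [hbara, hbarb]
      exact CharTwo.add_self_eq_zero _
    · intro h
      refine hne ?_
      have := (ZMod.natCast_eq_zero_iff (a χ * b χ) 2).mpr (hno χ h)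
      exact_mod_cast this
    · exact Subtype.ext (funext fun g => Complex.conj_conj _)
  rw [Nat.prime_two.dvd_mul, not_or] at hodd
  have hreal : ∀ g, ((χ : G → ℂ) g).im = 0 := fun g =>
    Complex.conj_eq_iff_im.mp (congrFun (congrArg Subtype.val hfix) g)
  have hind := indicator_eq_one_of_odd_fixed χ.2 hreal (P : Subgroup G) (hb χ)
    (Nat.not_even_iff_odd.mp fun h => hodd.2 (even_iff_two_dvd.mp h))
  obtain ⟨e, he, hed⟩ := multiplicity_dvd_index N φ.2 χ.2 (by
    rw [ha χ]; exact Nat.cast_ne_zero.mpr fun h => hodd.1 (h ▸ dvd_zero 2))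
  have hea : e = a χ := Nat.cast_injective (he.symm.trans (ha χ))
  have ha1 : a χ = 1 := by
    rw [hidx, hea] at hed
    obtain ⟨j, -, hj⟩ := (Nat.dvd_prime_pow Nat.prime_two).mp hed
    rcases Nat.eq_zero_or_pos j with rfl | hj0
    · exact hj
    · exact absurd (hj ▸ dvd_pow_self 2 hj0.ne') hodd.1
  refine ⟨χ, ?_, ?_⟩
  · rw [finsum_eq_sum_of_fintype]; exact hind
  · rw [finsum_eq_sum_of_fintype]
    have := ha χ
    rw [ha1, Nat.cast_one] at this
    exact this

end Cfsg.Agent.S4872
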