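import Cfsg.Statements.S4873
import Cfsg.Agent.S4866
import Cfsg.Agent.Lib.Char.Indicator
import Cfsg.Agent.Lib.Char.Constituents

set_option autoImplicit false
set_option linter.style.haveILetI false
open Cfsg
open CfsgLib
open scoped CfsgLib.Char ComplexConjugate

namespace Cfsg.Agent.S4873

/-- Let N be a normal subgroup of odd index in the finite group G. Then every irreducible complex character of N with Frobenius–Schur indicator +1 lies under exactly one irreducible character of G with Frobenius–Schur indicator +1. -/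
theorem result {G : Type*} [Group G] [Finite G] (N : Subgroup G) [N.Normal] (hodd : Odd N.index) (φ : Cfsg.IrrCharacter ↥N) (hφ : (Nat.card ↥N : ℂ)⁻¹ * ∑ᶠ g : ↥N, (φ : ↥N → ℂ) (g * g) = 1) : ∃! χ : Cfsg.IrrCharacter G, (Nat.card G : ℂ)⁻¹ * ∑ᶠ g : G, (χ : G → ℂ) (g * g) = 1 ∧ (∑ᶠ n : ↥N, (χ : G → ℂ) n * (starRingEnd ℂ) ((φ : ↥N → ℂ) n)) ≠ 0 := by
  classical
  haveI := Fintype.ofFinite G
  haveI := Fintype.ofFinite N
  haveI : Finite (Cfsg.IrrCharacter G) := Char.finite_irrCharacter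
  haveI : Finite (Cfsg.IrrCharacter N) := Char.finite_irrCharacter
  have hodd2 : ∀ g : G, g * g ∈ N → g ∈ N := fun g hg => by
    obtain ⟨j, hj⟩ := hodd
    have h := N.mul_mem (N.inv_mem (pow_mem hg j)) (N.pow_index_mem g)
    rwa [hj, ← pow_two, ← pow_mul, pow_succ g (2 * j), ← mul_assoc, inv_mul_cancel, one_mul] at h
  -- the indicator of the induced character
  have hsum : ∀ θ : N → ℂ,
      (Nat.card G : ℂ)⁻¹ * ∑ g : G, Cfsg.indFun N θ (g * g) = (Nat.card N : ℂ)⁻¹ * ∑ n : N, θ (n * n) := by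
    intro θ
    have hind : ∑ g : G, Cfsg.indFun N θ (g * g) = (N.index : ℂ) * ∑ g : G, Cfsg.extendByZero N θ (g * g) := by
      simp only [Cfsg.indFun]
      rw [← Finset.mul_sum, Finset.sum_comm,
        Finset.sum_congr rfl fun x _ => show ∑ g : G, Cfsg.extendByZero N θ (x⁻¹ * (g * g) * x) =
          ∑ g : G, Cfsg.extendByZero N θ (g * g) from
            Fintype.sum_equiv (MulAut.conj x⁻¹).toEquiv _ _ fun g => by simp [mul_assoc],
        Finset.sum_const, Finset.card_univ, ← Nat.card_eq_fintype_card, nsmul_eq_mul, ← mul_assoc]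
      congr 1
      rw [← N.card_mul_index, Nat.cast_mul, ← mul_assoc,
        inv_mul_cancel₀ (Nat.cast_ne_zero.mpr Nat.card_pos.ne'), one_mul]
    rw [hind, ← Finset.sum_filter_add_sum_filter_not Finset.univ (fun g => g ∈ N),
      Finset.sum_eq_zero (s := Finset.univ.filter fun g => ¬ g ∈ N) fun g hg =>
        Char.extendByZero_notMem N θ fun h => (Finset.mem_filter.mp hg).2 (hodd2 g h),
      add_zero, Finset.sum_subtype (Finset.univ.filter (fun g => g ∈ N)) (p := fun g => g ∈ N) (by simp),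
      ← N.card_mul_index, Nat.cast_mul]
    rw [Finset.sum_congr rfl fun (n : N) _ => show Cfsg.extendByZero N θ ((n : G) * n) = θ (n * n) by
      rw [← Subgroup.coe_mul, Char.extendByZero_coe]]
    have h2 : (N.index : ℂ) ≠ 0 := Nat.cast_ne_zero.mpr N.index_ne_zero_of_finite
    field_simp
  let RN := {θ : Cfsg.IrrCharacter N // ∀ k : N, ((θ : N → ℂ) k).im = 0}
  let RG := {χ : Cfsg.IrrCharacter G // ∀ g : G, ((χ : G → ℂ) g).im = 0}
  let rel : RN → RN → Prop := fun θ η => ∃ g : G, ∀ k k' : N, (k' : G) = g * (k : G) * g⁻¹ →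
    (η.1 : N → ℂ) k' = (θ.1 : N → ℂ) k
  let Over : RG → RN → Prop := fun χ θ =>
    Cfsg.classInner (fun n : N => (χ.1 : G → ℂ) n) (θ.1 : N → ℂ) ≠ 0
  have hrel : ∀ (θ η : RN) (g : G), Char.conjBy N (θ.1 : N → ℂ) g = η.1 → Quot.mk rel η = Quot.mk rel θ := by
    intro θ η g h
    refine Quot.sound ⟨g, fun k k' e => ?_⟩
    rw [← congrFun h k]
    exact congrArg (θ.1 : N → ℂ) (Subtype.ext e)
  have hdown : ∀ χ : RG, ∃ θ : RN, Over χ θ := by
    intro χ
    obtain ⟨θ, hθ⟩ := Char.exists_constituent N (Char.isCharacter_of_isIrr χ.1.2)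
      (Char.irr_degree_ne_zero χ.1.2)
    let S := {η : Cfsg.IrrCharacter N // ∃ g, Char.conjBy N (θ : N → ℂ) g = η}
    haveI : Fintype S := Fintype.ofFinite S
    have hcard : Fintype.card S = (Char.orbit N (θ : N → ℂ)).card := by
      rw [← Fintype.card_coe]
      exact Fintype.card_congr
        { toFun := fun η => ⟨(η.1 : N → ℂ), (Char.mem_orbit N).mpr η.2⟩
          invFun := fun η => ⟨⟨η.1, by
            obtain ⟨g, hg⟩ := (Char.mem_orbit N).mp η.2
            rw [← hg]; exact Char.isIrrCharacter_conjBy N θ.2 g⟩, (Char.mem_orbit N).mp η.2⟩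
          left_inv := fun η => rfl
          right_inv := fun η => rfl }
    have hoddS : Odd (Fintype.card S) := by
      rw [hcard, Char.card_orbit_eq_index]
      exact hodd.of_dvd_nat (Subgroup.index_dvd_of_le
        (Char.le_inertia N (Char.isClassFunction_irr θ)))
    have hconj : ∀ η : S, ∃ g, Char.conjBy N (θ : N → ℂ) g = ((Char.conjPerm η.1 : Cfsg.IrrCharacter N) : N → ℂ) := by
      intro η
      obtain ⟨g₀, hg₀⟩ := η.2
      have hη : Cfsg.classInner (fun n : N => (χ.1 : G → ℂ) n) (η.1 : N → ℂ) ≠ 0 := by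
        have hcl := Char.isClassFunction_irr χ.1
        rw [← hg₀, ← Char.conjBy_restrict N hcl g₀, Char.classInner_conjBy]
        exact hθ
      refine Char.exists_conjBy_of_constituents N χ.1.2 θ.2 (Char.conjPerm η.1).2 hθ ?_
      intro h0
      apply hη
      have : Cfsg.classInner (fun n : N => (χ.1 : G → ℂ) n) (η.1 : N → ℂ) =
          conj (Cfsg.classInner (fun n : N => (χ.1 : G → ℂ) n) (Char.conjPerm η.1 : N → ℂ)) := by
        simp only [Cfsg.classInner, map_mul, map_inv₀, map_natCast, map_sum, Char.conjPerm_apply,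
          Complex.conj_conj, Complex.conj_eq_iff_im.mpr (χ.2 _)]
      rw [this, h0, map_zero]
    let c : S → S := fun η => ⟨Char.conjPerm η.1, hconj η⟩
    have hc : Function.Involutive c := fun η => Subtype.ext (Subtype.ext (funext fun n => by simp [c, Char.conjPerm_apply]))
    haveI : Fact (Nat.Prime 2) := ⟨Nat.prime_two⟩
    have hm := Equiv.Perm.card_compl_support_modEq (p := 2) (n := 1) (σ := hc.toPerm c)
      (Equiv.ext fun η => by simp [pow_two, hc η])
    obtain ⟨η, hη⟩ : (hc.toPerm c).supportᶜ.Nonempty := Finset.card_pos.mp (Nat.pos_of_ne_zero fun h0 => by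
      rw [h0, Nat.ModEq, Nat.odd_iff.mp hoddS] at hm
      exact Nat.zero_ne_one hm)
    rw [Finset.mem_compl, Equiv.Perm.notMem_support] at hη
    refine ⟨⟨η.1, fun k => Complex.conj_eq_iff_im.mp (congrFun (congrArg (fun z : S => (z.1 : N → ℂ)) hη) k)⟩, ?_⟩
    obtain ⟨g, hg⟩ := η.2
    show Cfsg.classInner _ (η.1 : N → ℂ) ≠ 0
    rw [← hg, ← Char.conjBy_restrict N (Char.isClassFunction_irr χ.1) g, Char.classInner_conjBy]
    exact hθ
  choose f hf using hdown
  have hup : ∀ θ : RN, (∃ χ : RG, Over χ θ ∧ (Char.indicator (χ.1 : G → ℂ) = 1 ∨ Char.indicator (θ.1 : N → ℂ) ≠ 1)) := by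
    intro θ
    have h := hsum (θ.1 : N → ℂ)
    have hν : Char.indicator (θ.1 : N → ℂ) = 1 ∨ Char.indicator (θ.1 : N → ℂ) = -1 := by
      rcases Char.indicator_cases θ.1.2 with ⟨-, h⟩ | ⟨⟨g, hg⟩, -⟩
      · exact h
      · exact absurd (θ.2 g) hg
    obtain ⟨a, ha⟩ := Char.exists_multiplicities (Char.isCharacter_indFun N (Char.isCharacter_of_isIrr θ.1.2))
    have h2 : ∑ χ : Cfsg.IrrCharacter G, (a χ : ℂ) * Char.indicator (χ : G → ℂ) = Char.indicator (θ.1 : N → ℂ) := by
      refine Eq.trans ?_ h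
      rw [ha]
      simp only [Finset.sum_apply, Pi.smul_apply, smul_eq_mul, Char.indicator, Finset.mul_sum]
      rw [Finset.sum_comm]
      exact Finset.sum_congr rfl fun g _ => Finset.sum_congr rfl fun χ _ => by ring
    by_contra hno
    push Not at hno
    have hzero : ∀ χ : Cfsg.IrrCharacter G, a χ ≠ 0 → Char.indicator (θ.1 : N → ℂ) = 1 ∧
        Char.indicator (χ : G → ℂ) ≠ 1 ∨ Char.indicator (χ : G → ℂ) = 0 := by
      intro χ hχ
      rcases Char.indicator_cases χ.2 with ⟨hr, -⟩ | ⟨-, h0⟩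
      · refine Or.inl ?_
        have hov : Over ⟨χ, hr⟩ θ := by
          show Cfsg.classInner _ _ ≠ 0
          rw [← Char.frobenius_reciprocity' N _ (Char.isClassFunction_irr χ), ← Char.classInner_conj_symm, ha,
            Char.classInner_sum_smul_irr]
          simpa using hχ
        exact ⟨(hno ⟨χ, hr⟩ hov).2, (hno ⟨χ, hr⟩ hov).1⟩
      · exact Or.inr h0
    have hne : ∀ χ : Cfsg.IrrCharacter G, a χ ≠ 0 → Char.indicator (χ : G → ℂ) ≠ 1 := fun χ hχ => by
      rcases hzero χ hχ with h | h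
      · exact h.2
      · rw [h]; exact zero_ne_one
    have hint : ∀ χ : Cfsg.IrrCharacter G, ∃ z : ℤ, (a χ : ℂ) * Char.indicator (χ : G → ℂ) = z ∧ z ≤ 0 := by
      intro χ
      by_cases hχ : a χ = 0
      · exact ⟨0, by simp [hχ], le_rfl⟩
      rcases Char.indicator_cases χ.2 with ⟨-, h | h⟩ | ⟨-, h⟩
      · exact absurd h (hne χ hχ)
      · exact ⟨-(a χ : ℤ), by rw [h]; push_cast; ring, by omega⟩
      · exact ⟨0, by rw [h]; simp, le_rfl⟩
    rcases hν with hν | hν
    · choose z hz hz' using hint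
      rw [Finset.sum_congr rfl fun χ _ => hz χ, hν, ← Int.cast_sum, Int.cast_eq_one] at h2
      have := Finset.sum_nonpos (s := Finset.univ) fun χ _ => hz' χ
      omega
    · rw [hν, Finset.sum_eq_zero (fun χ _ => ?_)] at h2
      · exact neg_ne_zero.mpr one_ne_zero h2.symm
      by_cases hχ : a χ = 0
      · simp [hχ]
      rcases hzero χ hχ with h | h
      · rw [hν] at h; exact absurd h.1 (by norm_num)
      · rw [h, mul_zero]
  let F : RG → Quot rel := fun χ => Quot.mk rel (f χ)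
  have hF : ∀ χ θ, Over χ θ → F χ = Quot.mk rel θ := by
    intro χ θ h
    obtain ⟨g, hg⟩ := Char.exists_conjBy_of_constituents N χ.1.2 θ.1.2 (f χ).1.2 h (hf χ)
    exact hrel θ (f χ) g hg
  have hsurj : Function.Surjective F := fun q => Quot.inductionOn q fun θ => by
    obtain ⟨χ, hχ, -⟩ := hup θ
    exact ⟨χ, hF χ θ hχ⟩
  -- both sides are counted by the real classes of `G`
  haveI : Finite (Quot rel) := Finite.of_surjective (Quot.mk rel) Quot.mk_surjective
  have hcount : Nat.card RG = Nat.card (Quot rel) := by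
    rw [Cfsg.Agent.S4866.result N hodd, Char.card_real_irr]
    symm
    let i : Quot (fun x y : {x : N // IsConj x x⁻¹} => ∃ g : G, (y.1 : G) = g * x.1 * g⁻¹) →
        {C : ConjClasses G // ∀ g : G, ConjClasses.mk g = C → IsConj g g⁻¹} :=
      Quot.lift (fun x => ⟨ConjClasses.mk (x.1 : G), fun g hg => by
        have h1 : IsConj g (x.1 : G) := ConjClasses.mk_eq_mk_iff_isConj.mp hg
        have h2 : IsConj (x.1 : G) (x.1 : G)⁻¹ := N.subtype.map_isConj x.2
        refine h1.trans (h2.trans ?_)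
        obtain ⟨y, hy⟩ := isConj_iff.mp h1.symm
        exact isConj_iff.mpr ⟨y, by rw [← hy]; group⟩⟩)
        fun x y ⟨g, hg⟩ => Subtype.ext (ConjClasses.mk_eq_mk_iff_isConj.mpr (isConj_iff.mpr ⟨g, hg.symm⟩))
    refine Nat.card_congr (Equiv.ofBijective i ⟨fun a b => ?_, fun C => ?_⟩)
    · induction a using Quot.ind with | _ x => ?_
      induction b using Quot.ind with | _ y => ?_
      intro h
      obtain ⟨g, hg⟩ := isConj_iff.mp (ConjClasses.mk_eq_mk_iff_isConj.mp (congrArg Subtype.val h))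
      exact Quot.sound ⟨g, hg.symm⟩
    · obtain ⟨C, hC⟩ := C
      obtain ⟨x, rfl⟩ := ConjClasses.exists_rep C
      obtain ⟨g, hg⟩ := isConj_iff.mp (hC x rfl)
      have hxN : x ∈ N := by
        refine hodd2 x ?_
        have e1 : ((x : G) : G ⧸ N)⁻¹ = (g : G ⧸ N) * x * (g : G ⧸ N)⁻¹ := by
          rw [← QuotientGroup.mk_inv N x, ← hg]; rfl
        have e2 : ∀ (Q : Type _) [Group Q] (n : ℕ) (a b : Q), Odd n → b ^ n = 1 → b * a * b⁻¹ = a⁻¹ → a * a = 1 := by
          intro Q _ n a b hn hb hab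
          have hj : ∀ j : ℕ, b ^ (2 * j + 1) * a * (b ^ (2 * j + 1))⁻¹ = a⁻¹ := by
            intro j
            induction j with
            | zero => simpa using hab
            | succ j ih =>
              have e3 : b * a⁻¹ * b⁻¹ = a := by
                have h := congrArg Inv.inv hab
                simpa [mul_assoc] using h
              rw [show b ^ (2 * (j + 1) + 1) * a * (b ^ (2 * (j + 1) + 1))⁻¹ =
                b * (b * (b ^ (2 * j + 1) * a * (b ^ (2 * j + 1))⁻¹) * b⁻¹) * b⁻¹ by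
                  rw [show 2 * (j + 1) + 1 = 2 * j + 1 + 1 + 1 by ring, pow_succ', pow_succ' b (2 * j + 1)]
                  group, ih, e3, hab]
          obtain ⟨j, hj'⟩ := hn
          have h := hj j
          rw [← hj', hb, one_mul, inv_one, mul_one] at h
          exact mul_eq_one_iff_eq_inv.mpr h
        have := e2 (G ⧸ N) N.index (x : G ⧸ N) (g : G ⧸ N) hodd
          (by rw [← QuotientGroup.mk_pow, (QuotientGroup.eq_one_iff _).mpr (N.pow_index_mem g)]) e1.symm
        rwa [← QuotientGroup.mk_mul, QuotientGroup.eq_one_iff] at this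
      obtain ⟨j, hj⟩ := hodd
      have hN2 : IsConj (⟨x, hxN⟩ : N) (⟨x, hxN⟩ : N)⁻¹ := by
        have hpow : ∀ j : ℕ, g ^ (2 * j + 1) * x * (g ^ (2 * j + 1))⁻¹ = x⁻¹ := by
          intro j
          induction j with
          | zero => simpa using hg
          | succ j ih =>
            have e3 : g * x⁻¹ * g⁻¹ = x := by
              have h := congrArg Inv.inv hg
              simpa [mul_assoc] using h
            rw [show g ^ (2 * (j + 1) + 1) * x * (g ^ (2 * (j + 1) + 1))⁻¹ =
              g * (g * (g ^ (2 * j + 1) * x * (g ^ (2 * j + 1))⁻¹) * g⁻¹) * g⁻¹ by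
                rw [show 2 * (j + 1) + 1 = 2 * j + 1 + 1 + 1 by ring, pow_succ', pow_succ' g (2 * j + 1)]
                group, ih, e3, hg]
        refine isConj_iff.mpr ⟨⟨g ^ N.index, N.pow_index_mem g⟩, Subtype.ext ?_⟩
        show g ^ N.index * x * (g ^ N.index)⁻¹ = x⁻¹
        rw [hj]; exact hpow j
      exact ⟨Quot.mk _ ⟨⟨x, hxN⟩, hN2⟩, rfl⟩
  have hbij := (Nat.bijective_iff_surjective_and_card F).mpr ⟨hsurj, hcount⟩
  rw [finsum_eq_sum_of_fintype] at hφ
  have hφr : ∀ k : N, ((φ : N → ℂ) k).im = 0 := by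
    rcases Char.indicator_cases φ.2 with ⟨h, -⟩ | ⟨-, h⟩
    · exact h
    · exact absurd (hφ.symm.trans h) one_ne_zero
  obtain ⟨χ, hχ, hν⟩ := hup ⟨φ, hφr⟩
  have hν1 : Char.indicator (χ.1 : G → ℂ) = 1 := hν.resolve_right fun h => h hφ
  have hiff : ∀ η : Cfsg.IrrCharacter G, (∑ᶠ n : N, (η : G → ℂ) n * (starRingEnd ℂ) ((φ : N → ℂ) n)) ≠ 0 ↔
      Cfsg.classInner (fun n : N => (η : G → ℂ) n) (φ : N → ℂ) ≠ 0 := fun η => by
    rw [finsum_eq_sum_of_fintype, Cfsg.classInner]
    simp only [ne_eq, mul_eq_zero, inv_eq_zero, Nat.cast_eq_zero, Nat.card_pos.ne', false_or]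
  refine ⟨χ.1, ⟨by rw [finsum_eq_sum_of_fintype]; exact hν1, (hiff χ.1).mpr hχ⟩, fun η hη => ?_⟩
  obtain ⟨hη1, hη2⟩ := hη
  rw [finsum_eq_sum_of_fintype] at hη1
  have hηr : ∀ g : G, ((η : G → ℂ) g).im = 0 := by
    rcases Char.indicator_cases η.2 with ⟨h, -⟩ | ⟨-, h⟩
    · exact h
    · exact absurd (hη1.symm.trans h) one_ne_zero
  have he : (⟨η, hηr⟩ : RG) = χ := hbij.1
    ((hF ⟨η, hηr⟩ ⟨φ, hφr⟩ ((hiff η).mp hη2)).trans (hF χ ⟨φ, hφr⟩ hχ).symm)
  exact congrArg Subtype.val he

end Cfsg.Agent.S4873
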