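import Cfsg.Statements.S4878
import Cfsg.Agent.Lib.KGVTrans.ExtraClasses

set_option autoImplicit false
open Cfsg

namespace CfsgLib.KGVTrans

/-- A split extension of a group of order `p` by a cyclic group of order `p - 1`, faithfully. -/
theorem nonempty_affine_iso {p : ℕ} [hp : Fact p.Prime] {Q : Type*} [Group Q] [Finite Q]
    (D : TwoClassData p Q) (hO : Cfsg.pPrimeCore p Q = ⊥) (hV : Nat.card D.V = p)
    (hH : Nat.card D.H = p - 1) : Nonempty (Q ≃* ↥(Cfsg.affineGroup (ZMod p))) := by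
  classical
  haveI := D.normal
  obtain ⟨v0, hv0, hv01⟩ := (Subgroup.bot_or_exists_ne_one D.V).resolve_left D.ne_bot
  have hord : orderOf v0 = p := orderOf_eq_prime (D.exp v0 hv0) hv01
  have hpow : ∀ v ∈ D.V, ∃ j : ℕ, v0 ^ j = v := fun v hv => by
    have hle : Subgroup.zpowers v0 = D.V := Subgroup.eq_of_le_of_card_ge
      (Subgroup.zpowers_le.mpr hv0) (by rw [hV, Nat.card_zpowers, hord])
    rw [← hle, mem_zpowers_iff_mem_range_orderOf, Finset.mem_image] at hv
    obtain ⟨j, -, hj⟩ := hv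
    exact ⟨j, hj⟩
  have hmod : ∀ a b : ℕ, (a : ZMod p) = b → v0 ^ a = v0 ^ b := fun a b h => by
    rw [pow_eq_pow_iff_modEq, hord]
    exact (ZMod.natCast_eq_natCast_iff _ _ _).mp h
  let e : ZMod p → Q ⧸ D.H := fun i => ((v0 ^ i.val : Q) : Q ⧸ D.H)
  have he : Function.Bijective e := by
    rw [Nat.bijective_iff_injective_and_card]
    refine ⟨fun i j h => ?_, ?_⟩
    · rw [QuotientGroup.eq] at h
      have h1 : (v0 ^ i.val)⁻¹ * v0 ^ j.val = 1 :=
        D.eq_one_of_mem (mul_mem (inv_mem (pow_mem hv0 _)) (pow_mem hv0 _)) h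
      rw [inv_mul_eq_one, pow_eq_pow_iff_modEq, hord] at h1
      rw [← ZMod.natCast_zmod_val i, ← ZMod.natCast_zmod_val j]
      exact (ZMod.natCast_eq_natCast_iff _ _ _).mpr h1
    · rw [Nat.card_zmod, ← Subgroup.index_eq_card, D.compl.index_eq_card, hV]
  let E := Equiv.ofBijective e he
  let φ : Q →* Equiv.Perm (ZMod p) :=
    E.symm.permCongrHom.toMonoidHom.comp (MulAction.toPermHom Q (Q ⧸ D.H))
  have hφ : ∀ x i, φ x i = E.symm (x • e i) := fun x i => rfl
  have hinj : Function.Injective φ := by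
    refine (injective_iff_map_eq_one φ).mpr fun x hx => ?_
    have hmem : x ∈ D.H.normalCore := fun g => by
      obtain ⟨i, hi⟩ := he.2 ((g⁻¹ : Q) : Q ⧸ D.H)
      have h1 : x • e i = e i := by
        have h2 := congrArg E (DFunLike.congr_fun hx i)
        rw [hφ, E.apply_symm_apply] at h2
        exact h2
      rw [hi] at h1
      change ((x * g⁻¹ : Q) : Q ⧸ D.H) = ((g⁻¹ : Q) : Q ⧸ D.H) at h1
      rw [QuotientGroup.eq] at h1
      have h2 := inv_mem h1
      simpa [mul_assoc] using h2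
    have hle : D.H.normalCore ≤ Cfsg.pPrimeCore p Q :=
      CfsgLib.Transfer.le_pPrimeCore (Subgroup.normalCore_normal _)
        (((hp.out.coprime_iff_not_dvd.mpr D.not_dvd).symm).coprime_dvd_left
          (Subgroup.card_dvd_of_le (Subgroup.normalCore_le _)))
    exact Subgroup.mem_bot.mp (hO ▸ hle hmem)
  have hmem : ∀ x, φ x ∈ Cfsg.affineGroup (ZMod p) := by
    intro x
    obtain ⟨v, hv, h, hh, rfl⟩ := D.prod_eq x
    obtain ⟨b, hb⟩ := hpow v hv
    obtain ⟨a, ha⟩ := hpow (h * v0 * h⁻¹) ((inferInstance : D.V.Normal).conj_mem v0 hv0 h)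
    have ha0 : (a : ZMod p) ≠ 0 := fun h0 => by
      refine hv01 ((conj_eq_one_iff (a := h)).mp ?_)
      rw [← ha, hmod a 0 (by rw [h0, Nat.cast_zero]), pow_zero]
    refine ⟨Units.mk0 (a : ZMod p) ha0, (b : ZMod p), fun i => ?_⟩
    rw [hφ, Equiv.symm_apply_eq]
    show (((v * h) * v0 ^ i.val : Q) : Q ⧸ D.H) = ((v0 ^ ((a : ZMod p) * i + b).val : Q) : Q ⧸ D.H)
    rw [hmod ((a : ZMod p) * i + b).val (a * i.val + b) (by push_cast; simp), QuotientGroup.eq, pow_add,
      pow_mul, ha, conj_pow, hb]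
    have : (v * h * v0 ^ i.val)⁻¹ * (h * v0 ^ i.val * h⁻¹ * v) = h⁻¹ := by
      rw [D.comm _ ((inferInstance : D.V.Normal).conj_mem _ (pow_mem hv0 _) h) v hv]
      group
    rw [this]
    exact inv_mem hh
  let F : Q →* ↥(Cfsg.affineGroup (ZMod p)) := φ.codRestrict _ hmem
  have hF : Function.Injective F := fun a b h => hinj (congrArg Subtype.val h :)
  refine ⟨MulEquiv.ofBijective F ((Nat.bijective_iff_injective_and_card _).mpr ⟨hF, ?_⟩)⟩
  refine le_antisymm (Nat.card_le_card_of_injective F hF) ?_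
  let g : ↥(Cfsg.affineGroup (ZMod p)) → {c : ZMod p // c ≠ 0} × ZMod p := fun σ =>
    (⟨σ.1 1 - σ.1 0, sub_ne_zero.mpr fun h => one_ne_zero (σ.1.injective h)⟩, σ.1 0)
  have hg : Function.Injective g := by
    rintro ⟨σ, u, w, hσ⟩ ⟨τ, u', w', hτ⟩ h
    simp only [g, Prod.mk.injEq, Subtype.mk.injEq] at h
    rw [hσ, hσ, hτ, hτ] at h
    simp only [mul_one, mul_zero, zero_add, add_sub_cancel_right] at h
    exact Subtype.ext (Equiv.ext fun i => by
      show σ i = τ i
      rw [hσ, hτ, h.1, h.2])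
  refine (Nat.card_le_card_of_injective g hg).trans (le_of_eq ?_)
  rw [Nat.card_prod, ← D.compl.card_mul, hV, hH, Nat.card_zmod, mul_comm]
  congr 1
  haveI := Fintype.ofFinite {c : ZMod p // c ≠ 0}
  rw [Nat.card_eq_fintype_card, Fintype.card_subtype_compl, Fintype.card_subtype_eq, ZMod.card]

end CfsgLib.KGVTrans

namespace Cfsg.Agent.S4878

open CfsgLib CfsgLib.KGVTrans

/-- Let p be a prime and G a finite p-solvable group of order divisible by p in which all non-identity p-elements are conjugate. Then G has at least p conjugacy classes of p-regular elements; or G has exactly p − 1 of them and is isomorphic to the one-dimensional affine group over the field with p elements; or p = 11, G has exactly 9 of them, G has order 121·120 and G is a Frobenius group whose complement is isomorphic to SL(2,5). -/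
theorem result {G : Type*} [Group G] [Finite G] (p : ℕ) [Fact p.Prime] (hsolv : Cfsg.IsPSolvable p G) (hdiv : p ∣ Nat.card G) (hconj : ∀ x y : G, x ≠ 1 → y ≠ 1 → (∃ k : ℕ, orderOf x = p ^ k) → (∃ k : ℕ, orderOf y = p ^ k) → IsConj x y) : p ≤ Nat.card {c : ConjClasses G // ∃ g : G, ConjClasses.mk g = c ∧ ¬ p ∣ orderOf g} ∨ (Nat.card {c : ConjClasses G // ∃ g : G, ConjClasses.mk g = c ∧ ¬ p ∣ orderOf g} = p - 1 ∧ Nonempty (G ≃* ↥(Cfsg.affineGroup (ZMod p)))) ∨ (p = 11 ∧ Nat.card {c : ConjClasses G // ∃ g : G, ConjClasses.mk g = c ∧ ¬ p ∣ orderOf g} = 9 ∧ (Nat.card G = 121 * 120 ∧ ∃ H : Subgroup G, Cfsg.IsFrobeniusComplement H ∧ Nonempty (↥H ≃* Matrix.SpecialLinearGroup (Fin 2) (ZMod 5)))) := by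
  classical
  haveI := CfsgLib.Transfer.pPrimeCore_normal p G
  show p ≤ Nat.card (RegClass p G) ∨ (Nat.card (RegClass p G) = p - 1 ∧ _) ∨
    (p = 11 ∧ Nat.card (RegClass p G) = 9 ∧ _)
  by_cases hO : Cfsg.pPrimeCore p G = ⊥
  · obtain ⟨D⟩ := exists_twoClassData hsolv hO hdiv hconj
    rcases D.trichotomy with h | ⟨hfree, hV, -, hH, hk⟩ | ⟨hfree, h11, hV, hH, hk, hiso⟩
    · exact Or.inl (h.trans D.card_classes_le)
    · exact Or.inr (Or.inl ⟨by rw [D.card_classes_eq hfree, hk], nonempty_affine_iso D hO hV hH⟩)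
    · haveI := D.normal
      refine Or.inr (Or.inr ⟨h11, by rw [D.card_classes_eq hfree, hk],
        by rw [← D.compl.card_mul, hV, hH], D.H, ⟨fun h => ?_, fun h => ?_, fun g hg => ?_⟩, hiso⟩)
      · rw [h, Subgroup.card_bot] at hH
        omega
      · have h1 := D.compl.card_mul
        rw [← (Subgroup.card_top (G := G)), ← h, hH, hV] at h1
        omega
      · rw [eq_bot_iff]
        intro x hxx
        obtain ⟨hx, hx'⟩ := Subgroup.mem_inf.mp hxx
        rw [Subgroup.mem_pointwise_smul_iff_inv_smul_mem, ← map_inv, MulAut.smul_def,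
          MulAut.conj_apply, inv_inv] at hx'
        obtain ⟨v, hv, h, hh, rfl⟩ := D.prod_eq g
        have hv1 : v ≠ 1 := fun e => hg (by rw [e, one_mul]; exact hh)
        have hy : v⁻¹ * x * v ∈ D.H := by
          have := mul_mem (mul_mem hh hx') (inv_mem hh)
          simpa [mul_assoc] using this
        have h1 : x⁻¹ * (v⁻¹ * x * v) = 1 := D.eq_one_of_mem (by
          rw [show x⁻¹ * (v⁻¹ * x * v) = (x⁻¹ * v⁻¹ * x) * v by group]
          exact mul_mem (by simpa using D.normal.conj_mem _ (inv_mem hv) x⁻¹) hv)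
          (mul_mem (inv_mem hx) hy)
        have h2 : x * v = v * x := by
          calc x * v = v * (v⁻¹ * x * v) := by group
            _ = v * x := by rw [← inv_mul_eq_one.mp h1]
        exact Subgroup.mem_bot.mpr (hfree x hx v hv hv1 h2)
  · set f := QuotientGroup.mk' (Cfsg.pPrimeCore p G) with hf
    have hfs : Function.Surjective f := QuotientGroup.mk'_surjective _
    have hk' : f.ker = Cfsg.pPrimeCore p G := QuotientGroup.ker_mk' _
    have hOQ := PSolvable.pPrimeCore_eq_bot_of_ker hfs hk'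
    have hdivQ : p ∣ Nat.card (G ⧸ Cfsg.pPrimeCore p G) := by
      rw [Subgroup.card_eq_card_quotient_mul_card_subgroup (Cfsg.pPrimeCore p G)] at hdiv
      exact ((Fact.out : p.Prime).dvd_mul.mp hdiv).resolve_right CfsgLib.Transfer.not_dvd_card_pPrimeCore
    obtain ⟨D⟩ := exists_twoClassData (PSolvable.isPSolvable_of_surjective f hfs hsolv) hOQ hdivQ
      (fun x y hx hy hxp hyp => by
        obtain ⟨x', rfl, hxp'⟩ := exists_pElement_lift f hfs hxp
        obtain ⟨y', rfl, hyp'⟩ := exists_pElement_lift f hfs hyp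
        exact f.map_isConj (hconj x' y' (fun h => hx (by rw [h, map_one]))
          (fun h => hy (by rw [h, map_one])) hxp' hyp'))
    obtain ⟨o, ho, ho1⟩ := (Subgroup.bot_or_exists_ne_one _).resolve_left hO
    have hop : ¬ p ∣ orderOf o := fun hd => CfsgLib.Transfer.not_dvd_card_pPrimeCore (p := p) (G := G)
      ((Subgroup.orderOf_coe (⟨o, ho⟩ : Cfsg.pPrimeCore p G) ▸ hd).trans (orderOf_dvd_natCard _))
    have hone := regClass_add_le (p := p) f hfs (m := 1) (fun _ => o) (fun _ => ho1)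
      (fun _ => by rw [← MonoidHom.mem_ker, hk']; exact ho) (fun _ => hop) fun i j _ => Subsingleton.elim i j
    have hle := D.card_classes_le
    have hp1 : 1 ≤ p := (Fact.out : p.Prime).one_le
    rcases D.trichotomy with h | ⟨-, -, -, -, hk⟩ | ⟨-, h11, hV, hH, hk, hiso⟩
    · exact Or.inl (by omega)
    · exact Or.inl (by omega)
    · subst h11
      exact Or.inl (eleven_le f hfs (by rw [hk']; exact hO)
        (by rw [hk']; exact CfsgLib.Transfer.not_dvd_card_pPrimeCore) D hV hH hk hiso hconj)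

end Cfsg.Agent.S4878
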