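import Cfsg.Statements.S4885
import Cfsg.Agent.Lib.PSolvable.TwoPrimes

set_option autoImplicit false
open Cfsg

namespace Cfsg.Agent.S4885

open CfsgLib CfsgLib.Blocks
open scoped CfsgLib.Char

theorem trivial_of_block {G : Type*} [Group G] [Finite G] (p q : ℕ) [Fact p.Prime] [Fact q.Prime]
    (hps : IsPSolvable p G) (hqs : IsPSolvable q G) (Mp Mq : Ideal AlgInt) (hMp : IsPModular p Mp)
    (hMq : IsPModular q Mq) (h : ∀ χ : IrrCharacter G, χ ∈ principalBlock Mp G →
      ¬ p ∣ charDegree (χ : G → ℂ) → χ ∈ principalBlock Mq G)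
    [(pPrimeCore p G).Normal] [(pPrimeCore q G).Normal]
    (η : IrrCharacter (G ⧸ pPrimeCore p G)) (hη : ¬ p ∣ charDegree (η : G ⧸ pPrimeCore p G → ℂ))
    (r : G) (hr : r ∈ pPrimeCore q G) (g : G ⧸ pPrimeCore p G) :
    (η : G ⧸ pPrimeCore p G → ℂ) (g * QuotientGroup.mk' _ r) = (η : G ⧸ pPrimeCore p G → ℂ) g := by
  obtain ⟨g, rfl⟩ := QuotientGroup.mk'_surjective (pPrimeCore p G) g
  set χ := inflate (QuotientGroup.mk' (pPrimeCore p G))
    (QuotientGroup.mk'_surjective (pPrimeCore p G)) η with hχdef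
  have hd : charDegree (χ : G → ℂ) = charDegree (η : G ⧸ pPrimeCore p G → ℂ) := by
    show ⌊((η : G ⧸ pPrimeCore p G → ℂ) (QuotientGroup.mk' _ 1)).re⌋₊ = _
    rw [map_one]; rfl
  have h1 := h χ ((mem_principalBlock_iff_of_pSolvable hMp hps χ).mpr ⟨η, rfl⟩) (hd ▸ hη)
  obtain ⟨η', he⟩ := (mem_principalBlock_iff_of_pSolvable hMq hqs χ).mp h1
  have e : ∀ y : G, (η : G ⧸ pPrimeCore p G → ℂ) (QuotientGroup.mk' _ y) =
      (η' : G ⧸ pPrimeCore q G → ℂ) (QuotientGroup.mk' _ y) := fun y =>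
    congrFun (congrArg (fun z : IrrCharacter G => (z : G → ℂ)) he) y
  rw [← map_mul, e, e, map_mul,
    show QuotientGroup.mk' (pPrimeCore q G) r = 1 from (QuotientGroup.eq_one_iff r).mpr hr, mul_one]

theorem core_embedded {G : Type*} [Group G] [Finite G] (p : ℕ) [Fact p.Prime] (L R : Subgroup G)
    [L.Normal] [R.Normal] (hL : (Nat.card L).Coprime p)
    (hLmax : ∀ N : Subgroup G, N.Normal → (Nat.card N).Coprime p → N ≤ L)
    (h : ∀ η : IrrCharacter (G ⧸ L), ¬ p ∣ charDegree (η : G ⧸ L → ℂ) → ∀ r ∈ R, ∀ g : G ⧸ L,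
      (η : G ⧸ L → ℂ) (g * QuotientGroup.mk' L r) = (η : G ⧸ L → ℂ) g)
    (K : Subgroup G) [K.Normal] (hK : K = L ⊓ R) :
    IsPGroup p (R.map (QuotientGroup.mk' K)) ∧ ∃ H : Subgroup (G ⧸ K),
      R.map (QuotientGroup.mk' K) ≤ (frattini ↥H).map H.subtype := by
  obtain ⟨P⟩ := (inferInstance : Nonempty (Sylow p G))
  set f := QuotientGroup.mk' K with hf
  have hfs : Function.Surjective f := QuotientGroup.mk'_surjective K
  obtain ⟨K₁, hK₁n, hK₁R, hK₁c, a, ha⟩ := TwoPrimes.exists_normal_complement R P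
    fun x hx hxP => TwoPrimes.inf_sylow_le_commutator L R hL h P hx hxP
  have hle : K₁ ≤ K := hK ▸ le_inf (hLmax K₁ hK₁n hK₁c) hK₁R
  have hRp : IsPGroup p (R.map f) := by
    rintro ⟨_, r, hr, rfl⟩
    refine ⟨a, Subtype.ext ?_⟩
    have h1 := Subgroup.pow_index_mem (K₁.subgroupOf R) ⟨r, hr⟩
    rw [show (K₁.subgroupOf R).index = p ^ a from ha] at h1
    rw [SubmonoidClass.coe_pow, Subgroup.coe_one, ← map_pow, hf, QuotientGroup.mk'_apply,
      QuotientGroup.eq_one_iff]
    exact hle h1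
  refine ⟨hRp, (P.mapSurjective hfs : Sylow p (G ⧸ K)), ?_⟩
  rintro y hy
  have hRn : (R.map f).Normal := Subgroup.Normal.map inferInstance f hfs
  obtain ⟨u, hu, rfl⟩ : y ∈ (P : Subgroup G).map f := by
    have := (Fitting.le_pCore hRn hRp).trans
      ((Fitting.pCore_eq_iInf_sylow p).le.trans (iInf_le _ (P.mapSurjective hfs))) hy
    exact this
  have huR : u ∈ R := by
    obtain ⟨r, hr, e⟩ := hy
    have h1 : r⁻¹ * u ∈ K := QuotientGroup.eq.mp e
    simpa using R.mul_mem hr ((hK.le h1).2)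
  have hc := TwoPrimes.inf_sylow_le_commutator L R hL h P huR hu
  let φ : ↥(P : Subgroup G) →* ↥((P.mapSurjective hfs : Sylow p (G ⧸ K)) : Subgroup (G ⧸ K)) :=
    (f.comp (P : Subgroup G).subtype).codRestrict _ fun x => ⟨x, x.2, rfl⟩
  refine ⟨φ ⟨u, hu⟩, (CfsgLib.PSolvable.commutator_le_frattini (P.mapSurjective hfs).2).1 ?_, rfl⟩
  have h2 : (commutator ↥(P : Subgroup G)).map φ ≤ commutator _ := by
    rw [commutator_def, commutator_def, Subgroup.map_commutator]
    exact Subgroup.commutator_mono le_top le_top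
  exact h2 (Subgroup.mem_map_of_mem _ hc)

/-- Let p and q be primes dividing the order of the finite group G, and suppose G is p-solvable and q-solvable. Fix maximal ideals of the algebraic integers containing p and q, defining the principal p-block and the principal q-block. If the irreducible characters of degree prime to p in the principal p-block are exactly the irreducible characters of degree prime to q in the principal q-block, then p = q. -/
theorem result {G : Type*} [Group G] [Finite G] (p q : ℕ) [Fact p.Prime] [Fact q.Prime] (hp : p ∣ Nat.card G) (hq : q ∣ Nat.card G) (hps : Cfsg.IsPSolvable p G) (hqs : Cfsg.IsPSolvable q G) (Mp Mq : Ideal Cfsg.AlgInt) (hMp : Cfsg.IsPModular p Mp) (hMq : Cfsg.IsPModular q Mq) (h : ∀ χ : Cfsg.IrrCharacter G, (χ ∈ Cfsg.principalBlock Mp G ∧ ¬ p ∣ Cfsg.charDegree (χ : G → ℂ)) ↔ (χ ∈ Cfsg.principalBlock Mq G ∧ ¬ q ∣ Cfsg.charDegree (χ : G → ℂ))) : p = q := by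
  by_contra hpq
  haveI := Transfer.pPrimeCore_normal p G
  haveI := Transfer.pPrimeCore_normal q G
  set L := pPrimeCore p G with hL
  set R := pPrimeCore q G with hR
  set K : Subgroup G := L ⊓ R with hK
  haveI : K.Normal := Subgroup.normal_inf_normal L R
  obtain ⟨hRp, HR, hRf⟩ := core_embedded p L R (Transfer.pPrimeCore_coprime p)
    (fun N hN hc => Transfer.le_pPrimeCore hN hc)
    (fun η hη r hr g => trivial_of_block p q hps hqs Mp Mq hMp hMq
      (fun χ h1 h2 => ((h χ).mp ⟨h1, h2⟩).1) η hη r hr g) K rfl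
  obtain ⟨hLq, HL, hLf⟩ := core_embedded q R L (Transfer.pPrimeCore_coprime q)
    (fun N hN hc => Transfer.le_pPrimeCore hN hc)
    (fun η hη r hr g => trivial_of_block q p hqs hps Mq Mp hMq hMp
      (fun χ h1 h2 => ((h χ).mpr ⟨h1, h2⟩).1) η hη r hr g) K (inf_comm _ _)
  have hfs := QuotientGroup.mk'_surjective K
  have hmax : ∀ (s : ℕ), Fact s.Prime → (Nat.card K).Coprime s → ∀ N : Subgroup (G ⧸ K), N.Normal →
      (Nat.card N).Coprime s → N ≤ (pPrimeCore s G).map (QuotientGroup.mk' K) := by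
    intro s _ hKs N hN hc
    rw [← Subgroup.map_comap_eq_self_of_surjective hfs N]
    refine Subgroup.map_mono (Transfer.le_pPrimeCore (hN.comap _) ?_)
    rw [PSolvable.card_comap_of_surjective hfs, QuotientGroup.ker_mk']
    exact hKs.mul_left hc
  haveI : (L.map (QuotientGroup.mk' K)).Normal := Subgroup.Normal.map inferInstance _ hfs
  haveI : (R.map (QuotientGroup.mk' K)).Normal := Subgroup.Normal.map inferInstance _ hfs
  haveI hss := TwoPrimes.subsingleton_of_cores (p := p) (q := q) hpq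
    (PSolvable.isPSolvable_of_surjective _ hfs hps) (PSolvable.isPSolvable_of_surjective _ hfs hqs)
    _ _ hLq hRp
    (hmax p inferInstance ((Transfer.pPrimeCore_coprime p).coprime_dvd_left
      (Subgroup.card_dvd_of_le inf_le_left)))
    (hmax q inferInstance ((Transfer.pPrimeCore_coprime q).coprime_dvd_left
      (Subgroup.card_dvd_of_le inf_le_right)))
    HL HR hLf hRf
  have htop : L = ⊤ := eq_top_iff.mpr fun g _ =>
    ((QuotientGroup.eq_one_iff g).mp (Subsingleton.elim _ _) : g ∈ K).1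
  have h1 := Transfer.pPrimeCore_coprime (G := G) p
  rw [← hL, htop, Subgroup.card_top] at h1
  exact (Nat.Prime.coprime_iff_not_dvd Fact.out).mp h1.symm hp

end Cfsg.Agent.S4885
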