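import Cfsg.Statements.S4886
import Cfsg.Agent.Lib.PSolvable.TwoPrimesDegree

set_option autoImplicit false
open Cfsg

namespace Cfsg.Agent.S4886

open CfsgLib CfsgLib.Blocks
open scoped commutatorElement CfsgLib.Char

variable {G : Type*} [Group G] [Finite G] {p q : ℕ} [Fact p.Prime] [Fact q.Prime]

theorem charDegree_eq {H : Type*} [Group H] {χ : H → ℂ} {d : ℕ} (h : χ 1 = d) :
    charDegree χ = d := by
  rw [charDegree, h, Complex.natCast_re, Nat.floor_natCast]

/-- The first direction, one prime at a time. -/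
theorem not_dvd_index (hpq : p ≠ q) (hps : IsPSolvable p G) (hqs : IsPSolvable q G) (M : Ideal AlgInt)
    (hM : IsPModular p M) (h : ∀ χ : IrrCharacter G, χ ∈ principalBlock M G →
      ¬ p ∣ charDegree (χ : G → ℂ) → ¬ q ∣ charDegree (χ : G → ℂ)) :
    ¬ q ∣ (pPrimeCore p G).index := by
  haveI := Transfer.pPrimeCore_normal p G
  have hs := QuotientGroup.mk'_surjective (pPrimeCore p G)
  rw [Subgroup.index_eq_card]
  refine TwoPrimes.not_dvd_card hpq (PSolvable.isPSolvable_of_surjective _ hs hps)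
    (PSolvable.isPSolvable_of_surjective _ hs hqs) (fun N hN hc => ?_) fun η d hd hpd => ?_
  · have h1 := PSolvable.pPrimeCore_eq_bot_of_ker hs (QuotientGroup.ker_mk' (pPrimeCore p G))
    exact le_bot_iff.mp (h1 ▸ Transfer.le_pPrimeCore hN hc)
  · have he : charDegree (inflate (QuotientGroup.mk' (pPrimeCore p G)) hs η : G → ℂ) = d := by
      refine charDegree_eq ?_
      show (η : G ⧸ pPrimeCore p G → ℂ) (QuotientGroup.mk' _ 1) = d
      rw [map_one]; exact hd
    rw [← he] at hpd ⊢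
    exact h _ ((mem_principalBlock_iff_of_pSolvable hM hps _).mpr ⟨η, rfl⟩) hpd

/-- The converse, one prime at a time. -/
theorem not_dvd_degree (hpq : p ≠ q) (hps : IsPSolvable p G) (M : Ideal AlgInt) (hM : IsPModular p M)
    (P : Sylow p G) (Q : Sylow q G) (h : ∀ x ∈ (P : Subgroup G), ∀ y ∈ (Q : Subgroup G), x * y = y * x)
    (χ : IrrCharacter G) (hχ : χ ∈ principalBlock M G) : ¬ q ∣ charDegree (χ : G → ℂ) := by
  haveI := Transfer.pPrimeCore_normal p G
  have hs := QuotientGroup.mk'_surjective (pPrimeCore p G)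
  obtain ⟨η, rfl⟩ := (mem_principalBlock_iff_of_pSolvable hM hps χ).mp hχ
  set L := pPrimeCore p G
  set f := QuotientGroup.mk' L with hf
  obtain ⟨d, hd, -, hdvd⟩ := CfsgLib.Char.exists_degree_dvd_card η.2
  rw [charDegree_eq (d := d) (show (η : G ⧸ L → ℂ) (f 1) = d by rw [map_one]; exact hd)]
  intro hqd
  have hqc : q ∣ Nat.card (G ⧸ L) := hqd.trans hdvd
  have hC := PSolvable.centralizer_pCore_le (p := p) (PSolvable.isPSolvable_of_surjective _ hs hps)
    (PSolvable.pPrimeCore_eq_bot_of_ker hs (QuotientGroup.ker_mk' L))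
  have hle : Cfsg.pCore p (G ⧸ L) ≤ (P : Subgroup G).map f :=
    (Fitting.pCore_eq_iInf_sylow p).le.trans (iInf_le _ (P.mapSurjective hs))
  have hQ : (Q : Subgroup G).map f ≤ Cfsg.pCore p (G ⧸ L) := by
    refine le_trans ?_ hC
    rintro _ ⟨y, hy, rfl⟩ z hz
    obtain ⟨x, hx, rfl⟩ := hle hz
    rw [← map_mul, ← map_mul, h x hx y hy]
  obtain ⟨a, ha⟩ := IsPGroup.iff_card.mp (Fitting.pCore_isPGroup (G := G ⧸ L) p)
  have h1 : q ∣ p ^ a := ha ▸ ((Q.mapSurjective hs).dvd_card_of_dvd_card hqc).trans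
    (Subgroup.card_dvd_of_le hQ)
  exact hpq ((Nat.prime_dvd_prime_iff_eq Fact.out Fact.out).mp
    ((Fact.out : q.Prime).dvd_of_dvd_pow h1)).symm

/-- Sylow subgroups commute once they fall into the two cores. -/
theorem exists_commuting (hpq : p ≠ q) (h1 : ¬ q ∣ (pPrimeCore p G).index)
    (h2 : ¬ p ∣ (pPrimeCore q G).index) :
    ∃ (P : Sylow p G) (Q : Sylow q G), ∀ x ∈ (P : Subgroup G), ∀ y ∈ (Q : Subgroup G), x * y = y * x := by
  haveI := Transfer.pPrimeCore_normal p G
  haveI := Transfer.pPrimeCore_normal q G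
  set L := pPrimeCore p G
  set R := pPrimeCore q G
  obtain ⟨P⟩ := (inferInstance : Nonempty (Sylow p G))
  haveI := P.2.isNilpotent
  have hcop : (Nat.card (P : Subgroup G)).Coprime (Nat.card L) := by
    obtain ⟨k, hk⟩ := IsPGroup.iff_card.mp P.2
    rw [hk]; exact (Transfer.pPrimeCore_coprime p).symm.pow_left k
  obtain ⟨S, hS⟩ := CfsgLib.Coprime.exists_invariant_sylow (A := (P : Subgroup G)) (K := L)
    Subgroup.le_normalizer_of_normal hcop (Or.inl inferInstance) q
  set Q := (S : Subgroup L).map L.subtype with hQ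
  have hQc : Nat.card Q = q ^ (Nat.card G).factorization q := by
    rw [hQ, Subgroup.card_map_of_injective L.subtype_injective, S.card_eq_multiplicity,
      ← L.card_mul_index, Nat.factorization_mul Nat.card_pos.ne' Subgroup.index_ne_zero_of_finite,
      Finsupp.add_apply, Nat.factorization_eq_zero_of_not_dvd h1, add_zero]
  have hPR : (P : Subgroup G) ≤ R := by
    intro x hx
    obtain ⟨k, hk⟩ := P.2 ⟨x, hx⟩
    have hk' : x ^ p ^ k = 1 := congrArg Subtype.val hk
    have e1 : orderOf (QuotientGroup.mk' R x) ∣ p ^ k :=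
      (orderOf_map_dvd _ x).trans (orderOf_dvd_of_pow_eq_one hk')
    have e2 : orderOf (QuotientGroup.mk' R x) ∣ R.index := by
      rw [Subgroup.index_eq_card]; exact orderOf_dvd_natCard _
    refine (QuotientGroup.eq_one_iff x).mp (orderOf_eq_one_iff.mp ?_)
    exact Nat.eq_one_of_dvd_coprimes
      (((Fact.out : p.Prime).coprime_iff_not_dvd.mpr h2).pow_left k) e1 e2
  refine ⟨P, Sylow.ofCard Q hQc, fun x hx y hy => ?_⟩
  rw [Sylow.coe_ofCard] at hy
  have hyL : y ∈ L := Subgroup.map_subtype_le _ hy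
  have m1 : ⁅x, y⁆ ∈ R := by
    have := R.mul_mem (hPR hx) ((inferInstance : R.Normal).conj_mem _ (R.inv_mem (hPR hx)) y)
    simpa [commutatorElement_def, mul_assoc] using this
  have m2 : ⁅x, y⁆ ∈ Q :=
    Q.mul_mem ((Subgroup.mem_normalizer_iff.mp (hS hx) y).mp hy) (Q.inv_mem hy)
  obtain ⟨k, hk⟩ := IsPGroup.iff_orderOf.mp (S.2.map L.subtype) ⟨_, m2⟩
  rw [Subgroup.orderOf_mk] at hk
  refine commutatorElement_eq_one_iff_mul_comm.mp (orderOf_eq_one_iff.mp ?_)
  exact Nat.eq_one_of_dvd_coprimes ((Transfer.pPrimeCore_coprime q).symm.pow_left k)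
    (hk ▸ dvd_refl _) (Subgroup.orderOf_dvd_natCard _ m1)

/-- Let p ≠ q be primes and G a finite group that is p-solvable and q-solvable. Fix maximal ideals of the algebraic integers containing p and q, defining the principal p-block and the principal q-block. Then every irreducible character of degree prime to p in the principal p-block has degree prime to q and every irreducible character of degree prime to q in the principal q-block has degree prime to p, if and only if some Sylow p-subgroup of G commutes elementwise with some Sylow q-subgroup. -/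
theorem result {G : Type*} [Group G] [Finite G] (p q : ℕ) [Fact p.Prime] [Fact q.Prime] (hpq : p ≠ q) (Mp Mq : Ideal Cfsg.AlgInt) (hMp : Cfsg.IsPModular p Mp) (hMq : Cfsg.IsPModular q Mq) (hps : Cfsg.IsPSolvable p G) (hqs : Cfsg.IsPSolvable q G) : ((∀ χ : Cfsg.IrrCharacter G, χ ∈ Cfsg.principalBlock Mp G → ¬ p ∣ Cfsg.charDegree (χ : G → ℂ) → ¬ q ∣ Cfsg.charDegree (χ : G → ℂ)) ∧ (∀ χ : Cfsg.IrrCharacter G, χ ∈ Cfsg.principalBlock Mq G → ¬ q ∣ Cfsg.charDegree (χ : G → ℂ) → ¬ p ∣ Cfsg.charDegree (χ : G → ℂ))) ↔ ∃ (P : Sylow p G) (Q : Sylow q G), ∀ x ∈ (P : Subgroup G), ∀ y ∈ (Q : Subgroup G), x * y = y * x := by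
  constructor
  · rintro ⟨h1, h2⟩
    exact exists_commuting hpq (not_dvd_index hpq hps hqs Mp hMp h1)
      (not_dvd_index hpq.symm hqs hps Mq hMq h2)
  · rintro ⟨P, Q, h⟩
    exact ⟨fun χ hχ _ => not_dvd_degree hpq hps Mp hMp P Q h χ hχ,
      fun χ hχ _ => not_dvd_degree hpq.symm hqs Mq hMq Q P (fun x hx y hy => (h y hy x hx).symm) χ hχ⟩

end Cfsg.Agent.S4886
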