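import Cfsg.Statements.S4888
import Cfsg.Agent.Lib.Blocks.RegularCriterion
import Cfsg.Agent.Lib.Blocks.KernelBlock
import Cfsg.Agent.Lib.Blocks.Sections
import Cfsg.Agent.Lib.Blocks.Covering
import Cfsg.Agent.Lib.Blocks.OrbitSum
import Cfsg.Agent.Lib.Char.ExtendChar
import Cfsg.Agent.Lib.Char.Central

set_option autoImplicit false
open Cfsg
open scoped CfsgLib.Char

namespace Cfsg.Agent.S4888

/-- Let G be a finite group, p a prime and M a maximal ideal of the algebraic integers containing p. Then all height-zero irreducible characters of the principal p-block of G (equivalently, all its characters of degree prime to p) have the same degree if and only if G has a normal p-complement. -/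
theorem result {G : Type*} [Group G] [Finite G] (p : ℕ) [Fact p.Prime] (M : Ideal Cfsg.AlgInt) (hM : Cfsg.IsPModular p M) : (∃ d : ℕ, ∀ χ : Cfsg.IrrCharacter G, χ ∈ (Cfsg.principalBlock M G) → Cfsg.blockHeight p (Cfsg.principalBlock M G) (χ : G → ℂ) = 0 → Cfsg.charDegree (χ : G → ℂ) = d) ↔ Cfsg.HasNormalPComplement p G := by
  classical
  have : Fintype G := Fintype.ofFinite G
  have := CfsgLib.Blocks.isPrime_of_isPModular hM
  have hB0 : IsPBlock M (principalBlock M G) := CfsgLib.Blocks.isPBlock_principalBlock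
  have htriv : CfsgLib.Blocks.trivIrr G ∈ principalBlock M G := by
    rw [CfsgLib.Blocks.principalBlock_eq]; exact CfsgLib.Blocks.mem_blockOf_self _
  have hdeg1 : ∀ (H : Type _) [Group H], charDegree (CfsgLib.Blocks.trivIrr H : H → ℂ) = 1 :=
    fun H _ => by
      rw [charDegree, show (CfsgLib.Blocks.trivIrr H : H → ℂ) 1 = 1 from rfl]; simp
  have hheight : ∀ χ : IrrCharacter G, χ ∈ principalBlock M G →
      (blockHeight p (principalBlock M G) (χ : G → ℂ) = 0 ↔ ¬ p ∣ charDegree (χ : G → ℂ)) := by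
    intro χ hχ
    have h0 : sInf ((fun ψ : IrrCharacter G => (charDegree (ψ : G → ℂ)).factorization p) ''
        principalBlock M G) = 0 :=
      Nat.le_zero.mp (Nat.sInf_le ⟨CfsgLib.Blocks.trivIrr G, htriv, by
        show (charDegree (CfsgLib.Blocks.trivIrr G : G → ℂ)).factorization p = 0
        rw [hdeg1 G]; simp⟩)
    rw [blockHeight, h0, Nat.sub_zero, Nat.factorization_eq_zero_iff]
    exact ⟨fun h => (h.resolve_left (not_not.mpr hM.1)).resolve_right
      (CfsgLib.Blocks.irr_degree_eq χ).2.ne', fun h => Or.inr (Or.inl h)⟩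
  constructor
  · rintro ⟨d, hd⟩
    have hlin : ∀ χ : IrrCharacter G, χ ∈ principalBlock M G →
        ¬ p ∣ charDegree (χ : G → ℂ) → charDegree (χ : G → ℂ) = 1 := by
      intro χ hχ hp
      rw [hd χ hχ ((hheight χ hχ).mpr hp), ← hd _ htriv ((hheight _ htriv).mpr (by
        rw [hdeg1 G, Nat.dvd_one]; exact hM.1.ne_one)), hdeg1 G]
    set N : Subgroup G := Subgroup.closure {g : G | IsPRegular p g} with hN
    have hreg : ∀ g : G, IsPRegular p g → g ∈ N := fun g hg => Subgroup.subset_closure hg
    have hNn : N.Normal := by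
      refine ⟨fun n hn g => ?_⟩
      induction hn using Subgroup.closure_induction with
      | mem y hy => exact hreg _ (by
          rwa [IsPRegular, show orderOf (g * y * g⁻¹) = orderOf y from
            orderOf_injective (MulAut.conj g).toMonoidHom (MulAut.conj g).injective y])
      | one => simp
      | mul a b _ _ ha hb => rw [show g * (a * b) * g⁻¹ = g * a * g⁻¹ * (g * b * g⁻¹) by group]; exact N.mul_mem ha hb
      | inv a _ ha => rw [show g * a⁻¹ * g⁻¹ = (g * a * g⁻¹)⁻¹ by group]; exact N.inv_mem ha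
    have hquot : IsPGroup p (G ⧸ N) := by
      refine IsPGroup.iff_orderOf.mpr fun q => ?_
      obtain ⟨g, rfl⟩ := QuotientGroup.mk'_surjective N q
      obtain ⟨a, ⟨y, rfl, -, ⟨k, hk⟩, hy⟩, -⟩ := CfsgLib.Blocks.exists_isPPart hM.1 g
      rw [map_mul, show (QuotientGroup.mk' N) y = 1 from (QuotientGroup.eq_one_iff y).mpr (hreg y hy),
        mul_one]
      obtain ⟨j, -, hj⟩ := (Nat.dvd_prime_pow hM.1).mp (hk ▸ orderOf_map_dvd (QuotientGroup.mk' N) a)
      exact ⟨j, hj⟩
    obtain ⟨m, hm⟩ := IsPGroup.iff_card.mp hquot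
    rw [← Subgroup.index_eq_card] at hm
    obtain ⟨P⟩ : Nonempty (Sylow p G) := inferInstance
    by_cases hpN : p ∣ Nat.card N
    swap
    · refine ⟨P, N, hNn, Subgroup.isComplement'_of_coprime ?_ ?_⟩
      · rw [P.card_eq_multiplicity]
        have h := N.card_mul_index
        rw [hm] at h
        rw [← h, Nat.factorization_mul Nat.card_pos.ne' (pow_ne_zero m hM.1.ne_zero),
          Finsupp.add_apply, Nat.factorization_eq_zero_of_not_dvd hpN, zero_add,
          Nat.Prime.factorization_pow hM.1, Finsupp.single_eq_same]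
      · rw [P.card_eq_multiplicity]
        exact Nat.Coprime.pow_right _ ((Nat.Prime.coprime_iff_not_dvd hM.1).mpr hpN).symm
    exfalso
    have : Fintype N := Fintype.ofFinite N
    have hb0 : IsPBlock M (principalBlock M N) := CfsgLib.Blocks.isPBlock_principalBlock
    have hNgen : ∀ {H : Type} [CommGroup H] (f : N →* H),
        (∀ n : N, IsPRegular p (n : G) → f n = 1) → ∀ n : N, f n = 1 := by
      intro H _ f hf n
      have key : ∀ g, g ∈ N → ∃ h : g ∈ N, f ⟨g, h⟩ = 1 := by
        intro g hg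
        induction hg using Subgroup.closure_induction with
        | mem y hy => exact ⟨hreg y hy, hf ⟨y, hreg y hy⟩ hy⟩
        | one => exact ⟨N.one_mem, map_one f⟩
        | mul a b _ _ ha hb =>
          obtain ⟨ha, ha'⟩ := ha
          obtain ⟨hb, hb'⟩ := hb
          exact ⟨N.mul_mem ha hb, by
            rw [show (⟨a * b, N.mul_mem ha hb⟩ : N) = ⟨a, ha⟩ * ⟨b, hb⟩ from rfl, map_mul, ha', hb',
              one_mul]⟩
        | inv a _ ha =>
          obtain ⟨ha, ha'⟩ := ha
          exact ⟨N.inv_mem ha, by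
            rw [show (⟨a⁻¹, N.inv_mem ha⟩ : N) = ⟨a, ha⟩⁻¹ from rfl, map_inv, ha', inv_one]⟩
      obtain ⟨_, h⟩ := key n n.2
      exact h
    -- conjugation by `P` on the principal block of `N`
    have hst : ∀ (g : G) (θ : IrrCharacter N), θ ∈ principalBlock M N →
        CfsgLib.Blocks.conjI g θ ∈ principalBlock M N := by
      intro g θ hθ
      rw [CfsgLib.Blocks.principalBlock_eq] at hθ ⊢
      have h := CfsgLib.Blocks.sameBlock_inflate (MulAut.conjNormal g : MulAut N).toMonoidHom
        (MulAut.conjNormal g : MulAut N).surjective hθ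
      exact h
    letI act : MulAction (P : Subgroup G) {θ : IrrCharacter N // θ ∈ principalBlock M N} :=
      { smul := fun q θ => ⟨CfsgLib.Blocks.conjI (q : G)⁻¹ θ.1, hst _ _ θ.2⟩
        one_smul := fun θ => Subtype.ext (by
          show CfsgLib.Blocks.conjI ((1 : (P : Subgroup G)) : G)⁻¹ θ.1 = θ.1
          rw [OneMemClass.coe_one, inv_one, CfsgLib.Blocks.conjI_one])
        mul_smul := fun a b θ => Subtype.ext (by
          show CfsgLib.Blocks.conjI ((a * b : (P : Subgroup G)) : G)⁻¹ θ.1 =
            CfsgLib.Blocks.conjI (a : G)⁻¹ (CfsgLib.Blocks.conjI (b : G)⁻¹ θ.1)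
          rw [Subgroup.coe_mul, mul_inv_rev, CfsgLib.Blocks.conjI_mul]) }
    set d2 : {θ : IrrCharacter N // θ ∈ principalBlock M N} → ℕ :=
      fun θ => charDegree (θ.1 : N → ℂ) ^ 2 with hd2
    have hinvd : ∀ (q : (P : Subgroup G)) (θ : {θ : IrrCharacter N // θ ∈ principalBlock M N}),
        d2 (q • θ) = d2 θ := by
      intro q θ
      simp only [hd2]
      congr 1
      show charDegree (CfsgLib.Blocks.conjI (q : G)⁻¹ θ.1 : N → ℂ) = _
      rw [charDegree, charDegree, CfsgLib.Blocks.coe_conjI, CfsgLib.Char.conjBy_apply_one]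
    have hallsum : MemLocalIdeal M (∑ θ, (d2 θ : ℂ)) := by
      obtain ⟨u, hu⟩ := exists_prime_orderOf_dvd_card' p hpN
      have h1 : IsPRegular p (1 : N) := by
        rw [IsPRegular, orderOf_one, Nat.dvd_one]; exact hM.1.ne_one
      have hus : ¬ IsPRegular p u := fun h => h (by rw [hu])
      set s : Finset (IrrCharacter N) := {θ | θ ∈ principalBlock M N}
      have hU : CfsgLib.Blocks.IsBlockUnion M (s : Set (IrrCharacter N)) := by
        simpa [s] using CfsgLib.Blocks.IsPBlock.isBlockUnion hb0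
      have h := CfsgLib.Blocks.sum_block_mul_conj_eq_zero hM hU h1 hus
      rw [show (∑ θ, (d2 θ : ℂ)) = ∑ θ ∈ s, (θ : N → ℂ) 1 * (θ : N → ℂ) 1 from ?_]
      · refine (CfsgLib.Blocks.memLocalIdeal_iff_of_sub ?_).mpr
          (h ▸ CfsgLib.Blocks.memLocalIdeal_zero)
        rw [← Finset.sum_sub_distrib]
        refine CfsgLib.Blocks.memLocalIdeal_sum _ _ fun θ _ => ?_
        rw [← mul_sub]
        refine CfsgLib.Blocks.memLocalIdeal_mul_left
          (CfsgLib.Blocks.memLocalRing_of_isIntegral (CfsgLib.Blocks.irr_isIntegral θ.2 _)) ?_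
        have h2 := CfsgLib.Blocks.res_value_mul_pElement hM θ.2 (Commute.one_right u⁻¹)
          ⟨1, by rw [orderOf_inv, hu, pow_one]⟩
        rw [mul_one, CfsgLib.Blocks.irr_value_inv θ.2] at h2
        exact CfsgLib.Blocks.memLocalIdeal_sub_comm ((CfsgLib.Blocks.res_eq_iff
          (by rw [← CfsgLib.Blocks.irr_value_inv θ.2]; exact
            CfsgLib.Blocks.memLocalRing_of_isIntegral (CfsgLib.Blocks.irr_isIntegral θ.2 _))
          (CfsgLib.Blocks.memLocalRing_of_isIntegral (CfsgLib.Blocks.irr_isIntegral θ.2 1))).mp h2)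
      · rw [← Finset.sum_subtype s (fun θ => by simp [s]) (fun θ : IrrCharacter N =>
          ((charDegree (θ : N → ℂ) ^ 2 : ℕ) : ℂ))]
        refine Finset.sum_congr rfl fun θ _ => ?_
        rw [(CfsgLib.Blocks.irr_degree_eq θ).1]
        push_cast
        ring
    have hfix := CfsgLib.Blocks.memLocalIdeal_sum_sub_fixed hM P.2 (f := fun θ => (d2 θ : ℂ))
      (fun θ => CfsgLib.Blocks.memLocalRing_natCast _) (fun q θ => by rw [hinvd q θ])
    -- linear members of the principal block fixed by `P`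
    let L : Subgroup (N →* ℂˣ) :=
      { carrier := {l | (∀ n : N, IsPRegular p n → MemLocalIdeal M
          (((Subgroup.centralizer ({n} : Set N)).index : ℂ) * ((l n : ℂ) - 1))) ∧
          ∀ q ∈ (P : Subgroup G), ∀ n : N, l ⟨q * n * q⁻¹, hNn.conj_mem n n.2 q⟩ = l n}
        one_mem' := ⟨fun n _ => by simp [CfsgLib.Blocks.memLocalIdeal_zero], fun _ _ _ => rfl⟩
        mul_mem' := fun {a b} ha hb => ⟨fun n hn => by
          have e : ((Subgroup.centralizer ({n} : Set N)).index : ℂ) * (((a * b) n : ℂˣ) - 1 : ℂ) =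
              (a n : ℂ) * (((Subgroup.centralizer ({n} : Set N)).index : ℂ) * ((b n : ℂ) - 1)) +
              ((Subgroup.centralizer ({n} : Set N)).index : ℂ) * ((a n : ℂ) - 1) := by
            rw [MonoidHom.mul_apply, Units.val_mul]; ring
          rw [e]
          exact CfsgLib.Blocks.memLocalIdeal_add (CfsgLib.Blocks.memLocalIdeal_mul_left
            (CfsgLib.Blocks.memLocalRing_of_isIntegral (CfsgLib.Blocks.irr_isIntegral
              (CfsgLib.Char.isIrrCharacter_monoidHom a) n)) (hb.1 n hn)) (ha.1 n hn),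
          fun q hq n => by simp [ha.2 q hq n, hb.2 q hq n]⟩
        inv_mem' := fun {a} ha => ⟨fun n hn => by
          have e : ((Subgroup.centralizer ({n} : Set N)).index : ℂ) * ((a⁻¹ n : ℂˣ) - 1 : ℂ) =
              -((a⁻¹ n : ℂˣ) : ℂ) * (((Subgroup.centralizer ({n} : Set N)).index : ℂ) * ((a n : ℂ) - 1)) := by
            rw [MonoidHom.inv_apply, Units.val_inv_eq_inv_val]
            field_simp
            ring
          rw [e]
          exact CfsgLib.Blocks.memLocalIdeal_mul_left (CfsgLib.Blocks.memLocalRing_neg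
            (CfsgLib.Blocks.memLocalRing_of_isIntegral (CfsgLib.Blocks.irr_isIntegral
              (CfsgLib.Char.isIrrCharacter_monoidHom a⁻¹) n))) (ha.1 n hn),
          fun q hq n => by simp [ha.2 q hq n]⟩ }
    let toIrr : (N →* ℂˣ) → IrrCharacter N := fun l =>
      ⟨fun n => (l n : ℂ), CfsgLib.Char.isIrrCharacter_monoidHom l⟩
    have htoIrr : Function.Injective toIrr := fun a b h =>
      MonoidHom.ext fun n => Units.ext (congrFun (congrArg Subtype.val h) n)
    have : Finite (IrrCharacter N) := CfsgLib.Char.finite_irrCharacter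
    have : Finite (N →* ℂˣ) := Finite.of_injective toIrr htoIrr
    have hLp : ¬ p ∣ Nat.card L := fun h => by
      obtain ⟨l, hl⟩ := exists_prime_orderOf_dvd_card' p h
      have hl0 : l ≠ 1 := fun h1 => by rw [h1, orderOf_one] at hl; exact hM.1.ne_one hl.symm
      refine hl0 (Subtype.ext (MonoidHom.ext ?_))
      refine hNgen (l : N →* ℂˣ) fun n hn => ?_
      have h1 : ((l : N →* ℂˣ) n) ^ p = 1 := by
        rw [← MonoidHom.pow_apply, ← SubgroupClass.coe_pow, ← hl, pow_orderOf_eq_one]; rfl
      have h2 : orderOf ((l : N →* ℂˣ) n) ∣ orderOf (n : G) := by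
        rw [Subgroup.orderOf_coe]; exact orderOf_map_dvd _ n
      refine orderOf_eq_one_iff.mp (Nat.eq_one_of_dvd_coprimes
        ((Nat.Prime.coprime_iff_not_dvd hM.1).mpr hn) (orderOf_dvd_of_pow_eq_one h1) h2)
    set F : Finset {θ : IrrCharacter N // θ ∈ principalBlock M N} :=
      {θ | θ ∈ MulAction.fixedPoints (P : Subgroup G) _}
    have hFsum : MemLocalIdeal M (∑ θ ∈ F, (d2 θ : ℂ)) :=
      (CfsgLib.Blocks.memLocalIdeal_iff_of_sub hfix).mp hallsum
    obtain ⟨θ, hθF, hθp, hθ1⟩ : ∃ θ ∈ F, ¬ p ∣ charDegree (θ.1 : N → ℂ) ∧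
        charDegree (θ.1 : N → ℂ) ≠ 1 := by
      by_contra hno
      push Not at hno
      set F1 := F.filter fun θ => charDegree (θ.1 : N → ℂ) = 1
      have hLF : Nat.card L = F1.card := by
        rw [← Nat.card_eq_finsetCard]
        refine Nat.card_eq_of_bijective (fun l => ⟨⟨toIrr l.1, ?_⟩, ?_⟩) ⟨?_, ?_⟩
        · refine CfsgLib.Blocks.mem_principalBlock_of_regular hM fun n hn => ?_
          have := l.2.1 n hn
          convert this using 1
          simp only [centralChar, toIrr, map_one, Units.val_one, div_one]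
          ring
        · refine Finset.mem_filter.mpr ⟨Finset.mem_filter.mpr ⟨Finset.mem_univ _, fun q => ?_⟩, ?_⟩
          · refine Subtype.ext (Subtype.ext ?_)
            show (CfsgLib.Blocks.conjI (q : G)⁻¹ (toIrr l.1) : N → ℂ) = _
            rw [CfsgLib.Blocks.coe_conjI]
            funext n
            exact congrArg Units.val (l.2.2 _ ((P : Subgroup G).inv_mem q.2) n)
          · show charDegree (fun n : N => ((l.1 n : ℂˣ) : ℂ)) = 1
            simp [charDegree]
        · exact fun a b h => Subtype.ext (htoIrr (congrArg (fun x => x.1.1) h))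
        · rintro ⟨⟨θ, hθ⟩, hθ'⟩
          obtain ⟨hfx, h1⟩ := Finset.mem_filter.mp hθ'
          have h11 : (θ : N → ℂ) 1 = 1 := by
            rw [(CfsgLib.Blocks.irr_degree_eq θ).1, show charDegree (θ : N → ℂ) = 1 from h1, Nat.cast_one]
          set f := CfsgLib.Char.linearHom (CfsgLib.Char.isCharacter_of_isIrr θ.2) h11
          have hf : ∀ n, ((f n : ℂˣ) : ℂ) = (θ : N → ℂ) n := fun n => rfl
          refine ⟨⟨f, fun n hn => ?_, fun q hq n => Units.ext ?_⟩, Subtype.ext (Subtype.ext rfl)⟩
          · have h := (CfsgLib.Blocks.mem_principalBlock_iff.mp hθ) n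
            convert h using 1
            rw [centralChar, h11, hf, div_one]
            ring
          · rw [hf, hf]
            have hq' := (Finset.mem_filter.mp hfx).2 (⟨q, hq⟩⁻¹ : (P : Subgroup G))
            have := congrArg (fun x => (x.1 : N → ℂ) n) hq'
            simp only at this
            show (θ : N → ℂ) _ = _
            have e : (CfsgLib.Blocks.conjI ((⟨q, hq⟩⁻¹ : (P : Subgroup G)) : G)⁻¹ θ : N → ℂ) n =
                (θ : N → ℂ) n := this
            rw [CfsgLib.Blocks.coe_conjI, CfsgLib.Char.conjBy_apply] at e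
            convert e using 3
            all_goals simp
      refine hLp ((CfsgLib.Blocks.memLocalIdeal_natCast_iff hM).mp ?_)
      rw [hLF]
      refine (CfsgLib.Blocks.memLocalIdeal_iff_of_sub ?_).mp hFsum
      rw [← Finset.sum_filter_add_sum_filter_not F fun θ => charDegree (θ.1 : N → ℂ) = 1,
        Finset.sum_congr rfl (g := fun _ => (1 : ℂ)) (s₁ := F.filter fun θ => charDegree (θ.1 : N → ℂ) = 1)
          (fun θ hθ => by simp [hd2, (Finset.mem_filter.mp hθ).2]),
        Finset.sum_const, nsmul_eq_mul, mul_one, add_sub_cancel_left]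
      refine CfsgLib.Blocks.memLocalIdeal_sum _ _ fun θ hθ => ?_
      obtain ⟨h1, h2⟩ := Finset.mem_filter.mp hθ
      simp only [hd2, Nat.cast_pow, pow_two, Nat.cast_mul]
      refine CfsgLib.Blocks.memLocalIdeal_mul_left (CfsgLib.Blocks.memLocalRing_natCast _)
        ((CfsgLib.Blocks.memLocalIdeal_natCast_iff hM).mpr ?_)
      by_contra hp
      exact h2 (hno θ h1 hp)
    have hinv : ∀ g : G, CfsgLib.Char.conjBy N (θ.1 : N → ℂ) g = (θ.1 : N → ℂ) := by
      set S : Subgroup G :=
        { carrier := {g | CfsgLib.Char.conjBy N (θ.1 : N → ℂ) g = (θ.1 : N → ℂ)}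
          mul_mem' := fun {a b} ha hb => by
            show CfsgLib.Char.conjBy N (θ.1 : N → ℂ) (a * b) = _
            rw [CfsgLib.Char.conjBy_mul, show CfsgLib.Char.conjBy N (θ.1 : N → ℂ) a = _ from ha]
            exact hb
          one_mem' := CfsgLib.Char.conjBy_one N _
          inv_mem' := fun {a} ha => by
            show CfsgLib.Char.conjBy N (θ.1 : N → ℂ) a⁻¹ = _
            conv_lhs => rw [← (show CfsgLib.Char.conjBy N (θ.1 : N → ℂ) a = _ from ha)]
            rw [← CfsgLib.Char.conjBy_mul, mul_inv_cancel, CfsgLib.Char.conjBy_one] }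
      have hNS : N ≤ S := fun g hg => CfsgLib.Char.conjBy_mem N (CfsgLib.Blocks.irr_classFunction θ.1) hg
      have hPS : (P : Subgroup G) ≤ S := fun q hq => by
        have h := (Finset.mem_filter.mp hθF).2 (⟨q, hq⟩⁻¹ : (P : Subgroup G))
        have h' := congrArg (fun x => (x.1 : N → ℂ)) h
        have e : (CfsgLib.Blocks.conjI ((⟨q, hq⟩⁻¹ : (P : Subgroup G)) : G)⁻¹ θ.1 : N → ℂ) =
            (θ.1 : N → ℂ) := h'
        rw [CfsgLib.Blocks.coe_conjI] at e
        show CfsgLib.Char.conjBy N (θ.1 : N → ℂ) q = _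
        simpa using e
      have htop : S = ⊤ := by
        refine Subgroup.index_eq_one.mp (Nat.eq_one_of_dvd_coprimes (a := N.index) (b := (P : Subgroup G).index)
          ?_ (Subgroup.index_dvd_of_le hNS) (Subgroup.index_dvd_of_le hPS))
        rw [hm]
        exact Nat.Coprime.pow_left _ ((Nat.Prime.coprime_iff_not_dvd hM.1).mpr P.not_dvd_index)
      exact fun g => (htop ▸ Subgroup.mem_top g : g ∈ S)
    obtain ⟨f, hf⟩ := CfsgLib.Char.exists_det_hom (CfsgLib.Char.isCharacter_of_isIrr θ.1.2)
    obtain ⟨χ, hχ, hχN⟩ := CfsgLib.Char.extends_of_det N θ.1.2 hinv (charDegree (θ.1 : N → ℂ))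
      (Nat.card G / p ^ (Nat.card G).factorization p) (CfsgLib.Blocks.irr_degree_eq θ.1).1 1
      (fun n => by
        rw [MonoidHom.one_apply, Units.val_one, hf]
        show (1 : ℂ) = ((f n : ℂˣ) : ℂ) ^ _
        have e : ∀ n : N, (f n) ^ (Nat.card G / p ^ (Nat.card G).factorization p) = 1 := fun n =>
          hNgen ((powMonoidHom _).comp f) (fun n hn => by
            show (f n) ^ _ = 1
            refine orderOf_dvd_iff_pow_eq_one.mp (((orderOf_map_dvd f n).trans
              (Subgroup.orderOf_coe n).symm.dvd).trans ?_)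
            refine Nat.Coprime.dvd_of_dvd_mul_left
              (Nat.Coprime.pow_right _ ((Nat.Prime.coprime_iff_not_dvd hM.1).mpr hn).symm)
              (?_ : orderOf (n : G) ∣ p ^ (Nat.card G).factorization p * _)
            rw [Nat.ordProj_mul_ordCompl_eq_self]
            exact orderOf_dvd_natCard _) n
        rw [← Units.val_pow_eq_pow_val, e n, Units.val_one])
      (by
        rw [hm]
        exact Nat.Coprime.pow_left _ (Nat.Coprime.mul_right ((Nat.Prime.coprime_iff_not_dvd hM.1).mpr hθp)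
          (Nat.coprime_ordCompl hM.1 Nat.card_pos.ne')))
    have hχ1 : charDegree (⟨χ, hχ⟩ : IrrCharacter G).1 = charDegree (θ.1 : N → ℂ) := by
      rw [charDegree, charDegree]
      show ⌊(χ ((1 : N) : G)).re⌋₊ = _
      rw [hχN 1]
    refine hθ1 (hχ1 ▸ hlin ⟨χ, hχ⟩ ?_ (hχ1 ▸ hθp))
    refine CfsgLib.Blocks.mem_principalBlock_of_regular hM fun g hg => ?_
    have hcon : classInner (fun n : N => χ n) (θ.1 : N → ℂ) ≠ 0 := by
      rw [show (fun n : N => χ n) = (θ.1 : N → ℂ) from funext hχN,
        CfsgLib.Char.classInner_irr_self θ.1.2]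
      exact one_ne_zero
    have hcon0 : classInner (fun n : N => (CfsgLib.Blocks.trivIrr G : G → ℂ) n)
        (CfsgLib.Blocks.trivIrr N : N → ℂ) ≠ 0 := by
      rw [show (fun n : N => (CfsgLib.Blocks.trivIrr G : G → ℂ) n) = (CfsgLib.Blocks.trivIrr N : N → ℂ)
        from rfl, CfsgLib.Char.classInner_irr_self (CfsgLib.Blocks.trivIrr N).2]
      exact one_ne_zero
    have hsupp : ∀ x, x ∉ N → CfsgLib.Blocks.classInd g x = 0 := fun x hx =>
      CfsgLib.Blocks.classInd_eq_zero_of_not_mem (hreg g hg) hx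
    have e : ((Subgroup.centralizer ({g} : Set G)).index : ℂ) =
        centralChar (CfsgLib.Blocks.trivIrr G : G → ℂ) g := by
      simp [centralChar, CfsgLib.Blocks.trivIrr]
    rw [e, ← CfsgLib.Blocks.omega_classInd, ← CfsgLib.Blocks.omega_classInd,
      CfsgLib.Blocks.omega_eq_of_constituent (χ := ⟨χ, hχ⟩) hcon
        (CfsgLib.Blocks.isClassFunction_classInd g) hsupp,
      CfsgLib.Blocks.omega_eq_of_constituent hcon0 (CfsgLib.Blocks.isClassFunction_classInd g) hsupp]
    refine CfsgLib.Blocks.sub_mem_localIdeal_of_sameBlock ?_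
      (fun a x => CfsgLib.Blocks.isClassFunction_classInd g (a : G) (x : G))
      fun n => CfsgLib.Blocks.memLocalRing_classInd g _
    have hθb : ∀ φ : IrrCharacter N, φ ∈ principalBlock M N →
        SameBlock M (CfsgLib.Blocks.trivIrr N : N → ℂ) (φ : N → ℂ) := fun φ h => by
      rw [CfsgLib.Blocks.principalBlock_eq] at h
      exact h
    exact CfsgLib.Blocks.SameBlock.symm (hθb _ θ.2)
  · rintro ⟨P, N, hN, hc⟩
    refine ⟨1, fun χ hχ h0 => ?_⟩
    have hNp : ¬ p ∣ Nat.card N := fun h => P.not_dvd_index (by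
      rwa [hc.index_eq_card])
    have hker := CfsgLib.Blocks.trivial_on_of_mem_principalBlock hM N hNp hχ
    obtain ⟨η, hη⟩ := CfsgLib.Blocks.exists_inflate_eq_of_ker N χ hker
    obtain ⟨m, hm, -, hdvd⟩ := CfsgLib.Char.exists_degree_dvd_card η.2
    have hdeg : charDegree (χ : G → ℂ) = m := by
      have h := (CfsgLib.Blocks.irr_degree_eq χ).1
      have h' : (χ : G → ℂ) 1 = (η : G ⧸ N → ℂ) 1 := by rw [hη]; rfl
      rw [h', hm] at h
      exact_mod_cast h.symm
    rw [← Subgroup.index_eq_card, hc.symm.index_eq_card, P.card_eq_multiplicity, ← hdeg] at hdvd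
    obtain ⟨j, -, hj⟩ := (Nat.dvd_prime_pow hM.1).mp hdvd
    have hnd := (hheight χ hχ).mp h0
    rw [hj] at hnd ⊢
    rcases j.eq_zero_or_pos with rfl | hpos
    · rw [pow_zero]
    · exact absurd (dvd_pow_self p hpos.ne') hnd

end Cfsg.Agent.S4888
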