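import Cfsg.Statements.S4889
import Cfsg.Agent.Lib.Blocks.EqualDegree.Inertia
import Cfsg.Agent.Lib.Blocks.NilpotentStar
import Cfsg.Agent.Lib.Char.Artin

set_option linter.style.haveILetI false
set_option autoImplicit false
open Cfsg CfsgLib.Blocks
open scoped CfsgLib.Char

namespace Cfsg.Agent.S4889

/-- Let G be a finite group, p a prime, M a maximal ideal of the algebraic integers containing p, and B a p-block of G that has an abelian defect group and in which every irreducible character has height zero. Then all irreducible characters of B have the same degree if and only if B is a nilpotent block. -/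
theorem result {G : Type*} [Group G] [Finite G] (p : ℕ) [Fact p.Prime] (M : Ideal Cfsg.AlgInt) (hM : Cfsg.IsPModular p M) (B : Set (Cfsg.IrrCharacter G)) (hB : Cfsg.IsPBlock M B) (D : Subgroup G) (hD : Cfsg.IsDefectGroup p M B D) (hDab : IsMulCommutative ↥D) (h0 : ∀ χ : Cfsg.IrrCharacter G, χ ∈ B → Cfsg.blockHeight p B (χ : G → ℂ) = 0) : (∃ d : ℕ, ∀ χ : Cfsg.IrrCharacter G, χ ∈ B → Cfsg.charDegree (χ : G → ℂ) = d) ↔ Cfsg.IsNilpotentBlock p M B := by
  classical
  have := isPrime_of_isPModular hM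
  haveI := Fintype.ofFinite G
  obtain ⟨c, hc⟩ := exists_pair_of_defectGroup hM hB hD
  have hmax := isMaximalBrauerPair_of_defectGroup hM hD hc
  have hab : ∀ x ∈ D, ∀ y ∈ D, x * y = y * x := fun x hx y hy =>
    congrArg Subtype.val (hDab.is_comm.comm ⟨x, hx⟩ ⟨y, hy⟩)
  constructor
  · rintro ⟨f, hdeg⟩
    exact EqualDegree.isNilpotentBlock hM hmax hab hdeg
  · intro hnil
    obtain ⟨χ₀, hχ₀, Φ, hΦ⟩ := nilpotent_block_characters hM hmax hnil
    refine ⟨charDegree (χ₀ : G → ℂ), fun χ hχ => ?_⟩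
    refine Nat.cast_injective (R := ℂ) ?_
    have h1 := (hΦ ⟨χ, hχ⟩).2 1 (by rw [IsPRegular, orderOf_one]; exact hM.1.not_dvd_one)
    rw [← (irr_degree_eq χ).1, ← (irr_degree_eq χ₀).1]
    rw [h1, CfsgLib.Char.degree_one_of_comm (fun a b => Subtype.ext (hab _ a.2 _ b.2))
      (Φ ⟨χ, hχ⟩), one_mul]

end Cfsg.Agent.S4889
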