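import Cfsg.Statements.S4890
import Cfsg.Agent.Lib.Blocks.NormalDefect.Inertia
import Cfsg.Agent.Lib.Blocks.NilpotentStar
import Cfsg.Agent.Lib.Char.Central

set_option linter.style.haveILetI false

set_option autoImplicit false
open Cfsg CfsgLib.Blocks
open scoped CfsgLib.Char

namespace Cfsg.Agent.S4890

/-- Let G be a finite group, p a prime, M a maximal ideal of the algebraic integers containing p, and B a p-block of G with a defect group that is normal in G. Then all height-zero irreducible characters of B have the same degree if and only if B is a nilpotent block. -/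
theorem result {G : Type*} [Group G] [Finite G] (p : ℕ) [Fact p.Prime] (M : Ideal Cfsg.AlgInt) (hM : Cfsg.IsPModular p M) (B : Set (Cfsg.IrrCharacter G)) (hB : Cfsg.IsPBlock M B) (D : Subgroup G) (hD : Cfsg.IsDefectGroup p M B D) (hDn : D.Normal) : (∃ d : ℕ, ∀ χ : Cfsg.IrrCharacter G, χ ∈ B → Cfsg.blockHeight p B (χ : G → ℂ) = 0 → Cfsg.charDegree (χ : G → ℂ) = d) ↔ Cfsg.IsNilpotentBlock p M B := by
  classical
  have := isPrime_of_isPModular hM
  haveI := Fintype.ofFinite G
  have hp := hM.1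
  constructor
  · rintro ⟨f, hdeg⟩
    obtain ⟨c, hmax, hT⟩ := NormalDefect.exists_max_pair hM hB hD hdeg
    refine ⟨hB, fun Q b hQb x hxQ hst hreg => ?_⟩
    obtain ⟨g, hg⟩ := exists_conjPair_le_maximal hM hmax hQb
    have hy := blockT_conjPair (g := g) (mem_blockT.mpr ⟨hxQ, hst⟩)
    refine mem_centralizer_of_conj (g := g) ?_
    set y := g * x * g⁻¹
    set Q' := Q.map (MulAut.conj g).toMonoidHom
    have hyreg : IsPRegular p y := by
      rw [IsPRegular]
      rwa [show orderOf y = orderOf x from (MulAut.conj g).orderOf_eq x]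
    obtain ⟨z, hz, ht⟩ := NormalDefect.exists_agree (p := p) hM hmax.1.1 hg hy
    set t := z⁻¹ * y
    have hQD : Q' ≤ D := SubpairLE.le hg
    have hyN : y ∈ Subgroup.normalizer (Q' : Set G) := blockT_le_normalizer hy
    have htN : t ∈ Subgroup.normalizer (Q' : Set G) :=
      mul_mem (inv_mem (Subgroup.centralizer_le_normalizer _ hz)) hyN
    set k := (orderOf t).factorization p
    have htC : t ^ p ^ k ∈ Subgroup.centralizer (D : Set G) := by
      refine hT _ (pow_mem ht _) ?_
      have h0 : orderOf t ≠ 0 := (orderOf_pos t).ne'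
      show ¬ p ∣ orderOf _
      rw [orderOf_pow_of_dvd (pow_ne_zero _ hp.ne_zero) (Nat.ordProj_dvd _ p)]
      exact Nat.not_dvd_ordCompl hp h0
    have hpow : ∀ n : ℕ, ∀ u ∈ Q', t ^ n * u * (t ^ n)⁻¹ = y ^ n * u * (y ^ n)⁻¹ := by
      intro n
      induction n with
      | zero => intro u _; simp
      | succ n ih =>
        intro u hu
        have h1 : y * u * y⁻¹ ∈ Q' := (Subgroup.mem_normalizer_iff.mp hyN u).mp hu
        have h2 : t * u * t⁻¹ = y * u * y⁻¹ := by
          have h3 := hz _ h1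
          calc t * u * t⁻¹ = z⁻¹ * ((y * u * y⁻¹) * z) := by simp only [t]; group
            _ = z⁻¹ * (z * (y * u * y⁻¹)) := by rw [h3]
            _ = y * u * y⁻¹ := by group
        rw [pow_succ, pow_succ]
        calc t ^ n * t * u * (t ^ n * t)⁻¹ = t ^ n * (t * u * t⁻¹) * (t ^ n)⁻¹ := by group
          _ = y ^ n * (y * u * y⁻¹) * (y ^ n)⁻¹ := by rw [h2, ih _ h1]
          _ = y ^ n * y * u * (y ^ n * y)⁻¹ := by group
    refine mem_of_pow_mem_of_isPRegular hp hyreg (k := k)
      (CfsgLib.Fusion.mem_centralizer_of_conj_eq fun u hu => ?_)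
    rw [← hpow _ u hu]
    exact CfsgLib.Fusion.conj_eq_self_of_mem_centralizer htC (hQD hu)
  · intro hnil
    obtain ⟨c, hc⟩ := exists_pair_of_defectGroup hM hB hD
    obtain ⟨χ₀, hχ₀, Φ, hΦ⟩ :=
      nilpotent_block_characters hM (isMaximalBrauerPair_of_defectGroup hM hD hc) hnil
    refine ⟨charDegree (χ₀ : G → ℂ), fun χ hχ h0 => ?_⟩
    obtain ⟨hht, hval⟩ := hΦ ⟨χ, hχ⟩
    have hlin : charDegree ((Φ ⟨χ, hχ⟩ : IrrCharacter ↥D) : ↥D → ℂ) = 1 := by
      obtain ⟨n, hn, -, hdvd⟩ := CfsgLib.Char.exists_degree_dvd_card (Φ ⟨χ, hχ⟩).2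
      have hn' : charDegree ((Φ ⟨χ, hχ⟩ : IrrCharacter ↥D) : ↥D → ℂ) = n := by
        have h1 := (irr_degree_eq (Φ ⟨χ, hχ⟩)).1
        rw [hn] at h1
        exact_mod_cast h1.symm
      rw [h0] at hht
      obtain ⟨k, hk⟩ := IsPGroup.iff_card.mp (IsDefectGroup.isPGroup hM hD)
      rw [hk] at hdvd
      obtain ⟨j, -, hj⟩ := (Nat.dvd_prime_pow hp).mp hdvd
      rw [hn', hj, hp.factorization_pow, Finsupp.single_eq_same] at hht
      rw [hn', hj, ← hht, pow_zero]
    refine Nat.cast_injective (R := ℂ) ?_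
    have h1 := hval 1 (by rw [IsPRegular, orderOf_one]; exact hp.not_dvd_one)
    rw [← (irr_degree_eq χ).1, ← (irr_degree_eq χ₀).1, h1, (irr_degree_eq (Φ ⟨χ, hχ⟩)).1, hlin,
      Nat.cast_one, one_mul]

end Cfsg.Agent.S4890
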