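import Cfsg.Statements.S4892
import Cfsg.Agent.Lib.Blocks.RationalExtension
import Cfsg.Agent.S4488

set_option linter.style.haveILetI false

set_option autoImplicit false
open Cfsg

namespace Cfsg.Agent.S4892

open CfsgLib CfsgLib.Char Polynomial
open scoped CfsgLib.Char

/-- A value in a cyclotomic field is fixed by the powers congruent to one modulo the overlap. -/
theorem value_pow_of_mem_adjoin {H : Type*} [Group H] [Finite H] {χ : H → ℂ}
    (hχ : IsCharacter H χ) {m : ℕ} (hm : 0 < m) {k : ℕ} (hk : k.Coprime (Nat.card H))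
    (hk1 : k ≡ 1 [MOD Nat.gcd (Nat.card H) m]) {g : H}
    (hg : χ g ∈ IntermediateField.adjoin ℚ ({Complex.exp (2 * Real.pi * Complex.I / m)} : Set ℂ)) :
    χ (g ^ k) = χ g := by
  set n := Nat.card H with hn
  have hn0 : 0 < n := Nat.card_pos
  obtain ⟨k', hk'n, hk'm⟩ := Nat.chineseRemainder' hk1
  set L := Nat.lcm n m with hL
  have hL0 : 0 < L := Nat.lcm_pos hn0 hm
  have hk'c : k'.Coprime L := by
    refine Nat.Coprime.coprime_dvd_right (Nat.lcm_dvd_mul n m) (Nat.Coprime.mul_right ?_ ?_)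
    · rw [Nat.Coprime, hk'n.gcd_eq]; exact hk
    · rw [Nat.Coprime, hk'm.gcd_eq, Nat.gcd_one_left]
  obtain ⟨ζ, hζ⟩ := exists_primitiveRoot_qbar L hL0.ne'
  have hmem : (ζ : ℂ) ^ k' ∈ (minpoly ℚ ζ).rootSet ℂ := by
    have hmin : minpoly ℚ ζ = minpoly ℚ (ζ : ℂ) :=
      (minpoly.algebraMap_eq (algebraMap QBar ℂ).injective ζ).symm
    rw [hmin, Polynomial.mem_rootSet]
    refine ⟨minpoly.ne_zero ((hζ.isIntegral hL0).tower_top), ?_⟩
    have h1 := Polynomial.cyclotomic_eq_minpoly_rat hζ hL0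
    haveI : NeZero ((L : ℕ) : ℂ) := ⟨Nat.cast_ne_zero.mpr hL0.ne'⟩
    have h2 := (Polynomial.isRoot_cyclotomic_iff).mpr (hζ.pow_of_coprime k' hk'c)
    rw [← h1, Polynomial.aeval_def, ← Polynomial.eval_map, Polynomial.map_cyclotomic]
    exact h2
  rw [← Algebra.IsAlgebraic.range_eval_eq_rootSet_minpoly] at hmem
  obtain ⟨ψ, hψ⟩ := hmem
  haveI : NeZero L := ⟨hL0.ne'⟩
  have key : ∀ z : QBar, (z : ℂ) ^ L = 1 → ψ z = (z : ℂ) ^ k' := fun z hz => by
    obtain ⟨i, -, hi⟩ := hζ.eq_pow_of_pow_eq_one hz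
    have : z = ζ ^ i := Subtype.ext (by push_cast; exact hi.symm)
    rw [this, map_pow]
    push_cast
    rw [show ψ ζ = (ζ : ℂ) ^ k' from hψ, ← pow_mul, ← pow_mul, mul_comm]
  have hLn : L = (L / n) * n := (Nat.div_mul_cancel (Nat.dvd_lcm_left n m)).symm
  set Z : QBar := ζ ^ (L / n) with hZ
  have hZp : IsPrimitiveRoot (Z : ℂ) n := by
    rw [hZ]; push_cast
    exact hζ.pow hL0 hLn
  have h1 := map_value_of_pow (G := H) hZp ψ
    (key Z (by
      obtain ⟨c, hc⟩ := Nat.dvd_lcm_left n m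
      rw [← hL] at hc
      rw [hc, pow_mul, hZp.pow_eq_one, one_pow])) hχ g
  set Y := Complex.exp (2 * Real.pi * Complex.I / m) with hY
  have hYm : Y ^ m = 1 := (Complex.isPrimitiveRoot_exp m hm.ne').pow_eq_one
  have hYQ : Y ∈ QBar := mem_qbar_of_isIntegral (IsIntegral.of_pow hm (hYm ▸ isIntegral_one))
  have hle : IntermediateField.adjoin ℚ ({Y} : Set ℂ) ≤ QBar :=
    IntermediateField.adjoin_simple_le_iff.mpr hYQ
  have heq : ψ.comp (IntermediateField.inclusion hle) =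
      (IntermediateField.adjoin ℚ ({Y} : Set ℂ)).val := by
    refine IntermediateField.adjoin_algHom_ext ℚ fun z hz => ?_
    rw [Set.mem_singleton_iff] at hz
    subst hz
    obtain ⟨c, hc⟩ := Nat.dvd_lcm_right n m
    rw [← hL] at hc
    refine (key _ (by show Y ^ L = 1; rw [hc, pow_mul, hYm, one_pow])).trans ?_
    show Y ^ k' = Y
    rw [pow_eq_pow_mod k' hYm, hk'm, ← pow_eq_pow_mod 1 hYm, pow_one]
  have h2 : ψ (value hχ g) = χ g := by
    have e : value hχ g = IntermediateField.inclusion hle ⟨χ g, hg⟩ := Subtype.ext rfl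
    rw [e]
    exact DFunLike.congr_fun heq ⟨χ g, hg⟩
  rw [h1] at h2
  have e : g ^ k = g ^ k' := pow_eq_pow_iff_modEq.mpr (hk'n.symm.of_dvd (orderOf_dvd_natCard g))
  rw [e, h2]

/-- A value fixed by the powers congruent to one modulo `n'` lies in the field of `n'`-th roots. -/
theorem mem_adjoin_of_fixed {H : Type*} [Group H] [Finite H] {p : ℕ} [Fact p.Prime] {χ : H → ℂ}
    (hχ : IsCharacter H χ) {α n' : ℕ} (hn : Nat.card H = p ^ α * n') (hn' : ¬ p ∣ n') {g : H}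
    (hfix : ∀ k : ℕ, k.Coprime (Nat.card H) → k ≡ 1 [MOD n'] → χ (g ^ k) = χ g) :
    χ g ∈ IntermediateField.adjoin ℚ ({Complex.exp (2 * Real.pi * Complex.I / n')} : Set ℂ) := by
  classical
  have hp : p.Prime := Fact.out
  have hn0 : n' ≠ 0 := fun h => hn' (h ▸ dvd_zero p)
  set K := IntermediateField.adjoin ℚ ({Complex.exp (2 * Real.pi * Complex.I / n')} : Set ℂ) with hK
  have hroot : ∀ z : ℂ, z ^ n' = 1 → z ∈ K := by
    intro z hz
    haveI : NeZero n' := ⟨hn0⟩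
    obtain ⟨i, -, hi⟩ := (Complex.isPrimitiveRoot_exp n' hn0).eq_pow_of_pow_eq_one hz
    rw [← hi]
    exact pow_mem (IntermediateField.mem_adjoin_simple_self ℚ _) i
  have hcop : (p ^ α).Coprime n' := (hp.coprime_iff_not_dvd.mpr hn').pow_left α
  obtain ⟨a, b, ha, hqa, hnb, hab⟩ := Char.PiPart.exists_exponent hcop.symm
  obtain ⟨n, ρ, rfl⟩ := hχ
  obtain ⟨μ, hμ1, hμ2⟩ := character_pow_eq_sum ρ g
  have hg : ρ.character g = ∑ i, μ i := by simpa using hμ2 1
  have hμn : ∀ i, μ i ^ (p ^ α * n') = 1 := fun i => by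
    obtain ⟨c, hc⟩ := orderOf_dvd_natCard g
    rw [← hn, hc, pow_mul, hμ1, one_pow]
  have hμa : ∀ i, (μ i ^ a) ^ n' = 1 := fun i => by
    obtain ⟨c, hc⟩ := hqa
    rw [← pow_mul, hc, show p ^ α * c * n' = p ^ α * n' * c by ring, pow_mul, hμn, one_pow]
  have hμb : ∀ i, (μ i ^ b) ^ (p ^ (α + 1)) = 1 := fun i => by
    obtain ⟨c, hc⟩ := hnb
    rw [← pow_mul, hc, show n' * c * p ^ (α + 1) = p ^ α * n' * (c * p) by ring, pow_mul, hμn,
      one_pow]
  set U := (Finset.range (p ^ (α + 1))).filter (fun s => ¬ p ∣ s) with hU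
  have hterm : ∀ s ∈ U, ρ.character g = ∑ i, μ i ^ a * (μ i ^ b) ^ s := by
    intro s hs
    obtain ⟨k, hk, hks, hk1⟩ := exists_coprime_exponent (Nat.card_pos (α := H)).ne' hcop
      (dvd_of_eq hn.symm) (Nat.Coprime.pow_right α
        (hp.coprime_iff_not_dvd.mpr (Finset.mem_filter.mp hs).2).symm)
    rw [← hfix k hk hk1, hμ2 k]
    refine Finset.sum_congr rfl fun i _ => ?_
    have e1 : μ i = μ i ^ a * μ i ^ b := by
      rw [← pow_add, pow_eq_pow_mod (a + b) (show μ i ^ (n' * p ^ α) = 1 by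
          rw [mul_comm]; exact hμn i), hab,
        ← pow_eq_pow_mod 1 (show μ i ^ (n' * p ^ α) = 1 by rw [mul_comm]; exact hμn i), pow_one]
    conv_lhs => rw [e1, mul_pow]
    have e2 : (μ i ^ b) ^ (p ^ α) = 1 := by
      obtain ⟨c, hc⟩ := hnb
      rw [← pow_mul, hc, show n' * c * p ^ α = p ^ α * n' * c by ring, pow_mul, hμn, one_pow]
    congr 1
    · rw [pow_eq_pow_mod k (hμa i), hk1, ← pow_eq_pow_mod 1 (hμa i), pow_one]
    · rw [pow_eq_pow_mod k e2, hks, ← pow_eq_pow_mod s e2]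
  have hsum : (U.card : ℂ) * ρ.character g ∈ K := by
    rw [← nsmul_eq_mul, ← Finset.sum_const, Finset.sum_congr rfl hterm, Finset.sum_comm]
    refine sum_mem fun i _ => ?_
    rw [← Finset.mul_sum]
    refine mul_mem (hroot _ (hμa i)) ?_
    rw [S4488.sum_coprime_pow hp (hμb i)]
    refine sub_mem ?_ ?_ <;> split_ifs <;>
      first
        | exact zero_mem K
        | exact pow_mem (natCast_mem K p) _
  have hU0 : (U.card : ℂ) ≠ 0 := Nat.cast_ne_zero.mpr (Finset.card_pos.mpr ⟨1,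
    Finset.mem_filter.mpr ⟨Finset.mem_range.mpr (Nat.one_lt_pow (Nat.succ_ne_zero α) hp.one_lt),
      hp.not_dvd_one⟩⟩).ne'
  have := mul_mem (inv_mem (natCast_mem K U.card)) hsum
  rwa [inv_mul_cancel_left₀ hU0] at this

/-- Let p be an odd prime, M a maximal ideal of the algebraic integers containing p, N a normal subgroup of the finite group G, and θ an irreducible character of N that is G-invariant, of degree prime to p, p-rational (values in the field generated over ℚ by a root of unity of order prime to p) and lies in the principal p-block of N. Let Q be a Sylow p-subgroup of N and suppose the index of N·C_G(Q) in G is a power of p. Then θ extends to a p-rational irreducible character of G lying in the principal p-block of G. -/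
theorem result {G : Type*} [Group G] [Finite G] (p : ℕ) [Fact p.Prime] (hp : p ≠ 2) (M : Ideal Cfsg.AlgInt) (hM : Cfsg.IsPModular p M) (N : Subgroup G) [N.Normal] (θ : Cfsg.IrrCharacter ↥N) (hinv : ∀ g : G, ∀ n n' : ↥N, (n' : G) = g * (n : G) * g⁻¹ → (θ : ↥N → ℂ) n' = (θ : ↥N → ℂ) n) (hdeg : ¬ p ∣ Cfsg.charDegree (θ : ↥N → ℂ)) (hrat : ∃ m : ℕ, ¬ p ∣ m ∧ ∀ n : ↥N, (θ : ↥N → ℂ) n ∈ IntermediateField.adjoin ℚ ({Complex.exp (2 * Real.pi * Complex.I / m)} : Set ℂ)) (hB : θ ∈ Cfsg.principalBlock M ↥N) (Q : Sylow p ↥N) (hidx : ∃ a : ℕ, (N ⊔ Subgroup.centralizer (((Q : Subgroup ↥N).map N.subtype : Subgroup G) : Set G)).index = p ^ a) : ∃ χ : Cfsg.IrrCharacter G, χ ∈ (Cfsg.principalBlock M G) ∧ (∃ n : ℕ, ¬ p ∣ n ∧ ∀ g : G, (χ : G → ℂ) g ∈ IntermediateField.adjoin ℚ ({Complex.exp (2 * Real.pi * Complex.I / n)} : Set ℂ)) ∧ ∀ n : ↥N, (χ : G → ℂ) n = (θ : ↥N → ℂ) n := by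
  classical
  haveI := Fintype.ofFinite G
  haveI := Fintype.ofFinite N
  obtain ⟨m, hm, hval⟩ := hrat
  obtain ⟨α, n', hn', hGn⟩ :=
    Nat.exists_eq_pow_mul_and_not_dvd (Nat.card_pos (α := G)).ne' p (Fact.out : p.Prime).ne_one
  obtain ⟨a₀, ha₀⟩ := hidx
  have hfix : ∀ k : ℕ, k.Coprime (Nat.card G) → k ≡ 1 [MOD n'] →
      ∀ n : N, (θ : N → ℂ) (n ^ k) = (θ : N → ℂ) n := by
    intro k hk hk1 n
    have hm0 : 0 < m := Nat.pos_of_ne_zero (fun h => hm (h ▸ dvd_zero p))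
    refine value_pow_of_mem_adjoin (isCharacter_of_isIrr θ.2) hm0
      (hk.coprime_dvd_right (Subgroup.card_subgroup_dvd_card N)) (hk1.of_dvd ?_) (hval n)
    refine Nat.Coprime.dvd_of_dvd_mul_left ?_ (((Nat.gcd_dvd_left _ _).trans
      (Subgroup.card_subgroup_dvd_card N)).trans (dvd_of_eq hGn))
    exact ((((Fact.out : p.Prime).coprime_iff_not_dvd.mpr hm).pow_left α).coprime_dvd_right
      (Nat.gcd_dvd_right _ _)).symm
  obtain ⟨χ, hχB, hχres, hχfix⟩ := CfsgLib.Blocks.RationalExt.exists_extension N hM hp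
    (θ := θ) (fun g => funext fun n => hinv g n
      ⟨g * n * g⁻¹, Subgroup.Normal.conj_mem inferInstance (n : G) n.2 g⟩ rfl)
    hdeg hGn hn' hfix hB Q ha₀
  exact ⟨χ, hχB, ⟨n', hn', fun g => mem_adjoin_of_fixed (isCharacter_of_isIrr χ.2) hGn hn'
    fun k hk hk1 => hχfix k hk hk1 g⟩, hχres⟩

end Cfsg.Agent.S4892
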