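import Cfsg.Statements.S4911
import Cfsg.Agent.Lib.Char.GlaubermanClasses

set_option autoImplicit false
open Cfsg

namespace Cfsg.Agent.S4911

open CfsgLib.Char
open scoped CfsgLib.Char

/-- Let P and K be subgroups of a finite group with P a p-group normalizing K and K of order prime to p. Then the number of P-invariant real-valued irreducible complex characters of K equals the number of conjugacy classes of K that are real (closed under inversion) and P-invariant. Moreover, if every real-valued irreducible character of K is P-invariant, then every real element of K (one conjugate in K to its inverse) is conjugate in K to an element centralized by P. -/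
theorem result {G : Type*} [Group G] [Finite G] (p : ℕ) [Fact p.Prime] (P K : Subgroup G) (hP : IsPGroup p ↥P) (hK : ¬ p ∣ Nat.card ↥K) (hPK : P ≤ Subgroup.normalizer (K : Set G)) : Nat.card {θ : Cfsg.IrrCharacter ↥K // (∀ k : ↥K, ((θ : ↥K → ℂ) k).im = 0) ∧ (∀ x ∈ P, ∀ k k' : ↥K, (k' : G) = x * (k : G) * x⁻¹ → (θ : ↥K → ℂ) k' = (θ : ↥K → ℂ) k)} = Nat.card {c : ConjClasses ↥K // (∀ k : ↥K, ConjClasses.mk k = c → IsConj k k⁻¹) ∧ ∀ k : ↥K, ConjClasses.mk k = c → ∀ x ∈ P, ∀ k' : ↥K, (k' : G) = x * (k : G) * x⁻¹ → ConjClasses.mk k' = c} ∧ ((∀ θ : Cfsg.IrrCharacter ↥K, (∀ k : ↥K, ((θ : ↥K → ℂ) k).im = 0) → (∀ x ∈ P, ∀ k k' : ↥K, (k' : G) = x * (k : G) * x⁻¹ → (θ : ↥K → ℂ) k' = (θ : ↥K → ℂ) k)) → ∀ k : ↥K, IsConj k k⁻¹ → ∃ k' : ↥K, IsConj k k' ∧ ∀ x ∈ P, x * (k' : G) * x⁻¹ = (k' : G)) := by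
  classical
  haveI := Fintype.ofFinite G
  have hp : p.Prime := Fact.out
  obtain ⟨a, ha⟩ := IsPGroup.iff_card.mp hP
  have hcop : (Nat.card K).Coprime (Nat.card P) := by
    rw [ha]; exact ((hp.coprime_iff_not_dvd.mpr hK).pow_left a).symm
  have hsolv : Group.IsSolvable P := by
    haveI : Finite P := inferInstance
    haveI : Group.IsNilpotent P := hP.isNilpotent
    infer_instance
  have hcount := (Glauberman.card_real_invariant hp hP hK hPK).trans
    ((card_real_irr (G := ↥(Glauberman.fix K P))).trans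
      (Glauberman.card_real_fixed_classes hPK hcop hsolv))
  refine ⟨hcount, fun hall k hk => ?_⟩
  have hmk : ∀ l : K, ConjClasses.mk l = ConjClasses.mk k → IsConj l l⁻¹ := fun l hl => by
    have h2 := ConjClasses.mk_eq_mk_iff_isConj.mp hl
    refine h2.trans (hk.trans ?_)
    obtain ⟨y, hy⟩ := isConj_iff.mp h2.symm
    exact isConj_iff.mpr ⟨y, by rw [← hy]; group⟩
  have heq : Nat.card {θ : Cfsg.IrrCharacter K // ∀ k : K, ((θ : K → ℂ) k).im = 0} =
      Nat.card {θ : Cfsg.IrrCharacter K //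
        (∀ k : K, ((θ : K → ℂ) k).im = 0) ∧ Glauberman.Inv K P (θ : K → ℂ)} :=
    Nat.card_congr (Equiv.subtypeEquivRight fun θ => ⟨fun h => ⟨h, hall θ h⟩, fun h => h.1⟩)
  rw [card_real_irr] at heq
  set inc : {C : ConjClasses K // (∀ k : K, ConjClasses.mk k = C → IsConj k k⁻¹) ∧
        ∀ k : K, ConjClasses.mk k = C → ∀ x ∈ P, ∀ k' : K, (k' : G) = x * (k : G) * x⁻¹ →
          ConjClasses.mk k' = C} → {C : ConjClasses K // ∀ k : K, ConjClasses.mk k = C → IsConj k k⁻¹} :=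
    fun C => ⟨C.1, C.2.1⟩ with hinc
  have hbij := (Nat.bijective_iff_injective_and_card inc).mpr
    ⟨fun A B e => Subtype.ext (congrArg Subtype.val e :), (heq.trans hcount).symm⟩
  obtain ⟨⟨C, h1, h2⟩, hC⟩ := hbij.2 ⟨ConjClasses.mk k, hmk⟩
  obtain rfl : C = ConjClasses.mk k := congrArg Subtype.val hC
  obtain ⟨y, hy, hyf⟩ := Glauberman.exists_conj_mem_fix hPK hcop hsolv k.2 fun s hs => by
    obtain ⟨z, hz⟩ := isConj_iff.mp (ConjClasses.mk_eq_mk_iff_isConj.mp
      (h2 k rfl s hs ⟨s * k * s⁻¹, (Subgroup.mem_normalizer_iff.mp (hPK hs) _).mp k.2⟩ rfl).symm)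
    exact ⟨z, z.2, (congrArg Subtype.val hz).symm⟩
  refine ⟨⟨y * k * y⁻¹, (Subgroup.mem_inf.mp hyf).1⟩, isConj_iff.mpr ⟨⟨y, hy⟩, Subtype.ext rfl⟩,
    fun x hx => ?_⟩
  show x * (y * k * y⁻¹) * x⁻¹ = y * k * y⁻¹
  rw [Subgroup.mem_centralizer_iff.mp (Subgroup.mem_inf.mp hyf).2 x hx, mul_inv_cancel_right]

end Cfsg.Agent.S4911
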