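import Cfsg.Statements.S4912
import Cfsg.Agent.Lib.Char.LinearCountBound

set_option autoImplicit false
set_option linter.style.haveILetI false
open Cfsg
open CfsgLib
open scoped CfsgLib.Char ComplexConjugate

namespace Cfsg.Agent.S4912

/-- Let G be a finite group with a non-abelian minimal normal subgroup N, and let φ be an irreducible complex character of N with stabilizer I in G such that φ extends to an irreducible character of I with Frobenius–Schur indicator +1. Put d = φ(1)·[G : I]. Then the number of linear characters of G with Frobenius–Schur indicator +1 is at most [G : I] times the number of irreducible characters of G of degree d with Frobenius–Schur indicator +1. -/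
theorem result {G : Type*} [Group G] [Finite G] (N : Subgroup G) (hN : N.Normal) (hN1 : N ≠ ⊥) (hmin : ∀ M : Subgroup G, M.Normal → M ≤ N → M = ⊥ ∨ M = N) (hna : ¬ IsMulCommutative ↥N) (φ : Cfsg.IrrCharacter ↥N) (I : Subgroup G) (hI : ∀ g : G, g ∈ I ↔ ∀ n n' : ↥N, (n' : G) = g * (n : G) * g⁻¹ → (φ : ↥N → ℂ) n' = (φ : ↥N → ℂ) n) (hNI : N ≤ I) (hext : ∃ ψ : Cfsg.IrrCharacter ↥I, (Nat.card ↥I : ℂ)⁻¹ * ∑ᶠ g : ↥I, (ψ : ↥I → ℂ) (g * g) = 1 ∧ ∀ n : ↥N, (ψ : ↥I → ℂ) (Subgroup.inclusion hNI n) = (φ : ↥N → ℂ) n) : Nat.card {χ : Cfsg.IrrCharacter G // Cfsg.charDegree (χ : G → ℂ) = 1 ∧ (Nat.card G : ℂ)⁻¹ * ∑ᶠ g : G, (χ : G → ℂ) (g * g) = 1} ≤ I.index * Nat.card {χ : Cfsg.IrrCharacter G // Cfsg.charDegree (χ : G → ℂ) = Cfsg.charDegree (φ : ↥N → ℂ) * I.index ∧ (Nat.card G : ℂ)⁻¹ * ∑ᶠ g : G, (χ : G → ℂ) (g * g) = 1} := by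
  classical
  haveI := Fintype.ofFinite G
  haveI := Fintype.ofFinite N
  haveI := Fintype.ofFinite I
  obtain ⟨ψ, hν, hψ⟩ := hext
  rw [finsum_eq_sum_of_fintype] at hν
  have hνψ : Char.indicator (ψ : I → ℂ) = 1 := hν
  have hI' : ∀ g, g ∈ I ↔ Char.conjBy N (φ : N → ℂ) g = (φ : N → ℂ) := fun g => by
    rw [hI g]
    exact ⟨fun h => funext fun n => h n _ rfl, fun h n n' e => by
      have := congrFun h n
      rw [← this]
      exact congrArg (φ : N → ℂ) (Subtype.ext e)⟩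
  have hreal : ∀ n : N, conj ((φ : N → ℂ) n) = (φ : N → ℂ) n := fun n => by
    rcases Char.indicator_cases ψ.2 with ⟨h, -⟩ | ⟨-, h⟩
    · rw [← hψ n]; exact Complex.conj_eq_iff_im.mpr (h _)
    · rw [hνψ] at h; exact absurd h one_ne_zero
  refine Char.linearCount_le N I hN1 hmin hna hNI hI' ψ hψ _ _
    (fun χ h => by rw [(Blocks.irr_degree_eq χ).1, h.1, Nat.cast_one]) fun χ η h hη => ⟨?_, ?_⟩
  · have h1 : (η : G → ℂ) 1 = ((Cfsg.charDegree (φ : N → ℂ) * I.index : ℕ) : ℂ) := by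
      rw [congrFun hη 1, Char.indFun_one, (Blocks.irr_degree_eq χ).1, h.1]
      rw [show (ψ : I → ℂ) 1 = (φ : N → ℂ) 1 by rw [← hψ 1, map_one], (Blocks.irr_degree_eq φ).1]
      push_cast
      ring
    rw [(Blocks.irr_degree_eq η).1] at h1
    exact_mod_cast h1
  obtain ⟨hd, hνχ⟩ := h
  rw [finsum_eq_sum_of_fintype] at hνχ ⊢
  have h1 : (χ : G → ℂ) 1 = 1 := by rw [(Blocks.irr_degree_eq χ).1, hd, Nat.cast_one]
  have hsq : ∀ g, (χ : G → ℂ) (g * g) = 1 := by
    intro g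
    have hval := Char.linearHom_apply (Char.isCharacter_of_isIrr χ.2) h1
    have hre : conj ((χ : G → ℂ) g) = (χ : G → ℂ) g := by
      rcases Char.indicator_cases χ.2 with ⟨h, -⟩ | ⟨-, h⟩
      · exact Complex.conj_eq_iff_im.mpr (h _)
      · exact absurd ((hνχ.symm.trans h)) one_ne_zero
    set l := Char.linearHom (Char.isCharacter_of_isIrr χ.2) h1
    have hn : ‖((l g : ℂˣ) : ℂ)‖ = 1 := by
      refine Complex.norm_eq_one_of_pow_eq_one (n := orderOf g) ?_ (orderOf_pos g).ne'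
      rw [← Units.val_pow_eq_pow_val, ← map_pow, pow_orderOf_eq_one, map_one, Units.val_one]
    rw [hval] at hn
    rw [← hval, map_mul, Units.val_mul, hval]
    conv_lhs => arg 2; rw [← hre]
    rw [Complex.mul_conj, Complex.normSq_eq_norm_sq, hn]
    norm_num
  rw [← Char.indicator_indFun N I hNI ψ.2 ?_] at hνψ
  · rw [← hνψ, Char.indicator, hη]
    simp [hsq]
  intro g hg
  have hres : Char.resTo N I hNI (ψ : I → ℂ) = (φ : N → ℂ) := funext fun n => hψ n
  rw [hres, funext hreal, Char.classInner_irr (Char.isIrrCharacter_conjBy N φ.2 g) φ.2]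
  exact if_neg fun h => hg ((hI' g).mpr h)

end Cfsg.Agent.S4912
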