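import Cfsg.Statements.S4916
import Cfsg.Agent.Lib.Blocks.Osima
import Cfsg.Agent.Lib.Blocks.Integrality
import Cfsg.Agent.Lib.Char.Extraspecial

set_option autoImplicit false
open Cfsg
open CfsgLib.Char CfsgLib.Char.Extraspecial CfsgLib.Blocks
open scoped CfsgLib.Char

namespace Cfsg.Agent.S4916

/-- Let G be a finite group, p a prime and M a maximal ideal of the algebraic integers containing p. Then the principal character is the only irreducible character of degree prime to p in the principal p-block of G if and only if p does not divide the order of G. -/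
theorem result {G : Type*} [Group G] [Finite G] (p : ℕ) [Fact p.Prime] (M : Ideal Cfsg.AlgInt) (hM : Cfsg.IsPModular p M) : (∀ χ : Cfsg.IrrCharacter G, χ ∈ Cfsg.principalBlock M G → ¬ p ∣ Cfsg.charDegree (χ : G → ℂ) → (χ : G → ℂ) = fun _ => (1 : ℂ)) ↔ ¬ p ∣ Nat.card G := by
  classical
  haveI := Fintype.ofFinite G
  haveI := isPrime_of_isPModular hM
  have hp : p.Prime := Fact.out
  let one : IrrCharacter G := ⟨fun g => (((1 : G →* ℂˣ) g : ℂˣ) : ℂ), isIrrCharacter_monoidHom 1⟩
  have hone : (one : G → ℂ) = fun _ => (1 : ℂ) := by funext g; simp [one]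
  have hmem : one ∈ principalBlock M G := by
    show SameBlock M (fun _ : G => (1 : ℂ)) (one : G → ℂ)
    rw [hone]
    exact sameBlock_refl _
  have hU : IsBlockUnion M (principalBlock M G) :=
    IsPBlock.isBlockUnion ⟨one, by rw [hone]; rfl⟩
  constructor
  · intro h hdvd
    obtain ⟨y, hy⟩ := exists_prime_orderOf_dvd_card' p hdvd
    have h0 := sum_block_mul_conj_eq_zero hM (S := Finset.univ.filter (· ∈ principalBlock M G))
      (by simpa using hU) (x := 1) (y := y)
      (by unfold IsPRegular; rw [orderOf_one, Nat.dvd_one]; exact hp.ne_one)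
      (by unfold IsPRegular; rw [hy, not_not])
    rw [← Finset.add_sum_erase _ _ (Finset.mem_filter.mpr ⟨Finset.mem_univ one, hmem⟩), hone] at h0
    simp only [map_one, mul_one] at h0
    set rest := ∑ χ ∈ (Finset.univ.filter (· ∈ principalBlock M G)).erase one,
      (χ : G → ℂ) 1 * (starRingEnd ℂ) ((χ : G → ℂ) y) with hrest
    have h1 : IsIntegral ℤ (rest / p) := by
      rw [hrest, Finset.sum_div]
      refine IsIntegral.sum _ fun χ hχ => ?_
      obtain ⟨hne, hmemχ⟩ := Finset.mem_erase.mp hχ
      obtain ⟨d, hd⟩ := exists_nat_degree (isCharacter_of_isIrr χ.2)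
      have hpd : p ∣ d := by
        by_contra hnd
        refine hne (Subtype.ext ?_)
        rw [hone]
        exact h χ (Finset.mem_filter.mp hmemχ).2 (by rw [charDegree_eq hd]; exact hnd)
      obtain ⟨e, rfl⟩ := hpd
      rw [hd, Nat.cast_mul, show (p : ℂ) * e * (starRingEnd ℂ) ((χ : G → ℂ) y) / p =
        e * (starRingEnd ℂ) ((χ : G → ℂ) y) by
          have := (Nat.cast_ne_zero (R := ℂ)).mpr hp.ne_zero
          field_simp]
      exact (isIntegral_natCast e).mul (isIntegral_conj (isIntegral_value (isCharacter_of_isIrr χ.2) y))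
    have h2 : ((1 : ℕ) : ℂ) / p = -(rest / p) := by
      rw [← neg_div, Nat.cast_one, eq_neg_of_add_eq_zero_left h0]
    exact hp.not_dvd_one (dvd_of_isIntegral_div hp.ne_zero (h2 ▸ h1.neg))
  · intro hG χ hχ _
    by_contra hne
    have hne' : χ ≠ one := fun e => hne (by rw [e, hone])
    have hsum : ∑ g : G, (χ : G → ℂ) g = 0 := by
      have h1 := classInner_irr_ne χ.2 one.2 fun e => hne' (Subtype.ext e)
      simp only [classInner, hone, map_one, mul_one] at h1
      exact (mul_eq_zero.mp h1).resolve_left (inv_ne_zero (Nat.cast_ne_zero.mpr Nat.card_pos.ne'))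
    have hd0 := irr_degree_ne_zero χ.2
    have hsb : SameBlock M (fun _ : G => (1 : ℂ)) (χ : G → ℂ) := hχ
    have hterm : ∀ g : G, MemLocalIdeal M ((1 : ℂ) - (χ : G → ℂ) g / (χ : G → ℂ) 1) := by
      intro g
      have h1 := hsb g
      simp only [centralChar, mul_one, div_one] at h1
      have hm : ¬ MemLocalIdeal M ((Subgroup.centralizer ({g} : Set G)).index : ℂ) := fun h2 =>
        hG (((memLocalIdeal_natCast_iff hM).mp h2).trans (Subgroup.index_dvd_card _))
      have hinv := memLocalRing_inv (memLocalRing_natCast _) hm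
      have h3 := memLocalIdeal_mul_left hinv h1
      rw [mul_sub, inv_mul_cancel₀ (ne_zero_of_not_memLocalIdeal hm),
        show ((Subgroup.centralizer ({g} : Set G)).index : ℂ)⁻¹ *
          (((Subgroup.centralizer ({g} : Set G)).index : ℂ) * (χ : G → ℂ) g / (χ : G → ℂ) 1) =
          (χ : G → ℂ) g / (χ : G → ℂ) 1 by
            rw [mul_div_assoc, ← mul_assoc, inv_mul_cancel₀ (ne_zero_of_not_memLocalIdeal hm), one_mul]] at h3
      exact h3
    have h4 := memLocalIdeal_sum Finset.univ _ fun g _ => hterm g
    rw [Finset.sum_sub_distrib, ← Finset.sum_div, hsum, zero_div, sub_zero, Finset.sum_const,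
      Finset.card_univ, nsmul_eq_mul, mul_one, ← Nat.card_eq_fintype_card] at h4
    exact hG ((memLocalIdeal_natCast_iff hM).mp h4)

end Cfsg.Agent.S4916
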