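import Cfsg.Statements.S4923
import Cfsg.Agent.Lib.Char.ValueField
import Cfsg.Agent.Lib.PGroup.TwoMaximalClass

set_option autoImplicit false
open Cfsg

namespace Cfsg.Agent.S4923

open CfsgLib.Char CfsgLib.Char.ValueField
open scoped CfsgLib.Char commutatorElement

variable {G : Type*} [Group G] [Finite G]

/-- In a group with a cyclic subgroup of index two every element is `c ^ i` or `c ^ i * x`. -/
theorem exists_form {X : Type*} [Group X] [Finite X] {c x : X}
    (hidx : (Subgroup.zpowers c).index = 2) (hx : x ∉ Subgroup.zpowers c) (a : X) :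
    ∃ i : ℕ, a = c ^ i ∨ a = c ^ i * x := by
  by_cases ha : a ∈ Subgroup.zpowers c
  · obtain ⟨i, hi⟩ := mem_powers_iff_mem_zpowers.mpr ha
    exact ⟨i, Or.inl hi.symm⟩
  · have h1 : a * x⁻¹ ∈ Subgroup.zpowers c := by
      rw [Subgroup.mul_mem_iff_of_index_two hidx, inv_mem_iff]
      exact iff_of_false ha hx
    obtain ⟨i, hi⟩ := mem_powers_iff_mem_zpowers.mpr h1
    have hi' : c ^ i = a * x⁻¹ := hi
    exact ⟨i, Or.inr (by rw [hi', inv_mul_cancel_right])⟩

/-- A central element generating a subgroup of index two forces commutativity. -/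
theorem comm_of_central_gen {X : Type*} [Group X] [Finite X] {c : X}
    (hidx : (Subgroup.zpowers c).index = 2) (hc : ∀ y, c * y = y * c) :
    ∀ a b : X, a * b = b * a := by
  obtain ⟨x, hx⟩ : ∃ x, x ∉ Subgroup.zpowers c := by
    by_contra h
    push_neg at h
    rw [(Subgroup.eq_top_iff' _).mpr h, Subgroup.index_top] at hidx
    omega
  intro a b
  obtain ⟨i, hi⟩ := exists_form hidx hx a
  obtain ⟨j, hj⟩ := exists_form hidx hx b
  have hcx : Commute c x := hc x
  have h1 : ∀ m : ℕ, Commute (c ^ m) x := fun m => hcx.pow_left m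
  have h2 : ∀ m l : ℕ, Commute (c ^ m) (c ^ l) := fun m l => Commute.pow_pow_self c m l
  rcases hi with rfl | rfl <;> rcases hj with rfl | rfl
  · exact h2 i j
  · exact (h2 i j).mul_right (h1 i)
  · exact (h2 i j).mul_left (h1 j).symm
  · exact ((h2 i j).mul_right (h1 i)).mul_left ((h1 j).symm.mul_right (Commute.refl x))

/-- The commutator subgroup is generated by `c ^ (r - 1)`. -/
theorem commutator_le_zpowers {X : Type*} [Group X] [Finite X] {c x : X}
    (hidx : (Subgroup.zpowers c).index = 2) (hx : x ∉ Subgroup.zpowers c) {r : ℕ}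
    (hconj : x * c * x⁻¹ = c ^ r) :
    commutator X ≤ Subgroup.zpowers (c ^ ((r : ℤ) - 1)) := by
  set K := Subgroup.zpowers (c ^ ((r : ℤ) - 1)) with hK
  have hKC : K ≤ Subgroup.zpowers c :=
    Subgroup.zpowers_le.mpr (zpow_mem (Subgroup.mem_zpowers c) _)
  have hcC : ∀ i : ℕ, ∀ k ∈ K, c ^ i * k * (c ^ i)⁻¹ = k := by
    intro i k hk
    obtain ⟨m, rfl⟩ := Subgroup.mem_zpowers_iff.mp (hKC hk)
    rw [((Commute.refl c).pow_left i).zpow_right m |>.eq, mul_inv_cancel_right]
  have hxK : ∀ k ∈ K, x * k * x⁻¹ ∈ K := by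
    intro k hk
    obtain ⟨m, rfl⟩ := Subgroup.mem_zpowers_iff.mp hk
    refine Subgroup.mem_zpowers_iff.mpr ⟨r * m, ?_⟩
    rw [← zpow_mul, ← zpow_mul, ← conj_zpow, hconj, ← zpow_natCast, ← zpow_mul]
    congr 1
    ring
  have : K.Normal := ⟨fun k hk a => by
    obtain ⟨i, rfl | rfl⟩ := exists_form hidx hx a
    · rw [hcC i k hk]; exact hk
    · rw [mul_inv_rev, show c ^ i * x * k * (x⁻¹ * (c ^ i)⁻¹) = c ^ i * (x * k * x⁻¹) * (c ^ i)⁻¹
        by group, hcC i _ (hxK k hk)]
      exact hxK k hk⟩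
  have hq : Commute (QuotientGroup.mk' K x) (QuotientGroup.mk' K c) := by
    have h1 : QuotientGroup.mk' K (x * c * x⁻¹) = QuotientGroup.mk' K c := by
      rw [hconj, show c ^ r = c ^ ((r : ℤ) - 1) * c by
        rw [← zpow_add_one, sub_add_cancel, zpow_natCast], map_mul,
        show QuotientGroup.mk' K (c ^ ((r : ℤ) - 1)) = 1 from
          (QuotientGroup.eq_one_iff _).mpr (Subgroup.mem_zpowers _), one_mul]
    rw [map_mul, map_mul, map_inv, mul_inv_eq_iff_eq_mul] at h1
    exact h1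
  have hcomm : ∀ a b : X, Commute (QuotientGroup.mk' K a) (QuotientGroup.mk' K b) := by
    intro a b
    obtain ⟨i, hi⟩ := exists_form hidx hx a
    obtain ⟨j, hj⟩ := exists_form hidx hx b
    have h1 : ∀ m : ℕ, Commute (QuotientGroup.mk' K (c ^ m)) (QuotientGroup.mk' K x) :=
      fun m => by rw [map_pow]; exact hq.symm.pow_left m
    have h2 : ∀ m l : ℕ, Commute (QuotientGroup.mk' K (c ^ m)) (QuotientGroup.mk' K (c ^ l)) :=
      fun m l => (Commute.pow_pow_self c m l).map _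
    rcases hi with rfl | rfl <;> rcases hj with rfl | rfl <;> (try simp only [map_mul])
    · exact h2 i j
    · exact (h2 i j).mul_right (h1 i)
    · exact (h2 i j).mul_left (h1 j).symm
    · exact ((h2 i j).mul_right (h1 i)).mul_left ((h1 j).symm.mul_right (Commute.refl _))
  rw [commutator_def, Subgroup.commutator_le]
  intro a _ b _
  have h := map_commutatorElement (QuotientGroup.mk' K) a b
  rw [commutatorElement_eq_one_iff_commute.mpr (hcomm a b)] at h
  exact (QuotientGroup.eq_one_iff _).mp h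

/-- An element with odd class number is central in a conjugate of the Sylow subgroup. -/
theorem exists_central_conj (P : Sylow 2 G) {g : G} {t : ℕ} (hg : orderOf g = 2 ^ t)
    (hodd : ¬ 2 ∣ (Subgroup.centralizer ({g} : Set G)).index) :
    ∃ d : ↥P, orderOf d = orderOf g ∧ ∀ y, d * y = y * d := by
  set Z := Subgroup.centralizer ({g} : Set G) with hZ
  have hgZ : g ∈ Z := Subgroup.mem_centralizer_singleton_iff.mpr rfl
  have hcent : ∀ z : Z, (⟨g, hgZ⟩ : Z) * z = z * ⟨g, hgZ⟩ := fun z =>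
    Subtype.ext (Subgroup.mem_centralizer_singleton_iff.mp z.2).symm
  have hpg : IsPGroup 2 (Subgroup.zpowers (⟨g, hgZ⟩ : Z)) :=
    IsPGroup.of_card (n := t) (by rw [Nat.card_zpowers, Subgroup.orderOf_mk, hg])
  obtain ⟨Q, hQ⟩ := hpg.exists_le_sylow
  have hgQ : (⟨g, hgZ⟩ : Z) ∈ (Q : Subgroup Z) := hQ (Subgroup.mem_zpowers _)
  have hcardQ : Nat.card ((Q : Subgroup Z).map Z.subtype) =
      2 ^ (Nat.card G).factorization 2 := by
    rw [Subgroup.card_map_of_injective Z.subtype_injective, Q.card_eq_multiplicity,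
      ← Z.card_mul_index, Nat.factorization_mul Nat.card_pos.ne' Subgroup.index_ne_zero_of_finite]
    simp [Nat.factorization_eq_zero_of_not_dvd hodd]
  obtain ⟨h, hh⟩ := MulAction.exists_smul_eq G (Sylow.ofCard _ hcardQ) P
  have hP' : (P : Subgroup G) = ((Q : Subgroup Z).map Z.subtype).map (MulAut.conj h).toMonoidHom := by
    rw [← hh, Sylow.coe_subgroup_smul, Sylow.coe_ofCard]
    rfl
  have hd : h * g * h⁻¹ ∈ (P : Subgroup G) := by
    rw [hP']
    exact ⟨g, ⟨⟨g, hgZ⟩, hgQ, rfl⟩, rfl⟩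
  refine ⟨⟨_, hd⟩, ?_, fun y => ?_⟩
  · rw [Subgroup.orderOf_mk]
    exact (show SemiconjBy h g (h * g * h⁻¹) by simp [SemiconjBy, mul_assoc]).orderOf_eq.symm
  · obtain ⟨u, ⟨q, -, rfl⟩, hu⟩ : (y : G) ∈
        ((Q : Subgroup Z).map Z.subtype).map (MulAut.conj h).toMonoidHom := hP' ▸ y.2
    apply Subtype.ext
    show h * g * h⁻¹ * (y : G) = (y : G) * (h * g * h⁻¹)
    rw [← hu]
    have e : g * (q : G) = (q : G) * g := congrArg Subtype.val (hcent q)
    simp only [MulEquiv.coe_toMonoidHom, MulAut.conj_apply, Subgroup.coe_subtype]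
    calc h * g * h⁻¹ * (h * q * h⁻¹) = h * (g * q) * h⁻¹ := by group
      _ = h * (q * g) * h⁻¹ := by rw [e]
      _ = h * q * h⁻¹ * (h * g * h⁻¹) := by group

/-- Fusion inside a cyclic subgroup of order half a Sylow subgroup. -/
theorem fusion (P : Sylow 2 G) {n : ℕ} (hn : 3 ≤ n) (hP : Nat.card P = 2 ^ n) {g : G}
    (hg : orderOf g = 2 ^ (n - 1)) {x : G} {r : ℕ} (hx : x * g * x⁻¹ = g ^ r) (hr : g ^ r ≠ g)
    (hro : r.Coprime 2) {k : ℕ} (hk : k.Coprime 2) (hconj : IsConj g (g ^ k)) :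
    g ^ k = g ∨ g ^ k = g ^ r := by
  by_contra hne
  push_neg at hne
  set C := Subgroup.zpowers g with hC
  have hgen : ∀ j : ℕ, j.Coprime 2 → Subgroup.zpowers (g ^ j) = C := by
    intro j hj
    refine le_antisymm (Subgroup.zpowers_le.mpr (pow_mem (Subgroup.mem_zpowers g) j)) ?_
    refine Subgroup.zpowers_le.mpr ?_
    obtain ⟨i, hi⟩ := exists_pow_eq_self_of_coprime (x := g) (n := j)
      (by rw [hg]; exact hj.pow_right _)
    have h := pow_mem (Subgroup.mem_zpowers (g ^ j)) i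
    rwa [hi] at h
  have hnorm : ∀ y : G, ∀ j : ℕ, j.Coprime 2 → y * g * y⁻¹ = g ^ j →
      y ∈ Subgroup.normalizer (C : Set G) := by
    intro y j hj hy
    have h1 : C.map (MulAut.conj y).toMonoidHom = C := by
      rw [hC, MonoidHom.map_zpowers]
      show Subgroup.zpowers (y * g * y⁻¹) = _
      rw [hy, hgen j hj]
    rw [Subgroup.mem_normalizer_iff]
    intro z
    constructor
    · intro hz; rw [← h1]; exact ⟨z, hz, rfl⟩
    · intro hz
      rw [← h1] at hz
      obtain ⟨w, hw, hw2⟩ := hz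
      have : w = z := (MulAut.conj y).injective hw2
      exact this ▸ hw
  obtain ⟨y, hy⟩ := isConj_iff.mp hconj
  set φ := C.normalizerMonoidHom with hφ
  have hφv : ∀ (w : G) (hw : w ∈ Subgroup.normalizer (C : Set G)),
      ((φ ⟨w, hw⟩ ⟨g, Subgroup.mem_zpowers g⟩ : C) : G) = w * g * w⁻¹ := fun w hw => rfl
  have h3 : 3 ≤ Nat.card φ.range := by
    classical
    have := Fintype.ofFinite φ.range
    let a : φ.range := ⟨φ 1, 1, rfl⟩
    let b : φ.range := ⟨φ ⟨x, hnorm x r hro hx⟩, _, rfl⟩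
    let c : φ.range := ⟨φ ⟨y, hnorm y k hk hy⟩, _, rfl⟩
    have key : ∀ u v : φ.range, u = v →
        ((u.1 ⟨g, Subgroup.mem_zpowers g⟩ : C) : G) = ((v.1 ⟨g, Subgroup.mem_zpowers g⟩ : C) : G) :=
      fun u v h => by rw [h]
    have va : ((a.1 ⟨g, Subgroup.mem_zpowers g⟩ : C) : G) = g := by simp [a]
    have vb : ((b.1 ⟨g, Subgroup.mem_zpowers g⟩ : C) : G) = g ^ r := (hφv x _).trans hx
    have vc : ((c.1 ⟨g, Subgroup.mem_zpowers g⟩ : C) : G) = g ^ k := (hφv y _).trans hy
    have hab : a ≠ b := fun h => hr (va.symm.trans ((key a b h).trans vb)).symm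
    have hac : a ≠ c := fun h => hne.1 (va.symm.trans ((key a c h).trans vc)).symm
    have hbc : b ≠ c := fun h => hne.2 (vb.symm.trans ((key b c h).trans vc)).symm
    calc 3 = ({a, b, c} : Finset φ.range).card := (Finset.card_eq_three.mpr
          ⟨a, b, c, hab, hac, hbc, rfl⟩).symm
      _ ≤ Fintype.card φ.range := Finset.card_le_univ _
      _ = Nat.card φ.range := Fintype.card_eq_nat_card
  have hCcard : Nat.card C = 2 ^ (n - 1) := by rw [Nat.card_zpowers, hg]
  have hdvd : Nat.card φ.range ∣ 2 ^ (n - 2) := by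
    refine (Subgroup.card_subgroup_dvd_card _).trans (dvd_of_eq ?_)
    rw [IsCyclic.card_mulAut, hCcard, Nat.totient_prime_pow Nat.prime_two (by omega),
      show n - 1 - 1 = n - 2 by omega]
    simp
  have hker : 2 ^ (n - 1) ∣ Nat.card φ.ker := by
    rw [hφ, Subgroup.normalizerMonoidHom_ker, ← hCcard]
    refine (dvd_of_eq ?_).trans (Subgroup.card_dvd_of_le
      (H := C.subgroupOf (Subgroup.normalizer (C : Set G))) ?_)
    · exact (Nat.card_congr (Subgroup.subgroupOfEquivOfLe Subgroup.le_normalizer).toEquiv).symm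
    · intro z hz
      rw [Subgroup.mem_subgroupOf] at hz ⊢
      refine Subgroup.mem_centralizer_iff.mpr fun w hw => ?_
      obtain ⟨i, hi⟩ := Subgroup.mem_zpowers_iff.mp hz
      obtain ⟨j, hj⟩ := Subgroup.mem_zpowers_iff.mp hw
      rw [← hi, ← hj, ← zpow_add, ← zpow_add, add_comm]
  obtain ⟨e, he, hre⟩ := (Nat.dvd_prime_pow Nat.prime_two).mp hdvd
  have he2 : 2 ≤ e := by
    by_contra h
    have := (Nat.pow_le_pow_right (show 0 < 2 by norm_num) (show e ≤ 1 by omega))
    omega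
  have hbig : 2 ^ (n + 1) ∣ Nat.card G := by
    refine dvd_trans ?_ (Subgroup.card_subgroup_dvd_card (Subgroup.normalizer (C : Set G)))
    rw [← φ.ker.card_mul_index, Subgroup.index_ker, hre]
    refine dvd_trans ?_ (Nat.mul_dvd_mul hker (pow_dvd_pow 2 he2))
    rw [← pow_add]
    exact pow_dvd_pow 2 (by omega)
  refine P.not_dvd_index ?_
  rw [← (P : Subgroup G).card_mul_index, hP, pow_succ] at hbig
  exact Nat.dvd_of_mul_dvd_mul_left (by positivity) hbig

theorem zeta_sq_pow {N : ℕ} {ζ : ℂ} (hζ : IsPrimitiveRoot ζ N) {a b : ℕ} {g : G}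
    (hg : orderOf g = N) : g ^ a = g ^ b ↔ ζ ^ a = ζ ^ b := by
  have hN : N ≠ 0 := hg ▸ (orderOf_pos g).ne'
  rw [pow_eq_pow_iff_modEq, hg, hζ.eq_orderOf]
  exact (hζ.isOfFinOrder hN).pow_eq_pow_iff_modEq.symm

/-- An exponent prime to the group order with prescribed residue modulo the Sylow order. -/
theorem exists_exponent (P : Sylow 2 G) {n : ℕ} (hP : Nat.card P = 2 ^ n) {r : ℕ}
    (hr : r.Coprime 2) : ∃ k : ℕ, k.Coprime (Nat.card G) ∧ k ≡ r [MOD 2 ^ n] := by
  have hm : (2 ^ n).Coprime (P : Subgroup G).index :=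
    (Nat.prime_two.coprime_iff_not_dvd.mpr P.not_dvd_index).pow_left n
  obtain ⟨k, hk1, hk2⟩ := Nat.chineseRemainder hm r 1
  refine ⟨k, ?_, hk1⟩
  rw [← (P : Subgroup G).card_mul_index, hP]
  refine Nat.Coprime.mul_right ?_ ?_
  · rw [Nat.Coprime, hk1.gcd_eq]; exact hr.pow_right n
  · rw [Nat.Coprime, hk2.gcd_eq, Nat.gcd_one_left]

theorem forward (P : Sylow 2 G) (n : ℕ) (hn : 3 ≤ n) (hP : Nat.card P = 2 ^ n) (ζ : ℂ)
    (hζ : IsPrimitiveRoot ζ (2 ^ (n - 1))) (h4 : (commutator ↥P).index = 4) :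
    ∃ g : G, g ∈ (P : Subgroup G) ∧ 2 ∣ (Subgroup.centralizer ({g} : Set G)).index ∧
      (IntermediateField.adjoin ℚ (values g) = IntermediateField.adjoin ℚ ({ζ + ζ⁻¹} : Set ℂ) ∨
        IntermediateField.adjoin ℚ (values g) = IntermediateField.adjoin ℚ ({ζ - ζ⁻¹} : Set ℂ)) := by
  obtain ⟨m, rfl⟩ : ∃ m, n = m + 3 := ⟨n - 3, by omega⟩
  rw [show m + 3 - 1 = m + 2 by omega] at hζ
  have hPc : Nat.card ↥P = 2 ^ (m + 3) := hP
  have hP' : Nat.card (commutator ↥P) = 2 ^ (m + 1) := by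
    have h := (commutator ↥P).card_mul_index
    rw [h4, hPc] at h
    have e : 2 ^ (m + 3) = 2 ^ (m + 1) * 4 := by ring
    omega
  obtain ⟨-, C, hC, hCidx⟩ := CfsgLib.MaxClass.taussky (m + 3) ↥P (by omega) hPc
    (by rw [hP', show m + 3 - 2 = m + 1 by omega])
  obtain ⟨c, hc⟩ := (Subgroup.isCyclic_iff_exists_zpowers_eq_top C).mp hC
  subst hc
  have hnc : ¬ ∀ a b : ↥P, a * b = b * a := by
    intro h
    have : commutator ↥P = ⊥ := by
      rw [eq_bot_iff, commutator_def, Subgroup.commutator_le]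
      intro a _ b _
      rw [Subgroup.mem_bot]
      exact commutatorElement_eq_one_iff_commute.mpr (h a b)
    rw [this, Subgroup.card_bot] at hP'
    have := Nat.one_lt_two_pow (show m + 1 ≠ 0 by omega)
    omega
  have hord : orderOf c = 2 ^ (m + 2) := by
    have h := (Subgroup.zpowers c).card_mul_index
    rw [hCidx, hPc, Nat.card_zpowers] at h
    rw [show 2 ^ (m + 3) = 2 ^ (m + 2) * 2 from pow_succ 2 (m + 2)] at h
    omega
  have hg : orderOf (c : G) = 2 ^ (m + 2) := by rw [Subgroup.orderOf_coe, hord]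
  have heven : 2 ∣ (Subgroup.centralizer ({(c : G)} : Set G)).index := by
    by_contra hodd
    obtain ⟨d, hd, hdc⟩ := exists_central_conj P hg hodd
    refine hnc (comm_of_central_gen ?_ hdc)
    have h := (Subgroup.zpowers d).card_mul_index
    rw [Nat.card_zpowers, hd, hg, hPc,
      show 2 ^ (m + 3) = 2 ^ (m + 2) * 2 from pow_succ 2 (m + 2)] at h
    exact Nat.eq_of_mul_eq_mul_left (by positivity) h
  obtain ⟨x, hx⟩ : ∃ x, x ∉ Subgroup.zpowers c := by
    by_contra h
    push_neg at h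
    rw [(Subgroup.eq_top_iff' _).mpr h, Subgroup.index_top] at hCidx
    omega
  have hCn : (Subgroup.zpowers c).Normal := Subgroup.normal_of_index_eq_two hCidx
  obtain ⟨r, hr⟩ := mem_powers_iff_mem_zpowers.mpr
    (hCn.conj_mem c (Subgroup.mem_zpowers c) x)
  have hr' : x * c * x⁻¹ = c ^ r := hr.symm
  have hro : r.Coprime 2 := by
    rw [Nat.coprime_comm, Nat.prime_two.coprime_iff_not_dvd]
    rintro ⟨s, rfl⟩
    have h1 : orderOf (x * c * x⁻¹) = orderOf c :=
      ((show SemiconjBy x c (x * c * x⁻¹) by simp [SemiconjBy, mul_assoc]).orderOf_eq).symm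
    have h2 : c ^ (2 * s * 2 ^ (m + 1)) = 1 := by
      rw [show 2 * s * 2 ^ (m + 1) = 2 ^ (m + 2) * s by ring, pow_mul, ← hord, pow_orderOf_eq_one,
        one_pow]
    rw [hr'] at h1
    have h3 := Nat.le_of_dvd (by positivity) (orderOf_dvd_of_pow_eq_one (x := c ^ (2 * s))
      (n := 2 ^ (m + 1)) (by rw [← pow_mul]; exact h2))
    rw [h1, hord] at h3
    have : 2 ^ (m + 1) < 2 ^ (m + 2) := Nat.pow_lt_pow_right (by norm_num) (by omega)
    omega
  have hrr : c ^ (r * r) = c := by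
    have h2 : x * x ∈ Subgroup.zpowers c := Subgroup.mul_self_mem_of_index_two hCidx x
    obtain ⟨i, hi⟩ := Subgroup.mem_zpowers_iff.mp h2
    have h3 : x * (x * c * x⁻¹) * x⁻¹ = c := by
      rw [show x * (x * c * x⁻¹) * x⁻¹ = (x * x) * c * (x * x)⁻¹ by group, ← hi, ← zpow_add_one,
        ← zpow_neg, ← zpow_add, show i + 1 + -i = 1 by ring, zpow_one]
    rw [hr', ← conj_pow, hr', ← pow_mul] at h3
    exact h3
  -- the exponent `r - 1` has order at least a quarter of the Sylow order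
  have hr4 : ¬ (4 : ℤ) ∣ (r : ℤ) - 1 := by
    rintro ⟨s, hs⟩
    have h1 := Nat.card_le_card_of_injective _ (Subgroup.inclusion_injective
      (commutator_le_zpowers hCidx hx hr'))
    rw [hP', Nat.card_zpowers] at h1
    have h2 : (c ^ ((r : ℤ) - 1)) ^ (2 ^ m) = 1 := by
      rw [← zpow_natCast, ← zpow_mul, hs]
      rw [show (4 * s * ((2 ^ m : ℕ) : ℤ)) = ((2 ^ (m + 2) : ℕ) : ℤ) * s by push_cast; ring,
        zpow_mul, zpow_natCast, ← hord, pow_orderOf_eq_one, one_zpow]
    have h3 := Nat.le_of_dvd (by positivity) (orderOf_dvd_of_pow_eq_one h2)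
    have : 2 ^ m < 2 ^ (m + 1) := Nat.pow_lt_pow_right (by norm_num) (by omega)
    omega
  have hz : ζ ^ (2 * (r + 1)) = 1 := by
    refine (hζ.pow_eq_one_iff_dvd _).mpr ?_
    have h1 : (2 ^ (m + 2) : ℤ) ∣ (r : ℤ) * r - 1 := by
      have h2 : c ^ ((r : ℤ) * r - 1) = 1 := by
        rw [zpow_sub, zpow_one, ← Nat.cast_mul, zpow_natCast, hrr, mul_inv_cancel]
      have := orderOf_dvd_iff_zpow_eq_one.mpr h2
      rw [hord] at this
      exact_mod_cast this
    obtain ⟨t, ht⟩ : ∃ t : ℤ, (r : ℤ) - 1 = 2 * t ∧ ¬ (2 : ℤ) ∣ t := by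
      obtain ⟨t, ht⟩ := (Nat.coprime_two_right.mp hro)
      exact ⟨t, by omega, fun ⟨u, hu⟩ => hr4 ⟨u, by omega⟩⟩
    have h5 : (2 ^ (m + 2) : ℤ) ∣ t * (2 * ((r : ℤ) + 1)) := by
      refine h1.trans (dvd_of_eq ?_)
      have e : (r : ℤ) - 1 = 2 * t := ht.1
      linear_combination ((r : ℤ) + 1) * e
    have h6 : IsCoprime (2 ^ (m + 2) : ℤ) t :=
      ((Int.prime_two.coprime_iff_not_dvd).mpr ht.2).pow_left
    exact_mod_cast h6.dvd_of_dvd_mul_left h5
  have hz0 : ζ ≠ 0 := hζ.ne_zero (by positivity)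
  have hzpm : ζ ^ r = ζ⁻¹ ∨ ζ ^ r = -ζ⁻¹ := by
    have h1 : (ζ ^ r * ζ) * (ζ ^ r * ζ) = 1 := by
      rw [← pow_succ, ← pow_add, ← two_mul]; exact hz
    rcases mul_self_eq_one_iff.mp h1 with h2 | h2
    · exact Or.inl (eq_inv_of_mul_eq_one_left h2)
    · exact Or.inr (by rw [← mul_inv_cancel_right₀ hz0 (ζ ^ r), h2, neg_one_mul])
  have hgr : (x : G) * c * (x : G)⁻¹ = (c : G) ^ r := by
    have := congrArg Subtype.val hr'
    simpa using this
  have hgne : (c : G) ^ r ≠ c := by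
    intro h
    have h1 : c ^ r = c := Subtype.ext (by simpa using h)
    rw [h1, mul_inv_eq_iff_eq_mul] at hr'
    refine hnc (comm_of_central_gen hCidx fun y => ?_)
    obtain ⟨i, rfl | rfl⟩ := exists_form hCidx hx y
    · exact ((Commute.refl c).pow_right i).eq
    · exact (((Commute.refl c).pow_right i).mul_right hr'.symm).eq
  have hzrr : ζ ^ (r * r) = ζ := by
    have h1 : (c : G) ^ (r * r) = (c : G) ^ 1 := by
      rw [pow_one, ← Subgroup.coe_pow, hrr]
    simpa using (zeta_sq_pow hζ hg).mp h1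
  have key : IntermediateField.adjoin ℚ (values (c : G)) =
      IntermediateField.adjoin ℚ ({ζ + ζ ^ r} : Set ℂ) := by
    have hQ : ∀ z ∈ ({ζ + ζ ^ r} : Set ℂ), z ∈ QBar := by
      intro z hz
      rw [Set.mem_singleton_iff.mp hz]
      have := mem_qbar_of_isIntegral (hζ.isIntegral (by positivity))
      exact add_mem this (pow_mem this r)
    refine adjoin_eq_of_fixes_iff (values_mem _) hQ fun ψ => ?_
    obtain ⟨k, hk⟩ := exists_hasExponent G ψ
    have hk2 : k.Coprime 2 := hk.coprime.coprime_dvd_right ((dvd_pow_self 2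
      (show m + 3 ≠ 0 by omega)).trans (hP ▸ (P : Subgroup G).card_subgroup_dvd_card))
    have hN : 2 ^ (m + 2) ∣ Nat.card G := (pow_dvd_pow 2 (by omega)).trans
      (hP ▸ (P : Subgroup G).card_subgroup_dvd_card)
    haveI : NeZero (2 ^ (m + 2)) := ⟨by positivity⟩
    have hkr : ζ ^ (k * (r + 1)) = ζ ^ (r + 1) := by
      obtain ⟨s, hs⟩ := Nat.coprime_two_right.mp hk2
      rw [hs, show (2 * s + 1) * (r + 1) = 2 * (r + 1) * s + (r + 1) by ring, pow_add, pow_mul,
        hz, one_pow, one_mul]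
    rw [fixes_values_iff hk, fixes_pair_iff hζ hN hzrr hk hkr]
    constructor
    · intro h
      rcases fusion P (by omega) hP (by rw [hg]; rfl) hgr hgne hro hk2 h.symm with h1 | h1
      · exact Or.inl (by simpa using (zeta_sq_pow hζ hg (b := 1)).mp (by rw [pow_one]; exact h1))
      · exact Or.inr ((zeta_sq_pow hζ hg).mp h1)
    · rintro (h | h)
      · rw [(zeta_sq_pow hζ hg (b := 1)).mpr (by rw [pow_one]; exact h), pow_one]
      · rw [(zeta_sq_pow hζ hg).mpr h]
        exact (isConj_iff.mpr ⟨(x : G), hgr⟩).symm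
  refine ⟨(c : G), c.2, heven, ?_⟩
  rcases hzpm with h | h
  · exact Or.inl (by rw [key, h])
  · exact Or.inr (by rw [key, h, ← sub_eq_add_neg])

theorem commutator_index_of_eight {X : Type*} [Group X] [Finite X] (hX : Nat.card X = 2 ^ 3)
    (hnc : ¬ ∀ a b : X, a * b = b * a) : (commutator X).index = 4 := by
  haveI : Fact (Nat.Prime 2) := ⟨Nat.prime_two⟩
  have hp : IsPGroup 2 X := IsPGroup.of_card hX
  haveI : Nontrivial X := Finite.one_lt_card_iff_nontrivial.mp (by rw [hX]; norm_num)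
  have hz : Nontrivial (Subgroup.center X) := hp.center_nontrivial
  have hz1 : 1 < Nat.card (Subgroup.center X) := Finite.one_lt_card_iff_nontrivial.mpr hz
  have hmul := (Subgroup.center X).card_mul_index
  obtain ⟨i, -, hi⟩ := (Nat.dvd_prime_pow Nat.prime_two).mp
    (hX ▸ (Subgroup.center X).index_dvd_card)
  have hi2 : i = 2 := by
    rw [hX, hi] at hmul
    have hle : i ≤ 2 := by
      by_contra h
      have := Nat.pow_le_pow_right (show 0 < 2 by norm_num) (show 3 ≤ i by omega)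
      nlinarith
    by_contra h
    have hcyc : IsCyclic (X ⧸ Subgroup.center X) := by
      rcases Nat.lt_succ_iff.mp (show i < 2 by omega) |>.eq_or_lt with h1 | h1
      · exact isCyclic_of_prime_card (p := 2) (by rw [← Subgroup.index_eq_card, hi, h1]; norm_num)
      · have : Subsingleton (X ⧸ Subgroup.center X) := (Nat.card_eq_one_iff_unique.mp
          (by rw [← Subgroup.index_eq_card, hi, show i = 0 by omega]; norm_num)).1
        exact isCyclic_of_subsingleton
    exact hnc (commutative_of_cyclic_center_quotient (QuotientGroup.mk' (Subgroup.center X))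
      (by rw [QuotientGroup.ker_mk']))
  have hzc : Nat.card (Subgroup.center X) = 2 := by
    rw [hX, hi, hi2] at hmul; omega
  have hle : commutator X ≤ Subgroup.center X := by
    rw [commutator_def, Subgroup.commutator_le]
    intro a _ b _
    have h := map_commutatorElement (QuotientGroup.mk' (Subgroup.center X)) a b
    rw [commutatorElement_eq_one_iff_commute.mpr (IsPGroup.commutative_of_card_eq_prime_sq
      (p := 2) (G := X ⧸ Subgroup.center X) (by rw [← Subgroup.index_eq_card, hi, hi2]) _ _)] at h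
    exact (QuotientGroup.eq_one_iff _).mp h
  have hne : commutator X ≠ ⊥ := fun h => hnc fun a b =>
    commutatorElement_eq_one_iff_commute.mp (by
      have := Subgroup.commutator_mem_commutator (Subgroup.mem_top a) (Subgroup.mem_top b)
      rwa [← commutator_def, h, Subgroup.mem_bot] at this)
  have h1 : 1 < Nat.card (commutator X) := by
    rw [Finite.one_lt_card_iff_nontrivial]
    exact (Subgroup.nontrivial_iff_ne_bot _).mpr hne
  have h2 := Subgroup.card_le_of_le hle
  have h3 := (commutator X).card_mul_index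
  rw [hX, show Nat.card (commutator X) = 2 by omega] at h3
  omega

theorem backward (P : Sylow 2 G) (n : ℕ) (hn : 3 ≤ n) (hP : Nat.card P = 2 ^ n) (ζ : ℂ)
    (hζ : IsPrimitiveRoot ζ (2 ^ (n - 1))) {g : G} (hgP : g ∈ (P : Subgroup G))
    (heven : 2 ∣ (Subgroup.centralizer ({g} : Set G)).index) {ε : ℂ} (hε : ε = 1 ∨ ε = -1)
    (hF : IntermediateField.adjoin ℚ (values g) =
      IntermediateField.adjoin ℚ ({ζ + ε * ζ⁻¹} : Set ℂ)) :
    (commutator ↥P).index = 4 := by
  have hnc : ¬ ∀ a b : ↥P, a * b = b * a := by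
    intro h
    refine P.not_dvd_index (heven.trans (Subgroup.index_dvd_of_le fun z hz => ?_))
    exact Subgroup.mem_centralizer_singleton_iff.mpr
      (congrArg Subtype.val (h ⟨z, hz⟩ ⟨g, hgP⟩))
  obtain ⟨m, rfl⟩ : ∃ m, n = m + 3 := ⟨n - 3, by omega⟩
  rcases Nat.eq_zero_or_pos m with rfl | hm
  · exact commutator_index_of_eight hP hnc
  rw [show m + 3 - 1 = m + 2 by omega] at hζ
  have hPc : Nat.card ↥P = 2 ^ (m + 3) := hP
  haveI : NeZero (2 ^ (m + 2)) := ⟨by positivity⟩
  have hz0 : ζ ≠ 0 := hζ.ne_zero (by positivity)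
  set t := ζ + ε * ζ⁻¹ with ht
  have hζQ : ζ ∈ QBar := mem_qbar_of_isIntegral (hζ.isIntegral (by positivity))
  have hεQ : ε ∈ QBar := by rcases hε with rfl | rfl <;> simp
  have htQ : ∀ z ∈ ({t} : Set ℂ), z ∈ QBar := by
    intro z hz
    rw [Set.mem_singleton_iff.mp hz]
    exact add_mem hζQ (mul_mem hεQ (inv_mem hζQ))
  have hNG : 2 ^ (m + 2) ∣ Nat.card G := (pow_dvd_pow 2 (by omega)).trans
    (hP ▸ (P : Subgroup G).card_subgroup_dvd_card)
  have fix : ∀ k : ℕ, k.Coprime (Nat.card G) → IsConj (g ^ k) g → ζ ^ k + ε * (ζ ^ k)⁻¹ = t := by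
    intro k hk hconj
    obtain ⟨ψ, hψ⟩ := exists_embedding_of_coprime hk
    have hf := (fixes_iff_of_adjoin_eq (values_mem g) htQ hF ψ).mp
      ((fixes_values_iff hψ g).mpr hconj)
    have hεq : ψ ⟨ε, hεQ⟩ = ε := by
      rcases hε with h | h
      · rw [show (⟨ε, hεQ⟩ : QBar) = 1 from Subtype.ext h, map_one, h]
      · rw [show (⟨ε, hεQ⟩ : QBar) = -1 from Subtype.ext h, map_neg, map_one, h]
    have h1 : ζ ^ Nat.card G = 1 := by
      obtain ⟨e, he⟩ := hNG; rw [he, pow_mul, hζ.pow_eq_one, one_pow]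
    have h2 := hf ((⟨ζ, hζQ⟩ : QBar) + ⟨ε, hεQ⟩ * (⟨ζ, hζQ⟩ : QBar)⁻¹) (by simp [ht])
    rw [map_add, map_mul, map_inv₀, hεq, hψ.roots ⟨ζ, hζQ⟩ h1] at h2
    simpa [ht] using h2
  have hsol : ∀ k : ℕ, ζ ^ k + ε * (ζ ^ k)⁻¹ = t → ζ ^ k = ζ ∨ ζ ^ k * ζ = ε := by
    intro k hk
    have hk0 : ζ ^ k ≠ 0 := pow_ne_zero k hz0
    have h : (ζ ^ k - ζ) * (ζ ^ k * ζ - ε) = 0 := by
      rw [ht] at hk; field_simp at hk; linear_combination hk
    rcases mul_eq_zero.mp h with h | h
    · exact Or.inl (sub_eq_zero.mp h)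
    · exact Or.inr (sub_eq_zero.mp h)
  have hεev : ε * ε = 1 := by rcases hε with rfl | rfl <;> norm_num
  have hnot4 : ∀ j : ℕ, ζ ^ j * ζ ^ j = 1 → 2 ^ (m + 1) ∣ j := by
    intro j hj
    rw [← pow_add, ← two_mul, hζ.pow_eq_one_iff_dvd, pow_succ'] at hj
    exact Nat.dvd_of_mul_dvd_mul_left (by norm_num) hj
  have hordP : orderOf (⟨g, hgP⟩ : ↥P) = orderOf g := Subgroup.orderOf_mk _ _
  obtain ⟨o, ho, hgo⟩ := (Nat.dvd_prime_pow Nat.prime_two).mp
    (hPc ▸ hordP ▸ orderOf_dvd_natCard (⟨g, hgP⟩ : ↥P))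
  have hlow : m + 2 ≤ o := by
    by_contra hlt
    obtain ⟨k, hk, hk1⟩ := exists_exponent P hP (r := 2 ^ (m + 1) + 1) (by
      rw [Nat.coprime_two_right]; exact ⟨2 ^ m, by ring⟩)
    have hgk : g ^ k = g := by
      conv_rhs => rw [← pow_one g]
      rw [pow_eq_pow_iff_modEq, hgo]
      refine (hk1.of_dvd (pow_dvd_pow 2 ho)).trans ?_
      exact (Nat.modEq_iff_dvd' (Nat.le_add_left _ _)).mpr
        (by simpa using pow_dvd_pow 2 (show o ≤ m + 1 by omega)) |>.symm
    have hζk : ζ ^ k = -ζ := by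
      rw [pow_eq_pow_mod k hζ.pow_eq_one, hk1.of_dvd (pow_dvd_pow 2 (by omega)),
        ← pow_eq_pow_mod _ hζ.pow_eq_one, pow_succ]
      have := (hζ.pow (by positivity) (pow_succ 2 (m + 1))).eq_neg_one_of_two_right
      rw [this, neg_one_mul]
    have h := hsol k (fix k hk (by rw [hgk]))
    rw [hζk] at h
    rcases h with h | h
    · exact hz0 (neg_eq_self.mp h)
    · have h4 : ζ ^ 2 * ζ ^ 2 = 1 := by
        have : ε * ε = ζ ^ 2 * ζ ^ 2 := by rw [← h]; ring
        rw [← this, hεev]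
      have := Nat.le_of_dvd (by norm_num) (hnot4 2 h4)
      have := Nat.pow_le_pow_right (show 0 < 2 by norm_num) (show 2 ≤ m + 1 by omega)
      omega
  have htop : o ≠ m + 3 := by
    intro h
    refine hnc fun a b => ?_
    have := isCyclic_of_orderOf_eq_card (⟨g, hgP⟩ : ↥P) (by rw [hordP, hgo, hPc, h])
    exact mul_comm' a b
  have hgord : orderOf g = 2 ^ (m + 2) := by rw [hgo, show o = m + 2 by omega]
  set c : ↥P := ⟨g, hgP⟩ with hc
  have hcord : orderOf c = 2 ^ (m + 2) := hordP.trans hgord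
  have hCidx : (Subgroup.zpowers c).index = 2 := by
    have h := (Subgroup.zpowers c).card_mul_index
    rw [Nat.card_zpowers, hcord, hPc,
      show 2 ^ (m + 3) = 2 ^ (m + 2) * 2 from pow_succ 2 (m + 2)] at h
    exact Nat.eq_of_mul_eq_mul_left (by positivity) h
  obtain ⟨x, hx⟩ : ∃ x, x ∉ Subgroup.zpowers c := by
    by_contra h
    push_neg at h
    rw [(Subgroup.eq_top_iff' _).mpr h, Subgroup.index_top] at hCidx
    omega
  obtain ⟨r, hr⟩ := mem_powers_iff_mem_zpowers.mpr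
    ((Subgroup.normal_of_index_eq_two hCidx).conj_mem c (Subgroup.mem_zpowers c) x)
  have hr' : x * c * x⁻¹ = c ^ r := hr.symm
  have hgr : (x : G) * g * (x : G)⁻¹ = g ^ r := by simpa using congrArg Subtype.val hr'
  have hrne : c ^ r ≠ c := by
    intro h
    rw [h, mul_inv_eq_iff_eq_mul] at hr'
    refine hnc (comm_of_central_gen hCidx fun y => ?_)
    obtain ⟨i, rfl | rfl⟩ := exists_form hCidx hx y
    · exact ((Commute.refl c).pow_right i).eq
    · exact (((Commute.refl c).pow_right i).mul_right hr'.symm).eq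
  have hro : r.Coprime 2 := by
    rw [Nat.coprime_comm, Nat.prime_two.coprime_iff_not_dvd]
    rintro ⟨s, rfl⟩
    have h1 : orderOf (x * c * x⁻¹) = orderOf c :=
      ((show SemiconjBy x c (x * c * x⁻¹) by simp [SemiconjBy, mul_assoc]).orderOf_eq).symm
    have h2 : c ^ (2 * s * 2 ^ (m + 1)) = 1 := by
      rw [show 2 * s * 2 ^ (m + 1) = 2 ^ (m + 2) * s by ring, pow_mul, ← hcord, pow_orderOf_eq_one,
        one_pow]
    rw [hr'] at h1
    have h3 := Nat.le_of_dvd (by positivity) (orderOf_dvd_of_pow_eq_one (x := c ^ (2 * s))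
      (n := 2 ^ (m + 1)) (by rw [← pow_mul]; exact h2))
    rw [h1, hcord] at h3
    have : 2 ^ (m + 1) < 2 ^ (m + 2) := Nat.pow_lt_pow_right (by norm_num) (by omega)
    omega
  obtain ⟨k, hk, hkr⟩ := exists_exponent P hP hro
  have hgk : g ^ k = g ^ r := by
    rw [pow_eq_pow_iff_modEq, hgord]; exact hkr.of_dvd (pow_dvd_pow 2 (by omega))
  have hζk : ζ ^ k = ζ ^ r := (zeta_sq_pow hζ hgord).mp hgk
  have hfix := hsol k (fix k hk (by rw [hgk]; exact (isConj_iff.mpr ⟨(x : G), hgr⟩).symm))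
  rw [hζk] at hfix
  have hre : ζ ^ r * ζ = ε := hfix.resolve_left fun h => hrne (Subtype.ext (by
    have := (zeta_sq_pow hζ hgord (a := r) (b := 1)).mpr (by rw [pow_one]; exact h)
    simpa using this))
  have hK := commutator_le_zpowers hCidx hx hr'
  set d := c ^ ((r : ℤ) - 1) with hd
  have hdmem : d ∈ commutator ↥P := by
    have : d = ⁅x, c⁆ := by
      rw [commutatorElement_def, hr', hd, zpow_sub_one, zpow_natCast]
    rw [this, commutator_def]
    exact Subgroup.commutator_mem_commutator (Subgroup.mem_top x) (Subgroup.mem_top c)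
  have heq : commutator ↥P = Subgroup.zpowers d := le_antisymm hK (Subgroup.zpowers_le.mpr hdmem)
  have hdord : orderOf d = 2 ^ (m + 1) := by
    refine orderOf_eq_prime_pow ?_ ?_
    · intro h1
      rw [hd, ← zpow_natCast, ← zpow_mul, ← orderOf_dvd_iff_zpow_eq_one, hcord] at h1
      have h2 : ζ ^ (((r : ℤ) - 1) * ((2 ^ m : ℕ) : ℤ)) = 1 :=
        (hζ.zpow_eq_one_iff_dvd _).mpr h1
      have h3 : ζ ^ ((r : ℤ) - 1) = ε * (ζ ^ 2)⁻¹ := by
        rw [zpow_sub_one₀ hz0, zpow_natCast, ← hre]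
        field_simp
      rw [zpow_mul, h3, zpow_natCast, mul_pow, inv_pow, ← pow_mul,
        show 2 * 2 ^ m = 2 ^ (m + 1) by ring] at h2
      have h4 : ε ^ (2 ^ m) = 1 := by
        obtain ⟨j, hj⟩ := dvd_pow_self 2 hm.ne'
        rw [hj, pow_mul, sq, hεev, one_pow]
      rw [h4, one_mul, inv_eq_one, hζ.pow_eq_one_iff_dvd] at h2
      have := Nat.le_of_dvd (by positivity) h2
      have : 2 ^ (m + 1) < 2 ^ (m + 2) := Nat.pow_lt_pow_right (by norm_num) (by omega)
      omega
    · obtain ⟨s, hs⟩ := Nat.coprime_two_right.mp hro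
      rw [hd, ← zpow_natCast, ← zpow_mul, ← orderOf_dvd_iff_zpow_eq_one, hcord, hs]
      exact ⟨s, by push_cast; ring⟩
  have h := (commutator ↥P).card_mul_index
  rw [show Nat.card (commutator ↥P) = 2 ^ (m + 1) by rw [heq, Nat.card_zpowers, hdord], hPc,
    show 2 ^ (m + 3) = 2 ^ (m + 1) * 4 by ring] at h
  exact Nat.eq_of_mul_eq_mul_left (by positivity) h


/-- Let G be a finite group with Sylow 2-subgroup P of order 2^n ≥ 8, and let ζ be a primitive 2^(n−1)-th root of unity in ℂ. Then the commutator subgroup of P has index 4 in P if and only if there is an element g of P whose conjugacy class in G has even size and such that the field generated over ℚ by the values at g of all irreducible complex characters of G equals ℚ(ζ + ζ⁻¹) or ℚ(ζ − ζ⁻¹). -/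
theorem result {G : Type*} [Group G] [Finite G] (P : Sylow 2 G) (n : ℕ) (hn : 3 ≤ n) (hP : Nat.card P = 2 ^ n) (ζ : ℂ) (hζ : IsPrimitiveRoot ζ (2 ^ (n - 1))) :
    (commutator ↥P).index = 4 ↔
      ∃ g : G, g ∈ (P : Subgroup G) ∧ 2 ∣ (Subgroup.centralizer ({g} : Set G)).index ∧
        (IntermediateField.adjoin ℚ {z : ℂ | ∃ χ : Cfsg.IrrCharacter G, (χ : G → ℂ) g = z} = IntermediateField.adjoin ℚ ({ζ + ζ⁻¹} : Set ℂ) ∨
          IntermediateField.adjoin ℚ {z : ℂ | ∃ χ : Cfsg.IrrCharacter G, (χ : G → ℂ) g = z} = IntermediateField.adjoin ℚ ({ζ - ζ⁻¹} : Set ℂ)) := by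
  constructor
  · exact forward P n hn hP ζ hζ
  · rintro ⟨g, hgP, heven, hF⟩
    rcases hF with hF | hF
    · exact backward P n hn hP ζ hζ hgP heven (ε := 1) (Or.inl rfl) (by rw [one_mul]; exact hF)
    · exact backward P n hn hP ζ hζ hgP heven (ε := -1) (Or.inr rfl)
        (by rw [neg_one_mul, ← sub_eq_add_neg]; exact hF)

end Cfsg.Agent.S4923
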