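import Cfsg.Statements.S4930
import Cfsg.Agent.Lib.Char.OddDegreeSum
import Cfsg.Agent.Lib.OddOrder.Solvable
import Cfsg.Agent.S4456

set_option autoImplicit false
open Cfsg

namespace Cfsg.Agent.S4930

open CfsgLib.Char CfsgLib.Char.OddDegreeSum
open scoped CfsgLib.Char

theorem commutator_card_congr {A B : Type*} [Group A] [Group B] (e : A ≃* B) :
    Nat.card (commutator A) = Nat.card (commutator B) := by
  rw [← Subgroup.card_map_of_injective (f := e.toMonoidHom) e.injective]
  congr 1
  rw [map_commutator_eq, MonoidHom.range_eq_top.mpr e.surjective, commutator_def]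

theorem sum_normalizer {G : Type*} [Group G] [Finite G] (P : Sylow 2 G) :
    oddSq (Subgroup.normalizer ((P : Subgroup G) : Set G)) * Nat.card (commutator ↥P) =
      Nat.card (Subgroup.normalizer ((P : Subgroup G) : Set G)) := by
  set N := Subgroup.normalizer ((P : Subgroup G) : Set G) with hN
  haveI : ((P : Subgroup G).subgroupOf N).Normal := Subgroup.normal_in_normalizer
  have e := Subgroup.subgroupOfEquivOfLe (Subgroup.le_normalizer : (P : Subgroup G) ≤ N)
  have h := oddSq_normal ((P : Subgroup G).subgroupOf N) (P.2.of_equiv e.symm)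
    (fun h => P.not_dvd_index (h.trans (Subgroup.relIndex_dvd_index_of_le Subgroup.le_normalizer)))
  rwa [commutator_card_congr e] at h

theorem odd_index_normalizer {G : Type*} [Group G] [Finite G] (P : Sylow 2 G) :
    ¬ 2 ∣ (Subgroup.normalizer ((P : Subgroup G) : Set G)).index := fun h =>
  P.not_dvd_index (h.trans (Subgroup.index_dvd_of_le Subgroup.le_normalizer))

/-- Equality in a group whose abelianization is a 2-group. -/
theorem npc_of_equality {K : Type*} [Group K] [Finite K] (P : Sylow 2 K)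
    (heq : oddSq (Subgroup.normalizer ((P : Subgroup K) : Set K)) = oddSq K)
    (hgen : ∀ (f : K →* ℂˣ) (k : K), ∃ j : ℕ, f k ^ 2 ^ j = 1) :
    Subgroup.normalizer ((P : Subgroup K) : Set K) = P ∧
      ∃ U : Subgroup K, U.Normal ∧ (Nat.card U).Coprime 2 ∧ ∃ j : ℕ, U.index = 2 ^ j := by
  classical
  set N := Subgroup.normalizer ((P : Subgroup K) : Set K) with hN
  obtain ⟨hirr, hext⟩ := (bound N (odd_index_normalizer P)).2 heq
  haveI hPn : ((P : Subgroup K).subgroupOf N).Normal := Subgroup.normal_in_normalizer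
  have hNP : N = P := by
    refine le_antisymm ?_ Subgroup.le_normalizer
    rw [← Subgroup.subgroupOf_eq_top]
    by_contra hne
    haveI : Nontrivial (N ⧸ (P : Subgroup K).subgroupOf N) := QuotientGroup.nontrivial_iff.mpr hne
    set Q := N ⧸ (P : Subgroup K).subgroupOf N with hQ
    have hodd : Odd (Nat.card Q) := by
      rw [← Nat.not_even_iff_odd, even_iff_two_dvd]
      exact fun h => P.not_dvd_index (h.trans (Subgroup.relIndex_dvd_index_of_le Subgroup.le_normalizer))
    haveI := CfsgLib.OddOrder.odd_order_solvable (G := Q) hodd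
    haveI : Finite (Abelianization Q) := Finite.of_surjective _ QuotientGroup.mk_surjective
    have hnt : Nontrivial (Abelianization Q) :=
      QuotientGroup.nontrivial_iff.mpr (Group.IsSolvable.commutator_lt_top_of_nontrivial Q).ne
    haveI : Nontrivial (Abelianization Q →* ℂˣ) := by
      haveI : Finite (Abelianization Q →* ℂˣ) :=
        Nat.finite_of_card_ne_zero (by rw [card_hom_units]; exact Nat.card_pos.ne')
      rw [← Finite.one_lt_card_iff_nontrivial, card_hom_units]
      exact Finite.one_lt_card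
    obtain ⟨f, hf⟩ := exists_ne (1 : Abelianization Q →* ℂˣ)
    let π : N →* Abelianization Q := Abelianization.of.comp (QuotientGroup.mk' _)
    have hπ : Function.Surjective π :=
      (QuotientGroup.mk_surjective (s := commutator Q)).comp (QuotientGroup.mk'_surjective _)
    refine hf (MonoidHom.ext fun a => ?_)
    obtain ⟨x, rfl⟩ := hπ a
    let ψ : IrrCharacter N := ⟨fun y => (f (π y) : ℂ), isIrrCharacter_monoidHom (f.comp π)⟩
    have hψ : ψ ∈ oddIrr N := by
      rw [mem_oddIrr, Extraspecial.charDegree_eq (d := 1) (show (ψ : N → ℂ) 1 = ((1 : ℕ) : ℂ) by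
        simp [ψ])]
      norm_num
    obtain ⟨χ, -, hχ⟩ := hext ψ hψ
    have h1 : (χ : K → ℂ) 1 = 1 := by
      have := congrFun hχ 1
      simpa [ψ] using this
    obtain ⟨j, hj⟩ := hgen (linearHom (isCharacter_of_isIrr χ.2) h1) (x : K)
    have hval : linearHom (isCharacter_of_isIrr χ.2) h1 (x : K) = f (π x) :=
      Units.ext (by rw [linearHom_apply]; exact congrFun hχ x)
    rw [hval] at hj
    have hQx : f (π x) ^ Nat.card Q = 1 := by
      rw [show π x = Abelianization.of (QuotientGroup.mk' _ x) from rfl, ← map_pow, ← map_pow,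
        pow_card_eq_one', map_one, map_one]
    have hcop : Nat.Coprime (2 ^ j) (Nat.card Q) :=
      ((Nat.prime_two.coprime_iff_not_dvd).mpr
        (fun h => Nat.not_even_iff_odd.mpr hodd (even_iff_two_dvd.mpr h))).pow_left j
    rw [MonoidHom.one_apply]
    exact orderOf_eq_one_iff.mp (Nat.eq_one_of_dvd_coprimes hcop
      (orderOf_dvd_of_pow_eq_one hj) (orderOf_dvd_of_pow_eq_one hQx))
  refine ⟨hNP, S4456.result 2 Nat.prime_two fun χ hne => ?_⟩
  by_contra h2
  let ψ : IrrCharacter N := ⟨_, hirr χ (mem_oddIrr.mpr h2)⟩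
  have hd : charDegree (ψ : N → ℂ) = charDegree (χ : K → ℂ) :=
    Extraspecial.charDegree_eq (by
      show (χ : K → ℂ) ((1 : N) : K) = _
      rw [OneMemClass.coe_one, charDegree_spec])
  obtain ⟨e, he⟩ := IsPGroup.iff_card.mp P.2
  have hdvd : charDegree (χ : K → ℂ) ∣ 2 ^ e := by
    rw [← hd, ← he]
    exact (charDegree_dvd_card ψ).trans (dvd_of_eq (by rw [hNP]))
  obtain ⟨i, -, hi⟩ := (Nat.dvd_prime_pow Nat.prime_two).mp hdvd
  rcases Nat.eq_zero_or_pos i with rfl | hi0
  · exact hne (by rw [hi, pow_zero])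
  · exact h2 (hi ▸ dvd_pow_self 2 hi0.ne')

theorem complement_of_equality {G : Type*} [Group G] [Finite G] (P : Sylow 2 G)
    (heq : oddSq (Subgroup.normalizer ((P : Subgroup G) : Set G)) = oddSq G) :
    ∃ U : Subgroup G, U.Normal ∧ U ⊓ Subgroup.normalizer ((P : Subgroup G) : Set G) = ⊥ ∧
      U ⊔ Subgroup.normalizer ((P : Subgroup G) : Set G) = ⊤ := by
  classical
  set N := Subgroup.normalizer ((P : Subgroup G) : Set G) with hN
  set K := Subgroup.normalClosure ((P : Subgroup G) : Set G) with hK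
  haveI hKn : K.Normal := Subgroup.normalClosure_normal
  have hPK : (P : Subgroup G) ≤ K := Subgroup.le_normalClosure
  have hPN : (P : Subgroup G) ≤ N := Subgroup.le_normalizer
  have hKodd : ¬ 2 ∣ K.index := fun h =>
    P.not_dvd_index (h.trans (Subgroup.index_dvd_of_le hPK))
  let PK : Sylow 2 K := P.subtype hPK
  have hPK' : (PK : Subgroup K) = (P : Subgroup G).subgroupOf K := rfl
  have hNK : Subgroup.normalizer ((PK : Subgroup K) : Set K) = N.subgroupOf K := by
    rw [hPK', hN, Subgroup.subgroupOf_normalizer_eq hPK]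
  have hfrat : N ⊔ K = ⊤ := by
    have := Sylow.normalizer_sup_eq_top PK
    rwa [hPK', Subgroup.map_subgroupOf_eq_of_le hPK] at this
  have hrel : K.relIndex N = K.index := by
    rw [← Subgroup.relIndex_sup_right, hfrat, Subgroup.relIndex_top_right]
  have hcardN : Nat.card N = Nat.card (N.subgroupOf K) * K.index := by
    have e1 : Nat.card (K.subgroupOf N) * K.index = Nat.card N := by
      rw [← hrel]; exact Subgroup.card_mul_index _
    have e2 : Nat.card (N.subgroupOf K) = Nat.card (K.subgroupOf N) := by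
      rw [← Subgroup.inf_subgroupOf_right N K, ← Subgroup.inf_subgroupOf_right K N,
        Nat.card_congr (Subgroup.subgroupOfEquivOfLe inf_le_right).toEquiv,
        Nat.card_congr (Subgroup.subgroupOfEquivOfLe inf_le_right).toEquiv, inf_comm]
    rw [e2, e1]
  have h1 := sum_normalizer PK
  rw [hNK] at h1
  replace h1 : oddSq (N.subgroupOf K) * Nat.card (commutator ↥P) = Nat.card (N.subgroupOf K) := by
    have e : Nat.card (commutator ↥(PK : Subgroup K)) = Nat.card (commutator ↥(P : Subgroup G)) :=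
      commutator_card_congr (Subgroup.subgroupOfEquivOfLe hPK)
    calc oddSq (N.subgroupOf K) * Nat.card (commutator ↥P)
        = oddSq (N.subgroupOf K) * Nat.card (commutator ↥(PK : Subgroup K)) :=
          congrArg _ e.symm
      _ = Nat.card (N.subgroupOf K) := h1
  have h2 := sum_normalizer P
  have hKeq : oddSq (Subgroup.normalizer ((PK : Subgroup K) : Set K)) = oddSq K := by
    rw [hNK]
    have h3 : oddSq N = K.index * oddSq (N.subgroupOf K) := by
      refine Nat.eq_of_mul_eq_mul_right (Nat.card_pos (α := commutator ↥P)) ?_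
      rw [h2, mul_assoc, h1, hcardN, mul_comm]
    rw [heq, oddSq_eq_index_mul K hKodd] at h3
    exact (Nat.eq_of_mul_eq_mul_left (Nat.pos_of_ne_zero Subgroup.index_ne_zero_of_finite) h3).symm
  have hgen : ∀ (f : K →* ℂˣ) (k : K), ∃ j : ℕ, f k ^ 2 ^ j = 1 := by
    intro f
    let S : Subgroup K :=
      { carrier := {k | ∃ j : ℕ, f k ^ 2 ^ j = 1}
        one_mem' := ⟨0, by simp⟩
        mul_mem' := fun {a b} ⟨i, hi⟩ ⟨j, hj⟩ => ⟨i + j, by
          rw [map_mul, mul_pow, pow_add, pow_mul, hi, one_pow, one_mul, mul_comm, pow_mul, hj, one_pow]⟩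
        inv_mem' := fun {a} ⟨i, hi⟩ => ⟨i, by rw [map_inv, inv_pow, hi, inv_one]⟩ }
    have hle : K ≤ S.map K.subtype := by
      conv_lhs => rw [hK, Subgroup.normalClosure]
      refine (Subgroup.closure_le _).mpr fun x hx => ?_
      have hxK : x ∈ K := Subgroup.conjugatesOfSet_subset_normalClosure hx
      obtain ⟨a, ha, hax⟩ := Group.mem_conjugatesOfSet_iff.mp hx
      obtain ⟨c, rfl⟩ := isConj_iff.mp hax
      obtain ⟨i, hi⟩ := P.2 ⟨a, ha⟩
      have hai : a ^ 2 ^ i = 1 := by
        have := congrArg Subtype.val hi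
        simpa using this
      refine ⟨⟨_, hxK⟩, ⟨i, ?_⟩, rfl⟩
      rw [← map_pow, show (⟨c * a * c⁻¹, hxK⟩ : K) ^ 2 ^ i = 1 from Subtype.ext (by
        rw [SubgroupClass.coe_pow, conj_pow, hai, mul_one, mul_inv_cancel, OneMemClass.coe_one]),
        map_one]
    intro k
    obtain ⟨k', hk', he⟩ := hle k.2
    rwa [show k' = k from Subtype.ext he] at hk'
  obtain ⟨hNP, U, hUn, hUc, j, hUi⟩ := npc_of_equality PK hKeq hgen
  have hUodd : ∀ u : K, u ∈ U ↔ (orderOf u).Coprime 2 := by
    intro u
    refine ⟨fun hu => ?_, fun hu => ?_⟩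
    · exact Nat.Coprime.coprime_dvd_left
        ((Subgroup.orderOf_mk u hu) ▸ orderOf_dvd_natCard (⟨u, hu⟩ : U)) hUc
    · rw [← QuotientGroup.eq_one_iff, ← orderOf_eq_one_iff]
      exact Nat.eq_one_of_dvd_coprimes (hu.pow_right j) (orderOf_map_dvd (QuotientGroup.mk' U) u)
        (hUi ▸ U.index_eq_card ▸ orderOf_dvd_natCard _)
  refine ⟨U.map K.subtype, ⟨fun x hx g => ?_⟩, ?_, ?_⟩
  · obtain ⟨u, hu, rfl⟩ := hx
    refine ⟨⟨g * u * g⁻¹, hKn.conj_mem u u.2 g⟩, ?_, rfl⟩
    rw [SetLike.mem_coe, hUodd, ← Subgroup.orderOf_coe] at hu ⊢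
    show (orderOf (MulAut.conj g (u : G))).Coprime 2
    rwa [MulEquiv.orderOf_eq]
  · rw [eq_bot_iff]
    rintro x ⟨⟨u, hu, rfl⟩, hxN⟩
    have huP : u ∈ (PK : Subgroup K) := by
      rw [← hNP, hNK]; exact hxN
    obtain ⟨i, hi⟩ := IsPGroup.iff_card.mp PK.2
    have hd : orderOf u ∣ 2 ^ i :=
      hi ▸ (Subgroup.orderOf_mk u huP) ▸ orderOf_dvd_natCard (⟨u, huP⟩ : (PK : Subgroup K))
    have hu1 : u = 1 := orderOf_eq_one_iff.mp
      (Nat.eq_one_of_dvd_coprimes (((hUodd u).mp hu).pow_right i) dvd_rfl hd)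
    simp [hu1]
  · rw [eq_top_iff, ← hfrat]
    refine sup_le le_sup_right ?_
    have hUP : U ⊔ (PK : Subgroup K) = ⊤ := by
      rw [← Subgroup.index_eq_one]
      have hd1 : (U ⊔ (PK : Subgroup K)).index ∣ 2 ^ j := by
        rw [← hUi]; exact Subgroup.index_dvd_of_le le_sup_left
      have hd2 : (U ⊔ (PK : Subgroup K)).index ∣ (PK : Subgroup K).index :=
        Subgroup.index_dvd_of_le le_sup_right
      have hc : Nat.Coprime (2 ^ j) (PK : Subgroup K).index :=
        ((Nat.prime_two.coprime_iff_not_dvd).mpr PK.not_dvd_index).pow_left j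
      exact Nat.eq_one_of_dvd_coprimes hc hd1 hd2
    have hmap := congrArg (Subgroup.map K.subtype) hUP
    rw [Subgroup.map_sup, hPK', Subgroup.map_subgroupOf_eq_of_le hPK, ← MonoidHom.range_eq_map,
      Subgroup.range_subtype] at hmap
    exact hmap.symm.le.trans (sup_le le_sup_left (hPN.trans le_sup_right))

/-- Let G be a finite group, P a Sylow 2-subgroup of G with normalizer N, and P′ the commutator subgroup of P. Then the sum of the squares of the degrees of the irreducible complex characters of G of odd degree is at least the index of P′ in N (the order of N divided by the order of P′), and equality holds if and only if N has a normal complement in G: a normal subgroup K of G with K ∩ N = 1 and KN = G. -/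
theorem result {G : Type*} [Group G] [Finite G] (P : Sylow 2 G) :
    Nat.card (Subgroup.normalizer ((P : Subgroup G) : Set G)) ≤ Nat.card (commutator ↥P) * (∑ᶠ χ : {χ : Cfsg.IrrCharacter G // ¬ 2 ∣ Cfsg.charDegree (χ : G → ℂ)}, Cfsg.charDegree (χ.1 : G → ℂ) ^ 2) ∧
    (Nat.card (Subgroup.normalizer ((P : Subgroup G) : Set G)) = Nat.card (commutator ↥P) * (∑ᶠ χ : {χ : Cfsg.IrrCharacter G // ¬ 2 ∣ Cfsg.charDegree (χ : G → ℂ)}, Cfsg.charDegree (χ.1 : G → ℂ) ^ 2) ↔
      ∃ K : Subgroup G, K.Normal ∧ K ⊓ Subgroup.normalizer ((P : Subgroup G) : Set G) = ⊥ ∧ K ⊔ Subgroup.normalizer ((P : Subgroup G) : Set G) = ⊤) := by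
  rw [finsum_eq_oddSq]
  have hN := sum_normalizer P
  have hb := bound (Subgroup.normalizer ((P : Subgroup G) : Set G)) (odd_index_normalizer P)
  refine ⟨hN.symm.le.trans (by rw [mul_comm]; exact Nat.mul_le_mul_left _ hb.1),
    fun h => complement_of_equality P ?_, ?_⟩
  · rw [← hN, mul_comm] at h
    exact Nat.eq_of_mul_eq_mul_left Nat.card_pos h
  · rintro ⟨K, hK, hinf, hsup⟩
    haveI := hK
    rw [← hN, mul_comm, le_antisymm hb.1 (le_of_complement P K hinf hsup)]

end Cfsg.Agent.S4930
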