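import Cfsg.Statements.S4931
import Cfsg.Agent.Lib.Char.ItoMichler
import Cfsg.Agent.Lib.Char.Kernel
import Cfsg.Agent.Lib.Blocks.Inflate
import Cfsg.Agent.Lib.Transfer.TateFrattini
import Cfsg.Agent.Lib.HSub.Fusion

set_option autoImplicit false
open Cfsg
open scoped commutatorElement

namespace Cfsg.Agent.S4931

/-- If the characters of `N / S` extend, the normal closure of `S` meets `N` in `S`. -/
theorem normalClosure_inf {G : Type*} [Group G] [Finite G] (N : Subgroup G) (S : Subgroup N)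
    [S.Normal]
    (hext : ∀ η : Cfsg.IrrCharacter (N ⧸ S),
      ∃ χ : Cfsg.IrrCharacter G, ∀ x : N, (χ : G → ℂ) x = (η : N ⧸ S → ℂ) (x : N ⧸ S))
    (x : N) (hx : (x : G) ∈ Subgroup.normalClosure ((S.map N.subtype : Subgroup G) : Set G)) :
    x ∈ S := by
  rw [← QuotientGroup.eq_one_iff]
  refine CfsgLib.Char.eq_one_of_forall_irr fun η => ?_
  obtain ⟨χ, hχ⟩ := hext η
  obtain ⟨K, hKn, hK, -⟩ := CfsgLib.Char.exists_kernel (CfsgLib.Char.isCharacter_of_isIrr χ.2)
  have hle : Subgroup.normalClosure ((S.map N.subtype : Subgroup G) : Set G) ≤ K := by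
    refine Subgroup.normalClosure_le_normal ?_
    rintro _ ⟨s, hs, rfl⟩
    show (N.subtype s) ∈ K
    rw [hK]
    show (χ : G → ℂ) (s : G) = (χ : G → ℂ) ((1 : N) : G)
    rw [hχ, hχ, (QuotientGroup.eq_one_iff s).mpr hs, QuotientGroup.mk_one]
  have h := (hK _).mp (hle hx)
  rw [hχ] at h
  rw [h]
  show (χ : G → ℂ) ((1 : N) : G) = _
  rw [hχ, QuotientGroup.mk_one]

/-- Let G be a finite group, p a prime and P a Sylow p-subgroup of G with normalizer N. Then every irreducible complex character of N of degree not divisible by p is the restriction of an irreducible character of G if and only if there is a normal subgroup K of G with KN = G and K ∩ N = 1. -/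
theorem result {G : Type*} [Group G] [Finite G] (p : ℕ) [Fact p.Prime] (P : Sylow p G) :
    (∀ θ : Cfsg.IrrCharacter ↥(Subgroup.normalizer ((P : Subgroup G) : Set G)), ¬ p ∣ Cfsg.charDegree (θ : ↥(Subgroup.normalizer ((P : Subgroup G) : Set G)) → ℂ) →
        ∃ χ : Cfsg.IrrCharacter G, ∀ x : ↥(Subgroup.normalizer ((P : Subgroup G) : Set G)), (χ : G → ℂ) x = (θ : ↥(Subgroup.normalizer ((P : Subgroup G) : Set G)) → ℂ) x) ↔
      ∃ K : Subgroup G, K.Normal ∧ K ⊔ Subgroup.normalizer ((P : Subgroup G) : Set G) = ⊤ ∧ K ⊓ Subgroup.normalizer ((P : Subgroup G) : Set G) = ⊥ := by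
  classical
  set N := Subgroup.normalizer ((P : Subgroup G) : Set G) with hN
  constructor
  swap
  · rintro ⟨K, hKn, hsup, hinf⟩ θ -
    have hbij : Function.Bijective ((QuotientGroup.mk' K).comp N.subtype) := by
      constructor
      · rw [← MonoidHom.ker_eq_bot_iff, eq_bot_iff]
        intro x hx
        rw [MonoidHom.mem_ker, MonoidHom.comp_apply] at hx
        have h : (x : G) ∈ K ⊓ N := ⟨(QuotientGroup.eq_one_iff _).mp hx, x.2⟩
        rw [hinf, Subgroup.mem_bot] at h
        exact Subgroup.mem_bot.mpr (Subtype.ext h)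
      · intro y
        obtain ⟨g, rfl⟩ := QuotientGroup.mk'_surjective K y
        have hg : g ∈ K ⊔ N := hsup ▸ Subgroup.mem_top g
        rw [Subgroup.mem_sup_of_normal_left] at hg
        obtain ⟨k, hk, n, hn, rfl⟩ := hg
        exact ⟨⟨n, hn⟩, by
          rw [MonoidHom.comp_apply, map_mul, show QuotientGroup.mk' K k = 1 from
            (QuotientGroup.eq_one_iff k).mpr hk, one_mul]; rfl⟩
    let e := MulEquiv.ofBijective _ hbij
    let f : G →* N := e.symm.toMonoidHom.comp (QuotientGroup.mk' K)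
    have hf : Function.Surjective f := e.symm.surjective.comp (QuotientGroup.mk'_surjective K)
    refine ⟨⟨_, CfsgLib.Blocks.isIrrCharacter_comp_of_surjective θ.2 f hf⟩, fun x => ?_⟩
    show (θ : N → ℂ) (e.symm (QuotientGroup.mk' K (x : G))) = _
    rw [show QuotientGroup.mk' K (x : G) = e x from rfl, e.symm_apply_apply]
  intro hext
  have hPN : (P : Subgroup G) ≤ N := Subgroup.le_normalizer
  set PN := (P : Subgroup G).subgroupOf N with hPNdef
  haveI : PN.Normal := Subgroup.normal_in_normalizer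
  have hPidx : ¬ p ∣ PN.index := by
    intro h
    refine P.not_dvd_index (h.trans ?_)
    exact Dvd.intro (Subgroup.index N) (Subgroup.relIndex_mul_index hPN)
  set D : Subgroup N := (commutator ↥PN).map PN.subtype with hD
  haveI : D.Normal := ConjAct.normal_of_characteristic_of_normal
  have hDP : D ≤ PN := Subgroup.map_subtype_le _
  have habel : ∀ η : Cfsg.IrrCharacter (N ⧸ D), ¬ p ∣ Cfsg.charDegree (η : N ⧸ D → ℂ) := by
    refine fun η => CfsgLib.Char.ItoMichler.not_dvd_of_normal_abelian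
      (PN.map (QuotientGroup.mk' D)) ?_ ?_ η
    · rintro _ ⟨a, ha, rfl⟩ _ ⟨b, hb, rfl⟩
      rw [← map_mul, ← map_mul, QuotientGroup.mk'_apply, QuotientGroup.mk'_apply, QuotientGroup.eq]
      refine ⟨⁅(⟨b, hb⟩ : PN)⁻¹, (⟨a, ha⟩ : PN)⁻¹⁆,
        Subgroup.commutator_mem_commutator (Subgroup.mem_top _) (Subgroup.mem_top _), ?_⟩
      simp [commutatorElement_def, mul_assoc]
    · exact fun h => hPidx (h.trans (Subgroup.index_map_dvd _ (QuotientGroup.mk'_surjective D)))
  have hextD : ∀ η : Cfsg.IrrCharacter (N ⧸ D),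
      ∃ χ : Cfsg.IrrCharacter G, ∀ x : N, (χ : G → ℂ) x = (η : N ⧸ D → ℂ) (x : N ⧸ D) := by
    intro η
    refine hext ⟨_, CfsgLib.Blocks.isIrrCharacter_comp_of_surjective η.2 (QuotientGroup.mk' D)
      (QuotientGroup.mk'_surjective D)⟩ ?_
    show ¬ p ∣ ⌊(((η : N ⧸ D → ℂ) (QuotientGroup.mk' D 1))).re⌋₊
    rw [map_one]
    exact habel η
  have hextP : ∀ η : Cfsg.IrrCharacter (N ⧸ PN),
      ∃ χ : Cfsg.IrrCharacter G, ∀ x : N, (χ : G → ℂ) x = (η : N ⧸ PN → ℂ) (x : N ⧸ PN) := by
    intro η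
    let f : N ⧸ D →* N ⧸ PN := QuotientGroup.map D PN (MonoidHom.id N) hDP
    have hf : Function.Surjective f := fun y => by
      obtain ⟨x, rfl⟩ := QuotientGroup.mk'_surjective PN y
      exact ⟨(x : N ⧸ D), rfl⟩
    obtain ⟨χ, hχ⟩ := hextD ⟨_, CfsgLib.Blocks.isIrrCharacter_comp_of_surjective η.2 f hf⟩
    exact ⟨χ, hχ⟩
  set L := Subgroup.normalClosure ((PN.map N.subtype : Subgroup G) : Set G) with hLdef
  set K := Subgroup.normalClosure ((D.map N.subtype : Subgroup G) : Set G) with hKdef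
  have hPL : (P : Subgroup G) ≤ L := fun x hx =>
    Subgroup.subset_normalClosure ⟨⟨x, hPN hx⟩, hx, rfl⟩
  have hKL : K ≤ L := Subgroup.normalClosure_mono (Subgroup.map_mono hDP)
  have hLN : ∀ x ∈ L, x ∈ N → x ∈ (P : Subgroup G) := fun x hx hxN =>
    normalClosure_inf N PN hextP ⟨x, hxN⟩ hx
  have hKN : ∀ x ∈ K, ∀ hxN : x ∈ N, (⟨x, hxN⟩ : N) ∈ D := fun x hx hxN =>
    normalClosure_inf N D hextD ⟨x, hxN⟩ hx
  have htop : N ⊔ L = ⊤ := Sylow.normalizer_sup_eq_top' P hPL
  let PL : Sylow p L := P.subtype hPL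
  have hPLc : (PL : Subgroup L) = (P : Subgroup G).subgroupOf L := P.coe_subtype hPL
  -- the quotient by `K` has an abelian self-normalising Sylow subgroup
  set K' := K.subgroupOf L with hK'
  haveI : K'.Normal := Subgroup.normal_subgroupOf
  set π := QuotientGroup.mk' K'
  have hπ : Function.Surjective π := QuotientGroup.mk'_surjective K'
  set Q := PL.mapSurjective hπ
  have hQab : ∀ a ∈ (Q : Subgroup (L ⧸ K')), ∀ b ∈ (Q : Subgroup (L ⧸ K')), a * b = b * a := by
    rintro _ ⟨a, ha, rfl⟩ _ ⟨b, hb, rfl⟩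
    rw [← map_mul, ← map_mul, QuotientGroup.mk'_apply, QuotientGroup.mk'_apply, QuotientGroup.eq]
    have ha' : (a : G) ∈ (P : Subgroup G) := by
      have := hPLc ▸ (show a ∈ (PL : Subgroup L) from ha)
      exact this
    have hb' : (b : G) ∈ (P : Subgroup G) := by
      have := hPLc ▸ (show b ∈ (PL : Subgroup L) from hb)
      exact this
    refine Subgroup.subset_normalClosure ⟨(⁅(⟨⟨b, hPN hb'⟩, hb'⟩ : PN)⁻¹,
      (⟨⟨a, hPN ha'⟩, ha'⟩ : PN)⁻¹⁆ : PN), ⟨_, Subgroup.commutator_mem_commutator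
        (Subgroup.mem_top _) (Subgroup.mem_top _), rfl⟩, ?_⟩
    simp [commutatorElement_def, mul_assoc]
  have hburn : Subgroup.normalizer ((Q : Subgroup (L ⧸ K')) : Set (L ⧸ K')) ≤
      Subgroup.centralizer ((Q : Subgroup (L ⧸ K')) : Set (L ⧸ K')) := by
    intro y hy
    obtain ⟨x, rfl⟩ := hπ y
    -- conjugate back into the normaliser of `P` by an element of the preimage
    set W := (Q : Subgroup (L ⧸ K')).comap π
    have hPW : (PL : Subgroup L) ≤ W := fun a ha => ⟨a, ha, rfl⟩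
    let PW : Sylow p W := PL.subtype hPW
    have hxW : x ∈ Subgroup.normalizer (W : Set L) := by
      rw [Subgroup.mem_normalizer_iff]
      intro a
      rw [Subgroup.mem_normalizer_iff] at hy
      show π a ∈ (Q : Subgroup (L ⧸ K')) ↔ π (x * a * x⁻¹) ∈ (Q : Subgroup (L ⧸ K'))
      rw [map_mul, map_mul, map_inv]
      exact hy (π a)
    set M := Subgroup.normalizer (W : Set L)
    haveI : (W.subgroupOf M).Normal := Subgroup.normal_in_normalizer
    have hWM : W ≤ M := Subgroup.le_normalizer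
    have hPM : (PL : Subgroup L) ≤ M := hPW.trans hWM
    have hfr := Sylow.normalizer_sup_eq_top' (N := W.subgroupOf M) (PL.subtype hPM)
      (by rw [PL.coe_subtype hPM]; exact fun a ha => hPW ha)
    have hxm : (⟨x, hxW⟩ : M) ∈ Subgroup.normalizer
        (((PL.subtype hPM : Sylow p M) : Subgroup M) : Set M) ⊔ W.subgroupOf M :=
      hfr ▸ Subgroup.mem_top _
    rw [Subgroup.mem_sup_of_normal_right] at hxm
    obtain ⟨n, hn, w, hw, e⟩ := hxm
    have hnN : ((n : L) : G) ∈ N := by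
      rw [hN, Subgroup.mem_normalizer_iff]
      intro a
      rw [Subgroup.mem_normalizer_iff] at hn
      constructor
      · intro ha
        have := (hn ⟨⟨a, hPL ha⟩, hPM (hPLc ▸ ha)⟩).mp (by
          rw [PL.coe_subtype hPM]
          show (⟨a, hPL ha⟩ : L) ∈ (PL : Subgroup L)
          rw [hPLc]; exact ha)
        rw [PL.coe_subtype hPM] at this
        have h2 : ((n : L) * ⟨a, hPL ha⟩ * (n : L)⁻¹) ∈ (PL : Subgroup L) := this
        rw [hPLc] at h2
        exact h2
      · intro ha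
        have hmem : ((n : L)⁻¹ * ⟨((n : L) : G) * a * ((n : L) : G)⁻¹, hPL ha⟩ * (n : L)) ∈ M :=
          M.mul_mem (M.mul_mem (M.inv_mem n.2) (hPM (hPLc ▸ ha))) n.2
        have := (hn ⟨_, hmem⟩).mpr (by
          rw [PL.coe_subtype hPM]
          show (n : L) * ((n : L)⁻¹ * ⟨((n : L) : G) * a * ((n : L) : G)⁻¹, hPL ha⟩ * (n : L)) *
            (n : L)⁻¹ ∈ (PL : Subgroup L)
          rw [hPLc]
          show ((n : L) : G) * (((n : L) : G)⁻¹ * (((n : L) : G) * a * ((n : L) : G)⁻¹) *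
            ((n : L) : G)) * ((n : L) : G)⁻¹ ∈ (P : Subgroup G)
          simpa [mul_assoc] using ha)
        rw [PL.coe_subtype hPM] at this
        have h2 : (n : L)⁻¹ * ⟨((n : L) : G) * a * ((n : L) : G)⁻¹, hPL ha⟩ * (n : L) ∈
            (PL : Subgroup L) := this
        rw [hPLc] at h2
        have h3 : ((n : L) : G)⁻¹ * (((n : L) : G) * a * ((n : L) : G)⁻¹) * ((n : L) : G) ∈
            (P : Subgroup G) := h2
        simpa [mul_assoc] using h3
    have hxQ : π x ∈ (Q : Subgroup (L ⧸ K')) := by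
      have hxe : x = (n : L) * (w : L) := congrArg Subtype.val e.symm
      rw [hxe, map_mul]
      refine mul_mem ⟨(n : L), ?_, rfl⟩ hw
      show (n : L) ∈ (PL : Subgroup L)
      rw [hPLc]
      exact hLN _ (n : L).2 hnN
    rw [Subgroup.mem_centralizer_iff]
    exact fun a ha => hQab a ha (π x) hxQ
  set C := (MonoidHom.transferSylow Q hburn).ker.comap π with hC
  have hcompl := MonoidHom.ker_transferSylow_isComplement' Q hburn
  have hCq : IsPGroup p (L ⧸ C) := by
    have hi : C.index = Nat.card (Q : Subgroup (L ⧸ K')) := by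
      rw [hC, Subgroup.index_comap_of_surjective _ hπ, hcompl.symm.index_eq_card]
    obtain ⟨k, hk⟩ := IsPGroup.iff_card.mp Q.2
    exact IsPGroup.of_card (n := k) (by rw [← Subgroup.index_eq_card, hi, hk])
  have hres : (PL : Subgroup L) ⊓ Cfsg.pResidual p L ≤
      (frattini ↥(PL : Subgroup L)).map (PL : Subgroup L).subtype := by
    rintro a ⟨haP, haR⟩
    have haC := CfsgLib.Transfer.pResidual_le_of_isPGroup_quotient C hCq haR
    have hπa : π a = 1 := by
      have h : π a ∈ (MonoidHom.transferSylow Q hburn).ker ⊓ (Q : Subgroup (L ⧸ K')) :=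
        ⟨haC, ⟨a, haP, rfl⟩⟩
      rwa [hcompl.disjoint.eq_bot, Subgroup.mem_bot] at h
    have haK : (a : G) ∈ K := (QuotientGroup.eq_one_iff a).mp hπa
    have haP' : (a : G) ∈ (P : Subgroup G) := by
      have h2 : a ∈ (PL : Subgroup L) := haP
      rw [hPLc] at h2
      exact h2
    obtain ⟨b, hb, hbe⟩ := hKN _ haK (hPN haP')
    have hbe' : ((b : N) : G) = (a : G) := congrArg Subtype.val hbe
    let ψ : PN →* (PL : Subgroup L) :=
      { toFun := fun z => ⟨⟨((z : N) : G), hPL z.2⟩, hPLc ▸ z.2⟩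
        map_one' := rfl
        map_mul' := fun _ _ => rfl }
    refine ⟨ψ b, CfsgLib.HSub.commutator_le_frattini PL.2 ?_, Subtype.ext hbe'⟩
    have := Subgroup.mem_map_of_mem ψ hb
    rw [commutator_def, Subgroup.map_commutator] at this
    exact Subgroup.commutator_mono le_top le_top this
  obtain ⟨S, R, hRn, hR⟩ := CfsgLib.Transfer.hasNormalPComplement_of_le_frattini PL hres
  have hRcop : (Nat.card R).Coprime p := by
    rw [Nat.coprime_comm, (Fact.out : p.Prime).coprime_iff_not_dvd]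
    rw [← hR.index_eq_card]
    exact S.not_dvd_index
  have hRres : Cfsg.pResidual p L ≤ R := by
    refine CfsgLib.Transfer.pResidual_le_of_isPGroup_quotient R ?_
    obtain ⟨k, hk⟩ := IsPGroup.iff_card.mp S.2
    exact IsPGroup.of_card (n := k) (by rw [← Subgroup.index_eq_card, hR.symm.index_eq_card, hk])
  set C0 := Subgroup.closure {x : G | x ∈ L ∧ (orderOf x).Coprime p} with hC0
  have hC0n : C0.Normal := by
    refine ⟨fun a ha g => ?_⟩
    have hle : C0.map (MulAut.conj g).toMonoidHom ≤ C0 := by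
      rw [hC0, MonoidHom.map_closure]
      refine Subgroup.closure_mono ?_
      rintro _ ⟨b, ⟨hb, hbo⟩, rfl⟩
      refine ⟨Subgroup.normalClosure_normal.conj_mem b hb g, ?_⟩
      show (orderOf (g * b * g⁻¹)).Coprime p
      rwa [CfsgLib.Transfer.orderOf_conj]
    simpa using hle (Subgroup.mem_map_of_mem (MulAut.conj g).toMonoidHom ha)
  have hC0R : C0 ≤ (Cfsg.pResidual p L).map L.subtype := by
    rw [hC0, Subgroup.closure_le]
    rintro b ⟨hb, hbo⟩
    exact ⟨⟨b, hb⟩, CfsgLib.Transfer.mem_pResidual_of_coprime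
      (by rwa [← Subgroup.orderOf_coe]), rfl⟩
  have hC0top : N ⊔ C0 = ⊤ := by
    rw [eq_top_iff, ← htop, sup_le_iff]
    refine ⟨le_sup_left, fun x hx => ?_⟩
    have h : (⟨x, hx⟩ : L) ∈ (PL : Subgroup L) ⊔ Cfsg.pResidual p L := by
      rw [CfsgLib.Transfer.sylow_sup_pResidual PL]; exact Subgroup.mem_top _
    have hle : ((PL : Subgroup L) ⊔ Cfsg.pResidual p L).map L.subtype ≤ N ⊔ C0 := by
      rw [Subgroup.map_sup, sup_le_iff]
      refine ⟨?_, ?_⟩
      · rintro _ ⟨a, ha, rfl⟩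
        rw [hPLc] at ha
        exact Subgroup.mem_sup_left (hPN ha)
      · rw [Cfsg.pResidual, MonoidHom.map_closure]
        refine le_sup_of_le_right (Subgroup.closure_mono ?_)
        rintro _ ⟨a, ha, rfl⟩
        exact ⟨a.2, by rw [show L.subtype a = (a : G) from rfl, Subgroup.orderOf_coe]; exact ha⟩
    exact hle ⟨⟨x, hx⟩, h, rfl⟩
  refine ⟨C0, hC0n, by rw [sup_comm, hC0top], ?_⟩
  rw [eq_bot_iff]
  rintro x ⟨hx, hxN⟩
  obtain ⟨a, haR, rfl⟩ := hC0R hx
  obtain ⟨j, hj⟩ := P.2 ⟨_, hLN _ a.2 hxN⟩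
  have h1 : orderOf (a : G) ∣ p ^ j := orderOf_dvd_of_pow_eq_one (congrArg Subtype.val hj)
  have h2 : orderOf (a : G) ∣ Nat.card R := by
    rw [Subgroup.orderOf_coe]
    exact Subgroup.orderOf_dvd_natCard R (hRres haR)
  have h3 := Nat.dvd_gcd h1 h2
  rw [Nat.Coprime.gcd_eq_one (Nat.Coprime.pow_left j hRcop.symm), Nat.dvd_one,
    orderOf_eq_one_iff] at h3
  exact Subgroup.mem_bot.mpr h3

end Cfsg.Agent.S4931
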