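import Cfsg.Statements.S4949
import Cfsg.Agent.Lib.SymBlock.AltHeights
import Cfsg.Agent.Lib.SymBlock.DefectStructure
import Cfsg.Agent.Lib.Char.Virtual
import Cfsg.Agent.S4676
import Cfsg.Agent.S4607

set_option autoImplicit false
open Cfsg

namespace Cfsg.Agent.S4949

open CfsgLib.Blocks CfsgLib.SymBlock
open scoped CfsgLib.Char

/-- A character degree passes along an isomorphism. -/
theorem exists_irr_of_equiv {H K : Type*} [Group H] [Group K] [Finite H] [Finite K] (f : H ≃* K)
    {d : ℕ} (h : ∃ φ : IrrCharacter K, charDegree (φ : K → ℂ) = d) :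
    ∃ φ : IrrCharacter H, charDegree (φ : H → ℂ) = d := by
  have := Fintype.ofFinite H
  have := Fintype.ofFinite K
  obtain ⟨φ, hφ⟩ := h
  refine ⟨⟨fun x => (φ : K → ℂ) (f x), (CfsgLib.Char.isIrrCharacter_comp_equiv f).mpr φ.2⟩, ?_⟩
  rw [← hφ]
  show charDegree (fun x => (φ : K → ℂ) (f x)) = _
  rw [charDegree, charDegree, map_one]

/-- A block with a defect group of order four has height zero characters only. -/
theorem blockHeight_eq_zero_of_card_four {G : Type*} [Group G] [Fintype G] {M : Ideal Cfsg.AlgInt}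
    [Fact (Nat.Prime 2)] (hM : Cfsg.IsPModular 2 M) {B : Set (Cfsg.IrrCharacter G)}
    (hB : Cfsg.IsPBlock M B) {D : Subgroup G} (hD : Cfsg.IsDefectGroup 2 M B D) (hcard : Nat.card D = 4) :
    ∀ θ ∈ B, Cfsg.blockHeight 2 B (θ : G → ℂ) = 0 := by
  classical
  have := isPrime_of_isPModular hM
  intro θ hθ
  by_contra hne
  have hsum := Cfsg.Agent.S4676.result 2 M hM B hB D hD
  have htwo := Cfsg.Agent.S4607.result 2 M hM B hB D hD
  obtain ⟨η, hη, hη0⟩ := exists_blockHeight_eq_zero hM hB
  set T : Finset (Cfsg.IrrCharacter G) := Finset.univ.filter (· ∈ B) with hT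
  rw [finsum_mem_eq_sum_of_inter_support_eq (t := T) _ (by simp [hT]), hcard] at hsum
  have hcardT : Nat.card B = T.card := by
    rw [hT, Nat.card_eq_fintype_card, Fintype.card_subtype]
  have hθη : θ ≠ η := fun h => hne (h ▸ hη0)
  have hsub : ({θ, η} : Finset (Cfsg.IrrCharacter G)) ⊆ T := by
    simp [hT, Finset.insert_subset_iff, hθ, hη]
  have h3 : 3 ≤ T.card := by
    have h2 := Finset.card_le_card hsub
    rw [Finset.card_pair hθη] at h2
    have : T.card ≠ 2 := fun h => by
      have := htwo.mp (hcardT.trans h)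
      omega
    omega
  have hrest : 1 ≤ ((T.erase θ).erase η).card := by
    rw [Finset.card_erase_of_mem (Finset.mem_erase.mpr ⟨hθη.symm, by simp [hT, hη]⟩),
      Finset.card_erase_of_mem (by simp [hT, hθ])]
    omega
  rw [← Finset.add_sum_erase T _ (show θ ∈ T by simp [hT, hθ]),
    ← Finset.add_sum_erase (T.erase θ) _ (Finset.mem_erase.mpr ⟨hθη.symm, by simp [hT, hη]⟩)] at hsum
  have hbig : 2 ^ 2 ≤ 2 ^ (2 * Cfsg.blockHeight 2 B (θ : G → ℂ)) :=
    Nat.pow_le_pow_right (by norm_num) (by omega)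
  have hone : 1 ≤ 2 ^ (2 * Cfsg.blockHeight 2 B (η : G → ℂ)) := Nat.one_le_two_pow
  have hle : ((T.erase θ).erase η).card ≤
      ∑ χ ∈ (T.erase θ).erase η, 2 ^ (2 * Cfsg.blockHeight 2 B (χ : G → ℂ)) := by
    rw [Finset.card_eq_sum_ones]
    exact Finset.sum_le_sum fun χ _ => Nat.one_le_two_pow
  omega

/-- Let n be a natural number, p a prime, M a maximal ideal of the algebraic integers containing p, B a p-block of the alternating group of degree n and D a defect group of B. Then either B contains an irreducible character of height 1 and D has an irreducible complex character of degree p, or every irreducible character of B has height zero and D is commutative (so the least positive height in B and the least positive exponent of a character degree of D are both 1 or both absent). -/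
theorem result (n : ℕ) (p : ℕ) [Fact p.Prime] (M : Ideal Cfsg.AlgInt) (hM : Cfsg.IsPModular p M) (B : Set (Cfsg.IrrCharacter ↥(alternatingGroup (Fin n)))) (hB : Cfsg.IsPBlock M B) (D : Subgroup ↥(alternatingGroup (Fin n))) (hD : Cfsg.IsDefectGroup p M B D) :
    ((∃ χ : Cfsg.IrrCharacter ↥(alternatingGroup (Fin n)), χ ∈ B ∧ Cfsg.blockHeight p B (χ : ↥(alternatingGroup (Fin n)) → ℂ) = 1) ∧ (∃ φ : Cfsg.IrrCharacter ↥D, Cfsg.charDegree (φ : ↥D → ℂ) = p)) ∨
    ((∀ χ : Cfsg.IrrCharacter ↥(alternatingGroup (Fin n)), χ ∈ B → Cfsg.blockHeight p B (χ : ↥(alternatingGroup (Fin n)) → ℂ) = 0) ∧ IsMulCommutative D) := by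
  classical
  have := isPrime_of_isPModular hM
  have hp : p.Prime := Fact.out
  by_cases hD1 : D = ⊥
  · refine Or.inr ⟨blockHeight_eq_zero_of_eq_bot hM hB hD hD1, ?_⟩
    subst hD1
    infer_instance
  obtain ⟨u, r, e, g, Dt, hu, hg, hsyl, hDtA, ⟨f⟩, hc, hcardDt, hcardD, hlow, hhigh⟩ :=
    exists_alt_block_data hM hB hD hD1
  obtain ⟨habel, hdeg, hdeg2⟩ := defect_structure e g hg Dt hsyl.1 hsyl.isPGroup
    (fun R hR hRg => by
      obtain ⟨x, -, hx⟩ := IsSylowCent.exists_conj_le hsyl hR hRg
      exact (Subgroup.card_le_of_le hx).trans_eq (card_map_conj Dt x))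
    hc hcardDt
  rcases Nat.lt_or_ge u p with hup | hup
  · refine Or.inr ⟨hlow hup, ?_⟩
    have hab := habel hup
    exact ⟨⟨fun a b => f.injective (Subtype.ext (by
      rw [map_mul, map_mul, Subgroup.coe_mul, Subgroup.coe_mul]
      exact congrArg Subtype.val (hab.is_comm.comm (⟨_, (f a).2.1⟩ : Dt) ⟨_, (f b).2.1⟩)))⟩⟩
  by_cases hp2 : p = 2
  · rcases Nat.lt_or_ge u 3 with hu3 | hu3
    · obtain rfl : u = 2 := by omega
      subst hp2
      have h4 : Nat.card D = 4 := by
        rw [hcardD, factorization_factorial_mul,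
          Nat.Prime.factorization_self Nat.prime_two, Nat.factorial_two,
          Nat.Prime.factorization_self Nat.prime_two]
        rfl
      exact Or.inr ⟨blockHeight_eq_zero_of_card_four hM hB hD h4,
        IsPGroup.isMulCommutative_of_card_eq_prime_sq (p := 2) (h4.trans (by norm_num))⟩
    · subst hp2
      exact Or.inl ⟨hhigh hup fun _ => hu3, exists_irr_of_equiv f (hdeg2 rfl hu3)⟩
  · refine Or.inl ⟨hhigh hup fun h => absurd h hp2, ?_⟩
    exact exists_irr_of_equiv
      (f.trans (MulEquiv.subgroupCongr (inf_eq_left.mpr (hDtA hp2)))) (hdeg hup)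

end Cfsg.Agent.S4949
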