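import Cfsg.Statements.S4955
import Cfsg.Agent.Lib.Blocks.BrauerFeit
import Cfsg.Agent.Lib.Char.MeanValue
import Cfsg.Agent.Lib.Char.Extraspecial
import Cfsg.Agent.Lib.Blocks.Inflate

set_option autoImplicit false
set_option linter.style.haveILetI false
open Cfsg
open scoped ComplexConjugate CfsgLib.Char

namespace Cfsg.Agent.S4955

/-- Let X be a finite group with an abelian normal Sylow p-subgroup V (a normal p-subgroup of index prime to p in which any two elements commute), and let G be a complement to V in X. Then for every v in V, writing C for the centralizer of v in G, the number k(X) of conjugacy classes of X satisfies k(X) ≤ (order of C)·(order of V) − ((order of G) − k(G)); the statement is written with the subtracted term moved to the left. In particular, if some v in V is centralized by no nonidentity element of G, then k(X) is at most the order of V. -/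
theorem result {X : Type*} [Group X] [Finite X] (p : ℕ) [Fact p.Prime] (V : Subgroup X) [V.Normal] (hVp : IsPGroup p V) (hidx : ¬ p ∣ V.index) (hab : ∀ a ∈ V, ∀ b ∈ V, a * b = b * a) (G : Subgroup X) (hGV : Subgroup.IsComplement' V G) (v : X) (hv : v ∈ V) : Nat.card (ConjClasses X) + Nat.card G ≤ Nat.card ↥(G ⊓ Subgroup.centralizer ({v} : Set X)) * Nat.card V + Nat.card (ConjClasses G) := by
  classical
  letI := Fintype.ofFinite X
  obtain ⟨M, hM⟩ := CfsgLib.Blocks.exists_isPModular (Fact.out : p.Prime)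
  haveI := CfsgLib.Blocks.isPrime_of_isPModular hM
  -- the centraliser of `v`
  have hC : Nat.card (Subgroup.centralizer ({v} : Set X)) =
      Nat.card ↥(G ⊓ Subgroup.centralizer ({v} : Set X)) * Nat.card V := by
    have hVC : V ≤ Subgroup.centralizer ({v} : Set X) := fun a ha =>
      Subgroup.mem_centralizer_singleton_iff.mpr (hab a ha v hv)
    rw [← Nat.card_prod]
    refine (Nat.card_congr (Equiv.ofBijective
      (fun a : ↥(G ⊓ Subgroup.centralizer ({v} : Set X)) × ↥V =>
        (⟨(a.2 : X) * a.1, mul_mem (hVC a.2.2) a.1.2.2⟩ : Subgroup.centralizer ({v} : Set X)))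
      ⟨?_, ?_⟩)).symm
    · rintro ⟨g, a⟩ ⟨g', a'⟩ e
      have h := hGV.1
        (a₁ := ((⟨a, a.2⟩ : V), (⟨g, g.2.1⟩ : G))) (a₂ := ((⟨a', a'.2⟩ : V), (⟨g', g'.2.1⟩ : G)))
        (congrArg Subtype.val e :)
      simp only [Prod.mk.injEq, Subtype.mk.injEq] at h
      exact Prod.ext (Subtype.ext h.2) (Subtype.ext h.1)
    · rintro ⟨c, hc⟩
      obtain ⟨⟨a, g⟩, e⟩ := hGV.2 c
      have hg : (g : X) ∈ Subgroup.centralizer ({v} : Set X) := by
        have : (g : X) = (a : X)⁻¹ * c := by rw [← e]; simp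
        rw [this]
        exact mul_mem (inv_mem (hVC a.2)) hc
      exact ⟨(⟨g, g.2, hg⟩, a), Subtype.ext e⟩
  -- the values on the generators of `⟨v⟩` do not vanish
  have hne : ∀ χ : Cfsg.IrrCharacter X, ∀ a : X, Subgroup.zpowers a = Subgroup.zpowers v →
      (χ : X → ℂ) a ≠ 0 := by
    intro χ a ha h0
    have haV : a ∈ V := (Subgroup.zpowers_le.mpr hv) (ha ▸ Subgroup.mem_zpowers a)
    obtain ⟨k, hk⟩ := IsPGroup.iff_orderOf.mp hVp ⟨a, haV⟩
    rw [Subgroup.orderOf_mk] at hk
    obtain ⟨n, ρ, hρ, hρχ⟩ := χ.2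
    obtain ⟨μ, hμ, hμk⟩ := CfsgLib.Char.character_pow_eq_sum ρ a
    have h1 := hμk 1
    rw [pow_one] at h1
    have hsum : Cfsg.MemLocalIdeal M ((χ : X → ℂ) a - (χ : X → ℂ) 1) := by
      rw [← hρχ, h1, Representation.char_one, show (Module.finrank ℂ (Fin n → ℂ) : ℂ) =
        ∑ _i : Fin (Module.finrank ℂ (Fin n → ℂ)), (1 : ℂ) by simp, ← Finset.sum_sub_distrib]
      refine CfsgLib.Blocks.memLocalIdeal_sum _ _ fun i _ => ?_
      rw [pow_one]
      exact CfsgLib.Blocks.memLocalIdeal_root_sub_one hM (k := k) (by rw [← hk]; exact hμ i)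
    rw [h0, (CfsgLib.Blocks.irr_degree_eq χ).1] at hsum
    have h2 : Cfsg.MemLocalIdeal M ((Cfsg.charDegree (χ : X → ℂ) : ℂ)) := by
      simpa using CfsgLib.Blocks.memLocalIdeal_sub CfsgLib.Blocks.memLocalIdeal_zero hsum
    exact hidx (((CfsgLib.Blocks.memLocalIdeal_natCast_iff hM).mp h2).trans
      (CfsgLib.Char.Extraspecial.ito χ.2 V hab (CfsgLib.Blocks.irr_degree_eq χ).1))
  set T : Finset X := Finset.univ.filter fun a => Subgroup.zpowers a = Subgroup.zpowers v with hT
  have hTpos : 0 < T.card := Finset.card_pos.mpr ⟨v, by simp [hT]⟩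
  set S : Finset (Cfsg.IrrCharacter X) :=
    Finset.univ.filter fun χ => ∀ u ∈ V, (χ : X → ℂ) u = (χ : X → ℂ) 1 with hS
  -- the column of `v`
  have hcol : ∑ χ : Cfsg.IrrCharacter X, ∑ a ∈ T, Complex.normSq ((χ : X → ℂ) a) =
      (T.card : ℝ) * Nat.card (Subgroup.centralizer ({v} : Set X)) := by
    rw [Finset.sum_comm, ← nsmul_eq_mul, ← Finset.sum_const]
    refine Finset.sum_congr rfl fun a ha => ?_
    have h := CfsgLib.Char.column_orthogonality a a
    rw [if_pos (IsConj.refl a)] at h
    simp only [Complex.mul_conj] at h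
    rw [← Complex.ofReal_sum] at h
    have e : Subgroup.centralizer ({a} : Set X) = Subgroup.centralizer ({v} : Set X) := by
      have ha' := (Finset.mem_filter.mp ha).2
      rw [← Subgroup.centralizer_closure, ← Subgroup.zpowers_eq_closure, ha',
        Subgroup.zpowers_eq_closure, Subgroup.centralizer_closure]
    rw [e] at h
    exact_mod_cast h
  have hge : ∀ χ : Cfsg.IrrCharacter X, (T.card : ℝ) *
      (if χ ∈ S then (Cfsg.charDegree (χ : X → ℂ) : ℝ) ^ 2 else 1) ≤
        ∑ a ∈ T, Complex.normSq ((χ : X → ℂ) a) := by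
    intro χ
    split_ifs with hχ
    · rw [← nsmul_eq_mul, ← Finset.sum_const]
      refine Finset.sum_le_sum fun a ha => le_of_eq ?_
      have haV : a ∈ V := (Subgroup.zpowers_le.mpr hv)
        ((Finset.mem_filter.mp ha).2 ▸ Subgroup.mem_zpowers a)
      rw [(Finset.mem_filter.mp hχ).2 a haV, (CfsgLib.Blocks.irr_degree_eq χ).1,
        Complex.normSq_natCast, sq]
    · rw [mul_one]
      refine le_trans (le_of_eq ?_) (CfsgLib.Char.card_support_le_sum_normSq
        (CfsgLib.Char.isCharacter_of_isIrr χ.2) T fun a b h ha => ?_)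
      · congr 2
        exact (Finset.filter_true_of_mem fun a ha => hne χ a (Finset.mem_filter.mp ha).2).symm
      · exact Finset.mem_filter.mpr ⟨Finset.mem_univ _, h.symm.trans (Finset.mem_filter.mp ha).2⟩
  -- the characters of the quotient
  let e := (Subgroup.IsComplement'.symm hGV).QuotientMulEquiv
  haveI := Fintype.ofFinite (X ⧸ V)
  have hS1 : ∀ {R : Type} [AddCommMonoid R] (f : ℕ → R),
      ∑ χ ∈ S, f (Cfsg.charDegree (χ : X → ℂ)) =
        ∑ η : Cfsg.IrrCharacter (X ⧸ V), f (Cfsg.charDegree (η : X ⧸ V → ℂ)) := by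
    intro R _ f
    refine (Finset.sum_bij (fun η _ => CfsgLib.Blocks.inflate (QuotientGroup.mk' V)
      (QuotientGroup.mk'_surjective V) η) (fun η _ => ?_)
      (fun a _ b _ h => CfsgLib.Blocks.inflate_injective _ _ h) (fun χ hχ => ?_) (fun η _ => ?_)).symm
    · refine Finset.mem_filter.mpr ⟨Finset.mem_univ _, fun u hu => ?_⟩
      show (η : X ⧸ V → ℂ) (QuotientGroup.mk' V u) = (η : X ⧸ V → ℂ) (QuotientGroup.mk' V 1)
      rw [map_one, show QuotientGroup.mk' V u = 1 from (QuotientGroup.eq_one_iff u).mpr hu]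
    · obtain ⟨η, hη⟩ := CfsgLib.Blocks.exists_inflate_eq_of_ker V χ (Finset.mem_filter.mp hχ).2
      exact ⟨η, Finset.mem_univ _, hη.symm⟩
    · congr 1
  have hScard : S.card = Nat.card (ConjClasses G) := by
    rw [Finset.card_eq_sum_ones, hS1 (fun _ => 1), ← Finset.card_eq_sum_ones, Finset.card_univ,
      ← Nat.card_eq_fintype_card, CfsgLib.Char.card_irr_eq_card_conjClasses]
    exact Nat.card_congr (Equiv.ofBijective (ConjClasses.map e.toMonoidHom)
      ⟨fun a b h => by
        induction a using Quotient.ind with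
        | _ a => induction b using Quotient.ind with
          | _ b =>
            refine ConjClasses.mk_eq_mk_iff_isConj.mpr ?_
            have h' := (e.symm.toMonoidHom).map_isConj (ConjClasses.mk_eq_mk_iff_isConj.mp h)
            simpa using h',
        ConjClasses.map_surjective e.surjective⟩)
  have hSsq : ∑ χ ∈ S, (Cfsg.charDegree (χ : X → ℂ) : ℝ) ^ 2 = Nat.card G := by
    rw [hS1 (fun d => (d : ℝ) ^ 2)]
    have h := CfsgLib.Char.sum_sq_degree (G := X ⧸ V)
    simp only [(CfsgLib.Blocks.irr_degree_eq _).1] at h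
    have h' : ((∑ η : Cfsg.IrrCharacter (X ⧸ V), Cfsg.charDegree (η : X ⧸ V → ℂ) ^ 2 : ℕ) : ℂ) =
        (Nat.card (X ⧸ V) : ℂ) := by push_cast; exact h
    rw [← Nat.card_congr e.toEquiv, ← Nat.cast_inj.mp h']
    push_cast
    rfl
  have htot : (T.card : ℝ) * ((Nat.card (ConjClasses X) : ℝ) - Nat.card (ConjClasses G) + Nat.card G)
      ≤ (T.card : ℝ) * Nat.card (Subgroup.centralizer ({v} : Set X)) := by
    rw [← hcol]
    refine le_trans (le_of_eq ?_) (Finset.sum_le_sum fun χ _ => hge χ)
    rw [← Finset.mul_sum]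
    congr 1
    rw [Finset.sum_ite, Finset.sum_const, nsmul_one,
      show (Finset.univ.filter fun χ => χ ∈ S) = S from Finset.filter_univ_mem S, hSsq,
      Finset.filter_not, Finset.filter_univ_mem, Finset.card_sdiff_of_subset (Finset.subset_univ S),
      Finset.card_univ, Nat.cast_sub (Finset.card_le_univ S), hScard, ← Nat.card_eq_fintype_card,
      CfsgLib.Char.card_irr_eq_card_conjClasses]
    ring
  have hfin := le_of_mul_le_mul_left htot (by exact_mod_cast hTpos)
  rw [hC] at hfin
  push_cast at hfin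
  have : ((Nat.card (ConjClasses X) + Nat.card G : ℕ) : ℝ) ≤
      ((Nat.card ↥(G ⊓ Subgroup.centralizer ({v} : Set X)) * Nat.card V +
        Nat.card (ConjClasses G) : ℕ) : ℝ) := by push_cast; linarith
  exact_mod_cast this

end Cfsg.Agent.S4955
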