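import Cfsg.Statements.S4956
import Cfsg.Agent.Lib.Coprime.Generation

set_option autoImplicit false
open Cfsg

namespace Cfsg.Agent.S4956

open scoped commutatorElement

variable {X : Type*} [Group X] [Finite X]

/-- The number of solutions of the commuting equation over a commuting pair. -/
theorem card_solutions (V : Subgroup X) [V.Normal] (hab : ∀ a ∈ V, ∀ b ∈ V, a * b = b * a) (g h : X)
    (hgh : g * h = h * g) (hcop : (Nat.card V).Coprime (Nat.card (Subgroup.closure {g, h}))) :
    Nat.card {uw : V × V // (uw.1 : X) * (g * uw.2 * g⁻¹) = uw.2 * (h * uw.1 * h⁻¹)} =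
      Nat.card V * Nat.card ↥(V ⊓ Subgroup.centralizer ({g, h} : Set X)) := by
  classical
  haveI hcomm : IsMulCommutative V := ⟨⟨fun a b => Subtype.ext (hab a a.2 b b.2)⟩⟩
  letI : CommGroup V := { (inferInstance : Group V) with mul_comm := mul_comm' }
  set A := Subgroup.closure {g, h} with hA
  have hAV : A ≤ Subgroup.normalizer (V : Set X) := by rw [Subgroup.normalizer_eq_top]; exact le_top
  let cg : V →* V := (MulAut.conjNormal g : MulAut V).toMonoidHom
  let ch : V →* V := (MulAut.conjNormal h : MulAut V).toMonoidHom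
  let ψ : V × V →* V := MonoidHom.fst V V * cg.comp (MonoidHom.snd V V) / (MonoidHom.snd V V * ch.comp (MonoidHom.fst V V))
  have hψ : ∀ uw : V × V, ψ uw = uw.1 * cg uw.2 / (uw.2 * ch uw.1) := fun uw => rfl
  have hker : Nat.card {uw : V × V // (uw.1 : X) * (g * uw.2 * g⁻¹) = uw.2 * (h * uw.1 * h⁻¹)} = Nat.card ψ.ker := by
    refine Nat.card_congr (Equiv.subtypeEquivRight fun uw => ?_)
    rw [MonoidHom.mem_ker, hψ, div_eq_one, ← Subtype.coe_inj]
    rfl
  set R := ψ.range.map V.subtype with hR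
  have hRA : R ≤ ⁅V, A⁆ := by
    rintro _ ⟨_, ⟨uw, rfl⟩, rfl⟩
    have e : (ψ uw : X) = ⁅(uw.1 : X), h⁆ * (⁅(uw.2 : X), g⁆)⁻¹ := by
      have e1 : ψ uw = (uw.1 * (ch uw.1)⁻¹) * (uw.2 * (cg uw.2)⁻¹)⁻¹ := by
        rw [hψ, div_eq_mul_inv, mul_inv_rev, mul_inv_rev, inv_inv]
        simp only [mul_comm, mul_left_comm, mul_assoc]
      rw [e1]
      show (uw.1 : X) * (h * uw.1 * h⁻¹)⁻¹ * ((uw.2 : X) * (g * uw.2 * g⁻¹)⁻¹)⁻¹ = _
      simp only [commutatorElement_def]; group
    show (ψ uw : X) ∈ _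
    rw [e]
    exact mul_mem (Subgroup.commutator_mem_commutator uw.1.2 (Subgroup.subset_closure (by simp)))
      (inv_mem (Subgroup.commutator_mem_commutator uw.2.2 (Subgroup.subset_closure (by simp))))
  have hnorm : A ≤ Subgroup.normalizer (R : Set X) := by
    rw [hA, Subgroup.closure_le]
    intro a ha
    have hag : a * g = g * a := by rcases ha with rfl | rfl <;> [rfl; exact hgh.symm]
    have hah : a * h = h * a := by rcases ha with rfl | rfl <;> [exact hgh; rfl]
    rw [SetLike.mem_coe, Subgroup.mem_normalizer_iff_map_conj_eq]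
    refine Subgroup.eq_of_le_of_card_ge ?_ (Nat.card_congr (R.equivMapOfInjective _ (MulAut.conj a).injective).toEquiv).le
    rintro _ ⟨_, ⟨_, ⟨uw, rfl⟩, rfl⟩, rfl⟩
    let ca : V →* V := (MulAut.conjNormal a : MulAut V).toMonoidHom
    refine ⟨_, ⟨(ca uw.1, ca uw.2), rfl⟩, ?_⟩
    have hswap : ∀ (b : X), a * b = b * a → ∀ v : V,
        (MulAut.conjNormal b : MulAut V) (ca v) = ca ((MulAut.conjNormal b : MulAut V) v) := fun b hb v => by
      show (MulAut.conjNormal b * MulAut.conjNormal a : MulAut V) v = (MulAut.conjNormal a * MulAut.conjNormal b : MulAut V) v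
      rw [← map_mul, ← map_mul, hb]
    have e : ψ (ca uw.1, ca uw.2) = ca (ψ uw) := by
      rw [hψ, hψ, map_div, map_mul, map_mul]
      exact congrArg₂ (fun s t => ca uw.1 * s / (ca uw.2 * t)) (hswap g hag uw.2) (hswap h hah uw.1)
    show (ψ (ca uw.1, ca uw.2) : X) = _
    rw [e]; rfl
  have hAR : ⁅V, A⁆ ≤ R := by
    refine Subgroup.commutator_le.mpr fun u hu a ha => ?_
    suffices ∀ u ∈ V, ⁅u, a⁆ ∈ R from this u hu
    clear hu
    induction ha using Subgroup.closure_induction with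
    | mem a ha =>
      intro u hu
      rcases ha with rfl | rfl
      · refine ⟨_, ⟨(1, (⟨u, hu⟩ : V)⁻¹), rfl⟩, ?_⟩
        show ((ψ (1, (⟨u, hu⟩ : V)⁻¹) : V) : X) = _
        have hn : (⟨a * u * a⁻¹, (inferInstance : V.Normal).conj_mem u hu a⟩ : V) = cg ⟨u, hu⟩ := rfl
        rw [hψ, map_one, one_mul, mul_one, map_inv, inv_div_inv, ← hn]
        show u / (a * u * a⁻¹) = _
        simp only [commutatorElement_def, div_eq_mul_inv]; group
      · refine ⟨_, ⟨((⟨u, hu⟩ : V), 1), rfl⟩, ?_⟩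
        show ((ψ ((⟨u, hu⟩ : V), 1) : V) : X) = _
        have hn : (⟨a * u * a⁻¹, (inferInstance : V.Normal).conj_mem u hu a⟩ : V) = ch ⟨u, hu⟩ := rfl
        rw [hψ, map_one, one_mul, mul_one, ← hn]
        show u / (a * u * a⁻¹) = _
        simp only [commutatorElement_def, div_eq_mul_inv]; group
    | one => intro u _; rw [commutatorElement_one_right]; exact one_mem _
    | mul a b haA hbA ha hb =>
      intro u hu
      rw [show ⁅u, a * b⁆ = ⁅u, a⁆ * (a * ⁅u, b⁆ * a⁻¹) by simp only [commutatorElement_def]; group]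
      exact mul_mem (ha u hu) ((Subgroup.mem_normalizer_iff.mp (hnorm haA) _).mp (hb u hu))
    | inv a haA ha =>
      intro u hu
      rw [show ⁅u, a⁻¹⁆ = a⁻¹ * (⁅u, a⁆)⁻¹ * (a⁻¹)⁻¹ by simp only [commutatorElement_def]; group]
      exact (Subgroup.mem_normalizer_iff.mp (inv_mem (hnorm haA)) _).mp (inv_mem (ha u hu))
  have hC : V ⊓ Subgroup.centralizer (A : Set X) = V ⊓ Subgroup.centralizer ({g, h} : Set X) := by
    rw [hA, Subgroup.centralizer_closure]
  have hinf := CfsgLib.Coprime.centralizer_inf_commutator_eq_bot hAV hcop.symm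
  have hsup := CfsgLib.Coprime.centralizer_sup_commutator_eq hAV hcop.symm
  rw [hC, le_antisymm hAR hRA] at hinf hsup
  have hRV : R ≤ V := Subgroup.map_subtype_le _
  have hcard := CfsgLib.Coprime.card_sup_mul_card_inf (K := V ⊓ Subgroup.centralizer ({g, h} : Set X)) (S := R)
    (hRV.trans (fun v hv => Subgroup.centralizer_le_normalizer _ fun x hx => hab x hx.1 v hv))
  rw [hinf, hsup, Subgroup.card_bot, mul_one] at hcard
  have h1 := ψ.ker.card_mul_index
  rw [Subgroup.index_ker, Nat.card_prod] at h1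
  have hRc : Nat.card R = Nat.card ψ.range := (Nat.card_congr (ψ.range.equivMapOfInjective _ V.subtype_injective).toEquiv).symm
  rw [hRc] at hcard
  rw [hker]
  refine Nat.eq_of_mul_eq_mul_right (Nat.card_pos (α := ψ.range)) ?_
  rw [h1, mul_assoc, ← hcard]

theorem mul_inj_of_complement {V G : Subgroup X} (hGV : Subgroup.IsComplement' V G) {u u' g g' : X} (hu : u ∈ V)
    (hu' : u' ∈ V) (hg : g ∈ G) (hg' : g' ∈ G) : u * g = u' * g' ↔ u = u' ∧ g = g' := by
  refine ⟨fun h => ?_, fun h => by rw [h.1, h.2]⟩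
  have := hGV.injective (a₁ := (⟨u, hu⟩, ⟨g, hg⟩)) (a₂ := (⟨u', hu'⟩, ⟨g', hg'⟩)) h
  exact ⟨congrArg (fun p => (p.1 : X)) this, congrArg (fun p => (p.2 : X)) this⟩

/-- Let X be a finite group, V an abelian normal subgroup of X (any two elements of V commute) and G a complement to V in X whose order is coprime to that of V. Let S be a set of representatives of the orbits of G on V under conjugation: S lies in V and every element of V is conjugate under G to exactly one member of S. Then the number of conjugacy classes of X equals the sum, over s in S, of the number of conjugacy classes of the centralizer of s in G. -/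
theorem result {X : Type*} [Group X] [Finite X] (V : Subgroup X) [V.Normal] (hab : ∀ a ∈ V, ∀ b ∈ V, a * b = b * a) (G : Subgroup X) (hGV : Subgroup.IsComplement' V G) (hcop : (Nat.card V).Coprime (Nat.card G)) (S : Finset X) (hSV : ∀ s ∈ S, s ∈ V) (hrep : ∀ v ∈ V, ∃! s, s ∈ S ∧ ∃ g ∈ G, g * v * g⁻¹ = s) : Nat.card (ConjClasses X) = ∑ s ∈ S, Nat.card (ConjClasses ↥(G ⊓ Subgroup.centralizer ({s} : Set X))) := by
  classical
  haveI := Fintype.ofFinite X
  let CP : Type _ := {p : G × G // Commute p.1 p.2}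
  let D : CP → Subgroup X := fun p => V ⊓ Subgroup.centralizer ({(p.1.1 : X), (p.1.2 : X)} : Set X)
  let Cs : X → Subgroup X := fun v => G ⊓ Subgroup.centralizer ({v} : Set X)
  -- the commuting pairs of `X`
  let e : (Σ p : CP, {uw : V × V // (uw.1 : X) * ((p.1.1 : X) * uw.2 * (p.1.1 : X)⁻¹) = uw.2 * ((p.1.2 : X) * uw.1 * (p.1.2 : X)⁻¹)}) →
      {q : X × X // Commute q.1 q.2} := fun s => ⟨((s.2.1.1 : X) * s.1.1.1, (s.2.1.2 : X) * s.1.1.2), by
    obtain ⟨⟨⟨g, h⟩, hgh⟩, ⟨⟨u, w⟩, huw⟩⟩ := s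
    have hgh' : (g : X) * h = h * g := congrArg Subtype.val hgh
    show (u : X) * g * (w * h) = w * h * (u * g)
    calc (u : X) * g * (w * h) = u * ((g : X) * w * (g : X)⁻¹) * (g * h) := by group
      _ = w * ((h : X) * u * (h : X)⁻¹) * (h * g) := by rw [huw, hgh']
      _ = _ := by group⟩
  have he : Function.Bijective e := by
    constructor
    · rintro ⟨⟨⟨g, h⟩, hgh⟩, ⟨⟨u, w⟩, huw⟩⟩ ⟨⟨⟨g', h'⟩, hgh'⟩, ⟨⟨u', w'⟩, huw'⟩⟩ heq
      simp only [e, Subtype.mk.injEq, Prod.mk.injEq] at heq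
      obtain ⟨h1, h2⟩ := (mul_inj_of_complement hGV u.2 u'.2 g.2 g'.2).mp heq.1
      obtain ⟨h3, h4⟩ := (mul_inj_of_complement hGV w.2 w'.2 h.2 h'.2).mp heq.2
      obtain rfl := Subtype.ext h1
      obtain rfl := Subtype.ext h2
      obtain rfl := Subtype.ext h3
      obtain rfl := Subtype.ext h4
      rfl
    · rintro ⟨⟨a, b⟩, hc⟩
      obtain ⟨⟨u, g⟩, hug⟩ := hGV.surjective a
      obtain ⟨⟨w, h⟩, hwh⟩ := hGV.surjective b
      simp only at hug hwh
      subst hug hwh
      have hexp : (u : X) * ((g : X) * w * (g : X)⁻¹) * ((g : X) * h) = w * ((h : X) * u * (h : X)⁻¹) * (h * g) := by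
        have hc' : (u : X) * g * (w * h) = w * h * (u * g) := hc
        calc (u : X) * ((g : X) * w * (g : X)⁻¹) * ((g : X) * h) = (u : X) * g * (w * h) := by group
          _ = w * h * (u * g) := hc'
          _ = _ := by group
      obtain ⟨h1, h2⟩ := (mul_inj_of_complement hGV (mul_mem u.2 ((inferInstance : V.Normal).conj_mem _ w.2 g))
        (mul_mem w.2 ((inferInstance : V.Normal).conj_mem _ u.2 h)) (mul_mem g.2 h.2) (mul_mem h.2 g.2)).mp hexp
      exact ⟨⟨⟨(g, h), Subtype.ext h2⟩, ⟨(u, w), h1⟩⟩, rfl⟩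
  have hX : Nat.card (ConjClasses X) * Nat.card X = Nat.card V * Nat.card (Σ p : CP, D p) := by
    rw [← card_comm_eq_card_conjClasses_mul_card, ← Nat.card_congr (Equiv.ofBijective e he), Nat.card_sigma,
      Nat.card_sigma, Finset.mul_sum]
    refine Finset.sum_congr rfl fun p _ => ?_
    refine card_solutions V hab _ _ (congrArg Subtype.val p.2.eq) (hcop.coprime_dvd_right (Subgroup.card_dvd_of_le ?_))
    rw [Subgroup.closure_le]
    rintro a (rfl | rfl)
    · exact p.1.1.2
    · exact p.1.2.2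
  -- counting over the elements of `V`
  let A : X → ℕ := fun v => Nat.card {q : Cs v × Cs v // Commute q.1 q.2}
  have hswap : Nat.card (Σ p : CP, D p) = ∑ v : V, A v := by
    rw [← Nat.card_sigma]
    refine Nat.card_congr
      { toFun := fun s => ⟨⟨(s.2 : X), s.2.2.1⟩, ⟨(⟨(s.1.1.1 : X), Subgroup.mem_inf.mpr ⟨s.1.1.1.2, Subgroup.mem_centralizer_singleton_iff.mpr (s.2.2.2 _ (by simp))⟩⟩,
            ⟨(s.1.1.2 : X), Subgroup.mem_inf.mpr ⟨s.1.1.2.2, Subgroup.mem_centralizer_singleton_iff.mpr (s.2.2.2 _ (by simp))⟩⟩),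
            Subtype.ext (congrArg Subtype.val s.1.2.eq : _)⟩⟩
        invFun := fun s => ⟨⟨(⟨(s.2.1.1 : X), s.2.1.1.2.1⟩, ⟨(s.2.1.2 : X), s.2.1.2.2.1⟩), Subtype.ext (congrArg Subtype.val s.2.2.eq : _)⟩,
            ⟨(s.1 : X), Subgroup.mem_inf.mpr ⟨s.1.2, ?_⟩⟩⟩
        left_inv := fun s => rfl
        right_inv := fun s => rfl }
    rintro a (rfl | rfl)
    · exact Subgroup.mem_centralizer_singleton_iff.mp s.2.1.1.2.2
    · exact Subgroup.mem_centralizer_singleton_iff.mp s.2.1.2.2.2
  -- orbits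
  choose r hr hr' using fun v : V => (hrep v v.2).exists
  have hinv : ∀ v : V, A v = A (r v) := by
    intro v
    obtain ⟨g, hg, hgv⟩ := hr' v
    have himg : (Cs v).map (MulAut.conj g).toMonoidHom = Cs (r v) := by
      rw [← hgv]
      ext a
      rw [Subgroup.mem_map_equiv, MulAut.conj_symm_apply]
      simp only [Cs, Subgroup.mem_inf, Subgroup.mem_centralizer_singleton_iff]
      refine and_congr ⟨fun h => ?_, fun h => mul_mem (mul_mem (inv_mem hg) h) hg⟩ ⟨fun h => ?_, fun h => ?_⟩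
      · have := mul_mem (mul_mem hg h) (inv_mem hg)
        rwa [show g * (g⁻¹ * a * g) * g⁻¹ = a by group] at this
      · calc a * (g * v * g⁻¹) = g * ((g⁻¹ * a * g) * v) * g⁻¹ := by group
          _ = g * (v * (g⁻¹ * a * g)) * g⁻¹ := by rw [h]
          _ = _ := by group
      · calc g⁻¹ * a * g * v = g⁻¹ * (a * (g * v * g⁻¹)) * g := by group
          _ = g⁻¹ * ((g * v * g⁻¹) * a) * g := by rw [h]
          _ = _ := by group
    let φ : Cs v ≃* Cs (r v) := ((Cs v).equivMapOfInjective _ (MulAut.conj g).injective).trans (MulEquiv.subgroupCongr himg)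
    refine Nat.card_congr (Equiv.subtypeEquiv (φ.toEquiv.prodCongr φ.toEquiv) fun q => ?_)
    exact (commute_map_iff (f := φ) φ.injective).symm
  have hfib : ∀ s ∈ S, ∑ v ∈ Finset.univ.filter (fun v : V => r v = s), A v =
      Nat.card G * Nat.card (ConjClasses (Cs s)) := by
    intro s hs
    rw [Finset.sum_congr rfl (fun v hv => (hinv v).trans (by rw [(Finset.mem_filter.mp hv).2] : A (r v) = A s)),
      Finset.sum_const, smul_eq_mul]
    show _ * Nat.card {q : Cs s × Cs s // Commute q.1 q.2} = _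
    rw [card_comm_eq_card_conjClasses_mul_card, mul_comm (Nat.card (ConjClasses _)), ← mul_assoc]
    congr 1
    let f : G → V := fun g => ⟨(g : X) * s * (g : X)⁻¹, (inferInstance : V.Normal).conj_mem s (hSV s hs) g⟩
    have hf : ∀ g : G, f g ∈ Finset.univ.filter (fun v : V => r v = s) := fun g => by
      refine Finset.mem_filter.mpr ⟨Finset.mem_univ _, (hrep _ (f g).2).unique ⟨hr _, hr' _⟩ ⟨hs, (g : X)⁻¹, inv_mem g.2, ?_⟩⟩
      show (g : X)⁻¹ * ((g : X) * s * (g : X)⁻¹) * ((g : X)⁻¹)⁻¹ = s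
      group
    rw [Nat.card_eq_fintype_card (α := G), ← Finset.card_univ (α := G),
      Finset.card_eq_sum_card_fiberwise (fun g _ => hf g), Finset.sum_const_nat (m := Nat.card (Cs s))]
    intro v hv
    obtain ⟨g, hg, hgv⟩ := hr' v
    rw [(Finset.mem_filter.mp hv).2] at hgv
    rw [← Fintype.card_subtype, ← Nat.card_eq_fintype_card]
    have hv' : (v : X) = g⁻¹ * s * g := by rw [← hgv]; group
    have hmul : ∀ c : X, (g⁻¹ * c) * s * (g⁻¹ * c)⁻¹ = (v : X) ↔ c * s = s * c := fun c => by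
      rw [hv']
      constructor
      · intro h
        calc c * s = g * ((g⁻¹ * c) * s * (g⁻¹ * c)⁻¹) * g⁻¹ * c := by group
          _ = _ := by rw [h]; group
      · intro h
        calc (g⁻¹ * c) * s * (g⁻¹ * c)⁻¹ = g⁻¹ * (c * s) * c⁻¹ * g := by group
          _ = _ := by rw [h]; group
    exact Nat.card_congr
      { toFun := fun a => ⟨g * (a.1 : X), Subgroup.mem_inf.mpr ⟨mul_mem hg a.1.2,
          Subgroup.mem_centralizer_singleton_iff.mpr ((hmul _).mp (by
            rw [inv_mul_cancel_left]; exact congrArg Subtype.val a.2))⟩⟩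
        invFun := fun c => ⟨⟨g⁻¹ * (c : X), mul_mem (inv_mem hg) c.2.1⟩,
          Subtype.ext ((hmul _).mpr (Subgroup.mem_centralizer_singleton_iff.mp c.2.2))⟩
        left_inv := fun a => Subtype.ext (Subtype.ext (inv_mul_cancel_left g _))
        right_inv := fun c => Subtype.ext (mul_inv_cancel_left g _) }
  have hmain : ∑ v : V, A v = Nat.card G * ∑ s ∈ S, Nat.card (ConjClasses (Cs s)) := by
    rw [← Finset.sum_fiberwise_of_maps_to (g := r) (t := S) (fun v _ => hr v), Finset.mul_sum]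
    exact Finset.sum_congr rfl hfib
  rw [hswap, hmain] at hX
  rw [← Subgroup.IsComplement'.card_mul hGV, ← mul_assoc (Nat.card V), mul_comm (Nat.card (ConjClasses X))] at hX
  exact Nat.eq_of_mul_eq_mul_left (Nat.mul_pos Nat.card_pos Nat.card_pos) hX
end Cfsg.Agent.S4956
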