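import Cfsg.Statements.S4957
import Cfsg.Agent.S4956
import Cfsg.Agent.Lib.KGVTrans.Small

set_option autoImplicit false
open Cfsg

namespace CfsgLib.KGVTrans

theorem card_conjClasses_congr {A B : Type*} [Group A] [Group B] (e : A ≃* B) :
    Nat.card (ConjClasses A) = Nat.card (ConjClasses B) := by
  refine Nat.card_congr
    { toFun := ConjClasses.map e.toMonoidHom
      invFun := ConjClasses.map e.symm.toMonoidHom
      left_inv := fun a => ?_
      right_inv := fun a => ?_ }
  · obtain ⟨a, rfl⟩ := ConjClasses.mk_surjective a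
    show ConjClasses.mk (e.symm (e a)) = ConjClasses.mk a
    rw [MulEquiv.symm_apply_apply]
  · obtain ⟨a, rfl⟩ := ConjClasses.mk_surjective a
    show ConjClasses.mk (e (e.symm a)) = ConjClasses.mk a
    rw [MulEquiv.apply_symm_apply]

/-- An action by automorphisms on a commutative group of exponent `p`, as a linear action. -/
noncomputable def addRep {p : ℕ} {V : Type*} [CommGroup V] [Module (ZMod p) (Additive V)] {H : Type*}
    [Group H] (φ : H →* MulAut V) : H →* (Additive V ≃ₗ[ZMod p] Additive V) where
  toFun g :=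
    { MulEquiv.toAdditive (φ g) with
      map_smul' := fun c x => ZMod.map_smul (MulEquiv.toAdditive (φ g)).toAddMonoidHom c x }
  map_one' := LinearEquiv.ext fun x => by
    show Additive.ofMul ((φ 1) (Additive.toMul x)) = x
    rw [map_one]; rfl
  map_mul' g h := LinearEquiv.ext fun x => by
    show Additive.ofMul ((φ (g * h)) (Additive.toMul x)) = Additive.ofMul (φ g (φ h (Additive.toMul x)))
    rw [map_mul]; rfl

theorem addRep_apply {p : ℕ} {V : Type*} [CommGroup V] [Module (ZMod p) (Additive V)] {H : Type*}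
    [Group H] (φ : H →* MulAut V) (g : H) (x : V) :
    Additive.toMul (addRep (p := p) φ g (Additive.ofMul x)) = φ g x := rfl

/-- The bound for a transitive linear group of order prime to the characteristic. -/
theorem transitive_bound {p : ℕ} [hp : Fact p.Prime] {W : Type*} [AddCommGroup W] [Module (ZMod p) W]
    [Finite W] [Nontrivial W] {H : Type*} [Group H] [Finite H] (ρ : H →* (W ≃ₗ[ZMod p] W))
    (hρ : Function.Injective ρ) (hH : ¬ p ∣ Nat.card H)
    (htrans : ∀ v w : W, v ≠ 0 → w ≠ 0 → ∃ g : H, ρ g v = w) (S : Subgroup H) (v₀ : W) (hv₀ : v₀ ≠ 0)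
    (hS : ∀ g, g ∈ S ↔ ρ g v₀ = v₀) :
    Nat.card (ConjClasses H) + Nat.card (ConjClasses S) ≤ Nat.card W ∧
      (Nat.card (ConjClasses H) + Nat.card (ConjClasses S) = Nat.card W →
        IsCyclic H ∨ (Nat.card W = 8 ∧ Nat.card H = 21) ∨ (Nat.card W = 9 ∧ Nat.card H = 16)) := by
  classical
  by_cases hns : Semilin ρ
  · obtain ⟨F, _, _, e, he⟩ := hns
    exact semilinear_bound ρ hρ htrans hH e he S v₀ hv₀ hS
  rcases structure_cases ρ hρ hH htrans with h | ⟨hp2, hn⟩ | ⟨rfl, hn⟩
  · exact absurd h hns
  · have := bound_dim_two ρ hρ hH hp2 htrans hns hn S v₀ hv₀ hS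
    exact ⟨this.le, fun h => absurd h this.ne⟩
  · have := bound_four ρ hρ hH htrans hns hn S v₀ hv₀ hS
    exact ⟨this.le, fun h => absurd h this.ne⟩

/-- The bound, for a group acting by automorphisms on a group of exponent `p`. -/
theorem exponent_bound {p : ℕ} [hp : Fact p.Prime] {V : Type*} [CommGroup V] [Finite V] [Nontrivial V]
    [Module (ZMod p) (Additive V)] {H : Type*} [Group H] [Finite H] (φ : H →* MulAut V)
    (hφ : Function.Injective φ) (hH : ¬ p ∣ Nat.card H)
    (htrans : ∀ v w : V, v ≠ 1 → w ≠ 1 → ∃ g : H, φ g v = w) (S : Subgroup H) (v₀ : V) (hv₀ : v₀ ≠ 1)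
    (hS : ∀ g, g ∈ S ↔ φ g v₀ = v₀) :
    Nat.card (ConjClasses H) + Nat.card (ConjClasses S) ≤ Nat.card V ∧
      (Nat.card (ConjClasses H) + Nat.card (ConjClasses S) = Nat.card V →
        IsCyclic H ∨ (Nat.card V = 8 ∧ Nat.card H = 21) ∨ (Nat.card V = 9 ∧ Nat.card H = 16)) := by
  have hinj : Function.Injective (addRep (p := p) φ) := fun g h e => hφ (MulEquiv.ext fun x =>
    congrArg (fun f : Additive V ≃ₗ[ZMod p] Additive V => Additive.toMul (f (Additive.ofMul x))) e)
  rw [show Nat.card V = Nat.card (Additive V) from (Nat.card_congr Additive.toMul).symm]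
  refine transitive_bound (addRep (p := p) φ) hinj hH (fun a b ha hb => ?_) S (Additive.ofMul v₀)
    (fun h => hv₀ (congrArg Additive.toMul h)) fun g => ?_
  · obtain ⟨g, hg⟩ := htrans (Additive.toMul a) (Additive.toMul b)
      (fun h => ha (Additive.toMul.injective h)) (fun h => hb (Additive.toMul.injective h))
    exact ⟨g, Additive.toMul.injective hg⟩
  · rw [hS]
    exact ⟨fun h => Additive.toMul.injective h, fun h => congrArg Additive.toMul h⟩

end CfsgLib.KGVTrans

namespace Cfsg.Agent.S4957

/-- Let X be a finite group and V a normal subgroup of X in which every element has order dividing the prime p, whose index in X is prime to p and which is its own centralizer in X; so V is an elementary abelian normal Sylow p-subgroup, and any complement G to V in X is a group of order prime to p acting faithfully on the vector space V by conjugation (the coprime linear setting of the k(GV) problem). Suppose a complement G to V in X is transitive by conjugation on the nonidentity elements of V. Then X has at most (order of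 V) conjugacy classes, and if equality holds then G is cyclic (hence, being transitive, a Singer cycle), or V has order 8 and G has order 21 (the nonabelian group of order 21 inside the simple group of order 168), or V has order 9 and G has order 16 (a semidihedral Sylow 2-subgroup of the 2-dimensional general linear group over the field with 3 elements). -/
theorem result {X : Type*} [Group X] [Finite X] (p : ℕ) [Fact p.Prime] (V : Subgroup X) [V.Normal] (hVexp : ∀ v ∈ V, v ^ p = 1) (hidx : ¬ p ∣ V.index) (hself : Subgroup.centralizer (V : Set X) = V) (G : Subgroup X) (hGV : Subgroup.IsComplement' V G) (htrans : ∀ v ∈ V, ∀ w ∈ V, v ≠ 1 → w ≠ 1 → ∃ g ∈ G, g * v * g⁻¹ = w) : Nat.card (ConjClasses X) ≤ Nat.card V ∧ (Nat.card (ConjClasses X) = Nat.card V → (IsCyclic G ∨ (Nat.card V = 8 ∧ Nat.card G = 21) ∨ (Nat.card V = 9 ∧ Nat.card G = 16))) := by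
  classical
  have hab : ∀ a ∈ V, ∀ b ∈ V, a * b = b * a := fun a ha b hb =>
    (show b ∈ Subgroup.centralizer (V : Set X) from hself.symm ▸ hb) a ha
  by_cases hV : V = ⊥
  · subst hV
    have htop : ∀ x : X, x = 1 := fun x => Subgroup.mem_bot.mp
      (hself ▸ (fun y hy => by rw [Subgroup.mem_bot.mp hy, one_mul, mul_one] :
        x ∈ Subgroup.centralizer ((⊥ : Subgroup X) : Set X)))
    haveI : Subsingleton X := ⟨fun a b => (htop a).trans (htop b).symm⟩
    refine ⟨le_trans (Nat.card_le_card_of_surjective ConjClasses.mk ConjClasses.mk_surjective)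
      (le_of_eq (by rw [Nat.card_of_subsingleton (1 : X), Subgroup.card_bot])), fun _ => Or.inl inferInstance⟩
  obtain ⟨v, hv, hv1⟩ := (Subgroup.bot_or_exists_ne_one V).resolve_left hV
  letI : CommGroup V := { (inferInstance : Group V) with
    mul_comm := fun a b => Subtype.ext (hab a a.2 b b.2) }
  letI : Module (ZMod p) (Additive V) := AddCommGroup.zmodModule fun a => by
    have h := hVexp _ (Additive.toMul a).2
    exact Additive.toMul.injective (Subtype.ext (by rw [toMul_nsmul, SubmonoidClass.coe_pow, h]; rfl))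
  haveI : Nontrivial V := ⟨⟨v, hv⟩, 1, fun h => hv1 (congrArg Subtype.val h)⟩
  let φ : G →* MulAut V := (MulAut.conjNormal : X →* MulAut V).comp G.subtype
  have hφap : ∀ (g : G) (x : V), ((φ g x : V) : X) = (g : X) * x * (g : X)⁻¹ := fun g x =>
    MulAut.conjNormal_apply _ _
  have hφinj : Function.Injective φ := by
    refine (injective_iff_map_eq_one φ).mpr fun g hg => ?_
    have hmem : (g : X) ∈ Subgroup.centralizer (V : Set X) := fun y hy => by
      have h := hφap g ⟨y, hy⟩
      rw [hg] at h
      exact eq_mul_inv_iff_mul_eq.mp h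
    rw [hself] at hmem
    exact Subtype.ext (Subgroup.mem_bot.mp (hGV.disjoint.le_bot ⟨hmem, g.2⟩))
  have htr : ∀ a b : V, a ≠ 1 → b ≠ 1 → ∃ g : G, φ g a = b := fun a b ha hb => by
    obtain ⟨g, hg, he⟩ := htrans _ a.2 _ b.2 (fun h => ha (Subtype.ext h)) (fun h => hb (Subtype.ext h))
    exact ⟨⟨g, hg⟩, Subtype.ext ((hφap ⟨g, hg⟩ _).trans he)⟩
  have hGi : V.index = Nat.card G := hGV.symm.index_eq_card
  have hGp : ¬ p ∣ Nat.card G := hGi ▸ hidx
  have hcop : (Nat.card V).Coprime (Nat.card G) := by
    obtain ⟨k, hk⟩ := IsPGroup.iff_card.mp (fun x : V => ⟨1, Subtype.ext (by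
      rw [pow_one, SubmonoidClass.coe_pow]; exact hVexp x x.2)⟩ : IsPGroup p V)
    rw [hk]
    exact ((Fact.out : p.Prime).coprime_iff_not_dvd.mpr hGp).pow_left k
  have hkX := Cfsg.Agent.S4956.result V hab G hGV hcop {1, v}
    (fun s hs => by
      rcases Finset.mem_insert.mp hs with rfl | hs
      · exact one_mem V
      · rw [Finset.mem_singleton.mp hs]; exact hv)
    (fun u hu => by
      by_cases hu1 : u = 1
      · subst hu1
        refine ⟨1, ⟨Finset.mem_insert_self _ _, 1, one_mem G, by group⟩, fun s hs => ?_⟩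
        obtain ⟨-, g, -, he⟩ := hs
        rw [← he, mul_one, mul_inv_cancel]
      · obtain ⟨g, hg, he⟩ := htrans u hu v hv hu1 hv1
        refine ⟨v, ⟨by simp, g, hg, he⟩, fun s hs => ?_⟩
        obtain ⟨hs, g', -, he'⟩ := hs
        rcases Finset.mem_insert.mp hs with rfl | hs
        · exact absurd (conj_eq_one_iff.mp he') hu1
        · exact Finset.mem_singleton.mp hs)
  rw [Finset.sum_pair (Ne.symm hv1)] at hkX
  set S : Subgroup G := (G ⊓ Subgroup.centralizer ({v} : Set X)).subgroupOf G with hSdef
  have e1 : Nat.card (ConjClasses ↥(G ⊓ Subgroup.centralizer ({1} : Set X))) =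
      Nat.card (ConjClasses G) :=
    CfsgLib.KGVTrans.card_conjClasses_congr (MulEquiv.subgroupCongr (inf_eq_left.mpr fun x _ =>
      Subgroup.mem_centralizer_singleton_iff.mpr (by rw [one_mul, mul_one])))
  have e2 : Nat.card (ConjClasses ↥(G ⊓ Subgroup.centralizer ({v} : Set X))) =
      Nat.card (ConjClasses S) :=
    CfsgLib.KGVTrans.card_conjClasses_congr (Subgroup.subgroupOfEquivOfLe inf_le_left).symm
  rw [hkX, e1, e2]
  refine CfsgLib.KGVTrans.exponent_bound (p := p) φ hφinj hGp htr S ⟨v, hv⟩
    (fun h => hv1 (congrArg Subtype.val h)) fun g => ?_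
  rw [hSdef, Subgroup.mem_subgroupOf, Subgroup.mem_inf, Subgroup.mem_centralizer_singleton_iff]
  constructor
  · intro h
    exact Subtype.ext ((hφap g _).trans (mul_inv_eq_iff_eq_mul.mpr h.2))
  · intro h
    refine ⟨g.2, mul_inv_eq_iff_eq_mul.mp ?_⟩
    rw [← hφap g ⟨v, hv⟩, h]

end Cfsg.Agent.S4957
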