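import Cfsg.Statements.S4959
import Cfsg.Agent.Lib.KGV.RealVector.Split
import Cfsg.Agent.Lib.KGV.RealVector.Coords
import Cfsg.Agent.Lib.KGV.RealVector.Count
import Cfsg.Agent.Lib.Blocks.Sections
import Cfsg.Agent.Lib.Blocks.BrauerFeit
import Cfsg.Agent.Lib.Char.Extraspecial
import Cfsg.Agent.Lib.Char.Central

set_option autoImplicit false
open Cfsg

namespace Cfsg.Agent.S4959

/-- Let X be a finite group and V a normal subgroup of X in which every element has order dividing the prime p, whose index in X is prime to p and which is its own centralizer in X; so V is an elementary abelian normal Sylow p-subgroup, and any complement G to V in X is a group of order prime to p acting faithfully on the vector space V by conjugation (the coprime linear setting of the k(GV) problem). Let G be a complement to V in X, let v be in V and let H be the centralizer of v in G. Suppose there is a subgroup U of V normalized by H, on which H acts faithfully, and carrying an H-invariant bi-additive pairing β with values in the integers modulo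 p that is nondegenerate on U (equivalently: the restriction of the module V to H has a faithful self-dual submodule; such a v is called a real vector for G). Then the number of conjugacy classes of X is at most the order of V (the real-vector criterion for the k(GV) problem). The pairing is given as a function on X whose relevant values are those on pairs from U. -/
theorem result {X : Type*} [Group X] [Finite X] (p : ℕ) [Fact p.Prime] (V : Subgroup X) [V.Normal] (hVexp : ∀ v ∈ V, v ^ p = 1) (hidx : ¬ p ∣ V.index) (hself : Subgroup.centralizer (V : Set X) = V) (G : Subgroup X) (hGV : Subgroup.IsComplement' V G) (v : X) (hv : v ∈ V) (U : Subgroup X) (hUV : U ≤ V) (hUinv : ∀ h ∈ G, h * v * h⁻¹ = v → ∀ u ∈ U, h * u * h⁻¹ ∈ U) (hUfaith : ∀ h ∈ G, h * v * h⁻¹ = v → (∀ u ∈ U, h * u * h⁻¹ = u) → h = 1) (β : X → X → ZMod p) (hβl : ∀ u ∈ U, ∀ u' ∈ U, ∀ w ∈ U, β (u * u') w = β u w + β u' w) (hβr : ∀ u ∈ U, ∀ w ∈ U, ∀ w' ∈ U, β u (w * w') = β u w + β u w') (hβinv : ∀ h ∈ G, h * v * h⁻¹ = v → ∀ u ∈ U, ∀ w ∈ U, β (h * u * h⁻¹) (h *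 w * h⁻¹) = β u w) (hβnd : ∀ u ∈ U, (∀ w ∈ U, β u w = 0) → u = 1) : Nat.card (ConjClasses X) ≤ Nat.card V := by
  classical
  haveI : Fintype X := Fintype.ofFinite X
  have hp : p.Prime := Fact.out
  set C : Subgroup X := G ⊓ Subgroup.centralizer ({v} : Set X) with hCdef
  haveI : Fintype C := Fintype.ofFinite C
  have hC : ∀ c : C, (c : X) ∈ G ∧ (c : X) * v * (c : X)⁻¹ = v := fun c => by
    have h := Subgroup.mem_centralizer_singleton_iff.1 c.2.2
    exact ⟨c.2.1, by rw [h, mul_inv_cancel_right]⟩
  have hcomm : ∀ c : C, Commute v (C.subtype c) := fun c =>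
    (Subgroup.mem_centralizer_iff.mp c.2.2 v rfl)
  have hpC : ¬ p ∣ Nat.card C := fun h => hidx (by
    rw [hGV.symm.index_eq_card]
    exact h.trans (Subgroup.card_dvd_of_le inf_le_left))
  have hcommV : ∀ a ∈ V, ∀ b ∈ V, a * b = b * a := fun a ha b hb => by
    have hb' : b ∈ Subgroup.centralizer (V : Set X) := by rw [hself]; exact hb
    exact Subgroup.mem_centralizer_iff.mp hb' a ha
  letI : CommGroup U :=
    { (inferInstance : Group U) with
      mul_comm := fun a b => Subtype.ext (hcommV a (hUV a.2) b (hUV b.2)) }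
  obtain ⟨d, ⟨e⟩⟩ := CfsgLib.KGV.RealVector.exists_coords (A := U) p fun a =>
    Subtype.ext (hVexp (a : X) (hUV a.2))
  -- the action
  let act : C → U → U := fun c u =>
    ⟨(c : X) * u * (c : X)⁻¹, hUinv c (hC c).1 (hC c).2 u u.2⟩
  let ρ : Representation (ZMod p) C (Fin d → ZMod p) :=
    { toFun := fun c => AddMonoidHom.toZModLinearMap p
        { toFun := fun x => e (Additive.ofMul (act c (Additive.toMul (e.symm x))))
          map_zero' := by
            rw [map_zero, show act c (Additive.toMul (0 : Additive U)) = 1 from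
              Subtype.ext (by simp [act]), ofMul_one, map_zero]
          map_add' := fun x y => by
            rw [← map_add e, ← ofMul_mul, map_add]
            congr 2
            exact Subtype.ext (by simp [act, mul_assoc]) }
      map_one' := LinearMap.ext fun x => by
        show e (Additive.ofMul (act 1 (Additive.toMul (e.symm x)))) = x
        rw [show act 1 (Additive.toMul (e.symm x)) = Additive.toMul (e.symm x) from
          Subtype.ext (by simp [act]), ofMul_toMul, AddEquiv.apply_symm_apply]
      map_mul' := fun a b => LinearMap.ext fun x => by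
        show e (Additive.ofMul (act (a * b) _)) =
          e (Additive.ofMul (act a (Additive.toMul (e.symm (e (Additive.ofMul (act b _)))))))
        rw [AddEquiv.symm_apply_apply]
        congr 2
        exact Subtype.ext (by simp [act, mul_assoc]) }
  have hρ : ∀ (c : C) (u : U), ρ c (e (Additive.ofMul u)) = e (Additive.ofMul (act c u)) := fun c u => by
    show e (Additive.ofMul (act c (Additive.toMul (e.symm (e (Additive.ofMul u)))))) = _
    rw [AddEquiv.symm_apply_apply]
    rfl
  have hsurj : ∀ x : Fin d → ZMod p, ∃ u : U, e (Additive.ofMul u) = x := fun x =>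
    ⟨Additive.toMul (e.symm x), by rw [ofMul_toMul, AddEquiv.apply_symm_apply]⟩
  -- the form
  let B : (Fin d → ZMod p) → (Fin d → ZMod p) → ZMod p := fun x y =>
    β (Additive.toMul (e.symm x) : U) (Additive.toMul (e.symm y) : U)
  have hBl : ∀ x x' y, B (x + x') y = B x y + B x' y := fun x x' y => by
    simp only [B, map_add, toMul_add, Subgroup.coe_mul]
    exact hβl _ (Subtype.prop _) _ (Subtype.prop _) _ (Subtype.prop _)
  have hBr : ∀ x y y', B x (y + y') = B x y + B x y' := fun x y y' => by
    simp only [B, map_add, toMul_add, Subgroup.coe_mul]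
    exact hβr _ (Subtype.prop _) _ (Subtype.prop _) _ (Subtype.prop _)
  let βB : (Fin d → ZMod p) →ₗ[ZMod p] (Fin d → ZMod p) →ₗ[ZMod p] ZMod p :=
    AddMonoidHom.toZModLinearMap p (AddMonoidHom.mk'
      (fun x => AddMonoidHom.toZModLinearMap p (AddMonoidHom.mk' (fun y => B x y) (hBr x)))
      (fun x x' => LinearMap.ext fun y => hBl x x' y))
  have hβB : ∀ u w : U, βB (e (Additive.ofMul u)) (e (Additive.ofMul w)) = β u w := fun u w => by
    show B _ _ = _
    simp only [B, AddEquiv.symm_apply_apply, toMul_ofMul]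
  obtain ⟨ψ, hψ⟩ := CfsgLib.KGV.RealVector.exists_good hpC ρ βB
    (fun c x y => by
      obtain ⟨u, rfl⟩ := hsurj x
      obtain ⟨w, rfl⟩ := hsurj y
      rw [hρ, hρ, hβB, hβB]
      exact hβinv c (hC c).1 (hC c).2 u u.2 w w.2)
    (fun x hx => by
      obtain ⟨u, rfl⟩ := hsurj x
      have h1 : (u : X) = 1 := hβnd u u.2 fun w hw => by
        rw [← hβB u ⟨w, hw⟩]; exact hx _
      rw [show u = 1 from Subtype.ext h1, ofMul_one, map_zero])
  -- fixed points
  set Fx : C → Subgroup X := fun c => U ⊓ Subgroup.centralizer ({(c : X)} : Set X) with hFx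
  have hact : ∀ (c : C) (u : U),
      act c u = u ↔ (u : X) ∈ Subgroup.centralizer ({(c : X)} : Set X) := fun c u => by
    rw [Subgroup.mem_centralizer_singleton_iff]
    constructor
    · intro h
      have h1 : (c : X) * u * (c : X)⁻¹ = u := congrArg Subtype.val h
      rw [mul_inv_eq_iff_eq_mul] at h1
      exact h1.symm
    · intro h
      exact Subtype.ext (by show (c : X) * u * (c : X)⁻¹ = u; rw [mul_inv_eq_iff_eq_mul, h])
  have hfix : ∀ c : C, Nat.card (CfsgLib.KGV.RealVector.fixK ρ c) = Nat.card (Fx c) := fun c => by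
    refine (Nat.card_congr (Equiv.ofBijective
      (fun u : Fx c => (⟨e (Additive.ofMul (⟨u.1, u.2.1⟩ : U)), ?_⟩ :
        CfsgLib.KGV.RealVector.fixK ρ c)) ⟨fun a b h => ?_, fun x => ?_⟩)).symm
    · rw [CfsgLib.KGV.RealVector.mem_fixK, hρ, (hact c _).2 u.2.2]
    · have := Additive.ofMul.injective (e.injective (congrArg Subtype.val h))
      exact Subtype.ext (congrArg (fun w : U => (w : X)) this)
    · obtain ⟨u, hu⟩ := hsurj x.1
      have hx := (CfsgLib.KGV.RealVector.mem_fixK ρ).1 x.2
      rw [← hu, hρ] at hx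
      exact ⟨⟨u, u.2, (hact c u).1 (Additive.ofMul.injective (e.injective hx))⟩, Subtype.ext hu⟩
  have hcardU : Nat.card (Fin d → ZMod p) = Nat.card U :=
    (Nat.card_congr (Additive.ofMul.trans e.toEquiv)).symm
  set m : C → ℕ := fun c => Nat.card U / Nat.card (Fx c) with hmdef
  have hmmul : ∀ c, m c * Nat.card (Fx c) = Nat.card U := fun c =>
    Nat.div_mul_cancel (Subgroup.card_dvd_of_le inf_le_left)
  have hm : ∀ c, ψ c * starRingEnd ℂ (ψ c) = (m c : ℂ) := fun c => by
    have h1 := hψ.normSq c
    rw [hfix, hcardU, ← hmmul c, Nat.cast_mul] at h1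
    exact mul_right_cancel₀ (Nat.cast_ne_zero.2 Nat.card_pos.ne') h1
  obtain ⟨M, hM⟩ := CfsgLib.Blocks.exists_isPModular hp
  haveI := CfsgLib.Blocks.isPrime_of_isPModular hM
  have hn : (Fintype.card C : ℂ) ≠ 0 := Nat.cast_ne_zero.2 Fintype.card_ne_zero
  refine CfsgLib.KGV.RealVector.card_classes_le C.subtype hcomm ψ (Nat.card V) m hψ.cm hψ.cls hm
    ?_ ?_ ?_
  · intro χ ξ
    set f : C → ℂ := fun c =>
      (χ : X → ℂ) (v * C.subtype c) * starRingEnd ℂ ((ξ : C → ℂ) c) with hf
    have hfVT : CfsgLib.KGV.RealVector.IsVT f :=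
      (CfsgLib.KGV.RealVector.IsVT.of_translate C.subtype hcomm
        (CfsgLib.Char.isCharacter_of_isIrr χ.2)).mul
      (CfsgLib.KGV.RealVector.IsVT.of_isCharacter
        (CfsgLib.Char.isCharacter_conj (CfsgLib.Char.isCharacter_of_isIrr ξ.2)))
    have hval : ∀ {Y : Type _} [Group Y] [Finite Y] (θ : IrrCharacter Y) (y : Y),
        IsIntegral ℤ ((θ : Y → ℂ) y) := fun θ y => by
      obtain ⟨k, σ, hσ⟩ := CfsgLib.Char.isCharacter_of_isIrr θ.2
      rw [← hσ]
      exact CfsgLib.Char.isIntegral_character σ y
    set a := CfsgLib.KGV.RealVector.wcoef C.subtype v ψ (χ : X → ℂ) (ξ : C → ℂ) with ha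
    have haf : a = (Fintype.card C : ℂ)⁻¹ * ∑ c, f c * ψ c := by
      rw [ha, CfsgLib.KGV.RealVector.wcoef]
      exact congrArg _ (Finset.sum_congr rfl fun c _ => by simp only [hf]; ring)
    have h1 : IsIntegral ℤ ((Fintype.card C : ℂ) * a) := by
      rw [haf, mul_inv_cancel_left₀ hn]
      exact IsIntegral.sum _ fun c _ => ((hval χ _).mul
        ((hval ξ c).map (starRingEnd ℂ).toIntAlgHom)).mul (hψ.int c)
    -- clearing the powers of `p`
    set P : Polynomial ℤ := ∏ j ∈ Finset.range (d + 1),
      (Polynomial.X - Polynomial.C ((p : ℤ) ^ j)) with hP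
    set a0 : ℤ := P.coeff 0 with ha0
    set Q := P.divX with hQ
    set π : C → ℂ := fun c => (Nat.card (CfsgLib.KGV.RealVector.fixK ρ c) : ℂ) with hπ
    have hπP : ∀ c, Polynomial.aeval (π c) P = 0 := fun c => by
      haveI : Fintype (CfsgLib.KGV.RealVector.fixK ρ c) := Fintype.ofFinite _
      rw [hP, map_prod]
      refine Finset.prod_eq_zero (i := Module.finrank (ZMod p) (CfsgLib.KGV.RealVector.fixK ρ c))
        (Finset.mem_range.2 (Nat.lt_succ_of_le ((Submodule.finrank_le _).trans
          (le_of_eq (by rw [Module.finrank_fin_fun]))))) ?_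
      simp only [hπ, map_sub, Polynomial.aeval_X, Polynomial.aeval_C]
      rw [Nat.card_eq_fintype_card,
        Module.card_eq_pow_finrank (K := ZMod p) (V := CfsgLib.KGV.RealVector.fixK ρ c), ZMod.card]
      simp
    have hπQ : ∀ c, π c * Polynomial.aeval (π c) Q = -(a0 : ℂ) := fun c => by
      have h := congrArg (Polynomial.aeval (π c)) (Polynomial.X_mul_divX_add P)
      rw [map_add, map_mul, Polynomial.aeval_X, Polynomial.aeval_C, hπP] at h
      have hint : (algebraMap ℤ ℂ) (P.coeff 0) = (a0 : ℂ) := rfl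
      rw [hint] at h
      linear_combination h
    have h2 : IsIntegral ℤ ((a0 : ℂ) * a) := by
      have he : (a0 : ℂ) * a = -∑ i ∈ Finset.range (Q.natDegree + 1), (Q.coeff i : ℂ) *
          ((Fintype.card C : ℂ)⁻¹ * ∑ c, f c * (ψ c * π c) * π c ^ i) := by
        simp only [Finset.mul_sum]
        rw [Finset.sum_comm, haf, Finset.mul_sum, Finset.mul_sum, ← Finset.sum_neg_distrib]
        refine Finset.sum_congr rfl fun c _ => ?_
        have h := hπQ c
        rw [Polynomial.aeval_eq_sum_range] at h
        rw [Finset.sum_congr rfl fun i _ => zsmul_eq_mul _ _] at h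
        rw [show (∑ i ∈ Finset.range (Q.natDegree + 1), (Q.coeff i : ℂ) *
            ((Fintype.card C : ℂ)⁻¹ * (f c * (ψ c * π c) * π c ^ i))) =
          (Fintype.card C : ℂ)⁻¹ * f c * ψ c *
            (π c * ∑ i ∈ Finset.range (Q.natDegree + 1), (Q.coeff i : ℂ) * π c ^ i) by
          simp only [Finset.mul_sum]
          exact Finset.sum_congr rfl fun i _ => by ring, h]
        ring
      rw [he]
      refine (IsIntegral.sum _ fun i _ => (isIntegral_algebraMap (R := ℤ) (x := Q.coeff i)).mul
        ?_).neg
      exact ((hfVT.mul hψ.vt).mul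
        ((CfsgLib.KGV.RealVector.isVT_card_fix ρ).pow i)).isIntegral_avg
    have hcop : IsCoprime a0 (Fintype.card C : ℤ) := by
      rw [ha0, hP, Polynomial.coeff_zero_eq_eval_zero, Polynomial.eval_prod]
      refine IsCoprime.prod_left fun j _ => ?_
      rw [Polynomial.eval_sub, Polynomial.eval_X, Polynomial.eval_C, zero_sub, IsCoprime.neg_left_iff]
      refine IsCoprime.pow_left ?_
      rw [Int.isCoprime_iff_gcd_eq_one, Int.gcd_natCast_natCast, ← Nat.card_eq_fintype_card]
      exact hp.coprime_iff_not_dvd.2 hpC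
    obtain ⟨x, y, hxy⟩ := hcop
    have h3 : a = (x : ℂ) * ((a0 : ℂ) * a) + (y : ℂ) * ((Fintype.card C : ℂ) * a) := by
      have := congrArg (fun z : ℤ => (z : ℂ)) hxy
      push_cast at this
      linear_combination (-a) * this
    rw [h3]
    exact ((isIntegral_algebraMap (R := ℤ) (x := x)).mul h2).add
      ((isIntegral_algebraMap (R := ℤ) (x := y)).mul h1)
  · intro χ ξ h0
    obtain ⟨k, -, hk⟩ := CfsgLib.Char.exists_nat_degree_irr χ.2
    have hdvd : ¬ p ∣ k := fun h => hidx (h.trans (CfsgLib.Char.Extraspecial.ito χ.2 V hcommV hk))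
    have hord : ∃ k : ℕ, orderOf v = p ^ k := by
      obtain ⟨k, _, hk⟩ := (Nat.dvd_prime_pow hp).mp
        (orderOf_dvd_of_pow_eq_one (show v ^ p ^ 1 = 1 by rw [pow_one]; exact hVexp v hv))
      exact ⟨k, hk⟩
    obtain ⟨l, hl, hlC⟩ := CfsgLib.Char.exists_degree_dvd_card ξ.2
    have hlp : ¬ p ∣ l := fun h => hpC (h.trans hlC.2)
    have hval : ∀ {Y : Type _} [Group Y] [Finite Y] (θ : IrrCharacter Y) (y : Y),
        IsIntegral ℤ ((θ : Y → ℂ) y) := fun θ y => by
      obtain ⟨k, σ, hσ⟩ := CfsgLib.Char.isCharacter_of_isIrr θ.2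
      rw [← hσ]
      exact CfsgLib.Char.isIntegral_character σ y
    have hsum : ∑ c : C, (χ : X → ℂ) (v * C.subtype c) * ψ c * starRingEnd ℂ ((ξ : C → ℂ) c) = 0 :=
      (mul_eq_zero.1 h0).resolve_left (inv_ne_zero hn)
    rw [← Finset.add_sum_erase _ _ (Finset.mem_univ (1 : C)), map_one, mul_one, hψ.one, mul_one,
      hl, map_natCast] at hsum
    have hrest : Cfsg.MemLocalIdeal M (∑ c ∈ (Finset.univ : Finset C).erase 1,
        (χ : X → ℂ) (v * C.subtype c) * ψ c * starRingEnd ℂ ((ξ : C → ℂ) c)) := by
      refine CfsgLib.Blocks.memLocalIdeal_sum _ _ fun c hc => ?_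
      have hmoved : ∃ x, ρ c x ≠ x := by
        by_contra hall
        push Not at hall
        refine Finset.ne_of_mem_erase hc (Subtype.ext (hUfaith c (hC c).1 (hC c).2 fun u hu => ?_))
        have h1 := hall (e (Additive.ofMul (⟨u, hu⟩ : U)))
        rw [hρ] at h1
        exact congrArg Subtype.val (Additive.ofMul.injective (e.injective h1))
      exact CfsgLib.Blocks.memLocalIdeal_mul_right (CfsgLib.Blocks.memLocalIdeal_mul_left
        (CfsgLib.Blocks.memLocalRing_of_isIntegral (hval χ _)) (hψ.ideal M hM c hmoved))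
        (CfsgLib.Blocks.memLocalRing_of_isIntegral ((hval ξ c).map (starRingEnd ℂ).toIntAlgHom))
    have h1 : Cfsg.MemLocalIdeal M ((χ : X → ℂ) v * (l : ℂ)) := by
      rw [eq_neg_of_add_eq_zero_left hsum]
      exact CfsgLib.Blocks.memLocalIdeal_neg hrest
    rcases CfsgLib.Blocks.memLocalIdeal_or_of_mul
      (CfsgLib.Blocks.memLocalRing_of_isIntegral (hval χ v))
      (CfsgLib.Blocks.memLocalRing_natCast l) h1 with h | h
    · have h2 := CfsgLib.Blocks.memLocalIdeal_value_mul_pElement_iff hM χ.2 (Commute.one_right v) hord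
      rw [mul_one, hk] at h2
      exact hdvd ((CfsgLib.Blocks.memLocalIdeal_natCast_iff hM).mp (h2.mp h))
    · exact hlp ((CfsgLib.Blocks.memLocalIdeal_natCast_iff hM).mp h)
  · intro c
    set F : Subgroup X := V ⊓ Subgroup.centralizer ({(c : X)} : Set X) with hF
    have hle : Nat.card (Subgroup.centralizer ({v * C.subtype c} : Set X)) ≤
        Nat.card F * Nat.card (Subgroup.centralizer ({c} : Set C)) := by
      have key : ∀ y : Subgroup.centralizer ({v * C.subtype c} : Set X),
          ∃ wg : F × Subgroup.centralizer ({c} : Set C), (y : X) = (wg.1 : X) * ((wg.2 : C) : X) := by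
        rintro ⟨y, hy⟩
        rw [Subgroup.mem_centralizer_singleton_iff] at hy
        have hva : Commute v (c : X) := hcomm c
        have hy' : Commute y (v * (c : X)) := hy
        have hyv : Commute y v := by
          have hk : Nat.Coprime (orderOf (c : X)) p := by
            refine ((hp.coprime_iff_not_dvd).mpr fun h => hpC (h.trans ?_)).symm
            rw [orderOf_submonoid]
            exact orderOf_dvd_natCard c
          have h1 : Commute y (v ^ orderOf (c : X)) := by
            have := hy'.pow_right (orderOf (c : X))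
            rwa [hva.mul_pow, pow_orderOf_eq_one, mul_one] at this
          obtain ⟨k, hk'⟩ := exists_pow_eq_self_of_coprime (x := v)
            (Nat.Coprime.coprime_dvd_right (orderOf_dvd_of_pow_eq_one (hVexp v hv)) hk)
          rw [← hk']
          exact h1.pow_right k
        have hya : Commute y (c : X) := by
          have := hyv.inv_right.mul_right hy'
          rwa [inv_mul_cancel_left] at this
        obtain ⟨⟨⟨w, hw⟩, ⟨g, hg⟩⟩, hwg⟩ := hGV.2 y
        simp only at hwg
        have hg' : g = w⁻¹ * y := by rw [← hwg, inv_mul_cancel_left]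
        have hgv : Commute g v := by
          rw [hg']
          exact (Commute.inv_left (hcommV w hw v hv)).mul_left hyv
        have hgC : g ∈ C := ⟨hg, Subgroup.mem_centralizer_singleton_iff.mpr hgv⟩
        -- `g` commutes with `c`
        have hcg : g * (c : X) * g⁻¹ = w⁻¹ * (c : X) * w := by
          have h1 : w * g * (c : X) = (c : X) * (w * g) := by
            rw [hwg]; exact hya.eq
          calc g * (c : X) * g⁻¹ = w⁻¹ * (w * g * (c : X)) * g⁻¹ := by group
            _ = w⁻¹ * (c : X) * w := by rw [h1]; group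
        have hmem : (c : X)⁻¹ * (g * (c : X) * g⁻¹) ∈ V ⊓ G := by
          refine ⟨?_, G.mul_mem (G.inv_mem (hC c).1)
            (G.mul_mem (G.mul_mem hg (hC c).1) (G.inv_mem hg))⟩
          rw [hcg, ← mul_assoc, ← mul_assoc]
          exact V.mul_mem (‹V.Normal›.conj_mem' _ (V.inv_mem hw) _) hw
        rw [hGV.disjoint.eq_bot, Subgroup.mem_bot, inv_mul_eq_one] at hmem
        have hgc : Commute g (c : X) := mul_inv_eq_iff_eq_mul.1 hmem.symm
        have hwc : w ∈ Subgroup.centralizer ({(c : X)} : Set X) := by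
          rw [Subgroup.mem_centralizer_singleton_iff]
          have := hya.mul_left hgc.inv_left
          rwa [← hwg, mul_inv_cancel_right] at this
        exact ⟨⟨⟨w, hw, hwc⟩, ⟨⟨g, hgC⟩, Subgroup.mem_centralizer_singleton_iff.mpr
          (Subtype.ext hgc.eq)⟩⟩, hwg.symm⟩
      choose Φ hΦ using key
      rw [← Nat.card_prod]
      exact Nat.card_le_card_of_injective Φ fun y z h => Subtype.ext (by rw [hΦ y, hΦ z, h])
    have hcmr : ∀ {H K : Subgroup X}, H ≤ K → Nat.card H * H.relIndex K = Nat.card K := fun h => by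
      rw [← Subgroup.relIndex_bot_left, Subgroup.relIndex_mul_relIndex _ _ _ bot_le h,
        Subgroup.relIndex_bot_left]
    have hUF : m c * Nat.card F ≤ Nat.card V := by
      have h1 : Nat.card (Fx c) * F.relIndex U = Nat.card U := by
        have : Fx c = U ⊓ F := by
          simp only [hFx, hF]
          rw [← inf_assoc, inf_eq_left.2 hUV]
        rw [this, ← Subgroup.inf_relIndex_left]
        exact hcmr inf_le_left
      have h2 : Nat.card F * F.relIndex V = Nat.card V := hcmr inf_le_left
      have h3 : F.relIndex U ≤ F.relIndex V :=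
        Subgroup.relIndex_le_of_le_right hUV (by
          intro h0; rw [h0, mul_zero] at h2; exact Nat.card_pos.ne h2)
      have h4 : m c = F.relIndex U :=
        Nat.eq_of_mul_eq_mul_right Nat.card_pos ((hmmul c).trans (h1.symm.trans (mul_comm _ _)))
      rw [h4, ← h2, mul_comm]
      exact Nat.mul_le_mul_left _ h3
    calc _ ≤ m c * (Nat.card F * Nat.card (Subgroup.centralizer ({c} : Set C))) :=
          Nat.mul_le_mul_left _ hle
      _ = m c * Nat.card F * Nat.card (Subgroup.centralizer ({c} : Set C)) := (mul_assoc _ _ _).symm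
      _ ≤ _ := Nat.mul_le_mul_right _ hUF

end Cfsg.Agent.S4959
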