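import Cfsg.Statements.S4964
import Cfsg.Agent.Lib.Blocks.RegularCriterion
import Cfsg.Agent.Lib.Blocks.KernelBlock
import Cfsg.Agent.Lib.Blocks.Inflate
import Cfsg.Agent.Lib.Blocks.Defect
import Cfsg.Agent.Lib.Coprime.Action
import Cfsg.Agent.Lib.PSolvable.Omega
-- import your own Cfsg.Agent.* helpers here

set_option autoImplicit false
open Cfsg

namespace Cfsg.Agent.S4964

open Cfsg
open scoped CfsgLib.Char

theorem exists_regular_preimage {A B : Type*} [Group A] [Finite A] [Group B] {p : ℕ} (hp : p.Prime)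
    (f : A →* B) (hf : Function.Surjective f) {b : B} (hb : IsPRegular p b) :
    ∃ a, IsPRegular p a ∧ f a = b := by
  obtain ⟨a, rfl⟩ := hf b
  set k := (orderOf a).factorization p
  have hm : ¬ p ∣ orderOf a / p ^ k := Nat.not_dvd_ordCompl hp (orderOf_pos a).ne'
  have hcop : Nat.Coprime (p ^ k) (orderOf (f a)) :=
    Nat.Coprime.pow_left _ ((Nat.Prime.coprime_iff_not_dvd hp).mpr hb)
  obtain ⟨t, ht⟩ := (exists_pow_eq_self_of_coprime hcop : ∃ t : ℕ, ((f a) ^ (p ^ k)) ^ t = f a)
  refine ⟨(a ^ (p ^ k)) ^ t, fun hd => hm ((hd.trans (orderOf_pow_dvd t)).trans ?_),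
    by rw [map_pow, map_pow, ht]⟩
  rw [orderOf_pow' a (pow_ne_zero _ hp.ne_zero), Nat.gcd_eq_right (Nat.ordProj_dvd _ _)]


/-- Let D be a normal p-subgroup of the finite group G, let D′ be its commutator subgroup (normal in G), and fix a maximal ideal M of the algebraic integers containing p. Then (i) two irreducible characters of G ⧸ D′ lie in the same p-block if and only if their inflations to G do, and (ii) every p-block of G contains the inflation of some irreducible character of G ⧸ D′; so inflation induces a bijection between the p-blocks of G ⧸ D′ and the p-blocks of G. -/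
theorem result {G : Type*} [Group G] [Finite G] (p : ℕ) [Fact p.Prime] (M : Ideal Cfsg.AlgInt) (hM : Cfsg.IsPModular p M) (D : Subgroup G) [D.Normal] (hD : IsPGroup p D) : (∀ χ ψ : Cfsg.IrrCharacter (G ⧸ ⁅D, D⁆), Cfsg.SameBlock M (χ : G ⧸ ⁅D, D⁆ → ℂ) (ψ : G ⧸ ⁅D, D⁆ → ℂ) ↔ Cfsg.SameBlock M ((χ : G ⧸ ⁅D, D⁆ → ℂ) ∘ QuotientGroup.mk) ((ψ : G ⧸ ⁅D, D⁆ → ℂ) ∘ QuotientGroup.mk)) ∧ ∀ B : Set (Cfsg.IrrCharacter G), Cfsg.IsPBlock M B → ∃ χ : Cfsg.IrrCharacter (G ⧸ ⁅D, D⁆), ∃ θ ∈ B, (θ : G → ℂ) = (χ : G ⧸ ⁅D, D⁆ → ℂ) ∘ QuotientGroup.mk := by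
  classical
  have := Fintype.ofFinite G
  have := Fintype.ofFinite (G ⧸ ⁅D, D⁆)
  have := CfsgLib.Blocks.isPrime_of_isPModular hM
  have hp : p.Prime := hM.1
  have hQ : IsPGroup p (⁅D, D⁆ : Subgroup G) := hD.to_le (Subgroup.commutator_le_self D)
  let π : G →* G ⧸ ⁅D, D⁆ := QuotientGroup.mk' _
  have hπ : Function.Surjective π := QuotientGroup.mk'_surjective _
  refine ⟨fun χ ψ => ⟨fun h => CfsgLib.Blocks.sameBlock_inflate π hπ h, fun h => ?_⟩, ?_⟩
  · refine CfsgLib.Blocks.sameBlock_of_regular_congr hM fun b hb => ?_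
    obtain ⟨g, hg, rfl⟩ := exists_regular_preimage hp π hπ hb
    by_cases hc : g ∈ Subgroup.centralizer (D : Set G)
    · have hone : Nat.card {x : G // IsConj g x ∧ π x = π g} = 1 := by
        rw [Nat.card_eq_one_iff_unique]
        refine ⟨⟨fun x y => ?_⟩, ⟨⟨g, IsConj.refl g, rfl⟩⟩⟩
        have key : ∀ z : {x : G // IsConj g x ∧ π x = π g}, z.1 = g := by
          rintro ⟨z, hgz, hz⟩
          have hu : g⁻¹ * z ∈ ⁅D, D⁆ := by
            rw [← QuotientGroup.eq]
            exact hz.symm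
          have huD : g⁻¹ * z ∈ D := Subgroup.commutator_le_self D hu
          have hcom : Commute g (g⁻¹ * z) := (Subgroup.mem_centralizer_iff.mp hc _ huD).symm
          obtain ⟨j, hj⟩ := hD ⟨_, huD⟩
          have hj' : (g⁻¹ * z) ^ p ^ j = 1 := congrArg Subtype.val hj
          obtain ⟨i, -, hi⟩ := (Nat.dvd_prime_pow hp).mp (orderOf_dvd_of_pow_eq_one hj')
          have hord : orderOf z = orderOf g := by
            obtain ⟨c, rfl⟩ := isConj_iff.mp hgz
            exact (MulEquiv.orderOf_eq (MulAut.conj c) g)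
          have hmul : orderOf (g * (g⁻¹ * z)) = orderOf g * p ^ i := by
            rw [← hi]
            refine hcom.orderOf_mul_eq_mul_orderOf_of_coprime ?_
            rw [hi]
            exact Nat.Coprime.pow_right _ ((Nat.Prime.coprime_iff_not_dvd hp).mpr hg).symm
          rw [mul_inv_cancel_left, hord] at hmul
          have h1 : p ^ i = 1 := Nat.eq_of_mul_eq_mul_left (orderOf_pos g)
            (by rw [mul_one]; exact hmul.symm)
          rw [h1, orderOf_eq_one_iff, inv_mul_eq_one] at hi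
          exact hi.symm
        exact Subtype.ext ((key x).trans (key y).symm)
      have hh : MemLocalIdeal M (centralChar ((χ : G ⧸ ⁅D, D⁆ → ℂ) ∘ π) g -
          centralChar ((ψ : G ⧸ ⁅D, D⁆ → ℂ) ∘ π) g) := h g
      rw [CfsgLib.Blocks.centralChar_comp π hπ, CfsgLib.Blocks.centralChar_comp π hπ, hone] at hh
      simpa using hh
    · have : (D.map π).Normal := Subgroup.Normal.map inferInstance π hπ
      have hc' : π g ∉ Subgroup.centralizer ((D.map π : Subgroup _) : Set (G ⧸ ⁅D, D⁆)) := by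
        intro hcen
        refine hc ?_
        have hle : Subgroup.zpowers g ≤ Subgroup.normalizer (D : Set G) := by
          rw [Subgroup.normalizer_eq_top]; exact le_top
        refine CfsgLib.Coprime.le_centralizer_of_frattini hle ?_ ?_ (Subgroup.mem_zpowers g)
        · obtain ⟨n, hn⟩ := IsPGroup.iff_card.mp (hD.to_subgroup (frattini D))
          rw [Nat.card_zpowers, hn]
          exact Nat.Coprime.pow_right _ ((Nat.Prime.coprime_iff_not_dvd hp).mpr hg).symm
        · intro a ha d hd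
          have hle' : ⁅D, D⁆ ≤ (frattini D).map D.subtype := by
            rw [← Subgroup.map_subtype_commutator]
            exact Subgroup.map_mono (CfsgLib.PSolvable.commutator_le_frattini hD).1
          refine hle' ?_
          have ha' : π a ∈ Subgroup.centralizer ((D.map π : Subgroup _) : Set (G ⧸ ⁅D, D⁆)) := by
            obtain ⟨k, rfl⟩ := Subgroup.mem_zpowers_iff.mp ha
            rw [map_zpow]
            exact zpow_mem hcen k
          rw [← QuotientGroup.eq_one_iff]
          show π (a * d * a⁻¹ * d⁻¹) = 1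
          rw [map_mul, map_mul, map_mul, map_inv, map_inv,
            ← Subgroup.mem_centralizer_iff.mp ha' (π d) (Subgroup.mem_map_of_mem π hd)]
          simp [mul_assoc]
      exact CfsgLib.Blocks.memLocalIdeal_sub
        (CfsgLib.Blocks.memLocalIdeal_centralChar_of_not_centralizing hM (D.map π) (hD.map π) χ hc')
        (CfsgLib.Blocks.memLocalIdeal_centralChar_of_not_centralizing hM (D.map π) (hD.map π) ψ hc')
  · intro B hB
    obtain ⟨θ, hθ, hθQ⟩ := CfsgLib.Blocks.exists_mem_trivial_on_normal_pgroup hM hB ⁅D, D⁆ hQ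
    obtain ⟨η, rfl⟩ := CfsgLib.Blocks.exists_inflate_eq_of_ker _ θ hθQ
    exact ⟨η, _, hθ, rfl⟩


end Cfsg.Agent.S4964
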