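import Cfsg.Statements.S4967


set_option autoImplicit false
open Cfsg

namespace Cfsg.Agent.S4967

theorem dim_one {F : Type*} [Field F] {H : Type*} [Group H] [Finite H] {V : Type*} [AddCommGroup V] [Module F V] [FiniteDimensional F V]
    (ρ : Representation F H V) (hfaith : Function.Injective ρ) (h1 : Module.finrank F V = 1)
    (B : LinearMap.BilinForm F V) (hB : B.Nondegenerate) (hBinv : ∀ h : H, ∀ x y : V, B (ρ h x) (ρ h y) = B x y) :
    Nat.card H ≤ 2 := by
  classical
  haveI : Nontrivial V := Module.nontrivial_of_finrank_pos (R := F) (by omega)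
  obtain ⟨v, hv⟩ := exists_ne (0 : V)
  choose c hc using fun h : H => exists_smul_eq_of_finrank_eq_one h1 hv (ρ h v)
  have hspan : ∀ w : V, ∃ a : F, a • v = w := fun w => exists_smul_eq_of_finrank_eq_one h1 hv w
  have hvv : B v v ≠ 0 := fun h0 => hv (hB.1 v fun w => by
    obtain ⟨a, rfl⟩ := hspan w
    simp [h0])
  have hsq : ∀ h, c h * c h = 1 := fun h => by
    have := hBinv h v v
    rw [← hc h, map_smul, map_smul, LinearMap.smul_apply, smul_eq_mul, smul_eq_mul, ← mul_assoc] at this
    exact (mul_eq_right₀ hvv).mp this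
  have hinj : Function.Injective c := fun a b hab => hfaith (LinearMap.ext fun w => by
    obtain ⟨t, rfl⟩ := hspan w
    rw [map_smul, map_smul, ← hc a, ← hc b, hab])
  calc Nat.card H = (Set.range c).ncard := by rw [← Nat.card_coe_set_eq, Nat.card_range_of_injective hinj]
    _ ≤ ({1, -1} : Set F).ncard := Set.ncard_le_ncard (by
        rintro _ ⟨h, rfl⟩
        exact mul_self_eq_one_iff.mp (hsq h)) (Set.toFinite _)
    _ ≤ 2 := (Set.ncard_insert_le _ _).trans (by rw [Set.ncard_singleton])

/-- Let F be a finite field with r elements and of characteristic p, H a finite abelian group of order prime to p, and V a faithful irreducible representation of H over F of dimension n (faithful: distinct elements act differently; irreducible: the only H-invariant subspaces are 0 and V). Call V self-dual when it carries a nondegenerate H-invariant bilinear form. If n = 1 and V is self-dual then H has order at most 2. If n ≥ 2 then V is self-dual if and only if n is even and the order of H divides r^(n/2) + 1. -/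
theorem result {F : Type*} [Field F] [Fintype F] (p : ℕ) [Fact p.Prime] [CharP F p] {H : Type*} [CommGroup H] [Finite H] (hcop : ¬ p ∣ Nat.card H) {V : Type*} [AddCommGroup V] [Module F V] [FiniteDimensional F V] (ρ : Representation F H V) (hfaith : Function.Injective ρ) (hirr : ∀ U : Submodule F V, (∀ h : H, ∀ u ∈ U, ρ h u ∈ U) → U = ⊥ ∨ U = ⊤) : (Module.finrank F V = 1 → (∃ B : LinearMap.BilinForm F V, B.Nondegenerate ∧ ∀ h : H, ∀ x y : V, B (ρ h x) (ρ h y) = B x y) → Nat.card H ≤ 2) ∧ (2 ≤ Module.finrank F V → ((∃ B : LinearMap.BilinForm F V, B.Nondegenerate ∧ ∀ h : H, ∀ x y : V, B (ρ h x) (ρ h y) = B x y) ↔ (Even (Module.finrank F V) ∧ Nat.card H ∣ Fintype.card F ^ (Module.finrank F V / 2) + 1))) := by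
  classical
  refine ⟨fun h1 ⟨B, hB, hBi⟩ => dim_one ρ hfaith h1 B hB hBi, fun h2 => ?_⟩
  haveI : Nontrivial V := Module.nontrivial_of_finrank_pos (R := F) (by omega)
  haveI : Finite V := Module.finite_of_finite F
  haveI : Finite (Module.End F V) := Finite.of_injective _ DFunLike.coe_injective
  let R : Subalgebra F (Module.End F V) := Algebra.adjoin F (Set.range ρ)
  have hcomm : ∀ x ∈ R, ∀ y ∈ R, x * y = y * x := by
    intro x hx y hy
    refine Algebra.commute_of_mem_adjoin_of_forall_mem_commute hy ?_
    rintro _ ⟨b, rfl⟩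
    refine (Algebra.commute_of_mem_adjoin_of_forall_mem_commute hx ?_).symm
    rintro _ ⟨a, rfl⟩
    show ρ b * ρ a = ρ a * ρ b
    rw [← map_mul, ← map_mul, mul_comm]
  have hinj : ∀ x ∈ R, x ≠ 0 → Function.Injective x := by
    intro x hx hx0
    rw [← LinearMap.ker_eq_bot]
    refine (hirr (LinearMap.ker x) fun g v hv => ?_).resolve_right fun h => hx0 (LinearMap.ker_eq_top.mp h)
    rw [LinearMap.mem_ker] at hv ⊢
    rw [← Module.End.mul_apply, hcomm x hx _ (Algebra.subset_adjoin ⟨g, rfl⟩), Module.End.mul_apply, hv, map_zero]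
  haveI : Fintype R := Fintype.ofFinite R
  letI : CommRing R := { (inferInstance : Ring R) with mul_comm := fun a b => Subtype.ext (hcomm a a.2 b b.2) }
  haveI : NoZeroDivisors R := ⟨fun {a b} h => by
    by_contra hcon
    push Not at hcon
    obtain ⟨u, hu⟩ := exists_ne (0 : V)
    have h' : (a : Module.End F V) ((b : Module.End F V) u) = 0 := by
      rw [← Module.End.mul_apply, ← Subalgebra.coe_mul, h]; rfl
    have ha := hinj a a.2 fun e => hcon.1 (Subtype.ext e)
    have hb := hinj b b.2 fun e => hcon.2 (Subtype.ext e)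
    exact hu (hb ((ha (h'.trans (map_zero _).symm)).trans (map_zero _).symm))⟩
  haveI : IsDomain R := NoZeroDivisors.to_isDomain R
  letI : Field R := Fintype.fieldOfDomain R
  let f : H →* R :=
    { toFun := fun a => ⟨ρ a, Algebra.subset_adjoin ⟨a, rfl⟩⟩
      map_one' := Subtype.ext (map_one ρ)
      map_mul' := fun a b => Subtype.ext (map_mul ρ a b) }
  have hfinj : Function.Injective f := fun a b h => hfaith (congrArg Subtype.val h)
  haveI : IsCyclic H := isCyclic_of_subgroup_isDomain f hfinj
  obtain ⟨v₀, hv₀⟩ := exists_ne (0 : V)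
  let ev : R →ₗ[F] V := (LinearMap.applyₗ v₀).comp R.toSubmodule.subtype
  have hev : Function.Bijective ev := by
    refine ⟨?_, ?_⟩
    · rw [← LinearMap.ker_eq_bot, LinearMap.ker_eq_bot']
      intro x hx
      by_contra hne
      exact hv₀ (hinj _ x.2 (fun e => hne (Subtype.ext e)) (hx.trans (map_zero _).symm))
    · rw [← LinearMap.range_eq_top]
      refine (hirr _ ?_).resolve_left fun h => hv₀ ?_
      · rintro g _ ⟨r, rfl⟩
        exact ⟨⟨ρ g * (r : Module.End F V), R.mul_mem (Algebra.subset_adjoin ⟨g, rfl⟩) r.2⟩, rfl⟩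
      · have : v₀ ∈ LinearMap.range ev := ⟨⟨1, R.one_mem⟩, rfl⟩
        rwa [h, Submodule.mem_bot] at this
  have hdim : Module.finrank F R = Module.finrank F V := (LinearEquiv.ofBijective ev hev).finrank_eq
  set n := Module.finrank F V with hn
  have hfrob : ∀ (i : ℕ) (x : R), (FiniteField.frobeniusAlgHom F R ^ i) x = x ^ (Fintype.card F ^ i) := fun i x => by
    rw [AlgHom.coe_pow, FiniteField.coe_frobeniusAlgHom, pow_iterate]
  constructor
  · rintro ⟨B, hB, hBi⟩
    let P : R → R → Prop := fun x y => ∀ u w : V, B ((x : Module.End F V) u) w = B u ((y : Module.End F V) w)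
    have huniq : ∀ x y y', P x y → P x y' → y = y' := fun x y y' h h' => Subtype.ext (LinearMap.ext fun w => by
      rw [← sub_eq_zero]
      exact hB.2 _ fun u => by rw [map_sub, ← h u w, ← h' u w, sub_self])
    have hgen : ∀ g, P (f g) (f g⁻¹) := fun g u w => by
      show B (ρ g u) w = B u (ρ g⁻¹ w)
      conv_lhs => rw [← Representation.self_inv_apply ρ g w, hBi]
    have hex : ∀ x : R, ∃ y, P x y := by
      rintro ⟨x, hx⟩
      induction hx using Algebra.adjoin_induction with
      | mem x hx =>
        obtain ⟨g, rfl⟩ := hx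
        exact ⟨f g⁻¹, hgen g⟩
      | algebraMap r =>
        exact ⟨algebraMap F R r, fun u w => by
          show B (algebraMap F (Module.End F V) r u) w = B u (algebraMap F (Module.End F V) r w)
          simp [Module.algebraMap_end_apply]⟩
      | add a b ha hb iha ihb =>
        obtain ⟨a', ha'⟩ := iha
        obtain ⟨b', hb'⟩ := ihb
        exact ⟨a' + b', fun u w => by
          show B (a u + b u) w = B u ((a' : Module.End F V) w + (b' : Module.End F V) w)
          rw [map_add, LinearMap.add_apply, map_add]
          exact congrArg₂ (· + ·) (ha' u w) (hb' u w)⟩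
      | mul a b ha hb iha ihb =>
        obtain ⟨a', ha'⟩ := iha
        obtain ⟨b', hb'⟩ := ihb
        exact ⟨b' * a', fun u w => by
          show B (a (b u)) w = B u ((b' : Module.End F V) ((a' : Module.End F V) w))
          exact (ha' (b u) w).trans (hb' u _)⟩
    choose S hS using hex
    let σ : R →ₐ[F] R :=
      { toFun := S
        map_one' := huniq 1 _ _ (hS 1) fun u w => rfl
        map_mul' := fun a b => huniq (a * b) _ _ (hS _) fun u w => by
          rw [mul_comm (S a) (S b)]
          show B ((a : Module.End F V) ((b : Module.End F V) u)) w = B u ((S b : Module.End F V) ((S a : Module.End F V) w))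
          rw [hS a, hS b]
        map_zero' := huniq 0 _ _ (hS 0) fun u w => by simp
        map_add' := fun a b => huniq (a + b) _ _ (hS _) fun u w => by
          show B ((a : Module.End F V) u + (b : Module.End F V) u) w = B u ((S a : Module.End F V) w + (S b : Module.End F V) w)
          rw [map_add, LinearMap.add_apply, map_add, hS a, hS b]
        commutes' := fun r => huniq _ _ _ (hS _) fun u w => by
          show B (algebraMap F (Module.End F V) r u) w = B u (algebraMap F (Module.End F V) r w)
          simp [Module.algebraMap_end_apply] }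
    have hσf : ∀ g, σ (f g) = f g⁻¹ := fun g => huniq _ _ _ (hS _) (hgen g)
    have hσσ : σ * σ = 1 := by
      refine AlgHom.ext fun x => ?_
      obtain ⟨x, hx⟩ := x
      induction hx using Algebra.adjoin_induction with
      | mem x hx =>
        obtain ⟨g, rfl⟩ := hx
        show σ (σ (f g)) = f g
        rw [hσf, hσf, inv_inv]
      | algebraMap r => exact AlgHom.commutes (σ * σ) r
      | add a b ha hb iha ihb =>
        show σ (σ (⟨a, ha⟩ + ⟨b, hb⟩)) = ⟨a, ha⟩ + ⟨b, hb⟩
        rw [map_add, map_add]
        exact congrArg₂ (· + ·) iha ihb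
      | mul a b ha hb iha ihb =>
        show σ (σ (⟨a, ha⟩ * ⟨b, hb⟩)) = ⟨a, ha⟩ * ⟨b, hb⟩
        rw [map_mul, map_mul]
        exact congrArg₂ (· * ·) iha ihb
    obtain ⟨⟨i, hi⟩, hσi⟩ := (FiniteField.bijective_frobeniusAlgHom_pow F R).2 σ
    simp only at hσi
    have hdvd : n ∣ i + i := by
      rw [← hdim, ← FiniteField.orderOf_frobeniusAlgHom F R, orderOf_dvd_iff_pow_eq_one, pow_add, hσi, hσσ]
    have hi0 : i ≠ 0 := by
      rintro rfl
      rw [pow_zero] at hσi
      have hsc : ∀ g, ρ g = 1 ∨ ρ g = -1 := fun g => by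
        have h : f g = f g⁻¹ := by rw [← hσf g, ← hσi]; rfl
        have h' : f g * f g = 1 := by
          conv_lhs => arg 2; rw [h]
          rw [← map_mul, mul_inv_cancel, map_one]
        rcases mul_self_eq_one_iff.mp h' with e | e
        · exact Or.inl (congrArg Subtype.val e)
        · exact Or.inr (congrArg Subtype.val e)
      rcases hirr (F ∙ v₀) (fun g u hu => by
        rcases hsc g with e | e <;> rw [e]
        · exact hu
        · simpa using hu) with h | h
      · exact hv₀ (Submodule.span_singleton_eq_bot.mp h)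
      · have := finrank_span_singleton (K := F) hv₀
        rw [h, finrank_top] at this
        omega
    rw [hdim] at hi
    obtain ⟨k, hk⟩ := hdvd
    have hk1 : k = 1 := by
      rcases k with _ | _ | k
      · omega
      · rfl
      · exfalso; nlinarith
    subst hk1
    have heven : Even n := ⟨i, by omega⟩
    refine ⟨heven, ?_⟩
    rw [show n / 2 = i by omega, ← IsCyclic.exponent_eq_card]
    refine Monoid.exponent_dvd_of_forall_pow_eq_one fun g => hfinj ?_
    rw [map_pow, map_one, pow_succ, ← hfrob, hσi, hσf, ← map_mul, inv_mul_cancel, map_one]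
  · rintro ⟨heven, hdiv⟩
    set m := n / 2 with hm
    let σ : R →ₐ[F] R := FiniteField.frobeniusAlgHom F R ^ m
    have hσf : ∀ g, σ (f g) = f g⁻¹ := fun g => by
      show (FiniteField.frobeniusAlgHom F R ^ m) (f g) = _
      rw [hfrob, ← map_pow]
      congr 1
      refine eq_inv_of_mul_eq_one_left ?_
      rw [← pow_succ]
      exact orderOf_dvd_iff_pow_eq_one.mp ((orderOf_dvd_natCard g).trans hdiv)
    let e := (LinearEquiv.ofBijective ev hev).symm
    have he : ∀ g u, e (ρ g u) = f g * e u := fun g u => by
      rw [LinearEquiv.symm_apply_eq]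
      show ρ g u = ρ g ((e u : Module.End F V) v₀)
      exact congrArg (ρ g) ((LinearEquiv.ofBijective ev hev).apply_symm_apply u).symm
    obtain ⟨φ, hφ⟩ : ∃ φ : R →ₗ[F] F, φ 1 ≠ 0 := by
      by_contra hcon
      push Not at hcon
      exact one_ne_zero ((Module.forall_dual_apply_eq_zero_iff F (1 : R)).mp hcon)
    let B : LinearMap.BilinForm F V :=
      LinearMap.mk₂ F (fun u w => φ (e u * σ (e w)))
        (fun a b c => by rw [map_add, add_mul, map_add])
        (fun r a c => by rw [map_smul, smul_mul_assoc, map_smul])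
        (fun a b c => by rw [map_add, map_add, mul_add, map_add])
        (fun r a c => by rw [map_smul, map_smul, mul_smul_comm, map_smul])
    have hBa : ∀ u w, B u w = φ (e u * σ (e w)) := fun u w => rfl
    have hσsurj : Function.Surjective σ := Finite.surjective_of_injective σ.toRingHom.injective
    have hnd : ∀ u : V, (∀ z : R, φ (e u * z) = 0) → u = 0 := by
      intro u h
      by_contra hu
      have hne : e u ≠ 0 := fun h0 => hu (e.map_eq_zero_iff.mp h0)
      have := h (e u)⁻¹
      rw [mul_inv_cancel₀ hne] at this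
      exact hφ this
    refine ⟨B, ⟨fun u h => hnd u fun z => ?_, fun w h => ?_⟩, fun g x y => ?_⟩
    · obtain ⟨z', rfl⟩ := hσsurj z
      have := h (e.symm z')
      rwa [hBa, e.apply_symm_apply] at this
    · by_contra hw
      have hne : σ (e w) ≠ 0 := fun h0 => hw (e.map_eq_zero_iff.mp (σ.toRingHom.injective (h0.trans (map_zero _).symm)))
      have := h (e.symm (σ (e w))⁻¹)
      rw [hBa, e.apply_symm_apply, inv_mul_cancel₀ hne] at this
      exact hφ this
    · rw [hBa, hBa, he, he, map_mul σ, hσf, mul_mul_mul_comm, ← map_mul f, mul_inv_cancel, map_one f, one_mul]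
end Cfsg.Agent.S4967
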