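import Cfsg.Statements.S4978
import Cfsg.Agent.Lib.Blocks.SquareCongruence
import Cfsg.Agent.Lib.Blocks.BlockSaturation
import Cfsg.Agent.Lib.Blocks.CoreKernel
import Cfsg.Agent.Lib.Fusion.TransferControl

set_option autoImplicit false
open Cfsg
open scoped CfsgLib.Char

namespace Cfsg.Agent.S4978

open Classical in
/-- If `p` divides a sum of squares of units weighted by positive multiplicities then there are
at least two of them, and at least three when `-1` is not a square. -/
private theorem two_le_of_sum_sq {p : ℕ} (hp : p.Prime) {ι : Type*} (I : Finset ι) (c m : ι → ℕ)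
    (hc : ∀ j ∈ I, 0 < c j) (hm : ∀ j ∈ I, ¬ p ∣ m j) (hI : I.Nonempty)
    (h : p ∣ ∑ j ∈ I, c j * m j ^ 2) (hp3 : 3 < p) :
    2 ≤ ∑ j ∈ I, c j ∧ (p % 4 = 3 → 3 ≤ ∑ j ∈ I, c j) := by
  have hcard : I.card ≤ ∑ j ∈ I, c j := by
    rw [Finset.card_eq_sum_ones]
    exact Finset.sum_le_sum fun j hj => hc j hj
  have hpos : 1 ≤ I.card := hI.card_pos
  have hone : I.card = 1 → p ≤ ∑ j ∈ I, c j := fun h1 => by
    obtain ⟨j, rfl⟩ := Finset.card_eq_one.mp h1
    rw [Finset.sum_singleton] at h ⊢
    exact Nat.le_of_dvd (hc j (by simp)) ((hp.dvd_mul.mp h).resolve_right fun h2 =>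
      hm j (by simp) (hp.dvd_of_dvd_pow h2))
  refine ⟨?_, fun h4 => ?_⟩
  · by_contra hlt
    have := hone (by omega)
    omega
  · by_contra hlt
    by_cases h1 : I.card = 1
    · have := hone h1
      omega
    obtain ⟨x, y, hxy, rfl⟩ := Finset.card_eq_two.mp (show I.card = 2 by omega)
    rw [Finset.sum_pair hxy] at h hlt
    have hx := hc x (by simp)
    have hy := hc y (by simp)
    rw [show c x = 1 by omega, show c y = 1 by omega, one_mul, one_mul] at h
    have : Fact p.Prime := ⟨hp⟩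
    refine ZMod.exists_sq_eq_neg_one_iff.mp ⟨(m x : ZMod p) / (m y : ZMod p), ?_⟩ h4
    have hy0 : (m y : ZMod p) ≠ 0 := fun h0 =>
      hm y (by simp) ((ZMod.natCast_eq_zero_iff _ _).mp h0)
    have h0 : ((m x ^ 2 + m y ^ 2 : ℕ) : ZMod p) = 0 := (ZMod.natCast_eq_zero_iff _ _).mpr h
    push_cast at h0
    field_simp
    linear_combination -h0

private theorem sq_cast_eq_one {p n : ℕ} (hp : p = 2 ∨ p = 3) (hn : ¬ p ∣ n) :
    ((n ^ 2 : ℕ) : ZMod p) = 1 := by
  rcases hp with rfl | rfl
  · rw [show (1 : ZMod 2) = ((1 : ℕ) : ZMod 2) by simp, ZMod.natCast_eq_natCast_iff']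
    have : n % 2 = 1 := by omega
    rw [pow_two, Nat.mul_mod, this]
  · rw [show (1 : ZMod 3) = ((1 : ℕ) : ZMod 3) by simp, ZMod.natCast_eq_natCast_iff']
    have : n % 3 = 1 ∨ n % 3 = 2 := by omega
    rcases this with h | h <;> rw [pow_two, Nat.mul_mod, h]

private theorem prime_two_of_card {H : Type*} [Group H] [Finite H] {p : ℕ} (hp : p.Prime)
    (hc : Nat.card H = p) (hAut : IsPGroup p (MulAut H)) : p = 2 := by
  have : Fact p.Prime := ⟨hp⟩
  have : IsCyclic H := isCyclic_of_prime_card hc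
  obtain ⟨k, hk⟩ := IsPGroup.iff_card.mp hAut
  rw [IsCyclic.card_mulAut, hc, Nat.totient_prime hp] at hk
  rcases Nat.eq_zero_or_pos k with rfl | hkpos
  · rw [pow_zero] at hk
    omega
  · have hle := Nat.le_of_dvd (by rw [hk]; exact pow_pos hp.pos k)
      (hk ▸ dvd_pow_self p hkpos.ne' : p ∣ p - 1)
    have := hp.two_le
    omega

/-- Let p be a prime and B a p-block of the finite group G (relative to a maximal ideal M of the algebraic integers containing p) with a nontrivial defect group D whose automorphism group is a p-group (for a p-group D this is the same as its outer automorphism group being a p-group). Then the number of irreducible characters of height zero in B is divisible by p; if p > 3 this number is at least 2p, and if moreover p ≡ 3 (mod 4) it is at least 3p. -/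
theorem result {G : Type*} [Group G] [Finite G] (p : ℕ) [Fact p.Prime] (M : Ideal Cfsg.AlgInt) (hM : Cfsg.IsPModular p M) (B : Set (Cfsg.IrrCharacter G)) (hB : Cfsg.IsPBlock M B) (D : Subgroup G) (hD : Cfsg.IsDefectGroup p M B D) (hD1 : D ≠ ⊥) (hAut : IsPGroup p (MulAut ↥D)) : p ∣ Nat.card {χ : Cfsg.IrrCharacter G // χ ∈ B ∧ Cfsg.blockHeight p B (χ : G → ℂ) = 0} ∧ (3 < p → 2 * p ≤ Nat.card {χ : Cfsg.IrrCharacter G // χ ∈ B ∧ Cfsg.blockHeight p B (χ : G → ℂ) = 0}) ∧ (3 < p → p % 4 = 3 → 3 * p ≤ Nat.card {χ : Cfsg.IrrCharacter G // χ ∈ B ∧ Cfsg.blockHeight p B (χ : G → ℂ) = 0}) := by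
  classical
  have := Fintype.ofFinite G
  have := CfsgLib.Blocks.isPrime_of_isPModular hM
  have hp : p.Prime := Fact.out
  have hcard := CfsgLib.Blocks.IsDefectGroup.card_eq hM hB hD
  set d := Cfsg.blockDefect p B with hd
  set k := (Nat.card G).factorization p - d
  have hd1 : 1 ≤ d := by
    by_contra h
    refine hD1 (Subgroup.eq_bot_of_card_eq _ ?_)
    rw [hcard, show d = 0 by omega, pow_zero]
  set T := Finset.univ.filter
    (fun χ : Cfsg.IrrCharacter G => χ ∈ B ∧ Cfsg.blockHeight p B (χ : G → ℂ) = 0) with hT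
  have hk0 : Nat.card {χ : Cfsg.IrrCharacter G //
      χ ∈ B ∧ Cfsg.blockHeight p B (χ : G → ℂ) = 0} = T.card := by
    rw [Nat.card_eq_fintype_card, Fintype.card_subtype]
  set u : Cfsg.IrrCharacter G → ℕ := fun χ => Cfsg.charDegree (χ : G → ℂ) / p ^ k
  have hu : ∀ χ ∈ T, ¬ p ∣ u χ := fun χ hχ =>
    CfsgLib.Blocks.not_dvd_height_zero_reduced hM hB (Finset.mem_filter.mp hχ).2.1
      (Finset.mem_filter.mp hχ).2.2
  rw [hk0]
  have hmain : 5 ≤ p → p ∣ T.card ∧ 2 * p ≤ T.card ∧ (p % 4 = 3 → 3 * p ≤ T.card) := by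
    intro h5
    have hd2 : 2 ≤ d := by
      by_contra h
      have := prime_two_of_card (H := D) hp
        (by rw [hcard, show d = 1 by omega, pow_one]) hAut
      omega
    obtain ⟨e, he⟩ := CfsgLib.Blocks.exists_pair_of_defectGroup hM hB hD
    have hmax := CfsgLib.Blocks.isMaximalBrauerPair_of_defectGroup hM hD he
    have hF := CfsgLib.Blocks.isBlockFusionSystemOn_blockFusion hM hmax
    set F := CfsgLib.Blocks.blockFusion hM hmax.1.1
    have hDp := CfsgLib.Blocks.IsDefectGroup.isPGroup hM hD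
    have hlt := CfsgLib.Fusion.focal_lt_of_autGroup h5 hDp
      (CfsgLib.Blocks.isSaturated_block hM hF) hD1 (hAut.to_subgroup _)
    have hidx : p ∣ (F.focalSubgroup.subgroupOf D).index := by
      obtain ⟨j, hj⟩ := hDp.index (F.focalSubgroup.subgroupOf D)
      rw [hj]
      refine dvd_pow_self p fun h0 => ?_
      rw [h0, pow_zero, Subgroup.index_eq_one, Subgroup.subgroupOf_eq_top] at hj
      exact absurd hlt (not_lt_of_ge hj)
    have hfib : ∀ n ∈ T.image u, p ∣ (T.filter fun χ => u χ = n).card := by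
      intro n _
      have h := hidx.trans
        (CfsgLib.Blocks.focal_index_dvd_card_height_zero_degree hM hF (n * p ^ k))
      rw [Nat.card_eq_fintype_card, Fintype.card_subtype] at h
      refine h.trans (dvd_of_eq (congrArg Finset.card (Finset.ext fun χ => ?_)))
      simp only [hT, Finset.mem_filter, Finset.mem_univ, true_and]
      refine (and_congr_right fun hχ => ?_)
      have hdvd : p ^ k ∣ Cfsg.charDegree (χ : G → ℂ) := by
        have h2 := (CfsgLib.Blocks.blockHeight_eq_zero_iff hM hB hχ.1).mp hχ.2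
        have h3 := Nat.ordProj_dvd (Cfsg.charDegree (χ : G → ℂ)) p
        rwa [h2] at h3
      exact (Nat.div_eq_iff_eq_mul_left (pow_pos hp.pos k) hdvd).symm
    have hcardT : T.card = ∑ n ∈ T.image u, (T.filter fun χ => u χ = n).card :=
      Finset.card_eq_sum_card_image u T
    have hsq : p ^ 2 ∣ ∑ χ ∈ T, u χ ^ 2 :=
      CfsgLib.Blocks.pow_dvd_sum_height_zero_sq hM hB hd2 le_rfl
    set c : ℕ → ℕ := fun n => (T.filter fun χ => u χ = n).card / p
    have hc : ∀ n ∈ T.image u, (T.filter fun χ => u χ = n).card = p * c n := fun n hn =>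
      (Nat.mul_div_cancel' (hfib n hn)).symm
    rw [← Finset.sum_fiberwise_of_maps_to' (g := u) (t := T.image u)
      (fun χ hχ => Finset.mem_image_of_mem u hχ) (fun n => n ^ 2)] at hsq
    rw [Finset.sum_congr rfl (g := fun n => p * (c n * n ^ 2)) (fun n hn => by
      rw [Finset.sum_const, smul_eq_mul, hc n hn, mul_assoc]), ← Finset.mul_sum, pow_two] at hsq
    have hcT : T.card = p * ∑ n ∈ T.image u, c n := by
      rw [hcardT, Finset.mul_sum]
      exact Finset.sum_congr rfl hc
    obtain ⟨χ₀, hχ₀, h00⟩ := CfsgLib.Blocks.exists_blockHeight_eq_zero hM hB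
    have h2 := two_le_of_sum_sq hp (T.image u) c id (fun n hn => by
        have hne : (T.filter fun χ => u χ = n).Nonempty := by
          obtain ⟨χ, hχ, rfl⟩ := Finset.mem_image.mp hn
          exact ⟨χ, Finset.mem_filter.mpr ⟨hχ, rfl⟩⟩
        rcases Nat.eq_zero_or_pos (c n) with h0 | h0
        · have := hne.card_pos
          rw [hc n hn, h0, mul_zero] at this
          omega
        · exact h0)
      (fun n hn => by
        obtain ⟨χ, hχ, rfl⟩ := Finset.mem_image.mp hn
        exact hu χ hχ)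
      ⟨u χ₀, Finset.mem_image_of_mem u (Finset.mem_filter.mpr ⟨Finset.mem_univ _, hχ₀, h00⟩)⟩
      (Nat.dvd_of_mul_dvd_mul_left hp.pos hsq) (by omega)
    exact ⟨⟨_, hcT⟩, by rw [hcT, mul_comm 2]; exact Nat.mul_le_mul_left p h2.1,
      fun h4 => by rw [hcT, mul_comm 3]; exact Nat.mul_le_mul_left p (h2.2 h4)⟩
  rcases Nat.lt_or_ge p 5 with h5 | h5
  · have h23 : p = 2 ∨ p = 3 := by
      have := hp.two_le
      interval_cases p <;> simp_all (config := { decide := true })
    refine ⟨?_, fun h => by omega, fun h => by omega⟩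
    have hsq : p ^ 1 ∣ ∑ χ ∈ T, u χ ^ 2 :=
      CfsgLib.Blocks.pow_dvd_sum_height_zero_sq hM hB hd1 (by norm_num)
    rw [pow_one, ← ZMod.natCast_eq_zero_iff, Nat.cast_sum,
      Finset.sum_congr rfl fun χ hχ => sq_cast_eq_one h23 (hu χ hχ)] at hsq
    exact (ZMod.natCast_eq_zero_iff _ _).mp (by simpa using hsq)
  · obtain ⟨h1, h2, h3⟩ := hmain h5
    exact ⟨h1, fun _ => h2, fun _ => h3⟩

end Cfsg.Agent.S4978
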