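import Cfsg.Statements.S4989
import Cfsg.Agent.Lib.Char.Convolution
import Cfsg.Agent.Lib.Char.MeanValue
import Cfsg.Agent.Lib.Char.Virtual
import Mathlib.RingTheory.Polynomial.Cyclotomic.Eval
import Mathlib.RingTheory.Polynomial.Cyclotomic.Roots

set_option autoImplicit false
open Cfsg

namespace Cfsg.Agent.S4989

open CfsgLib.Char
open scoped CfsgLib.Char

/-- Let H be a subgroup of the finite group G and χ an irreducible complex character of G. Then the inner product of the restriction of χ to H with itself, (1/#H)·Σ_{h ∈ H} |χ(h)|², is at most 1 + #(Z ∖ H)/#H, where Z is the set of zeros of χ in G. -/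
theorem result {G : Type*} [Group G] [Finite G] (H : Subgroup G) (χ : Cfsg.IrrCharacter G) : (Nat.card ↥H : ℝ)⁻¹ * ∑ᶠ h : ↥H, ‖(χ : G → ℂ) h‖ ^ 2 ≤ 1 + (Set.ncard ({x : G | (χ : G → ℂ) x = 0} \ (H : Set G)) : ℝ) / (Nat.card ↥H : ℝ) := by
  classical
  have : Fintype G := Fintype.ofFinite G
  rw [finsum_eq_sum_of_fintype]
  set T := Finset.univ.filter fun a : G => a ∉ H with hT
  have hclosed : ∀ a b, Subgroup.zpowers a = Subgroup.zpowers b → a ∈ T → b ∈ T := by
    intro a b h ha
    simp only [hT, Finset.mem_filter, Finset.mem_univ, true_and] at ha ⊢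
    exact fun hb => ha ((Subgroup.zpowers_le.mpr hb) (h ▸ Subgroup.mem_zpowers a))
  have hb := card_support_le_sum_normSq (isCharacter_of_isIrr χ.2) T hclosed
  have htot : ∑ a : G, Complex.normSq ((χ : G → ℂ) a) = (Nat.card G : ℝ) := by
    have h1 := classInner_irr_self χ.2
    unfold Cfsg.classInner at h1
    rw [inv_mul_eq_one₀ (Nat.cast_ne_zero.mpr Nat.card_pos.ne')] at h1
    simp only [Complex.mul_conj] at h1
    exact_mod_cast h1.symm
  rw [← Finset.sum_filter_add_sum_filter_not Finset.univ (fun a : G => a ∉ H)] at htot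
  have hHsum : ∑ a ∈ Finset.univ.filter (fun a : G => ¬ a ∉ H), Complex.normSq ((χ : G → ℂ) a) =
      ∑ h : ↥H, ‖(χ : G → ℂ) h‖ ^ 2 := by
    rw [Finset.sum_subtype (Finset.univ.filter fun a : G => ¬ a ∉ H) (p := fun a => a ∈ H) (by simp)]
    exact Finset.sum_congr rfl fun a _ => Complex.normSq_eq_norm_sq _
  have hcards := Finset.card_filter_add_card_filter_not (s := (Finset.univ : Finset G)) (fun a : G => a ∉ H)
  have hHc : (Finset.univ.filter fun a : G => ¬ a ∉ H).card = Nat.card H := by
    rw [Nat.card_eq_fintype_card, ← Fintype.card_subtype]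
    exact Fintype.card_congr (Equiv.subtypeEquivRight fun a => not_not)
  have hTsplit := Finset.card_filter_add_card_filter_not (s := T) (fun a => (χ : G → ℂ) a ≠ 0)
  have hZ : Set.ncard ({x : G | (χ : G → ℂ) x = 0} \ (H : Set G)) =
      (T.filter fun a => ¬ (χ : G → ℂ) a ≠ 0).card := by
    rw [← Set.ncard_coe_finset]
    congr 1
    ext a
    simp [hT, and_comm]
  rw [Finset.card_univ, ← Nat.card_eq_fintype_card, hHc] at hcards
  have hpos : (0 : ℝ) < Nat.card H := Nat.cast_pos.mpr Nat.card_pos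
  rw [hHsum] at htot
  rw [hZ, inv_mul_le_iff₀ hpos, mul_add, mul_one, mul_div_cancel₀ _ hpos.ne']
  have hTc : T.card + Nat.card H = Nat.card G := hcards
  have e : ((T.filter fun a => (χ : G → ℂ) a ≠ 0).card : ℝ) + (T.filter fun a => ¬ (χ : G → ℂ) a ≠ 0).card + Nat.card H = Nat.card G := by
    exact_mod_cast (by omega : (T.filter fun a => (χ : G → ℂ) a ≠ 0).card + (T.filter fun a => ¬ (χ : G → ℂ) a ≠ 0).card + Nat.card H = Nat.card G)
  linarith

end Cfsg.Agent.S4989
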