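import Cfsg.Agent.Lib.Blocks.PPrimePCoreSetting
import Cfsg.Agent.Lib.Blocks.FongReynoldsDefect
import Cfsg.Agent.Lib.Layer.PComponent
import Cfsg.Agent.Lib.Transfer.AlperinGoldschmidt
import Cfsg.Agent.S0914
import Cfsg.Agent.Lib.KR.OverCount
import Cfsg.Agent.Lib.KR.Core
-- import your own Cfsg.Agent.* helpers here

set_option autoImplicit false
open Cfsg

namespace Cfsg.Agent.S4990

open Cfsg
open CfsgLib CfsgLib.Blocks
open scoped CfsgLib.Char

universe u

/-- The invariant case. -/
theorem bound_invariant {G : Type u} [Group G] [Fintype G] {p : ℕ} [hp : Fact p.Prime]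
    {M : Ideal AlgInt} (hM : IsPModular p M) (hsolv : Group.IsSolvable G) (N : Subgroup G) [N.Normal]
    [Fintype N] (hNdef : N = pPrimeCore p G) {θ : IrrCharacter N}
    (hinv : ∀ g : G, Char.conjBy N (θ : N → ℂ) g = θ) {B : Set (IrrCharacter G)} (hB : IsPBlock M B)
    {χ : IrrCharacter G} (hχ : χ ∈ B) (hχθ : χ ∈ overSet N θ) :
    B.ncard ≤ 3 ^ (blockDefect p B - 1) * p ^ blockDefect p B := by
  classical
  subst hNdef
  have := isPrime_of_isPModular hM
  have hK := pPrimeCore_not_dvd (G := G) p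
  have hcon := PSolvable.isPConstrained_of_isPSolvable (PSolvable.isPSolvable_of_isSolvable (p := p) hsolv)
  let Q₀ : Sylow p (pPrimePCore p G) := default
  haveI := pPrimePCore_normal (G := G) p
  haveI := Transfer.pPrimeCore_normal p G
  have hb := isPBlock_overSet hinv hM hK (pPrimeCore_le_pPrimePCore p)
    (fun x hx => pow_mem_pPrimeCore p hx) (Q₀.2.map (pPrimePCore p G).subtype)
    (Subgroup.map_subtype_le _) (hcon Q₀)
  obtain rfl : B = overSet (pPrimeCore p G) θ := IsPBlock.eq_of_mem_of_mem hB hb hχ hχθ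
  let S : Sylow p G := default
  have hS := (isDefectGroup_overSet_iff hinv hM hK (pPrimeCore_le_pPrimePCore p)
    (fun x hx => pow_mem_pPrimeCore p hx) (Q₀.2.map (pPrimePCore p G).subtype)
    (Subgroup.map_subtype_le _) (hcon Q₀) (S : Subgroup G)).mpr ⟨S, rfl⟩
  have hcard := IsDefectGroup.card_eq hM hB hS
  rw [S.card_eq_multiplicity] at hcard
  have hd : (Nat.card G).factorization p = blockDefect p (overSet (pPrimeCore p G) θ) :=
    Nat.pow_right_injective hp.out.two_le hcard
  have hq : (Nat.card (G ⧸ pPrimeCore p G)).factorization p =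
      blockDefect p (overSet (pPrimeCore p G) θ) := by
    rw [← hd, Subgroup.card_eq_card_quotient_mul_card_subgroup (pPrimeCore p G),
      Nat.factorization_mul Nat.card_pos.ne' Nat.card_pos.ne', Finsupp.add_apply,
      Nat.factorization_eq_zero_of_not_dvd hK, add_zero]
  have hX : Group.IsSolvable (G ⧸ pPrimeCore p G) :=
    haveI := hsolv
    Group.isSolvable_of_surjective (f := QuotientGroup.mk' _) (QuotientGroup.mk'_surjective _)
  exact (KR.ncard_overSet_le _ hinv).trans
    (KR.kc_le_core hX p (Layer.pPrimeCore_quotient_eq_bot p) hq)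

theorem aux : ∀ (n : ℕ) (G : Type u) [Group G] [Fintype G], Nat.card G = n → ∀ (p : ℕ) [Fact p.Prime]
    (M : Ideal AlgInt), IsPModular p M → Group.IsSolvable G → ∀ (B : Set (IrrCharacter G)),
    IsPBlock M B → B.ncard ≤ 3 ^ (blockDefect p B - 1) * p ^ blockDefect p B := by
  intro n
  induction n using Nat.strong_induction_on with
  | _ n ih =>
  intro G _ _ hn p _ M hM hsolv B hB
  classical
  have := isPrime_of_isPModular hM
  haveI := Transfer.pPrimeCore_normal p G
  have := Fintype.ofFinite (pPrimeCore p G)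
  obtain ⟨χ, hχ⟩ := IsPBlock.nonempty hB
  obtain ⟨θ, hθ⟩ := Char.exists_constituent (pPrimeCore p G) (Char.isCharacter_of_isIrr χ.2)
    (Char.irr_degree_ne_zero χ.2)
  by_cases hinv : ∀ g : G, Char.conjBy (pPrimeCore p G) (θ : pPrimeCore p G → ℂ) g = θ
  · exact bound_invariant hM hsolv _ rfl hinv hB hχ hθ
  obtain ⟨T, hTdef⟩ : ∃ T : Subgroup G,
      T = Char.inertia (pPrimeCore p G) (θ : pPrimeCore p G → ℂ) := ⟨_, rfl⟩
  have := Fintype.ofFinite T
  have hb : IsPBlock M ({θ} : Set (IrrCharacter (pPrimeCore p G))) := by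
    have h : blockOf M (θ : pPrimeCore p G → ℂ) = {θ} :=
      (Cfsg.Agent.S0914.result p M hM θ).mp fun h => by
        obtain ⟨d, hd, -, hdvd⟩ := Char.exists_degree_dvd_card θ.2
        exact pPrimeCore_not_dvd (G := G) p (h.trans (Nat.div_dvd_of_dvd (by
          rw [show charDegree (θ : pPrimeCore p G → ℂ) = d by simp [charDegree, hd]]; exact hdvd)))
    exact h ▸ isPBlock_blockOf θ
  have hT : ∀ g : G, g ∈ T ↔ ∀ θ₀ ∈ ({θ} : Set (IrrCharacter (pPrimeCore p G))),
      ∀ θ' : IrrCharacter (pPrimeCore p G), (∀ n : pPrimeCore p G, (θ' : pPrimeCore p G → ℂ) n =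
        (θ₀ : pPrimeCore p G → ℂ) ⟨g * n * g⁻¹, (inferInstance : (pPrimeCore p G).Normal).conj_mem n n.2 g⟩) →
      θ' ∈ ({θ} : Set (IrrCharacter (pPrimeCore p G))) := by
    intro g
    rw [hTdef, Char.mem_inertia]
    simp only [Set.mem_singleton_iff, forall_eq]
    constructor
    · intro h θ' h'
      exact Subtype.ext (funext fun n => (h' n).trans (congrFun h n))
    · intro h
      have := h ⟨_, Char.isIrrCharacter_conjBy _ θ.2 g⟩ fun n => rfl
      exact congrArg Subtype.val this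
  have hNT : pPrimeCore p G ≤ T := hTdef ▸ Char.le_inertia _ (irr_classFunction θ)
  obtain ⟨ψ, hψ, hψe⟩ := exists_indFun_eq hNT hb hT (Set.mem_singleton θ) hθ
  have hirr : ∀ ψ' ∈ blockOf M (ψ : T → ℂ), IsIrrCharacter G (indFun T (ψ' : T → ℂ)) := fun ψ' hψ' =>
    isIrr_indFun hNT hb hT (isOver_of_sameBlock hNT hb hT hψ (mem_blockOf_iff.mp hψ'))
  have hu : B = blockOf M (indFun T (ψ : T → ℂ)) := by
    rw [← hψe]; exact IsPBlock.eq_blockOf hB hχ
  have hmem : ∀ χ' : IrrCharacter G, χ' ∈ B ↔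
      ∃ ψ' ∈ blockOf M (ψ : T → ℂ), (χ' : G → ℂ) = indFun T (ψ' : T → ℂ) :=
    fun χ' => by rw [hu, mem_blockOf_indFun_iff hNT hb hT hM hψ χ']
  have hlt : Nat.card T < n := by
    rw [← hn, ← T.card_mul_index]
    refine lt_mul_of_one_lt_right Nat.card_pos (Subgroup.one_lt_index_of_ne_top fun h => hinv ?_)
    intro g
    exact Char.mem_inertia _ |>.mp (hTdef ▸ (h ▸ Subgroup.mem_top g : g ∈ T))
  haveI := hsolv
  have h1 := ih _ hlt T rfl p M hM inferInstance _ (isPBlock_blockOf ψ)
  rw [blockDefect_indFun_block hM (isPBlock_blockOf ψ) hmem hirr]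
  refine le_trans ?_ h1
  haveI : Finite (IrrCharacter T) := Char.finite_irrCharacter
  choose f hf hfe using fun χ' hχ' => (hmem χ').mp hχ'
  refine Set.ncard_le_ncard_of_injOn (fun χ' => if h : χ' ∈ B then f χ' h else ψ) (fun χ' hχ' => ?_)
    (fun χ₁ h₁ χ₂ h₂ e => ?_) (Set.toFinite _)
  · simp only [dif_pos hχ']
    exact hf χ' hχ'
  · simp only [dif_pos h₁, dif_pos h₂] at e
    exact Subtype.ext ((hfe χ₁ h₁).trans ((congrArg (fun ψ' : IrrCharacter T => Cfsg.indFun T (ψ' : T → ℂ)) e).trans (hfe χ₂ h₂).symm))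

/-- Let G be a finite solvable group, p a prime, M a maximal ideal of the algebraic integers containing p, and B a p-block of G of positive defect d. Then B contains at most 3^{d−1}·p^d irreducible complex characters. -/
theorem result {G : Type*} [Group G] [Finite G] (hsolv : Group.IsSolvable G) (p : ℕ) [Fact p.Prime] (M : Ideal Cfsg.AlgInt) (hM : Cfsg.IsPModular p M) (B : Set (Cfsg.IrrCharacter G)) (hB : Cfsg.IsPBlock M B) (hd : 0 < Cfsg.blockDefect p B) : Set.ncard B ≤ 3 ^ (Cfsg.blockDefect p B - 1) * p ^ Cfsg.blockDefect p B := by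
  classical
  have := Fintype.ofFinite G
  exact aux (Nat.card G) G rfl p M hM hsolv B hB

end Cfsg.Agent.S4990
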