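import Cfsg.Statements.S4996
import Cfsg.Agent.Lib.Char.Convolution
import Cfsg.Agent.Lib.Char.MeanValue
import Cfsg.Agent.Lib.Char.Virtual
import Mathlib.RingTheory.Polynomial.Cyclotomic.Eval
import Mathlib.RingTheory.Polynomial.Cyclotomic.Roots

set_option autoImplicit false
open Cfsg

namespace Cfsg.Agent.S4996

open CfsgLib.Char
open scoped CfsgLib.Char

/-- Let N be a normal subgroup of the finite group G and χ an irreducible complex character of G. Then the restriction of χ to N is not irreducible if and only if χ vanishes on some whole coset Nx of N in G. -/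
theorem result {G : Type*} [Group G] [Finite G] (N : Subgroup G) [N.Normal] (χ : Cfsg.IrrCharacter G) : ¬ Cfsg.IsIrrCharacter ↥N (fun n : ↥N => (χ : G → ℂ) n) ↔ ∃ x : G, ∀ n : ↥N, (χ : G → ℂ) ((n : G) * x) = 0 := by
  classical
  have : Fintype G := Fintype.ofFinite G
  have hχc := isCharacter_of_isIrr χ.2
  set F := avgN N (fun g => (Complex.normSq ((χ : G → ℂ) g) : ℂ)) with hF
  have hFc : Cfsg.IsCharacter G F := isCharacter_avgN N (normSq_character hχc)
  have hN0 : (Nat.card N : ℂ) ≠ 0 := Nat.cast_ne_zero.mpr Nat.card_pos.ne'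
  let r : G → ℝ := fun g => (Nat.card N : ℝ)⁻¹ * ∑ n : ↥N, Complex.normSq ((χ : G → ℂ) ((n : G) * g))
  have hFr : ∀ g, F g = (r g : ℂ) := fun g => by simp [hF, r, avgN]
  have hr0 : ∀ g, 0 ≤ r g := fun g =>
    mul_nonneg (inv_nonneg.mpr (Nat.cast_nonneg _)) (Finset.sum_nonneg fun _ _ => Complex.normSq_nonneg _)
  have hzero : ∀ g, F g = 0 ↔ ∀ n : ↥N, (χ : G → ℂ) ((n : G) * g) = 0 := by
    intro g
    rw [hFr, Complex.ofReal_eq_zero, mul_eq_zero, or_iff_right
      (inv_ne_zero (Nat.cast_ne_zero.mpr Nat.card_pos.ne')),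
      Finset.sum_eq_zero_iff_of_nonneg fun _ _ => Complex.normSq_nonneg _]
    simp [Complex.normSq_eq_zero]
  have hres := isCharacter_restrict N hχc
  obtain ⟨m, hm⟩ := exists_nat_classInner hres hres
  have hF1 : F 1 = (m : ℂ) := by
    rw [← hm, hF, avgN, Cfsg.classInner]
    simp [Complex.mul_conj]
  have hone : Cfsg.classInner F (fun _ => (1 : ℂ)) = 1 := by
    rw [hF, classInner_avgN]
    have : avgN N (fun _ : G => (1 : ℂ)) = fun _ => 1 := by
      funext g; simp [avgN, ← Nat.card_eq_fintype_card, hN0]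
    rw [this]
    refine Eq.trans ?_ (classInner_irr_self χ.2)
    simp [Cfsg.classInner, Complex.mul_conj]
  have hirr_iff : Cfsg.IsIrrCharacter N (fun n : ↥N => (χ : G → ℂ) n) ↔ m = 1 := by
    refine ⟨fun hi => ?_, fun h => isIrr_of_norm_one hres (by rw [hm, h, Nat.cast_one])⟩
    rw [classInner_irr_self hi] at hm
    exact_mod_cast hm.symm
  have hm0 : m ≠ 0 := by
    intro h
    have := congrFun (eq_zero_of_classInner_self (hm.trans (by rw [h, Nat.cast_zero]))) 1
    exact irr_degree_ne_zero χ.2 this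
  constructor
  · intro hni
    by_contra hcon
    push Not at hcon
    have hb := card_support_le_sum hFc (fun g => ⟨r g, hr0 g, hFr g⟩) Finset.univ (fun _ _ _ _ => Finset.mem_univ _)
    have hne : ∀ a : G, F a ≠ 0 := fun a h => by
      obtain ⟨n, hn⟩ := hcon a
      exact hn ((hzero a).mp h n)
    rw [Finset.filter_true_of_mem fun a _ => hne a, Finset.card_univ, ← Nat.card_eq_fintype_card] at hb
    have htot : ∑ a : G, (F a).re = (Nat.card G : ℝ) := by
      have h1 := hone
      simp only [Cfsg.classInner, map_one, mul_one] at h1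
      rw [inv_mul_eq_one₀ (Nat.cast_ne_zero.mpr Nat.card_pos.ne')] at h1
      rw [← Complex.re_sum, ← h1, Complex.natCast_re]
    have hm1 : 2 ≤ m := by
      have : m ≠ 1 := fun h => hni (hirr_iff.mpr h)
      omega
    -- restrict to the non-identity elements
    have hb2 := card_support_le_sum hFc (fun g => ⟨r g, hr0 g, hFr g⟩) (Finset.univ.erase 1) (fun a b h ha => by
      rw [Finset.mem_erase] at ha ⊢
      refine ⟨fun hb => ha.1 ?_, Finset.mem_univ _⟩
      subst hb
      rw [Subgroup.zpowers_one_eq_bot, Subgroup.zpowers_eq_bot] at h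
      exact h)
    rw [Finset.filter_true_of_mem fun a _ => hne a, Finset.card_erase_of_mem (Finset.mem_univ _),
      Finset.card_univ, ← Nat.card_eq_fintype_card] at hb2
    rw [← Finset.add_sum_erase _ _ (Finset.mem_univ (1 : G)), hF1, Complex.natCast_re] at htot
    have hm2 : (2 : ℝ) ≤ m := by exact_mod_cast hm1
    have hG1 : (((Nat.card G - 1 : ℕ) : ℝ)) = (Nat.card G : ℝ) - 1 := by
      rw [Nat.cast_sub Nat.card_pos, Nat.cast_one]
    rw [hG1] at hb2
    linarith
  · rintro ⟨x, hx⟩ hi
    have h1 : F 1 = 1 := by rw [hF1, hirr_iff.mp hi, Nat.cast_one]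
    have hFirr := isIrrCharacter_of_degree_one hFc h1
    have hFone : F = fun _ => 1 := by
      by_contra hne
      rw [classInner_irr_ne hFirr isIrrCharacter_one hne] at hone
      exact zero_ne_one hone
    have := (hzero x).mpr hx
    rw [hFone] at this
    exact one_ne_zero this

end Cfsg.Agent.S4996
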