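import Cfsg.Statements.S4997
import Cfsg.Agent.Lib.VanishSingular.Main

set_option autoImplicit false
open Cfsg

namespace Cfsg.Agent.S4997

/-- Let p be an odd prime and G a finite solvable group with exactly one conjugacy class consisting of vanishing elements (elements at which some irreducible complex character is zero) of order divisible by p. Let P be a Sylow p-subgroup of G. Then the order of P is at most p times the order of the largest normal p-subgroup of G. -/
theorem result {G : Type*} [Group G] [Finite G] (hsolv : Group.IsSolvable G) (p : ℕ) [Fact p.Prime] (hp : p ≠ 2) (h1 : Set.ncard {C : ConjClasses G | (∀ g ∈ C.carrier, ∃ χ : Cfsg.IrrCharacter G, (χ : G → ℂ) g = 0) ∧ ∃ g ∈ C.carrier, p ∣ orderOf g} = 1) (P : Sylow p G) : Nat.card ↥(P : Subgroup G) ≤ p * Nat.card ↥(Cfsg.pCore p G) := by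
  haveI := hsolv
  refine CfsgLib.VanishSingular.card_sylow_le (fun x y hx hy hpx hpy => ?_) P
  obtain ⟨C, hC⟩ := Set.ncard_eq_one.mp h1
  have key : ∀ z : G, CfsgLib.VanishSingular.Van z → p ∣ orderOf z → ConjClasses.mk z = C :=
    fun z hz hpz => hC.subset ⟨fun g hg => by
      obtain ⟨χ, hχ⟩ := hz
      obtain ⟨c, rfl⟩ := isConj_iff.mp (ConjClasses.mk_eq_mk_iff_isConj.mp
        (ConjClasses.mem_carrier_iff_mk_eq.mp hg).symm)
      exact ⟨χ, by rw [CfsgLib.Char.isClassFunction_irr χ z c]; exact hχ⟩,
      z, ConjClasses.mem_carrier_mk, hpz⟩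
  obtain ⟨c, rfl⟩ := isConj_iff.mp (ConjClasses.mk_eq_mk_iff_isConj.mp
    ((key x hx hpx).trans (key y hy hpy).symm))
  exact (orderOf_injective (MulAut.conj c).toMonoidHom (MulAut.conj c).injective x).symm

end Cfsg.Agent.S4997
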