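import Cfsg.Statements.S5001
import Cfsg.Agent.Lib.Blocks.HeightZero
import Cfsg.Agent.Lib.Char.GlaubermanCoset

set_option autoImplicit false
open Cfsg CfsgLib.Char CfsgLib.Blocks
open scoped CfsgLib.Char ComplexConjugate

namespace Cfsg.Agent.S5001


theorem central_mul {G : Type*} [Group G] [Finite G] {χ : G → ℂ} (hχ : IsIrrCharacter G χ) {z : G}
    (hz : z ∈ Subgroup.center G) (d : G) : χ (z * d) = χ z / χ 1 * χ d := by
  classical
  haveI := Fintype.ofFinite G
  obtain ⟨n, ρ, hρ, rfl⟩ := hχ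
  have h := classSum_eq_omega ρ z
  have hfil : Finset.univ.filter (fun x => IsConj x z) = {z} := by
    ext x
    simp only [Finset.mem_filter, Finset.mem_univ, true_and, Finset.mem_singleton]
    refine ⟨fun hx => ?_, fun hx => hx ▸ IsConj.refl z⟩
    obtain ⟨c, hc⟩ := isConj_iff.mp hx.symm
    rw [← hc, Subgroup.mem_center_iff.mp hz c, mul_assoc, mul_inv_cancel, mul_one]
  have hidx : (Subgroup.centralizer ({z} : Set G)).index = 1 := by
    rw [Subgroup.index_eq_one, eq_top_iff]
    intro c _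
    exact Subgroup.mem_centralizer_singleton_iff.mpr (Subgroup.mem_center_iff.mp hz c)
  rw [classSum, hfil, Finset.sum_singleton, CfsgLib.Char.omega, hidx, Nat.cast_one, one_mul] at h
  show LinearMap.trace ℂ _ (ρ (z * d)) = _
  rw [map_mul, h, Module.End.mul_eq_comp, LinearMap.smul_comp, LinearMap.id_comp, map_smul,
    smul_eq_mul]
  rfl

theorem classInner_inv_conj {D : Type*} [Group D] [Fintype D] (f ν : D → ℂ) (z : D) (c e : ℂ)
    (hf : ∀ d, f (z * d) = c * f d) (hν : ∀ d, ν (z * d) = e * ν d) :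
    classInner f ν = c * conj e * classInner f ν := by
  simp only [classInner, Finset.mul_sum]
  conv_lhs => rw [← Equiv.sum_comp (Equiv.mulLeft z)]
  refine Finset.sum_congr rfl fun d _ => ?_
  simp only [Equiv.coe_mulLeft, hf, hν, map_mul]
  ring

theorem exists_linear_constituent {G : Type*} [Group G] [Finite G] {p : ℕ} {M : Ideal AlgInt}
    (hM : IsPModular p M) (D : Subgroup G) [Fintype D] (hDp : IsPGroup p D) (g : G)
    (hDg : ∀ d ∈ D, d * g = g * d) {χ : G → ℂ} (hχ : IsCharacter G χ)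
    (hg : ¬ MemLocalIdeal M (χ g)) :
    ∃ μ : D →* ℂˣ, classInner (fun d : D => χ d) (fun d => (μ d : ℂ)) ≠ 0 := by
  classical
  have : Fact p.Prime := ⟨hM.1⟩
  haveI := Fintype.ofFinite G
  have := isPrime_of_isPModular hM
  obtain ⟨ω, hω⟩ : ∃ ω : ℂ, IsPrimitiveRoot ω (orderOf g) :=
    ⟨_, Complex.isPrimitiveRoot_exp _ (orderOf_pos g).ne'⟩
  have hωint : IsIntegral ℤ ω := hω.isIntegral (orderOf_pos g)
  set f : D → ℂ := fun c => χ ((c : G) * g ^ 1) with hf
  have hfc : IsClassFunction D f := fun a b => by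
    simp only [hf, pow_one, Subgroup.coe_mul, Subgroup.coe_inv]
    rw [show (b : G) * a * (b : G)⁻¹ * g = (b : G) * ((a : G) * g) * (b : G)⁻¹ by
      rw [mul_assoc _ ((b : G)⁻¹) g,
        show (b : G)⁻¹ * g = g * (b : G)⁻¹ from hDg _ (inv_mem b.2)]
      simp only [mul_assoc]]
    exact isClassFunction_of_isCharacter hχ _ _
  by_contra hcon
  apply hg
  have hexp := congrFun (classFunction_expansion hfc) 1
  rw [hf] at hexp
  simp only [OneMemClass.coe_one, one_mul, pow_one, Finset.sum_apply, Pi.smul_apply,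
    smul_eq_mul] at hexp
  rw [hexp]
  refine memLocalIdeal_sum _ _ fun ν _ => ?_
  obtain ⟨a, ha⟩ := Glauberman.exists_eigen_multiplicity hDg hχ (isCharacter_of_isIrr ν.2) hω
  have h1 : classInner (fun c : D => χ ((c : G) * g)) (ν : D → ℂ) =
      ∑ j, (a j : ℂ) * ω ^ (j : ℕ) := by
    have := ha 1
    simp only [pow_one] at this
    exact this
  have h0' : classInner (fun c : D => χ c) (ν : D → ℂ) = ((∑ j, a j : ℕ) : ℂ) := by
    have := ha 0
    simp only [pow_zero, mul_one, one_pow] at this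
    simpa using this
  rw [h1]
  by_cases hν : classInner (fun c : D => χ c) (ν : D → ℂ) = 0
  · rw [h0', Nat.cast_eq_zero, Finset.sum_eq_zero_iff] at hν
    rw [Finset.sum_eq_zero fun j _ => by rw [hν j (Finset.mem_univ j), Nat.cast_zero, zero_mul],
      zero_mul]
    exact memLocalIdeal_zero
  · refine memLocalIdeal_mul_left (memLocalRing_sum _ _ fun j _ => memLocalRing_mul
      (memLocalRing_natCast _) (memLocalRing_of_isIntegral (hωint.pow _))) ?_
    obtain ⟨n, hn, -, hdvd⟩ := exists_degree_dvd_card ν.2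
    rw [hn, memLocalIdeal_natCast_iff hM]
    obtain ⟨k, hk⟩ := IsPGroup.iff_card.mp hDp
    rw [hk] at hdvd
    obtain ⟨i, -, rfl⟩ := (Nat.dvd_prime_pow hM.1).mp hdvd
    refine dvd_pow_self p fun hi => hcon ⟨linearHom (isCharacter_of_isIrr ν.2)
      (by rw [hn, hi, pow_zero, Nat.cast_one]), ?_⟩
    simpa only [linearHom_apply] using hν

/-- Let p be a prime, G a finite group and B a p-block of G (relative to a maximal ideal M of the algebraic integers containing p) with defect group D. Let Z be a central p-subgroup of G contained in D and λ a linear character of Z (a homomorphism to the nonzero complex numbers). Say an irreducible character χ of G lies over λ when χ(z) = χ(1)λ(z) for all z ∈ Z. If some irreducible character in B lying over λ has height zero, then λ extends to a linear character of D. -/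
theorem result {G : Type*} [Group G] [Finite G] (p : ℕ) [Fact p.Prime] (M : Ideal Cfsg.AlgInt) (hM : Cfsg.IsPModular p M) (B : Set (Cfsg.IrrCharacter G)) (hB : Cfsg.IsPBlock M B) (D : Subgroup G) (hD : Cfsg.IsDefectGroup p M B D) (Z : Subgroup G) (hZc : Z ≤ Subgroup.center G) (hZp : IsPGroup p ↥Z) (hZD : Z ≤ D) (lam : ↥Z →* ℂˣ) (χ : Cfsg.IrrCharacter G) (hχ : χ ∈ B) (hover : (∀ z : ↥Z, (χ : G → ℂ) z = (χ : G → ℂ) 1 * (lam z : ℂ))) (h0 : Cfsg.blockHeight p B (χ : G → ℂ) = 0) : (∃ μ : ↥D →* ℂˣ, ∀ z : ↥Z, μ ⟨(z : G), hZD z.2⟩ = lam z) := by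
  classical
  haveI := Fintype.ofFinite D
  haveI := Fintype.ofFinite G
  obtain ⟨g, hg, P, hP⟩ := hD
  have hDg : ∀ d ∈ D, d * g = g * d := by
    intro d hd
    rw [hP] at hd
    obtain ⟨⟨x, hx⟩, -, rfl⟩ := hd
    exact Subgroup.mem_centralizer_singleton_iff.mp hx
  have hDp : IsPGroup p D := hP ▸ P.isPGroup'.map _
  obtain ⟨μ, hμ⟩ := exists_linear_constituent hM D hDp g hDg (isCharacter_of_isIrr χ.2)
    (not_memLocalIdeal_value_of_height_zero hM hB hχ h0 hg)
  refine ⟨μ, fun z => Units.ext ?_⟩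
  set zD : D := ⟨(z : G), hZD z.2⟩
  have hfz : ∀ d : D, (χ : G → ℂ) ((zD * d : D) : G) = (lam z : ℂ) * (χ : G → ℂ) d := fun d => by
    rw [Subgroup.coe_mul, central_mul χ.2 (hZc z.2), hover z,
      mul_div_cancel_left₀ _ (irr_degree_ne_zero χ.2)]
  have hprod := classInner_inv_conj (fun d : D => (χ : G → ℂ) d) (fun d => (μ d : ℂ)) zD
    (lam z : ℂ) (μ zD : ℂ) hfz fun d => by simp
  have h1 : (lam z : ℂ) * conj (μ zD : ℂ) = 1 := mul_right_cancel₀ hμ (by rw [one_mul]; exact hprod.symm)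
  have h2 : conj (μ zD : ℂ) * (μ zD : ℂ) = 1 := by
    rw [Complex.conj_mul', Complex.norm_eq_one_of_pow_eq_one
      (n := orderOf zD) ?_ (orderOf_pos zD).ne']
    · simp
    · rw [← Units.val_pow_eq_pow_val, ← map_pow, pow_orderOf_eq_one, map_one, Units.val_one]
  linear_combination (lam z : ℂ) * h2 - (μ zD : ℂ) * h1


end Cfsg.Agent.S5001
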