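import Cfsg.Statements.S5005
import Cfsg.Agent.Lib.Golay.TwoBlockCount
import Cfsg.Agent.Lib.Char.SquareRoots

set_option autoImplicit false
open Cfsg
open CfsgLib.Golay CfsgLib.Golay.TwoBlock CfsgLib.Char.PrimeSection
open CfsgLib.Blocks.SingleBlock (Constrained)
open scoped Pointwise CfsgLib.Char

namespace Cfsg.Agent.S5005

theorem eq_fix : Cfsg.Spor.M22 = fixH Cfsg.M24 F22 := by
  ext h
  rw [mem_fix22_iff, show pt 23 = none from if_pos rfl, show pt 0 = some 0 from rfl]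
  exact and_assoc

noncomputable local instance instFintypeM22 : Fintype Cfsg.Spor.M22 := Fintype.ofFinite _

theorem natCard22 : Nat.card Cfsg.Spor.M22 = 443520 := by rw [eq_fix, natCard_fix22]

theorem le_M24 : Cfsg.Spor.M22 ≤ Cfsg.M24 := fun _ hg => (mem_fixH.1 (eq_fix ▸ hg)).1

theorem factorization_of {n p k m : ℕ} (hp : p.Prime) (h : n = p ^ k * m) (hm : ¬ p ∣ m) :
    n.factorization p = k := by
  rw [h, Nat.factorization_mul (pow_ne_zero _ hp.ne_zero) (fun h0 => hm (by rw [h0]; exact dvd_zero p)),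
    Finsupp.add_apply, Nat.factorization_eq_zero_of_not_dvd hm, Nat.factorization_pow]
  simp [hp.factorization_self]

theorem fact_two : (Nat.card Cfsg.Spor.M22).factorization 2 = 7 :=
  factorization_of Nat.prime_two (m := 3465) (by rw [natCard22]; norm_num) (by norm_num)

theorem constrained_all (u : Cfsg.Spor.M22) (hu : orderOf u = 2) :
    Constrained 2 (Subgroup.centralizer ({u} : Set Cfsg.Spor.M22)) := by
  have hu' : orderOf (u : Equiv.Perm Cfsg.GolayPt) = 2 := by rw [Subgroup.orderOf_coe, hu]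
  obtain ⟨-, h23, h0⟩ := mem_fix22_iff.1 (eq_fix ▸ u.2 : (u : Equiv.Perm Cfsg.GolayPt) ∈ fixH Cfsg.M24 F22)
  rcases Cfsg.Agent.S5394.result.1 _ (le_M24 u.2) hu' with ho | hfree
  · refine constrained_octad le_M24 u ho fun g hg => ?_
    obtain ⟨hgM, hgF⟩ := Subgroup.mem_inf.1 hg
    rw [mem_fixingSubgroup_iff] at hgF
    rw [eq_fix]
    exact mem_fix22_iff.2 ⟨hgM, hgF (pt 23) (by simpa using h23), hgF (pt 0) (by simpa using h0)⟩
  · exact absurd h23 (hfree _)

theorem sect_M22 {q Fy S N e : ℕ} [Fact q.Prime] (hq2 : q ≠ 2) {m : ℕ}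
    (hm : Nat.card Cfsg.Spor.M22 = q ^ 1 * m) (hm' : ¬ q ∣ m) (he : eltTest e q Fy = true)
    (he22 : fixes e F22 = true) (hSF : S &&& Fy = S) (hout : Fy &&& F22 ||| S = Fy)
    (hker : ∀ g ∈ fixH Cfsg.M24 Fy, g * toPerm e = toPerm e * g → g ∈ Subgroup.zpowers (toPerm e))
    (hN : normTest 443520 q (Nat.factorial (pop 24 S) * ((q - 1) * q)) (fun d => d == N) = true)
    (χ : Cfsg.IrrCharacter Cfsg.Spor.M22)
    (hvan : ∀ x : Cfsg.Spor.M22, 2 ∣ orderOf x → (χ : Cfsg.Spor.M22 → ℂ) x = 0)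
    {D : ℕ} (hD : (χ : Cfsg.Spor.M22 → ℂ) 1 = ((D : ℕ) : ℂ)) :
    (443520 : ℝ) * ((D % q * (q - D % q) : ℕ) : ℝ) ≤
      (N : ℝ) * ∑ g ∈ sect Cfsg.Spor.M22 q, Complex.normSq ((χ : Cfsg.Spor.M22 → ℂ) g) ∧
    ((N : ℝ) * ∑ g ∈ sect Cfsg.Spor.M22 q, Complex.normSq ((χ : Cfsg.Spor.M22 → ℂ) g) ≤
      (443520 : ℝ) * ((D % q * (q - D % q) : ℕ) : ℝ) → ∃ z : ℤ,
      (z = -((D % q : ℕ) : ℤ) ∨ z = (q : ℤ) - (D % q : ℕ)) ∧
      (N : ℂ) * ∑ g ∈ sect Cfsg.Spor.M22 q, (χ : Cfsg.Spor.M22 → ℂ) g = (443520 : ℂ) * z) := by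
  haveI : Fact (Nat.Prime 2) := ⟨Nat.prime_two⟩
  obtain ⟨hmem, hord, hfix⟩ := elt_facts he
  have hv : validP e = true := by
    simp only [eltTest, inM24, Bool.and_eq_true] at he
    exact he.1.1.1.1
  set y : Cfsg.Spor.M22 := ⟨toPerm e, eq_fix ▸ mem_fixH.2 ⟨hmem, fun p hp => fixes_apply hv he22 hp⟩⟩
  have hy : orderOf y = q := by rw [← Subgroup.orderOf_coe, hord]
  have hfac : (Nat.card Cfsg.Spor.M22).factorization q = 1 := factorization_of Fact.out hm hm'
  obtain ⟨h1, h2, h3, h4⟩ := normalizer_card le_M24 y (q := q) (Fy := Fy) (S := S) hy hfac hfix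
    (fun g hg p hp hnp => by
      refine (mem_fixH.1 (eq_fix ▸ hg)).2 p ?_
      rw [← hout] at hp
      rcases mem_dec_or.1 hp with h | h
      · rw [dec_and, Finset.mem_inter] at h
        exact h.2
      · exact absurd h hnp)
    (by rw [← hSF, dec_and]; exact Finset.inter_subset_right) hker
  rw [← pop_eq_card] at h1
  rw [natCard22] at h2 h4
  have hd := of_normTest hN (Nat.mul_ne_zero (Nat.factorial_ne_zero _)
    (Nat.mul_ne_zero (Nat.sub_ne_zero_of_lt (Fact.out : q.Prime).one_lt)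
      (Fact.out : q.Prime).ne_zero)) h1 h2 h3 h4
  rw [beq_iff_eq] at hd
  have hb := main_bound χ.2 hvan hq2 hfac hy (⊥ : Subgroup Cfsg.Spor.M22) IsPGroup.of_bot
    (fun t ht => by rw [Subgroup.mem_bot.1 ht]; exact Commute.one_left y) (D := D)
    (by rw [Subgroup.card_bot, one_mul, hD])
  simp only [Subgroup.card_bot, one_pow, one_mul, hd, natCard22, Nat.cast_ofNat, Nat.cast_one] at hb
  exact hb

theorem no_full (θ : Cfsg.IrrCharacter Cfsg.Spor.M22)
    (hθ : 2 ^ 7 ∣ Cfsg.charDegree (θ : Cfsg.Spor.M22 → ℂ)) : False := by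
  obtain ⟨m, hd, hdvd, hsq, hpos⟩ := degree_cases θ hθ
  have hvan : ∀ x : Cfsg.Spor.M22, 2 ∣ orderOf x → (θ : Cfsg.Spor.M22 → ℂ) x = 0 := fun x hx =>
    CfsgLib.Char.SquareRoots.vanish_of_full_part θ Nat.prime_two (by rw [fact_two]; exact hθ) hx
  rw [natCard22] at hdvd hsq
  haveI : Fact (Nat.Prime 5) := ⟨by norm_num⟩
  haveI : Fact (Nat.Prime 7) := ⟨by norm_num⟩
  haveI : Fact (Nat.Prime 11) := ⟨by norm_num⟩
  obtain ⟨hx11, hs11, -⟩ := Aut.selfCent11
  obtain ⟨l5, u5⟩ := sect_M22 (q := 5) (Fy := F5fix) (S := 2 ^ 2 ||| 2 ^ 22) (N := 20) (e := elt5)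
    (m := 88704) (by norm_num) (by rw [natCard22]; norm_num) (by norm_num) (by decide +kernel)
    (by decide +kernel) (by decide +kernel) (by decide +kernel) (fun g => kernel5) (by decide +kernel)
    θ hvan hd
  obtain ⟨l7, u7⟩ := sect_M22 (q := 7) (Fy := F22 ||| 2 ^ 17) (S := 2 ^ 17) (N := 21) (e := Aut.elt7)
    (m := 63360) (by norm_num) (by rw [natCard22]; norm_num) (by norm_num) (by decide +kernel)
    (by decide +kernel) (by decide +kernel) (by decide +kernel)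
    (fun g hg => kernel7 (mem_fixH.2 ⟨(mem_fixH.1 hg).1,
      fun p hp => (mem_fixH.1 hg).2 p (mem_dec_or.2 (Or.inl hp))⟩))
    (by decide +kernel) θ hvan hd
  obtain ⟨l11, u11⟩ := sect_M22 (q := 11) (Fy := F22) (S := 0) (N := 55) (e := elt22)
    (m := 40320) (by norm_num) (by rw [natCard22]; norm_num) (by norm_num) (by decide +kernel)
    (by decide +kernel) (by decide +kernel) (by decide +kernel)
    (fun g => mem_zpowers_of_selfCent hx11 hs11) (by decide +kernel) θ hvan hd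
  obtain ⟨htot, htot2⟩ := norm_total θ.2 hd {5, 7, 11} (by simp)
  rw [natCard22] at htot htot2
  simp only [Finset.mem_insert, Finset.mem_singleton, Finset.sum_insert, Finset.sum_singleton,
    Nat.reduceEqDiff, or_self, not_false_eq_true] at htot htot2
  have hm : m ∈ [1, 3, 5] := by
    have : ∀ m ∈ List.range 6, 0 < 2 ^ 7 * m → 2 ^ 7 * m ∣ 443520 → m ∈ [1, 3, 5] := by decide +kernel
    have hm5 : m ≤ 5 := by nlinarith
    exact this m (List.mem_range.2 (by omega)) hpos hdvd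
  simp only [List.mem_cons, List.not_mem_nil, or_false] at hm
  rcases hm with rfl | rfl | rfl
  · norm_num at l5 l7 l11 htot
    linarith
  · norm_num at l5 l7 l11 htot htot2
    obtain ⟨z5, hz5, s5⟩ := u5 (by norm_num; linarith)
    obtain ⟨z7, hz7, s7⟩ := u7 (by norm_num; linarith)
    obtain ⟨z11, hz11, s11⟩ := u11 (by norm_num; linarith)
    have h0 := htot2 (by linarith)
    rcases hz5 with rfl | rfl <;> rcases hz7 with rfl | rfl <;> rcases hz11 with rfl | rfl
    all_goals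
      norm_num at s5 s7 s11
      have h1 : (384 : ℂ) * (20 * 21 * 55) +
          21 * 55 * (20 * ∑ g ∈ sect Cfsg.Spor.M22 5, (θ : Cfsg.Spor.M22 → ℂ) g) +
          20 * 55 * (21 * ∑ g ∈ sect Cfsg.Spor.M22 7, (θ : Cfsg.Spor.M22 → ℂ) g) +
          20 * 21 * (55 * ∑ g ∈ sect Cfsg.Spor.M22 11, (θ : Cfsg.Spor.M22 → ℂ) g) = 0 := by
        linear_combination (20 * 21 * 55 : ℂ) * h0
      rw [s5, s7, s11] at h1
      norm_num at h1
  · norm_num at l5 l7 l11 htot
    linarith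

/-- All irreducible complex characters of the Mathieu group `M₂₂` lie in a single 2-block: any two of them lie in the same block relative to every maximal ideal of the algebraic integers containing 2. -/
theorem result (M : Ideal Cfsg.AlgInt) (hM : Cfsg.IsPModular 2 M)
    (χ ψ : Cfsg.IrrCharacter ↥Cfsg.Spor.M22) : Cfsg.SameBlock M (χ : ↥Cfsg.Spor.M22 → ℂ) (ψ : ↥Cfsg.Spor.M22 → ℂ) := by
  refine CfsgLib.Blocks.SingleBlock.sameBlock_all hM constrained_all (fun θ hθ => no_full θ ?_) χ ψ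
  rw [fact_two] at hθ
  exact hθ

end Cfsg.Agent.S5005
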