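import Cfsg.Statements.S5006
import Cfsg.Agent.Lib.Golay.TwoBlockCount
import Cfsg.Agent.Lib.Char.SquareRoots

set_option autoImplicit false
open Cfsg
open CfsgLib.Golay CfsgLib.Golay.TwoBlock CfsgLib.Char.PrimeSection
open CfsgLib.Blocks.SingleBlock (Constrained)
open scoped Pointwise CfsgLib.Char

namespace Cfsg.Agent.S5006

theorem factorization_of {n p k m : ℕ} (hp : p.Prime) (h : n = p ^ k * m) (hm : ¬ p ∣ m) :
    n.factorization p = k := by
  rw [h, Nat.factorization_mul (pow_ne_zero _ hp.ne_zero) (fun h0 => hm (by rw [h0]; exact dvd_zero p)),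
    Finsupp.add_apply, Nat.factorization_eq_zero_of_not_dvd hm, Nat.factorization_pow]
  simp [hp.factorization_self]

theorem fact_two : (Nat.card Cfsg.M24).factorization 2 = 10 :=
  factorization_of Nat.prime_two (m := 239085) (by rw [natCard_M24]; norm_num) (by norm_num)

theorem constrained_all (u : Cfsg.M24) (hu : orderOf u = 2) :
    Constrained 2 (Subgroup.centralizer ({u} : Set Cfsg.M24)) := by
  obtain ⟨hcls, -, -, hconj⟩ := Cfsg.Agent.S5394.result
  have hu' : orderOf (u : Equiv.Perm Cfsg.GolayPt) = 2 := by rw [Subgroup.orderOf_coe, hu]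
  rcases hcls _ u.2 hu' with ho | hfree
  · exact constrained_octad le_rfl u ho inf_le_left
  · set R : Cfsg.M24 := ⟨toPerm Cfsg.Agent.S5394.R1, toPerm_mem_M24 sext_chk.2.2.2.2.2.2.1⟩ with hR
    have hRo : orderOf (toPerm Cfsg.Agent.S5394.R1) = 2 :=
      Cfsg.Agent.S5394.orderOf_R sext_chk.2.2.2.2.2.1 Cfsg.Agent.S5394.R_chk.2.2.2.2.1
        Cfsg.Agent.S5394.R_chk.2.2.2.2.2.2.1
    obtain ⟨k, hk, hke⟩ := hconj _ R.2 _ u.2 hRo hu'
      ⟨fun _ => hfree, fun _ => Cfsg.Agent.S5394.fix_R1⟩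
    have hu2 : u = MulAut.conj (⟨k, hk⟩ : Cfsg.M24) R := Subtype.ext hke.symm
    have hc : Subgroup.centralizer ({u} : Set Cfsg.M24) =
        (Subgroup.centralizer ({R} : Set Cfsg.M24)).map
          (MulAut.conj (⟨k, hk⟩ : Cfsg.M24)).toMonoidHom := by
      ext x
      simp only [Subgroup.mem_map_equiv, Subgroup.mem_centralizer_singleton_iff, hu2]
      rw [← (MulAut.conj (⟨k, hk⟩ : Cfsg.M24)).symm.injective.eq_iff, map_mul, map_mul,
        MulEquiv.symm_apply_apply]
    rw [hc]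
    exact constrained_free.conj _

theorem sect_M24 {q Fy t e : ℕ} [Fact q.Prime] (hq2 : q ≠ 2) {m : ℕ}
    (hm : Nat.card Cfsg.M24 = q ^ 1 * m) (hm' : ¬ q ∣ m) (he : eltTest e q Fy = true)
    (hker : ∀ g ∈ fixH Cfsg.M24 Fy, g * toPerm e = toPerm e * g → g ∈ Subgroup.zpowers (toPerm e))
    (ht : normTest 244823040 q (Nat.factorial (pop 24 Fy) * ((q - 1) * q)) (fun d => decide (d ≤ t)) = true)
    (T : Subgroup (Equiv.Perm Cfsg.GolayPt)) (hTM : T ≤ Cfsg.M24) {u : ℕ} (hu : Nat.card T = u)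
    (hTp : IsPGroup 2 T) (hT : ∀ x ∈ T, x * toPerm e = toPerm e * x)
    (χ : Cfsg.IrrCharacter Cfsg.M24) (hvan : ∀ x : Cfsg.M24, 2 ∣ orderOf x → (χ : Cfsg.M24 → ℂ) x = 0)
    {D : ℕ} (hD : (χ : Cfsg.M24 → ℂ) 1 = ((u * D : ℕ) : ℂ)) :
    (244823040 : ℝ) * ((u ^ 2 * (D % q * (q - D % q)) : ℕ) : ℝ) ≤
      (t : ℝ) * ∑ g ∈ sect Cfsg.M24 q, Complex.normSq ((χ : Cfsg.M24 → ℂ) g) := by
  haveI : Fact (Nat.Prime 2) := ⟨Nat.prime_two⟩
  obtain ⟨hmem, hord, hfix⟩ := elt_facts he
  set y : Cfsg.M24 := ⟨toPerm e, hmem⟩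
  have hy : orderOf y = q := by rw [← Subgroup.orderOf_coe, hord]
  have hfac : (Nat.card Cfsg.M24).factorization q = 1 := factorization_of Fact.out hm hm'
  obtain ⟨h1, h2, h3, h4⟩ := normalizer_card le_rfl y (q := q) (Fy := Fy) (S := Fy) hy hfac hfix
    (fun g _ p hp hnp => absurd hp hnp) (Finset.Subset.refl _) hker
  rw [← pop_eq_card] at h1
  rw [natCard_M24] at h2 h4
  have hle := of_normTest ht (Nat.mul_ne_zero (Nat.factorial_ne_zero _)
    (Nat.mul_ne_zero (Nat.sub_ne_zero_of_lt (Fact.out : q.Prime).one_lt)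
      (Fact.out : q.Prime).ne_zero)) h1 h2 h3 h4
  have := sect_low χ.2 hvan hq2 hfac hy (T.subgroupOf Cfsg.M24)
    (hTp.of_equiv (Subgroup.subgroupOfEquivOfLe hTM).symm)
    (fun x hx => Subtype.ext (hT _ (Subgroup.mem_subgroupOf.1 hx)))
    (by rw [Nat.card_congr (Subgroup.subgroupOfEquivOfLe hTM).toEquiv, hu]) hD (of_decide_eq_true hle)
  rw [natCard_M24] at this
  exact_mod_cast this

open CfsgLib.Golay.SylowTwo in
/-- generators of a four group centralizing the element of order five -/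
def T5 : List ℕ := [83915403672191895162864626936667574, 3060240352754441661789490885810711]

/-- an involution centralizing the element of order seven -/
def T7 : List ℕ := [727532709826526430356600529164554432]

open CfsgLib.Golay.SylowTwo in
theorem T_chk : pcOK T5 [(0, [1]), (0, [])] = true ∧ pcOK T7 [(0, [])] = true ∧
    T5.all (fun P => inM24 P && eqP (mulP P elt5) (mulP elt5 P)) = true ∧
    T7.all (fun P => inM24 P && eqP (mulP P Aut.elt7) (mulP Aut.elt7 P)) = true ∧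
    validP elt5 = true ∧ validP Aut.elt7 = true := by
  decide +kernel

attribute [local irreducible] SylowTwo.idP toPerm mulP validP

open CfsgLib.Golay.SylowTwo in
theorem twoGroup {gs : List ℕ} {cs : List (ℕ × List ℕ)} {e : ℕ} (hpc : pcOK gs cs = true)
    (he : validP e = true)
    (hgs : gs.all (fun P => inM24 P && eqP (mulP P e) (mulP e P)) = true) :
    HS gs ≤ Cfsg.M24 ∧ IsPGroup 2 (HS gs) ∧ Nat.card (HS gs) = 2 ^ gs.length ∧
      ∀ x ∈ HS gs, x * toPerm e = toPerm e * x := by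
  simp only [List.all_eq_true, Bool.and_eq_true] at hgs
  have hv := validP_of_pcOK hpc
  refine ⟨(Subgroup.closure_le _).2 ?_, IsPGroup.of_card (card_HS hpc), card_HS hpc, fun x hx => ?_⟩
  · rintro _ ⟨P, hP, rfl⟩
    exact toPerm_mem_M24 (hgs P hP).1
  · have : HS gs ≤ Subgroup.centralizer {toPerm e} := (Subgroup.closure_le _).2 (by
      rintro _ ⟨P, hP, rfl⟩
      rw [SetLike.mem_coe, Subgroup.mem_centralizer_singleton_iff]
      have h1 := toPerm_eq_of_eqP (validP_mulP (hv P hP) he) (validP_mulP he (hv P hP)) (hgs P hP).2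
      rwa [toPerm_mulP (hv P hP) he, toPerm_mulP he (hv P hP)] at h1)
    exact Subgroup.mem_centralizer_singleton_iff.1 (this hx)

theorem no_full (θ : Cfsg.IrrCharacter Cfsg.M24)
    (hθ : 2 ^ 10 ∣ Cfsg.charDegree (θ : Cfsg.M24 → ℂ)) : False := by
  obtain ⟨m, hd, hdvd, hsq, hpos⟩ := degree_cases θ hθ
  have hvan : ∀ x : Cfsg.M24, 2 ∣ orderOf x → (θ : Cfsg.M24 → ℂ) x = 0 := fun x hx =>
    CfsgLib.Char.SquareRoots.vanish_of_full_part θ Nat.prime_two (by rw [fact_two]; exact hθ) hx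
  rw [natCard_M24] at hdvd hsq
  haveI : Fact (Nat.Prime 5) := ⟨by norm_num⟩
  haveI : Fact (Nat.Prime 7) := ⟨by norm_num⟩
  haveI : Fact (Nat.Prime 11) := ⟨by norm_num⟩
  haveI : Fact (Nat.Prime 23) := ⟨by norm_num⟩
  obtain ⟨hc5, hc7, hg5, hg7, he5, he7⟩ := T_chk
  obtain ⟨a5, b5, c5, d5⟩ := twoGroup hc5 he5 hg5
  obtain ⟨a7, b7, c7, d7⟩ := twoGroup hc7 he7 hg7
  obtain ⟨hx11, hs11, -⟩ := Aut.selfCent11
  obtain ⟨hx23, hs23⟩ := Aut.selfCent23
  have e5 := sect_M24 (q := 5) (Fy := F5fix) (t := 240) (e := elt5) (m := 48964608) (by norm_num)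
    (by rw [natCard_M24]; norm_num) (by norm_num) (by decide +kernel) (fun g => kernel5)
    (by decide +kernel) _ a5 (u := 4) c5 b5 d5 θ hvan (D := 256 * m) (by rw [hd]; congr 1; ring)
  have e7 := sect_M24 (q := 7) (Fy := F22 ||| 2 ^ 17) (t := 126) (e := Aut.elt7) (m := 34974720)
    (by norm_num) (by rw [natCard_M24]; norm_num) (by norm_num) (by decide +kernel)
    (fun g hg => kernel7 (mem_fixH.2 ⟨(mem_fixH.1 hg).1,
      fun p hp => (mem_fixH.1 hg).2 p (mem_dec_or.2 (Or.inl hp))⟩))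
    (by decide +kernel) _ a7 (u := 2) c7 b7 d7 θ hvan (D := 512 * m) (by rw [hd]; congr 1; ring)
  have e11 := sect_M24 (q := 11) (Fy := F22) (t := 110) (e := elt22) (m := 22256640) (by norm_num)
    (by rw [natCard_M24]; norm_num) (by norm_num) (by decide +kernel)
    (fun g => mem_zpowers_of_selfCent hx11 hs11) (by decide +kernel) ⊥ bot_le (u := 1)
    Subgroup.card_bot IsPGroup.of_bot (by simp) θ hvan (D := 1024 * m) (by rw [hd]; simp)
  have e23 := sect_M24 (q := 23) (Fy := F23) (t := 253) (e := shiftP) (m := 10644480) (by norm_num)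
    (by rw [natCard_M24]; norm_num) (by norm_num) (by decide +kernel)
    (fun g => mem_zpowers_of_selfCent hx23 hs23) (by decide +kernel) ⊥ bot_le (u := 1)
    Subgroup.card_bot IsPGroup.of_bot (by simp) θ hvan (D := 1024 * m) (by rw [hd]; simp)
  have htot := (norm_total θ.2 (d := 2 ^ 10 * m) (by rw [hd]) {5, 7, 11, 23} (by simp)).1
  rw [natCard_M24] at htot
  simp only [Finset.mem_insert, Finset.mem_singleton, Finset.sum_insert, Finset.sum_singleton,
    OfNat.ofNat_eq_ofNat, Nat.reduceEqDiff, or_self, not_false_eq_true] at htot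
  have hm16 : m ≤ 15 := by nlinarith
  have hm : m ∈ [1, 3, 5, 7, 9, 11, 15] := by
    have : ∀ m ∈ List.range 16, 0 < 2 ^ 10 * m → 2 ^ 10 * m ∣ 244823040 →
        m ∈ [1, 3, 5, 7, 9, 11, 15] := by decide +kernel
    exact this m (List.mem_range.2 (by omega)) hpos hdvd
  simp only [List.mem_cons, List.not_mem_nil, or_false] at hm
  rcases hm with rfl | rfl | rfl | rfl | rfl | rfl | rfl
  all_goals
    norm_num at e5 e7 e11 e23 htot
    linarith

/-- All irreducible complex characters of the Mathieu group `M₂₄` lie in a single 2-block: any two of them lie in the same block relative to every maximal ideal of the algebraic integers containing 2. -/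
theorem result (M : Ideal Cfsg.AlgInt) (hM : Cfsg.IsPModular 2 M)
    (χ ψ : Cfsg.IrrCharacter ↥Cfsg.M24) : Cfsg.SameBlock M (χ : ↥Cfsg.M24 → ℂ) (ψ : ↥Cfsg.M24 → ℂ) := by
  refine CfsgLib.Blocks.SingleBlock.sameBlock_all hM constrained_all (fun θ hθ => no_full θ ?_) χ ψ
  rw [fact_two] at hθ
  exact hθ

end Cfsg.Agent.S5006
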