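import Cfsg.Statements.S5011
-- import your own Cfsg.Agent.* helpers here

set_option autoImplicit false
open Cfsg

namespace Cfsg.Agent.S5011

/-- Let G be a finite non-abelian simple group and ρ an irreducible complex representation of G on a space of dimension greater than one (irreducible in the sense that the only subspaces invariant under every ρ(x) are 0 and the whole space). Then for every non-identity element g of G, the centralizer of g does not act irreducibly: there is a non-zero proper subspace invariant under ρ(c) for every c commuting with g. -/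
theorem result {G : Type*} [Group G] [Finite G] [IsSimpleGroup G]
    (hG : ¬ IsMulCommutative G) {V : Type*} [AddCommGroup V] [Module ℂ V] [FiniteDimensional ℂ V]
    (ρ : Representation ℂ G V)
    (hirr : ∀ W : Submodule ℂ V, (∀ x : G, ∀ v ∈ W, ρ x v ∈ W) → W = ⊥ ∨ W = ⊤)
    (hdim : 1 < Module.finrank ℂ V) (g : G) (hg : g ≠ 1) :
    ∃ W : Submodule ℂ V, W ≠ ⊥ ∧ W ≠ ⊤ ∧ ∀ c ∈ Subgroup.centralizer ({g} : Set G), ∀ v ∈ W, ρ c v ∈ W := by
  haveI : Nontrivial V := Module.nontrivial_of_finrank_pos (R := ℂ) (by omega)
  obtain ⟨μ, hμ⟩ := Module.End.exists_eigenvalue (ρ g : Module.End ℂ V)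
  by_cases htop : Module.End.eigenspace (ρ g : Module.End ℂ V) μ = ⊤
  · exfalso
    have hsc : ∀ v : V, ρ g v = μ • v := fun v =>
      Module.End.mem_eigenspace_iff.mp (htop ▸ Submodule.mem_top)
    let N : Subgroup G := (MonoidHom.ker ρ)
    have hN : N.Normal := MonoidHom.normal_ker ρ
    have hcent : ∀ x : G, x * g * x⁻¹ * g⁻¹ ∈ N := by
      intro x
      simp only [N, MonoidHom.mem_ker]
      have h1 : ρ x * ρ g = ρ g * ρ x := by
        apply LinearMap.ext
        intro v
        simp [hsc]
      rw [map_mul, map_mul, map_mul, h1, mul_assoc (ρ g) (ρ x), ← map_mul ρ x, mul_inv_cancel,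
        map_one, mul_one, ← map_mul, mul_inv_cancel, map_one]
    rcases hN.eq_bot_or_eq_top with hb | hb
    · have hgc : g ∈ Subgroup.center G := by
        rw [Subgroup.mem_center_iff]
        intro x
        have := hcent x
        rw [hb, Subgroup.mem_bot, mul_inv_eq_one, mul_inv_eq_iff_eq_mul] at this
        exact this
      rcases (inferInstance : (Subgroup.center G).Normal).eq_bot_or_eq_top with hc | hc
      · exact hg (Subgroup.mem_bot.mp (hc ▸ hgc))
      · exact hG ⟨⟨fun a b => (Subgroup.mem_center_iff.mp (hc.symm ▸ Subgroup.mem_top b : b ∈ Subgroup.center G) a)⟩⟩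
    · obtain ⟨v, hv⟩ := exists_ne (0 : V)
      have hinv : ∀ x : G, ∀ w ∈ Submodule.span ℂ {v}, ρ x w ∈ Submodule.span ℂ {v} := by
        intro x w hw
        have h1 : ρ x = 1 := MonoidHom.mem_ker.mp (hb.symm ▸ Subgroup.mem_top x : x ∈ N)
        simpa [h1] using hw
      rcases hirr _ hinv with h | h
      · exact hv (Submodule.span_singleton_eq_bot.mp h)
      · have := finrank_span_singleton (K := ℂ) hv
        rw [h, finrank_top] at this
        omega
  · refine ⟨_, hμ, htop, fun c hc v hv => ?_⟩
    rw [Module.End.mem_eigenspace_iff] at hv ⊢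
    have h1 : ρ g * ρ c = ρ c * ρ g := by
      rw [← map_mul, ← map_mul, Subgroup.mem_centralizer_singleton_iff.mp hc]
    have h2 := LinearMap.congr_fun h1 v
    simp only [Module.End.mul_apply] at h2
    rw [h2, hv, map_smul]

end Cfsg.Agent.S5011
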