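import Cfsg.Statements.S5014
import Cfsg.Agent.Lib.RootSub.RankOne
import Cfsg.Agent.Lib.RootSub.RootSet

set_option autoImplicit false
set_option linter.style.haveILetI false
open Cfsg

namespace Cfsg.Agent.S5014

/-- Let X = ⟨A, B⟩ be a rank one group with unipotent subgroups A and B and let Ω be the set of conjugates of A under X. Then Ω has at least three members, X acts doubly transitively on Ω by conjugation (any two ordered pairs of distinct members are carried to one another by a single element of X), and A acts regularly on Ω with A removed: for C, D in Ω different from A there is exactly one element of A conjugating C to D. -/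
theorem result {G : Type*} [Group G] {A B : Subgroup G} (h : Cfsg.IsRankOnePair A B) :
    (∃ C₁ ∈ Cfsg.unipotentSubgroups A B, ∃ C₂ ∈ Cfsg.unipotentSubgroups A B, ∃ C₃ ∈ Cfsg.unipotentSubgroups A B,
      C₁ ≠ C₂ ∧ C₁ ≠ C₃ ∧ C₂ ≠ C₃) ∧
    (∀ C₁ ∈ Cfsg.unipotentSubgroups A B, ∀ C₂ ∈ Cfsg.unipotentSubgroups A B, ∀ D₁ ∈ Cfsg.unipotentSubgroups A B,
      ∀ D₂ ∈ Cfsg.unipotentSubgroups A B, C₁ ≠ C₂ → D₁ ≠ D₂ →
        ∃ x ∈ A ⊔ B, Cfsg.conjBy C₁ x = D₁ ∧ Cfsg.conjBy C₂ x = D₂) ∧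
    (∀ C ∈ Cfsg.unipotentSubgroups A B, ∀ D ∈ Cfsg.unipotentSubgroups A B, C ≠ A → D ≠ A →
      ∃! a : G, a ∈ A ∧ Cfsg.conjBy C a = D) := by
  refine ⟨CfsgLib.RootSub.exists_three h, fun C₁ h1 C₂ h2 D₁ h3 D₂ h4 hC hD =>
    CfsgLib.RootSub.two_transitive h h1 h2 h3 h4 hC hD, fun C hC D hD hCA hDA => ?_⟩
  obtain ⟨a, ha, rfl⟩ := CfsgLib.RootSub.exists_move_left h hC hCA
  obtain ⟨a', ha', rfl⟩ := CfsgLib.RootSub.exists_move_left h hD hDA
  refine ⟨a' * a⁻¹, ⟨mul_mem ha' (inv_mem ha), ?_⟩, fun x hx => ?_⟩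
  · rw [CfsgLib.RootSub.cj_cj, inv_mul_cancel_right]
  · have := CfsgLib.RootSub.regular_unique h (mul_mem hx.1 ha) ha' (by
      rw [← CfsgLib.RootSub.cj_cj]; exact hx.2)
    rw [← this, mul_inv_cancel_right]

end Cfsg.Agent.S5014
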