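import Cfsg.Statements.S5015
import Cfsg.Agent.Lib.RootSub.RankOne
import Cfsg.Agent.Lib.RootSub.RootSet

set_option autoImplicit false
set_option linter.style.haveILetI false
open Cfsg

namespace Cfsg.Agent.S5015

open CfsgLib.RootSub in
theorem cond_aux {Y Ω : Type*} [Group Y] [MulAction Y Ω] (A : Subgroup Y) (α : Ω)
    (hA : A ≤ MulAction.stabilizer Y α)
    (hAn : ∀ y ∈ MulAction.stabilizer Y α, Cfsg.conjBy A y = A)
    (hreg : ∀ β γ : Ω, β ≠ α → γ ≠ α → ∃! a : Y, a ∈ A ∧ a • β = γ)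
    (y : Y) (hy : y • α ≠ α) :
    Cfsg.RankOneCondition A (Cfsg.conjBy A y) ∧ Cfsg.RankOneCondition (Cfsg.conjBy A y) A := by
  have wd : ∀ g g' : Y, g • α = g' • α → Cfsg.conjBy A g = Cfsg.conjBy A g' := by
    intro g g' h
    have hm : g'⁻¹ * g ∈ MulAction.stabilizer Y α := by
      rw [MulAction.mem_stabilizer_iff, mul_smul, h, inv_smul_smul]
    rw [show g = g' * (g'⁻¹ * g) by group, ← cj_cj, hAn _ hm]
  have hfix : ∀ a ∈ A, a • α = α := fun a ha => hA ha
  have hy' : y⁻¹ • α ≠ α := fun h => hy (inv_smul_eq_iff.mp h).symm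
  have uni : ∀ {a : Y}, a ∈ A → ∀ β : Ω, β ≠ α → a • β = β → a = 1 := fun {a} ha β hβ he =>
    (hreg β β hβ hβ).unique ⟨ha, he⟩ ⟨one_mem A, one_smul _ _⟩
  constructor
  · intro a ha ha1
    -- `b⁻¹ α = a⁻¹ (y α)`
    have hne : a⁻¹ • (y • α) ≠ y • α := fun h => ha1 (inv_eq_one.mp (uni (inv_mem ha) _ hy h))
    have h1 : y⁻¹ • (a⁻¹ • (y • α)) ≠ α := fun h => hne (inv_smul_eq_iff.mp h)
    obtain ⟨a', ⟨ha', he⟩, -⟩ := hreg _ _ hy' h1
    have hbα : (y * a' * y⁻¹) • α = a⁻¹ • (y • α) := by rw [mul_smul, mul_smul, he, smul_inv_smul]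
    refine ⟨(y * a' * y⁻¹)⁻¹, inv_mem (conj_mem_cj y ha'), fun h => ?_, ?_⟩
    · rw [inv_eq_one] at h
      rw [h, one_smul] at hbα
      exact hy (by
        have := congrArg (fun z => a • z) hbα
        simp only [smul_inv_smul, hfix a ha] at this
        exact this.symm)
    · rw [inv_inv, cj_cj]
      exact wd _ _ (by rw [hbα, mul_smul])
  · intro b hb hb1
    obtain ⟨a₀, ha₀, rfl⟩ : ∃ a₀ ∈ A, y * a₀ * y⁻¹ = b := ⟨_, mem_cj.mp hb, by group⟩
    have h1 : (y * a₀ * y⁻¹)⁻¹ • α ≠ α := by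
      intro h
      apply hb1
      have : a₀⁻¹ • (y⁻¹ • α) = y⁻¹ • α := by
        have := congrArg (fun z => y⁻¹ • z) h
        simpa [← mul_smul, mul_assoc] using this
      rw [inv_eq_one.mp (uni (inv_mem ha₀) _ hy' this)]; group
    obtain ⟨a, ⟨ha, he⟩, -⟩ := hreg _ _ hy h1
    refine ⟨a⁻¹, inv_mem ha, fun h => ?_, ?_⟩
    · rw [inv_eq_one] at h
      rw [h, one_smul] at he
      exact hy (by
        have := congrArg (fun z => (y * a₀ * y⁻¹) • z) he
        simp only [smul_inv_smul] at this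
        rwa [mul_smul, mul_smul, inv_smul_smul, hfix a₀ ha₀] at this)
    · rw [inv_inv, cj_cj]
      exact wd _ _ (by rw [mul_smul, he])

/-- Let a group Y act doubly transitively on a set Ω with at least three points, and suppose that the stabilizer of a point α contains a nilpotent subgroup A, normalized by that stabilizer, which acts regularly on the points other than α. Then for any y in Y moving α, the subgroups A and y A y⁻¹ are the unipotent subgroups of a rank one group, and the normal closure of A in Y (the subgroup generated by all conjugates of A) is generated by A and y A y⁻¹ alone. -/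
theorem result {Y Ω : Type*} [Group Y] [MulAction Y Ω]
    (h2 : MulAction.IsMultiplyPretransitive Y Ω 2) (hΩ : 3 ≤ ENat.card Ω) (α : Ω) (A : Subgroup Y)
    (hA : A ≤ MulAction.stabilizer Y α) (hAn : ∀ y ∈ MulAction.stabilizer Y α, Cfsg.conjBy A y = A)
    (hnil : Group.IsNilpotent A) (hreg : ∀ β γ : Ω, β ≠ α → γ ≠ α → ∃! a : Y, a ∈ A ∧ a • β = γ)
    (y : Y) (hy : y ∉ MulAction.stabilizer Y α) :
    Cfsg.IsRankOnePair A (Cfsg.conjBy A y) ∧ Subgroup.normalClosure (A : Set Y) = A ⊔ Cfsg.conjBy A y := by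
  rw [MulAction.mem_stabilizer_iff] at hy
  haveI := h2
  obtain ⟨γ, hγ1, hγ2⟩ : ∃ γ : Ω, γ ≠ α ∧ γ ≠ y • α := by
    by_contra hc
    push Not at hc
    have hu : (Set.univ : Set Ω) ⊆ {α, y • α} := fun z _ => by
      by_cases h : z = α
      · exact Or.inl h
      · exact Or.inr (hc z h)
    have := (Set.encard_le_encard hu).trans ((Set.encard_insert_le _ _).trans (add_le_add (Set.encard_singleton _).le le_rfl))
    rw [Set.encard_univ] at this
    exact absurd (hΩ.trans this) (by norm_num)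
  obtain ⟨a, ⟨ha, hae⟩, -⟩ := hreg (y • α) γ hy hγ1
  obtain ⟨hc1, hc2⟩ := cond_aux A α hA hAn hreg y hy
  refine ⟨⟨fun e => ?_, hnil, CfsgLib.RootSub.isNilpotent_cj y hnil, hc1, hc2⟩, ?_⟩
  · have ha' : a ∈ Cfsg.conjBy A y := e ▸ ha
    rw [CfsgLib.RootSub.mem_cj] at ha'
    have h' : (y⁻¹ * a * y) • α = α := hA ha'
    rw [mul_smul, mul_smul, inv_smul_eq_iff, hae] at h'
    exact hγ2 h'
  · refine le_antisymm ?_ (sup_le Subgroup.le_normalClosure ?_)
    · rw [Subgroup.normalClosure, Subgroup.closure_le]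
      intro x hx
      obtain ⟨a', ha', hconj⟩ := Group.mem_conjugatesOfSet_iff.mp hx
      obtain ⟨g, rfl⟩ := isConj_iff.mp hconj
      by_cases hg : g • α = α
      · have hm := CfsgLib.RootSub.conj_mem_cj g ha'
        rw [hAn g hg] at hm
        exact Subgroup.mem_sup_left hm
      · obtain ⟨a₁, ⟨ha₁, he⟩, -⟩ := hreg _ _ hy hg
        have hs : y⁻¹ * a₁⁻¹ * g ∈ MulAction.stabilizer Y α := by
          rw [MulAction.mem_stabilizer_iff, mul_smul, mul_smul, ← he, inv_smul_smul, inv_smul_smul]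
        have hm : g * a' * g⁻¹ ∈ Cfsg.conjBy A (a₁ * y) := by
          rw [show a₁ * y = g * (y⁻¹ * a₁⁻¹ * g)⁻¹ by group, ← CfsgLib.RootSub.cj_cj,
            hAn _ (inv_mem hs)]
          exact CfsgLib.RootSub.conj_mem_cj g ha'
        rw [← CfsgLib.RootSub.cj_cj, CfsgLib.RootSub.mem_cj] at hm
        have h3 := mul_mem (mul_mem (Subgroup.mem_sup_left (T := Cfsg.conjBy A y) ha₁)
          (Subgroup.mem_sup_right hm)) (inv_mem (Subgroup.mem_sup_left ha₁))
        simpa [mul_assoc] using h3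
    · rintro _ ⟨a', ha', rfl⟩
      exact Subgroup.normalClosure_normal.conj_mem a' (Subgroup.subset_normalClosure ha') y

end Cfsg.Agent.S5015
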