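import Cfsg.Statements.S5017
import Cfsg.Agent.Lib.RootSub.RankOne
import Cfsg.Agent.Lib.RootSub.RootSet

set_option autoImplicit false
set_option linter.style.haveILetI false
open Cfsg

namespace Cfsg.Agent.S5017

/-- Let X be a rank one group with unipotent subgroups A and B and N a normal subgroup of X. Then either X = N A or N lies in the centre of X. Consequently a perfect rank one group is quasisimple. -/
theorem result {X : Type*} [Group X] {A B : Subgroup X} (h : Cfsg.IsRankOneGroup X A B) :
    (∀ N : Subgroup X, N.Normal → N ⊔ A = ⊤ ∨ N ≤ Subgroup.center X) ∧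
    (Group.IsPerfect X → Cfsg.IsQuasisimple X) := by
  refine ⟨fun N hN => CfsgLib.RootSub.normal_dichotomy h N, fun hp => ?_⟩
  have htop : ∀ N : Subgroup X, N.Normal → N ⊔ A = ⊤ → N = ⊤ := fun N hN hNA => by
    haveI := CfsgLib.RootSub.quotient_nilpotent h hNA
    have hc : commutator (X ⧸ N) = ⊤ := by
      rw [commutator_def, ← Subgroup.map_top_of_surjective _ (QuotientGroup.mk'_surjective N),
        ← Subgroup.map_commutator, ← commutator_def, Group.IsPerfect.commutator_eq_top]
    have := CfsgLib.RootSub.eq_top_of_sup_commutator (⊥ : Subgroup (X ⧸ N)) (by rw [hc, bot_sup_eq])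
    rw [eq_top_iff]
    intro x _
    have hx : (x : X ⧸ N) ∈ (⊥ : Subgroup (X ⧸ N)) := this ▸ Subgroup.mem_top _
    exact (QuotientGroup.eq_one_iff x).mp (Subgroup.mem_bot.mp hx)
  refine ⟨hp, ?_⟩
  have hnt : Nontrivial (X ⧸ Subgroup.center X) := by
    rw [← not_subsingleton_iff_nontrivial]
    intro hs
    have hz : ∀ x : X, x ∈ Subgroup.center X := fun x =>
      (QuotientGroup.eq_one_iff x).mp (Subsingleton.elim _ _)
    exact CfsgLib.RootSub.not_centralizes h.2 fun a _ b _ => (Subgroup.mem_center_iff.mp (hz b)) a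
  refine { eq_bot_or_eq_top_of_normal := fun N hN => ?_ }
  rcases CfsgLib.RootSub.normal_dichotomy h (N.comap (QuotientGroup.mk' _)) with h1 | h1
  · right
    have := congrArg (Subgroup.map (QuotientGroup.mk' (Subgroup.center X))) (htop _ (hN.comap _) h1)
    rwa [Subgroup.map_comap_eq_self_of_surjective (QuotientGroup.mk'_surjective _),
      Subgroup.map_top_of_surjective _ (QuotientGroup.mk'_surjective _)] at this
  · left
    rw [← Subgroup.map_comap_eq_self_of_surjective (QuotientGroup.mk'_surjective (Subgroup.center X)) N,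
      eq_bot_iff]
    rintro _ ⟨x, hx, rfl⟩
    exact Subgroup.mem_bot.mpr ((QuotientGroup.eq_one_iff x).mpr (h1 hx))

end Cfsg.Agent.S5017
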