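import Cfsg.Statements.S5018
import Cfsg.Agent.Lib.RootSub.RankOne
import Cfsg.Agent.Lib.RootSub.RootSet

set_option autoImplicit false
set_option linter.style.haveILetI false
open Cfsg

namespace Cfsg.Agent.S5018

/-- A rank one group is not nilpotent, and its second centre equals its centre. -/
theorem result {X : Type*} [Group X] {A B : Subgroup X} (h : Cfsg.IsRankOneGroup X A B) :
    Subgroup.upperCentralSeries X 2 = Subgroup.center X ∧ ¬ Group.IsNilpotent X := by
  have hnn := CfsgLib.RootSub.rank_one_not_nilpotent h
  refine ⟨le_antisymm ?_ ?_, hnn⟩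
  · rcases CfsgLib.RootSub.normal_dichotomy h (Subgroup.upperCentralSeries X 2) with h1 | h1
    · exfalso
      haveI := CfsgLib.RootSub.quotient_nilpotent h h1
      apply hnn
      have h12 : Subgroup.center X ≤ Subgroup.upperCentralSeries X 2 := by
        rw [← Subgroup.upperCentralSeries_one]; exact Subgroup.upperCentralSeries_mono X (by norm_num)
      let q : X ⧸ Subgroup.center X →* X ⧸ Subgroup.upperCentralSeries X 2 :=
        QuotientGroup.map _ _ (MonoidHom.id X) h12
      haveI : Group.IsNilpotent (X ⧸ Subgroup.center X) := by
        refine Subgroup.isNilpotent_of_ker_le_center q ?_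
        intro x hx
        obtain ⟨x, rfl⟩ := QuotientGroup.mk_surjective x
        have hx2 : x ∈ Subgroup.upperCentralSeries X 2 := (QuotientGroup.eq_one_iff x).mp hx
        rw [Subgroup.mem_center_iff]
        intro y
        obtain ⟨y, rfl⟩ := QuotientGroup.mk_surjective y
        have := (Subgroup.mem_upperCentralSeries_succ_iff).mp hx2 y
        rw [Subgroup.upperCentralSeries_one] at this
        rw [← QuotientGroup.mk_mul, ← QuotientGroup.mk_mul, QuotientGroup.eq]
        have h3 := this
        rw [Subgroup.mem_center_iff] at h3
        rw [Subgroup.mem_center_iff]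
        intro z
        have h4 := h3 z
        have e : (y * x)⁻¹ * (x * y) = (x * y)⁻¹ * (x * y * x⁻¹ * y⁻¹) * (x * y) := by group
        have e2 : x * y * x⁻¹ * y⁻¹ * (x * y) = (x * y) * (x * y * x⁻¹ * y⁻¹) := (h3 (x * y)).symm
        rw [e, mul_assoc ((x * y)⁻¹), e2, inv_mul_cancel_left]
        exact h4
      exact Group.of_quotient_center_nilpotent inferInstance
    · exact h1
  · rw [← Subgroup.upperCentralSeries_one]
    exact Subgroup.upperCentralSeries_mono X (by norm_num)

end Cfsg.Agent.S5018
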