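import Cfsg.Statements.S5020
import Cfsg.Agent.Lib.RootSub.Perfect
import Cfsg.Agent.Lib.RootSub.SL2Image

set_option autoImplicit false
set_option linter.style.haveILetI false
open Cfsg
open scoped commutatorElement

namespace Cfsg.Agent.S5020

theorem psl_two : Nonempty (Matrix.SpecialLinearGroup (Fin 2) (ZMod 2) ≃* Matrix.ProjectiveSpecialLinearGroup (Fin 2) (ZMod 2)) := by
  have hc : Subgroup.center (Matrix.SpecialLinearGroup (Fin 2) (ZMod 2)) = ⊥ := by
    rw [Subgroup.eq_bot_iff_forall]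
    intro z hz
    obtain ⟨r, hr, he⟩ := Matrix.SpecialLinearGroup.mem_center_iff.mp hz
    have hr1 : r = 1 := by
      rw [Fintype.card_fin] at hr
      clear he
      revert hr; revert r; decide
    exact Subtype.ext (by rw [← he, hr1, map_one]; rfl)
  exact ⟨((QuotientGroup.quotientMulEquivOfEq hc).trans QuotientGroup.quotientBot).symm⟩

theorem enat_le {G : Type*} [Group G] {A : Subgroup G} {p : ℕ} (hp : p.Prime) (h : ENat.card A ≤ 3) {a : G}
    (ha : a ∈ A) (ha1 : a ≠ 1) (hap : a ^ p = 1) : p ≤ 3 ∧ A = Subgroup.zpowers a := by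
  haveI : Finite A := ENat.card_lt_top.mp (lt_of_le_of_lt h (by decide))
  haveI : Fact p.Prime := ⟨hp⟩
  have hord : orderOf a = p := orderOf_eq_prime hap ha1
  rw [ENat.card_eq_coe_natCard] at h
  have h3 : Nat.card A ≤ 3 := by exact_mod_cast h
  have hle : Subgroup.zpowers a ≤ A := by rw [Subgroup.zpowers_le]; exact ha
  have hdvd : p ∣ Nat.card A := by
    have := Subgroup.card_dvd_of_le hle
    rwa [Nat.card_zpowers, hord] at this
  have hp3 : p ≤ 3 := le_trans (Nat.le_of_dvd Nat.card_pos hdvd) h3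
  refine ⟨hp3, (Subgroup.eq_of_le_of_card_ge hle ?_).symm⟩
  rw [Nat.card_zpowers, hord]
  obtain ⟨k, hk⟩ := hdvd
  have hpos : 0 < Nat.card A := Nat.card_pos
  rw [hk] at h3 hpos ⊢
  have := hp.two_le
  have hk1 : k = 1 := by nlinarith [Nat.pos_of_ne_zero (fun e : k = 0 => by simp [e] at hpos)]
  simp [hk1]

/-- Let X be a special rank one group with abelian unipotent subgroups A and B, and H = N(A) ∩ N(B) its diagonal subgroup. Then either A has at most three elements and X is isomorphic to SL₂(2), SL₂(3) or PSL₂(3); or X = X' A with the commutator subgroup X' quasisimple and the commutator subgroup ⁅A, H⁆ having more than three elements. -/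
theorem result {X : Type*} [Group X] {A B : Subgroup X} (h : Cfsg.IsRankOneGroup X A B)
    (hs : Cfsg.IsSpecialRankOnePair A B) (hab : Cfsg.HasAbelianUnipotents A B) :
    (ENat.card A ≤ 3 ∧ (Nonempty (X ≃* Matrix.SpecialLinearGroup (Fin 2) (ZMod 2)) ∨
        Nonempty (X ≃* Matrix.SpecialLinearGroup (Fin 2) (ZMod 3)) ∨
        Nonempty (X ≃* Matrix.ProjectiveSpecialLinearGroup (Fin 2) (ZMod 3)))) ∨
    (commutator X ⊔ A = ⊤ ∧ Cfsg.IsQuasisimple (commutator X) ∧
      3 < ENat.card ↥(⁅A, Cfsg.rankOneDiagonal A B⁆ : Subgroup X)) := by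
  have hs' : CfsgLib.RootSub.SpecialAb A B := ⟨hs, hab.1, hab.2⟩
  by_cases h3 : ENat.card A ≤ 3
  · refine Or.inl ⟨h3, ?_⟩
    obtain ⟨a, ha, ha1⟩ := CfsgLib.RootSub.exists_ne_one h.2
    obtain ⟨b, hb⟩ := CfsgLib.RootSub.exists_par h.2 ha ha1
    haveI : Finite A := ENat.card_lt_top.mp (lt_of_le_of_lt h3 (by decide))
    obtain ⟨p, hp, hpA⟩ := (CfsgLib.RootSub.elementary_or_divisible hs').resolve_right fun hh =>
      hh.1 a ha ha1 (MonoidHom.isOfFinOrder A.subtype (isOfFinOrder_of_finite (⟨a, ha⟩ : A)))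
    obtain ⟨hp3, hAz⟩ := enat_le hp h3 ha ha1 (hpA a ha)
    haveI : Fact p.Prime := ⟨hp⟩
    have hbp : b ^ p = 1 := by
      by_contra hne
      exact (CfsgLib.RootSub.pow_ne_one_iff hs' hb p).mpr hne (hpA a ha)
    have hBcard : ENat.card B ≤ 3 := by
      obtain ⟨x, -, e⟩ := CfsgLib.RootSub.right_mem_unip h.2
      rw [e]
      exact (ENat.card_congr (A.equivMapOfInjective _ (MulAut.conj x).injective).symm.toEquiv).le.trans h3
    obtain ⟨-, hBz⟩ := enat_le hp hBcard hb.2.2.1 hb.2.2.2.1 hbp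
    have hX : Subgroup.closure ({a, b} : Set X) = ⊤ := by
      rw [← h.1, hAz, hBz, Subgroup.zpowers_eq_closure, Subgroup.zpowers_eq_closure, ← Subgroup.closure_union]
      rfl
    have e0 : X ≃* ↥(Subgroup.closure ({a, b} : Set X)) :=
      (Subgroup.topEquiv.symm.trans (MulEquiv.subgroupCongr hX.symm))
    have hcl := CfsgLib.RootSub.closure_equiv (p := p) ⟨hs', hb, hpA a ha, hbp⟩
    rcases (show p = 2 ∨ p = 3 by have := hp.two_le; omega) with rfl | rfl
    · rcases hcl with e | e <;> obtain ⟨e⟩ := e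
      · exact Or.inl ⟨e0.trans e⟩
      · obtain ⟨e2⟩ := psl_two
        exact Or.inl ⟨(e0.trans e).trans e2.symm⟩
    · rcases hcl with e | e <;> obtain ⟨e⟩ := e
      · exact Or.inr (Or.inl ⟨e0.trans e⟩)
      · exact Or.inr (Or.inr ⟨e0.trans e⟩)
  · rw [not_le] at h3
    have hA := CfsgLib.RootSub.sup_le_commutator hs' h3
    rw [h.1] at hA
    have hAc : A ≤ commutator X := hA
    have hperf : commutator X = ⊤ := by
      rcases CfsgLib.RootSub.normal_dichotomy h (commutator X) with h1 | h1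
      · rwa [sup_eq_left.mpr hAc] at h1
      · exfalso
        obtain ⟨a, ha, ha1⟩ := CfsgLib.RootSub.exists_ne_one h.2
        exact ha1 (CfsgLib.RootSub.eq_one_of_mem_center h.2 ha (h1 (hAc ha)))
    refine Or.inr ⟨by rw [hperf, top_sup_eq], ?_, ?_⟩
    · refine CfsgLib.RootSub.quasisimple_of_normal_dichotomy _ hperf hperf ?_ fun N hN => ?_
      · intro hz
        obtain ⟨a, ha, ha1⟩ := CfsgLib.RootSub.exists_ne_one h.2
        exact ha1 (CfsgLib.RootSub.eq_one_of_mem_center h.2 ha (hz ▸ Subgroup.mem_top a))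
      · rcases CfsgLib.RootSub.normal_dichotomy h N with h1 | h1
        · right
          rw [eq_top_iff, ← hperf, commutator_def, Subgroup.commutator_le]
          intro x _ y _
          refine (QuotientGroup.eq_one_iff _).mp ?_
          obtain ⟨n, hn, u, hu, rfl⟩ := Subgroup.mem_sup_of_normal_left.mp (h1 ▸ Subgroup.mem_top x)
          obtain ⟨m, hm, v, hv, rfl⟩ := Subgroup.mem_sup_of_normal_left.mp (h1 ▸ Subgroup.mem_top y)
          haveI := hab.1
          show QuotientGroup.mk' N ⁅n * u, m * v⁆ = 1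
          rw [map_commutatorElement, map_mul, map_mul, show QuotientGroup.mk' N n = 1 from (QuotientGroup.eq_one_iff n).mpr hn,
            show QuotientGroup.mk' N m = 1 from (QuotientGroup.eq_one_iff m).mpr hm, one_mul, one_mul,
            ← map_commutatorElement,
            commutatorElement_eq_one_iff_mul_comm.mpr (congrArg Subtype.val (mul_comm' (⟨u, hu⟩ : A) ⟨v, hv⟩)),
            map_one]
        · exact Or.inl h1
    · rw [CfsgLib.RootSub.diag_eq_top hs' (CfsgLib.RootSub.diag_ne_bot hs' h3)]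
      exact h3

end Cfsg.Agent.S5020
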