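import Cfsg.Statements.S5023
import Cfsg.Agent.Lib.RootSub.RankOne
import Cfsg.Agent.Lib.RootSub.RootSet

set_option autoImplicit false
set_option linter.style.haveILetI false
open Cfsg

namespace Cfsg.Agent.S5023

/-- Let X be a rank one group with unipotent subgroups A and B that acts faithfully on an abelian group V (written additively) with A acting quadratically: a' • (a • v − v) = a • v − v for all a, a' in A and v in V. Then A is either torsion-free or an elementary abelian p-group for some prime p. -/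
theorem result {X : Type*} [Group X] {A B : Subgroup X} (h : Cfsg.IsRankOneGroup X A B)
    {V : Type*} [AddCommGroup V] [DistribMulAction X V] (hf : ∀ x : X, (∀ v : V, x • v = v) → x = 1)
    (hq : ∀ a ∈ A, ∀ a' ∈ A, ∀ v : V, a' • (a • v - v) = a • v - v) :
    (∀ a ∈ A, a ≠ 1 → ¬ IsOfFinOrder a) ∨ ∃ p : ℕ, p.Prime ∧ Cfsg.IsElementaryAbelian p A := by
  by_cases hfin : ∃ a ∈ A, a ≠ 1 ∧ IsOfFinOrder a
  swap
  · exact Or.inl fun a ha ha1 h => hfin ⟨a, ha, ha1, h⟩
  obtain ⟨a₁, ha₁, ha₁1, hfo⟩ := hfin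
  have hcomm : ∀ x ∈ A, ∀ y ∈ A, x * y = y * x := by
    intro x hx y hy
    have : ∀ v : V, (x * y) • v = (y * x) • v := fun v => by
      have e1 := hq y hy x hx v
      have e2 := hq x hx y hy v
      rw [smul_sub] at e1 e2
      rw [mul_smul, mul_smul, eq_add_of_sub_eq e1, eq_add_of_sub_eq e2]
      abel
    have h3 := hf (x * y * (y * x)⁻¹) (fun v => by rw [mul_smul, this, smul_inv_smul])
    rwa [mul_inv_eq_one] at h3
  have hX : ∃ x y : X, ∃ v : V, y • (x • v - v) ≠ x • v - v := by
    by_contra hc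
    push Not at hc
    refine CfsgLib.RootSub.not_centralizes h.2 fun a _ b _ => ?_
    have : ∀ v : V, (a * b) • v = (b * a) • v := fun v => by
      have e1 := hc b a v
      have e2 := hc a b v
      rw [smul_sub] at e1 e2
      rw [mul_smul, mul_smul, eq_add_of_sub_eq e1, eq_add_of_sub_eq e2]
      abel
    have h3 := hf (a * b * (b * a)⁻¹) (fun v => by rw [mul_smul, this, smul_inv_smul])
    rwa [mul_inv_eq_one] at h3
  -- an element of prime order
  obtain ⟨p, hp, hdvd⟩ := Nat.exists_prime_and_dvd (n := orderOf a₁) (fun e => ha₁1 (orderOf_eq_one_iff.mp e))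
  set a₀ := a₁ ^ (orderOf a₁ / p)
  have ha₀ : a₀ ∈ A := pow_mem ha₁ _
  have ho : orderOf a₀ = p := orderOf_pow_orderOf_div hfo.orderOf_pos.ne' hdvd
  have ha₀1 : a₀ ≠ 1 := fun e => hp.one_lt.ne' (by rw [← ho, e, orderOf_one])
  obtain ⟨b, hb, -, e⟩ := h.2.cond_left a₀ ha₀ ha₀1
  refine Or.inr ⟨p, hp, ⟨⟨fun x y => Subtype.ext (hcomm _ x.2 _ y.2)⟩⟩, fun a ha => ?_⟩
  have hpow : ∀ (x : X), x ∈ A → ∀ (n : ℕ) (v : V), (x ^ n) • v - v = n • (x • v - v) := by
    intro x hx n v
    induction n with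
    | zero => simp
    | succ n ih =>
      rw [pow_succ, mul_smul, succ_nsmul]
      have := hq x hx (x ^ n) (pow_mem hx n) v
      rw [smul_sub] at this
      rw [eq_add_of_sub_eq this, add_comm (x • v - v), ← ih]; abel
  have hker : ∀ v : V, p • (a₀ • v - v) = 0 := fun v => by
    rw [← hpow a₀ ha₀, ← ho, pow_orderOf_eq_one, one_smul, sub_self]
  have hz : a ^ p ∈ CfsgLib.RootSub.nearTrivial A B h.1 V := by
    intro v y
    rw [hpow a ha]
    -- modulo the fixed points, `u = α β u`
    have h1 := CfsgLib.RootSub.sub_fixed h.1 h.2 hq ha₀ hb e (w := a • v - v) (fun q hq' => hq a ha q hq' v) y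
    have h2 : p • ((a • v - v) - (a₀ • (b • (a • v - v) - (a • v - v)) - (b • (a • v - v) - (a • v - v))))
        = p • (a • v - v) := by rw [smul_sub, hker, sub_zero]
    rw [← h2, ← smul_comm p y, h1]
  have := CfsgLib.RootSub.nearTrivial_le_center h hq hX hz
  exact CfsgLib.RootSub.eq_one_of_mem_center h.2 (pow_mem ha p) this

end Cfsg.Agent.S5023
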