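import Cfsg.Statements.S5026
import Cfsg.Agent.Lib.RootSub.RankOne
import Cfsg.Agent.Lib.RootSub.RootSet

set_option autoImplicit false
set_option linter.style.haveILetI false
open Cfsg

namespace Cfsg.Agent.S5026

open CfsgLib.RootSub in
theorem commute_left {G : Type*} [Group G] {S : Set (Subgroup G)} (hS : Cfsg.IsRootSubgroupSet S)
    (hdeg : Cfsg.IsDegenerateRootSet S) {A B C : Subgroup G} (hA : A ∈ S) (hB : B ∈ S) (hC : C ∈ S)
    {a b : G} (ha : a ∈ A) (hb : b ∈ B) (hab : a * b = b * a) (hab1 : a * b ≠ 1) (ha1 : a ≠ 1) (hb1 : b ≠ 1)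
    (h : ∀ c ∈ C, c * (a * b) = (a * b) * c) {c : G} (hc : c ∈ C) : c * a = a * c := by
  rcases member_cases hS hA hC with hac | hac | hac
  · exact (hac a ha c hc).symm
  · exfalso
    rcases member_cases hS hB hC with hbc | hbc | hbc
    · refine ha1 (eq_one_of_normalizes hac ha (Subgroup.centralizer_le_normalizer _
        (Subgroup.mem_centralizer_iff.mpr fun c hc => ?_)))
      apply mul_right_cancel (b := b)
      calc c * a * b = (a * b) * c := by rw [mul_assoc]; exact h c hc
        _ = a * c * b := by rw [mul_assoc, hbc b hb c hc, mul_assoc]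
    · obtain ⟨c₁, hc₁, -, e1⟩ := hac.cond_left a⁻¹ (inv_mem ha) (inv_ne_one.mpr ha1)
      obtain ⟨c₂, hc₂, -, e2⟩ := hbc.cond_left b hb hb1
      rw [inv_inv] at e1
      have hfix : Cfsg.conjBy C (b * a) = C := by
        rw [← hab]
        exact cj_eq_self.mpr (Subgroup.centralizer_le_normalizer _
          (Subgroup.mem_centralizer_iff.mpr fun c hc => h c hc))
      have e3 : Cfsg.conjBy C b⁻¹ = Cfsg.conjBy C a := by
        conv_lhs => rw [← hfix]
        rw [cj_cj, inv_mul_cancel_left]
      have hU : B ∈ Cfsg.unipotentSubgroups A C := by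
        have : B = Cfsg.conjBy A (c₂ * c₁⁻¹) := by
          rw [← cj_cj, e1, ← e3, ← e2, cj_cj, mul_inv_cancel, cj_one]
        exact this ▸ cj_mem_unip left_mem_unip (Subgroup.mem_sup_right (mul_mem hc₂ (inv_mem hc₁)))
      by_cases hne : B = A
      · subst hne
        exact hab1 (eq_one_of_normalizes hac (mul_mem ha hb) (Subgroup.centralizer_le_normalizer _
          (Subgroup.mem_centralizer_iff.mpr fun c hc => h c hc)))
      · have hp := (pair_of_unip hac hU left_mem_unip hne).1
        refine hb1 (eq_one_of_normalizes hp hb (cj_eq_self.mp ?_))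
        refine (eq_of_pair hS hB (pair_symm hp) (hS.conj_mem A hA b) ha ha1 ?_).symm
        rw [mem_cj, mul_assoc, hab, inv_mul_cancel_left]
        exact ha
    · exact hdeg B hB C hC hbc
  · exact (hdeg A hA C hC hac).elim

/-- Let S be a degenerate set of abstract root subgroups of G (a set of abstract transvection groups) and let a, b be commuting non-identity elements of members of S with a b ≠ 1. Then the members of S centralizing a b are exactly those centralizing both a and b. -/
theorem result {G : Type*} [Group G] {S : Set (Subgroup G)} (hS : Cfsg.IsRootSubgroupSet S) (hdeg : Cfsg.IsDegenerateRootSet S)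
    {a b : G} (ha : a ∈ Cfsg.rootElements S) (hb : b ∈ Cfsg.rootElements S) (hab : a * b = b * a) (hab1 : a * b ≠ 1) :
    Cfsg.centralizingMembers S (Subgroup.zpowers (a * b)) =
      Cfsg.centralizingMembers S (Subgroup.zpowers a) ∩ Cfsg.centralizingMembers S (Subgroup.zpowers b) := by
  obtain ⟨ha1, A, hA, haA⟩ := ha
  obtain ⟨hb1, B, hB, hbB⟩ := hb
  have key : ∀ (C : Subgroup G) (x : G),
      C ≤ Subgroup.centralizer ((Subgroup.zpowers x : Subgroup G) : Set G) ↔ ∀ c ∈ C, c * x = x * c := by
    intro C x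
    rw [Subgroup.zpowers_eq_closure, Subgroup.centralizer_closure]
    exact ⟨fun h c hc => Subgroup.mem_centralizer_singleton_iff.mp (h hc),
      fun h c hc => Subgroup.mem_centralizer_singleton_iff.mpr (h c hc)⟩
  ext C
  simp only [Cfsg.centralizingMembers, Set.mem_ofPred_eq, Set.mem_inter_iff, key]
  constructor
  · rintro ⟨hC, h⟩
    refine ⟨⟨hC, fun c hc => commute_left hS hdeg hA hB hC haA hbB hab hab1 ha1 hb1 h hc⟩, hC,
      fun c hc => commute_left hS hdeg hB hA hC hbB haA hab.symm (hab ▸ hab1) hb1 ha1 (hab ▸ h) hc⟩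
  · rintro ⟨⟨hC, h1⟩, -, h2⟩
    exact ⟨hC, fun c hc => by rw [← mul_assoc, h1 c hc, mul_assoc, h2 c hc, mul_assoc]⟩

end Cfsg.Agent.S5026
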