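import Cfsg.Statements.S5027
import Cfsg.Agent.Lib.RootSub.RankOne
import Cfsg.Agent.Lib.RootSub.RootSet

set_option autoImplicit false
set_option linter.style.haveILetI false
open Cfsg

namespace Cfsg.Agent.S5027

/-- Let S be a set of abstract root subgroups of G such that every member of S has a rank one partner in S (the graph of rank one pairs on S has no isolated vertex). Then the second centre of G equals its centre. -/
theorem result {G : Type*} [Group G] {S : Set (Subgroup G)} (hS : Cfsg.IsRootSubgroupSet S)
    (hF : ∀ A ∈ S, ¬ Cfsg.IsIsolatedIn (Cfsg.FAdj S) S A) : Subgroup.upperCentralSeries G 2 = Subgroup.center G := by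
  refine le_antisymm (fun z hz => ?_) ?_
  · have hz' : ∀ y : G, z * y * z⁻¹ * y⁻¹ ∈ Subgroup.center G := by
      intro y
      have := (Subgroup.mem_upperCentralSeries_succ_iff).mp hz y
      rwa [Subgroup.upperCentralSeries_one] at this
    have hle : (⨆ A ∈ S, A) ≤ Subgroup.centralizer ({z} : Set G) := by
      refine iSup₂_le fun A hA a ha => ?_
      rw [Subgroup.mem_centralizer_singleton_iff]
      by_cases ha1 : a = 1
      · subst ha1; simp
      by_contra hne
      obtain ⟨B, hB, hp⟩ := CfsgLib.RootSub.exists_partner (hF A hA) hA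
      refine CfsgLib.RootSub.central_translate hS hA ⟨hB, hp⟩ (z := z * a * z⁻¹ * a⁻¹)
        (Subgroup.center_le_centralizer _ (hz' a)) (fun e => hne ?_) ha ha1 ⟨?_, _, hS.conj_mem A hA z,
          by rw [inv_mul_cancel_right]; exact CfsgLib.RootSub.conj_mem_cj z ha⟩
      · rw [mul_inv_eq_one, mul_inv_eq_iff_eq_mul] at e
        exact e.symm
      · rw [inv_mul_cancel_right]
        exact fun e => ha1 (conj_eq_one_iff.mp e)
    rw [hS.generates] at hle
    exact Subgroup.mem_center_iff.mpr fun y =>
      Subgroup.mem_centralizer_singleton_iff.mp (hle (Subgroup.mem_top y))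
  · rw [← Subgroup.upperCentralSeries_one]
    exact Subgroup.upperCentralSeries_mono G (by norm_num)

end Cfsg.Agent.S5027
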