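import Cfsg.Statements.S5029
import Cfsg.Agent.Lib.RootSub.RankOne
import Cfsg.Agent.Lib.RootSub.RootSet

set_option autoImplicit false
set_option linter.style.haveILetI false
open Cfsg

namespace Cfsg.Agent.S5029

/-- Let S be a set of abstract root subgroups of G, A ∈ S having a rank one partner in S, and B ∈ S with C = ⁅A, B⁆ ∈ S. Then the members of S contained in AC are the conjugates of A by elements of B together with C, they partition AC, the members of S inside AC partition AC so that A is a line partner of C, and for every non-identity a ∈ A the map b ↦ a⁻¹ b⁻¹ a b is an isomorphism from B onto C. -/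
theorem result {G : Type*} [Group G] {S : Set (Subgroup G)} (hS : Cfsg.IsRootSubgroupSet S)
    {A B : Subgroup G} (hA : ¬ Cfsg.IsIsolatedIn (Cfsg.FAdj S) S A) (hAS : A ∈ S) (hB : B ∈ S) (hC : ⁅A, B⁆ ∈ S) :
    Cfsg.membersIn S (A ⊔ ⁅A, B⁆) = (fun b : G => Cfsg.conjBy A b) '' (B : Set G) ∪ {⁅A, B⁆} ∧
    Cfsg.IsSubgroupPartition (A ⊔ ⁅A, B⁆) (Cfsg.membersIn S (A ⊔ ⁅A, B⁆)) ∧
    A ∈ Cfsg.linePartners S ⁅A, B⁆ ∧
    ∀ a ∈ A, a ≠ 1 → ∃ φ : ↥B ≃* ↥⁅A, B⁆, ∀ b : ↥B, (φ b : G) = a⁻¹ * (b : G)⁻¹ * a * b := by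
  have h := CfsgLib.RootSub.commCase_of_mem hS hAS hB hC
  obtain ⟨P, hP, hp⟩ := CfsgLib.RootSub.exists_partner hA hAS
  refine ⟨CfsgLib.RootSub.membersIn_eq hS hP hp hAS hB h, CfsgLib.RootSub.partition_sup hS hP hp hAS hB h,
    CfsgLib.RootSub.mem_linePartners hS hP hp hAS hB h, fun a ha ha1 => ?_⟩
  have hmem : ∀ b : ↥B, a⁻¹ * (b : G)⁻¹ * a * b ∈ ⁅A, B⁆ := fun b => by
    have := Subgroup.commutator_mem_commutator (inv_mem ha) (inv_mem b.2)
    rwa [commutatorElement_def, inv_inv, inv_inv] at this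
  have hinvA : a⁻¹ ∈ A := inv_mem ha
  let f : ↥B →* ↥⁅A, B⁆ :=
    { toFun := fun b => ⟨a⁻¹ * (b : G)⁻¹ * a * b, hmem b⟩
      map_one' := Subtype.ext (by simp)
      map_mul' := fun b b' => Subtype.ext (by
        have h1 := CfsgLib.RootSub.comm_right_mul h hinvA (inv_mem b'.2) (inv_mem b.2)
        have h2 := CfsgLib.RootSub.comm_right_mul h hinvA (inv_mem b.2) (inv_mem b'.2)
        simp only [commutatorElement_def, inv_inv, mul_inv_rev] at h1 h2
        show a⁻¹ * ((b * b' : ↥B) : G)⁻¹ * a * (b * b' : ↥B) =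
          (a⁻¹ * (b : G)⁻¹ * a * b) * (a⁻¹ * (b' : G)⁻¹ * a * b')
        rw [Subgroup.coe_mul, mul_inv_rev, h1]
        exact (h.2.1 _ (hmem b) _ (by
          exact mul_mem (mul_mem (mul_mem (Subgroup.mem_sup_left hinvA)
            (Subgroup.mem_sup_right (inv_mem b'.2))) (Subgroup.mem_sup_left ha))
            (Subgroup.mem_sup_right b'.2))).symm) }
  refine ⟨MulEquiv.ofBijective f ⟨?_, fun c => ?_⟩, fun b => rfl⟩
  · rw [injective_iff_map_eq_one]
    intro b hb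
    by_contra hb1
    refine CfsgLib.RootSub.comm_ne_one hS hP hp hAS hB h hinvA (inv_ne_one.mpr ha1) (inv_mem b.2)
      (fun e => hb1 (Subtype.ext (inv_eq_one.mp e))) ?_
    rw [commutatorElement_def, inv_inv, inv_inv]
    exact congrArg Subtype.val hb
  · obtain ⟨b, hb, e⟩ := CfsgLib.RootSub.comm_eq h hinvA (inv_ne_one.mpr ha1) c.2
    refine ⟨⟨b⁻¹, inv_mem hb⟩, Subtype.ext ?_⟩
    show a⁻¹ * (b⁻¹)⁻¹ * a * b⁻¹ = c
    rw [inv_inv, ← e, commutatorElement_def, inv_inv]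

end Cfsg.Agent.S5029
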