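import Mathlib
import Cfsg.Statements.S5030
import Cfsg.Agent.Lib.RootSub.RootSet

set_option autoImplicit false
set_option linter.unusedSectionVars false
open Cfsg
open scoped commutatorElement
open CfsgLib.RootSub (member_cases comm_sup_abelian commCase_cj commCase_symm central_translate
  commCase_of_mem eq_one_of_normalizes pair_symm)

namespace Cfsg.Agent.S5030

variable {G : Type*} [Group G]

/-- Commutators of generators in a normalised subgroup. -/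
theorem closure_comm_le {T : Set G} {Y W : Subgroup G}
    (hT : T ⊆ (Subgroup.normalizer (W : Set G) : Set G)) (h : ∀ x ∈ T, ∀ y ∈ Y, ⁅x, y⁆ ∈ W) :
    ⁅Subgroup.closure T, Y⁆ ≤ W := by
  have key : ∀ x ∈ Subgroup.closure T, x ∈ Subgroup.normalizer (W : Set G) ∧ ∀ y ∈ Y, ⁅x, y⁆ ∈ W := by
    intro x hx
    induction hx using Subgroup.closure_induction with
    | mem x hx => exact ⟨hT hx, h x hx⟩
    | one => exact ⟨one_mem _, fun y _ => by rw [commutatorElement_one_left]; exact one_mem _⟩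
    | mul a b _ _ ha hb =>
      refine ⟨mul_mem ha.1 hb.1, fun y hy => ?_⟩
      rw [show ⁅a * b, y⁆ = a * ⁅b, y⁆ * a⁻¹ * ⁅a, y⁆ by simp only [commutatorElement_def]; group]
      exact mul_mem ((Subgroup.mem_normalizer_iff.mp ha.1 _).mp (hb.2 y hy)) (ha.2 y hy)
    | inv a _ ha =>
      refine ⟨inv_mem ha.1, fun y hy => ?_⟩
      rw [show ⁅a⁻¹, y⁆ = a⁻¹ * ⁅a, y⁆⁻¹ * a⁻¹⁻¹ by simp only [commutatorElement_def]; group]
      exact (Subgroup.mem_normalizer_iff.mp (inv_mem ha.1) _).mp (inv_mem (ha.2 y hy))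
  exact Subgroup.commutator_le.mpr fun x hx y hy => (key x hx).2 y hy

theorem sup_comm_le {X₁ X₂ Y W : Subgroup G} (h1 : X₁ ≤ Subgroup.normalizer (W : Set G))
    (h2 : X₂ ≤ Subgroup.normalizer (W : Set G)) (c1 : ⁅X₁, Y⁆ ≤ W) (c2 : ⁅X₂, Y⁆ ≤ W) :
    ⁅X₁ ⊔ X₂, Y⁆ ≤ W := by
  rw [Subgroup.sup_eq_closure]
  exact closure_comm_le (Set.union_subset h1 h2) fun x hx y hy =>
    hx.elim (fun h => c1 (Subgroup.commutator_mem_commutator h hy))
      (fun h => c2 (Subgroup.commutator_mem_commutator h hy))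

theorem comm_sup_le {X₁ X₂ Y W : Subgroup G} (h1 : X₁ ≤ Subgroup.normalizer (W : Set G))
    (h2 : X₂ ≤ Subgroup.normalizer (W : Set G)) (c1 : ⁅Y, X₁⁆ ≤ W) (c2 : ⁅Y, X₂⁆ ≤ W) :
    ⁅Y, X₁ ⊔ X₂⁆ ≤ W := by
  rw [Subgroup.commutator_comm]
  exact sup_comm_le h1 h2 (Subgroup.commutator_comm X₁ Y ▸ c1) (Subgroup.commutator_comm X₂ Y ▸ c2)

theorem norm_of_comm {R W : Subgroup G} (h : ⁅R, W⁆ ≤ W) : R ≤ Subgroup.normalizer (W : Set G) := by
  have key : ∀ r ∈ R, ∀ w ∈ W, r * w * r⁻¹ ∈ W := by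
    intro r hr w hw
    rw [show r * w * r⁻¹ = ⁅r, w⁆ * w by rw [commutatorElement_def]; group]
    exact mul_mem (h (Subgroup.commutator_mem_commutator hr hw)) hw
  intro r hr
  rw [Subgroup.mem_normalizer_iff]
  refine fun w => ⟨key r hr w, fun hw => ?_⟩
  simpa [mul_assoc] using key r⁻¹ (inv_mem hr) _ hw

theorem comm_eq_bot_iff {X Y : Subgroup G} : ⁅X, Y⁆ = ⊥ ↔ ∀ x ∈ X, ∀ y ∈ Y, x * y = y * x := by
  rw [eq_bot_iff, Subgroup.commutator_le]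
  exact forall₄_congr fun x _ y _ => by rw [Subgroup.mem_bot, commutatorElement_eq_one_iff_mul_comm]

theorem sup_comm_bot {X₁ X₂ Y : Subgroup G} (c1 : ⁅X₁, Y⁆ = ⊥) (c2 : ⁅X₂, Y⁆ = ⊥) :
    ⁅X₁ ⊔ X₂, Y⁆ = ⊥ := by
  refine le_bot_iff.mp (sup_comm_le ?_ ?_ c1.le c2.le) <;>
    exact norm_of_comm (by rw [Subgroup.commutator_bot_right])

theorem comm_bot_sup {X₁ X₂ Y : Subgroup G} (c1 : ⁅Y, X₁⁆ = ⊥) (c2 : ⁅Y, X₂⁆ = ⊥) :
    ⁅Y, X₁ ⊔ X₂⁆ = ⊥ := by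
  rw [Subgroup.commutator_comm] at c1 c2 ⊢
  exact sup_comm_bot c1 c2

theorem bot_comm {X Y : Subgroup G} (h : ⁅X, Y⁆ = ⊥) : ⁅Y, X⁆ = ⊥ := Subgroup.commutator_comm X Y ▸ h

theorem bot_mono {X Y X' Y' : Subgroup G} (hX : X' ≤ X) (hY : Y' ≤ Y) (h : ⁅X, Y⁆ = ⊥) :
    ⁅X', Y'⁆ = ⊥ := le_bot_iff.mp ((Subgroup.commutator_mono hX hY).trans h.le)

section

variable {S : Set (Subgroup G)} (hS : IsRootSubgroupSet S) {A B C : Subgroup G}
  (hA : A ∈ S) (hB : B ∈ S) (hC : C ∈ S) (hAB : ⁅B, A⁆ ∈ S) (hBC : ⁅B, C⁆ ∈ S)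
  (hAC : ⁅A, C⁆ = ⊥) {b : G} (hb : b ∈ B) (hb1 : b ≠ 1)

include hS in
theorem self_bot {D : Subgroup G} (hD : D ∈ S) : ⁅D, D⁆ = ⊥ := by
  haveI := hS.commutative D hD
  exact comm_eq_bot_iff.mpr fun x hx y hy => congrArg Subtype.val (mul_comm' (⟨x, hx⟩ : D) ⟨y, hy⟩)

include hb in
theorem cj_le : conjBy A b⁻¹ ≤ A ⊔ ⁅B, A⁆ := by
  rintro _ ⟨a, ha, rfl⟩
  show b⁻¹ * a * b⁻¹⁻¹ ∈ _
  rw [show b⁻¹ * a * b⁻¹⁻¹ = ⁅b⁻¹, a⁆ * a by rw [commutatorElement_def]; group]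
  exact mul_mem (Subgroup.mem_sup_right (Subgroup.commutator_mem_commutator (inv_mem hb) ha))
    (Subgroup.mem_sup_left ha)

include hS hA hB hAB hb hb1 in
theorem comm_le_cj : ⁅B, A⁆ ≤ A ⊔ conjBy A b⁻¹ := by
  rw [← (commCase_of_mem hS hB hA hAB).2.2.1 b⁻¹ (inv_mem hb) (inv_ne_one.mpr hb1), Subgroup.closure_le]
  rintro _ ⟨a, ha, rfl⟩
  show b⁻¹ * a * b⁻¹⁻¹ * a⁻¹ ∈ _
  exact mul_mem (Subgroup.mem_sup_right ⟨a, ha, rfl⟩) (inv_mem (Subgroup.mem_sup_left ha))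

include hS hA hB hAB hb in
theorem self_cj : ⁅A, conjBy A b⁻¹⁆ = ⊥ :=
  comm_eq_bot_iff.mpr fun x hx y hy =>
    commCase_cj hS hA (commCase_of_mem hS hB hA hAB) (inv_mem hb) x hx y hy

include hS hA hB hC hBC hb hb1 hAC in
theorem cj_bot_iff : ⁅A, conjBy C b⁻¹⁆ = ⊥ ↔ ⁅A, ⁅B, C⁆⁆ = ⊥ := by
  constructor
  · intro h
    exact bot_mono le_rfl (comm_le_cj hS hC hB hBC hb hb1) (comm_bot_sup hAC h)
  · intro h
    exact bot_mono le_rfl (cj_le hb) (comm_bot_sup hAC h)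

include hAC in
theorem three (h : ⁅A, ⁅B, C⁆⁆ = ⊥) : ⁅C, ⁅B, A⁆⁆ = ⊥ := by
  rw [Subgroup.commutator_comm C, Subgroup.commutator_comm B A]
  refine Subgroup.commutator_commutator_eq_bot_of_rotate (bot_comm h) ?_
  rw [Subgroup.commutator_comm C A, hAC, Subgroup.commutator_bot_left]

include hS hA hB hC hBC hb hb1 hAC in
/-- Either `⟨A, b⁻¹ C b⟩` is abelian or it has class two. -/
theorem dichotomy :
    (⁅A, conjBy C b⁻¹⁆ = ⊥ ∧ IsMulCommutative ↥(A ⊔ conjBy C b⁻¹)) ∨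
      (⁅A, conjBy C b⁻¹⁆ ≠ ⊥ ∧ ¬ IsMulCommutative ↥(A ⊔ conjBy C b⁻¹) ∧
        ⁅⁅A ⊔ conjBy C b⁻¹, A ⊔ conjBy C b⁻¹⁆, A ⊔ conjBy C b⁻¹⁆ = ⊥) := by
  haveI := hS.commutative A hA
  haveI := hS.commutative _ (hS.conj_mem C hC b⁻¹)
  rcases member_cases hS hA (hS.conj_mem C hC b⁻¹) with h | h | h
  · exact Or.inl ⟨comm_eq_bot_iff.mpr h, ⟨⟨fun x y => Subtype.ext (comm_sup_abelian h x.2 y.2)⟩⟩⟩
  · exfalso
    obtain ⟨c, hc, hc1⟩ := (Subgroup.bot_or_exists_ne_one C).resolve_left (hS.ne_bot C hC)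
    have hk := commCase_of_mem hS hB hC hBC
    set q := ⁅b⁻¹, c⁆ with hq
    have hqQ : q ∈ ⁅B, C⁆ := Subgroup.commutator_mem_commutator (inv_mem hb) hc
    have hc' : q * c ∈ conjBy C b⁻¹ := ⟨c, hc, by
      show b⁻¹ * c * b⁻¹⁻¹ = _
      rw [hq, commutatorElement_def]; group⟩
    have hcA : ∀ a ∈ A, a * c = c * a := fun a ha => comm_eq_bot_iff.mp hAC a ha c hc
    have hcz : c ∈ Subgroup.centralizer ((conjBy C b⁻¹ ⊔ A : Subgroup G) : Set G) := by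
      rw [Subgroup.mem_centralizer_iff]
      intro x hx
      exact (CfsgLib.RootSub.commute_sup (fun y hy => commCase_cj hS hC hk (inv_mem hb) c hc y hy)
        (fun a ha => (hcA a ha).symm) hx).symm
    rcases eq_or_ne q 1 with hq1 | hq1
    · rw [hq1, one_mul] at hc'
      exact hc1 (eq_one_of_normalizes (pair_symm h) hc' (Subgroup.centralizer_le_normalizer _
        (Subgroup.mem_centralizer_iff.mpr hcA)))
    · have hne : q * c ≠ 1 := by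
        have e : q * c = b⁻¹ * c * b⁻¹⁻¹ := by rw [hq, commutatorElement_def]; group
        rw [e]
        exact fun e1 => hc1 (conj_eq_one_iff.mp e1)
      refine central_translate hS (hS.conj_mem C hC b⁻¹) (B := A) ⟨hA, pair_symm h⟩
        (inv_mem hcz) (inv_ne_one.mpr hc1) hc' hne ?_
      have e : c⁻¹ * (q * c) = q := by
        rw [hk.2.1 q hqQ c (Subgroup.mem_sup_right hc), inv_mul_cancel_left]
      rw [e]
      exact ⟨hq1, ⁅B, C⁆, hBC, hqQ⟩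
  · refine Or.inr ⟨hS.ne_bot _ h.1, fun hc => hS.ne_bot _ h.1 (comm_eq_bot_iff.mpr fun x hx y hy =>
      congrArg Subtype.val (hc.is_comm.comm (⟨x, Subgroup.mem_sup_left hx⟩ : ↥(A ⊔ conjBy C b⁻¹))
        ⟨y, Subgroup.mem_sup_right hy⟩)), ?_⟩
    have hcen : ⁅⁅A, conjBy C b⁻¹⁆, A ⊔ conjBy C b⁻¹⁆ = ⊥ := comm_eq_bot_iff.mpr h.2.1
    refine bot_mono ?_ le_rfl hcen
    have hn : A ⊔ conjBy C b⁻¹ ≤ Subgroup.normalizer ((⁅A, conjBy C b⁻¹⁆ : Subgroup G) : Set G) :=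
      norm_of_comm (by rw [Subgroup.commutator_comm, hcen]; exact bot_le)
    refine sup_comm_le (le_sup_left.trans hn) (le_sup_right.trans hn) ?_ ?_
    · refine comm_sup_le (le_sup_left.trans hn) (le_sup_right.trans hn) ?_ le_rfl
      rw [self_bot hS hA]; exact bot_le
    · refine comm_sup_le (le_sup_left.trans hn) (le_sup_right.trans hn) ?_ ?_
      · exact (Subgroup.commutator_comm _ _).le
      · rw [self_bot hS (hS.conj_mem C hC b⁻¹)]; exact bot_le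

end

/-- Conjugation into `N` from commutators. -/
theorem norm_sup_four {R K₁ K₂ K₃ K₄ N : Subgroup G} (hN : N = K₁ ⊔ K₂ ⊔ K₃ ⊔ K₄)
    (h1 : ⁅R, K₁⁆ ≤ N) (h2 : ⁅R, K₂⁆ ≤ N) (h3 : ⁅R, K₃⁆ ≤ N) (h4 : ⁅R, K₄⁆ ≤ N) :
    R ≤ Subgroup.normalizer (N : Set G) := by
  have key : ∀ r ∈ R, ∀ w ∈ N, r * w * r⁻¹ ∈ N := by
    intro r hr
    have hpart : ∀ K : Subgroup G, K ≤ N → ⁅R, K⁆ ≤ N → K ≤ N.comap (MulAut.conj r).toMonoidHom := by
      intro K hK h x hx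
      rw [Subgroup.mem_comap]
      show r * x * r⁻¹ ∈ N
      rw [show r * x * r⁻¹ = ⁅r, x⁆ * x by rw [commutatorElement_def]; group]
      exact mul_mem (h (Subgroup.commutator_mem_commutator hr hx)) (hK hx)
    have : N ≤ N.comap (MulAut.conj r).toMonoidHom :=
      hN.le.trans (sup_le (sup_le (sup_le
        (hpart K₁ (hN ▸ le_sup_left.trans (le_sup_left.trans le_sup_left)) h1)
        (hpart K₂ (hN ▸ le_sup_right.trans (le_sup_left.trans le_sup_left)) h2))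
        (hpart K₃ (hN ▸ le_sup_right.trans le_sup_left) h3))
        (hpart K₄ (hN ▸ le_sup_right) h4))
    exact fun w hw => this hw
  intro r hr
  rw [Subgroup.mem_normalizer_iff]
  refine fun w => ⟨key r hr w, fun hw => ?_⟩
  simpa [mul_assoc] using key r⁻¹ (inv_mem hr) _ hw

theorem result {G : Type*} [Group G] {S : Set (Subgroup G)} (hS : Cfsg.IsRootSubgroupSet S)
    {A B C : Subgroup G} (hA : A ∈ S) (hB : B ∈ S) (hC : C ∈ S) (hAB : ⁅A, B⁆ ∈ S) (hBC : ⁅B, C⁆ ∈ S)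
    (hAC : C ∈ Cfsg.commutingPartners S A)
    {b : G} (hb : b ∈ B) (hb1 : b ≠ 1) :
    ((IsMulCommutative ↥(A ⊔ Cfsg.conjBy C b⁻¹) ∧ IsMulCommutative ↥(Cfsg.conjBy A b⁻¹ ⊔ C)) ∨
      ((¬ IsMulCommutative ↥(A ⊔ Cfsg.conjBy C b⁻¹) ∧
          ⁅⁅A ⊔ Cfsg.conjBy C b⁻¹, A ⊔ Cfsg.conjBy C b⁻¹⁆, A ⊔ Cfsg.conjBy C b⁻¹⁆ = ⊥) ∧
        (¬ IsMulCommutative ↥(Cfsg.conjBy A b⁻¹ ⊔ C) ∧
          ⁅⁅Cfsg.conjBy A b⁻¹ ⊔ C, Cfsg.conjBy A b⁻¹ ⊔ C⁆, Cfsg.conjBy A b⁻¹ ⊔ C⁆ = ⊥))) ∧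
    ⁅A ⊔ Cfsg.conjBy C b⁻¹, Cfsg.conjBy A b⁻¹ ⊔ C⁆ = ⊥ ∧
    (∀ r ∈ A ⊔ B ⊔ C, Cfsg.conjBy ((A ⊔ Cfsg.conjBy C b⁻¹) ⊔ (Cfsg.conjBy A b⁻¹ ⊔ C)) r =
      (A ⊔ Cfsg.conjBy C b⁻¹) ⊔ (Cfsg.conjBy A b⁻¹ ⊔ C)) ∧
    ((A ⊔ Cfsg.conjBy C b⁻¹) ⊔ (Cfsg.conjBy A b⁻¹ ⊔ C)) ⊔ B = A ⊔ B ⊔ C ∧
    Group.IsNilpotent ↥(A ⊔ B ⊔ C) := by
  rw [Subgroup.commutator_comm] at hAB
  obtain ⟨-, -, hAC⟩ := hAC
  have hCA := bot_comm hAC
  set A' := conjBy A b⁻¹ with hA'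
  set C' := conjBy C b⁻¹ with hC'
  set P := ⁅B, A⁆ with hP
  set Q := ⁅B, C⁆ with hQ
  set X := A ⊔ C' with hX
  set Y := A' ⊔ C with hY
  -- commuting of `X` and `Y`
  have hC'A' : ⁅C', A'⁆ = ⊥ := by
    rw [hC', hA', ← Subgroup.map_commutator, hCA, Subgroup.map_bot]
  have hXY : ⁅X, Y⁆ = ⊥ :=
    sup_comm_bot (comm_bot_sup (self_cj hS hA hB hAB hb) hAC)
      (comm_bot_sup hC'A' (bot_comm (self_cj hS hC hB hBC hb)))
  have d1 := dichotomy hS hA hB hC hBC hAC hb hb1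
  have d2 := dichotomy hS hC hB hA hAB hCA hb hb1
  rw [sup_comm C A', ← hX, ← hY] at *
  have hiff : ⁅A, C'⁆ = ⊥ ↔ ⁅C, A'⁆ = ⊥ := by
    rw [hC', hA', cj_bot_iff hS hA hB hC hBC hAC hb hb1, cj_bot_iff hS hC hB hA hAB hCA hb hb1]
    exact ⟨three hAC, three hCA⟩
  have hdisj : (IsMulCommutative X ∧ IsMulCommutative Y) ∨
      ((¬ IsMulCommutative X ∧ ⁅⁅X, X⁆, X⁆ = ⊥) ∧ (¬ IsMulCommutative Y ∧ ⁅⁅Y, Y⁆, Y⁆ = ⊥)) := by
    rcases d1 with ⟨h1, h2⟩ | ⟨h1, h2⟩ <;> rcases d2 with ⟨h1', h2'⟩ | ⟨h1', h2'⟩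
    · exact Or.inl ⟨h2, h2'⟩
    · exact absurd (hiff.mp h1) h1'
    · exact absurd (hiff.mpr h1') h1
    · exact Or.inr ⟨h2, h2'⟩
  set N := X ⊔ Y with hN
  -- other generators of `N`
  have hN4 : N = A ⊔ P ⊔ C ⊔ Q := by
    refine le_antisymm (sup_le (sup_le ?_ ?_) (sup_le ?_ ?_)) (sup_le (sup_le (sup_le ?_ ?_) ?_) ?_)
    · exact le_sup_left.trans (le_sup_left.trans le_sup_left)
    · exact (cj_le hb).trans (sup_le (le_sup_right.trans le_sup_left) le_sup_right)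
    · exact (cj_le hb).trans (le_sup_left.trans le_sup_left)
    · exact le_sup_right.trans le_sup_left
    · exact le_sup_left.trans le_sup_left
    · exact (comm_le_cj hS hA hB hAB hb hb1).trans
        (sup_le (le_sup_left.trans le_sup_left) (le_sup_left.trans le_sup_right))
    · exact le_sup_right.trans le_sup_right
    · exact (comm_le_cj hS hC hB hBC hb hb1).trans
        (sup_le (le_sup_right.trans le_sup_right) (le_sup_right.trans le_sup_left))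
  have hAN : A ≤ N := le_sup_left.trans le_sup_left
  have hCN : C ≤ N := le_sup_right.trans le_sup_right
  have hPN : P ≤ N := hN4 ▸ le_sup_right.trans (le_sup_left.trans le_sup_left)
  have hQN : Q ≤ N := hN4 ▸ le_sup_right
  have hBP : ⁅B, P⁆ = ⊥ := bot_comm (bot_mono le_rfl le_sup_left
    (comm_eq_bot_iff.mpr (commCase_of_mem hS hB hA hAB).2.1))
  have hBQ : ⁅B, Q⁆ = ⊥ := bot_comm (bot_mono le_rfl le_sup_left
    (comm_eq_bot_iff.mpr (commCase_of_mem hS hB hC hBC).2.1))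
  have hAP : ⁅A, P⁆ = ⊥ := bot_comm (bot_mono le_rfl le_sup_right
    (comm_eq_bot_iff.mpr (commCase_of_mem hS hB hA hAB).2.1))
  have hCQ : ⁅C, Q⁆ = ⊥ := bot_comm (bot_mono le_rfl le_sup_right
    (comm_eq_bot_iff.mpr (commCase_of_mem hS hB hC hBC).2.1))
  have hBN : B ≤ Subgroup.normalizer (N : Set G) :=
    norm_sup_four hN4 hPN (hBP.le.trans bot_le) hQN (hBQ.le.trans bot_le)
  have hRN : A ⊔ B ⊔ C ≤ Subgroup.normalizer (N : Set G) :=
    sup_le (sup_le (hAN.trans Subgroup.le_normalizer) hBN) (hCN.trans Subgroup.le_normalizer)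
  -- `N` has class at most two
  have hcl : ⁅⁅N, N⁆, N⁆ = ⊥ := by
    have hYX := bot_comm hXY
    have half : ∀ Z : Subgroup G, (⁅⁅Z, Z⁆, Z⁆ = ⊥ ∨ ⁅Z, Z⁆ = ⊥) → ⁅⁅Z, Z⁆, Z⁆ = ⊥ := by
      rintro Z (h | h)
      · exact h
      · rw [h, Subgroup.commutator_bot_left]
    have habel : ∀ Z : Subgroup G, IsMulCommutative Z → ⁅Z, Z⁆ = ⊥ := fun Z hZ =>
      comm_eq_bot_iff.mpr fun x hx y hy =>
        congrArg Subtype.val (hZ.is_comm.comm (⟨x, hx⟩ : Z) ⟨y, hy⟩)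
    obtain ⟨cX, cY⟩ : ⁅⁅X, X⁆, X⁆ = ⊥ ∧ ⁅⁅Y, Y⁆, Y⁆ = ⊥ := by
      rcases hdisj with ⟨h1, h2⟩ | ⟨⟨-, h1⟩, ⟨-, h2⟩⟩
      · exact ⟨half X (Or.inr (habel X h1)), half Y (Or.inr (habel Y h2))⟩
      · exact ⟨h1, h2⟩
    have hle : ∀ Z : Subgroup G, ⁅Z, Z⁆ ≤ Z := fun Z => Subgroup.commutator_le_self Z
    have hc : ⁅⁅X, X⁆ ⊔ ⁅Y, Y⁆, N⁆ = ⊥ :=
      sup_comm_bot (comm_bot_sup cX (bot_mono (hle X) le_rfl hXY))
        (comm_bot_sup (bot_mono (hle Y) le_rfl hYX) cY)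
    refine bot_mono ?_ le_rfl hc
    have hn : N ≤ Subgroup.normalizer ((⁅X, X⁆ ⊔ ⁅Y, Y⁆ : Subgroup G) : Set G) :=
      norm_of_comm (by rw [Subgroup.commutator_comm, hc]; exact bot_le)
    refine sup_comm_le (le_sup_left.trans hn) (le_sup_right.trans hn) ?_ ?_
    · exact comm_sup_le (le_sup_left.trans hn) (le_sup_right.trans hn) le_sup_left (hXY.le.trans bot_le)
    · exact comm_sup_le (le_sup_left.trans hn) (le_sup_right.trans hn) (hYX.le.trans bot_le) le_sup_right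
  refine ⟨hdisj, hXY, fun r hr => ?_, ?_, ?_⟩
  · exact CfsgLib.RootSub.cj_eq_self.mpr (hRN hr)
  · have hR : ∀ {D : Subgroup G}, D ≤ A ⊔ B ⊔ C → conjBy D b⁻¹ ≤ A ⊔ B ⊔ C := by
      rintro D hD _ ⟨x, hx, rfl⟩
      exact mul_mem (mul_mem (inv_mem (Subgroup.mem_sup_left (Subgroup.mem_sup_right hb))) (hD hx))
        (inv_mem (inv_mem (Subgroup.mem_sup_left (Subgroup.mem_sup_right hb))))
    refine le_antisymm (sup_le (sup_le ?_ ?_) (le_sup_right.trans le_sup_left))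
      (sup_le (sup_le (hAN.trans le_sup_left) le_sup_right) (hCN.trans le_sup_left))
    · exact sup_le (le_sup_left.trans le_sup_left) (hR le_sup_right)
    · exact sup_le (hR (le_sup_left.trans le_sup_left)) le_sup_right
  -- the series of `R`
  set R := A ⊔ B ⊔ C with hR
  set F := ⁅P, Q⁆ with hF
  set M := ⁅A, Q⁆ ⊔ ⁅C, P⁆ ⊔ F with hM
  set W := P ⊔ Q ⊔ M with hW
  have hcen : ∀ {K L : Subgroup G}, K ≤ N → L ≤ N → ⁅⁅K, L⁆, N⁆ = ⊥ := fun hK hL =>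
    bot_mono (Subgroup.commutator_mono hK hL) le_rfl hcl
  have hMcen : ⁅M, N⁆ = ⊥ :=
    sup_comm_bot (sup_comm_bot (hcen hAN hQN) (hcen hCN hPN)) (hcen hPN hQN)
  have hFB : ⁅F, B⁆ = ⊥ := by
    refine Subgroup.commutator_commutator_eq_bot_of_rotate ?_ ?_
    · rw [bot_comm hBQ, Subgroup.commutator_bot_left]
    · rw [hBP, Subgroup.commutator_bot_left]
  have hFR : ⁅F, R⁆ = ⊥ :=
    comm_bot_sup (comm_bot_sup (bot_mono le_rfl hAN (hcen hPN hQN)) hFB)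
      (bot_mono le_rfl hCN (hcen hPN hQN))
  have hFM : F ≤ M := le_sup_right
  -- `⁅M, B⁆ ≤ F`
  have hside : ∀ {D V : Subgroup G}, D ≤ N → V ≤ N → ⁅B, V⁆ = ⊥ →
      (∀ β ∈ B, ∀ d ∈ D, ∀ v ∈ V, ⁅⁅β, d⁆, v⁆ ∈ F) → ⁅⁅D, V⁆, B⁆ ≤ F := by
    intro D V hD hV hBV hF'
    rw [Subgroup.commutator_def D V]
    refine closure_comm_le ?_ ?_
    · rintro _ ⟨d, hd, v, hv, rfl⟩
      refine Subgroup.centralizer_le_normalizer _ (Subgroup.mem_centralizer_iff.mpr fun f hf => ?_)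
      exact comm_eq_bot_iff.mp (hcen hPN hQN) f hf _
        (Subgroup.commutator_le_self N (Subgroup.commutator_mem_commutator (hD hd) (hV hv)))
    · rintro _ ⟨d, hd, v, hv, rfl⟩ β hβ
      have hp := hF' β hβ d hd v hv
      set p := ⁅β, d⁆ with hpdef
      have hm : ⁅d, v⁆ ∈ ⁅N, N⁆ := Subgroup.commutator_mem_commutator (hD hd) (hV hv)
      have hpN : p ∈ N := by
        have hdN := hD hd
        rw [hpdef, commutatorElement_def]
        exact mul_mem ((Subgroup.mem_normalizer_iff.mp (hBN hβ) d).mp hdN) (inv_mem hdN)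
      have hmp : ⁅d, v⁆ * p = p * ⁅d, v⁆ := comm_eq_bot_iff.mp hcl _ hm p hpN
      have hvv : β * v * β⁻¹ = v := by
        rw [comm_eq_bot_iff.mp hBV β hβ v hv]; group
      have e : β * ⁅d, v⁆ * β⁻¹ = ⁅d, v⁆ * ⁅p, v⁆ := by
        calc β * ⁅d, v⁆ * β⁻¹ = ⁅β * d * β⁻¹, β * v * β⁻¹⁆ := by
              simp only [commutatorElement_def]; group
          _ = ⁅p * d, v⁆ := by
            rw [hvv, hpdef, show ⁅β, d⁆ * d = β * d * β⁻¹ by rw [commutatorElement_def]; group]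
          _ = p * ⁅d, v⁆ * p⁻¹ * ⁅p, v⁆ := by simp only [commutatorElement_def]; group
          _ = ⁅d, v⁆ * ⁅p, v⁆ := by rw [← hmp]; group
      have e2 : ⁅⁅d, v⁆, β⁆ = (⁅d, v⁆ * ⁅p, v⁆ * ⁅d, v⁆⁻¹)⁻¹ := by
        rw [← e]; simp only [commutatorElement_def]; group
      have hcm : ⁅d, v⁆ * ⁅p, v⁆ = ⁅p, v⁆ * ⁅d, v⁆ :=
        comm_eq_bot_iff.mp hcl _ hm _ (Subgroup.commutator_le_self N
          (Subgroup.commutator_mem_commutator hpN (hV hv)))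
      rw [e2, hcm, mul_inv_cancel_right]
      exact inv_mem hp
  have hFn : R ≤ Subgroup.normalizer (F : Set G) :=
    norm_of_comm (by rw [Subgroup.commutator_comm, hFR]; exact bot_le)
  have hMB : ⁅M, B⁆ ≤ F := by
    have hMn : M ≤ Subgroup.normalizer (F : Set G) :=
      norm_of_comm ((bot_mono (sup_le (sup_le (Subgroup.commutator_le.mpr fun _ _ _ _ => by
        simp only [commutatorElement_def]
        exact mul_mem (mul_mem (mul_mem (hAN ‹_›) (hQN ‹_›)) (inv_mem (hAN ‹_›))) (inv_mem (hQN ‹_›)))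
        (Subgroup.commutator_le.mpr fun _ _ _ _ => by
        simp only [commutatorElement_def]
        exact mul_mem (mul_mem (mul_mem (hCN ‹_›) (hPN ‹_›)) (inv_mem (hCN ‹_›))) (inv_mem (hPN ‹_›))))
        ((Subgroup.commutator_mono hPN hQN).trans (Subgroup.commutator_le_self N))) le_rfl
          (bot_comm (hcen hPN hQN))).le.trans bot_le)
    refine sup_comm_le ((le_sup_left.trans (le_refl M)).trans hMn) (le_sup_right.trans hMn)
      (sup_comm_le ((le_sup_left.trans le_sup_left).trans hMn) ((le_sup_right.trans le_sup_left).trans hMn)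
        ?_ ?_) (hFB.le.trans bot_le)
    · exact hside hAN hQN hBQ fun β hβ d hd v hv =>
        Subgroup.commutator_mem_commutator (Subgroup.commutator_mem_commutator hβ hd) hv
    · refine hside hCN hPN hBP fun β hβ d hd v hv => ?_
      rw [hF, Subgroup.commutator_comm]
      exact Subgroup.commutator_mem_commutator (Subgroup.commutator_mem_commutator hβ hd) hv
  have nsup : ∀ {W₀ : Subgroup G} {D : Subgroup G}, R ≤ Subgroup.normalizer (W₀ : Set G) →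
      ⁅D, A⁆ ≤ W₀ → ⁅D, B⁆ ≤ W₀ → ⁅D, C⁆ ≤ W₀ → ⁅D, R⁆ ≤ W₀ := fun hn h1 h2 h3 =>
    comm_sup_le (le_sup_left.trans hn) (le_sup_right.trans hn)
      (comm_sup_le ((le_sup_left.trans le_sup_left).trans hn)
        ((le_sup_right.trans le_sup_left).trans hn) h1 h2) h3
  have hMR : ⁅M, R⁆ ≤ F :=
    nsup hFn ((bot_mono le_rfl hAN hMcen).le.trans bot_le) hMB
      ((bot_mono le_rfl hCN hMcen).le.trans bot_le)
  have hMnR : R ≤ Subgroup.normalizer (M : Set G) :=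
    norm_of_comm (by rw [Subgroup.commutator_comm]; exact hMR.trans hFM)
  have hPR : ⁅P, R⁆ ≤ M :=
    nsup hMnR ((bot_comm hAP).le.trans bot_le) ((bot_comm hBP).le.trans bot_le)
      ((Subgroup.commutator_comm P C).le.trans (le_sup_right.trans le_sup_left))
  have hQR : ⁅Q, R⁆ ≤ M :=
    nsup hMnR ((Subgroup.commutator_comm Q A).le.trans (le_sup_left.trans le_sup_left))
      ((bot_comm hBQ).le.trans bot_le) ((bot_comm hCQ).le.trans bot_le)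
  have hleR : ∀ {K L : Subgroup G}, K ≤ R → L ≤ R → ⁅K, L⁆ ≤ R := fun hK hL =>
    (Subgroup.commutator_mono hK hL).trans (Subgroup.commutator_le_self R)
  have hA' : A ≤ R := le_sup_left.trans le_sup_left
  have hB' : B ≤ R := le_sup_right.trans le_sup_left
  have hC'' : C ≤ R := le_sup_right
  have hPR' : P ≤ R := hleR hB' hA'
  have hQR' : Q ≤ R := hleR hB' hC''
  have hMR' : M ≤ R := sup_le (sup_le (hleR hA' hQR') (hleR hC'' hPR')) (hleR hPR' hQR')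
  have hWR : ⁅W, R⁆ ≤ M :=
    sup_comm_le ((sup_le hPR' hQR').trans hMnR) (hMR'.trans hMnR)
      (sup_comm_le (hPR'.trans hMnR) (hQR'.trans hMnR) hPR hQR) (hMR.trans hFM)
  have hWn : R ≤ Subgroup.normalizer (W : Set G) :=
    norm_of_comm (by rw [Subgroup.commutator_comm]; exact hWR.trans le_sup_right)
  have hRR : ⁅R, R⁆ ≤ W := by
    have hPW : P ≤ W := le_sup_left.trans le_sup_left
    have hQW : Q ≤ W := le_sup_right.trans le_sup_left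
    refine sup_comm_le ((le_sup_left).trans hWn) (le_sup_right.trans hWn)
      (sup_comm_le (hA'.trans hWn) (hB'.trans hWn) ?_ ?_) ?_
    · exact nsup hWn ((self_bot hS hA).le.trans bot_le)
        ((Subgroup.commutator_comm A B).le.trans hPW) (hAC.le.trans bot_le)
    · exact nsup hWn hPW ((self_bot hS hB).le.trans bot_le) hQW
    · exact nsup hWn (hCA.le.trans bot_le)
        ((Subgroup.commutator_comm C B).le.trans hQW) ((self_bot hS hC).le.trans bot_le)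
  rw [Subgroup.isNilpotent_iff_lowerCentralSeries]
  refine ⟨4, le_bot_iff.mp ?_⟩
  simp only [Subgroup.lowerCentralSeries_succ, Subgroup.lowerCentralSeries_zero]
  calc ⁅⁅⁅⁅R, R⁆, R⁆, R⁆, R⁆ ≤ ⁅⁅⁅W, R⁆, R⁆, R⁆ :=
        Subgroup.commutator_mono (Subgroup.commutator_mono (Subgroup.commutator_mono hRR le_rfl) le_rfl) le_rfl
    _ ≤ ⁅⁅M, R⁆, R⁆ := Subgroup.commutator_mono (Subgroup.commutator_mono hWR le_rfl) le_rfl
    _ ≤ ⁅F, R⁆ := Subgroup.commutator_mono hMR le_rfl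
    _ = ⊥ := hFR

end Cfsg.Agent.S5030
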