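import Cfsg.Statements.S5031
import Cfsg.Agent.Lib.RootSub.Lines

set_option autoImplicit false
set_option linter.style.haveILetI false
open Cfsg

namespace Cfsg.Agent.S5031

theorem exists_adj {G : Type*} [Group G] {S : Set (Subgroup G)} {A A' : Subgroup G}
    (h : A' ∈ Cfsg.componentOf (Cfsg.FAdj S) S A) (hne : A' ≠ A) : ∃ P, Cfsg.FAdj S A P := by
  rcases Relation.ReflTransGen.cases_head h.2 with e | ⟨x, hx, -⟩
  · exact absurd e.symm hne
  · exact ⟨x, hx⟩

/-- Let S be a set of abstract root subgroups of G and let A, B ∈ S lie in different connected components of the graph of rank one pairs on S, each component having more than one member. Then B is not a line partner of A. -/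
theorem result {G : Type*} [Group G] {S : Set (Subgroup G)} (hS : Cfsg.IsRootSubgroupSet S)
    {A B : Subgroup G} (hA : A ∈ S) (hB : B ∈ S)
    (hne : Cfsg.componentOf (Cfsg.FAdj S) S A ≠ Cfsg.componentOf (Cfsg.FAdj S) S B)
    (hA2 : ∃ A' ∈ Cfsg.componentOf (Cfsg.FAdj S) S A, A' ≠ A) (hB2 : ∃ B' ∈ Cfsg.componentOf (Cfsg.FAdj S) S B, B' ≠ B) :
    B ∉ Cfsg.linePartners S A := by
  intro hline
  obtain ⟨⟨-, -, hcomm⟩, hle, hcov, hinf⟩ := hline
  obtain ⟨A', hA', hA'ne⟩ := hA2
  obtain ⟨B', hB', hB'ne⟩ := hB2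
  obtain ⟨P, hAP⟩ := exists_adj hA' hA'ne
  obtain ⟨Q, hBQ⟩ := exists_adj hB' hB'ne
  have hsym : ∀ {X Y : Subgroup G}, Cfsg.FAdj S X Y → Cfsg.FAdj S Y X := fun h =>
    ⟨h.2.1, h.1, CfsgLib.RootSub.pair_symm h.2.2⟩
  have hsymm : ∀ {u v : Subgroup G}, Relation.ReflTransGen (Cfsg.FAdj S) u v → Relation.ReflTransGen (Cfsg.FAdj S) v u := by
    intro u v h
    induction h with
    | refl => exact Relation.ReflTransGen.refl
    | tail _ hbc ih => exact (Relation.ReflTransGen.single (hsym hbc)).trans ih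
  have hnot : ¬ Relation.ReflTransGen (Cfsg.FAdj S) A B := fun h => hne (by
    ext c
    exact ⟨fun hc => ⟨hc.1, (hsymm h).trans hc.2⟩, fun hc => ⟨hc.1, h.trans hc.2⟩⟩)
  obtain ⟨a, ha, ha1⟩ := CfsgLib.RootSub.exists_ne_one hAP.2.2
  obtain ⟨b, hb, hb1⟩ := CfsgLib.RootSub.exists_ne_one hBQ.2.2
  have hab : a * b ≠ 1 := fun e => by
    rcases hS.pair A hA Q hBQ.2.1 with h | h
    all_goals
      have haB : a ∈ B := by
        rw [eq_inv_of_mul_eq_one_left e]
        exact inv_mem hb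
      have hBA : B = A := CfsgLib.RootSub.eq_of_pair hS hBQ.2.1 hBQ.2.2 hA haB ha1 ha
      exact hne (by rw [hBA])
  obtain ⟨C, hC, habC⟩ := hcov (a * b) (mul_mem (Subgroup.mem_sup_left ha) (Subgroup.mem_sup_right hb)) hab
  have hcommute : a * b = b * a := by
    have h1 := Subgroup.commutator_mem_commutator ha hb
    rw [hcomm, Subgroup.mem_bot] at h1
    exact (commutatorElement_eq_one_iff_mul_comm).mp h1
  -- the third member is opposite to both partners
  have hCP : Cfsg.IsRankOnePair C P := by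
    by_contra h
    refine CfsgLib.RootSub.two_nonpair hS hAP.2.1 hAP.2.2 hB hC.1 ha ha1 (inv_mem hb) habC
      (by rw [hcommute, inv_mul_cancel_left]) (fun h' => ?_) h
    exact hnot ((Relation.ReflTransGen.single hAP).tail ⟨hAP.2.1, hB, CfsgLib.RootSub.pair_symm h'⟩)
  have hCQ : Cfsg.IsRankOnePair C Q := by
    by_contra h
    refine CfsgLib.RootSub.two_nonpair hS hBQ.2.1 hBQ.2.2 hA hC.1 hb hb1 (inv_mem ha) habC
      (by rw [inv_mul_cancel_left]) (fun h' => ?_) h
    exact hnot ((Relation.ReflTransGen.single ⟨hA, hBQ.2.1, h'⟩).tail (hsym hBQ))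
  exact hnot ((((Relation.ReflTransGen.single hAP).tail ⟨hAP.2.1, hC.1, CfsgLib.RootSub.pair_symm hCP⟩).tail
    ⟨hC.1, hBQ.2.1, hCQ⟩).tail (hsym hBQ))

end Cfsg.Agent.S5031
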