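import Cfsg.Statements.S5032
import Cfsg.Agent.Lib.RootSub.Lines

set_option autoImplicit false
set_option linter.style.haveILetI false
open Cfsg

namespace Cfsg.Agent.S5032

/-- Let S be a set of abstract root subgroups of G with more than one member. Then the graph of rank one pairs on S is connected if and only if S is a single conjugacy class of G and some member of S has a rank one partner in S. -/
theorem result {G : Type*} [Group G] {S : Set (Subgroup G)} (hS : Cfsg.IsRootSubgroupSet S) (h2 : ∃ A ∈ S, ∃ B ∈ S, A ≠ B) :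
    Cfsg.IsConnectedFamily (Cfsg.FAdj S) S ↔
      (Cfsg.IsConjClassOfSubgroups S ∧ ∃ A ∈ S, ¬ Cfsg.IsIsolatedIn (Cfsg.FAdj S) S A) := by
  constructor
  · intro hc
    obtain ⟨A, hA, B, hB, hne⟩ := h2
    refine ⟨⟨⟨A, hA⟩, fun C hC E hE => ?_⟩, A, hA, fun hiso => ?_⟩
    · have hr := hc C hC E hE
      clear hE
      induction hr with
      | refl => exact ⟨1, (CfsgLib.RootSub.cj_one C).symm⟩
      | tail _ hbc ih =>
        obtain ⟨g, hg⟩ := ih
        obtain ⟨x, -, hx⟩ := CfsgLib.RootSub.right_mem_unip hbc.2.2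
        exact ⟨x * g, by rw [hx, hg, CfsgLib.RootSub.cj_cj]⟩
    · rcases Relation.ReflTransGen.cases_head (hc A hA B hB) with e | ⟨x, hx, -⟩
      · exact hne e
      · exact (hiso.2 x).1 hx
  · rintro ⟨⟨-, hconj⟩, A, hA, hnA⟩ C hC E hE
    obtain ⟨P, hP, hAP⟩ := CfsgLib.RootSub.exists_partner hnA hA
    obtain ⟨g, hg⟩ := hconj A hA C hC
    obtain ⟨g', hg'⟩ := hconj A hA E hE
    subst hg; subst hg'
    exact (CfsgLib.RootSub.reach_symm (CfsgLib.RootSub.reach_cj_all hS g ⟨hA, hP, hAP⟩)).trans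
      (CfsgLib.RootSub.reach_cj_all hS g' ⟨hA, hP, hAP⟩)

end Cfsg.Agent.S5032
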