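import Cfsg.Statements.S5035
import Cfsg.Agent.Lib.RootSub.Lines

set_option autoImplicit false
set_option linter.style.haveILetI false
open Cfsg

namespace Cfsg.Agent.S5035

theorem map_pair {G H : Type*} [Group G] [Group H] (f : G →* H) {A B : Subgroup G} (h : Cfsg.IsRankOnePair A B)
    (hab : IsMulCommutative A) (hne : A.map f ≠ B.map f) : Cfsg.RankOneCondition (A.map f) (B.map f) := by
  rintro _ ⟨a, ha, rfl⟩ h1
  obtain ⟨b, hb, -, e⟩ := h.cond_left a ha (fun e => h1 (by rw [e, map_one]))
  have hmap : ∀ (X : Subgroup G) (g : G), (Cfsg.conjBy X g).map f = Cfsg.conjBy (X.map f) (f g) := by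
    intro X g
    rw [Cfsg.conjBy, Cfsg.conjBy, Subgroup.map_map, Subgroup.map_map]
    congr 1
    ext x
    simp [MulAut.conj_apply]
  have e' := congrArg (Subgroup.map f) e
  rw [hmap, hmap, map_inv, map_inv] at e'
  refine ⟨f b, ⟨b, hb, rfl⟩, fun hb1 => hne ?_, e'⟩
  rw [hb1, inv_one, CfsgLib.RootSub.cj_one] at e'
  have h2 := congrArg (fun Y => Cfsg.conjBy Y (f a)) e'
  simp only [CfsgLib.RootSub.cj_cj, mul_inv_cancel, CfsgLib.RootSub.cj_one] at h2
  rw [CfsgLib.RootSub.cj_of_mem (show f a ∈ A.map f from ⟨a, ha, rfl⟩)] at h2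
  exact h2

theorem map_closure_comm {G H : Type*} [Group G] [Group H] (f : G →* H) (X : Subgroup G) (a : G) :
    (Subgroup.closure ((fun b : G => a * b * a⁻¹ * b⁻¹) '' (X : Set G))).map f =
      Subgroup.closure ((fun b : H => f a * b * (f a)⁻¹ * b⁻¹) '' ((X.map f : Subgroup H) : Set H)) := by
  rw [MonoidHom.map_closure, Subgroup.coe_map, Set.image_image, Set.image_image]
  simp

theorem map_closure_comm' {G H : Type*} [Group G] [Group H] (f : G →* H) (X : Subgroup G) (b : G) :
    (Subgroup.closure ((fun a : G => a * b * a⁻¹ * b⁻¹) '' (X : Set G))).map f =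
      Subgroup.closure ((fun a : H => a * f b * a⁻¹ * (f b)⁻¹) '' ((X.map f : Subgroup H) : Set H)) := by
  rw [MonoidHom.map_closure, Subgroup.coe_map, Set.image_image, Set.image_image]
  simp

/-- Let S be a set of abstract root subgroups of G whose graph of rank one pairs is connected, and f a homomorphism from G onto a group H. Then either the images of the members of S form a set of abstract root subgroups of H whose graph of rank one pairs is again connected, or H equals the image of a member of S. -/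
theorem result {G H : Type*} [Group G] [Group H] {S : Set (Subgroup G)} (hS : Cfsg.IsRootSubgroupSet S)
    (hc : Cfsg.IsConnectedFamily (Cfsg.FAdj S) S) (f : G →* H) (hf : Function.Surjective f) :
    (Cfsg.IsRootSubgroupSet ((fun A : Subgroup G => A.map f) '' S) ∧
      Cfsg.IsConnectedFamily (Cfsg.FAdj ((fun A : Subgroup G => A.map f) '' S)) ((fun A : Subgroup G => A.map f) '' S)) ∨
    ∃ A ∈ S, A.map f = ⊤ := by
  have hmap : ∀ (X : Subgroup G) (g : G), (Cfsg.conjBy X g).map f = Cfsg.conjBy (X.map f) (f g) := by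
    intro X g
    rw [Cfsg.conjBy, Cfsg.conjBy, Subgroup.map_map, Subgroup.map_map]
    congr 1
    ext x
    simp [MulAut.conj_apply]
  have hgen : (⨆ A ∈ S, A.map f) = ⊤ := by
    have h := congrArg (Subgroup.map f) hS.generates
    simp only [Subgroup.map_iSup, Subgroup.map_top_of_surjective f hf] at h
    exact h
  have himage : (⨆ B ∈ (fun A : Subgroup G => A.map f) '' S, B) = ⊤ := by
    rw [iSup_image]; exact hgen
  by_cases hbot : ∃ A ∈ S, A.map f = ⊥
  · -- all members are conjugate, so the image is trivial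
    right
    obtain ⟨A, hA, hA0⟩ := hbot
    have hall : ∀ B ∈ S, B.map f = ⊥ := by
      intro B hB
      have hr := hc A hA B hB
      clear hB
      induction hr with
      | refl => exact hA0
      | tail _ hbc ih =>
        obtain ⟨x, -, hx⟩ := CfsgLib.RootSub.right_mem_unip hbc.2.2
        rw [hx, hmap, ih, Cfsg.conjBy, Subgroup.map_bot]
    refine ⟨A, hA, ?_⟩
    rw [hA0, ← hgen, eq_comm, eq_bot_iff]
    exact iSup₂_le fun B hB => (hall B hB).le
  push Not at hbot
  left
  have hedge : ∀ A B : Subgroup G, A ∈ S → B ∈ S → Cfsg.IsRankOnePair A B → A.map f ≠ B.map f →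
      Cfsg.IsRankOnePair (A.map f) (B.map f) := by
    intro A B hA hB h hne
    haveI := hS.commutative A hA
    haveI := hS.commutative B hB
    exact ⟨hne, by open IsMulCommutative in infer_instance, by open IsMulCommutative in infer_instance,
      map_pair f h (hS.commutative A hA) hne, map_pair f (CfsgLib.RootSub.pair_symm h) (hS.commutative B hB) hne.symm⟩
  have hbotc : ∀ X : Subgroup G, IsMulCommutative X → IsMulCommutative ↥(X.map f) := by
    intro X hX
    refine ⟨⟨fun a b => Subtype.ext ?_⟩⟩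
    obtain ⟨x, hx, ex⟩ := a.2
    obtain ⟨y, hy, ey⟩ := b.2
    rw [Subgroup.coe_mul, Subgroup.coe_mul, ← ex, ← ey, ← map_mul, ← map_mul]
    exact congrArg f (congrArg Subtype.val (mul_comm' (⟨x, hx⟩ : X) ⟨y, hy⟩))
  refine ⟨⟨?_, ?_, himage, ?_, ?_⟩, ?_⟩
  · rintro _ ⟨A, hA, rfl⟩; exact hbotc A (hS.commutative A hA)
  · rintro _ ⟨A, hA, rfl⟩; exact hbot A hA
  · rintro _ ⟨A, hA, rfl⟩ g
    obtain ⟨g, rfl⟩ := hf g
    exact ⟨_, hS.conj_mem A hA g, hmap A g⟩
  · rintro _ ⟨A, hA, rfl⟩ _ ⟨B, hB, rfl⟩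
    dsimp only
    rcases hS.pair A hA B hB with h | h | h
    · left; rw [← Subgroup.map_commutator, h, Subgroup.map_bot]
    · by_cases hne : A.map f = B.map f
      · left
        rw [← hne, eq_bot_iff, Subgroup.commutator_le]
        intro x hx y hy
        haveI := hbotc A (hS.commutative A hA)
        rw [Subgroup.mem_bot, commutatorElement_eq_one_iff_mul_comm]
        exact congrArg Subtype.val (mul_comm' (⟨x, hx⟩ : ↥(A.map f)) ⟨y, hy⟩)
      · exact Or.inr (Or.inl (hedge A B hA hB h hne))
    · refine Or.inr (Or.inr ⟨?_, ?_, ?_, ?_⟩)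
      · rw [← Subgroup.map_commutator]; exact ⟨_, h.1, rfl⟩
      · rw [← Subgroup.map_commutator, ← Subgroup.map_sup]
        rintro _ ⟨c, hc, rfl⟩ _ ⟨x, hx, rfl⟩
        rw [← map_mul, ← map_mul, h.2.1 c hc x hx]
      · rintro _ ⟨a, ha, rfl⟩ h1
        rw [← map_closure_comm, h.2.2.1 a ha (fun e => h1 (by rw [e, map_one])), Subgroup.map_commutator]
      · rintro _ ⟨b, hb, rfl⟩ h1
        rw [← map_closure_comm', h.2.2.2 b hb (fun e => h1 (by rw [e, map_one])), Subgroup.map_commutator]
  · rintro _ ⟨A, hA, rfl⟩ _ ⟨B, hB, rfl⟩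
    have hr := hc A hA B hB
    clear hB
    induction hr with
    | refl => exact Relation.ReflTransGen.refl
    | @tail C E _ hbc ih =>
      by_cases hne : C.map f = E.map f
      · show Relation.ReflTransGen _ _ (E.map f)
        rw [← hne]; exact ih
      · exact ih.tail ⟨⟨C, hbc.1, rfl⟩, ⟨E, hbc.2.1, rfl⟩, hedge C E hbc.1 hbc.2.1 hbc.2.2 hne⟩

end Cfsg.Agent.S5035
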