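import Cfsg.Statements.S5036
import Cfsg.Agent.Lib.RootSub.Opposite

set_option autoImplicit false
set_option linter.style.haveILetI false
open Cfsg

namespace Cfsg.Agent.S5036

/-- Let S be a set of abstract root subgroups of G, A, B ∈ S with C = ⁅A, B⁆ ∈ S, and D ∈ S with ⁅D, C⁆ = A. Put X = ⟨B, D⟩ and N = AC. Then B, D form a rank one pair; the conjugates of A under X are the conjugates of C under X, namely the conjugates of A by elements of B together with C, equally the conjugates of C by elements of D together with A, and they partition N; and the centralizer of N in X is central in X. -/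
theorem result {G : Type*} [Group G] {S : Set (Subgroup G)} (hS : Cfsg.IsRootSubgroupSet S)
    {A B D : Subgroup G} (hA : A ∈ S) (hB : B ∈ S) (hC : ⁅A, B⁆ ∈ S) (hD : D ∈ S) (hDC : ⁅D, ⁅A, B⁆⁆ = A) :
    Cfsg.IsRankOnePair B D ∧
    {E | ∃ x ∈ B ⊔ D, E = Cfsg.conjBy A x} = {E | ∃ x ∈ B ⊔ D, E = Cfsg.conjBy ⁅A, B⁆ x} ∧
    {E | ∃ x ∈ B ⊔ D, E = Cfsg.conjBy A x} = (fun b : G => Cfsg.conjBy A b) '' (B : Set G) ∪ {⁅A, B⁆} ∧
    {E | ∃ x ∈ B ⊔ D, E = Cfsg.conjBy A x} = (fun d : G => Cfsg.conjBy ⁅A, B⁆ d) '' (D : Set G) ∪ {A} ∧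
    Cfsg.IsSubgroupPartition (A ⊔ ⁅A, B⁆) {E | ∃ x ∈ B ⊔ D, E = Cfsg.conjBy A x} ∧
    ∀ x ∈ (B ⊔ D) ⊓ Subgroup.centralizer ((A ⊔ ⁅A, B⁆ : Subgroup G) : Set G), ∀ y ∈ B ⊔ D, x * y = y * x := by
  have hp := CfsgLib.RootSub.opp_pair hS hA hB hC hD hDC
  have horb := CfsgLib.RootSub.orbit_eq_image hS hA hB hC hD hDC
  have hAB_D := CfsgLib.RootSub.fixed_D hS hA hB hC hD hDC
  have hAB_B := CfsgLib.RootSub.fixed_B hS hA hB hC hD hDC
  obtain ⟨x₀, hx₀, hx₀e⟩ : ∃ x ∈ B ⊔ D, Cfsg.conjBy A x = ⁅A, B⁆ := by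
    obtain ⟨x, hx, e⟩ := CfsgLib.RootSub.right_mem_unip (CfsgLib.RootSub.pair_symm hp)
    rw [sup_comm] at hx
    exact ⟨x, hx, by rw [← CfsgLib.RootSub.fixed_conj hS hA hB hC hD hDC hx, ← e, hAB_B]⟩
  have hsame : {E | ∃ x ∈ B ⊔ D, E = Cfsg.conjBy A x} = {E | ∃ x ∈ B ⊔ D, E = Cfsg.conjBy ⁅A, B⁆ x} := by
    ext E
    constructor
    · rintro ⟨x, hx, rfl⟩
      exact ⟨x * x₀⁻¹, mul_mem hx (inv_mem hx₀), by rw [← hx₀e, CfsgLib.RootSub.cj_cj, inv_mul_cancel_right]⟩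
    · rintro ⟨x, hx, rfl⟩
      exact ⟨x * x₀, mul_mem hx hx₀, by rw [← hx₀e, CfsgLib.RootSub.cj_cj]⟩
  have hcentA : ∀ d ∈ D, Cfsg.conjBy A d = A := fun d hd => by
    rw [CfsgLib.RootSub.cj_eq_self]
    exact Subgroup.centralizer_le_normalizer _ (Subgroup.mem_centralizer_iff.mpr fun a ha =>
      CfsgLib.RootSub.opp_comm_D hS hA hB hC hD hDC ha hd)
  refine ⟨hp, hsame, ?_, ?_, ⟨?_, ?_, ?_⟩, ?_⟩
  · ext E
    constructor
    · rintro ⟨x, hx, rfl⟩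
      have hU : Cfsg.conjBy D x ∈ Cfsg.unipotentSubgroups B D :=
        CfsgLib.RootSub.cj_mem_unip (CfsgLib.RootSub.right_mem_unip hp) hx
      rw [← CfsgLib.RootSub.fixed_conj hS hA hB hC hD hDC hx]
      rcases CfsgLib.RootSub.unip_B_cases hS hA hB hC hD hDC hU with h | ⟨b, hb, h⟩
      · exact Or.inr (by rw [h, hAB_B]; rfl)
      · exact Or.inl ⟨b, hb, by rw [h, CfsgLib.RootSub.fixed_conj hS hA hB hC hD hDC (Subgroup.mem_sup_left hb)]⟩
    · rintro (⟨b, hb, rfl⟩ | h)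
      · exact ⟨b, Subgroup.mem_sup_left hb, rfl⟩
      · exact ⟨x₀, hx₀, (Set.mem_singleton_iff.mp h).trans hx₀e.symm⟩
  · ext E
    constructor
    · rintro ⟨x, hx, rfl⟩
      have hU : Cfsg.conjBy D x ∈ Cfsg.unipotentSubgroups D B := by
        rw [← CfsgLib.RootSub.unip_symm hp]
        exact CfsgLib.RootSub.cj_mem_unip (CfsgLib.RootSub.right_mem_unip hp) hx
      rw [← CfsgLib.RootSub.fixed_conj hS hA hB hC hD hDC hx]
      rcases CfsgLib.RootSub.unip_cases (CfsgLib.RootSub.pair_symm hp) hU with h | ⟨d, hd, h⟩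
      · exact Or.inr (by rw [h, hAB_D]; rfl)
      · refine Or.inl ⟨d, hd, ?_⟩
        rw [h, CfsgLib.RootSub.fixedIn_cj _ _ (CfsgLib.RootSub.opp_cj_D hS hA hB hC hD hDC hd), hAB_B]
    · rintro (⟨d, hd, rfl⟩ | h)
      · exact ⟨d * x₀, mul_mem (Subgroup.mem_sup_right hd) hx₀, by
          show Cfsg.conjBy ⁅A, B⁆ d = _
          rw [← hx₀e, CfsgLib.RootSub.cj_cj]⟩
      · exact ⟨1, one_mem _, (Set.mem_singleton_iff.mp h).trans (CfsgLib.RootSub.cj_one A).symm⟩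
  · rintro E ⟨x, hx, rfl⟩
    rw [← CfsgLib.RootSub.fixed_conj hS hA hB hC hD hDC hx]
    exact inf_le_left
  · intro y hy _
    obtain ⟨a, ha, c, hc, rfl⟩ := CfsgLib.RootSub.opp_decomp hS hA hB hC hD hDC hy
    by_cases ha1 : a = 1
    · subst ha1
      exact ⟨_, ⟨x₀, hx₀, hx₀e.symm⟩, by rw [one_mul]; exact hc⟩
    · have hk := (CfsgLib.RootSub.opp_case hS hA hB hC hD hDC).1
      obtain ⟨b, hb, e⟩ := CfsgLib.RootSub.comm_eq hk ha ha1 (inv_mem hc)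
      refine ⟨Cfsg.conjBy A b, ⟨b, Subgroup.mem_sup_left hb, rfl⟩, ?_⟩
      have : a * c = b * a * b⁻¹ := by
        rw [CfsgLib.RootSub.opp_comm hS hA hB hC hD hDC ha hc, ← inv_inv c, ← e]
        simp only [commutatorElement_def]
        group
      rw [this]
      exact CfsgLib.RootSub.conj_mem_cj b ha
  · intro E hE E' hE' hne
    rw [horb] at hE hE'
    obtain ⟨U, hU, rfl⟩ := hE
    obtain ⟨V, hV, rfl⟩ := hE'
    exact CfsgLib.RootSub.fixed_inter hS hA hB hC hD hDC hU hV (fun e => hne (by rw [e]))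
  · rintro x ⟨hx, hxc⟩ y hy
    refine CfsgLib.RootSub.commute_of_fixes hp (fun U hU => ?_) hy
    by_contra hne
    have hU' := CfsgLib.RootSub.cj_mem_unip hU hx
    refine CfsgLib.RootSub.fixed_unip_mem hS hA hB hC hD hDC hU ?_
    have hint := CfsgLib.RootSub.fixed_inter hS hA hB hC hD hDC hU' hU hne
    have hle : CfsgLib.RootSub.fixedIn (A ⊔ ⁅A, B⁆) U ≤ A ⊔ ⁅A, B⁆ := inf_le_left
    have hfix : CfsgLib.RootSub.fixedIn (A ⊔ ⁅A, B⁆) (Cfsg.conjBy U x) = CfsgLib.RootSub.fixedIn (A ⊔ ⁅A, B⁆) U := by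
      rw [CfsgLib.RootSub.fixedIn_cj _ _ (CfsgLib.RootSub.opp_cj hS hA hB hC hD hDC hx), CfsgLib.RootSub.cj_eq_self]
      exact Subgroup.centralizer_le_normalizer _ (Subgroup.mem_centralizer_iff.mpr fun z hz =>
        Subgroup.mem_centralizer_iff.mp hxc z (hle hz))
    rwa [hfix, inf_idem] at hint

end Cfsg.Agent.S5036
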