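import Cfsg.Statements.S5037
import Cfsg.Agent.Lib.RootSub.CommonPartner
import Cfsg.Agent.Lib.RootSub.ClassBasic

set_option autoImplicit false
set_option linter.style.haveILetI false
open Cfsg

namespace Cfsg.Agent.S5037

open CfsgLib.RootSub
open scoped commutatorElement

theorem centr_commute {G : Type*} [Group G] {S : Set (Subgroup G)} {A B : Subgroup G} (hB : B ∈ S) :
    B ∈ Cfsg.centralizingMembers S A ↔ ∀ a ∈ A, ∀ b ∈ B, a * b = b * a :=
  ⟨fun h a ha b hb => Subgroup.mem_centralizer_iff.mp (h.2 hb) a ha,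
    fun h => ⟨hB, fun b hb => Subgroup.mem_centralizer_iff.mpr fun a ha => h a ha b hb⟩⟩

/-- Let S be a class of abstract root subgroups of G that is either degenerate or non-degenerate (so either the commutator case never occurs, or all three cases occur), and A ≠ C members of S. If every member of S commuting with A commutes with C, then A and C have the same commuting members of S; and if every rank one partner of A is a rank one partner of C, then A and C commute and have the same rank one partners. -/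
theorem result {G : Type*} [Group G] {S : Set (Subgroup G)} (hS : Cfsg.IsRootSubgroupClass S)
    (hdn : Cfsg.IsDegenerateRootSet S ∨ Cfsg.IsNondegenerateRootSet S)
    {A C : Subgroup G} (hA : A ∈ S) (hC : C ∈ S) (hAC : A ≠ C) :
    (Cfsg.centralizingMembers S A ⊆ Cfsg.centralizingMembers S C →
      Cfsg.centralizingMembers S A = Cfsg.centralizingMembers S C) ∧
    (Cfsg.rankOnePartners S A ⊆ Cfsg.rankOnePartners S C →
      ⁅A, C⁆ = ⊥ ∧ Cfsg.rankOnePartners S A = Cfsg.rankOnePartners S C) := by
  have hpart : ∀ Y ∈ S, ∃ P ∈ S, IsRankOnePair Y P := by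
    rcases hdn with hdeg | hnd
    · refine class_partner hS ?_
      by_contra hn
      push Not at hn
      have hc : ∀ X ∈ S, ∀ Y ∈ S, ∀ x ∈ X, ∀ y ∈ Y, x * y = y * x := fun X hX Y hY =>
        (member_cases hS.1 hX hY).resolve_right
          (fun h => h.elim (fun h => hn X hX Y hY h) (hdeg X hX Y hY))
      obtain ⟨g, hg⟩ := hS.2.2 A hA C hC
      refine hAC (Eq.trans ?_ hg.symm)
      refine (cj_eq_self.mpr (Subgroup.centralizer_le_normalizer _ ?_)).symm
      have hle : (⨆ X ∈ S, X) ≤ Subgroup.centralizer (A : Set G) := iSup₂_le fun X hX x hx =>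
        Subgroup.mem_centralizer_iff.mpr fun a ha => hc A hA X hX a ha x hx
      rw [hS.1.generates] at hle
      exact hle (Subgroup.mem_top g)
    · exact class_partner hS hnd.2.1
  have not_comm : ∀ {X Y : Subgroup G}, IsRankOnePair X Y → ¬ ∀ x ∈ X, ∀ y ∈ Y, x * y = y * x :=
    fun h hc => not_centralizes h hc
  have hAself : A ∈ Cfsg.centralizingMembers S A := by
    haveI := hS.1.commutative A hA
    exact (centr_commute hA).mpr fun a ha b hb =>
      congrArg Subtype.val (mul_comm' (⟨a, ha⟩ : A) ⟨b, hb⟩)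
  constructor
  · intro hsub
    have hcomm : ∀ a ∈ A, ∀ c ∈ C, a * c = c * a := fun a ha c hc =>
      ((centr_commute hA).mp (hsub hAself) c hc a ha).symm
    obtain ⟨Q, hQ, hCQ⟩ := hpart C hC
    obtain ⟨M, -, hAM, hCM⟩ : ∃ M ∈ S, IsRankOnePair A M ∧ IsRankOnePair C M := by
      rcases member_cases hS.1 hA hQ with h | h | h
      · exact absurd ((centr_commute hQ).mp (hsub ((centr_commute hQ).mpr h))) (not_comm hCQ)
      · exact ⟨Q, hQ, h, hCQ⟩
      · exact common_partner hS.1 hpart hA hC hQ hCQ h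
    refine Set.Subset.antisymm hsub (swap_of_invariant hcomm hAM hCM
      (fun X Y => Cfsg.centralizingMembers S X ⊆ Cfsg.centralizingMembers S Y) ?_ hsub)
    intro X Y g h Z hZ
    have hZ' : conjBy Z g⁻¹ ∈ Cfsg.centralizingMembers S X := by
      refine (centr_commute (hS.1.conj_mem Z hZ.1 _)).mpr ?_
      have h1 := commute_cj ((centr_commute hZ.1).mp hZ) g⁻¹
      rwa [cj_cj, inv_mul_cancel, cj_one] at h1
    have h2 := commute_cj ((centr_commute hZ'.1).mp (h hZ')) g
    rw [cj_cj, mul_inv_cancel, cj_one] at h2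
    exact (centr_commute hZ.1).mpr h2
  · intro hsub
    have hcomm : ∀ a ∈ A, ∀ c ∈ C, a * c = c * a := by
      rcases member_cases hS.1 hA hC with h | h | h
      · exact h
      · exact absurd (hsub ⟨hC, h⟩).2.ne fun e => e rfl
      · exfalso
        obtain ⟨D, hD, -, hDL, hAD⟩ := exists_opposite hS.1 hpart hC hA (commCase_symm h)
        exact not_comm (hsub ⟨hD, hAD⟩).2 (line_comm hDL)
    refine ⟨?_, ?_⟩
    · rw [eq_bot_iff, Subgroup.commutator_le]
      intro a ha c hc
      rw [Subgroup.mem_bot, commutatorElement_eq_one_iff_mul_comm]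
      exact hcomm a ha c hc
    obtain ⟨Q, hQ, hAQ⟩ := hpart A hA
    refine Set.Subset.antisymm hsub (swap_of_invariant hcomm hAQ (hsub ⟨hQ, hAQ⟩).2
      (fun X Y => Cfsg.rankOnePartners S X ⊆ Cfsg.rankOnePartners S Y) ?_ hsub)
    intro X Y g h Z hZ
    have h1 := pair_cj hZ.2 g⁻¹
    rw [cj_cj, inv_mul_cancel, cj_one] at h1
    have h2 := pair_cj (h ⟨hS.1.conj_mem Z hZ.1 _, h1⟩).2 g
    rw [cj_cj (Z), mul_inv_cancel, cj_one] at h2
    exact ⟨hZ.1, h2⟩

end Cfsg.Agent.S5037
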