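import Cfsg.Statements.S5039
import Cfsg.Agent.Lib.RootSub.CommSpecial
import Cfsg.Agent.Lib.RootSub.Lines
import Cfsg.Agent.Lib.RootSub.Special
import Cfsg.Agent.S5034

set_option autoImplicit false
set_option linter.style.haveILetI false
universe u
open Cfsg

namespace Cfsg.Agent.S5039

open CfsgLib.RootSub

/-- Let S be a class of abstract root subgroups of G containing two different commuting members. Suppose that, in case S is degenerate and every element of every member of S has order at most 3, the following holds: for every A ∈ S and every rank one partner B of A there are subgroups A₀ ≤ A and B₀ ≤ B generating an image of SL₂(k) with central kernel, k a field with at least four elements, A₀ and B₀ being the images of the unitriangular subgroups. Then every rank one pair A, B in S is special. -/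
theorem result {G : Type u} [Group G] {S : Set (Subgroup G)} (hS : Cfsg.IsRootSubgroupClass S)
    (hcomm : ∃ A ∈ S, ∃ C ∈ S, A ≠ C ∧ ⁅A, C⁆ = ⊥)
    (hH : Cfsg.IsDegenerateRootSet S → (∀ A ∈ S, ∀ a ∈ A, 0 < orderOf a ∧ orderOf a ≤ 3) →
      ∀ A ∈ S, ∀ B ∈ Cfsg.rankOnePartners S A, ∃ A₀ B₀ : Subgroup G, A₀ ≤ A ∧ B₀ ≤ B ∧
        ∃ (k : Type u) (_ : Field k), 3 < ENat.card k ∧ Cfsg.IsPSL2PairOver k A₀ B₀)
    {A B : Subgroup G} (hA : A ∈ S) (hB : B ∈ Cfsg.rankOnePartners S A) : Cfsg.IsSpecialRankOnePair A B := by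
  by_cases hdeg : Cfsg.IsDegenerateRootSet S
  swap
  · have hnd : Cfsg.IsNondegenerateRootSet S := by
      refine ⟨hcomm, ⟨A, hA, B, hB.1, hB.2⟩, ?_⟩
      simp only [Cfsg.IsDegenerateRootSet, not_forall, not_not] at hdeg
      obtain ⟨U, hU, V, hV, h⟩ := hdeg
      exact ⟨U, hU, V, hV, h⟩
    exact (Cfsg.Agent.S5034.result hS hnd hA hB).2
  haveI := hS.1.commutative A hA
  haveI := hS.1.commutative B hB.1
  have cases2 : ∀ U ∈ S, ∀ V ∈ S, ¬ IsRankOnePair U V → ∀ u ∈ U, ∀ v ∈ V, u * v = v * u := fun U hU V hV hn =>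
    (member_cases hS.1 hU hV).resolve_right (fun h => h.elim hn (hdeg U hU V hV))
  by_cases hg : ∃ C ∈ S, C ≠ A ∧ (∀ a ∈ A, ∀ c ∈ C, a * c = c * a) ∧ IsRankOnePair C B
  · obtain ⟨C, -, hne, hc, hp⟩ := hg
    exact special_of_commuting hc hne hB.2 hp
  by_cases hg' : ∃ C ∈ S, C ≠ B ∧ (∀ b ∈ B, ∀ c ∈ C, b * c = c * b) ∧ IsRankOnePair C A
  · obtain ⟨C, -, hne, hc, hp⟩ := hg'
    exact special_symm (special_of_commuting hc hne (pair_symm hB.2) hp)
  have hbad : ∀ Z ∈ S, Z ≠ B → (∀ b ∈ B, ∀ z ∈ Z, b * z = z * b) → ∀ a ∈ A, ∀ z ∈ Z, a * z = z * a :=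
    fun Z hZ hne hc a ha z hz => (cases2 Z hZ A hA (fun h => hg' ⟨Z, hZ, hne, hc, h⟩) z hz a ha).symm
  -- two commuting members with a common partner
  obtain ⟨C, hC, R, hR, hne, hc, hpB, hpC⟩ : ∃ C ∈ S, ∃ R ∈ S, C ≠ B ∧ (∀ b ∈ B, ∀ c ∈ C, b * c = c * b) ∧
      IsRankOnePair B R ∧ IsRankOnePair C R := by
    by_contra hno
    obtain ⟨X, hX, Y, hY, hXY, hXYc⟩ := hcomm
    have key : ∀ W : Subgroup G, Relation.ReflTransGen (FAdj S) X W → W = X ∨ IsRankOnePair X W := by
      intro W hW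
      induction hW with
      | refl => exact Or.inl rfl
      | @tail W V hXW hWV ih =>
        rcases ih with rfl | hp
        · exact Or.inr hWV.2.2
        by_contra hn
        obtain ⟨hVX, hn⟩ := not_or.mp hn
        obtain ⟨g, hg⟩ := hS.2.2 X hX B hB.1
        refine hno ⟨conjBy V g, hS.1.conj_mem V hWV.2.1 g, conjBy W g, hS.1.conj_mem W hWV.1 g, ?_, ?_, ?_,
          pair_cj (pair_symm hWV.2.2) g⟩
        · rw [hg]; exact fun e => hVX (cj_inj e)
        · rw [hg]; exact commute_cj (cases2 X hX V hWV.2.1 hn) g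
        · rw [hg]; exact pair_cj hp g
    obtain ⟨g, hg⟩ := hS.2.2 A hA X hX
    obtain ⟨g', hg'⟩ := hS.2.2 A hA Y hY
    have hr : Relation.ReflTransGen (FAdj S) X Y := by
      rw [hg, hg']
      exact (reach_symm (reach_cj_all hS.1 g ⟨hA, hB.1, hB.2⟩)).trans (reach_cj_all hS.1 g' ⟨hA, hB.1, hB.2⟩)
    rcases key Y hr with e | e
    · exact hXY e.symm
    · refine not_centralizes e fun x hx y hy => ?_
      have h := Subgroup.commutator_mem_commutator hx hy
      rw [hXYc, Subgroup.mem_bot, commutatorElement_eq_one_iff_mul_comm] at h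
      exact h
  have hsmall : ∀ x ∈ B, ∀ d ∈ B, x ≠ 1 → x * x ≠ 1 → d ≠ 1 → d * x ≠ 1 → d * (x * x) ≠ 1 → False :=
    fun x hx d hd h1 h2 h3 h4 h5 => not_centralizes hB.2
      (commute_of_translations hS.1 hB.1 hR hc hne hC hpB hpC hbad hx hd h1 h2 h3 h4 h5)
  obtain ⟨g, hg⟩ := hS.2.2 B hB.1 A hA
  have hmove : ∀ a ∈ A, g⁻¹ * a * g ∈ B := fun a ha => by rw [hg] at ha; exact mem_cj.mp ha
  refine special_of_inv hB.2 fun a ha ha1 b hb hb1 e => ?_
  by_cases hb2 : b * b = 1
  · have ha2 : a * a = 1 := by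
      by_contra h2
      have h2' : (g⁻¹ * a * g) * (g⁻¹ * a * g) ≠ 1 := fun h => h2 (by
        calc a * a = g * ((g⁻¹ * a * g) * (g⁻¹ * a * g)) * g⁻¹ := by group
          _ = 1 := by rw [h]; group)
      set x := g⁻¹ * a * g with hx
      have hx1 : x ≠ 1 := fun h => h2' (by rw [h, mul_one])
      by_cases hx3 : x * (x * x) = 1
      · refine hsmall x (hmove a ha) b hb hx1 h2' hb1 ?_ ?_
        · intro h
          have : b = x⁻¹ := eq_inv_of_mul_eq_one_left h
          rw [this, ← mul_inv_rev, inv_eq_one] at hb2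
          exact h2' hb2
        · intro h
          have h' : b = x := (eq_inv_of_mul_eq_one_left h).trans (eq_inv_of_mul_eq_one_left hx3).symm
          rw [h'] at hb2
          exact h2' hb2
      · exact hsmall x (hmove a ha) x (hmove a ha) hx1 h2' hx1 h2' hx3
    rwa [inv_eq_of_mul_eq_one_left hb2, inv_eq_of_mul_eq_one_left ha2] at e
  · have hb3 : b * (b * b) = 1 := by
      by_contra h3
      exact hsmall b hb b hb hb1 hb2 hb1 hb2 h3
    have hall : ∀ y ∈ B, y = 1 ∨ y = b ∨ y = b⁻¹ := by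
      intro y hy
      by_contra h
      simp only [not_or] at h
      refine hsmall b hb y hy hb1 hb2 h.1 (fun h' => h.2.2 (eq_inv_of_mul_eq_one_left h')) fun h' => h.2.1 ?_
      exact (eq_inv_of_mul_eq_one_left h').trans (eq_inv_of_mul_eq_one_left hb3).symm
    have hA3 : ∀ z ∈ A, z ≠ 1 → z = a ∨ z = a⁻¹ := by
      intro z hz hz1
      have back : ∀ {s t : G}, g⁻¹ * s * g = t → s = g * t * g⁻¹ := fun h => by rw [← h]; group
      have ne1 : ∀ {s : G}, s ≠ 1 → g⁻¹ * s * g ≠ 1 := fun {s} h1 h => h1 (by rw [back h]; group)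
      rcases hall _ (hmove z hz) with h | h | h <;> rcases hall _ (hmove a ha) with h' | h' | h'
      all_goals first
        | exact absurd h (ne1 hz1)
        | exact absurd h' (ne1 ha1)
        | (rw [back h, back h']; first | exact Or.inl rfl | exact Or.inr (by group))
    obtain ⟨a₂, ha₂, ha₂1, e₂⟩ := hB.2.cond_right b⁻¹ (inv_mem hb) (inv_ne_one.mpr hb1)
    rw [inv_inv] at e₂
    rcases hA3 a₂ ha₂ ha₂1 with rfl | rfl
    · exact absurd (eq_one_of_cj_eq hB.2 (inv_mem hb) hb (e.trans e₂)) (fun h => hb2 (by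
        calc b * b = b⁻¹ * b := by rw [h]
          _ = 1 := inv_mul_cancel b))
    · rwa [inv_inv, eq_comm] at e₂

end Cfsg.Agent.S5039
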