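import Cfsg.Statements.S5041
import Cfsg.Agent.Lib.RootSub.ClassBasic

set_option autoImplicit false
set_option linter.style.haveILetI false
open Cfsg

namespace Cfsg.Agent.S5041

open CfsgLib.RootSub

/-- Let S be a non-degenerate class of abstract root subgroups of G. Then the graph on S joining A to its line partners, and the commuting graph on S, are both connected. -/
theorem result {G : Type*} [Group G] {S : Set (Subgroup G)} (hS : Cfsg.IsRootSubgroupClass S) (hnd : Cfsg.IsNondegenerateRootSet S) :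
    Cfsg.IsConnectedFamily (Cfsg.EAdj S S) S ∧ Cfsg.IsConnectedFamily (Cfsg.DAdj S) S := by
  have hE : ∀ A B : Subgroup G, FAdj S A B → Relation.ReflTransGen (EAdj S S) A B := by
    rintro A B ⟨hA, hB, hp⟩
    obtain ⟨E, hE, -, hk, -, -⟩ := nondeg_pair hS hnd hA hB hp
    obtain ⟨P, hP, hEP⟩ := class_partner hS hnd.2.1 E hE.1.1
    obtain ⟨P', hP', hBP⟩ := class_partner hS hnd.2.1 B hB
    have h1 : ⁅E, B⁆ ∈ linePartners S E :=
      line_symm hk.1 (mem_linePartners hS.1 hP hEP hE.1.1 hB hk)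
    have hk' := commCase_symm hk
    have h2 : B ∈ linePartners S ⁅E, B⁆ := by
      have := mem_linePartners hS.1 hP' hBP hB hE.1.1 hk'
      rwa [Subgroup.commutator_comm] at this
    exact ((Relation.ReflTransGen.single ⟨hA, hE.1.1, hE⟩).tail ⟨hE.1.1, hk.1, h1⟩).tail ⟨hk.1, hB, h2⟩
  have hF : IsConnectedFamily (FAdj S) S := by
    intro C hC E hE
    obtain ⟨A, hA, P, hP, hAP⟩ := hnd.2.1
    obtain ⟨g, hg⟩ := hS.2.2 A hA C hC
    obtain ⟨g', hg'⟩ := hS.2.2 A hA E hE
    subst hg; subst hg'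
    exact (reach_symm (reach_cj_all hS.1 g ⟨hA, hP, hAP⟩)).trans (reach_cj_all hS.1 g' ⟨hA, hP, hAP⟩)
  have hEc : IsConnectedFamily (EAdj S S) S := by
    intro A hA B hB
    have h := hF A hA B hB
    clear hB
    induction h with
    | refl => exact Relation.ReflTransGen.refl
    | tail _ hbc ih => exact ih.trans (hE _ _ hbc)
  refine ⟨hEc, fun A hA B hB => ?_⟩
  have h := hEc A hA B hB
  clear hA hB
  induction h with
  | refl => exact Relation.ReflTransGen.refl
  | tail _ hbc ih => exact ih.tail ⟨hbc.1, hbc.2.1, hbc.2.2.1.2.1.symm, hbc.2.2.1.2.2⟩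

end Cfsg.Agent.S5041
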