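import Cfsg.Statements.S5042
import Cfsg.Agent.Lib.RootSub.ClassBasic
import Cfsg.Agent.S5041

set_option autoImplicit false
set_option linter.style.haveILetI false
open Cfsg

namespace Cfsg.Agent.S5042

open CfsgLib.RootSub
open scoped commutatorElement

variable {G : Type*} [Group G] {S : Set (Subgroup G)}

theorem line_span (hS : IsRootSubgroupSet S) (hpart : ∀ Y ∈ S, ∃ P ∈ S, IsRankOnePair Y P)
    {A B C D : Subgroup G} (hA : A ∈ S) (hB : B ∈ linePartners S A) (hC : C ∈ membersIn S (A ⊔ B))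
    (hD : D ∈ membersIn S (A ⊔ B)) (hne : C ≠ D) : C ⊔ D = A ⊔ B ∧ D ∈ linePartners S C := by
  obtain ⟨x, hx, e1, e2⟩ := line_two_transitive hS hpart hA hB ⟨hA, le_sup_left⟩ ⟨hB.1.1, le_sup_right⟩
    hC hD hB.1.2.1.symm hne
  have hsup : C ⊔ D = A ⊔ B := by rw [← e1, ← e2, ← cj_sup, normGen_fix hS hx]
  refine ⟨hsup, ⟨hD.1, hne.symm, ?_⟩, by rw [hsup]; exact hB.2⟩
  rw [eq_bot_iff, Subgroup.commutator_le]
  intro c hc d hd
  rw [Subgroup.mem_bot, commutatorElement_eq_one_iff_mul_comm]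
  exact members_commute hS hpart hA hB hC.2 hD.2 c hc d hd

theorem comm_moves (hS : IsRootSubgroupSet S) (hpart : ∀ Y ∈ S, ∃ P ∈ S, IsRankOnePair Y P)
    {K L : Subgroup G} (hK : K ∈ S) (hL : L ∈ S) (h : RootCommutatorCase S K L) {y : G} (hy : y ∈ L)
    (hy1 : y ≠ 1) : conjBy K y ≠ K := by
  intro e
  obtain ⟨P, hP, hKP⟩ := hpart K hK
  obtain ⟨k, hk, hk1⟩ := exists_ne_one hKP
  have h1 : ⁅k, y⁆ ≠ 1 := comm_ne_one hS hP hKP hK hL h hk hk1 hy hy1
  have h2 : ⁅k, y⁆ ∈ K := by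
    rw [show ⁅k, y⁆ = k * (y * k⁻¹ * y⁻¹) by rw [commutatorElement_def]; group]
    exact mul_mem hk (e ▸ conj_mem_cj y (inv_mem hk))
  exact ne_commutator hS hP hKP h
    (members_eq hS hpart hK h.1 h1 h2 (Subgroup.commutator_mem_commutator hk hy))

theorem cj_le_of_mem {X U : Subgroup G} (h : X ≤ U) {g : G} (hg : g ∈ U) : conjBy X g ≤ U := by
  intro z hz
  rw [mem_cj] at hz
  have h1 := mul_mem (mul_mem hg (h hz)) (inv_mem hg)
  simpa [mul_assoc] using h1

/-- Let S be a non-degenerate class of abstract root subgroups of G, A ∈ S and B a rank one partner of A. Then G is generated by the line partners of A together with B. -/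
theorem result {G : Type*} [Group G] {S : Set (Subgroup G)} (hS : Cfsg.IsRootSubgroupClass S) (hnd : Cfsg.IsNondegenerateRootSet S)
    {A B : Subgroup G} (hA : A ∈ S) (hB : B ∈ Cfsg.rankOnePartners S A) :
    (⨆ C ∈ Cfsg.linePartners S A, C) ⊔ B = ⊤ := by
  set U := (⨆ C ∈ Cfsg.linePartners S A, C) ⊔ B with hU
  have hpart := class_partner hS hnd.2.1
  have step : ∀ X Y : Subgroup G, X ∈ S → (∀ Z ∈ linePartners S X, Z ≤ U) →
      (∃ P ∈ S, IsRankOnePair X P ∧ P ≤ U) → Y ∈ linePartners S X →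
      X ≤ U ∧ (∀ Z ∈ linePartners S Y, Z ≤ U) ∧ (∃ P ∈ S, IsRankOnePair Y P ∧ P ≤ U) := by
    intro X Y hX hL ⟨P, hP, hXP, hPU⟩ hY
    obtain ⟨E, hE, hEX, -, hk, hj, heq, hN⟩ := line_struct hS.1 hpart hX hY hP hXP
    have hEL : E ∈ linePartners S X := (line_span hS.1 hpart hX hY ⟨hX, le_sup_left⟩ hE hEX.symm).2
    have hEU : E ≤ U := hL E hEL
    have hFU : ⁅E, P⁆ ≤ U := Subgroup.commutator_le.mpr fun e he p hp => by
      rw [commutatorElement_def]
      exact mul_mem (mul_mem (mul_mem (hEU he) (hPU hp)) (inv_mem (hEU he))) (inv_mem (hPU hp))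
    have horb : ∀ C ∈ membersIn S (X ⊔ Y), C ≠ E → ∃ x ∈ ⁅E, P⁆, C = conjBy X x := by
      intro C hC hne
      have hmem : C ∈ membersIn S (X ⊔ ⁅X, ⁅E, P⁆⁆) := by rw [heq, hN]; exact hC
      rw [membersIn_eq hS.1 hP hXP hX hk.1 hj] at hmem
      rcases hmem with ⟨x, hx, e⟩ | hmem
      · exact ⟨x, hx, e.symm⟩
      · rw [Set.mem_singleton_iff, heq] at hmem
        exact absurd hmem hne
    -- the line partner `D` of `X` moving `E` along the line
    obtain ⟨Q, hQ, hEQ⟩ := hpart E hE.1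
    have hXin : X ∈ membersIn S (X ⊔ Y) := ⟨hX, le_sup_left⟩
    obtain ⟨hsupEX, hXE⟩ := line_span hS.1 hpart hX hY hE hXin hEX
    obtain ⟨E', hE', hE'E, -, hk', hj', heq', hN'⟩ := line_struct hS.1 hpart hE.1 hXE hQ hEQ
    obtain ⟨z, hz, ez1, ez2⟩ := line_two_transitive hS.1 hpart hE.1 hXE ⟨hE.1, le_sup_left⟩ hE'
      ⟨hE.1, le_sup_left⟩ ⟨hX, le_sup_right⟩ hE'E.symm hEX
    obtain ⟨D, hD, hED⟩ : ∃ D, D ∈ S ∧ ⁅E, D⁆ = X := by
      refine ⟨conjBy ⁅E', Q⁆ z, hS.1.conj_mem _ hk'.1 z, ?_⟩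
      calc ⁅E, conjBy ⁅E', Q⁆ z⁆ = ⁅conjBy E z, conjBy ⁅E', Q⁆ z⁆ := by rw [ez1]
        _ = X := by rw [conjBy, conjBy, ← Subgroup.map_commutator, heq']; exact ez2
    have hkD : RootCommutatorCase S E D := commCase_of_mem hS.1 hE.1 hD (by rw [hED]; exact hX)
    obtain ⟨R, hR, hDR⟩ := hpart D hD
    have hDL : D ∈ linePartners S X := by
      have h := mem_linePartners hS.1 hR hDR hD hE.1 (commCase_symm hkD)
      rw [Subgroup.commutator_comm, hED] at h
      exact h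
    obtain ⟨y, hy, hy1⟩ := exists_ne_one hDR
    obtain ⟨x, hx, ex⟩ := horb (conjBy E y) ⟨hS.1.conj_mem E hE.1 y, by
      refine (cj_le_sup hS.1 hkD hy).trans ?_
      rw [hED, hsupEX]⟩ (comm_moves hS.1 hpart hE.1 hD hkD hy hy1)
    have hEu : E = conjBy X (y⁻¹ * x) := by
      rw [← cj_cj, ← ex, cj_cj, inv_mul_cancel, cj_one]
    obtain ⟨u, hu, rfl⟩ : ∃ u ∈ U, Y = conjBy X u := by
      by_cases e : Y = E
      · exact ⟨y⁻¹ * x, mul_mem (inv_mem (hL D hDL hy)) (hFU hx), e.trans hEu⟩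
      · obtain ⟨x', hx', e'⟩ := horb Y ⟨hY.1.1, le_sup_right⟩ e
        exact ⟨x', hFU hx', e'⟩
    obtain ⟨Q', hQ', hFQ⟩ := hpart _ hk.1
    obtain ⟨w, hw, hw1⟩ := exists_ne_one hFQ
    have hWne : conjBy X w ≠ X := comm_moves hS.1 hpart hX hk.1 hj hw hw1
    have hWin : conjBy X w ∈ membersIn S (X ⊔ conjBy X u) := by
      refine ⟨hS.1.conj_mem X hX w, ?_⟩
      rw [← hN]
      exact (cj_le_sup hS.1 hj hw).trans_eq (by rw [heq])
    refine ⟨?_, fun Z hZ => ?_, conjBy P u, hS.1.conj_mem P hP u, pair_cj hXP u, cj_le_of_mem hPU hu⟩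
    · have hWL := (line_span hS.1 hpart hX hY hXin hWin hWne.symm).2
      have hWE : conjBy X w ≠ E := fun e => by
        have h2 : conjBy E w = E := by
          have h := cj_commutator hS.1 hP hXP hX hk.1 hj hw
          rwa [heq] at h
        exact hEX (cj_inj (h2.trans e.symm))
      have h := (line_span hS.1 hpart hX hY hWin hE hWE).1
      exact le_trans (le_trans le_sup_left h.ge) (sup_le (hL _ hWL) hEU)
    · have h := linePartners_cj hS.1 hZ u⁻¹
      rw [cj_cj, inv_mul_cancel, cj_one] at h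
      have h2 := cj_le_of_mem (hL _ h) hu
      rwa [cj_cj, mul_inv_cancel, cj_one] at h2
  have hall : ∀ X ∈ S, (∀ Z ∈ linePartners S X, Z ≤ U) ∧ (∃ P ∈ S, IsRankOnePair X P ∧ P ≤ U) := by
    intro X hX
    have h := (Cfsg.Agent.S5041.result hS hnd).1 A hA X hX
    clear hX
    induction h with
    | refl =>
      exact ⟨fun Z hZ => le_trans (le_iSup₂ (f := fun C (_ : C ∈ linePartners S A) => C) Z hZ) le_sup_left,
        B, hB.1, hB.2, le_sup_right⟩
    | tail _ hbc ih => exact (step _ _ hbc.1 ih.1 ih.2 hbc.2.2).2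
  rw [eq_top_iff, ← hS.1.generates]
  refine iSup₂_le fun X hX => ?_
  obtain ⟨Y, hY⟩ := exists_linePartner hS hnd X hX
  exact (step X Y hX (hall X hX).1 (hall X hX).2 hY).1

end Cfsg.Agent.S5042
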