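import Cfsg.Statements.S5040
import Cfsg.Agent.Lib.RootSub.CommonPartner
import Cfsg.Agent.Lib.RootSub.ClassBasic
import Cfsg.Agent.S5042

set_option autoImplicit false
set_option linter.style.haveILetI false
open Cfsg

namespace Cfsg.Agent.S5040

open CfsgLib.RootSub
open scoped commutatorElement

/-- The stabiliser of a family of subgroups. -/
def famStab {G : Type*} [Group G] (Δ : Set (Subgroup G)) : Subgroup G where
  carrier := {g | (fun A => Cfsg.conjBy A g) '' Δ = Δ}
  one_mem' := by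
    show (fun A => Cfsg.conjBy A (1 : G)) '' Δ = Δ
    simp only [cj_one, Set.image_id']
  mul_mem' := by
    intro g h hg hh
    show (fun A => Cfsg.conjBy A (g * h)) '' Δ = Δ
    have e : (fun A => Cfsg.conjBy A (g * h)) '' Δ =
        (fun A => Cfsg.conjBy A g) '' ((fun A => Cfsg.conjBy A h) '' Δ) := by
      rw [Set.image_image]
      simp only [cj_cj]
    rw [e, hh, hg]
  inv_mem' := by
    intro g hg
    show (fun A => Cfsg.conjBy A g⁻¹) '' Δ = Δ
    conv_lhs => rw [← (hg : (fun A => Cfsg.conjBy A g) '' Δ = Δ)]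
    rw [Set.image_image]
    simp only [cj_cj, inv_mul_cancel, cj_one, Set.image_id']

/-- Let S be a non-degenerate class of abstract root subgroups of G and Δ a weak TI-subset of S. Then the members of Δ commute with one another elementwise. -/
theorem result {G : Type*} [Group G] {S : Set (Subgroup G)} (hS : Cfsg.IsRootSubgroupClass S) (hnd : Cfsg.IsNondegenerateRootSet S)
    {Δ : Set (Subgroup G)} (hΔ : Cfsg.IsWeakTISubset S Δ) : Cfsg.IsAbelianFamily Δ := by
  obtain ⟨hsub, ⟨A₀, hA₀, B₀, -, -⟩, hne, hTI⟩ := hΔ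
  have hpart := class_partner hS hnd.2.1
  have stab : ∀ X ∈ Δ, ∀ Y ∈ S, (∀ x ∈ X, ∀ y ∈ Y, x * y = y * x) → Y ≤ famStab Δ := by
    intro X hX Y hY hc d hd
    by_cases hd1 : d = 1
    · rw [hd1]; exact one_mem _
    rcases hTI d ⟨hd1, Y, hY, hd⟩ with h | h
    · exact h
    · refine absurd ⟨X, hX, ?_⟩ (fun hX' => Set.disjoint_left.mp h hX' hX)
      exact cj_eq_self.mpr (Subgroup.centralizer_le_normalizer _
        (Subgroup.mem_centralizer_iff.mpr fun x hx => hc x hx d hd))
  intro A hA B hB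
  by_contra hAB
  have hall : famStab Δ = ⊤ := by
    have gen : ∀ (X : Subgroup G), X ∈ Δ → ∀ P ∈ S, IsRankOnePair X P → P ≤ famStab Δ → famStab Δ = ⊤ := by
      intro X hX P hP hXP hle
      rw [eq_top_iff, ← Cfsg.Agent.S5042.result hS hnd (hsub hX) ⟨hP, hXP⟩]
      exact sup_le (iSup₂_le fun C hC => stab X hX C hC.1.1 (line_comm hC)) hle
    rcases member_cases hS.1 (hsub hA) (hsub hB) with h | h | h
    · exact absurd h hAB
    · refine gen A hA B (hsub hB) h (stab B hB B (hsub hB) ?_)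
      haveI := hS.1.commutative B (hsub hB)
      exact fun x hx y hy => congrArg Subtype.val (mul_comm' (⟨x, hx⟩ : B) ⟨y, hy⟩)
    · obtain ⟨D, hD, -, hDL, hBD⟩ := exists_opposite hS.1 hpart (hsub hA) (hsub hB) h
      exact gen B hB D hD hBD (stab A hA D hD (line_comm hDL))
  refine hne (Set.Subset.antisymm hsub fun X hX => ?_)
  obtain ⟨g, rfl⟩ := hS.2.2 A₀ (hsub hA₀) X hX
  have hg : (fun A => Cfsg.conjBy A g) '' Δ = Δ := (hall ▸ Subgroup.mem_top g : g ∈ famStab Δ)
  exact hg ▸ ⟨A₀, hA₀, rfl⟩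

end Cfsg.Agent.S5040
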