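import Cfsg.Statements.S5043
import Cfsg.Agent.Lib.RootSub.TransvSL

set_option autoImplicit false
open Matrix
open Cfsg

namespace Cfsg.Agent.S5043

/-- Let k be a field and n a natural number. In SL_{n+3}(k) (so in every dimension at least 3) the conjugates of the root subgroup of elementary transvections 1 + c E₁₂ (c ∈ k) — that is, the groups of transvections attached to an incident point–hyperplane pair — form a non-degenerate class of abstract k-root subgroups of SL_{n+3}(k) whose graph of rank one pairs is connected. -/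
theorem result (k : Type*) [Field k] (n : ℕ) :
    Cfsg.IsRootSubgroupClass {A : Subgroup (Matrix.SpecialLinearGroup (Fin (n + 3)) k) |
        ∃ g : Matrix.SpecialLinearGroup (Fin (n + 3)) k,
          A = Cfsg.conjBy (Subgroup.closure {t : Matrix.SpecialLinearGroup (Fin (n + 3)) k |
            ∃ c : k, (t : Matrix (Fin (n + 3)) (Fin (n + 3)) k) = Matrix.transvection 0 1 c}) g} ∧
    Cfsg.IsNondegenerateRootSet {A : Subgroup (Matrix.SpecialLinearGroup (Fin (n + 3)) k) |
        ∃ g : Matrix.SpecialLinearGroup (Fin (n + 3)) k,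
          A = Cfsg.conjBy (Subgroup.closure {t : Matrix.SpecialLinearGroup (Fin (n + 3)) k |
            ∃ c : k, (t : Matrix (Fin (n + 3)) (Fin (n + 3)) k) = Matrix.transvection 0 1 c}) g} ∧
    Cfsg.IsKRootSubgroupSet k {A : Subgroup (Matrix.SpecialLinearGroup (Fin (n + 3)) k) |
        ∃ g : Matrix.SpecialLinearGroup (Fin (n + 3)) k,
          A = Cfsg.conjBy (Subgroup.closure {t : Matrix.SpecialLinearGroup (Fin (n + 3)) k |
            ∃ c : k, (t : Matrix (Fin (n + 3)) (Fin (n + 3)) k) = Matrix.transvection 0 1 c}) g} ∧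
    Cfsg.IsConnectedFamily (Cfsg.FAdj {A : Subgroup (Matrix.SpecialLinearGroup (Fin (n + 3)) k) |
        ∃ g : Matrix.SpecialLinearGroup (Fin (n + 3)) k,
          A = Cfsg.conjBy (Subgroup.closure {t : Matrix.SpecialLinearGroup (Fin (n + 3)) k |
            ∃ c : k, (t : Matrix (Fin (n + 3)) (Fin (n + 3)) k) = Matrix.transvection 0 1 c}) g})
      {A : Subgroup (Matrix.SpecialLinearGroup (Fin (n + 3)) k) |
        ∃ g : Matrix.SpecialLinearGroup (Fin (n + 3)) k,
          A = Cfsg.conjBy (Subgroup.closure {t : Matrix.SpecialLinearGroup (Fin (n + 3)) k |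
            ∃ c : k, (t : Matrix (Fin (n + 3)) (Fin (n + 3)) k) = Matrix.transvection 0 1 c}) g} := by
  classical
  have h3 : 3 ≤ Fintype.card (Fin (n + 3)) := by rw [Fintype.card_fin]; omega
  have hst : (Pi.single (1 : Fin (n + 3)) (1 : k) : Fin (n + 3) → k) ⬝ᵥ Pi.single (0 : Fin (n + 3)) 1 = 0 := by
    rw [dotProduct_single, Pi.single_eq_of_ne (by simp), zero_mul]
  have hstd : Subgroup.closure {t : Matrix.SpecialLinearGroup (Fin (n + 3)) k | ∃ c : k,
      (t : Matrix (Fin (n + 3)) (Fin (n + 3)) k) = Matrix.transvection 0 1 c} =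
      CfsgLib.RootSub.TSL.Root (Pi.single 0 1) (Pi.single 1 1) := by
    have e : ∀ c : k, Matrix.transvection (0 : Fin (n + 3)) 1 c =
        1 + c • Matrix.vecMulVec (Pi.single 0 1) (Pi.single 1 1) := fun c => by
      rw [Matrix.transvection]
      congr 1
      ext a b
      simp [Matrix.vecMulVec_apply, Matrix.single_apply, Pi.single_apply, eq_comm]
      split_ifs <;> first | rfl | tauto
    simp only [CfsgLib.RootSub.TSL.Root, e]
  have hmem : CfsgLib.RootSub.TSL.Root (Pi.single 0 1) (Pi.single 1 1) ∈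
      CfsgLib.RootSub.TSL.Fam k (Fin (n + 3)) := ⟨_, _, by simp, by simp, hst, rfl⟩
  have hS := CfsgLib.RootSub.TSL.fam_rootSet (k := k) (ι := Fin (n + 3))
  have hset : {A : Subgroup (Matrix.SpecialLinearGroup (Fin (n + 3)) k) | ∃ g, A = Cfsg.conjBy
      (Subgroup.closure {t : Matrix.SpecialLinearGroup (Fin (n + 3)) k | ∃ c : k,
      (t : Matrix (Fin (n + 3)) (Fin (n + 3)) k) = Matrix.transvection 0 1 c}) g} =
      CfsgLib.RootSub.TSL.Fam k (Fin (n + 3)) := by
    rw [hstd]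
    ext A
    refine ⟨?_, fun hA => CfsgLib.RootSub.TSL.fam_conj h3 _ hmem A hA⟩
    rintro ⟨g, rfl⟩
    exact hS.conj_mem _ hmem g
  rw [hset]
  have htri := fun A hA B hB => CfsgLib.RootSub.TSL.tri (k := k) (ι := Fin (n + 3)) (A := A) (B := B) hA hB
  refine ⟨⟨hS, ⟨_, hmem⟩, CfsgLib.RootSub.TSL.fam_conj h3⟩, ?_, CfsgLib.RootSub.kRootSet_of hS htri,
    CfsgLib.RootSub.TSL.connected⟩
  have hne : ∀ i j : Fin (n + 3), i ≠ j →
      (Pi.single j (1 : k) : Fin (n + 3) → k) ⬝ᵥ Pi.single i 1 = 0 := fun i j hij => by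
    rw [dotProduct_single, Pi.single_eq_of_ne hij, zero_mul]
  have h01 : (0 : Fin (n + 3)) ≠ 1 := by simp
  have h02 : (0 : Fin (n + 3)) ≠ 2 := by simp [Fin.ext_iff, Fin.val_ofNat, Nat.mod_eq_of_lt]
  have h12 : (1 : Fin (n + 3)) ≠ 2 := by simp [Fin.ext_iff, Fin.val_ofNat, Nat.mod_eq_of_lt]
  have hm : ∀ i j : Fin (n + 3), i ≠ j → CfsgLib.RootSub.TSL.Root (Pi.single i (1 : k)) (Pi.single j 1) ∈
      CfsgLib.RootSub.TSL.Fam k (Fin (n + 3)) := fun i j hij => ⟨_, _, by simp, by simp, hne i j hij, rfl⟩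
  refine ⟨⟨_, hmem, _, hm 0 2 h02, fun e => ?_,
    CfsgLib.RootSub.TSL.root_comm_bot hst (hne 0 2 h02) hst (hne 0 2 h02)⟩,
    ⟨_, hmem, _, hm 1 0 h01.symm, ?_⟩, ⟨_, hmem, _, hm 1 2 h12, ?_⟩⟩
  · have h1 : CfsgLib.RootSub.TSL.tv hst 1 ∈
        CfsgLib.RootSub.TSL.Root (Pi.single (0 : Fin (n + 3)) (1 : k)) (Pi.single 2 1) :=
      e ▸ (CfsgLib.RootSub.TSL.mem_root hst).2 ⟨1, rfl⟩
    obtain ⟨c, hc⟩ := (CfsgLib.RootSub.TSL.mem_root (hne 0 2 h02)).1 h1
    have := congrArg (fun g : Matrix.SpecialLinearGroup (Fin (n + 3)) k =>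
      (g : Matrix (Fin (n + 3)) (Fin (n + 3)) k) 0 1) hc
    simp [CfsgLib.RootSub.TSL.tv_val, Matrix.vecMulVec_apply, h12] at this
  · exact (CfsgLib.RootSub.TSL.adj_of hst (hne 1 0 h01.symm) (by simp) (by simp)).2.2
  · refine CfsgLib.RootSub.commCase_symm (CfsgLib.RootSub.TSL.commCase (hne 1 2 h12) hst ?_ ?_ (by simp) (by simp)).1
    · exact hne 0 2 h02
    · simp

end Cfsg.Agent.S5043
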