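import Cfsg.Statements.S5045
import Cfsg.Agent.Lib.RootSub.Invol

set_option autoImplicit false
set_option linter.style.haveILetI false
open Cfsg

namespace Cfsg.Agent.S5045

theorem conj_isolated {G : Type*} [Group G] {D : Set G} (hD : Cfsg.IsRootInvolutionSet D) {w : G}
    (hw : Cfsg.IsIsolatedElem (Cfsg.OddAdj D) D w) (g : G) :
    Cfsg.IsIsolatedElem (Cfsg.OddAdj D) D (g * w * g⁻¹) := by
  refine ⟨hD.conj_mem w hw.1 g, fun b => ⟨fun h => ?_, fun h => ?_⟩⟩
  · have h2 := CfsgLib.RootSub.Invol.conj_oddAdj hD g⁻¹ h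
    rw [show g⁻¹ * (g * w * g⁻¹) * g⁻¹⁻¹ = w by group] at h2
    exact (hw.2 _).1 h2
  · have h2 := CfsgLib.RootSub.Invol.conj_oddAdj hD g⁻¹ h
    rw [show g⁻¹ * (g * w * g⁻¹) * g⁻¹⁻¹ = w by group] at h2
    exact (hw.2 _).2 h2

theorem exists_adj {G : Type*} [Group G] {D : Set G} {a a' : G}
    (h : a' ∈ Cfsg.elemComponentOf (Cfsg.OddAdj D) D a) (hne : a' ≠ a) : ∃ x, Cfsg.OddAdj D a x := by
  rcases Relation.ReflTransGen.cases_head h.2 with e | ⟨x, hx, -⟩
  · exact absurd e.symm hne
  · exact ⟨x, hx⟩

theorem partner_mem {G : Type*} [Group G] {D : Set G} (hD : Cfsg.IsRootInvolutionSet D) {a e x : G} (ha : a ∈ D)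
    (he : e ∈ D) (hea : e * a = a * e) (hf : e * a ∈ D) (hax : Cfsg.OddAdj D a x) :
    Relation.ReflTransGen (Cfsg.OddAdj D) a e ∨ Cfsg.IsIsolatedElem (Cfsg.OddAdj D) D e := by
  by_cases hw : Cfsg.IsIsolatedElem (Cfsg.OddAdj D) D e
  · exact Or.inr hw
  · left
    obtain ⟨y, hy⟩ : ∃ y, Cfsg.OddAdj D e y := by
      by_contra hcon
      push Not at hcon
      exact hw ⟨he, fun b => ⟨hcon b, fun h => hcon b (CfsgLib.RootSub.Invol.oddAdj_symm hD h)⟩⟩
    exact CfsgLib.RootSub.Invol.product_partner hD ha he hea hf hax hy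

/-- Let G be a finite group generated by a set D of root involutions, and W the set of members of D whose product with every other member of D has even order or is trivial (the isolated vertices of the odd-order-product graph on D). Then W is conjugation-invariant and generates a normal 2-subgroup of G meeting D in exactly W; the commutator of two members of D lying in different connected components of that graph, each with more than one member, lies in the subgroup generated by W; and for a in such a component, every member of D commuting with a, different from a and with product with a in D, lies in that component or in W. -/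
theorem result {G : Type*} [Group G] [Finite G] {D : Set G} (hD : Cfsg.IsRootInvolutionSet D) :
    (∀ w ∈ {w | Cfsg.IsIsolatedElem (Cfsg.OddAdj D) D w}, ∀ g : G, g * w * g⁻¹ ∈ {w | Cfsg.IsIsolatedElem (Cfsg.OddAdj D) D w}) ∧
    (Subgroup.closure {w | Cfsg.IsIsolatedElem (Cfsg.OddAdj D) D w}).Normal ∧
    IsPGroup 2 ↥(Subgroup.closure {w | Cfsg.IsIsolatedElem (Cfsg.OddAdj D) D w}) ∧
    (Subgroup.closure {w | Cfsg.IsIsolatedElem (Cfsg.OddAdj D) D w} : Set G) ∩ D = {w | Cfsg.IsIsolatedElem (Cfsg.OddAdj D) D w} ∧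
    (∀ a ∈ D, ∀ b ∈ D, (∃ a' ∈ Cfsg.elemComponentOf (Cfsg.OddAdj D) D a, a' ≠ a) →
      (∃ b' ∈ Cfsg.elemComponentOf (Cfsg.OddAdj D) D b, b' ≠ b) →
      Cfsg.elemComponentOf (Cfsg.OddAdj D) D a ≠ Cfsg.elemComponentOf (Cfsg.OddAdj D) D b →
        a * b * a⁻¹ * b⁻¹ ∈ Subgroup.closure {w | Cfsg.IsIsolatedElem (Cfsg.OddAdj D) D w}) ∧
    (∀ a ∈ D, (∃ a' ∈ Cfsg.elemComponentOf (Cfsg.OddAdj D) D a, a' ≠ a) →
      Cfsg.productPartners D a ⊆ Cfsg.elemComponentOf (Cfsg.OddAdj D) D a ∪ {w | Cfsg.IsIsolatedElem (Cfsg.OddAdj D) D w}) := by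
  set I : Set G := {w | Cfsg.IsIsolatedElem (Cfsg.OddAdj D) D w} with hI
  have hle : Subgroup.closure I ≤ Cfsg.pCore 2 G :=
    (Subgroup.closure_le _).mpr fun w hw => CfsgLib.RootSub.Invol.isolated_mem_pCore hD hw
  refine ⟨fun w hw g => conj_isolated hD hw g, ⟨fun x hx g => ?_⟩, (CfsgLib.Fitting.pCore_isPGroup 2).to_le hle, ?_, ?_, ?_⟩
  · induction hx using Subgroup.closure_induction with
    | mem y hy => exact Subgroup.subset_closure (conj_isolated hD hy g)
    | one => simp
    | mul x y _ _ hx hy =>
      rw [show g * (x * y) * g⁻¹ = (g * x * g⁻¹) * (g * y * g⁻¹) by group]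
      exact mul_mem hx hy
    | inv x _ hx =>
      rw [show g * x⁻¹ * g⁻¹ = (g * x * g⁻¹)⁻¹ by group]
      exact inv_mem hx
  · ext w
    exact ⟨fun h => CfsgLib.RootSub.Invol.isolated_of_mem_pCore hD h.2 (hle h.1),
      fun h => ⟨Subgroup.subset_closure h, h.1⟩⟩
  · rintro a ha b hb ⟨a', ha', hane⟩ ⟨b', hb', hbne⟩ hcomp
    obtain ⟨x, hx⟩ := exists_adj ha' hane
    obtain ⟨y, hy⟩ := exists_adj hb' hbne
    have hsymm : ∀ {u v : G}, Relation.ReflTransGen (Cfsg.OddAdj D) u v → Relation.ReflTransGen (Cfsg.OddAdj D) v u := by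
      intro u v h
      induction h with
      | refl => exact Relation.ReflTransGen.refl
      | tail _ hbc ih => exact (Relation.ReflTransGen.single (CfsgLib.RootSub.Invol.oddAdj_symm hD hbc)).trans ih
    have hnot : ¬ Relation.ReflTransGen (Cfsg.OddAdj D) a b := fun h => hcomp (by
      ext c
      exact ⟨fun hc => ⟨hc.1, (hsymm h).trans hc.2⟩, fun hc => ⟨hc.1, h.trans hc.2⟩⟩)
    have hai := CfsgLib.RootSub.Invol.inv_eq hD ha
    have hbi := CfsgLib.RootSub.Invol.inv_eq hD hb
    rw [hai, hbi]
    rcases hD.pair a ha b hb with h | h | ⟨-, hz⟩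
    · rw [h, mul_assoc b, CfsgLib.RootSub.Invol.mul_self hD ha, mul_one, CfsgLib.RootSub.Invol.mul_self hD hb]
      exact one_mem _
    · exfalso
      by_cases hab : a = b
      · exact hcomp (by rw [hab])
      · exact hnot (Relation.ReflTransGen.single ⟨ha, hb, hab, h⟩)
    · rw [show a * b * a * b = (a * b) ^ 2 by rw [pow_two]; group]
      set z := (a * b) ^ 2 with hzdef
      have hzi := CfsgLib.RootSub.Invol.inv_eq hD hz
      have hza : z * a = a * z := by
        have : a * z * a⁻¹ = z⁻¹ := by
          rw [hzdef, pow_two, mul_inv_rev, mul_inv_rev, hai, hbi]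
          simp only [← mul_assoc, CfsgLib.RootSub.Invol.mul_self hD ha, one_mul]
        rw [hzi] at this
        calc z * a = a * z * a⁻¹ * a := by rw [this]
          _ = a * z := by group
      have hzb : z * b = b * z := by
        calc z * b = a * (b * a) := by
              rw [hzdef, pow_two, show a * b * (a * b) * b = a * b * a * (b * b) by group,
                CfsgLib.RootSub.Invol.mul_self hD hb]
              group
          _ = a * z * a * b := by
              rw [hzdef, pow_two]
              simp only [← mul_assoc, CfsgLib.RootSub.Invol.mul_self hD ha, one_mul]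
              rw [show b * a * b * a * b = b * a * b * a * b from rfl]
              have h4 : z⁻¹ = z := hzi
              rw [hzdef, pow_two, mul_inv_rev, mul_inv_rev, hai, hbi] at h4
              calc a * b * a = (a * b * (a * b)) * b := by
                    rw [mul_assoc (a * b) (a * b) b, mul_assoc a b b, CfsgLib.RootSub.Invol.mul_self hD hb, mul_one]
                _ = b * a * b * a * b := by rw [← h4]; group
          _ = z * (a * a) * b := by rw [← hza]; group
          _ = b * z := by
              rw [CfsgLib.RootSub.Invol.mul_self hD ha, mul_one]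
              have h4 : z⁻¹ = z := hzi
              rw [hzdef, pow_two, mul_inv_rev, mul_inv_rev, hai, hbi] at h4
              rw [hzdef, pow_two]
              calc a * b * (a * b) * b = (b * a * (b * a)) * b := by rw [h4]
                _ = b * (a * b * (a * b)) := by group
      have hpa : z * a ∈ D := by
        have h2 := hD.conj_mem b hb a
        have h3 := hD.conj_mem a ha b
        rw [hza, hzdef, pow_two, show a * (a * b * (a * b)) = (a * a) * (b * a * b) by group,
          CfsgLib.RootSub.Invol.mul_self hD ha, one_mul]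
        rwa [hbi] at h3
      have hpb : z * b ∈ D := by
        have h2 := hD.conj_mem b hb a
        rw [hzdef, pow_two, show a * b * (a * b) * b = a * b * a * (b * b) by group,
          CfsgLib.RootSub.Invol.mul_self hD hb, mul_one]
        rwa [hai] at h2
      rcases partner_mem hD ha hz hza hpa hx with h1 | h1
      · rcases partner_mem hD hb hz hzb hpb hy with h2 | h2
        · exact absurd (h1.trans (hsymm h2)) hnot
        · exact Subgroup.subset_closure h2
      · exact Subgroup.subset_closure h1
  · rintro a ha ⟨a', ha', hane⟩ e ⟨⟨heD, hea, -⟩, hf⟩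
    obtain ⟨x, hx⟩ := exists_adj ha' hane
    rcases partner_mem hD ha heD hea hf hx with h | h
    · exact Or.inl ⟨heD, h⟩
    · exact Or.inr h

end Cfsg.Agent.S5045
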