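import Cfsg.Statements.S5049
import Cfsg.Agent.Lib.RootSub.Invol

set_option autoImplicit false
set_option linter.style.haveILetI false
open Cfsg

namespace Cfsg.Agent.S5049

open scoped commutatorElement in
theorem part1 {G : Type*} [Group G] [Finite G] {D : Set G} (hD : Cfsg.IsOddTranspositionSet D) {a e : G} (ha : a ∈ D)
    (he : e ∈ D) (hea : e * a = a * e) :
    ∀ q ∈ ⁅Cfsg.pCore 2 G, Subgroup.zpowers a⁆, e * q = q * e := by
  have hle : ⁅Cfsg.pCore 2 G, Subgroup.zpowers a⁆ ≤ Subgroup.centralizer ({e} : Set G) := by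
    rw [Subgroup.commutator_le]
    intro q hq z hz
    obtain ⟨k, rfl⟩ := Subgroup.mem_zpowers_iff.mp hz
    rw [← zpow_mod_orderOf a k, hD.1.orderOf_eq a ha, Subgroup.mem_centralizer_singleton_iff]
    rcases (show k % ((2 : ℕ) : ℤ) = 0 ∨ k % ((2 : ℕ) : ℤ) = 1 by omega) with hk | hk <;> rw [hk]
    · simp
    · rw [zpow_one, commutatorElement_def, CfsgLib.RootSub.Invol.inv_eq hD.1 ha]
      have hQ : a * (q * a * q⁻¹) ∈ Cfsg.pCore 2 G := by
        have h1 := mul_mem ((CfsgLib.Fitting.pCore_normal (G := G) 2).conj_mem q hq a) (inv_mem hq)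
        rwa [CfsgLib.RootSub.Invol.inv_eq hD.1 ha, show a * q * a * q⁻¹ = a * (q * a * q⁻¹) by group] at h1
      have h2 := CfsgLib.RootSub.Invol.comm_of_congr hD.1 ha (hD.1.conj_mem a ha q) he hea hQ hD.2
      rw [mul_assoc _ a e, ← hea, ← mul_assoc, ← mul_assoc, h2]
  exact fun q hq => ((Subgroup.mem_centralizer_singleton_iff).mp (hle hq)).symm

/-- Let G be a finite group generated by a set D of odd transpositions (root involutions with no product of order 4), Q = O₂(G), and for a ∈ D let Q_a be the commutator subgroup of Q with a. Then every member of D commuting with a centralizes Q_a; and for b ∈ D with ab of odd order greater than 1, the centralizer of ab in Q is the intersection of the centralizers of a and b in Q. -/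
theorem result {G : Type*} [Group G] [Finite G] {D : Set G} (hD : Cfsg.IsOddTranspositionSet D) {a : G} (ha : a ∈ D) :
    (∀ e ∈ Cfsg.commutingMembers D a, ∀ q ∈ ⁅Cfsg.pCore 2 G, Subgroup.zpowers a⁆, e * q = q * e) ∧
    (∀ b ∈ Cfsg.oddPartners D a,
      Cfsg.pCore 2 G ⊓ Subgroup.centralizer {a * b} = Cfsg.pCore 2 G ⊓ Subgroup.centralizer {a} ⊓ Subgroup.centralizer {b}) := by
  refine ⟨fun e he => part1 hD ha he.1 he.2, fun b hb => ?_⟩
  obtain ⟨hbD, hba, hodd⟩ := hb
  refine le_antisymm ?_ ?_
  · rintro q ⟨hqQ, hqx⟩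
    have hqx' : q * (a * b) = a * b * q := Subgroup.mem_centralizer_singleton_iff.mp hqx
    set a' := q * a * q⁻¹ with ha'
    set b' := q * b * q⁻¹ with hb'
    have hai := CfsgLib.RootSub.Invol.inv_eq hD.1 ha
    have hbi := CfsgLib.RootSub.Invol.inv_eq hD.1 hbD
    have hprod : a' * b' = a * b := by
      rw [ha', hb', show q * a * q⁻¹ * (q * b * q⁻¹) = q * (a * b) * q⁻¹ by group, hqx', mul_inv_cancel_right]
    have hQ : a * a' ∈ Cfsg.pCore 2 G := by
      have h1 := mul_mem ((CfsgLib.Fitting.pCore_normal (G := G) 2).conj_mem q hqQ a) (inv_mem hqQ)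
      rwa [hai, show a * q * a * q⁻¹ = a * a' by rw [ha']; group] at h1
    have hQb : b * b' ∈ Cfsg.pCore 2 G := by
      have h1 := mul_mem ((CfsgLib.Fitting.pCore_normal (G := G) 2).conj_mem q hqQ b) (inv_mem hqQ)
      rwa [hbi, show b * q * b * q⁻¹ = b * b' by rw [hb']; group] at h1
    have ha'D : a' ∈ D := hD.1.conj_mem a ha q
    have hb'D : b' ∈ D := hD.1.conj_mem b hbD q
    have ha'a : a * a' = a' * a := CfsgLib.RootSub.Invol.comm_of_congr hD.1 ha ha'D ha rfl hQ hD.2
    have hb'b : b * b' = b' * b := CfsgLib.RootSub.Invol.comm_of_congr hD.1 hbD hb'D hbD rfl hQb hD.2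
    -- the two commutators agree
    have hcc : a * a' = b * b' := by
      calc a * a' = a * (a' * b') * b' := by rw [mul_assoc a, mul_assoc a' b' b', CfsgLib.RootSub.Invol.mul_self hD.1 hb'D, mul_one]
        _ = b * b' := by rw [hprod, ← mul_assoc a a b, CfsgLib.RootSub.Invol.mul_self hD.1 ha, one_mul]
    set c := a * a' with hc
    have hca : c * a = a * c := by rw [hc, mul_assoc, ← ha'a]
    have hcb : c * b = b * c := by rw [hcc, mul_assoc, ← hb'b]
    have hc2 : c * c = 1 := by
      calc c * c = a * (a' * a) * a' := by rw [hc]; group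
        _ = (a * a) * (a' * a') := by rw [← ha'a, hc]; group
        _ = 1 := by rw [CfsgLib.RootSub.Invol.mul_self hD.1 ha, CfsgLib.RootSub.Invol.mul_self hD.1 ha'D, mul_one]
    have hc1 : c = 1 := by
      by_contra hc1
      have hco : orderOf c = 2 := CfsgLib.Invol.orderOf_two_of_mul_self hc2 hc1
      have hcx : Commute c (a * b) := by
        show c * (a * b) = a * b * c
        rw [← mul_assoc, hca, mul_assoc, hcb, mul_assoc]
      have he : a' * b = c * (a * b) := by
        rw [← mul_assoc, hca, hc, ← mul_assoc a a a', CfsgLib.RootSub.Invol.mul_self hD.1 ha, one_mul]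
      have hord : orderOf (a' * b) = 2 * orderOf (a * b) := by
        rw [he, hcx.orderOf_mul_eq_mul_orderOf_of_coprime (by rw [hco]; exact Nat.coprime_two_left.mpr hodd), hco]
      rcases hD.1.pair a' ha'D b hbD with h | h | ⟨h, -⟩
      · have h2 : (a' * b) ^ 2 = 1 := by
          rw [(show Commute a' b from h).mul_pow, pow_two, pow_two, CfsgLib.RootSub.Invol.mul_self hD.1 ha'D,
            CfsgLib.RootSub.Invol.mul_self hD.1 hbD, one_mul]
        have h3 := Nat.le_of_dvd two_pos (orderOf_dvd_of_pow_eq_one h2)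
        rw [hord] at h3
        obtain ⟨m, hm⟩ := hodd
        have h5 : orderOf (a * b) = 1 := by omega
        exact hba (by
          calc b = a * (a * b) := by rw [← mul_assoc, CfsgLib.RootSub.Invol.mul_self hD.1 ha, one_mul]
            _ = a := by rw [orderOf_eq_one_iff.mp h5, mul_one])
      · rw [hord] at h
        obtain ⟨m, hm⟩ := h
        omega
      · exact hD.2 a' ha'D b hbD h
    have hA : a' = a := by
      calc a' = a * c := by rw [hc, ← mul_assoc, CfsgLib.RootSub.Invol.mul_self hD.1 ha, one_mul]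
        _ = a := by rw [hc1, mul_one]
    have hB : b' = b := by
      calc b' = b * c := by rw [hcc, ← mul_assoc, CfsgLib.RootSub.Invol.mul_self hD.1 hbD, one_mul]
        _ = b := by rw [hc1, mul_one]
    refine ⟨⟨hqQ, Subgroup.mem_centralizer_singleton_iff.mpr ?_⟩, Subgroup.mem_centralizer_singleton_iff.mpr ?_⟩
    · conv_rhs => rw [← hA, ha', inv_mul_cancel_right]
    · conv_rhs => rw [← hB, hb', inv_mul_cancel_right]
  · rintro q ⟨⟨hqQ, hqa⟩, hqb⟩
    refine ⟨hqQ, Subgroup.mem_centralizer_singleton_iff.mpr ?_⟩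
    rw [← mul_assoc, Subgroup.mem_centralizer_singleton_iff.mp hqa, mul_assoc,
      Subgroup.mem_centralizer_singleton_iff.mp hqb, mul_assoc]

end Cfsg.Agent.S5049
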