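import Cfsg.Statements.S5057
import Mathlib

set_option autoImplicit false
set_option linter.style.haveILetI false
open Cfsg

namespace Cfsg.Agent.S5057

open Equiv in
/-- A fixed double transposition. -/
def d0 : Equiv.Perm (Fin 6) := swap 0 1 * swap 2 3

open Equiv in
set_option maxRecDepth 100000 in
theorem check : ∀ a b c d : Fin 6, a = b ∨ c = d ∨ a = c ∨ a = d ∨ b = c ∨ b = d ∨
    (d0 * (swap a b * swap c d) = (swap a b * swap c d) * d0 ∨
      (d0 * (swap a b * swap c d)) ^ 3 = 1 ∨ (d0 * (swap a b * swap c d)) ^ 5 = 1 ∨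
      ((d0 * (swap a b * swap c d)) ^ 4 = 1 ∧ (d0 * (swap a b * swap c d)) ^ 2 ≠ 1)) := by
  decide

theorem exists_conj {e : ↥(alternatingGroup (Fin 6))} (he : orderOf e = 2) :
    ∃ g : Equiv.Perm (Fin 6), (e : Equiv.Perm (Fin 6)) = g * d0 * g⁻¹ := by
  have h2 : orderOf (e : Equiv.Perm (Fin 6)) = 2 := by rw [Subgroup.orderOf_coe, he]
  obtain ⟨n, hn⟩ := Equiv.Perm.cycleType_prime_order (σ := (e : Equiv.Perm (Fin 6))) (by rw [h2]; exact Nat.prime_two)
  rw [h2] at hn
  have hs : Equiv.Perm.sign (e : Equiv.Perm (Fin 6)) = 1 := e.2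
  rw [Equiv.Perm.sign_of_cycleType, hn] at hs
  simp only [Multiset.sum_replicate, Multiset.card_replicate, smul_eq_mul] at hs
  have hle : (e : Equiv.Perm (Fin 6)).cycleType.sum ≤ 6 := by
    have h6 := Finset.card_le_univ (e : Equiv.Perm (Fin 6)).support
    rw [Equiv.Perm.sum_cycleType]
    simpa using h6
  rw [hn, Multiset.sum_replicate, smul_eq_mul] at hle
  have hn1 : n = 1 := by
    rcases (show n = 0 ∨ n = 1 ∨ n = 2 by omega) with h | h | h
    · subst h; simp [pow_succ] at hs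
    · exact h
    · subst h; simp [pow_succ] at hs
  subst hn1
  have hd : d0.cycleType = Multiset.replicate 2 2 := by decide
  obtain ⟨g, hg⟩ := isConj_iff.mp ((Equiv.Perm.isConj_iff_cycleType_eq (σ := d0) (τ := (e : Equiv.Perm (Fin 6)))).mpr (by rw [hd, hn]))
  exact ⟨g, hg.symm⟩

theorem pair_cases {a b : ↥(alternatingGroup (Fin 6))} (ha : orderOf a = 2) (hb : orderOf b = 2) :
    orderOf (a * b) ≤ 5 ∧
    (a * b = b * a ∨ Odd (orderOf (a * b)) ∨ (orderOf (a * b) = 4 ∧ orderOf ((a * b) ^ 2) = 2)) := by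
  obtain ⟨g, hg⟩ := exists_conj ha
  obtain ⟨h, hh⟩ := exists_conj hb
  set k := g⁻¹ * h
  have hk : k * d0 * k⁻¹ = Equiv.swap (k 0) (k 1) * Equiv.swap (k 2) (k 3) := by
    rw [Equiv.swap_apply_apply, Equiv.swap_apply_apply, d0]
    group
  have hne : ∀ i j : Fin 6, i ≠ j → k i ≠ k j := fun i j hij => fun e => hij (k.injective e)
  have hc := check (k 0) (k 1) (k 2) (k 3)
  simp only [hne 0 1 (by decide), hne 2 3 (by decide), hne 0 2 (by decide), hne 0 3 (by decide),
    hne 1 2 (by decide), hne 1 3 (by decide), false_or] at hc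
  rw [← hk] at hc
  have hab : ((a * b : ↥(alternatingGroup (Fin 6))) : Equiv.Perm (Fin 6)) = g * (d0 * (k * d0 * k⁻¹)) * g⁻¹ := by
    rw [Subgroup.coe_mul, hg, hh]
    simp only [k]
    group
  have hpow : ∀ n : ℕ, (d0 * (k * d0 * k⁻¹)) ^ n = 1 ↔ (a * b) ^ n = 1 := fun n => by
    rw [← Subtype.coe_inj, Subgroup.coe_pow, hab, conj_pow, Subgroup.coe_one, conj_eq_one_iff]
  have odd_case : ∀ p : ℕ, p.Prime → Odd p → (a * b) ^ p = 1 → p ≤ 5 →
      orderOf (a * b) ≤ 5 ∧ Odd (orderOf (a * b)) := by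
    intro p hp hodd h1 hp5
    rcases (Nat.dvd_prime hp).mp (orderOf_dvd_of_pow_eq_one h1) with h | h <;> rw [h]
    · exact ⟨by norm_num, odd_one⟩
    · exact ⟨hp5, hodd⟩
  rcases hc with h1 | h1 | h1 | ⟨h1, h2⟩
  · have hcm : a * b = b * a := Subtype.ext (by
      rw [hab, Subgroup.coe_mul, hg, hh, h1]
      simp only [k]
      group)
    refine ⟨?_, Or.inl hcm⟩
    have ha2 : a ^ 2 = 1 := ha ▸ pow_orderOf_eq_one a
    have hb2 : b ^ 2 = 1 := hb ▸ pow_orderOf_eq_one b
    have hsq : (a * b) ^ 2 = 1 := by rw [(show Commute a b from hcm).mul_pow, ha2, hb2, mul_one]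
    have := Nat.le_of_dvd (by norm_num) (orderOf_dvd_of_pow_eq_one hsq)
    omega
  · obtain ⟨h3, h4⟩ := odd_case 3 Nat.prime_three (by decide) ((hpow 3).mp h1) (by norm_num)
    exact ⟨h3, Or.inr (Or.inl h4)⟩
  · obtain ⟨h3, h4⟩ := odd_case 5 Nat.prime_five (by decide) ((hpow 5).mp h1) le_rfl
    exact ⟨h3, Or.inr (Or.inl h4)⟩
  · have h4 : orderOf (a * b) = 4 :=
      orderOf_eq_prime_pow (p := 2) (n := 1) (by simpa using fun h => h2 ((hpow 2).mpr h)) ((hpow 4).mp h1)
    refine ⟨by omega, Or.inr (Or.inr ⟨h4, ?_⟩)⟩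
    rw [orderOf_pow' _ two_ne_zero, h4]
    decide

/-- The involutions of the alternating group of degree 6 form a class of root involutions (a single conjugacy class of involutions generating the group, any two of which commute, have product of odd order, or have product of order 4 whose square is again an involution of the class), and the product of any two of them has order at most 5. -/
theorem result :
    Cfsg.IsRootInvolutionClass {g : ↥(alternatingGroup (Fin 6)) | orderOf g = 2} ∧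
    ∀ d ∈ {g : ↥(alternatingGroup (Fin 6)) | orderOf g = 2}, ∀ e ∈ {g : ↥(alternatingGroup (Fin 6)) | orderOf g = 2},
      orderOf (d * e) ≤ 5 := by
  haveI : IsSimpleGroup ↥(alternatingGroup (Fin 6)) := alternatingGroup.isSimpleGroup (by simp)
  have hconj : ∀ d : ↥(alternatingGroup (Fin 6)), orderOf d = 2 → ∀ g, orderOf (g * d * g⁻¹) = 2 := fun d hd g => by
    rw [← hd]
    exact orderOf_injective (MulAut.conj g).toMonoidHom (MulAut.conj g).injective d
  have hd0 : d0 ∈ alternatingGroup (Fin 6) := by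
    rw [Equiv.Perm.mem_alternatingGroup]; decide
  have hd2 : orderOf (⟨d0, hd0⟩ : ↥(alternatingGroup (Fin 6))) = 2 := by
    rw [← Subgroup.orderOf_coe]
    exact orderOf_eq_prime (show d0 ^ 2 = 1 by decide) (show d0 ≠ 1 by decide)
  refine ⟨⟨⟨fun d hd => hd, ?_, hconj, fun a ha b hb => ?_⟩, ⟨_, hd2⟩, fun a ha b hb => ?_⟩, fun d hd e he => (pair_cases hd he).1⟩
  · have hnor : (Subgroup.closure {g : ↥(alternatingGroup (Fin 6)) | orderOf g = 2}).Normal := by
      refine ⟨fun x hx g => ?_⟩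
      induction hx using Subgroup.closure_induction with
      | mem y hy => exact Subgroup.subset_closure (hconj y hy g)
      | one => simp
      | mul x y _ _ hx hy =>
        rw [show g * (x * y) * g⁻¹ = (g * x * g⁻¹) * (g * y * g⁻¹) by group]
        exact mul_mem hx hy
      | inv x _ hx =>
        rw [show g * x⁻¹ * g⁻¹ = (g * x * g⁻¹)⁻¹ by group]
        exact inv_mem hx
    refine (IsSimpleGroup.eq_bot_or_eq_top_of_normal _ hnor).resolve_left fun hbot => ?_
    have h0 : (⟨d0, hd0⟩ : ↥(alternatingGroup (Fin 6))) ∈ Subgroup.closure {g : ↥(alternatingGroup (Fin 6)) | orderOf g = 2} :=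
      Subgroup.subset_closure hd2
    have h1 := Subgroup.mem_bot.mp (hbot ▸ h0)
    rw [h1, orderOf_one] at hd2
    exact absurd hd2 (by norm_num)
  · exact (pair_cases ha hb).2
  · obtain ⟨g, hg⟩ := exists_conj ha
    obtain ⟨h, hh⟩ := exists_conj hb
    have hc : (Equiv.swap (0 : Fin 6) 1) * d0 * (Equiv.swap (0 : Fin 6) 1)⁻¹ = d0 := by decide
    rcases Int.units_eq_one_or (Equiv.Perm.sign (h * g⁻¹)) with hs | hs
    · refine ⟨⟨h * g⁻¹, hs⟩, Subtype.ext ?_⟩
      simp only [Subgroup.coe_mul, Subgroup.coe_inv, hg, hh]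
      group
    · refine ⟨⟨h * Equiv.swap 0 1 * g⁻¹, ?_⟩, Subtype.ext ?_⟩
      · rw [Equiv.Perm.mem_alternatingGroup]
        rw [map_mul] at hs
        rw [map_mul, map_mul, Equiv.Perm.sign_swap (by decide), mul_neg_one, neg_mul, hs, neg_neg]
      · simp only [Subgroup.coe_mul, Subgroup.coe_inv, hg, hh]
        conv_lhs => rw [← hc]
        group

end Cfsg.Agent.S5057
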