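import Mathlib
import Cfsg.Statements.S5058
import Cfsg.Agent.Lib.RootSub.TransvSL

set_option autoImplicit false
set_option linter.unusedSectionVars false
open Matrix
open Cfsg
open CfsgLib.RootSub.TSL
open scoped Classical

namespace Cfsg.Agent.S5058

theorem pair_identity {k R : Type*} [Field k] [Ring R] [Algebra k R] {E E' : R} {c : k}
    (h1 : E * E = 0) (h2 : E' * E' = 0) (h3 : E * E' * E = c • E) (h4 : E' * E * E' = c • E') :
    (E + E' + E * E') * (E + E' + E * E') = c • (E + E' + E * E') + (E * E' + E' * E) ∧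
      (E + E' + E * E') * (E + E' + E * E') * (E + E' + E * E') =
        c • ((E + E' + E * E') * (E + E' + E * E')) + c • (E + E' + E * E') := by
  set M := E + E' + E * E' with hM
  have a1 : E * (E * E') = 0 := by rw [← mul_assoc, h1, zero_mul]
  have a2 : E * E' * E' = 0 := by rw [mul_assoc, h2, mul_zero]
  have a3 : E * E' * (E * E') = c • (E * E') := by rw [← mul_assoc, h3, smul_mul_assoc]
  have a4 : E' * (E * E') = c • E' := by rw [← mul_assoc]; exact h4
  have a5 : E' * E * E = 0 := by rw [mul_assoc, h1, mul_zero]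
  have a6 : E' * E * (E * E') = 0 := by rw [← mul_assoc, a5, zero_mul]
  have hsq : M * M = c • M + (E * E' + E' * E) := by
    rw [hM]
    simp only [mul_add, add_mul, h1, h2, h3, a1, a2, a3, a4, add_zero, zero_add, smul_add]
    abel
  have hW : (E * E' + E' * E) * M = c • M := by
    rw [hM]
    simp only [mul_add, add_mul, h3, h4, a2, a3, a5, a6, add_zero, zero_add, smul_add]
  refine ⟨hsq, ?_⟩
  calc M * M * M = (c • M + (E * E' + E' * E)) * M := by rw [hsq]
    _ = c • (M * M) + c • M := by rw [add_mul, smul_mul_assoc, hW]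

theorem odd_order_of_poly {F ι : Type*} [Field F] [CharP F 2] [Fintype ι] [DecidableEq ι]
    {g : Matrix.SpecialLinearGroup ι F} (hg : IsOfFinOrder g) {c : F} (hc : c ≠ 0)
    (hP : ((g : Matrix ι ι F) + 1) ^ 3 + c • ((g : Matrix ι ι F) + 1) ^ 2 +
      c • ((g : Matrix ι ι F) + 1) = 0) : Odd (orderOf g) := by
  rw [← Nat.not_even_iff_odd]
  rintro ⟨j, hj⟩
  have hj0 : j ≠ 0 := by
    have := hg.orderOf_pos
    omega
  set P : (Polynomial F) := (Polynomial.X + 1) ^ 3 + Polynomial.C c * (Polynomial.X + 1) ^ 2 +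
    Polynomial.C c * (Polynomial.X + 1) with hPdef
  have hsep : P.Separable := by
    rw [Polynomial.separable_def]
    refine ⟨Polynomial.C (-(c ^ 2)⁻¹), Polynomial.C ((c ^ 2)⁻¹) * (Polynomial.X + 1 + Polynomial.C c), ?_⟩
    have h2 : (2 : (Polynomial F)) = 0 := CharP.cast_eq_zero (Polynomial F) 2
    have hd : Polynomial.derivative P = (Polynomial.X + 1) ^ 2 + Polynomial.C c := by
      rw [hPdef]
      simp only [Polynomial.derivative_add, Polynomial.derivative_mul, Polynomial.derivative_pow,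
        Polynomial.derivative_C, Polynomial.derivative_X, Polynomial.derivative_one, zero_mul,
        zero_add, add_zero, mul_one, Nat.cast_ofNat, map_ofNat, Nat.add_one_sub_one, pow_one]
      linear_combination ((Polynomial.X + 1) ^ 2 + Polynomial.C c * (Polynomial.X + 1)) * h2
    have hi : Polynomial.C ((c ^ 2)⁻¹) * Polynomial.C c ^ 2 = 1 := by
      rw [← map_pow, ← map_mul, inv_mul_cancel₀ (pow_ne_zero _ hc), map_one]
    rw [hd, hPdef, map_neg]
    linear_combination hi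
  have haP : Polynomial.aeval (g : Matrix ι ι F) P = 0 := by
    rw [hPdef]
    simpa [Algebra.smul_def] using hP
  have h2M : (2 : Matrix ι ι F) = 0 := by
    rw [show (2 : Matrix ι ι F) = algebraMap F (Matrix ι ι F) 2 from (map_ofNat _ 2).symm,
      show (2 : F) = 0 from CharP.cast_eq_zero F 2, map_zero]
  have hsq : Polynomial.aeval (g : Matrix ι ι F) ((Polynomial.X ^ j - 1) ^ 2 : (Polynomial F)) = 0 := by
    have h : (g : Matrix ι ι F) ^ (j + j) = 1 := by
      rw [← Matrix.SpecialLinearGroup.coe_pow, ← hj, pow_orderOf_eq_one, Matrix.SpecialLinearGroup.coe_one]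
    simp only [map_pow, map_sub, map_one, Polynomial.aeval_X]
    generalize (g : Matrix ι ι F) = A at h ⊢
    have e : (A ^ j - 1) ^ 2 = A ^ (j + j) + 1 - 2 * A ^ j := by rw [pow_add]; noncomm_ring
    rw [e, h, h2M, zero_mul, sub_zero, one_add_one_eq_two, h2M]
  have hmsq : Squarefree (minpoly F (g : Matrix ι ι F)) :=
    hsep.squarefree.squarefree_of_dvd (minpoly.dvd F _ haP)
  obtain ⟨q, hq⟩ := (hmsq.dvd_pow_iff_dvd two_ne_zero).mp (minpoly.dvd F _ hsq)
  have h0 : Polynomial.aeval (g : Matrix ι ι F) (Polynomial.X ^ j - 1 : (Polynomial F)) = 0 := by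
    rw [hq, map_mul, minpoly.aeval, zero_mul]
  simp only [map_pow, map_sub, map_one, Polynomial.aeval_X, sub_eq_zero] at h0
  have h1 : g ^ j = 1 := Subtype.ext (by
    rw [Matrix.SpecialLinearGroup.coe_pow, Matrix.SpecialLinearGroup.coe_one]; exact h0)
  have := Nat.le_of_dvd (Nat.pos_of_ne_zero hj0) (orderOf_dvd_of_pow_eq_one h1)
  omega

variable {F : Type*} [Field F] [Fintype F] [CharP F 2] {ι : Type*} [Fintype ι] [DecidableEq ι]

theorem add_self_mat (A : Matrix ι ι F) : A + A = 0 := by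
  ext i j; simp [CharTwo.add_self_eq_zero]

/-- The analysis of a pair of transvections. -/
theorem pair_cases {u φ v ψ : ι → F} (hu : φ ⬝ᵥ u = 0) (hv : ψ ⬝ᵥ v = 0) (hu0 : u ≠ 0) (hψ0 : ψ ≠ 0) :
    (φ ⬝ᵥ v = 0 ∧ ψ ⬝ᵥ u = 0 ∧ tv hu 1 * tv hv 1 = tv hv 1 * tv hu 1) ∨
    (φ ⬝ᵥ v = 0 ∧ ψ ⬝ᵥ u ≠ 0) ∨
    (φ ⬝ᵥ v ≠ 0 ∧ ∃ h : ψ ⬝ᵥ u = 0, orderOf (tv hu 1 * tv hv 1) = 4 ∧
      (tv hu 1 * tv hv 1) ^ 2 = tv (v := u) h (φ ⬝ᵥ v)) ∨
    (φ ⬝ᵥ v ≠ 0 ∧ ψ ⬝ᵥ u ≠ 0 ∧ Odd (orderOf (tv hu 1 * tv hv 1)) ∧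
      (Fintype.card F = 2 → (tv hu 1 * tv hv 1) ^ 3 = 1)) := by
  set p := φ ⬝ᵥ v with hp
  set q := ψ ⬝ᵥ u with hq
  set E := vecMulVec u φ with hE
  set E' := vecMulVec v ψ with hE'
  set M := E + E' + E * E' with hM
  have hG : ((tv hu 1 * tv hv 1 : Matrix.SpecialLinearGroup ι F) : Matrix ι ι F) = 1 + M := by
    rw [Matrix.SpecialLinearGroup.coe_mul, tv_val, tv_val, one_smul, one_smul, hM]
    simp only [Matrix.add_mul, Matrix.mul_add, Matrix.one_mul, Matrix.mul_one]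
    abel
  obtain ⟨hM2, hM3⟩ := pair_identity (k := F) (E := E) (E' := E') (c := p * q)
    (by rw [hE, vv_mul, hu, zero_smul]) (by rw [hE', vv_mul, hv, zero_smul])
    (by rw [hE, hE', vv_mul, smul_mul_assoc, vv_mul, smul_smul, ← hp, ← hq])
    (by rw [hE, hE', vv_mul, smul_mul_assoc, vv_mul, smul_smul, ← hp, ← hq, mul_comm])
  rw [← hM] at hM2 hM3
  have hEE : E * E' = p • vecMulVec u ψ := by rw [hE, hE', vv_mul]
  have hEE' : E' * E = q • vecMulVec v φ := by rw [hE, hE', vv_mul]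
  by_cases hp0 : p = 0
  · by_cases hq0 : q = 0
    · refine Or.inl ⟨hp0, hq0, Subtype.ext ?_⟩
      rw [hG, Matrix.SpecialLinearGroup.coe_mul, tv_val, tv_val, one_smul, one_smul, hM, ← hE, ← hE',
        hEE, hp0, zero_smul]
      simp only [Matrix.add_mul, Matrix.mul_add, Matrix.one_mul, Matrix.mul_one]
      rw [hEE', hq0, zero_smul]
      abel
    · exact Or.inr (Or.inl ⟨hp0, hq0⟩)
  · refine Or.inr (Or.inr ?_)
    by_cases hq0 : q = 0
    · refine Or.inl ⟨hp0, hq0, ?_⟩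
      have h2 : (tv hu 1 * tv hv 1) ^ 2 = tv (v := u) hq0 p := by
        apply Subtype.ext
        rw [Matrix.SpecialLinearGroup.coe_pow, hG, tv_val, pow_two]
        calc (1 + M) * (1 + M) = 1 + (M + M) + M * M := by noncomm_ring
          _ = _ := by
            rw [add_self_mat, add_zero, hM2, hq0, mul_zero, zero_smul, zero_add, hEE, hEE', hq0,
              zero_smul, add_zero]
      refine ⟨?_, h2⟩
      haveI := Fact.mk Nat.prime_two
      refine orderOf_eq_prime_pow (p := 2) (n := 1) ?_ ?_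
      · rw [pow_one, h2]
        intro h
        have h' := congrArg (fun g : Matrix.SpecialLinearGroup ι F => (g : Matrix ι ι F)) h
        simp only [tv_val, Matrix.SpecialLinearGroup.coe_one, add_eq_left, smul_eq_zero, vecMulVec_eq_zero] at h'
        rcases h' with h' | h' | h'
        exacts [hp0 h', hu0 h', hψ0 h']
      · rw [show (2 : ℕ) ^ (1 + 1) = 2 * 2 from rfl, pow_mul, h2, pow_two, ← tv_add,
          CharTwo.add_self_eq_zero, tv_zero]
    · refine Or.inr ⟨hp0, hq0, ?_, ?_⟩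
      · refine odd_order_of_poly (isOfFinOrder_of_finite _) (mul_ne_zero hp0 hq0) ?_
        rw [hG, show 1 + M + 1 = M + (1 + 1) by abel, add_self_mat, add_zero, pow_three', pow_two, hM3,
          add_assoc, add_self_mat]
      · intro h2
        have hc : p * q = 1 := by
          have := FiniteField.pow_card_sub_one_eq_one (p * q) (mul_ne_zero hp0 hq0)
          rwa [h2, pow_one] at this
        apply Subtype.ext
        rw [Matrix.SpecialLinearGroup.coe_pow, hG, Matrix.SpecialLinearGroup.coe_one, pow_three']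
        calc (1 + M) * (1 + M) * (1 + M) = 1 + (M + M) + M + (M * M + M * M) + M * M + M * M * M := by
              noncomm_ring
          _ = 1 + (M + M) + (M * M + M * M) := by
              rw [add_self_mat, add_self_mat, hM3, hc, one_smul, one_smul]
              rw [show 1 + 0 + M + 0 + M * M + (M * M + M) = 1 + (M + M) + (M * M + M * M) by abel]
              rw [add_self_mat, add_self_mat]
          _ = 1 := by rw [add_self_mat, add_self_mat, add_zero, add_zero]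

/-- The set of transvections. -/
def Dset (F : Type*) [Field F] (ι : Type*) [Fintype ι] [DecidableEq ι] :
    Set (Matrix.SpecialLinearGroup ι F) :=
  rootElements (Fam F ι)

theorem mem_D {t : Matrix.SpecialLinearGroup ι F} (ht : t ∈ Dset F ι) :
    ∃ u φ : ι → F, u ≠ 0 ∧ φ ≠ 0 ∧ ∃ h : φ ⬝ᵥ u = 0, t = tv h 1 := by
  obtain ⟨ht1, A, ⟨v, φ, hv, hφ, h, rfl⟩, hmem⟩ := ht
  obtain ⟨c, rfl⟩ := (mem_root h).1 hmem
  have hc : c ≠ 0 := by rintro rfl; exact ht1 (tv_zero h)
  refine ⟨c • v, φ, smul_ne_zero hc hv, hφ, by rw [dotProduct_smul, h, smul_zero], Subtype.ext ?_⟩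
  rw [tv_val, tv_val, one_smul, smul_vecMulVec]

theorem tv_mem_D {u φ : ι → F} (h : φ ⬝ᵥ u = 0) (hu : u ≠ 0) (hφ : φ ≠ 0) {c : F} (hc : c ≠ 0) :
    tv h c ∈ Dset F ι := by
  refine ⟨fun e => ?_, _, ⟨u, φ, hu, hφ, h, rfl⟩, (mem_root h).2 ⟨c, rfl⟩⟩
  have e' := congrArg (fun g : Matrix.SpecialLinearGroup ι F => (g : Matrix ι ι F)) e
  simp only [tv_val, Matrix.SpecialLinearGroup.coe_one, add_eq_left, smul_eq_zero, vecMulVec_eq_zero] at e'
  rcases e' with e' | e' | e'
  exacts [hc e', hu e', hφ e']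

theorem orderOf_D {t : Matrix.SpecialLinearGroup ι F} (ht : t ∈ Dset F ι) : orderOf t = 2 := by
  haveI := Fact.mk Nat.prime_two
  refine orderOf_eq_prime ?_ ht.1
  obtain ⟨u, φ, -, -, h, rfl⟩ := mem_D ht
  rw [pow_two, ← tv_add, CharTwo.add_self_eq_zero, tv_zero]

theorem sq_D {t : Matrix.SpecialLinearGroup ι F} (ht : t ∈ Dset F ι) : t * t = 1 := by
  have h := pow_orderOf_eq_one t
  rwa [orderOf_D ht, pow_two] at h

theorem pair_D {a b : Matrix.SpecialLinearGroup ι F} (ha : a ∈ Dset F ι) (hb : b ∈ Dset F ι) :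
    (a * b = b * a) ∨ (Odd (orderOf (a * b)) ∧ (Fintype.card F = 2 → (a * b) ^ 3 = 1)) ∨
      (orderOf (a * b) = 4 ∧ (a * b) ^ 2 ∈ Dset F ι) := by
  have half : ∀ {a b : Matrix.SpecialLinearGroup ι F}, a ∈ Dset F ι → b ∈ Dset F ι →
      (a * b = b * a) ∨ (Odd (orderOf (a * b)) ∧ (Fintype.card F = 2 → (a * b) ^ 3 = 1)) ∨
      (orderOf (a * b) = 4 ∧ (a * b) ^ 2 ∈ Dset F ι) ∨
      (orderOf (b * a) = 4 ∧ (b * a) ^ 2 ∈ Dset F ι) := by
    intro a b ha hb
    obtain ⟨u, φ, hu0, hφ0, hu, rfl⟩ := mem_D ha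
    obtain ⟨v, ψ, hv0, hψ0, hv, rfl⟩ := mem_D hb
    rcases pair_cases hu hv hu0 hψ0 with h | ⟨hp, hq⟩ | ⟨hp, hq, h1, h2⟩ | ⟨-, -, h⟩
    · exact Or.inl h.2.2
    · rcases pair_cases hv hu hv0 hφ0 with h | ⟨h, -⟩ | ⟨-, hq', h1, h2⟩ | ⟨-, h, -⟩
      · exact absurd h.1 hq
      · exact absurd h hq
      · exact Or.inr (Or.inr (Or.inr ⟨h1, h2 ▸ tv_mem_D hq' hv0 hφ0 hq⟩))
      · exact absurd hp h
    · exact Or.inr (Or.inr (Or.inl ⟨h1, h2 ▸ tv_mem_D hq hu0 hψ0 hp⟩))
    · exact Or.inr (Or.inl h)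
  rcases half ha hb with h | h | h | ⟨h1, h2⟩
  · exact Or.inl h
  · exact Or.inr (Or.inl h)
  · exact Or.inr (Or.inr h)
  · have ia : a⁻¹ = a := inv_eq_of_mul_eq_one_right (sq_D ha)
    have ib : b⁻¹ = b := inv_eq_of_mul_eq_one_right (sq_D hb)
    have e : a * b = (b * a)⁻¹ := by rw [_root_.mul_inv_rev, ia, ib]
    refine Or.inr (Or.inr ⟨by rw [e, orderOf_inv, h1], ?_⟩)
    rw [e, inv_pow, inv_eq_of_mul_eq_one_right (sq_D h2)]
    exact h2

theorem result (F : Type*) [Field F] [Fintype F] [CharP F 2] (n : ℕ) :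
    Cfsg.IsRootInvolutionClass {t : Matrix.SpecialLinearGroup (Fin (n + 3)) F | ∃ c : F, c ≠ 0 ∧
        ∃ g : Matrix.SpecialLinearGroup (Fin (n + 3)) F, ((g⁻¹ * t * g : Matrix.SpecialLinearGroup (Fin (n + 3)) F) :
          Matrix (Fin (n + 3)) (Fin (n + 3)) F) = Matrix.transvection 0 1 c} ∧
    (Fintype.card F = 2 → Cfsg.IsThreeFourPlusTranspositionSet {t : Matrix.SpecialLinearGroup (Fin (n + 3)) F | ∃ c : F, c ≠ 0 ∧
        ∃ g : Matrix.SpecialLinearGroup (Fin (n + 3)) F, ((g⁻¹ * t * g : Matrix.SpecialLinearGroup (Fin (n + 3)) F) :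
          Matrix (Fin (n + 3)) (Fin (n + 3)) F) = Matrix.transvection 0 1 c}) := by
  have h3 : 3 ≤ Fintype.card (Fin (n + 3)) := by rw [Fintype.card_fin]; omega
  have hst : (Pi.single (1 : Fin (n + 3)) (1 : F) : Fin (n + 3) → F) ⬝ᵥ Pi.single (0 : Fin (n + 3)) 1 = 0 := by
    rw [dotProduct_single, Pi.single_eq_of_ne (by simp), zero_mul]
  have htr : ∀ c : F, Matrix.transvection (0 : Fin (n + 3)) 1 c =
      (tv hst c : Matrix (Fin (n + 3)) (Fin (n + 3)) F) := fun c => by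
    rw [tv_val, Matrix.transvection]
    congr 1
    ext a b
    simp [Matrix.vecMulVec_apply, Matrix.single_apply, Pi.single_apply, eq_comm]
    split_ifs <;> first | rfl | tauto
  have hS := fam_rootSet (k := F) (ι := Fin (n + 3))
  have hmem : Root (Pi.single 0 1) (Pi.single 1 1) ∈ Fam F (Fin (n + 3)) := ⟨_, _, by simp, by simp, hst, rfl⟩
  set D := {t : Matrix.SpecialLinearGroup (Fin (n + 3)) F | ∃ c : F, c ≠ 0 ∧
        ∃ g : Matrix.SpecialLinearGroup (Fin (n + 3)) F, ((g⁻¹ * t * g : Matrix.SpecialLinearGroup (Fin (n + 3)) F) :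
          Matrix (Fin (n + 3)) (Fin (n + 3)) F) = Matrix.transvection 0 1 c}
  have hD : ∀ t, t ∈ D ↔ ∃ c : F, c ≠ 0 ∧ ∃ g : Matrix.SpecialLinearGroup (Fin (n + 3)) F,
      g⁻¹ * t * g = tv hst c := fun t => by
    refine exists_congr fun c => and_congr_right fun _ => exists_congr fun g => ?_
    rw [htr]
    exact ⟨fun h => Subtype.ext h, fun h => congrArg Subtype.val h⟩
  have heq : D = Dset F (Fin (n + 3)) := by
    ext t
    rw [hD]
    constructor
    · rintro ⟨c, hc, g, h⟩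
      have ht : t = g * tv hst c * g⁻¹ := by rw [← h]; group
      obtain ⟨hne, -⟩ := tv_mem_D hst (by simp) (by simp) hc
      refine ⟨fun e => hne ?_, conjBy (Root (Pi.single 0 1) (Pi.single 1 1)) g, hS.conj_mem _ hmem g,
        ⟨tv hst c, (mem_root hst).2 ⟨c, rfl⟩, ?_⟩⟩
      · rw [← h, e]; group
      · rw [ht]; rfl
    · rintro ⟨ht1, A, hA, htA⟩
      obtain ⟨g, rfl⟩ := fam_conj h3 _ hmem A hA
      obtain ⟨x, hx, rfl⟩ := htA
      obtain ⟨c, rfl⟩ := (mem_root hst).1 hx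
      refine ⟨c, fun hc => ht1 ?_, g, ?_⟩
      · subst hc; rw [tv_zero, map_one]
      · show g⁻¹ * (g * tv hst c * g⁻¹) * g = _
        group
  have hset : IsRootInvolutionSet D := by
    rw [heq]
    refine ⟨fun d hd => orderOf_D hd, ?_, fun d hd g => ?_, fun a ha b hb => ?_⟩
    · rw [eq_top_iff, ← hS.generates, iSup₂_le_iff]
      intro A hA x hx
      rcases eq_or_ne x 1 with rfl | hx1
      · exact one_mem _
      · exact Subgroup.subset_closure ⟨hx1, A, hA, hx⟩
    · obtain ⟨hd1, A, hA, hdA⟩ := hd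
      exact ⟨fun e => hd1 (conj_eq_one_iff.mp e), conjBy A g, hS.conj_mem A hA g, ⟨d, hdA, rfl⟩⟩
    · rcases pair_D ha hb with h | h | h
      · exact Or.inl h
      · exact Or.inr (Or.inl h.1)
      · exact Or.inr (Or.inr h)
  have hscale : ∀ c : F, c ≠ 0 → ∃ h : Matrix.SpecialLinearGroup (Fin (n + 3)) F,
      h * tv hst 1 * h⁻¹ = tv hst c := by
    intro c hc
    have h02 : (0 : Fin (n + 3)) ≠ 2 := by simp [Fin.ext_iff, Fin.val_ofNat, Nat.mod_eq_of_lt]
    have h12 : (1 : Fin (n + 3)) ≠ 2 := by simp [Fin.ext_iff, Fin.val_ofNat, Nat.mod_eq_of_lt]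
    let d : Fin (n + 3) → F := Function.update (Function.update 1 0 c) 2 c⁻¹
    have hdet : (Matrix.diagonal d).det = 1 := by
      rw [Matrix.det_diagonal, Finset.prod_update_of_mem (Finset.mem_univ _),
        Finset.prod_update_of_mem (by simp [h02])]
      simp [inv_mul_cancel₀ hc]
    refine ⟨⟨Matrix.diagonal d, hdet⟩, mul_inv_eq_of_eq_mul (Subtype.ext ?_)⟩
    show Matrix.diagonal d * (tv hst (1 : F) : Matrix (Fin (n + 3)) (Fin (n + 3)) F) =
      (tv hst c : Matrix (Fin (n + 3)) (Fin (n + 3)) F) * Matrix.diagonal d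
    rw [← htr, ← htr]
    show Matrix.diagonal d * Matrix.transvection 0 1 1 = Matrix.transvection 0 1 c * Matrix.diagonal d
    ext i j
    simp only [Matrix.diagonal_mul, Matrix.mul_diagonal, Matrix.transvection, Matrix.add_apply,
      Matrix.single_apply]
    have hd0 : d 0 = c := by simp [d, h02]
    have hd1 : d 1 = 1 := by simp [d, h12]
    by_cases hij : i = j
    · subst hij
      have : ¬ ((0 : Fin (n + 3)) = i ∧ (1 : Fin (n + 3)) = i) := fun h =>
        absurd (h.1.trans h.2.symm) (by simp)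
      simp [this]
    · by_cases h01 : (0 : Fin (n + 3)) = i ∧ (1 : Fin (n + 3)) = j
      · obtain ⟨rfl, rfl⟩ := h01
        simp [Matrix.one_apply_ne hij, hd0, hd1]
      · simp [h01, Matrix.one_apply_ne hij]
  refine ⟨⟨hset, ?_, ?_⟩, fun hF => ⟨hset, fun a ha b hb ho => ?_⟩⟩
  · exact ⟨tv hst 1, (hD _).2 ⟨1, one_ne_zero, 1, by simp⟩⟩
  · intro a ha b hb
    obtain ⟨c, hc, g, hg⟩ := (hD a).1 ha
    obtain ⟨c', hc', g', hg'⟩ := (hD b).1 hb
    obtain ⟨h, hh⟩ := hscale c hc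
    obtain ⟨h', hh'⟩ := hscale c' hc'
    refine ⟨g' * h' * h⁻¹ * g⁻¹, ?_⟩
    calc b = g' * (g'⁻¹ * b * g') * g'⁻¹ := by group
      _ = g' * (h' * tv hst 1 * h'⁻¹) * g'⁻¹ := by rw [hg', hh']
      _ = g' * (h' * (h⁻¹ * (g⁻¹ * a * g) * h) * h'⁻¹) * g'⁻¹ := by rw [hg, ← hh]; group
      _ = _ := by group
  · rw [heq] at ha hb
    rcases pair_D ha hb with h | ⟨-, h⟩ | ⟨h, -⟩
    · left
      have h2 : (a * b) ^ 2 = 1 := by
        rw [(show Commute a b from h).mul_pow, pow_two, pow_two, sq_D ha, sq_D hb, one_mul]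
      rcases (Nat.dvd_prime Nat.prime_two).mp (orderOf_dvd_of_pow_eq_one h2) with h' | h'
      · exact h'
      · rw [h'] at ho; exact absurd ho (by decide)
    · rcases (Nat.dvd_prime Nat.prime_three).mp (orderOf_dvd_of_pow_eq_one (h hF)) with h' | h'
      · exact Or.inl h'
      · exact Or.inr h'
    · rw [h] at ho; exact absurd ho (by decide)

end Cfsg.Agent.S5058
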