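import Cfsg.Statements.S5059
import Mathlib

set_option autoImplicit false
set_option linter.style.haveILetI false
universe u
open Cfsg

namespace Cfsg.Agent.S5059

variable {k : Type*} [Field k] {M : Type*} [AddCommGroup M] [Module k M] [FiniteDimensional k M]

local notation "E" => Module.End k M
local notation "GLM" => LinearMap.GeneralLinearGroup k M

theorem kr_eq (G : Subgroup GLM) {σ τ : GLM} (hσ : σ ∈ Cfsg.minimalQuadraticElements G) (hτ : τ ∈ G)
    (hsc : Cfsg.scalarFamily τ ⊆ (G : Set GLM)) (hne : (τ : E) - 1 ≠ 0)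
    (hk : LinearMap.ker ((σ : E) - 1) ≤ LinearMap.ker ((τ : E) - 1))
    (hr : LinearMap.range ((τ : E) - 1) ≤ LinearMap.range ((σ : E) - 1)) :
    τ ∈ Cfsg.sameActionClass G σ := by
  have hs2 : ((σ : E) - 1) * ((σ : E) - 1) = 0 := hσ.1.2.1.1
  have hsq : ((τ : E) - 1) * ((τ : E) - 1) = 0 := by
    refine LinearMap.ext fun v => ?_
    obtain ⟨w, hw⟩ := hr (LinearMap.mem_range_self ((τ : E) - 1) v)
    have h2 : ((σ : E) - 1) w ∈ LinearMap.ker ((σ : E) - 1) :=
      LinearMap.mem_ker.mpr (DFunLike.congr_fun hs2 w)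
    have h3 := LinearMap.mem_ker.mp (hk h2)
    change ((τ : E) - 1) (((τ : E) - 1) v) = 0
    rw [← hw]; exact h3
  have hq : τ ∈ Cfsg.quadraticElements G := ⟨hτ, ⟨hsq, hne⟩, hsc⟩
  have hle : Module.finrank k (LinearMap.range ((σ : E) - 1)) ≤ Module.finrank k (LinearMap.range ((τ : E) - 1)) :=
    hσ.2 τ hq
  have hre : LinearMap.range ((τ : E) - 1) = LinearMap.range ((σ : E) - 1) :=
    Submodule.eq_of_le_of_finrank_le hr hle
  refine ⟨⟨hq, fun ρ hρ => ?_⟩, ?_, hre⟩
  · have : Cfsg.commutatorRank τ = Cfsg.commutatorRank σ := by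
      show Module.finrank k (LinearMap.range ((τ : E) - 1)) = Module.finrank k (LinearMap.range ((σ : E) - 1))
      rw [hre]
    rw [this]; exact hσ.2 ρ hρ
  · refine (Submodule.eq_of_le_of_finrank_eq hk ?_).symm
    have h1 := LinearMap.finrank_range_add_finrank_ker ((σ : E) - 1)
    have h2 := LinearMap.finrank_range_add_finrank_ker ((τ : E) - 1)
    rw [hre] at h2
    omega

/-- The carrier of the subgroup. -/
def Car (G : Subgroup GLM) (σ : GLM) : Set GLM := Cfsg.sameActionClass G σ ∪ {1}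

theorem car_prop (G : Subgroup GLM) {σ τ : GLM} (h : τ ∈ Car G σ) :
    τ ∈ G ∧ Cfsg.scalarFamily τ ⊆ (G : Set GLM) ∧ LinearMap.ker ((σ : E) - 1) ≤ LinearMap.ker ((τ : E) - 1) ∧
      LinearMap.range ((τ : E) - 1) ≤ LinearMap.range ((σ : E) - 1) := by
  rcases h with h | h
  · exact ⟨h.1.1.1, h.1.1.2.2, h.2.1.ge, h.2.2.le⟩
  · rw [Set.mem_singleton_iff.mp h]
    refine ⟨one_mem _, ?_, ?_, ?_⟩
    · rintro x ⟨c, hc⟩
      have : x = 1 := Units.ext (by simpa using hc)
      rw [this]; exact one_mem G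
    · simp
    · simp

theorem prod_zero (G : Subgroup GLM) {σ a b : GLM} (hσ : σ ∈ Cfsg.minimalQuadraticElements G)
    (ha : a ∈ Car G σ) (hb : b ∈ Car G σ) : ((a : E) - 1) * ((b : E) - 1) = 0 := by
  refine LinearMap.ext fun v => ?_
  obtain ⟨w, hw⟩ := (car_prop G hb).2.2.2 (LinearMap.mem_range_self ((b : E) - 1) v)
  have h2 : ((σ : E) - 1) w ∈ LinearMap.ker ((σ : E) - 1) :=
    LinearMap.mem_ker.mpr (DFunLike.congr_fun hσ.1.2.1.1 w)
  have h3 := LinearMap.mem_ker.mp ((car_prop G ha).2.2.1 h2)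
  change ((a : E) - 1) (((b : E) - 1) v) = 0
  rw [← hw]; exact h3

theorem msub (G : Subgroup GLM) {σ a b : GLM} (hσ : σ ∈ Cfsg.minimalQuadraticElements G)
    (ha : a ∈ Car G σ) (hb : b ∈ Car G σ) : ((a * b : GLM) : E) - 1 = ((a : E) - 1) + ((b : E) - 1) := by
  have h := prod_zero G hσ ha hb
  calc ((a * b : GLM) : E) - 1 = ((a : E) - 1) * ((b : E) - 1) + (((a : E) - 1) + ((b : E) - 1)) := by
        rw [Units.val_mul]; noncomm_ring
    _ = _ := by rw [h, zero_add]

theorem inv_sub (G : Subgroup GLM) {σ a : GLM} (hσ : σ ∈ Cfsg.minimalQuadraticElements G)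
    (ha : a ∈ Car G σ) : ((a⁻¹ : GLM) : E) - 1 = -((a : E) - 1) := by
  have h := prod_zero G hσ ha ha
  have h2 : (a : E) * (1 - ((a : E) - 1)) = 1 := by
    calc (a : E) * (1 - ((a : E) - 1)) = 1 - ((a : E) - 1) * ((a : E) - 1) := by noncomm_ring
      _ = 1 := by rw [h, sub_zero]
  have h3 : ((a⁻¹ : GLM) : E) = 1 - ((a : E) - 1) := by
    calc ((a⁻¹ : GLM) : E) = ((a⁻¹ : GLM) : E) * ((a : E) * (1 - ((a : E) - 1))) := by rw [h2, mul_one]
      _ = 1 - ((a : E) - 1) := by rw [← mul_assoc, Units.inv_mul, one_mul]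
  rw [h3]; abel

theorem aux_fam (y : E) (c : k) (h : y * y = 0) : (1 + c • y) * (1 - c • y) = 1 := by
  simp only [add_mul, mul_sub, one_mul, mul_one, smul_mul_assoc, mul_smul_comm, h, smul_zero, sub_zero]
  abel

/-- The family member with parameter `c`. -/
def fam (a : GLM) (c : k) (h : ((a : E) - 1) * ((a : E) - 1) = 0) : GLM where
  val := 1 + c • ((a : E) - 1)
  inv := 1 - c • ((a : E) - 1)
  val_inv := aux_fam _ c h
  inv_val := by
    have := aux_fam ((a : E) - 1) (-c) h
    simpa [neg_smul, sub_neg_eq_add, ← sub_eq_add_neg] using this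

theorem car_mul (G : Subgroup GLM) {σ a b : GLM} (hσ : σ ∈ Cfsg.minimalQuadraticElements G)
    (ha : a ∈ Car G σ) (hb : b ∈ Car G σ) : a * b ∈ Car G σ := by
  by_cases h0 : ((a * b : GLM) : E) - 1 = 0
  · exact Or.inr (Units.ext (sub_eq_zero.mp h0))
  obtain ⟨haG, has, hak, har⟩ := car_prop G ha
  obtain ⟨hbG, hbs, hbk, hbr⟩ := car_prop G hb
  refine Or.inl (kr_eq G hσ (mul_mem haG hbG) ?_ h0 ?_ ?_)
  · rintro x ⟨c, hc⟩
    have h1 : fam a c (prod_zero G hσ ha ha) ∈ G := has ⟨c, rfl⟩
    have h2 : fam b c (prod_zero G hσ hb hb) ∈ G := hbs ⟨c, rfl⟩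
    have : x = fam a c (prod_zero G hσ ha ha) * fam b c (prod_zero G hσ hb hb) := by
      refine Units.ext ?_
      change (x : E) = (1 + c • ((a : E) - 1)) * (1 + c • ((b : E) - 1))
      rw [show (x : E) = 1 + c • (((a * b : GLM) : E) - 1) from hc, msub G hσ ha hb]
      simp only [add_mul, mul_add, one_mul, mul_one, smul_mul_assoc, mul_smul_comm, prod_zero G hσ ha hb,
        smul_zero, add_zero, smul_add]
      abel
    rw [this]; exact mul_mem h1 h2
  · intro v hv
    rw [LinearMap.mem_ker, msub G hσ ha hb, LinearMap.add_apply, LinearMap.mem_ker.mp (hak hv),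
      LinearMap.mem_ker.mp (hbk hv), add_zero]
  · rintro _ ⟨v, rfl⟩
    rw [msub G hσ ha hb, LinearMap.add_apply]
    exact add_mem (har (LinearMap.mem_range_self _ v)) (hbr (LinearMap.mem_range_self _ v))

theorem car_inv (G : Subgroup GLM) {σ a : GLM} (hσ : σ ∈ Cfsg.minimalQuadraticElements G)
    (ha : a ∈ Car G σ) : a⁻¹ ∈ Car G σ := by
  obtain ⟨haG, has, hak, har⟩ := car_prop G ha
  rcases ha with h | h
  · have hi := inv_sub G hσ (Or.inl h : a ∈ Car G σ)
    refine Or.inl (kr_eq G hσ (inv_mem haG) ?_ ?_ ?_ ?_)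
    · rintro x ⟨c, hc⟩
      refine has ⟨-c, ?_⟩
      rw [show (x : E) = 1 + c • (((a⁻¹ : GLM) : E) - 1) from hc, hi, smul_neg, neg_smul]
    · rw [hi, neg_ne_zero]; exact h.1.1.2.1.2
    · rw [hi, LinearMap.ker_neg]; exact hak
    · rw [hi, LinearMap.range_neg]; exact har
  · rw [Set.mem_singleton_iff.mp h, inv_one]; exact Or.inr rfl

/-- Let k be a field of characteristic not 2 with k not of order 3, M a finite-dimensional k-vector space and G ≤ GL(M) such that (G, M) is a quadratic pair (M irreducible for G, and G generated by its quadratically acting elements σ whose scalar family 1 + c(σ − 1), c ∈ k, lies in G). Write 𝒬_d for the quadratic elements of G of minimal commutator rank, E(σ) for the subgroup generated by the members of 𝒬_d with the same fixed space and commutator space as σ, and Σ for the set of these subgroups. Then for σ ∈ 𝒬_d the subgroup E(σ) consists exactly of those members together with the identity, it is abelian, and if k has prime characteristic p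 every element of E(σ) has order dividing p. -/
theorem result {k : Type u} [Field k] (hk2 : ringChar k ≠ 2) (hk3 : Nat.card k ≠ 3)
    {M : Type u} [AddCommGroup M] [Module k M] [FiniteDimensional k M]
    {G : Subgroup (LinearMap.GeneralLinearGroup k M)} (hG : Cfsg.IsQuadraticPair G)
    {σ : LinearMap.GeneralLinearGroup k M} (hσ : σ ∈ Cfsg.minimalQuadraticElements G) :
    (Cfsg.sameActionSubgroup G σ : Set (LinearMap.GeneralLinearGroup k M)) = Cfsg.sameActionClass G σ ∪ {1} ∧
    IsMulCommutative ↥(Cfsg.sameActionSubgroup G σ) ∧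
    (∀ p : ℕ, p.Prime → ringChar k = p → ∀ x ∈ Cfsg.sameActionSubgroup G σ, x ^ p = 1) := by
  have hcl : (Cfsg.sameActionSubgroup G σ : Set (LinearMap.GeneralLinearGroup k M)) = Cfsg.sameActionClass G σ ∪ {1} := by
    refine subset_antisymm (fun x hx => ?_) ?_
    · induction hx using Subgroup.closure_induction with
      | mem y hy => exact Or.inl hy
      | one => exact Or.inr rfl
      | mul a b _ _ ha hb => exact car_mul G hσ ha hb
      | inv a _ ha => exact car_inv G hσ ha
    · rintro x (hx | hx)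
      · exact Subgroup.subset_closure hx
      · rw [Set.mem_singleton_iff.mp hx]; exact one_mem _
  refine ⟨hcl, ⟨⟨fun a b => Subtype.ext (Units.ext ?_)⟩⟩, fun p hp hchar x hx => ?_⟩
  · have ha : (a : LinearMap.GeneralLinearGroup k M) ∈ Car G σ := (Set.ext_iff.mp hcl _).mp a.2
    have hb : (b : LinearMap.GeneralLinearGroup k M) ∈ Car G σ := (Set.ext_iff.mp hcl _).mp b.2
    exact sub_left_inj.mp ((msub G hσ ha hb).trans ((add_comm _ _).trans (msub G hσ hb ha).symm))
  · have hxc : x ∈ Car G σ := (Set.ext_iff.mp hcl _).mp hx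
    have hn : ∀ n : ℕ, x ^ n ∈ Car G σ ∧
        ((x ^ n : LinearMap.GeneralLinearGroup k M) : Module.End k M) - 1 = (n : k) • ((x : Module.End k M) - 1) := by
      intro n
      induction n with
      | zero => exact ⟨Or.inr (pow_zero x), by simp⟩
      | succ n ih =>
        rw [pow_succ]
        exact ⟨car_mul G hσ ih.1 hxc, by rw [msub G hσ ih.1 hxc, ih.2, Nat.cast_succ, add_smul, one_smul]⟩
    haveI : CharP k p := hchar ▸ ringChar.charP k
    refine Units.ext (sub_eq_zero.mp ?_)
    rw [Units.val_one, (hn p).2, CharP.cast_eq_zero k p, zero_smul]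

end Cfsg.Agent.S5059
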