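import Cfsg.Statements.S5060
import Cfsg.Agent.Lib.QuadPair.SL2Full

set_option autoImplicit false
open Cfsg

namespace Cfsg.Agent.S5060

/-- Let k ⊆ K be fields with the characteristic of k not 2 and k not of order 3, and let α ∈ K be a non-zero element algebraic over k. Then the subgroup of SL₂(K) generated by the upper unitriangular matrices with entry c and the lower unitriangular matrices with entry cα, c ranging over k, is exactly the group of matrices of SL₂(K) with all entries in k(α). -/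
theorem result {k K : Type*} [Field k] [Field K] [Algebra k K] (hk2 : ringChar k ≠ 2) (hk3 : Nat.card k ≠ 3)
    (α : K) (hα : IsAlgebraic k α) (hα0 : α ≠ 0) :
    (Subgroup.closure ({g : Matrix.SpecialLinearGroup (Fin 2) K | ∃ c : k, (g : Matrix (Fin 2) (Fin 2) K) = !![1, algebraMap k K c; 0, 1]} ∪
        {g : Matrix.SpecialLinearGroup (Fin 2) K | ∃ c : k, (g : Matrix (Fin 2) (Fin 2) K) = !![1, 0; algebraMap k K c * α, 1]}) :
      Set (Matrix.SpecialLinearGroup (Fin 2) K)) =
    {g : Matrix.SpecialLinearGroup (Fin 2) K | ∀ i j : Fin 2, (g : Matrix (Fin 2) (Fin 2) K) i j ∈ IntermediateField.adjoin k ({α} : Set K)} := by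
  classical
  have hint : IsIntegral k α := hα.isIntegral
  let pb := IntermediateField.adjoin.powerBasis hint
  let ι : ↥(IntermediateField.adjoin k ({α} : Set K)) →+* K := (IntermediateField.adjoin k ({α} : Set K)).val.toRingHom
  let Φ : Matrix.SpecialLinearGroup (Fin 2) ↥(IntermediateField.adjoin k ({α} : Set K)) →* Matrix.SpecialLinearGroup (Fin 2) K :=
    Matrix.SpecialLinearGroup.map ι
  have hgen : ι pb.gen = α := by
    simp [ι, pb, IntermediateField.adjoin.powerBasis_gen, IntermediateField.AdjoinSimple.gen]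
  have h0 : pb.gen ≠ 0 := fun h => hα0 (by rw [← hgen, h, map_zero])
  have htop := CfsgLib.QuadPair.gam_eq_top pb (Ring.two_ne_zero hk2) hk3 h0
  have hc : ∀ c : k, ι (algebraMap k ↥(IntermediateField.adjoin k ({α} : Set K)) c) = algebraMap k K c := fun c => rfl
  have key : Subgroup.closure ({g : Matrix.SpecialLinearGroup (Fin 2) K | ∃ c : k, (g : Matrix (Fin 2) (Fin 2) K) = !![1, algebraMap k K c; 0, 1]} ∪
        {g : Matrix.SpecialLinearGroup (Fin 2) K | ∃ c : k, (g : Matrix (Fin 2) (Fin 2) K) = !![1, 0; algebraMap k K c * α, 1]}) = Φ.range := by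
    rw [MonoidHom.range_eq_map, ← htop, CfsgLib.QuadPair.gam, MonoidHom.map_closure, Set.image_union]
    congr 2 <;> ext g
    · constructor
      · rintro ⟨c, hg⟩
        refine ⟨_, ⟨c, rfl⟩, CfsgLib.QuadPair.sl_ext ?_ ?_ ?_ ?_⟩ <;>
          simp [Φ, CfsgLib.QuadPair.upm_coe, hg, hc]
      · rintro ⟨_, ⟨c, rfl⟩, rfl⟩
        refine ⟨c, Matrix.ext fun i j => ?_⟩
        fin_cases i <;> fin_cases j <;> simp [Φ, CfsgLib.QuadPair.upm_coe, hc]
    · constructor
      · rintro ⟨c, hg⟩
        refine ⟨_, ⟨c, rfl⟩, CfsgLib.QuadPair.sl_ext ?_ ?_ ?_ ?_⟩ <;>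
          simp [Φ, CfsgLib.QuadPair.lom_coe, hg, hc, hgen]
      · rintro ⟨_, ⟨c, rfl⟩, rfl⟩
        refine ⟨c, Matrix.ext fun i j => ?_⟩
        fin_cases i <;> fin_cases j <;> simp [Φ, CfsgLib.QuadPair.lom_coe, hc, hgen]
  rw [key]
  ext g
  constructor
  · rintro ⟨h, rfl⟩ i j
    exact ((h : Matrix (Fin 2) (Fin 2) ↥(IntermediateField.adjoin k ({α} : Set K))) i j).2
  · intro hg
    let m : Matrix (Fin 2) (Fin 2) ↥(IntermediateField.adjoin k ({α} : Set K)) := fun i j => ⟨_, hg i j⟩
    have hm : m.det = 1 := by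
      refine ι.injective ?_
      rw [RingHom.map_det, map_one]
      exact g.2
    exact ⟨⟨m, hm⟩, Subtype.ext (Matrix.ext fun i j => rfl)⟩

end Cfsg.Agent.S5060
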