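import Cfsg.Statements.S5064
import Cfsg.Agent.Lib.QuadPair.NonNilp

set_option autoImplicit false
universe u
open Cfsg

namespace Cfsg.Agent.S5064

/-- Let k be a field of characteristic not 2 with k not of order 3, M a finite-dimensional k-vector space and G ≤ GL(M) such that (G, M) is a quadratic pair (M irreducible for G, and G generated by its quadratically acting elements σ whose scalar family 1 + c(σ − 1), c ∈ k, lies in G). Write 𝒬_d for the quadratic elements of G of minimal commutator rank, E(σ) for the subgroup generated by the members of 𝒬_d with the same fixed space and commutator space as σ, and Σ for the set of these subgroups. If σ, τ ∈ 𝒬_d and the subgroup H generated by their two scalar families does not act unipotently on M, then H is isomorphic to SL₂ over a simple algebraic extension k(λ) of k. -/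
theorem result {k : Type u} [Field k] (hk2 : ringChar k ≠ 2) (hk3 : Nat.card k ≠ 3)
    {M : Type u} [AddCommGroup M] [Module k M] [FiniteDimensional k M]
    {G : Subgroup (LinearMap.GeneralLinearGroup k M)} (hG : Cfsg.IsQuadraticPair G)
    {σ τ : LinearMap.GeneralLinearGroup k M} (hσ : σ ∈ Cfsg.minimalQuadraticElements G) (hτ : τ ∈ Cfsg.minimalQuadraticElements G)
    (hH : ¬ Cfsg.IsUnipotentOn (Subgroup.closure (Cfsg.scalarFamily σ ∪ Cfsg.scalarFamily τ))) :
    ∃ (K : Type u) (_ : Field K) (_ : Algebra k K) (lam : K), IsAlgebraic k lam ∧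
      IntermediateField.adjoin k ({lam} : Set K) = ⊤ ∧
      Nonempty (↥(Subgroup.closure (Cfsg.scalarFamily σ ∪ Cfsg.scalarFamily τ)) ≃* Matrix.SpecialLinearGroup (Fin 2) K) := by
  classical
  have h2 : (2 : k) ≠ 0 := Ring.two_ne_zero hk2
  have hs := CfsgLib.QuadPair.mem_minimal.mp hσ
  have ht := CfsgLib.QuadPair.mem_minimal.mp hτ
  have hH' : Subgroup.closure (Cfsg.scalarFamily σ ∪ Cfsg.scalarFamily τ) =
      CfsgLib.QuadPair.pairGrp (CfsgLib.RootSub.Unip.dm σ) (CfsgLib.RootSub.Unip.dm τ) := by
    unfold CfsgLib.QuadPair.pairGrp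
    congr 2 <;> ext g
    · exact CfsgLib.QuadPair.mem_family hs.sq
    · exact CfsgLib.QuadPair.mem_family ht.sq
  have hn : ¬ IsNilpotent (CfsgLib.RootSub.Unip.dm σ * CfsgLib.RootSub.Unip.dm τ) := fun h =>
    hH (CfsgLib.QuadPair.unip_pair hs.sq ht.sq h hH')
  obtain ⟨O⟩ := CfsgLib.QuadPair.opposed h2 hk3 hs ht hn
  let _ := O.fieldK
  let _ := O.algK
  have := O.pb.finite
  refine ⟨O.K, O.fieldK, O.algK, O.pb.gen, Algebra.IsAlgebraic.isAlgebraic _, ?_, ?_⟩
  · refine IntermediateField.toSubalgebra_injective (top_le_iff.mp ?_)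
    rw [← O.pb.adjoin_gen_eq_top]
    exact IntermediateField.algebra_adjoin_le_adjoin k _
  · rw [hH', ← O.range_eq]
    exact ⟨(MonoidHom.ofInjective O.inj).symm⟩

end Cfsg.Agent.S5064
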