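import Cfsg.Statements.S5065
import Cfsg.Agent.Lib.QuadPair.Comm

set_option autoImplicit false
universe u
open Cfsg

namespace Cfsg.Agent.S5065

/-- Let k be a field of characteristic not 2 with k not of order 3, M a finite-dimensional k-vector space and G ≤ GL(M) such that (G, M) is a quadratic pair (M irreducible for G, and G generated by its quadratically acting elements σ whose scalar family 1 + c(σ − 1), c ∈ k, lies in G). Write 𝒬_d for the quadratic elements of G of minimal commutator rank, E(σ) for the subgroup generated by the members of 𝒬_d with the same fixed space and commutator space as σ, and Σ for the set of these subgroups. For σ, τ ∈ 𝒬_d put A = E(σ), B = E(τ) and X = ⟨A, B⟩. Then either X acts unipotently on M, or A and B are the unipotent subgroups of a special rank one group X; in the latter case X contains exactly one central involution acting as −1 on the commutator space [M, X] and trivially on the fixed space C_M(X), and M is the direct sum of C_M(X) and [M,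 X]. -/
theorem result {k : Type u} [Field k] (hk2 : ringChar k ≠ 2) (hk3 : Nat.card k ≠ 3)
    {M : Type u} [AddCommGroup M] [Module k M] [FiniteDimensional k M]
    {G : Subgroup (LinearMap.GeneralLinearGroup k M)} (hG : Cfsg.IsQuadraticPair G)
    {σ τ : LinearMap.GeneralLinearGroup k M} (hσ : σ ∈ Cfsg.minimalQuadraticElements G) (hτ : τ ∈ Cfsg.minimalQuadraticElements G) :
    Cfsg.IsUnipotentOn (Cfsg.sameActionSubgroup G σ ⊔ Cfsg.sameActionSubgroup G τ) ∨
    (Cfsg.IsSpecialRankOnePair (Cfsg.sameActionSubgroup G σ) (Cfsg.sameActionSubgroup G τ) ∧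
      (∃! i : LinearMap.GeneralLinearGroup k M, i ∈ Cfsg.sameActionSubgroup G σ ⊔ Cfsg.sameActionSubgroup G τ ∧ i ≠ 1 ∧ i * i = 1 ∧
        (∀ x ∈ Cfsg.sameActionSubgroup G σ ⊔ Cfsg.sameActionSubgroup G τ, i * x = x * i) ∧
        (∀ m ∈ Cfsg.commutatorSubmodule (Cfsg.sameActionSubgroup G σ ⊔ Cfsg.sameActionSubgroup G τ), (i : M →ₗ[k] M) m = -m) ∧
        (∀ m ∈ Cfsg.fixedSubmodule (Cfsg.sameActionSubgroup G σ ⊔ Cfsg.sameActionSubgroup G τ), (i : M →ₗ[k] M) m = m)) ∧
      IsCompl (Cfsg.fixedSubmodule (Cfsg.sameActionSubgroup G σ ⊔ Cfsg.sameActionSubgroup G τ))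
        (Cfsg.commutatorSubmodule (Cfsg.sameActionSubgroup G σ ⊔ Cfsg.sameActionSubgroup G τ))) := by
  classical
  have h2 : (2 : k) ≠ 0 := Ring.two_ne_zero hk2
  have hs := CfsgLib.QuadPair.mem_minimal.mp hσ
  have ht := CfsgLib.QuadPair.mem_minimal.mp hτ
  rw [← CfsgLib.QuadPair.root_dm hσ, ← CfsgLib.QuadPair.root_dm hτ]
  by_cases ho : CfsgLib.QuadPair.Opp (CfsgLib.RootSub.Unip.dm σ) (CfsgLib.RootSub.Unip.dm τ)
  swap
  · exact Or.inl (CfsgLib.QuadPair.unip_of_not_opp h2 hk3 hs ht ho)
  obtain ⟨O⟩ := CfsgLib.QuadPair.opposed h2 hk3 hs ht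
    fun h => (CfsgLib.QuadPair.nilp_iff h2 hk3 hs ht).mp h ho
  let _ := O.fieldK
  let _ := O.algK
  rw [CfsgLib.QuadPair.fixed_eq hs ht, CfsgLib.QuadPair.commutator_eq hs ht]
  refine Or.inr ⟨CfsgLib.QuadPair.special_pair h2 hk3 hs ht ho, ⟨O.Φ (-1), ⟨?_, ?_, ?_, ?_, O.neg_left, O.neg_right⟩,
    ?_⟩, O.compl.symm⟩
  · have hle : O.Φ.range ≤ CfsgLib.QuadPair.root G (CfsgLib.RootSub.Unip.dm σ) ⊔
        CfsgLib.QuadPair.root G (CfsgLib.RootSub.Unip.dm τ) := by
      rw [O.range_eq]
      refine (Subgroup.closure_le _).mpr ?_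
      rintro _ (⟨c, rfl⟩ | ⟨c, rfl⟩)
      · exact Subgroup.mem_sup_left (CfsgLib.QuadPair.el_mem_root hs
          (Submodule.smul_mem _ c (CfsgLib.QuadPair.self_mem_cls hs)))
      · exact Subgroup.mem_sup_right (CfsgLib.QuadPair.el_mem_root ht
          (Submodule.smul_mem _ c (CfsgLib.QuadPair.self_mem_cls ht)))
    exact hle ⟨-1, rfl⟩
  · intro h
    apply hs.2.1
    refine LinearMap.ext fun v => ?_
    have h1 := O.neg_left (CfsgLib.RootSub.Unip.dm σ v)
      (Submodule.mem_sup_left (LinearMap.mem_range_self _ v))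
    rw [h, Units.val_one, Module.End.one_apply, eq_neg_iff_add_eq_zero, ← two_smul k] at h1
    exact (smul_eq_zero.mp h1).resolve_left h2
  · rw [← map_mul, neg_mul_neg, one_mul, map_one]
  · intro x hx
    refine Units.ext (CfsgLib.QuadPair.ext_compl O.compl (fun v => ?_) fun v hv => ?_) <;>
      simp only [Units.val_mul, Module.End.mul_apply]
    · obtain ⟨v, hv⟩ := v
      have hm : (x : Module.End k M) v ∈ LinearMap.range (CfsgLib.RootSub.Unip.dm σ) ⊔
          LinearMap.range (CfsgLib.RootSub.Unip.dm τ) := by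
        have h1 := (CfsgLib.QuadPair.range_dm_le hs ht hx).1 (LinearMap.mem_range_self _ v)
        simpa [CfsgLib.RootSub.Unip.dm] using add_mem h1 hv
      rw [O.neg_left _ hm, O.neg_left _ hv, map_neg]
    · have h1 : (x : Module.End k M) v = v := by
        have := LinearMap.mem_ker.mp ((CfsgLib.QuadPair.range_dm_le hs ht hx).2 hv)
        simpa [CfsgLib.RootSub.Unip.dm, sub_eq_zero] using this
      rw [h1, O.neg_right _ hv, h1]
  · rintro j ⟨-, -, -, -, hj1, hj2⟩
    refine Units.ext (CfsgLib.QuadPair.ext_compl O.compl (fun v => ?_) fun v hv => ?_)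
    · exact (hj1 _ v.2).trans (O.neg_left _ v.2).symm
    · exact (hj2 _ hv).trans (O.neg_right _ hv).symm

end Cfsg.Agent.S5065
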