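import Cfsg.Statements.S5066
import Cfsg.Agent.Lib.QuadPair.Comm

set_option autoImplicit false
universe u
open Cfsg

namespace Cfsg.Agent.S5066

/-- Let k be a field of characteristic not 2 with k not of order 3, M a finite-dimensional k-vector space and G ≤ GL(M) such that (G, M) is a quadratic pair (M irreducible for G, and G generated by its quadratically acting elements σ whose scalar family 1 + c(σ − 1), c ∈ k, lies in G). Write 𝒬_d for the quadratic elements of G of minimal commutator rank, E(σ) for the subgroup generated by the members of 𝒬_d with the same fixed space and commutator space as σ, and Σ for the set of these subgroups. Let E, F ∈ Σ generate a subgroup that is nilpotent of class exactly two. Then D = ⁅E, F⁆ belongs to Σ, equals the subgroup generated by the commutators of e with F, and also of E with f, for every non-identity e ∈ E, f ∈ F, and ⟨E, F⟩ lies in U(D), the set of elements g of G normalizing D with (g − 1)M inside the fixed space of D, (g − 1) mapping that fixed space into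 the commutator space of D, and g acting trivially on the commutator space of D. -/
theorem result {k : Type u} [Field k] (hk2 : ringChar k ≠ 2) (hk3 : Nat.card k ≠ 3)
    {M : Type u} [AddCommGroup M] [Module k M] [FiniteDimensional k M]
    {G : Subgroup (LinearMap.GeneralLinearGroup k M)} (hG : Cfsg.IsQuadraticPair G)
    {E F : Subgroup (LinearMap.GeneralLinearGroup k M)} (hE : E ∈ Cfsg.quadraticRootSubgroups G) (hF : F ∈ Cfsg.quadraticRootSubgroups G)
    (h2 : ⁅E ⊔ F, E ⊔ F⁆ ≠ ⊥ ∧ ⁅⁅E ⊔ F, E ⊔ F⁆, E ⊔ F⁆ = ⊥) :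
    ⁅E, F⁆ ∈ Cfsg.quadraticRootSubgroups G ∧
    (∀ e ∈ E, e ≠ 1 → Subgroup.closure ((fun f : LinearMap.GeneralLinearGroup k M => e * f * e⁻¹ * f⁻¹) '' (F : Set (LinearMap.GeneralLinearGroup k M))) = ⁅E, F⁆) ∧
    (∀ f ∈ F, f ≠ 1 → Subgroup.closure ((fun e : LinearMap.GeneralLinearGroup k M => e * f * e⁻¹ * f⁻¹) '' (E : Set (LinearMap.GeneralLinearGroup k M))) = ⁅E, F⁆) ∧
    ((E ⊔ F : Subgroup (LinearMap.GeneralLinearGroup k M)) : Set (LinearMap.GeneralLinearGroup k M)) ⊆ Cfsg.quadraticUnipotentCore G ⁅E, F⁆ := by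
  obtain ⟨s, hs, rfl⟩ := CfsgLib.QuadPair.mem_roots.mp hE
  obtain ⟨t, ht, rfl⟩ := CfsgLib.QuadPair.mem_roots.mp hF
  have h2' : (2 : k) ≠ 0 := Ring.two_ne_zero hk2
  rcases CfsgLib.QuadPair.unip_pair_spec h2' hk3 hG hs ht
      (CfsgLib.QuadPair.not_opp_of_class_two h2' hk3 hs ht h2.2) with h | ⟨a, b, c, -, -, d⟩
  · refine absurd ?_ h2.1
    have hs' := CfsgLib.QuadPair.root_comm (G := G) hs
    have ht' := CfsgLib.QuadPair.root_comm (G := G) ht
    have key : ∀ {A B : Subgroup (LinearMap.GeneralLinearGroup k M)}, IsMulCommutative ↥A → ⁅A, B⁆ = ⊥ →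
        A ⊔ B ≤ Subgroup.centralizer (A : Set (LinearMap.GeneralLinearGroup k M)) := by
      intro A B hA hAB
      refine sup_le (fun x hx => Subgroup.mem_centralizer_iff.mpr fun y hy => ?_)
        (Subgroup.commutator_eq_bot_iff_le_centralizer.mp (Subgroup.commutator_comm A B ▸ hAB))
      exact congrArg Subtype.val (hA.is_comm.comm ⟨y, hy⟩ ⟨x, hx⟩)
    have k1 := key hs' h
    have k2 := key ht' (Subgroup.commutator_comm (CfsgLib.QuadPair.root G s) (CfsgLib.QuadPair.root G t) ▸ h)
    rw [sup_comm] at k2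
    exact Subgroup.commutator_eq_bot_iff_le_centralizer.mpr (Subgroup.le_centralizer_iff.mp
      (sup_le (Subgroup.le_centralizer_iff.mp k1) (Subgroup.le_centralizer_iff.mp k2)))
  · exact ⟨a, b, c, d⟩

end Cfsg.Agent.S5066
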