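import Cfsg.Statements.S5067
import Mathlib

set_option autoImplicit false
set_option linter.style.haveILetI false
open Cfsg
open scoped commutatorElement

namespace Cfsg.Agent.S5067

theorem key {P : Type*} [Group P] [Group.IsNilpotent P] (hna : ¬ IsMulCommutative P) {E : Subgroup P}
    (hE : IsMulCommutative ↥E) :
    Group.nilpotencyClass ↥(Subgroup.normalClosure (E : Set P)) < Group.nilpotencyClass P := by
  set L : ℕ → Subgroup P := fun n => (⊤ : Subgroup P).lowerCentralSeries n with hL
  set N := Subgroup.normalClosure (E : Set P) with hN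
  have hNle : N ≤ E ⊔ L 1 := by
    haveI : (E ⊔ L 1).Normal := by
      refine ⟨fun x hx g => ?_⟩
      have h1 : g * x * g⁻¹ * x⁻¹ ∈ L 1 := Subgroup.commutator_mem_commutator (Subgroup.mem_top g) (Subgroup.mem_top x)
      have := mul_mem (Subgroup.mem_sup_right h1 : g * x * g⁻¹ * x⁻¹ ∈ E ⊔ L 1) hx
      rwa [inv_mul_cancel_right] at this
    exact Subgroup.normalClosure_le_normal fun x hx => Subgroup.mem_sup_left hx
  haveI hn2 : (L 2).Normal := inferInstanceAs ((⊤ : Subgroup P).lowerCentralSeries 2).Normal
  have habel : ∀ x ∈ E ⊔ L 1, ∀ y ∈ E ⊔ L 1, ⁅x, y⁆ ∈ L 2 := by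
    let f := QuotientGroup.mk' (L 2)
    have hcen : ∀ a ∈ L 1, ∀ g : P, f a * f g = f g * f a := by
      intro a ha g
      have h1 : ⁅a, g⁆ ∈ L 2 := Subgroup.commutator_mem_commutator ha (Subgroup.mem_top g)
      rw [← commutatorElement_eq_one_iff_mul_comm, ← map_commutatorElement]
      exact (QuotientGroup.eq_one_iff _).mpr h1
    haveI hn1 : (L 1).Normal := inferInstanceAs ((⊤ : Subgroup P).lowerCentralSeries 1).Normal
    intro x hx y hy
    rw [← SetLike.mem_coe, Subgroup.mul_normal, Set.mem_mul] at hx hy
    obtain ⟨e, he, a, ha, rfl⟩ := hx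
    obtain ⟨e', he', a', ha', rfl⟩ := hy
    have hee : f e * f e' = f e' * f e := by
      haveI := hE
      rw [← map_mul, ← map_mul]
      exact congrArg f (congrArg Subtype.val (mul_comm' (⟨e, he⟩ : E) ⟨e', he'⟩))
    refine (QuotientGroup.eq_one_iff _).mp ?_
    change f ⁅e * a, e' * a'⁆ = 1
    rw [map_commutatorElement, commutatorElement_eq_one_iff_mul_comm, map_mul, map_mul]
    calc f e * f a * (f e' * f a') = f e * (f a * f e') * f a' := by group
      _ = f e * f e' * (f a * f a') := by rw [hcen a ha e']; group
      _ = f e' * (f e * f a') * f a := by rw [hee, hcen a ha a']; group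
      _ = f e' * f a' * (f e * f a) := by rw [← hcen a' ha' e]; group
  have hstep : ∀ i : ℕ, N.lowerCentralSeries (i + 1) ≤ L (i + 2) := by
    intro i
    induction i with
    | zero =>
      rw [Subgroup.lowerCentralSeries_succ, Subgroup.lowerCentralSeries_zero, Subgroup.commutator_le]
      exact fun x hx y hy => habel x (hNle hx) y (hNle hy)
    | succ i ih =>
      rw [Subgroup.lowerCentralSeries_succ]
      exact Subgroup.commutator_mono ih le_top
  have hc2 : 2 ≤ Group.nilpotencyClass P := by
    by_contra hlt
    apply hna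
    have h1 : L 1 = ⊥ := Subgroup.lowerCentralSeries_eq_bot_iff_nilpotencyClass_le.mpr (by omega)
    refine ⟨⟨fun a b => ?_⟩⟩
    have h2 : ⁅a, b⁆ ∈ L 1 := Subgroup.commutator_mem_commutator (Subgroup.mem_top a) (Subgroup.mem_top b)
    rw [h1, Subgroup.mem_bot] at h2
    exact commutatorElement_eq_one_iff_mul_comm.mp h2
  haveI : Group.IsNilpotent N := Subgroup.isNilpotent N
  refine lt_of_le_of_lt (Subgroup.lowerCentralSeries_eq_bot_iff_nilpotencyClass_le.mp ?_)
    (show Group.nilpotencyClass P - 1 < Group.nilpotencyClass P by omega)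
  rw [← Subgroup.map_eq_bot_iff_of_injective _ N.subtype_injective, Subgroup.top_subtype_lowerCentralSeries, eq_bot_iff]
  have h := hstep (Group.nilpotencyClass P - 2)
  rw [show Group.nilpotencyClass P - 2 + 1 = Group.nilpotencyClass P - 1 by omega,
    show Group.nilpotencyClass P - 2 + 2 = Group.nilpotencyClass P by omega] at h
  exact h.trans (Subgroup.lowerCentralSeries_nilpotencyClass (G := P)).le

/-- Let P be a non-abelian nilpotent p-group (every element of p-power order; P possibly infinite) generated by two abelian subgroups E and F. Then the normal closure of E in P, and likewise that of F, has nilpotency class strictly smaller than that of P. -/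
theorem result {P : Type*} [Group P] {p : ℕ} [Fact p.Prime] (hP : IsPGroup p P) [Group.IsNilpotent P]
    (hna : ¬ IsMulCommutative P) {E F : Subgroup P} (hE : IsMulCommutative ↥E) (hF : IsMulCommutative ↥F) (hgen : E ⊔ F = ⊤) :
    Group.nilpotencyClass ↥(Subgroup.normalClosure (E : Set P)) < Group.nilpotencyClass P ∧
    Group.nilpotencyClass ↥(Subgroup.normalClosure (F : Set P)) < Group.nilpotencyClass P := by
  exact ⟨key hna hE, key hna hF⟩

end Cfsg.Agent.S5067
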