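import Cfsg.Statements.S5069
import Cfsg.Agent.Lib.QuadPair.Parts

set_option autoImplicit false
universe u
open Cfsg

namespace Cfsg.Agent.S5069

/-- Let k be a field of characteristic not 2 with k not of order 3, M a finite-dimensional k-vector space and G ≤ GL(M) such that (G, M) is a quadratic pair (M irreducible for G, and G generated by its quadratically acting elements σ whose scalar family 1 + c(σ − 1), c ∈ k, lies in G). Write 𝒬_d for the quadratic elements of G of minimal commutator rank, E(σ) for the subgroup generated by the members of 𝒬_d with the same fixed space and commutator space as σ, and Σ for the set of these subgroups. Then Σ is a disjoint union of finitely many parts Σ₁, …, Σ_r such that the subgroups G_i generated by the Σ_i commute pairwise, each G_i is quasisimple, and inside G_i the members of Σ_i form a class of abstract root subgroups in which every rank one pair A, B contains subgroups A₀ ≤ A, B₀ ≤ B generating an image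 of SL₂(k₁) with central kernel on unitriangular subgroups for some field k₁ with at least four elements. -/
theorem result {k : Type u} [Field k] (hk2 : ringChar k ≠ 2) (hk3 : Nat.card k ≠ 3)
    {M : Type u} [AddCommGroup M] [Module k M] [FiniteDimensional k M]
    {G : Subgroup (LinearMap.GeneralLinearGroup k M)} (hG : Cfsg.IsQuadraticPair G) :
    ∃ (r : ℕ) (part : Fin r → Set (Subgroup (LinearMap.GeneralLinearGroup k M))),
      (⋃ i, part i) = Cfsg.quadraticRootSubgroups G ∧ (∀ i j, i ≠ j → Disjoint (part i) (part j)) ∧ (∀ i, (part i).Nonempty) ∧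
      (∀ i j, i ≠ j → ⁅(⨆ A ∈ part i, A), (⨆ A ∈ part j, A)⁆ = ⊥) ∧
      (∀ i, Cfsg.IsQuasisimple ↥(⨆ A ∈ part i, A) ∧
        Cfsg.IsRootSubgroupClass ((fun A : Subgroup (LinearMap.GeneralLinearGroup k M) => A.subgroupOf (⨆ B ∈ part i, B)) '' (part i)) ∧
        ∀ A ∈ part i, ∀ B ∈ Cfsg.rankOnePartners (part i) A, ∃ A₀ B₀ : Subgroup (LinearMap.GeneralLinearGroup k M), A₀ ≤ A ∧ B₀ ≤ B ∧
          ∃ (k₁ : Type u) (_ : Field k₁), 3 < ENat.card k₁ ∧ Cfsg.IsPSL2PairOver k₁ A₀ B₀) := by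
  classical
  have h2 : (2 : k) ≠ 0 := Ring.two_ne_zero hk2
  let 𝒞 := {C : Set (Subgroup (LinearMap.GeneralLinearGroup k M)) //
    ∃ A ∈ Cfsg.quadraticRootSubgroups G, C = CfsgLib.QuadPair.part G A}
  have : Finite 𝒞 := CfsgLib.QuadPair.parts_finite h2 hk3 hG
  obtain ⟨r, ⟨e⟩⟩ := Finite.exists_equiv_fin 𝒞
  refine ⟨r, fun i => (e.symm i).1, ?_, ?_, ?_, ?_, ?_⟩
  · refine subset_antisymm (Set.iUnion_subset fun i => ?_) fun A hA => ?_
    · obtain ⟨A, -, hC⟩ := (e.symm i).2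
      rw [hC]
      exact fun B hB => CfsgLib.QuadPair.part_sub hB
    · refine Set.mem_iUnion.mpr ⟨e ⟨_, A, hA, rfl⟩, ?_⟩
      simp only [Equiv.symm_apply_apply]
      exact CfsgLib.QuadPair.self_part hA
  · intro i j hij
    obtain ⟨A, -, hA⟩ := (e.symm i).2
    obtain ⟨B, -, hB⟩ := (e.symm j).2
    rw [Set.disjoint_left]
    intro C hCi hCj
    simp only at hCi hCj
    rw [hA] at hCi
    rw [hB] at hCj
    exact hij (e.symm.injective (Subtype.ext (by
      rw [hA, hB, ← CfsgLib.QuadPair.part_eq hCi, CfsgLib.QuadPair.part_eq hCj])))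
  · intro i
    obtain ⟨A, hA, hC⟩ := (e.symm i).2
    exact ⟨A, by show A ∈ (e.symm i).1; rw [hC]; exact CfsgLib.QuadPair.self_part hA⟩
  · intro i j hij
    obtain ⟨A, -, hA⟩ := (e.symm i).2
    obtain ⟨B, -, hB⟩ := (e.symm j).2
    simp only [hA, hB]
    refine CfsgLib.QuadPair.gen_commute h2 hk3 hG fun h => hij (e.symm.injective (Subtype.ext ?_))
    rw [hA, hB, h]
  · intro i
    obtain ⟨A₀, hA₀, hC⟩ := (e.symm i).2
    show Cfsg.IsQuasisimple ↥(CfsgLib.QuadPair.gen (e.symm i).1) ∧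
      Cfsg.IsRootSubgroupClass ((fun A : Subgroup (LinearMap.GeneralLinearGroup k M) =>
          A.subgroupOf (CfsgLib.QuadPair.gen (e.symm i).1)) '' (e.symm i).1) ∧
      ∀ A ∈ (e.symm i).1, ∀ B ∈ Cfsg.rankOnePartners (e.symm i).1 A,
        ∃ A₀ B₀ : Subgroup (LinearMap.GeneralLinearGroup k M), A₀ ≤ A ∧ B₀ ≤ B ∧
          ∃ (k₁ : Type u) (_ : Field k₁), 3 < ENat.card k₁ ∧ Cfsg.IsPSL2PairOver k₁ A₀ B₀
    rw [hC]
    have hle := CfsgLib.QuadPair.gen_part_le (G := G) A₀
    have hconj : ∀ A ∈ CfsgLib.QuadPair.part G A₀, ∀ g ∈ CfsgLib.QuadPair.gen (CfsgLib.QuadPair.part G A₀),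
        Cfsg.conjBy A g ∈ CfsgLib.QuadPair.part G A₀ := by
      intro A hA g hg
      have hgn : Cfsg.conjBy (CfsgLib.QuadPair.gen (CfsgLib.QuadPair.part G A₀)) g =
          CfsgLib.QuadPair.gen (CfsgLib.QuadPair.part G A₀) := CfsgLib.RootSub.cj_of_mem hg
      have hr := CfsgLib.QuadPair.roots_cj (hle hg) hA.1
      by_contra hnot
      obtain ⟨B, hB⟩ := CfsgLib.QuadPair.exists_partner_root h2 hk3 hG hr
      have hBp : B ∈ CfsgLib.QuadPair.part G (Cfsg.conjBy A g) :=
        ⟨hB.2.1, Relation.ReflTransGen.single hB⟩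
      have hne : CfsgLib.QuadPair.part G A₀ ≠ CfsgLib.QuadPair.part G (Cfsg.conjBy A g) := fun h =>
        hnot (h ▸ CfsgLib.QuadPair.self_part hr)
      have hc := Subgroup.commutator_eq_bot_iff_le_centralizer.mp
        (CfsgLib.QuadPair.gen_commute h2 hk3 hG hne)
      have hAU : Cfsg.conjBy A g ≤ CfsgLib.QuadPair.gen (CfsgLib.QuadPair.part G A₀) :=
        (CfsgLib.RootSub.cj_mono (CfsgLib.QuadPair.le_gen hA) g).trans hgn.le
      obtain ⟨x, hx, hx1⟩ := CfsgLib.RootSub.exists_ne_one hB.2.2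
      exact hx1 (CfsgLib.RootSub.eq_one_of_normalizes hB.2.2 hx (Subgroup.centralizer_le_normalizer _
        (Subgroup.centralizer_le (CfsgLib.QuadPair.le_gen hBp) (hc (hAU hx)))))
    have hclosed : ∀ A ∈ CfsgLib.QuadPair.part G A₀, ∀ B, B ∈ Cfsg.quadraticRootSubgroups G →
        Relation.ReflTransGen (CfsgLib.QuadPair.RAdj G) A B → B ∈ CfsgLib.QuadPair.part G A₀ :=
      fun A hA B hB h => ⟨hB, hA.2.trans h⟩
    have hmap : ∀ A ∈ CfsgLib.QuadPair.part G A₀,
        (A.subgroupOf (CfsgLib.QuadPair.gen (CfsgLib.QuadPair.part G A₀))).map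
          (CfsgLib.QuadPair.gen (CfsgLib.QuadPair.part G A₀)).subtype = A := fun A hA =>
      Subgroup.map_subgroupOf_eq_of_le (CfsgLib.QuadPair.le_gen hA)
    refine ⟨CfsgLib.QuadPair.gen_quasisimple h2 hk3 hG hA₀,
      ⟨CfsgLib.QuadPair.root_set h2 hk3 hG (fun A hA => hA.1) hconj hclosed,
        ⟨_, Set.mem_image_of_mem _ (CfsgLib.QuadPair.self_part hA₀)⟩, ?_⟩,
      fun A hA B hB => CfsgLib.QuadPair.psl_pair h2 hk3 hG hA.1 hB.1.1 hB.2⟩
    rintro _ ⟨A, hA, rfl⟩ _ ⟨B, hB, rfl⟩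
    have hB' : B ∈ CfsgLib.QuadPair.part G A := by rw [CfsgLib.QuadPair.part_eq hA]; exact hB
    obtain ⟨g, hg, hgAB⟩ := CfsgLib.QuadPair.conj_in_part h2 hk3 hG hA.1 hB'
    rw [CfsgLib.QuadPair.part_eq hA] at hg
    refine ⟨⟨g, hg⟩, Subgroup.map_injective (CfsgLib.QuadPair.gen (CfsgLib.QuadPair.part G A₀)).subtype_injective ?_⟩
    rw [CfsgLib.RootSub.map_cj]
    exact ((hmap B hB).trans hgAB.symm).trans (congrArg (fun X => Cfsg.conjBy X g) (hmap A hA).symm)

end Cfsg.Agent.S5069
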