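import Cfsg.Statements.S5080
import Cfsg.Agent.Lib.Fusion.Alperin
import Cfsg.Agent.Lib.Fitting.Basic

set_option autoImplicit false
open Cfsg

namespace Cfsg.Agent.S5080

/-- In a saturated fusion system over a finite p-group, every essential subgroup is radical (it is centric and fully normalized by definition, so it is centric-radical and fully normalized). -/
theorem result {Ω : Type*} [Group Ω] {S : Subgroup Ω} [Finite S] (p : ℕ) [Fact p.Prime] (hS : IsPGroup p S) (F : Cfsg.FusionSystem S) (hF : F.IsSaturated p) (P : Subgroup Ω) (hP : F.IsEssential p P) : F.IsRadical p P := by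
  obtain ⟨hcen, hfn, hn, E, hE⟩ := hP
  have := CfsgLib.Fusion.finite_of_le hfn.1
  have := CfsgLib.Fusion.finite_mulAut P
  refine ⟨hfn.1, ?_⟩
  have hK : (Cfsg.pCore p (F.autGroup P)).Normal := CfsgLib.Fitting.pCore_normal p
  have hIp : IsPGroup p (Cfsg.Inn P) := by
    rw [CfsgLib.Fusion.inn_eq_autInducedBy]
    exact CfsgLib.Fusion.isPGroup_autInducedBy (hS.to_le hfn.1) P
  have hI : (Cfsg.Inn P).subgroupOf (F.autGroup P) ≤ Cfsg.pCore p (F.autGroup P) :=
    CfsgLib.Fitting.le_pCore hn
      (hIp.of_equiv (Subgroup.subgroupOfEquivOfLe (CfsgLib.Fusion.inn_le_autGroup hfn.1)).symm)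
  set q := QuotientGroup.mk' ((Cfsg.Inn P).subgroupOf (F.autGroup P))
  have hKn : ((Cfsg.pCore p (F.autGroup P)).map q).Normal :=
    hK.map q (QuotientGroup.mk'_surjective _)
  have hbot := CfsgLib.Fusion.eq_bot_of_isStronglyPEmbedded hE
    (U := (Cfsg.pCore p (F.autGroup P)).map q) ((CfsgLib.Fitting.pCore_isPGroup p).map q)
  rw [Subgroup.map_eq_bot_iff, QuotientGroup.ker_mk'] at hbot
  rw [le_antisymm hbot hI, Subgroup.map_subgroupOf_eq_of_le (CfsgLib.Fusion.inn_le_autGroup hfn.1)]

end Cfsg.Agent.S5080
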