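import Cfsg.Statements.S5087
import Cfsg.Agent.Lib.Fusion.NormalSeries

set_option autoImplicit false
open Cfsg

namespace Cfsg.Agent.S5087

/-- In a saturated fusion system over a finite p-group S, a subgroup Q is normal in the system if and only if every subgroup P that equals S or is essential contains Q and every element of Aut_F(P) maps Q onto itself. -/
theorem result {Ω : Type*} [Group Ω] {S : Subgroup Ω} [Finite S] (p : ℕ) [Fact p.Prime] (hS : IsPGroup p S) (F : Cfsg.FusionSystem S) (hF : F.IsSaturated p) (Q : Subgroup Ω) : F.IsNormal Q ↔ ∀ P : Subgroup Ω, (P = S ∨ F.IsEssential p P) → (Q ≤ P ∧ ∀ α ∈ F.autGroup P, (Q.subgroupOf P).map α.toMonoidHom = Q.subgroupOf P) := by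
  rw [CfsgLib.Fusion.isNormal_iff_generators hS hF]
  constructor
  · rintro ⟨hQ, h⟩ P hP
    have := CfsgLib.Fusion.finite_of_le hQ
    have := CfsgLib.Fusion.finite_of_le (show P ≤ S from by
      rcases hP with rfl | hess
      · exact le_rfl
      · exact hess.1.1)
    refine ⟨(h P hP).1, fun α hα => Subgroup.eq_of_le_of_card_ge ?_ ?_⟩
    · rintro _ ⟨x, hx, rfl⟩
      have := (h P hP).2 α hα x hx
      rw [CfsgLib.Fusion.autFun_coe] at this
      exact this
    · exact (Subgroup.card_map_of_injective (f := α.toMonoidHom) α.injective).ge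
  · intro h
    refine ⟨(h S (Or.inl rfl)).1, fun P hP => ⟨(h P hP).1, fun α hα x hx => ?_⟩⟩
    rw [CfsgLib.Fusion.autFun_apply α ((h P hP).1 hx)]
    exact ((h P hP).2 α hα).le ⟨⟨x, (h P hP).1 hx⟩, hx, rfl⟩

end Cfsg.Agent.S5087
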