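import Cfsg.Statements.S5089
import Cfsg.Agent.Lib.Fusion.NormalSeries

set_option autoImplicit false
open Cfsg

namespace Cfsg.Agent.S5089

/-- A saturated fusion system over a finite p-group has a nontrivial subgroup that is normal in the system (O_p(F) ≠ 1) if and only if some nontrivial abelian subgroup is strongly closed in the system. -/
theorem result {Ω : Type*} [Group Ω] {S : Subgroup Ω} [Finite S] (p : ℕ) [Fact p.Prime] (hS : IsPGroup p S) (F : Cfsg.FusionSystem S) (hF : F.IsSaturated p) : F.core ≠ ⊥ ↔ ∃ Q : Subgroup Ω, Q ≠ ⊥ ∧ IsMulCommutative Q ∧ F.StronglyClosed Q := by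
  constructor
  · intro hne
    have hcore := CfsgLib.Fusion.isNormal_core F
    have := CfsgLib.Fusion.finite_of_le hcore.1
    have : Nontrivial F.core := (Subgroup.nontrivial_iff_ne_bot _).2 hne
    have := (hS.to_le hcore.1).center_nontrivial
    set Z := (Subgroup.center F.core).map F.core.subtype
    have hchar : (Z.subgroupOf F.core).Characteristic := by
      rw [Subgroup.subgroupOf, Subgroup.comap_map_eq_self_of_injective F.core.subtype_injective]
      infer_instance
    refine ⟨Z, fun h => ?_, ⟨⟨fun a b => ?_⟩⟩, CfsgLib.Fusion.stronglyClosed_of_isNormal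
      (CfsgLib.Fusion.isNormal_of_characteristic F hcore (Subgroup.map_subtype_le _) hchar)⟩
    · rw [Subgroup.map_eq_bot_iff_of_injective _ F.core.subtype_injective] at h
      exact (Subgroup.nontrivial_iff_ne_bot _).1 this h
    · obtain ⟨a', ha, hae⟩ := a.2
      obtain ⟨b', hb, hbe⟩ := b.2
      apply Subtype.ext
      show (a : Ω) * b = b * a
      rw [← hae, ← hbe, ← map_mul, ← map_mul, (Subgroup.mem_center_iff.1 hb a')]
  · rintro ⟨Q, hne, hab, hcl⟩ h
    have hn := CfsgLib.Fusion.isNormal_of_abelian hS hF hcl fun x hx y hy =>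
      congrArg Subtype.val (hab.is_comm.comm ⟨x, hx⟩ ⟨y, hy⟩)
    exact hne (le_bot_iff.1 (h ▸ le_sSup hn))

end Cfsg.Agent.S5089
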