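import Cfsg.Statements.S5094
import Cfsg.Agent.Lib.ZStar.TwoElement
import Cfsg.Agent.Lib.Fusion.Ext

set_option autoImplicit false
open Cfsg

namespace Cfsg.Agent.S5094

/-- Glauberman's Z*-Theorem in fusion language: for a finite group G with Sylow 2-subgroup S, the centre of the fusion system of G on S is the set of elements of S whose image in G/O(G) is central, O(G) being the largest normal subgroup of odd order. -/
theorem result {G : Type*} [Group G] [Finite G] (S : Sylow 2 G) : (Cfsg.groupFusionSystem (S : Subgroup G)).center = (S : Subgroup G) ⊓ (Subgroup.center (G ⧸ Cfsg.oddCore G)).comap (QuotientGroup.mk' (Cfsg.oddCore G)) := by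
  haveI hOn : (Cfsg.oddCore G).Normal := CfsgLib.Transfer.pPrimeCore_normal 2 G
  have hiff : ∀ x : G, x ∈ (Subgroup.center (G ⧸ Cfsg.oddCore G)).comap
      (QuotientGroup.mk' (Cfsg.oddCore G)) ↔ CfsgLib.ZStar.CommutatorsInCore x := by
    intro x
    rw [Subgroup.mem_comap, Subgroup.mem_center_iff]
    constructor
    · intro h g
      show x * g * x⁻¹ * g⁻¹ ∈ Cfsg.oddCore G
      rw [← QuotientGroup.ker_mk' (Cfsg.oddCore G), MonoidHom.mem_ker]
      simp only [map_mul, map_inv, ← h, mul_inv_cancel_right, mul_inv_cancel]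
    · intro h q
      obtain ⟨g, rfl⟩ := QuotientGroup.mk'_surjective _ q
      have h1 : QuotientGroup.mk' (Cfsg.oddCore G) (x * g * x⁻¹ * g⁻¹) = 1 := by
        rw [← MonoidHom.mem_ker, QuotientGroup.ker_mk']
        exact h g
      simp only [map_mul, map_inv] at h1
      rw [mul_inv_eq_one] at h1
      exact (mul_inv_eq_iff_eq_mul.mp h1).symm
  have hK : (Nat.card (Cfsg.oddCore G)).Coprime 2 := CfsgLib.Transfer.pPrimeCore_coprime 2
  have hp2 : ∀ y ∈ (S : Subgroup G), IsPGroup 2 (Subgroup.zpowers y) := fun y hy =>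
    S.2.to_le (Subgroup.zpowers_le.mpr hy)
  apply le_antisymm
  · intro x hx
    obtain ⟨hle, hext⟩ := CfsgLib.Fusion.isCentral_center
      (Cfsg.groupFusionSystem (S : Subgroup G))
    refine ⟨hle hx, (hiff x).mpr (CfsgLib.ZStar.commutatorsInCore_of_powers S ⟨hle hx, fun k g hg => ?_⟩)⟩
    have hy := pow_mem hx k
    obtain ⟨ψ, hψ, hψP, hψQ⟩ := hext (Subgroup.zpowers (x ^ k))
      (Cfsg.conjHom (Subgroup.zpowers (x ^ k)) g)
      ⟨Subgroup.zpowers_le.mpr (hle hy), by
        rintro ⟨_, i, rfl⟩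
        show g * (x ^ k) ^ i * g⁻¹ ∈ (S : Subgroup G)
        rw [← conj_zpow]
        exact zpow_mem hg i, g, fun _ => rfl⟩
    exact (hψP ⟨x ^ k, Subgroup.mem_zpowers _⟩).symm.trans (hψQ ⟨x ^ k, hy⟩)
  · rintro x ⟨hxS, hxc⟩
    have hx := (hiff x).mp hxc
    have hxZ : ∀ s ∈ (S : Subgroup G), Commute x s := fun s hs =>
      mul_inv_eq_iff_eq_mul.mp (mul_inv_eq_one.mp (CfsgLib.PSolvable.eq_one_of_mem_of_mem S.2 hK
        (mul_mem (mul_mem (mul_mem hxS hs) (inv_mem hxS)) (inv_mem hs)) (hx s)))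
    suffices hc : (Cfsg.groupFusionSystem (S : Subgroup G)).IsCentral (Subgroup.zpowers x) from
      (le_sSup (s := {Q | (Cfsg.groupFusionSystem (S : Subgroup G)).IsCentral Q}) hc)
        (Subgroup.mem_zpowers x)
    refine ⟨Subgroup.zpowers_le.mpr hxS, fun P φ => ?_⟩
    rintro ⟨hP, hφS, g, hg⟩
    let C := Subgroup.centralizer (Set.range φ)
    have hxC : x ∈ C := by
      rintro _ ⟨p, rfl⟩
      exact (hxZ _ (hφS p)).symm
    have hyC : g * x * g⁻¹ ∈ C := by
      rintro _ ⟨p, rfl⟩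
      rw [hg]
      exact (((hxZ _ (hP p.2)).symm).map (MulAut.conj g).toMonoidHom).eq
    have hKC : (Nat.card ((Cfsg.oddCore G).subgroupOf C)).Coprime 2 := by
      refine Nat.Coprime.coprime_dvd_left ?_ hK
      exact Subgroup.card_comap_dvd_of_injective (Cfsg.oddCore G) C.subtype C.subtype_injective
    have hy2 : IsPGroup 2 (Subgroup.zpowers (g * x * g⁻¹)) := by
      have h2 := (hp2 x hxS).map (MulAut.conj g).toMonoidHom
      rwa [MonoidHom.map_zpowers] at h2
    have hpC : ∀ (a : C), IsPGroup 2 (Subgroup.zpowers (a : G)) →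
        IsPGroup 2 (Subgroup.zpowers a) := by
      intro a h2
      change IsPGroup 2 (Subgroup.zpowers (C.subtype a)) at h2
      rw [← MonoidHom.map_zpowers C.subtype a] at h2
      exact h2.of_equiv (Subgroup.equivMapOfInjective _ _ C.subtype_injective).symm
    obtain ⟨⟨o, hoC⟩, -, ho⟩ := CfsgLib.ZStar.exists_conj_eq_of_mul_mem hKC
      (hpC ⟨x, hxC⟩ (hp2 x hxS)) (hpC ⟨g * x * g⁻¹, hyC⟩ hy2) (by
        show g * x * g⁻¹ * x⁻¹ ∈ Cfsg.oddCore G
        have he : g * x * g⁻¹ * x⁻¹ = (x * g * x⁻¹ * g⁻¹)⁻¹ := by group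
        rw [he]
        exact inv_mem (hx g))
    have hox : o * g * x * (o * g)⁻¹ = x := by
      have h := congrArg Subtype.val ho
      simp only [Subgroup.coe_mul, Subgroup.coe_inv] at h
      calc o * g * x * (o * g)⁻¹ = o * (g * x * g⁻¹) * o⁻¹ := by group
        _ = x := h
    have hoP : ∀ p : P, o * g * (p : G) * (o * g)⁻¹ = φ p := by
      intro p
      have h : φ p * o = o * φ p := hoC _ ⟨p, rfl⟩
      calc o * g * (p : G) * (o * g)⁻¹ = o * φ p * o⁻¹ := by rw [hg]; group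
        _ = φ p := by rw [← h, mul_inv_cancel_right]
    have hsup : P ⊔ Subgroup.zpowers x ≤
        (S : Subgroup G).comap (MulAut.conj (o * g)).toMonoidHom := by
      refine sup_le (fun p hp => ?_) (Subgroup.zpowers_le.mpr ?_)
      · show o * g * p * (o * g)⁻¹ ∈ (S : Subgroup G)
        rw [hoP ⟨p, hp⟩]
        exact hφS _
      · show o * g * x * (o * g)⁻¹ ∈ (S : Subgroup G)
        rw [hox]
        exact hxS
    refine ⟨Cfsg.conjHom _ (o * g),
      ⟨sup_le hP (Subgroup.zpowers_le.mpr hxS), fun y => hsup y.2, o * g, fun _ => rfl⟩,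
      fun p => hoP p, ?_⟩
    rintro ⟨_, i, rfl⟩
    show o * g * x ^ i * (o * g)⁻¹ = x ^ i
    rw [← conj_zpow, hox]
end Cfsg.Agent.S5094
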