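import Cfsg.Statements.S5102
import Cfsg.Agent.Lib.Fusion.Group

set_option autoImplicit false
open Cfsg

namespace Cfsg.Agent.S5102

/-- A normal p-subgroup of a finite group G is normal in the fusion system of G on a Sylow p-subgroup. -/
theorem result {G : Type*} [Group G] [Finite G] (p : ℕ) [Fact p.Prime] (S : Sylow p G) (R : Subgroup G) [R.Normal] (hR : IsPGroup p R) : (Cfsg.groupFusionSystem (S : Subgroup G)).IsNormal R := by
  have hRS : R ≤ (S : Subgroup G) := by
    obtain ⟨g, hg⟩ := CfsgLib.Fusion.exists_conj_le_sylow S hR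
    exact (Subgroup.Normal.map_conj_eq R g).ge.trans hg
  refine ⟨hRS, fun P φ hφ => ?_⟩
  obtain ⟨hP, hφS, g, hg⟩ := hφ
  refine ⟨(MulAut.conj g).toMonoidHom.comp (P ⊔ R).subtype,
    ⟨sup_le hP hRS, fun x => ?_, g, fun x => rfl⟩, fun x => (hg x).symm, ?_⟩
  · have hle : P ⊔ R ≤ (S : Subgroup G).comap (MulAut.conj g).toMonoidHom :=
      sup_le (fun x hx => show g * x * g⁻¹ ∈ (S : Subgroup G) from hg ⟨x, hx⟩ ▸ hφS _)
        (fun x hx => hRS (Subgroup.Normal.conj_mem inferInstance x hx g))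
    exact hle x.2
  · rw [← Subgroup.map_map, Subgroup.subgroupOf_map_subtype, inf_of_le_left le_sup_right]
    exact Subgroup.Normal.map_conj_eq R g

end Cfsg.Agent.S5102
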