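import Cfsg.Statements.S5106
import Cfsg.Agent.Lib.Fusion.NormalSeries

set_option autoImplicit false
open Cfsg

namespace Cfsg.Agent.S5106

/-- In a saturated fusion system over a finite p-group S, a subgroup R ≤ S is normal in the system if and only if every map of the system whose source is a subgroup of R is the restriction of an element of Aut_F(R). -/
theorem result {Ω : Type*} [Group Ω] {S : Subgroup Ω} [Finite S] (p : ℕ) [Fact p.Prime] (hS : IsPGroup p S) (F : Cfsg.FusionSystem S) (hF : F.IsSaturated p) (R : Subgroup Ω) (hRS : R ≤ S) : F.IsNormal R ↔ ∀ (P : Subgroup Ω) (hPR : P ≤ R) (φ : P →* Ω), φ ∈ F.Hom P → ∃ α ∈ F.autGroup R, ∀ x : P, ((α (Subgroup.inclusion hPR x) : R) : Ω) = φ x := by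
  constructor
  · intro hR P hPR φ hφ
    obtain ⟨g, hg, hag, hgR⟩ :=
      (CfsgLib.Fusion.isNormal_iff.1 hR).2 P _ (CfsgLib.Fusion.isMap_homFun hφ)
    obtain ⟨α, hα, hv⟩ := CfsgLib.Fusion.exists_mem_autGroup
      (⟨hg.mono le_sup_right, hgR⟩ : CfsgLib.Fusion.IsIso F R R g)
    exact ⟨α, hα, fun x => by
      rw [hv, ← CfsgLib.Fusion.homFun_coe φ x]
      exact hag x x.2⟩
  · intro h
    refine CfsgLib.Fusion.isNormal_of_extend hS hF hRS fun P f hPR hf => ?_
    obtain ⟨φ, hφ, hv⟩ := hf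
    obtain ⟨α, hα, ha⟩ := h P hPR φ hφ
    exact ⟨α, hα, fun x hx => by
      rw [CfsgLib.Fusion.autFun_apply α (hPR hx), ← hv ⟨x, hx⟩, ← ha ⟨x, hx⟩]; rfl⟩

end Cfsg.Agent.S5106
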