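import Cfsg.Statements.S5107
import Cfsg.Agent.Lib.Fusion.Group
import Cfsg.Agent.Lib.Fusion.Normal
import Cfsg.Agent.Lib.ZJ.RealBase

set_option autoImplicit false
open Cfsg

namespace Cfsg.Agent.S5107

/-- If a Sylow p-subgroup S of a finite group G has nilpotency class at most two and its centre is strongly closed in S with respect to G, then every map of the fusion system of G on S is conjugation by an element of N_G(S), and S is the largest subgroup normal in that fusion system. -/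
theorem result {G : Type*} [Group G] [Finite G] (p : ℕ) [Fact p.Prime] (S : Sylow p G) (hcl : ⁅(S : Subgroup G), (S : Subgroup G)⁆ ≤ (S : Subgroup G) ⊓ Subgroup.centralizer ((S : Subgroup G) : Set G)) (hZ : Cfsg.IsStronglyClosed ((S : Subgroup G) ⊓ Subgroup.centralizer ((S : Subgroup G) : Set G)) (S : Subgroup G)) : (∀ (P : Subgroup G) (φ : P →* G), φ ∈ (Cfsg.groupFusionSystem (S : Subgroup G)).Hom P → ∃ g ∈ Subgroup.normalizer ((S : Subgroup G) : Set G), ∀ x : P, φ x = g * (x : G) * g⁻¹) ∧ (Cfsg.groupFusionSystem (S : Subgroup G)).core = S := by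
  set Z := (S : Subgroup G) ⊓ Subgroup.centralizer ((S : Subgroup G) : Set G) with hZdef
  have hcl0 : ∀ A : Subgroup G, Cfsg.IsStronglyClosed A (S : Subgroup G) →
      (Cfsg.groupFusionSystem (S : Subgroup G)).StronglyClosed A := fun A hA => by
    refine ⟨hA.1, fun R hR φ hφ x => ?_⟩
    obtain ⟨-, hφS, g, hg⟩ := hφ
    rw [hg x]
    exact hA.2 x (hR x.2) g (hg x ▸ hφS x)
  have hn : (Cfsg.groupFusionSystem (S : Subgroup G)).IsNormal S := by
    refine CfsgLib.Fusion.isNormal_of_series S.2 (CfsgLib.Fusion.isSaturated_group (S := S)) 2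
      (fun i => if i = 0 then ⊥ else if i = 1 then Z else S) rfl rfl (fun i hi => ?_) (fun i hi => ?_)
      fun i hi g hg x hx => ?_
    · interval_cases i
      · exact bot_le
      · exact (inf_le_left : Z ≤ S)
    · interval_cases i
      · exact CfsgLib.Fusion.stronglyClosed_of_isNormal (CfsgLib.Fusion.isNormal_bot _)
      · exact hcl0 Z hZ
      · exact hcl0 S ⟨le_rfl, fun _ _ _ h => h⟩
    · interval_cases i
      · show g * x * g⁻¹ * x⁻¹ ∈ (⊥ : Subgroup G)
        rw [Subgroup.mem_bot, (show g * x = x * g from (hx : x ∈ Z).2 g hg)]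
        group
      · show g * x * g⁻¹ * x⁻¹ ∈ Z
        exact hcl (Subgroup.commutator_mem_commutator hg hx)
  refine ⟨fun P φ hφ => ?_, le_antisymm (sSup_le fun Q hQ => hQ.1) (le_sSup hn)⟩
  obtain ⟨hP, hφS, g, hg⟩ := hφ
  obtain ⟨f, hf, hfP, hfA⟩ := (CfsgLib.Fusion.isNormal_iff.mp hn).2 _ _
    (CfsgLib.Fusion.isMap_group_of_conj g hP fun x hx => hg ⟨x, hx⟩ ▸ hφS ⟨x, hx⟩)
  obtain ⟨-, -, h, hh⟩ := CfsgLib.Fusion.isMap_group_iff.mp hf
  refine ⟨h, CfsgLib.ZJ.mem_normalizer_of_conj_mem fun x hx => ?_, fun x => ?_⟩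
  · rw [← hh x (Subgroup.mem_sup_right hx)]
    exact hfA.le (Set.mem_image_of_mem f hx)
  · rw [hg x, ← hh x (Subgroup.mem_sup_left x.2)]
    exact (hfP x x.2).symm

end Cfsg.Agent.S5107
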