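import Cfsg.Statements.S5112
import Cfsg.Agent.Lib.Fusion.CyclicIndexTwo

set_option autoImplicit false
open Cfsg

namespace Cfsg.Agent.S5112

/-- If S is a dihedral or generalized quaternion 2-group of order at least 16, then in every saturated fusion system over S (at the prime 2) the automorphism group Aut_F(S) consists of the inner automorphisms of S. -/
theorem result {Ω : Type*} [Group Ω] {S : Subgroup Ω} [Finite S] (n : ℕ) (hn : 4 ≤ n) (hshape : Nonempty (S ≃* DihedralGroup (2 ^ (n - 1))) ∨ Nonempty (S ≃* QuaternionGroup (2 ^ (n - 2)))) (F : Cfsg.FusionSystem S) (hF : F.IsSaturated 2) : F.autGroup S = Cfsg.Inn S := by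
  have key : ∀ (G : Type) [Group G] [Finite G] (r : G) (k : ℕ), orderOf r = 2 ^ k → 1 ≤ k →
      Nat.card G = 2 ^ (k + 1) → (∀ x ∉ Subgroup.zpowers r, orderOf x < 2 ^ k) →
      IsPGroup 2 (MulAut G) := by
    intro G _ _ r k hr hk hcard hout
    refine CfsgLib.Fusion.isPGroup_mulAut_of_cyclic_index_two r hr hk ?_ hout
    have h1 := Subgroup.card_mul_index (Subgroup.zpowers r)
    rw [Nat.card_zpowers, hr, hcard, pow_succ] at h1
    exact Nat.eq_of_mul_eq_mul_left (pow_pos two_pos k) h1
  have hsg : IsPGroup 2 S ∧ IsPGroup 2 (MulAut S) := by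
    rcases hshape with ⟨⟨e⟩⟩ | ⟨⟨e⟩⟩
    · have hne : NeZero (2 ^ (n - 1)) := ⟨by positivity⟩
      have hcard : Nat.card (DihedralGroup (2 ^ (n - 1))) = 2 ^ (n - 1 + 1) := by
        rw [DihedralGroup.nat_card, ← pow_succ']
      refine ⟨IsPGroup.of_card (n := n - 1 + 1) ((Nat.card_congr e.toEquiv).trans hcard),
        (key _ (DihedralGroup.r 1) (n - 1) DihedralGroup.orderOf_r_one (by omega) hcard ?_).of_equiv
          (MulAut.congr e).symm⟩
      intro x hx
      rcases x with i | i
      · exact absurd ⟨(i.val : ℤ), by simp⟩ hx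
      · rw [DihedralGroup.orderOf_sr]
        calc 2 < 2 ^ 2 := by norm_num
          _ ≤ 2 ^ (n - 1) := Nat.pow_le_pow_right two_pos (by omega)
    · have hne : NeZero (2 ^ (n - 2)) := ⟨by positivity⟩
      have hcard : Nat.card (QuaternionGroup (2 ^ (n - 2))) = 2 ^ (n - 1 + 1) := by
        rw [Nat.card_eq_fintype_card, QuaternionGroup.card, show n - 1 + 1 = 2 + (n - 2) by omega,
          pow_add]
        norm_num
      refine ⟨IsPGroup.of_card (n := n - 1 + 1) ((Nat.card_congr e.toEquiv).trans hcard),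
        (key _ (QuaternionGroup.a 1) (n - 1) ?_ (by omega) hcard ?_).of_equiv
          (MulAut.congr e).symm⟩
      · rw [QuaternionGroup.orderOf_a_one, ← pow_succ', show n - 2 + 1 = n - 1 by omega]
      · intro x hx
        rcases x with i | i
        · refine absurd ⟨(i.val : ℤ), ?_⟩ hx
          show QuaternionGroup.a 1 ^ (i.val : ℤ) = _
          rw [zpow_natCast, QuaternionGroup.a_one_pow, ZMod.natCast_zmod_val]
        · rw [QuaternionGroup.orderOf_xa]
          calc 4 < 2 ^ 3 := by norm_num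
            _ ≤ 2 ^ (n - 1) := Nat.pow_le_pow_right two_pos (by omega)
  obtain ⟨hS, hA⟩ := hsg
  have : Fact (Nat.Prime 2) := ⟨Nat.prime_two⟩
  refine le_antisymm ?_ (CfsgLib.Fusion.inn_le_autGroup le_rfl)
  obtain ⟨-, R, hR⟩ := ((CfsgLib.Fusion.isSaturated_iff_top_automized_receptive hS).1 hF).1
  intro α hα
  have hRtop := R.is_maximal' (((hA.to_subgroup (F.autGroup S))).of_equiv Subgroup.topEquiv.symm)
    le_top
  have hmem : (⟨α, hα⟩ : F.autGroup S) ∈ R.toSubgroup := hRtop.le (Subgroup.mem_top _)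
  rw [hR] at hmem
  rw [CfsgLib.Fusion.inn_eq_autInducedBy]
  exact hmem

end Cfsg.Agent.S5112
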