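import Cfsg.Statements.S5119
import Cfsg.Agent.Lib.Fusion.StrongInvariance

set_option autoImplicit false
open Cfsg

namespace Cfsg.Agent.S5119

open CfsgLib.Fusion

/-- Let F be a saturated fusion system over a finite p-group S and E a subsystem of F over a subgroup T that is strongly closed in F. Then E is invariant in F (invariance under Aut_F(T) plus the Frattini condition) if and only if the strong invariance condition holds: for P ≤ Q ≤ T, every map φ of E from P into Q and every map ψ of F with source Q, the transported map ψ φ ψ⁻¹ on ψ(P) is a map of E. -/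
theorem result {Ω : Type*} [Group Ω] {S : Subgroup Ω} [Finite S] (p : ℕ) [Fact p.Prime] (hS : IsPGroup p S) (F : Cfsg.FusionSystem S) (hF : F.IsSaturated p) {T : Subgroup Ω} (E : Cfsg.FusionSystem T) (hE : E.IsSubsystemOf F) (hT : F.StronglyClosed T) : E.IsInvariantIn F ↔ ∀ (P Q : Subgroup Ω) (hPQ : P ≤ Q) (_ : Q ≤ T) (φ : P →* Ω) (_ : φ ∈ E.Hom P) (hφQ : ∀ x : P, φ x ∈ Q) (ψ : Q →* Ω) (_ : ψ ∈ F.Hom Q), ∃ χ ∈ E.Hom ((P.subgroupOf Q).map ψ), ∀ (x : P) (hx : ψ (Subgroup.inclusion hPQ x) ∈ (P.subgroupOf Q).map ψ), χ ⟨ψ (Subgroup.inclusion hPQ x), hx⟩ = ψ ⟨φ x, hφQ x⟩ := by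
  rw [isInvariantIn_iff_strongInvariant hS hF hE hT]
  constructor
  · intro h P Q hPQ hQT φ hφ hφQ ψ hψ
    have him : homFun ψ '' (P : Set Ω) = ((P.subgroupOf Q).map ψ : Subgroup Ω) := by
      ext y
      constructor
      · rintro ⟨x, hx, rfl⟩
        exact ⟨⟨x, hPQ hx⟩, hx, (homFun_apply ψ (hPQ hx)).symm⟩
      · rintro ⟨x, hx, rfl⟩
        exact ⟨x, hx, homFun_coe ψ x⟩
    obtain ⟨f', hf', hv⟩ := h P Q _ _ hPQ hQT (isMap_homFun hφ)
      (fun x hx => by rw [homFun_apply φ hx]; exact hφQ _) (isMap_homFun hψ) _ him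
    obtain ⟨χ, hχ, hχv⟩ := hf'.exists_hom
    refine ⟨χ, hχ, fun x hx => ?_⟩
    have h1 := hv x x.2
    rw [homFun_apply ψ (hPQ x.2), homFun_coe, homFun_apply ψ (hφQ x)] at h1
    exact (hχv ⟨_, hx⟩).trans h1
  · intro h P Q f g hPQ hQT hf hfQ hg P' hP'
    obtain ⟨φ, hφ, hv⟩ := hf.exists_hom
    obtain ⟨ψ, hψ, hw⟩ := hg.exists_hom
    have hφQ : ∀ x : P, φ x ∈ Q := fun x => by rw [hv]; exact hfQ x x.2
    obtain ⟨χ, hχ, hχv⟩ := h P Q hPQ hQT φ hφ hφQ ψ hψ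
    have heq : (P.subgroupOf Q).map ψ = P' := by
      apply SetLike.coe_injective
      rw [← hP']
      ext y
      constructor
      · rintro ⟨x, hx, rfl⟩
        exact ⟨x, hx, (hw x).symm⟩
      · rintro ⟨x, hx, rfl⟩
        exact ⟨⟨x, hPQ hx⟩, hx, hw ⟨x, hPQ hx⟩⟩
    refine ⟨homFun χ, (isMap_homFun hχ).mono heq.ge, fun x hx => ?_⟩
    have hm : ψ (Subgroup.inclusion hPQ ⟨x, hx⟩) ∈ (P.subgroupOf Q).map ψ := ⟨_, hx, rfl⟩
    rw [← hw ⟨x, hPQ hx⟩, homFun_apply χ (show ψ ⟨x, hPQ hx⟩ ∈ (P.subgroupOf Q).map ψ from hm),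
      show f x = φ ⟨x, hx⟩ from (hv ⟨x, hx⟩).symm, ← hw ⟨φ ⟨x, hx⟩, hφQ _⟩]
    exact hχv ⟨x, hx⟩ hm

end Cfsg.Agent.S5119
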