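import Cfsg.Statements.S5123
import Cfsg.Agent.Lib.Fusion.Group

set_option autoImplicit false
open Cfsg

namespace Cfsg.Agent.S5123

/-- Let G be a finite group with Sylow p-subgroup S, P, Q ≤ S and g ∈ G with gPg⁻¹ = Q, and suppose N_S(Q) is a Sylow p-subgroup of N_G(Q). Let N be the set of x ∈ N_S(P) with gxg⁻¹ ∈ N_S(Q)C_G(Q). Then some h ∈ C_G(Q) satisfies (hg)N(hg)⁻¹ ≤ S. -/
theorem result {G : Type*} [Group G] [Finite G] (p : ℕ) [Fact p.Prime] (S : Sylow p G) (P Q : Subgroup G) (hP : P ≤ S) (hQ : Q ≤ S) (g : G) (hg : P.map (MulAut.conj g).toMonoidHom = Q) (hN : (∃ R : Sylow p ↥(Subgroup.normalizer (Q : Set G)), (R : Subgroup ↥(Subgroup.normalizer (Q : Set G))) = (Cfsg.FusionSystem.normalizerIn (S : Subgroup G) Q).subgroupOf (Subgroup.normalizer (Q : Set G)))) : ∃ h ∈ Subgroup.centralizer (Q : Set G), ((Cfsg.FusionSystem.normalizerIn (S : Subgroup G) P) ⊓ (Cfsg.FusionSystem.normalizerIn (S : Subgroup G) Q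 ⊔ Subgroup.centralizer (Q : Set G)).comap (MulAut.conj g).toMonoidHom).map (MulAut.conj (h * g)).toMonoidHom ≤ S := by
  have hn := (CfsgLib.Fusion.isFullyNormalized_group_iff S hQ).2
    ((CfsgLib.Fusion.exists_sylow_eq_iff (S.isPGroup'.to_le inf_le_left) inf_le_right).1 hN)
  have hr := CfsgLib.Fusion.isReceptive_group S hQ
    (CfsgLib.Fusion.isFullyCentralized_group_of_normalized S hQ hn)
  have hf : CfsgLib.Fusion.IsIso (Cfsg.groupFusionSystem (S : Subgroup G)) P Q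
      (fun x => g * x * g⁻¹) :=
    ⟨CfsgLib.Fusion.isMap_group_of_conj g hP fun x hx => hQ (hg ▸ ⟨x, hx, rfl⟩),
      hg ▸ rfl⟩
  obtain ⟨f', hf', hv⟩ := (CfsgLib.Fusion.isReceptive_iff.1 hr).2 P _ hf
  obtain ⟨-, hS', k, hk⟩ := CfsgLib.Fusion.isMap_group_iff.1 hf'
  refine ⟨k * g⁻¹, CfsgLib.Fusion.mem_centralizer_of_conj_eq fun y hy => ?_, ?_⟩
  · rw [← hg] at hy
    obtain ⟨x, hx, rfl⟩ := hy
    have h1 := hv x hx
    rw [hk x (CfsgLib.Fusion.le_nPhi hf.isMap hx)] at h1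
    show k * g⁻¹ * (g * x * g⁻¹) * (k * g⁻¹)⁻¹ = g * x * g⁻¹
    refine Eq.trans ?_ h1
    group
  · rintro _ ⟨a, ⟨ha, ha'⟩, rfl⟩
    have ha'' : g * a * g⁻¹ ∈ ((Cfsg.FusionSystem.normalizerIn (S : Subgroup G) Q
        ⊔ Subgroup.centralizer (Q : Set G) : Subgroup G) : Set G) := ha'
    rw [Subgroup.coe_mul_of_left_le_normalizer_right] at ha''
    · obtain ⟨n, hn', c, hc, hnc⟩ := ha''
      have hmem : a ∈ CfsgLib.Fusion.nPhi (S : Subgroup G) P (fun x => g * x * g⁻¹) := by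
        refine ⟨ha.1, ha.2, n, hn'.1, fun x hx => ?_⟩
        have hy : g * x * g⁻¹ ∈ Q := hf.mem hx
        calc g * (a * x * a⁻¹) * g⁻¹ = (g * a * g⁻¹) * (g * x * g⁻¹) * (g * a * g⁻¹)⁻¹ := by group
          _ = n * (c * (g * x * g⁻¹) * c⁻¹) * n⁻¹ := by
            rw [← show n * c = g * a * g⁻¹ from hnc]; group
          _ = n * (g * x * g⁻¹) * n⁻¹ := by
            rw [CfsgLib.Fusion.conj_eq_self_of_mem_centralizer hc hy]
      have := hS' a hmem
      rw [hk a hmem] at this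
      show k * g⁻¹ * g * a * (k * g⁻¹ * g)⁻¹ ∈ (S : Subgroup G)
      rw [inv_mul_cancel_right]
      exact this
    · intro n hn'
      refine Subgroup.mem_normalizer_fintype fun c hc =>
        CfsgLib.Fusion.mem_centralizer_of_conj_eq fun x hx => ?_
      have hx' := CfsgLib.Fusion.conj_mem_of_mem_normalizer (inv_mem hn'.2) hx
      calc n * c * n⁻¹ * x * (n * c * n⁻¹)⁻¹
          = n * (c * (n⁻¹ * x * n⁻¹⁻¹) * c⁻¹) * n⁻¹ := by group
        _ = x := by rw [CfsgLib.Fusion.conj_eq_self_of_mem_centralizer hc hx']; group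

end Cfsg.Agent.S5123
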