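import Cfsg.Statements.S5130
import Cfsg.Agent.Lib.Fusion.NormalizerSaturated
import Cfsg.Agent.Lib.Fusion.KSystem

set_option autoImplicit false
open Cfsg

namespace Cfsg.Agent.S5130

open CfsgLib.Fusion
open Cfsg.FusionSystem (centralizerIn normalizerIn)

variable {Ω : Type*} [Group Ω] {S : Subgroup Ω} {p : ℕ} [Fact p.Prime]

omit [Fact p.Prime] in
theorem split {T C : Subgroup Ω} (hc : ∀ a ∈ T, ∀ b ∈ C, a * b = b * a) {g : Ω}
    (hg : g ∈ T ⊔ C) : ∃ t ∈ T, ∃ c ∈ C, g = t * c := by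
  have hn : T ≤ Subgroup.normalizer (C : Set Ω) := fun t ht =>
    Subgroup.centralizer_le_normalizer (C : Set Ω) (fun c hc' => (hc t ht c hc').symm)
  rw [← SetLike.mem_coe, Subgroup.coe_mul_of_left_le_normalizer_right _ _ hn] at hg
  obtain ⟨t, ht, c, hcC, rfl⟩ := hg
  exact ⟨t, ht, c, hcC, rfl⟩

omit [Fact p.Prime] in
theorem conj_split {t c x : Ω} (hcx : c * x = x * c) : t * c * x * (t * c)⁻¹ = t * x * t⁻¹ := by
  rw [mul_inv_rev, show t * c * x * (c⁻¹ * t⁻¹) = t * (c * x * c⁻¹) * t⁻¹ by group, hcx,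
    mul_inv_cancel_right]

omit [Fact p.Prime] in
theorem isMap_restrict {F : Cfsg.FusionSystem S} {T : Subgroup Ω} {R : Cfsg.FusionSystem T}
    (hR : ∀ P : Subgroup Ω, P ≤ T → R.Hom P = F.Hom P) {P : Subgroup Ω} {f : Ω → Ω} :
    IsMap R P f ↔ P ≤ T ∧ IsMap F P f := by
  constructor
  · intro h
    refine ⟨h.le, ?_⟩
    obtain ⟨φ, hφ, hv⟩ := h
    exact ⟨φ, hR P (R.le_of_mem hφ).1 ▸ hφ, hv⟩
  · rintro ⟨hP, φ, hφ, hv⟩
    exact ⟨φ, (hR P hP).symm ▸ hφ, hv⟩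

theorem restrict_saturated [Finite S] (hS : IsPGroup p S) {F : Cfsg.FusionSystem S}
    (hF : F.IsSaturated p) {T C : Subgroup Ω} (hT : F.StronglyClosed T)
    (hc : ∀ a ∈ T, ∀ b ∈ C, a * b = b * a) (hSTC : S ≤ T ⊔ C) {R : Cfsg.FusionSystem T}
    (hR : ∀ P : Subgroup Ω, P ≤ T → R.Hom P = F.Hom P) : R.IsSaturated p := by
  intro P hP
  have hTS := hT.1
  obtain ⟨Q, hQc, hQ⟩ := exists_isFullyNormalized (F := F) (hP.trans hTS)
  obtain ⟨f, hf⟩ := isConj_iff.1 hQc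
  have hQT : Q ≤ T := fun y hy => by
    obtain ⟨x, hx, rfl⟩ := hf.surj hy
    exact isMap_mem_of_stronglyClosed hT hf.isMap hx (hP hx)
  refine ⟨Q, (IsIso.isConj ⟨(isMap_restrict hR).2 ⟨hP, hf.isMap⟩, hf.image_eq⟩), ⟨hQT, ?_⟩, ?_⟩
  · have haut : R.autGroup Q = F.autGroup Q := by
      unfold Cfsg.FusionSystem.autGroup
      rw [hR Q hQT]
    have hind : Cfsg.autInducedBy T Q = Cfsg.autInducedBy S Q := by
      refine le_antisymm (autInducedBy_mono hTS Q) fun α hα => ?_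
      obtain ⟨g, hg, hv⟩ := (mem_autInducedBy_iff S Q α).1 hα
      obtain ⟨t, ht, c, hcC, rfl⟩ := split hc (hSTC hg)
      exact (mem_autInducedBy_iff T Q α).2 ⟨t, ht, fun x => by
        rw [hv x, conj_split (hc x (hQT x.2) c hcC).symm]⟩
    rw [haut, hind]
    exact (isFullyAutomized_of_isFullyNormalized hS hF hQ).2
  · refine isReceptive_iff.2 ⟨hQT, fun A g hg => ?_⟩
    have hgF : IsIso F A Q g := ⟨((isMap_restrict hR).1 hg.isMap).2, hg.image_eq⟩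
    obtain ⟨ψ, hψ, hψv⟩ := (isReceptive_iff.1 (isReceptive_of_isFullyNormalized hS hF hQ)).2 A g hgF
    have hle : nPhi T A g ≤ nPhi S A g := fun y ⟨hy, hyn, h, hh, hv⟩ => ⟨hTS hy, hyn, h, hTS hh, hv⟩
    exact ⟨ψ, (isMap_restrict hR).2 ⟨nPhi_le_self A g, hψ.mono hle⟩, hψv⟩

/-- An automorphism of a direct factor extends to `S`. -/
theorem extend_factor [Finite S] (hS : IsPGroup p S) {F : Cfsg.FusionSystem S}
    (hF : F.IsSaturated p) {T C : Subgroup Ω} (hT : F.StronglyClosed T) (hC : F.StronglyClosed C)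
    (hc : ∀ a ∈ T, ∀ b ∈ C, a * b = b * a) (hSTC : T ⊔ C = S) {f : Ω → Ω}
    (hf : IsMap F T f) :
    ∃ β, IsIso F S S β ∧ (∀ x ∈ T, β x = f x) ∧ β '' (C : Set Ω) = C := by
  have hTS := hT.1
  haveI := finite_of_le hTS
  haveI := finite_of_le hC.1
  have him : ∀ {D : Subgroup Ω}, F.StronglyClosed D → ∀ {P : Subgroup Ω} {g : Ω → Ω}, IsMap F P g → D ≤ P → g '' (D : Set Ω) = D :=
    fun {D} hD {P g} hg hDP => image_eq_of_mem hD.1 hg hDP fun x hx => isMap_mem_of_stronglyClosed hD hg (hDP hx) hx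
  have hfn : F.IsFullyNormalized T := ⟨hTS, fun Q hQ => by
    obtain ⟨g, hg⟩ := isConj_iff.1 hQ
    rw [show Q = T from SetLike.coe_injective (hg.image_eq.symm.trans (him hT hg.isMap le_rfl))]⟩
  have hfi : IsIso F T T f := ⟨hf, him hT hf le_rfl⟩
  obtain ⟨ψ, hψ, hψv⟩ := (isReceptive_iff.1 (isReceptive_of_isFullyNormalized hS hF hfn)).2 T f hfi
  have hN : S ≤ nPhi S T f := by
    intro s hs
    obtain ⟨t, ht, c, hcC, rfl⟩ := split hc (hSTC.ge hs)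
    have hcj : ∀ x ∈ T, t * c * x * (t * c)⁻¹ = t * x * t⁻¹ := fun x hx =>
      conj_split (hc x hx c hcC).symm
    refine ⟨hs, mem_normalizer_of_conj_mem hTS fun x hx => ?_, f t, hTS (hfi.mem ht), fun x hx => ?_⟩
    · rw [hcj x hx]; exact T.mul_mem (T.mul_mem ht hx) (T.inv_mem ht)
    · rw [hcj x hx, hf.map_conj ht hx]
  exact ⟨ψ, (hψ.mono hN).isIso_of_card_le (fun x hx => (hψ.mono hN).mem hx) le_rfl, hψv,
    him hC (hψ.mono hN) hC.1⟩


/-- Let F be a saturated fusion system over a finite p-group S that is the direct product of two subgroups S₁ and S₂, each strongly closed in F. Let R be the full subsystem of F over S₁ (all maps of F between subgroups of S₁) and R′ the subsystem over S₁ of those maps that extend to the subgroup generated with S₂ fixing S₂ elementwise. Then R and R′ are saturated, R′ is normal in F and in R, and R is weakly normal in F. -/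
theorem result {Ω : Type*} [Group Ω] {S : Subgroup Ω} [Finite S] (p : ℕ) [Fact p.Prime] (hS : IsPGroup p S) (F : Cfsg.FusionSystem S) (hF : F.IsSaturated p) (S₁ S₂ : Subgroup Ω) (hprod : Cfsg.IsInternalDirectProduct S₁ S₂ S) (h₁ : F.StronglyClosed S₁) (h₂ : F.StronglyClosed S₂) (R R' : Cfsg.FusionSystem S₁) (hR : ∀ P : Subgroup Ω, P ≤ S₁ → R.Hom P = F.Hom P) (hR' : ∀ P : Subgroup Ω, P ≤ S₁ → R'.Hom P = F.centralizerHom S₂ P) : R.IsSaturated p ∧ R'.IsSaturated p ∧ R'.IsNormalIn F p ∧ R'.IsNormalIn R p ∧ R.IsWeaklyNormalIn F p := by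
  classical
  obtain ⟨h1S, h2S, hcom, -, hsup⟩ := hprod
  haveI := finite_of_le h1S
  haveI := finite_of_le h2S
  have hcom' : ∀ a ∈ S₂, ∀ b ∈ S₁, a * b = b * a := fun a ha b hb => (hcom b hb a ha).symm
  have him : ∀ {D : Subgroup Ω}, F.StronglyClosed D → ∀ {P : Subgroup Ω} {g : Ω → Ω}, IsMap F P g → D ≤ P → g '' (D : Set Ω) = D :=
    fun {D} hD {P g} hg hDP => image_eq_of_mem hD.1 hg hDP fun x hx => isMap_mem_of_stronglyClosed hD hg (hDP hx) hx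
  have hRsat : R.IsSaturated p := restrict_saturated hS hF h₁ hcom hsup.ge hR
  -- the centraliser system of `S₂`
  set C₂ := centralizerIn S S₂ with hC₂
  have hC2S : C₂ ≤ S := inf_le_left
  haveI : Finite C₂ := finite_of_le hC2S
  have hEs : F.IsCentralizerSystem S₂ (centralizerSystem F S₂ h2S) := fun _ => rfl
  have hfc : F.IsFullyCentralized S₂ := ⟨h2S, fun Q hQ => by
    obtain ⟨g, hg⟩ := isConj_iff.1 hQ
    rw [show Q = S₂ from SetLike.coe_injective (hg.image_eq.symm.trans (him h₂ hg.isMap le_rfl))]⟩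
  have h1C : S₁ ≤ C₂ := fun a ha => ⟨h1S ha, fun b hb => hcom' b hb a ha⟩
  have hR'iff : ∀ {P : Subgroup Ω} {f : Ω → Ω}, IsMap R' P f ↔ P ≤ S₁ ∧
      ∃ g, IsMap F (P ⊔ S₂) g ∧ (∀ x ∈ P, g x = f x) ∧ ∀ x ∈ S₂, g x = x := by
    intro P f
    constructor
    · intro h
      have hP := h.le
      obtain ⟨φ, hφ, hv⟩ := h
      rw [hR' P hP] at hφ
      obtain ⟨-, -, g, hg, hgf, hgS⟩ := (isMap_centralizerSystem_iff hEs).1 ⟨φ, hφ, hv⟩
      exact ⟨hP, g, hg, hgf, hgS⟩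
    · rintro ⟨hP, g, hg, hgf, hgS⟩
      have h : IsMap (centralizerSystem F S₂ h2S) P f := (isMap_centralizerSystem_iff hEs).2
        ⟨hP.trans h1C, fun x hx => h1C (isMap_mem_of_stronglyClosed h₁
          ((hg.mono le_sup_left).congr hgf) hx (hP hx)), g, hg, hgf, hgS⟩
      obtain ⟨φ, hφ, hv⟩ := h
      exact ⟨φ, (hR' P hP).symm ▸ hφ, hv⟩
  have hR'F : ∀ {P : Subgroup Ω} {f : Ω → Ω}, IsMap R' P f → IsMap F P f := fun {P f} h => by
    obtain ⟨-, g, hg, hgf, -⟩ := hR'iff.1 h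
    exact (hg.mono le_sup_left).congr hgf
  have hR'sat : R'.IsSaturated p := by
    refine restrict_saturated (hS.to_le hC2S) (isSaturated_centralizerSystem hS hF hfc hEs)
      (C := S₂ ⊓ Subgroup.centralizer (S₂ : Set Ω)) (stronglyClosed_iff.2 ⟨h1C, fun Q g hg x hx hx1 => ?_⟩)
      (fun a ha b hb => hcom a ha b hb.1) (fun g hg => ?_) hR'
    · obtain ⟨-, -, g', hg', hgg, -⟩ := (isMap_centralizerSystem_iff hEs).1 hg
      exact isMap_mem_of_stronglyClosed h₁ ((hg'.mono le_sup_left).congr hgg) hx hx1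
    · obtain ⟨t, ht, c, hcC, rfl⟩ := split hcom (hsup.ge hg.1)
      refine Subgroup.mul_mem_sup ht ⟨hcC, ?_⟩
      have := mul_mem ((Subgroup.centralizer (S₂ : Set Ω)).inv_mem (h1C ht).2) hg.2
      rwa [inv_mul_cancel_left] at this
  -- transport
  have hinvar : ∀ {P : Subgroup Ω} {f : Ω → Ω}, IsMap R' P f → ∀ α ∈ F.autGroup S₁,
      ∀ (P' : Subgroup Ω), autFun α '' (P : Set Ω) = P' →
      ∃ f', IsMap R' P' f' ∧ ∀ x ∈ P, f' (autFun α x) = autFun α (f x) := by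
    intro P f hf α hα P' hP'
    obtain ⟨hP, g, hg, hgf, hgS⟩ := hR'iff.1 hf
    obtain ⟨β, hβ, hβv, hβ2⟩ := extend_factor hS hF h₁ h₂ hcom hsup
      ((mem_autGroup_iff h1S α).1 hα).isMap
    obtain ⟨β', hβ', hb1, -⟩ := hβ.exists_symm
    have hPS : P ⊔ S₂ ≤ S := sup_le (hP.trans h1S) h2S
    obtain ⟨W, hW⟩ := (hβ.isMap.mono hPS).exists_iso
    have hWle : P' ⊔ S₂ ≤ W := by
      refine sup_le (fun y hy => ?_) fun y hy => ?_
      · obtain ⟨x, hx, rfl⟩ := hP'.ge hy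
        rw [← hβv x (hP hx)]
        exact hW.mem (Subgroup.mem_sup_left hx)
      · obtain ⟨x, hx, rfl⟩ := hβ2.ge hy
        exact hW.mem (Subgroup.mem_sup_right hx)
    have hWS := hW.le_right
    refine ⟨β ∘ g ∘ β', hR'iff.2 ⟨?_, β ∘ g ∘ β', (((hβ'.isMap.mono hWS).comp hg fun y hy => ?_).comp
      hβ.isMap fun y hy => ?_).mono hWle, fun _ _ => rfl, fun y hy => ?_⟩, fun x hx => ?_⟩
    · intro y hy
      obtain ⟨x, hx, rfl⟩ := hP'.ge hy
      exact autFun_mem α (hP hx)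
    · obtain ⟨x, hx, rfl⟩ := hW.surj hy
      rw [hb1 x (hPS hx)]
      exact hx
    · show g (β' y) ∈ S
      obtain ⟨x, hx, rfl⟩ := hW.surj hy
      rw [hb1 x (hPS hx)]
      exact hg.mem hx
    · obtain ⟨x, hx, rfl⟩ := hβ2.ge hy
      show β (g (β' (β x))) = β x
      rw [hb1 x (h2S hx), hgS x hx]
    · show β (g (β' (autFun α x))) = autFun α (f x)
      rw [← hβv x (hP hx), hb1 x (h1S (hP hx)), hgf x hx, hβv _ (hf.mem hx)]
  -- the Frattini condition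
  have hfrat : ∀ {P : Subgroup Ω} {f : Ω → Ω}, P ≤ S₁ → IsMap F P f →
      ∃ α ∈ F.autGroup S₁, ∃ f₀, IsMap R' P f₀ ∧ ∀ x ∈ P, f x = autFun α (f₀ x) := by
    intro P f hP hf
    have hPS := hf.le
    obtain ⟨Q, hQc, hQ⟩ := exists_isFullyCentralized (F := F) hPS
    obtain ⟨a, ha⟩ := isConj_iff.1 hQc
    obtain ⟨P', hfi⟩ := hf.exists_iso
    obtain ⟨f', hf', hf1, -⟩ := hfi.exists_symm
    have hP'1 : P' ≤ S₁ := fun y hy => by
      obtain ⟨x, hx, rfl⟩ := hfi.surj hy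
      exact isMap_mem_of_stronglyClosed h₁ hf hx (hP hx)
    have hext : ∀ {A : Subgroup Ω} {h : Ω → Ω}, A ≤ S₁ → IsIso F A Q h →
        ∃ ψ, IsMap F (A ⊔ S₂) ψ ∧ (∀ x ∈ A, ψ x = h x) ∧ ψ '' (S₂ : Set Ω) = S₂ := by
      intro A h hA hh
      obtain ⟨ψ, hψ, hψv⟩ := (isReceptive_iff.1 (isReceptive_of_isFullyCentralized hS hF hQ)).2 A h hh
      have hle : A ⊔ S₂ ≤ nPhi S A h := sup_le (le_nPhi hh.isMap) fun y hy =>
        centralizerIn_le_nPhi A h ⟨h2S hy, fun x hx => hcom x (hA hx) y hy⟩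
      exact ⟨ψ, hψ.mono hle, hψv, him h₂ (hψ.mono hle) le_sup_right⟩
    obtain ⟨A, hA, hAv, hA2⟩ := hext hP ha
    obtain ⟨B, hB, hBv, hB2⟩ := hext hP'1 (hf'.comp ha)
    obtain ⟨W, hW⟩ := hB.exists_iso
    obtain ⟨B', hB', hB1, -⟩ := hW.exists_symm
    have hg : IsMap F (P ⊔ S₂) (B' ∘ A) := hA.comp hB'.isMap
      (mem_of_mem_sup hA le_sup_left le_sup_right
        (fun x hx => by
          have e : A x = B (f x) := by
            rw [hBv _ (hfi.mem hx), hAv x hx]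
            show a x = a (f' (f x))
            rw [hf1 x hx]
          rw [e]; exact hW.mem (Subgroup.mem_sup_left (hfi.mem hx)))
        (fun x hx => by
          obtain ⟨z, hz, hzv⟩ := hB2.ge (hA2.le ⟨x, hx, rfl⟩)
          rw [← hzv]; exact hW.mem (Subgroup.mem_sup_right hz)))
    have hgP : ∀ x ∈ P, B' (A x) = f x := fun x hx => by
      have e : A x = B (f x) := by
        rw [hBv _ (hfi.mem hx), hAv x hx]
        show a x = a (f' (f x))
        rw [hf1 x hx]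
      rw [e, hB1 _ (Subgroup.mem_sup_left (hfi.mem hx))]
    obtain ⟨ε, hε, hεv, hε1⟩ := extend_factor hS hF h₂ h₁ hcom' (sup_comm S₂ S₁ ▸ hsup)
      (hg.mono le_sup_right)
    obtain ⟨ε', hε', he1, -⟩ := hε.exists_symm
    obtain ⟨α, hα, hαv⟩ := exists_mem_autGroup (⟨hε.isMap.mono h1S, hε1⟩ : IsIso F S₁ S₁ ε)
    refine ⟨α, hα, ε' ∘ (B' ∘ A), hR'iff.2 ⟨hP, _, hg.comp hε'.isMap fun x hx => hg.mem hx,
      fun _ _ => rfl, fun x hx => ?_⟩, fun x hx => ?_⟩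
    · show ε' (B' (A x)) = x
      rw [show B' (A x) = ε x from (hεv x hx).symm, he1 x (h2S hx)]
    · show f x = autFun α (ε' (B' (A x)))
      rw [hgP x hx]
      obtain ⟨z, hz, hzv⟩ := hε1.ge (hP'1 (hfi.mem hx))
      rw [← hzv, he1 z (h1S hz), autFun_apply α hz, hαv]
  -- subsystems
  have hRaut : R.autGroup S₁ = F.autGroup S₁ := by
    unfold Cfsg.FusionSystem.autGroup
    rw [hR S₁ le_rfl]
  have hsubF : R'.IsSubsystemOf F := fun P φ hφ => (mem_hom_iff φ).2 (hR'F (isMap_homFun hφ))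
  have hsubR : R'.IsSubsystemOf R := fun P φ hφ => (mem_hom_iff φ).2
    ((isMap_restrict hR).2 ⟨(isMap_homFun hφ).le, hR'F (isMap_homFun hφ)⟩)
  have hinvG : ∀ (P : Subgroup Ω) (hPT : P ≤ S₁) (φ : P →* Ω), φ ∈ R'.Hom P → ∀ α ∈ F.autGroup S₁,
      ∃ χ ∈ R'.Hom ((P.subgroupOf S₁).map (S₁.subtype.comp α.toMonoidHom)),
        ∀ (x : P) (hφx : φ x ∈ S₁)
          (hαx : ((α ⟨x, hPT x.2⟩ : S₁) : Ω) ∈ (P.subgroupOf S₁).map (S₁.subtype.comp α.toMonoidHom)),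
          χ ⟨(α ⟨x, hPT x.2⟩ : S₁), hαx⟩ = ((α ⟨φ x, hφx⟩ : S₁) : Ω) := by
    intro P hPT φ hφ α hα
    have himg : autFun α '' (P : Set Ω) = ((P.subgroupOf S₁).map (S₁.subtype.comp α.toMonoidHom) : Subgroup Ω) := by
      ext y
      constructor
      · rintro ⟨x, hx, rfl⟩
        exact ⟨⟨x, hPT hx⟩, hx, (autFun_apply α (hPT hx)).symm⟩
      · rintro ⟨x, hx, rfl⟩
        exact ⟨x, hx, autFun_coe α x⟩
    obtain ⟨f', hf', hv⟩ := hinvar (isMap_homFun hφ) α hα _ himg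
    obtain ⟨χ, hχ, hχv⟩ := hf'.exists_hom
    refine ⟨χ, hχ, fun x hφx hαx => ?_⟩
    have := hv x x.2
    rw [homFun_coe, autFun_apply α hφx, autFun_apply α (hPT x.2)] at this
    rw [hχv]
    exact this
  have hfratG : ∀ (P : Subgroup Ω), P ≤ S₁ → ∀ (φ : P →* Ω), φ ∈ F.Hom P →
      ∃ α ∈ F.autGroup S₁, ∃ φ₀ ∈ R'.Hom P, ∀ (x : P) (hx : φ₀ x ∈ S₁), φ x = ((α ⟨φ₀ x, hx⟩ : S₁) : Ω) := by
    intro P hP φ hφ
    obtain ⟨α, hα, f₀, hf₀, hv⟩ := hfrat hP (isMap_homFun hφ)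
    obtain ⟨φ₀, hφ₀, h₀⟩ := hf₀.exists_hom
    refine ⟨α, hα, φ₀, hφ₀, fun x hx => ?_⟩
    have := hv x x.2
    rw [homFun_coe, ← h₀ x, autFun_apply α hx] at this
    exact this
  refine ⟨hRsat, hR'sat, ⟨⟨hR'sat, hF, hsubF, h₁, hinvG, hfratG⟩, fun α hα => ?_⟩,
    ⟨⟨hR'sat, hRsat, hsubR, ⟨le_rfl, fun Q _ φ hφ x => (R.le_of_mem hφ).2 x⟩, ?_, ?_⟩, fun α hα => ?_⟩,
    hRsat, hF, fun P φ hφ => (hR P (R.le_of_mem hφ).1) ▸ hφ, h₁, ?_, ?_⟩
  · obtain ⟨-, g, hg, hgf, hgS⟩ := hR'iff.1 ((mem_autGroup_iff le_rfl α).1 hα).isMap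
    have hbig : S₁ ⊔ centralizerIn S S₁ = S := le_antisymm (sup_le h1S inf_le_left) (hsup.ge.trans
      (sup_le le_sup_left fun y hy => Subgroup.mem_sup_right ⟨h2S hy, fun x hx => hcom x hx y hy⟩))
    haveI := finite_of_le (hbig.le : _ ≤ S)
    have hgb : IsMap F (S₁ ⊔ centralizerIn S S₁) g := hg.mono (hbig.le.trans hsup.ge)
    obtain ⟨β, hβ, hβv⟩ := exists_mem_autGroup
      (hgb.isIso_of_card_le (fun x hx => hbig.ge (hgb.mem hx)) le_rfl)
    refine ⟨β, hβ, fun x => ?_, fun c hc => ?_⟩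
    · rw [hβv, show g ((Subgroup.inclusion le_sup_left x : ↥(S₁ ⊔ centralizerIn S S₁)) : Ω) = g x from rfl,
        hgf x x.2, autFun_coe]
    · obtain ⟨t, ht, s, hs, he⟩ := split hcom (hsup.ge hc.1)
      rw [hβv, he, hg.map_mul (Subgroup.mem_sup_left ht) (Subgroup.mem_sup_right hs), hgf t ht, hgS s hs,
        autFun_apply α ht]
      have hval : (t * s)⁻¹ * ((α ⟨t, ht⟩ : S₁) * s) = t⁻¹ * (α ⟨t, ht⟩ : S₁) := by
        rw [hcom _ (α ⟨t, ht⟩).2 s hs, hcom t ht s hs]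
        group
      rw [hval]
      have htc : (⟨t, ht⟩ : S₁) ∈ Subgroup.center S₁ := Subgroup.mem_center_iff.2 fun u => Subtype.ext (by
        have h := hc.2 u u.2
        rw [he] at h
        show (u : Ω) * t = t * u
        rw [mul_assoc, ← hcom _ u.2 s hs, ← mul_assoc, ← mul_assoc] at h
        exact mul_right_cancel h)
      refine ⟨S₁.mul_mem (S₁.inv_mem ht) (α ⟨t, ht⟩).2, fun u hu => ?_⟩
      have h2 : α ⟨t, ht⟩ ∈ Subgroup.center S₁ :=
        (Subgroup.characteristic_iff_map_le.1 inferInstance α) ⟨_, htc, rfl⟩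
      exact congrArg Subtype.val (Subgroup.mem_center_iff.1 (mul_mem (inv_mem htc) h2) ⟨u, hu⟩)
  · intro P hP φ hφ α hα
    exact hinvG P hP φ hφ α (hRaut ▸ hα)
  · intro P hP φ hφ
    obtain ⟨α, hα, h⟩ := hfratG P hP φ (hR P hP ▸ hφ)
    exact ⟨α, hRaut ▸ hα, h⟩
  · have hbig : S₁ ⊔ centralizerIn S₁ S₁ = S₁ := sup_eq_left.2 inf_le_left
    haveI := finite_of_le (hbig.le.trans h1S)
    have hαR : IsMap R S₁ (autFun α) := (isMap_restrict hR).2
      ⟨le_rfl, hR'F ((mem_autGroup_iff le_rfl α).1 hα).isMap⟩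
    have hm := hαR.mono hbig.le
    obtain ⟨β, hβ, hβv⟩ := exists_mem_autGroup
      (hm.isIso_of_card_le (fun x hx => hbig.ge (hm.mem hx)) le_rfl)
    refine ⟨β, hβ, fun x => ?_, fun c hc => ?_⟩
    · rw [hβv]
      exact autFun_coe α x
    · have hc1 : (c : Ω) ∈ S₁ := hc.1
      rw [hβv, autFun_apply α hc1]
      refine ⟨S₁.mul_mem (S₁.inv_mem hc1) (α ⟨_, hc1⟩).2, fun u hu => ?_⟩
      have hcc : (⟨c, hc1⟩ : S₁) ∈ Subgroup.center S₁ :=
        Subgroup.mem_center_iff.2 fun v => Subtype.ext (hc.2 v v.2)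
      have h2 : α ⟨c, hc1⟩ ∈ Subgroup.center S₁ :=
        (Subgroup.characteristic_iff_map_le.1 inferInstance α) ⟨_, hcc, rfl⟩
      exact congrArg Subtype.val (Subgroup.mem_center_iff.1 (mul_mem (inv_mem hcc) h2) ⟨u, hu⟩)
  · intro P hP φ hφ α hα
    have hFφ : IsMap F P (homFun φ) := ((isMap_restrict hR).1 (isMap_homFun hφ)).2
    have hαi := (mem_autGroup_iff h1S α).1 hα
    obtain ⟨α', hα', ha1, -⟩ := hαi.exists_symm
    set P' := (P.subgroupOf S₁).map (S₁.subtype.comp α.toMonoidHom) with hP'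
    have hP'1 : P' ≤ S₁ := by
      rintro _ ⟨x, -, rfl⟩
      exact SetLike.coe_mem _
    have hmem : ∀ y ∈ P', α' y ∈ P := by
      rintro _ ⟨x, hx, rfl⟩
      show α' ((α x : S₁) : Ω) ∈ P
      rw [← autFun_coe α x, ha1 x x.2]
      exact hx
    have hm : IsMap R P' (autFun α ∘ homFun φ ∘ α') := (isMap_restrict hR).2 ⟨hP'1,
      (((hα'.isMap.mono hP'1).comp hFφ hmem)).comp hαi.isMap fun y hy =>
        isMap_mem_of_stronglyClosed h₁ hFφ (hmem y hy) (hP (hmem y hy))⟩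
    obtain ⟨χ, hχ, hχv⟩ := hm.exists_hom
    refine ⟨χ, hχ, fun x hφx hαx => ?_⟩
    rw [hχv]
    show autFun α (homFun φ (α' ((α ⟨x, hP x.2⟩ : S₁) : Ω))) = _
    rw [← autFun_coe α, ha1 x (hP x.2), homFun_coe, autFun_apply α hφx]
  · intro P hP φ hφ
    exact ⟨1, one_mem _, φ, (hR P hP).symm ▸ hφ, fun x hx => rfl⟩
end Cfsg.Agent.S5130
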