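import Cfsg.Statements.S5135
import Cfsg.Agent.Lib.Fusion.FactorSystem

set_option autoImplicit false
open Cfsg

namespace Cfsg.Agent.S5135

/-- Let G be a finite group, S a Sylow p-subgroup and H a normal subgroup of G. Then the fusion system of G/H on the image SH/H of S is the factor system of the fusion system of G on S modulo S ∩ H, read through the quotient map restricted to S: for each subgroup P' of SH/H, the conjugation maps by elements of G/H defined on P' with values in SH/H are exactly the homomorphisms induced by the conjugation maps by elements of G defined on the full preimage of P' in S with values in S. -/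
theorem result {G : Type*} [Group G] [Finite G] (p : ℕ) [Fact p.Prime] (S : Sylow p G) (H : Subgroup G) [H.Normal] : (Cfsg.groupFusionSystem (S : Subgroup G)).IsFactorSystem ((S : Subgroup G) ⊓ H) ((QuotientGroup.mk' H).comp (S : Subgroup G).subtype) (Cfsg.groupFusionSystem ((S : Subgroup G).map (QuotientGroup.mk' H))) := by
  set π := QuotientGroup.mk' H
  set θ : (S : Subgroup G) →* G ⧸ H := π.comp (S : Subgroup G).subtype
  have hr : θ.range = (S : Subgroup G).map π := by
    rw [MonoidHom.range_comp, Subgroup.range_subtype]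
  refine ⟨inf_le_left, fun s => ?_, hr, fun P' φ' => ?_⟩
  · show QuotientGroup.mk' H (s : G) = 1 ↔ _
    rw [QuotientGroup.mk'_apply, QuotientGroup.eq_one_iff]
    exact ⟨fun h => ⟨s.2, h⟩, fun h => h.2⟩
  have hP := CfsgLib.Fusion.preimageAlong_le θ P'
  have hmem : ∀ x : Cfsg.FusionSystem.preimageAlong θ P', θ ⟨x, hP x.2⟩ ∈ P' := fun x => by
    have := ((CfsgLib.Fusion.mem_preimageAlong θ P').1 x.2).2
    rwa [CfsgLib.Fusion.homExt_apply θ (hP x.2)] at this
  constructor
  · rintro ⟨hP', hv, gb, hg⟩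
    obtain ⟨g, rfl⟩ := QuotientGroup.mk'_surjective H gb
    set K := (S : Subgroup G) ⊔ H
    set U := (Cfsg.FusionSystem.preimageAlong θ P').map (MulAut.conj g).toMonoidHom
    have hUK : U ≤ K := by
      rintro _ ⟨x, hx, rfl⟩
      have h1 : π (g * x * g⁻¹) ∈ (S : Subgroup G).map π := by
        rw [map_mul, map_mul, map_inv]
        have := hv ⟨π x, hmem ⟨x, hx⟩⟩
        rwa [hg] at this
      have h2 : g * x * g⁻¹ ∈ ((S : Subgroup G).map π).comap π := h1
      rwa [Subgroup.comap_map_eq, QuotientGroup.ker_mk'] at h2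
    have hUp : IsPGroup p (U.subgroupOf K) :=
      ((S.isPGroup'.to_le hP).map _).of_equiv (Subgroup.subgroupOfEquivOfLe hUK).symm
    obtain ⟨Q, hQ⟩ := hUp.exists_le_sylow
    obtain ⟨k, hk⟩ := MulAction.exists_smul_eq K Q (S.subtype (le_sup_left : _ ≤ K))
    have hconj : ∀ u ∈ U, (k : G) * u * (k : G)⁻¹ ∈ (S : Subgroup G) := fun u hu => by
      have h1 : k * ⟨u, hUK hu⟩ * k⁻¹ ∈ ((k • Q : Sylow p K) : Subgroup K) := by
        rw [Sylow.smul_def, Sylow.pointwise_smul_def]
        exact Subgroup.smul_mem_pointwise_smul _ (MulAut.conj k) _ (hQ hu)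
      rw [hk] at h1
      exact h1
    obtain ⟨s, hs, h, hh, hsh⟩ := Subgroup.mem_sup_of_normal_right.1 k.2
    have hval : ∀ x : Cfsg.FusionSystem.preimageAlong θ P',
        h * g * x * (h * g)⁻¹ ∈ (S : Subgroup G) := fun x => by
      have h1 := hconj _ ⟨x, x.2, rfl⟩
      rw [← hsh] at h1
      have h2 := Subgroup.mul_mem _ (Subgroup.mul_mem _ (Subgroup.inv_mem _ hs) h1) hs
      convert h2 using 1
      show _ = s⁻¹ * (s * h * (g * x * g⁻¹) * (s * h)⁻¹) * s
      group
    refine ⟨hP', Cfsg.conjHom _ (h * g), ⟨hP, hval, h * g, fun x => rfl⟩, hP, hval, hmem,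
      fun x => ?_⟩
    rw [hg]
    show π g * π x * (π g)⁻¹ = π (h * g * x * (h * g)⁻¹)
    have hh1 : π h = 1 := (QuotientGroup.eq_one_iff h).2 hh
    rw [map_mul, map_mul, map_inv, map_mul, hh1, one_mul]
  · rintro ⟨hP', φ, ⟨-, hφS, g, hg⟩, hP₁, hφ₁, hmem₁, hind⟩
    have hall : ∀ y : P', φ' y = π g * (y : G ⧸ H) * (π g)⁻¹ ∧
        φ' y ∈ (S : Subgroup G).map π := by
      intro y
      obtain ⟨s, hs⟩ := hr.ge (hP' y.2)
      have hsP : (s : G) ∈ Cfsg.FusionSystem.preimageAlong θ P' :=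
        ⟨s, show θ s ∈ P' from hs ▸ y.2, rfl⟩
      have hy : y = ⟨θ ⟨s, hP₁ hsP⟩, hmem₁ ⟨s, hsP⟩⟩ := Subtype.ext hs.symm
      rw [hy, hind ⟨s, hsP⟩]
      refine ⟨?_, hr.le ⟨_, rfl⟩⟩
      show π (φ ⟨s, hsP⟩) = π g * π (s : G) * (π g)⁻¹
      rw [hg, map_mul, map_mul, map_inv]
    exact ⟨hP', fun y => (hall y).2, π g, fun y => (hall y).1⟩

end Cfsg.Agent.S5135
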