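import Cfsg.Statements.S5138
import Cfsg.Agent.Lib.Fusion.CommutingProduct
import Cfsg.Agent.Lib.Fusion.CentralClosed
import Cfsg.Agent.Lib.Fusion.ComponentStructure
-- import your own Cfsg.Agent.* helpers here

set_option autoImplicit false
open Cfsg

namespace Cfsg.Agent.S5138

/-- Let F be a saturated fusion system over a finite p-group S and E₁, E₂ normal subsystems over T₁, T₂ with [T₁, T₂] = 1. Then there is a normal subsystem of F over T₁T₂ which, if moreover T₁ ∩ T₂ lies in the centre of E₁ and in the centre of E₂, is a central product of E₁ and E₂ (the factor system of a direct product of E₁ and E₂ modulo a subgroup of its centre meeting both factors trivially). -/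
theorem result {Ω : Type*} [Group Ω] {S : Subgroup Ω} [Finite S] (p : ℕ) [Fact p.Prime] (hS : IsPGroup p S) (F : Cfsg.FusionSystem S) (hF : F.IsSaturated p) {T₁ T₂ : Subgroup Ω} (E₁ : Cfsg.FusionSystem T₁) (E₂ : Cfsg.FusionSystem T₂) (hE₁ : E₁.IsNormalIn F p) (hE₂ : E₂.IsNormalIn F p) (hc : ⁅T₁, T₂⁆ = ⊥) : ∃ D : Cfsg.FusionSystem (T₁ ⊔ T₂), D.IsNormalIn F p ∧ (T₁ ⊓ T₂ ≤ E₁.center → T₁ ⊓ T₂ ≤ E₂.center → Cfsg.FusionSystem.IsCentralProductOf E₁ E₂ D) := by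
  classical
  have hcomm : ∀ x ∈ T₁, ∀ y ∈ T₂, x * y = y * x := fun x hx y hy =>
    (Subgroup.mem_centralizer_iff.1 (Subgroup.commutator_eq_bot_iff_le_centralizer.1 hc hx) y hy).symm
  have hT₁ := hE₁.1.2.2.2.1
  have hT₂ := hE₂.1.2.2.2.1
  have hfin₁ := CfsgLib.Fusion.finite_of_le hT₁.1
  have hfin₂ := CfsgLib.Fusion.finite_of_le hT₂.1
  have key : ∀ (F₁ : Cfsg.FusionSystem T₁) (F₂ : Cfsg.FusionSystem T₂) (n₁ : F₁.IsNormalIn F p)
      (n₂ : F₂.IsNormalIn F p), F₁.IsCentral (T₁ ⊓ T₂) → F₂.IsCentral (T₂ ⊓ T₁) →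
      ∃ D : Cfsg.FusionSystem (T₁ ⊔ T₂), D.IsNormalIn F p ∧
        Cfsg.FusionSystem.IsCentralProductOf F₁ F₂ D := by
    intro F₁ F₂ n₁ n₂ c₁ c₂
    have h₁ := CfsgLib.Fusion.Centralise.le_centE_of_le hS hF n₁ hT₂
      (fun y hy => ⟨hT₂.1 hy, Subgroup.mem_centralizer_iff.2 fun x hx => hcomm x hx y hy⟩) c₁
    have h₂ := CfsgLib.Fusion.Centralise.le_centE_of_le hS hF n₂ hT₁
      (fun x hx => ⟨hT₁.1 hx, Subgroup.mem_centralizer_iff.2 fun y hy => (hcomm x hx y hy).symm⟩) c₂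
    obtain ⟨D, hD⟩ := CfsgLib.Fusion.CommProduct.exists_product hS hF n₁ n₂ h₁ h₂
    exact ⟨D, (CfsgLib.Fusion.CommProduct.Data.isNormalIn ⟨hS, hF, n₁, n₂, h₁, h₂, hD⟩), hD⟩
  by_cases h : T₁ ⊓ T₂ ≤ E₁.center ∧ T₁ ⊓ T₂ ≤ E₂.center
  · obtain ⟨D, hD, hp⟩ := key E₁ E₂ hE₁ hE₂ (CfsgLib.Fusion.CompStructure.isCentral_of_le h.1)
      (CfsgLib.Fusion.CompStructure.isCentral_of_le (inf_comm T₂ T₁ ▸ h.2))
    exact ⟨D, hD, fun _ _ => hp⟩
  · have hA := CfsgLib.Fusion.Meet.stronglyClosed_inf hT₁ hT₂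
    have c₁ : (CfsgLib.Fusion.PPrime.E0 E₁ p).IsCentral (T₁ ⊓ T₂) :=
      CfsgLib.Fusion.PPrime.isCentral_E0 (hS.to_le hT₁.1) hE₁.1.1
        (CfsgLib.Fusion.stronglyClosed_iff.2 ⟨inf_le_left, fun P f hf x hx hxA =>
          CfsgLib.Fusion.isMap_mem_of_stronglyClosed hA
            (CfsgLib.Fusion.isMap_of_subsystem hE₁.1.2.2.1 hf) hx hxA⟩)
        fun a ha s hs => (hcomm s hs a ha.2).symm
    have c₂ : (CfsgLib.Fusion.PPrime.E0 E₂ p).IsCentral (T₂ ⊓ T₁) :=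
      CfsgLib.Fusion.PPrime.isCentral_E0 (hS.to_le hT₂.1) hE₂.1.1
        (CfsgLib.Fusion.stronglyClosed_iff.2 ⟨inf_le_left, fun P f hf x hx hxA =>
          CfsgLib.Fusion.isMap_mem_of_stronglyClosed (inf_comm T₁ T₂ ▸ hA)
            (CfsgLib.Fusion.isMap_of_subsystem hE₂.1.2.2.1 hf) hx hxA⟩)
        fun a ha s hs => hcomm a ha.2 s hs
    obtain ⟨D, hD, -⟩ := key _ _
      (CfsgLib.Fusion.Residual.isNormalIn_residual hS hE₁.1
        (CfsgLib.Fusion.PPrime.isPPrimeResidual_E0 (hS.to_le hT₁.1) hE₁.1.1))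
      (CfsgLib.Fusion.Residual.isNormalIn_residual hS hE₂.1
        (CfsgLib.Fusion.PPrime.isPPrimeResidual_E0 (hS.to_le hT₂.1) hE₂.1.1)) c₁ c₂
    exact ⟨D, hD, fun a b => absurd ⟨a, b⟩ h⟩

end Cfsg.Agent.S5138
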