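import Cfsg.Statements.S5139
import Cfsg.Agent.Lib.Fusion.PowerIndex
import Cfsg.Agent.Lib.Fusion.TransportGroup
import Cfsg.Agent.Lib.Fusion.HyperfocalGroup

set_option autoImplicit false
open Cfsg

namespace Cfsg.Agent.S5139

/-- Let G be a finite group with Sylow p-subgroup S and O^p(G) the subgroup generated by the elements of order prime to p. Then the p-residual subsystem of the fusion system of G on S — the saturated subsystem of p-power index over the hyperfocal subgroup — is the fusion system of O^p(G) on S ∩ O^p(G): its maps are exactly the conjugation maps by elements of O^p(G) between subgroups of S ∩ O^p(G). -/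
theorem result {G : Type*} [Group G] [Finite G] (p : ℕ) [Fact p.Prime] (S : Sylow p G) (E : Cfsg.FusionSystem ((Cfsg.groupFusionSystem (S : Subgroup G)).hyperfocalSubgroup p)) (hE : (Cfsg.groupFusionSystem (S : Subgroup G)).IsPResidual p E) : ∃ h : (S : Subgroup G) ⊓ Cfsg.pResidual p G ≤ Cfsg.pResidual p G, ∀ P : Subgroup G, E.Hom P = (Cfsg.fusionSystemOfSubgroup (Cfsg.pResidual p G) ((S : Subgroup G) ⊓ Cfsg.pResidual p G) h).Hom P := by
  refine ⟨inf_le_right, fun P => ?_⟩
  haveI := CfsgLib.Transfer.pResidual_normal p G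
  set F := Cfsg.groupFusionSystem (S : Subgroup G)
  set O := Cfsg.pResidual p G
  set T := (S : Subgroup G) ⊓ O
  set D := Cfsg.fusionSystemOfSubgroup O T inf_le_right
  have hF := CfsgLib.Fusion.isSaturated_group S
  have hle : F.hyperfocalSubgroup p ≤ T :=
    le_inf CfsgLib.Fusion.hyperfocal_le (CfsgLib.Fusion.hyperfocal_le_pResidual S)
  have hge : T ≤ F.hyperfocalSubgroup p := CfsgLib.Fusion.pResidual_inf_le_hyperfocal S
  have hDF : D.IsSubsystemOf F := by
    rintro Q φ ⟨hQ, hv, g, -, hg⟩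
    exact ⟨hQ.trans inf_le_left, fun x => (hv x).1, g, hg⟩
  have hDs : D.IsSaturated p := CfsgLib.Fusion.isSaturated_fsos inf_le_right
    (S.isPGroup'.to_le inf_le_left) fun U hU hUp => CfsgLib.Fusion.card_le_inf_of_normal S O hU hUp
  have hcov : CfsgLib.Fusion.PowerIndex.Cov F p T D := by
    intro Q hQ α hα ho
    obtain ⟨f, hf, hv⟩ : ∃ f, CfsgLib.Fusion.IsMap F Q f ∧ ∀ x : Q, (α x : G) = f x :=
      ⟨_, ((CfsgLib.Fusion.mem_autGroup_iff (hQ.trans inf_le_left) α).1 hα).isMap,
        fun x => (CfsgLib.Fusion.autFun_coe α x).symm⟩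
    obtain ⟨-, -, g, hg⟩ := CfsgLib.Fusion.isMap_group_iff.1 hf
    obtain ⟨m, hm, hmo⟩ := CfsgLib.Fusion.Residual.exists_pPrime_pow g ho
    have hit : ∀ (k : ℕ) (x : Q), ((α ^ k) x : G) = g ^ k * x * (g ^ k)⁻¹ := by
      intro k
      induction k with
      | zero => intro x; simp
      | succ k ih =>
        intro x
        rw [pow_succ' α, MulAut.mul_apply, hv, hg _ (SetLike.coe_mem _), ih]
        group
    refine CfsgLib.Fusion.mem_autGroup_of_isMap (CfsgLib.Fusion.isMap_fsos_iff.2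
      ⟨hQ, fun x hx => hQ (CfsgLib.Fusion.autFun_mem α hx), g ^ m,
        CfsgLib.Transfer.mem_pResidual_of_coprime hmo, fun x hx => ?_⟩) α
      fun x => (CfsgLib.Fusion.autFun_coe α x).symm
    rw [← hit m ⟨x, hx⟩, CfsgLib.Fusion.Residual.pow_eq_self_of_modEq hm,
      CfsgLib.Fusion.autFun_apply α hx]
  refine Set.Subset.antisymm ?_ ?_
  · exact CfsgLib.Fusion.PowerIndex.le_of_cov S.isPGroup' CfsgLib.Fusion.hyperfocal_le hE.1 hE.2.1
      hle (fun Q hQ => hcov Q (hQ.trans hle)) P
  · exact CfsgLib.Fusion.PowerIndex.le_of_cov S.isPGroup' inf_le_left hDs hDF hge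
      (fun Q hQ => CfsgLib.Fusion.PowerIndex.cov_iff.2 hE.2.2.2 Q (hQ.trans hge)) P

end Cfsg.Agent.S5139
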