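import Cfsg.Statements.S5143
import Cfsg.Agent.Lib.Fusion.SupplementUnique
import Cfsg.Agent.Lib.Fusion.NormalPResidual

set_option autoImplicit false
open Cfsg

namespace Cfsg.Agent.S5143

/-- Let F be a saturated fusion system over a finite p-group S, E a normal subsystem over T, and R a subgroup with T ≤ R ≤ S. Then there is exactly one saturated subsystem D of F over R (exactly one family of map sets) whose p-residual subsystem is that of E: the hyperfocal subgroups of D and E coincide and the p-residual subsystems of D and of E have the same maps. -/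
theorem result {Ω : Type*} [Group Ω] {S : Subgroup Ω} [Finite S] (p : ℕ) [Fact p.Prime] (hS : IsPGroup p S) (F : Cfsg.FusionSystem S) (hF : F.IsSaturated p) {T : Subgroup Ω} (E : Cfsg.FusionSystem T) (hE : E.IsNormalIn F p) (R : Subgroup Ω) (hTR : T ≤ R) (hRS : R ≤ S) : ∃ D : Cfsg.FusionSystem R, (D.IsSaturated p ∧ D.IsSubsystemOf F ∧ D.hyperfocalSubgroup p = E.hyperfocalSubgroup p ∧ ∀ (D₁ : Cfsg.FusionSystem (D.hyperfocalSubgroup p)) (E₁ : Cfsg.FusionSystem (E.hyperfocalSubgroup p)), D.IsPResidual p D₁ → E.IsPResidual p E₁ → ∀ P : Subgroup Ω, D₁.Hom P = E₁.Hom P) ∧ ∀ D' : Cfsg.FusionSystem R, D'.IsSaturated p → D'.IsSubsystemOf F → D'.hyperfocalSubgroup p = E.hyperfocalSubgroup p → (∀ (D₁ : Cfsg.FusionSystem (D'.hyperfocalSubgroup p)) (E₁ : Cfsg.FusionSystem (E.hyperfocalSubgroup p)), D'.IsPResidual p D₁ → E.IsPResidual p E₁ → ∀ P : Subgroup Ω, D₁.Hom P = E₁.Hom P) → ∀ P : Subgroup Ω, D'.Hom P = D.Hom P := by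
  have hd : CfsgLib.Fusion.Supplement.Data F p E := ⟨hS, hF, hE⟩
  have h : CfsgLib.Fusion.Supplement.Setting F p E R := { hd with TR := hTR, RS := hRS }
  have hTS := hd.TS
  have : Finite T := CfsgLib.Fusion.finite_of_le hTS
  have : Finite R := CfsgLib.Fusion.finite_of_le hRS
  have hTp : IsPGroup p T := hS.to_le hTS
  have hRp : IsPGroup p R := hS.to_le hRS
  have hEs := hE.1.1
  set H := E.hyperfocalSubgroup p
  have hHT : H ≤ T := CfsgLib.Fusion.hyperfocal_le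
  have : Finite H := CfsgLib.Fusion.finite_of_le hHT
  -- the hyperfocal subgroup of the product
  have hge : H ≤ h.sys.hyperfocalSubgroup p := CfsgLib.Fusion.PowerIndex.hyperfocal_mono h.sub_E
  have hle : h.sys.hyperfocalSubgroup p ≤ H := by
    refine CfsgLib.Fusion.hyperfocal_le_of_coprime fun P α hP hα hαo x => ?_
    have hG := h.gam_of_coprime hα hP hαo
    have hPS := hP.trans hRS
    have := CfsgLib.Fusion.finite_of_le hPS
    have hm := CfsgLib.Fusion.Supplement.gam_isMap hG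
    have hUU : ∀ z ∈ P ⊓ T, CfsgLib.Fusion.autFun α z ∈ P ⊓ T := fun z hz =>
      ⟨CfsgLib.Fusion.autFun_mem α hz.1, hm.mem hz⟩
    have := CfsgLib.Fusion.finite_of_le (S := T) (P := P ⊓ T) inf_le_right
    obtain ⟨e, he, hev⟩ := CfsgLib.Fusion.exists_mem_autGroup (hm.isIso_of_card_le hUU le_rfl)
    have heo : (orderOf e).Coprime p :=
      CfsgLib.Fusion.NormalCentralizer.coprime_orderOf_restrict inf_le_left
        (fun z hz => by rw [CfsgLib.Fusion.autFun_apply e hz, hev]) hαo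
    have hd' : ∀ z ∈ P ⊓ T, z⁻¹ * CfsgLib.Fusion.autFun α z ∈ H := fun z hz => by
      have h1 := CfsgLib.Fusion.inv_mul_mem_hyperfocal (F := E) inf_le_right (α := ⟨e, he⟩)
        (CfsgLib.Transfer.mem_pResidual_of_coprime (by rw [← Subgroup.orderOf_coe]; exact heo))
        ⟨z, hz⟩
      rwa [hev] at h1
    rw [← CfsgLib.Fusion.autFun_coe α]
    refine CfsgLib.Fusion.Supplement.diff_mem (hS.to_le hPS) hαo (fun z hz hzH => ?_) x.2 fun i =>
      hd' _ (Subgroup.pow_mem _ ?_ i)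
    · have := H.mul_mem hzH (hd' z ⟨hz, hHT hzH⟩)
      rwa [mul_inv_cancel_left] at this
    · exact ⟨P.mul_mem (P.inv_mem x.2) (CfsgLib.Fusion.autFun_mem α x.2),
        CfsgLib.Fusion.Supplement.gam_mod hG x.2⟩
  obtain ⟨E₁, hE₁, hE₁E, hcov, -⟩ :=
    CfsgLib.Fusion.PowerIndex.exists_subsystem H _ T rfl hTp E hEs hHT le_rfl
  have hn₁ := CfsgLib.Fusion.NormalPResidual.isNormalIn hS hF hE rfl hE₁ hE₁E hcov
  have h₁ : CfsgLib.Fusion.Supplement.Setting F p E₁ R :=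
    { pgroup := hS, sat := hF, normal := hn₁, TR := hHT.trans hTR, RS := hRS }
  have hcovD : ∀ P : Subgroup Ω, P ≤ H → ∀ α ∈ h.sys.autGroup P, (orderOf α).Coprime p →
      α ∈ E₁.autGroup P := fun P hP α hα ho =>
    hcov P hP α (h.autGroup_E (hP.trans hHT) hα ho) ho
  refine ⟨h.sys, ⟨h.isSaturated, h.sub, le_antisymm hle hge, fun D₁ F₁ hD₁ hF₁ P => ?_⟩,
    fun D' hD' hD'F hyp hres P => ?_⟩
  · refine Set.Subset.antisymm ?_ ?_
    · refine CfsgLib.Fusion.PowerIndex.le_of_cov (F := h.sys) hRp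
        (CfsgLib.Fusion.hyperfocal_le) hD₁.1 hD₁.2.1 hle (fun Q hQ α hα ho => ?_) P
      exact CfsgLib.Fusion.PowerIndex.cov_iff.2 hF₁.2.2.2 Q (hQ.trans hle) α
        (h.autGroup_E ((hQ.trans hle).trans hHT) hα ho) ho
    · refine CfsgLib.Fusion.PowerIndex.le_of_cov (F := h.sys) hRp (hHT.trans hTR) hF₁.1
        (fun Q φ hφ => h.sub_E Q (hF₁.2.1 Q hφ)) hge (fun Q hQ => ?_) P
      exact CfsgLib.Fusion.PowerIndex.cov_iff.2 hD₁.2.2.2 Q (hQ.trans hge)
  · obtain ⟨D₁, hD₁, hD₁D, hcov', -⟩ := CfsgLib.Fusion.PowerIndex.exists_subsystem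
      (D'.hyperfocalSubgroup p) _ R rfl hRp D' hD' CfsgLib.Fusion.hyperfocal_le le_rfl
    have heq := hres D₁ E₁ ⟨hD₁, hD₁D, le_rfl, CfsgLib.Fusion.PowerIndex.cov_iff.1 hcov'⟩
      ⟨hE₁, hE₁E, le_rfl, CfsgLib.Fusion.PowerIndex.cov_iff.1 hcov⟩
    have e1 := h₁.eq_sys hD' hD'F (fun Q φ hφ => hD₁D Q ((heq Q).symm ▸ hφ)) hyp.le
      (fun Q hQ α hα ho => by
        have hQ' := hyp.ge.trans' hQ
        obtain ⟨φ, hφ, hv⟩ :=
          ((CfsgLib.Fusion.mem_autGroup_iff hQ' α).1 (hcov' Q hQ' α hα ho)).isMap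
        exact CfsgLib.Fusion.mem_autGroup_of_isMap ⟨φ, heq Q ▸ hφ, hv⟩ α
          fun x => (CfsgLib.Fusion.autFun_coe α x).symm) P
    have e2 := h₁.eq_sys h.isSaturated h.sub (fun Q φ hφ => h.sub_E Q (hE₁E Q hφ)) hle hcovD P
    exact e1.trans e2.symm

end Cfsg.Agent.S5143
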