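import Cfsg.Statements.S5146
import Cfsg.Agent.Lib.Fusion.ComponentExists
import Cfsg.Agent.S5148

set_option autoImplicit false
open Cfsg

namespace Cfsg.Agent.S5146

/-- A saturated fusion system over a finite p-group S is constrained (some subgroup normal in it is centric) if and only if it has no component (no subnormal subsystem that is quasisimple). -/
theorem result {Ω : Type*} [Group Ω] {S : Subgroup Ω} [Finite S] (p : ℕ) [Fact p.Prime] (hS : IsPGroup p S) (F : Cfsg.FusionSystem S) (hF : F.IsSaturated p) : F.IsConstrained p ↔ ¬ ∃ (T : Subgroup Ω) (C : Cfsg.FusionSystem T), C.IsComponentIn F p := by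
  refine ⟨?_, fun h => ?_⟩
  · rintro ⟨-, Q, hQn, hQc⟩ ⟨T, C, hC⟩
    obtain ⟨-, hTC, -⟩ :=
      CfsgLib.Fusion.ComponentCentral.fixes_of_subnormal hC.1 inferInstance hS hC.2 Q hQn
    have hTQ := hTC.trans (hQc.2 Q (CfsgLib.Fusion.isConj_refl hQn.1))
    have hTS : T ≤ S := hTC.trans inf_le_left
    have : Finite T := CfsgLib.Fusion.finite_of_le hTS
    exact Cfsg.Agent.S5148.result p (hS.to_le hTS) C hC.2 ⟨⟨fun a b => Subtype.ext
      (Subgroup.mem_centralizer_iff.1 (hTC b.2).2 a (hTQ a.2))⟩⟩
  · by_contra hn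
    exact h (CfsgLib.Fusion.ComponentExists.exists_component hS hF hn)

end Cfsg.Agent.S5146
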