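import Cfsg.Statements.S5153
import Cfsg.Agent.Lib.Fusion.Saturation
import Cfsg.Agent.Lib.Fusion.Normal
import Cfsg.Prelude.Def_FusionComponents

set_option autoImplicit false
open Cfsg

namespace Cfsg.Agent.S5153

open CfsgLib.Fusion Cfsg.FusionSystem

theorem step {Ω : Type*} [Group Ω] {S U : Subgroup Ω} [Finite S] {p : ℕ} [Fact p.Prime]
    (hS : IsPGroup p S) {F : Cfsg.FusionSystem S} (hF : F.IsSaturated p)
    {D : Cfsg.FusionSystem U} (hD : D.IsSubsystemOf F) (hU : F.StronglyClosed U)
    {P : Subgroup Ω} (hP : F.IsFullyNormalized P) (hPU : P ≤ U) : D.IsFullyNormalized P := by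
  refine ⟨hPU, fun Q hQ => ?_⟩
  obtain ⟨φ, hφ, hr⟩ := hQ
  have hPQ : F.IsConj Q P := isConj_symm ⟨φ, hD P hφ, hr⟩
  obtain ⟨f, hf, -, hN, -⟩ := exists_map_normalizerIn hS
    (isFullyAutomized_of_isFullyNormalized hS hF hP) (isReceptive_of_isFullyNormalized hS hF hP)
    hPQ
  have hle : normalizerIn U Q ≤ normalizerIn S Q := inf_le_inf_right _ hU.1
  have := finite_of_le (S := S) (P := normalizerIn U P) (inf_le_left.trans hU.1)
  exact (hf.mono hle).card_le fun g hg =>
    ⟨isMap_mem_of_stronglyClosed hU hf (hle hg) hg.1, (hN g (hle hg)).2⟩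

theorem le_of_subnormal {Ω : Type*} [Group Ω] {S : Subgroup Ω} {p : ℕ}
    {F : Cfsg.FusionSystem S} {T : Subgroup Ω}
    {E : Cfsg.FusionSystem T} (hE : E.IsSubnormalIn F p) : T ≤ S := by
  induction hE with
  | refl => exact le_rfl
  | step hED hDF ih => exact ih.trans hDF.1.2.2.2.1.1

theorem isFullyNormalized_of_subnormal {Ω : Type*} [Group Ω] {S : Subgroup Ω} {p : ℕ}
    {F : Cfsg.FusionSystem S} {T : Subgroup Ω}
    {E : Cfsg.FusionSystem T} (hE : E.IsSubnormalIn F p) :
    Finite S → Fact p.Prime → IsPGroup p S → F.IsSaturated p → ∀ {P : Subgroup Ω}, F.IsFullyNormalized P →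
      P ≤ T → E.IsFullyNormalized P := by
  induction hE with
  | refl => exact fun _ _ _ _ P hP _ => hP
  | step hED hDF ih =>
    intro hfin hp hS hF P hP hPT
    haveI := hfin
    haveI := hp
    have := finite_of_le hDF.1.2.2.2.1.1
    exact ih this hp (hS.to_le hDF.1.2.2.2.1.1) hDF.1.1
      (step hS hF hDF.1.2.2.1 hDF.1.2.2.2.1 hP (hPT.trans (le_of_subnormal hED))) hPT

/-- Let F be a saturated fusion system over a finite p-group S and E a subnormal subsystem of F over T. Then every subgroup of T that is fully normalized in F is fully normalized in E. -/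
theorem result {Ω : Type*} [Group Ω] {S : Subgroup Ω} [Finite S] (p : ℕ) [Fact p.Prime] (hS : IsPGroup p S) (F : Cfsg.FusionSystem S) (hF : F.IsSaturated p) {T : Subgroup Ω} (E : Cfsg.FusionSystem T) (hE : E.IsSubnormalIn F p) (P : Subgroup Ω) (hPT : P ≤ T) (hP : F.IsFullyNormalized P) : E.IsFullyNormalized P := by
  exact isFullyNormalized_of_subnormal hE inferInstance inferInstance hS hF hP hPT

end Cfsg.Agent.S5153
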