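import Cfsg.Statements.S5154
import Cfsg.Agent.Lib.Fusion.ComponentTransport

set_option autoImplicit false
open Cfsg

namespace Cfsg.Agent.S5154

/-- Let F be a saturated fusion system over a finite p-group S, C a component of F over T, and γ a map of F with source T. Then the image of C under γ — the fusion system over γ(T) whose maps are the homomorphisms induced along γ by the maps of C — is again a component of F. -/
theorem result {Ω : Type*} [Group Ω] {S : Subgroup Ω} [Finite S] (p : ℕ) [Fact p.Prime] (hS : IsPGroup p S) (F : Cfsg.FusionSystem S) (hF : F.IsSaturated p) {T : Subgroup Ω} (C : Cfsg.FusionSystem T) (hC : C.IsComponentIn F p) (γ : T →* Ω) (hγ : γ ∈ F.Hom T) (E : Cfsg.FusionSystem γ.range) (hE : C.IsFactorSystem ⊥ γ E) : E.IsComponentIn F p := by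
  obtain ⟨T', C', k, h1, h2⟩ :=
    CfsgLib.Fusion.exists_subnormal_conj hC.1 inferInstance hS (CfsgLib.Fusion.isMap_homFun hγ)
  have hT := CfsgLib.Fusion.le_of_isSubnormalIn hC.1
  have := CfsgLib.Fusion.finite_of_le hT
  have hq := h2.quasisimple (hS.to_le hT) hC.2
  obtain ⟨k', hk'⟩ := CfsgLib.Fusion.exists_transport_of_factor_bot hE
  obtain ⟨hTT, hHom⟩ := hk'.hom_eq (h2.congr (j' := CfsgLib.Fusion.homExt γ) (k' := k)
    (fun x hx => by rw [CfsgLib.Fusion.homExt_apply γ hx, CfsgLib.Fusion.homFun_apply γ hx])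
    (fun _ _ => rfl))
  subst hTT
  obtain rfl : E = C' := by
    cases E; cases C'; congr 1; funext P; exact hHom P
  exact ⟨h1, hq⟩
end Cfsg.Agent.S5154
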