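import Cfsg.Statements.S5162
import Cfsg.Agent.S5148
import Cfsg.Agent.Lib.Fusion.CentralFactor
import Cfsg.Agent.Lib.Fusion.ComponentStructure
-- import your own Cfsg.Agent.* helpers here

set_option autoImplicit false
open Cfsg

namespace Cfsg.Agent.S5162

/-- Let F be a saturated fusion system over a finite p-group S that is a central product of two saturated subsystems F₁ (over S₁) and F₂ (over S₂) inside S. Then every component of F is a component of F₁ or a component of F₂. -/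
theorem result {Ω : Type*} [Group Ω] {S : Subgroup Ω} [Finite S] (p : ℕ) [Fact p.Prime] (hS : IsPGroup p S) (F : Cfsg.FusionSystem S) (hF : F.IsSaturated p) {S₁ S₂ : Subgroup Ω} (F₁ : Cfsg.FusionSystem S₁) (F₂ : Cfsg.FusionSystem S₂) (h₁ : F₁.IsSaturated p) (h₂ : F₂.IsSaturated p) (h₁F : F₁.IsSubsystemOf F) (h₂F : F₂.IsSubsystemOf F) (hc : Cfsg.FusionSystem.IsCentralProductOf F₁ F₂ F) {T : Subgroup Ω} (C : Cfsg.FusionSystem T) (hC : C.IsComponentIn F p) : C.IsComponentIn F₁ p ∨ C.IsComponentIn F₂ p := by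
  have hs := CfsgLib.Fusion.CentralFactor.exists_split hc
  have n₁ := CfsgLib.Fusion.CentralFactor.isNormalIn₁ hs hF h₁ h₁F
  have n₂ := CfsgLib.Fusion.CentralFactor.isNormalIn₂ hs hF h₂ h₂F
  obtain ⟨TK, K, hK⟩ := CfsgLib.Fusion.CompStructure.exists_least hS hF hC
  have hnil := CfsgLib.Fusion.CompStructure.normalInLeast _ S inferInstance rfl hS F hF
  rcases CfsgLib.Fusion.CompStructure.le_or_le_centE hS hF hnil hC hK n₁ with h | hy₁
  · exact Or.inl (CfsgLib.Fusion.CompStructure.component_of_normal hS hC n₁ h)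
  rcases CfsgLib.Fusion.CompStructure.le_or_le_centE hS hF hnil hC hK n₂ with h | hy₂
  · exact Or.inr (CfsgLib.Fusion.CompStructure.component_of_normal hS hC n₂ h)
  exfalso
  have hTS : T ≤ S := CfsgLib.Fusion.le_of_isSubnormalIn hC.1
  have := CfsgLib.Fusion.finite_of_le hTS
  refine Cfsg.Agent.S5148.result p (hS.to_le hTS) C hC.2 ⟨⟨fun a b => Subtype.ext ?_⟩⟩
  obtain ⟨u, hu, v, hv, e⟩ := hs.mul b (hTS b.2)
  have h1 := Subgroup.mem_centralizer_iff.1
    (CfsgLib.Fusion.NormalCentralizer.centE_le _ (hy₁ hu)).2 a (hK.le a.2)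
  have h2 := Subgroup.mem_centralizer_iff.1
    (CfsgLib.Fusion.NormalCentralizer.centE_le _ (hy₂ hv)).2 a (hK.le a.2)
  show (a : Ω) * b = b * a
  rw [← e, ← mul_assoc, h1, mul_assoc, h2, mul_assoc]

end Cfsg.Agent.S5162
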