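import Cfsg.Statements.S5163
import Cfsg.Agent.Lib.Fusion.SimpleModel
import Cfsg.Agent.Lib.Classical.Unitriangular

set_option autoImplicit false
open Cfsg

namespace Cfsg.Agent.S5163

open Matrix CfsgLib.Classical CfsgLib.Classical.Unitri

section

variable {K : Type*} [Field K] [Fintype K] {p : ℕ} [Fact p.Prime] [CharP K p] {n : ℕ}

include p

set_option linter.unusedSectionVars false

local notation "SLn" => Matrix.SpecialLinearGroup (Fin n) K
local notation "PSLn" => Matrix.ProjectiveSpecialLinearGroup (Fin n) K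
local notation "pr" => QuotientGroup.mk' (Subgroup.center (Matrix.SpecialLinearGroup (Fin n) K))

theorem card_U_eq_pow : ∃ m : ℕ, Nat.card (U n K) = p ^ m := by
  obtain ⟨f, -, hf⟩ := FiniteField.card K p
  exact ⟨f * (n * (n - 1) / 2), by rw [card_U, Nat.card_eq_fintype_card, hf, ← pow_mul]⟩

theorem isPGroup_U : IsPGroup p (U n K) := by
  obtain ⟨m, hm⟩ := card_U_eq_pow (K := K) (p := p) (n := n)
  exact IsPGroup.of_card hm

/-- A central element which is a `p`-element is trivial. -/
theorem central_eq_one {z : SLn} (hz : z ∈ Subgroup.center SLn) {k : ℕ} (hk : z ^ p ^ k = 1) :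
    z = 1 := by
  obtain ⟨r, -, hr⟩ := Matrix.SpecialLinearGroup.mem_center_iff.1 hz
  rcases isEmpty_or_nonempty (Fin n) with h | ⟨⟨i⟩⟩
  · exact Subsingleton.elim _ _
  have h1 : (scalar (Fin n) r) ^ p ^ k = 1 := by
    rw [hr, ← Matrix.SpecialLinearGroup.coe_pow, hk, Matrix.SpecialLinearGroup.coe_one]
  rw [← map_pow] at h1
  have h2 : r ^ p ^ k = 1 := by simpa using congr_fun₂ h1 i i
  have h3 : r = 1 := by
    rw [← pow_one r, ← ExpChar.pow_prime_pow_mul_eq_one_iff p k 1, mul_one]
    exact h2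
  refine Subtype.ext ?_
  rw [← hr, h3, map_one, Matrix.SpecialLinearGroup.coe_one]

theorem mem_center_of_mk_eq {x y : SLn} (h : pr x = pr y) : x * y⁻¹ ∈ Subgroup.center SLn := by
  have h1 : pr (x * y⁻¹) = 1 := by rw [map_mul, map_inv, h, mul_inv_cancel]
  exact (QuotientGroup.eq_one_iff _).1 h1

/-- A `p`-element over `π U` lies in `U`. -/
theorem mem_U_of_mk {x : SLn} (hx : pr x ∈ (U n K).map pr) {k : ℕ} (hk : x ^ p ^ k = 1) :
    x ∈ U n K := by
  obtain ⟨u, hu, hxu⟩ := hx
  have hz := mem_center_of_mk_eq hxu.symm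
  obtain ⟨l, hl⟩ := isPGroup_U (K := K) (p := p) (n := n) ⟨u, hu⟩
  have hl' : u ^ p ^ l = 1 := congrArg Subtype.val hl
  have hcomm : Commute (x * u⁻¹) u :=
    (show Commute u (x * u⁻¹) from Subgroup.mem_center_iff.1 hz u).symm
  have hxk : x ^ p ^ (k + l) = 1 := by rw [pow_add, pow_mul, hk, one_pow]
  have h1 : (x * u⁻¹) ^ p ^ (k + l) = 1 := by
    rw [show x = x * u⁻¹ * u by group, hcomm.mul_pow, pow_add p k l, mul_comm (p ^ k), pow_mul u,
      hl', one_pow, mul_one, mul_comm, ← pow_add p k l] at hxk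
    exact hxk
  rw [show x = x * u⁻¹ * u by group, central_eq_one hz h1, one_mul]
  exact hu

theorem pr_injOn_U {x y : SLn} (hx : x ∈ U n K) (hy : y ∈ U n K) (h : pr x = pr y) : x = y := by
  obtain ⟨l, hl⟩ := isPGroup_U (K := K) (p := p) (n := n) ⟨_, mul_mem hx (inv_mem hy)⟩
  exact mul_inv_eq_one.1 (central_eq_one (mem_center_of_mk_eq h) (congrArg Subtype.val hl))

/-- `π U` is a Sylow subgroup. -/
theorem card_map_U (hn : 1 ≤ n) :
    Nat.card ((U n K).map pr) = p ^ (Nat.card PSLn).factorization p := by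
  classical
  have hp : p.Prime := Fact.out
  have : Nonempty (Fin n) := Fin.pos_iff_nonempty.mp hn
  obtain ⟨f, -, hf⟩ := FiniteField.card K p
  have h1 : Nat.card ((U n K).map pr) = Nat.card (U n K) := by
    refine (Nat.card_congr (Equiv.ofBijective (fun x : U n K =>
      (⟨pr x, ⟨x, x.2, rfl⟩⟩ : (U n K).map pr)) ⟨fun x y h => ?_, ?_⟩)).symm
    · exact Subtype.ext (pr_injOn_U (p := p) x.2 y.2 (congrArg Subtype.val h))
    · rintro ⟨_, x, hx, rfl⟩
      exact ⟨⟨x, hx⟩, rfl⟩
  obtain ⟨P⟩ : Nonempty (Sylow p (GL (Fin n) K)) := inferInstance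
  have h2 := card_sylow_GL p n P
  rw [P.card_eq_multiplicity, card_GL_eq_mul_card_SL, card_SL_eq_gcd_mul_card_PSL] at h2
  have hq1 : 1 < Nat.card K := Finite.one_lt_card
  have hu0 : ¬ p ∣ Nat.card K - 1 := by
    intro hd
    have hpq : p ∣ Nat.card K := by
      rw [Nat.card_eq_fintype_card, hf]
      exact dvd_pow_self p f.pos.ne'
    have h4 := Nat.dvd_sub hpq hd
    rw [Nat.sub_sub_self hq1.le] at h4
    exact hp.not_dvd_one h4
  have hg0 : ¬ p ∣ Nat.gcd (Fintype.card (Fin n)) (Nat.card K - 1) :=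
    fun hd => hu0 (hd.trans (Nat.gcd_dvd_right _ _))
  rw [Nat.card_units, Nat.factorization_mul (by omega) (mul_ne_zero
      (Nat.gcd_pos_of_pos_right _ (by omega)).ne' Nat.card_pos.ne'),
    Nat.factorization_mul (Nat.gcd_pos_of_pos_right _ (by omega)).ne' Nat.card_pos.ne',
    Finsupp.add_apply, Finsupp.add_apply, Nat.factorization_eq_zero_of_not_dvd hu0,
    Nat.factorization_eq_zero_of_not_dvd hg0, zero_add, zero_add] at h2
  rw [h1, card_U, Nat.card_eq_fintype_card, h2]

theorem orderOf_pr_transvection {i j : Fin n} (hij : i ≠ j) (c : K) :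
    ∃ k : ℕ, orderOf (pr (Matrix.SpecialLinearGroup.transvection hij c)) = p ^ k := by
  have hpow : ∀ m : ℕ, (Matrix.SpecialLinearGroup.transvection hij c : SLn) ^ m =
      Matrix.SpecialLinearGroup.transvection hij ((m : K) * c) := by
    intro m
    induction m with
    | zero => simp
    | succ m ih =>
      rw [pow_succ, ih, ← Matrix.SpecialLinearGroup.transvection_add]
      congr 1
      push_cast
      ring
  have h1 : pr (Matrix.SpecialLinearGroup.transvection hij c) ^ p = 1 := by
    rw [← map_pow, hpow, CharP.cast_eq_zero, zero_mul,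
      Matrix.SpecialLinearGroup.transvection_coeff_zero, map_one]
  obtain ⟨k, -, hk⟩ := (Nat.dvd_prime_pow Fact.out).1
    (show orderOf (pr (Matrix.SpecialLinearGroup.transvection hij c)) ∣ p ^ 1 by
      rw [pow_one]; exact orderOf_dvd_of_pow_eq_one h1)
  exact ⟨k, hk⟩

/-- Commutation with `π R` forces membership of `π R`. -/
theorem mem_R_of_centralize (hn : 3 ≤ n) {a b : Fin n} (hab : (b : ℕ) = a + 1) {A : SLn}
    (hA : ∀ u ∈ R a b hab, pr A * pr u = pr u * pr A) :
    pr A ∈ (R (K := K) a b hab).map pr := by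
  have hcomm : ∀ (i j : Fin n) (hij : i < j), (i, j) ≠ (a, b) →
      A * Matrix.SpecialLinearGroup.transvection hij.ne 1 =
        Matrix.SpecialLinearGroup.transvection hij.ne 1 * A := by
    intro i j hij hne
    set t : SLn := Matrix.SpecialLinearGroup.transvection hij.ne 1 with ht
    have htU : t ∈ U n K := transvection_mem_U hij 1
    have htR : t ∈ R a b hab := by
      refine ⟨htU, ?_⟩
      rw [ht, Matrix.SpecialLinearGroup.transvection_coe, Matrix.add_apply, one_apply_ne
        (Fin.ne_of_lt (Fin.lt_def.2 (by omega))), single_apply_of_ne _ _ _ _ _ (fun h => hne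
          (Prod.ext h.1 h.2)), add_zero]
    have h := hA t htR
    rw [← map_mul, ← map_mul] at h
    have hz := mem_center_of_mk_eq h
    have hconj : pr (A * t * A⁻¹) = pr t := by
      rw [map_mul, map_inv, map_mul, ← map_mul, h, map_mul]; group
    obtain ⟨l, hl⟩ := isPGroup_U (K := K) (p := p) (n := n) ⟨t, htU⟩
    have hmem : A * t * A⁻¹ ∈ U n K := mem_U_of_mk (p := p) (k := l)
      (hconj ▸ Subgroup.mem_map_of_mem pr htU) (by
        rw [conj_pow, show t ^ p ^ l = 1 from congrArg Subtype.val hl]; simp)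
    exact mul_inv_eq_iff_eq_mul.1 (pr_injOn_U (p := p) hmem htU hconj)
  have hpair : ∀ (i j : Fin n), i < j → (i, j) ≠ (a, b) → (∀ k, k ≠ i → A.val k i = 0) ∧
      (∀ l, l ≠ j → A.val j l = 0) ∧ A.val i i = A.val j j :=
    fun i j hij hne => entries_of_commute hij.ne (hcomm i j hij hne)
  set i0 : Fin n := ⟨0, by omega⟩
  set i1 : Fin n := ⟨1, by omega⟩
  set il : Fin n := ⟨n - 1, by omega⟩
  have ha : (a : ℕ) + 1 < n := hab ▸ b.2
  have hoff : ∀ k l : Fin n, k ≠ l → (l ≤ k ∨ (k = a ∧ l = b)) → A.val k l = 0 := by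
    intro k l hkl hor
    by_cases hl : (l : ℕ) < n - 1
    · by_cases hla : l = a ∧ (b : ℕ) = n - 1
      · -- use the row `k`
        rcases hor with h | ⟨rfl, rfl⟩
        · have hk : (k : ℕ) = n - 1 := by
            have := Fin.le_def.1 h
            have := Fin.val_ne_of_ne hkl
            have := k.2
            have : (l : ℕ) = a := congrArg Fin.val hla.1
            omega
          refine (hpair i0 k (Fin.lt_def.2 (by simp [i0]; omega)) ?_).2.1 l (Ne.symm hkl)
          intro he
          have := congrArg Fin.val (Prod.ext_iff.1 he).1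
          simp [i0] at this
          omega
        · exact absurd hla.1.symm hkl
      · by_cases hl' : l = a
        · refine (hpair l il (Fin.lt_def.2 hl) ?_).1 k hkl
          intro he
          exact hla ⟨hl', (congrArg Fin.val (Prod.ext_iff.1 he).2).symm⟩
        · exact (hpair l il (Fin.lt_def.2 hl) fun he => hl' (Prod.ext_iff.1 he).1).1 k hkl
    · rcases hor with h | ⟨rfl, rfl⟩
      · exfalso
        have := Fin.le_def.1 h
        have := Fin.val_ne_of_ne hkl
        have := k.2
        omega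
      · refine (hpair i0 k (Fin.lt_def.2 (by simp [i0]; omega)) ?_).2.1 l (Ne.symm hkl)
        exact fun he => hkl (Prod.ext_iff.1 he).2
  have hdiag : ∀ k, A.val k k = A.val i0 i0 := by
    intro k
    rcases eq_or_ne k i0 with rfl | hk
    · rfl
    have hk0 : i0 < k := Fin.lt_def.2 (by
      have := Fin.val_ne_of_ne hk; simp [i0] at this ⊢; omega)
    by_cases hne : (i0, k) ≠ (a, b)
    · exact (hpair i0 k hk0 hne).2.2.symm
    · push Not at hne
      obtain ⟨e1, e2⟩ := Prod.ext_iff.1 hne
      simp only at e1 e2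
      have hk1 : (k : ℕ) = 1 := by
        have : (a : ℕ) = 0 := (congrArg Fin.val e1).symm
        have : (k : ℕ) = b := congrArg Fin.val e2
        omega
      have hk2 : k < il := Fin.lt_def.2 (by simp [il]; omega)
      rw [(hpair k il hk2 fun he => hk ((Prod.ext_iff.1 he).1.trans e1.symm)).2.2]
      refine ((hpair i0 il (lt_trans hk0 hk2) fun he => ?_).2.2).symm
      exact hk2.ne (e2.trans (Prod.ext_iff.1 he).2.symm)
  set r := A.val i0 i0 with hr
  have hut : BlockTriangular A.val id := fun i j hij => hoff i j hij.ne' (Or.inl hij.le)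
  have hrn : r ^ n = 1 := by
    have hd := A.2
    rw [det_of_isUpperTriangular hut] at hd
    simpa [hdiag] using hd
  have hr0 : r ≠ 0 := fun h => by simp [h, show n ≠ 0 by omega] at hrn
  have hdet : (scalar (Fin n) r).det = 1 := by simp [hrn]
  obtain ⟨z, hz⟩ : ∃ z : SLn, z.val = scalar (Fin n) r := ⟨⟨_, hdet⟩, rfl⟩
  have hzc : z ∈ Subgroup.center SLn :=
    Matrix.SpecialLinearGroup.mem_center_iff.2 ⟨r, by simpa using hrn, hz.symm⟩
  have hAz : ∀ i j, (z⁻¹ * A).val i j * r = A.val i j := by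
    intro i j
    have h : z.val * (z⁻¹ * A).val = A.val := by
      rw [← Matrix.SpecialLinearGroup.coe_mul, mul_inv_cancel_left]
    rw [← h, hz, scalar_apply, diagonal_mul, mul_comm]
  refine ⟨z⁻¹ * A, ⟨fun i j hji => mul_right_cancel₀ hr0 ?_, mul_right_cancel₀ hr0 ?_⟩, ?_⟩
  · rw [hAz]
    by_cases h : i = j
    · subst h; rw [if_pos rfl, one_mul, hdiag]
    · rw [if_neg h, zero_mul, hoff i j h (Or.inl hji)]
  · rw [hAz, zero_mul, hoff a b (Fin.ne_of_lt (Fin.lt_def.2 (by omega))) (Or.inr ⟨rfl, rfl⟩)]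
  · rw [map_mul, map_inv, show pr z = 1 from (QuotientGroup.eq_one_iff _).2 hzc, inv_one, one_mul]

/-- The central element of `π U` is the image of a highest root element. -/
theorem exists_highest {T : Subgroup PSLn} (hn : 3 ≤ n) (hT : T ≤ (U n K).map pr)
    (hnorm : ∀ x ∈ T, ∀ y ∈ (U n K).map pr, y * x * y⁻¹ ∈ T) (hne : T ≠ ⊥) :
    ∃ (i j : Fin n) (hij : i ≠ j) (c : K), c ≠ 0 ∧
      pr (Matrix.SpecialLinearGroup.transvection hij c) ∈ T := by
  classical
  set V := (U n K).map pr
  have hV : IsPGroup p V := (isPGroup_U (K := K) (p := p) (n := n)).map _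
  have : (T.subgroupOf V).Normal := ⟨fun x hx y => hnorm _ hx _ y.2⟩
  have hnt : T.subgroupOf V ≠ ⊥ := by
    rw [ne_eq, Subgroup.subgroupOf_eq_bot, disjoint_iff, inf_eq_left.2 hT]
    exact hne
  have hdvd : p ∣ Nat.card (T.subgroupOf V) := by
    have : Nontrivial (T.subgroupOf V) := (Subgroup.nontrivial_iff_ne_bot _).2 hnt
    obtain ⟨m, hm0, hm⟩ := (hV.to_subgroup (T.subgroupOf V)).nontrivial_iff_card.1 inferInstance
    exact hm ▸ dvd_pow_self p hm0.ne'
  obtain ⟨⟨⟨x, hxV⟩, hxT⟩, hfix, hx1⟩ :=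
    (hV.of_equiv ConjAct.toConjAct).exists_fixed_point_of_prime_dvd_card_of_fixed_point
      (T.subgroupOf V) hdvd (a := 1) (fun g => smul_one g)
  obtain ⟨u, hu, rfl⟩ := hxV
  have hu' : IsUnitri u.val := hu
  have hcomm : ∀ (i j : Fin n) (hij : i < j), u * Matrix.SpecialLinearGroup.transvection hij.ne 1
      = Matrix.SpecialLinearGroup.transvection hij.ne 1 * u := by
    intro i j hij
    set t : SLn := Matrix.SpecialLinearGroup.transvection hij.ne 1
    have htU : t ∈ U n K := transvection_mem_U hij 1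
    have h := congrArg (fun z : T.subgroupOf V => ((z : V) : PSLn))
      (hfix (ConjAct.toConjAct ⟨pr t, t, htU, rfl⟩))
    have h' : pr (t * u * t⁻¹) = pr u := by
      rw [map_mul, map_inv, map_mul]
      exact h
    exact (mul_inv_eq_iff_eq_mul.1
      (pr_injOn_U (p := p) (mul_mem (mul_mem htU hu) (inv_mem htU)) hu h')).symm
  set i0 : Fin n := ⟨0, by omega⟩
  set il : Fin n := ⟨n - 1, by omega⟩
  have h0l : i0 ≠ il := Fin.ne_of_lt (Fin.lt_def.2 (by simp [i0, il]; omega))
  have hzero : ∀ k l : Fin n, k < l → ¬ (k = i0 ∧ l = il) → u.val k l = 0 := by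
    intro k l hkl hne'
    by_cases hl : (l : ℕ) < n - 1
    · exact (entries_of_commute (Fin.ne_of_lt (Fin.lt_def.2 hl : l < il))
        (hcomm l il (Fin.lt_def.2 hl))).1 k hkl.ne
    · have hk : i0 < k := Fin.lt_def.2 (by
        rcases Nat.eq_zero_or_pos (k : ℕ) with h | h
        · exact absurd ⟨Fin.ext h, Fin.ext (by have := l.2; simp [il]; omega)⟩ hne'
        · exact h)
      exact (entries_of_commute hk.ne (hcomm i0 k hk)).2.1 l hkl.ne'
  have hval : u = Matrix.SpecialLinearGroup.transvection h0l (u.val i0 il) := by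
    apply Subtype.ext
    ext k l
    rw [Matrix.SpecialLinearGroup.transvection_coe, Matrix.add_apply, one_apply, single_apply]
    rcases le_or_gt l k with h | h
    · rw [hu' k l h, if_neg (fun h' : i0 = k ∧ il = l => ?_), add_zero]
      obtain ⟨rfl, rfl⟩ := h'
      exact h0l (le_antisymm (Fin.le_def.2 (Nat.zero_le _)) h)
    · rw [if_neg h.ne, zero_add]
      split_ifs with h'
      · obtain ⟨rfl, rfl⟩ := h'; rfl
      · exact hzero k l h fun h'' => h' ⟨h''.1.symm, h''.2.symm⟩
  refine ⟨i0, il, h0l, u.val i0 il, fun hc => hx1 ?_, ?_⟩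
  · refine Subtype.ext (Subtype.ext ?_)
    show (1 : PSLn) = pr u
    rw [hval, hc, Matrix.SpecialLinearGroup.transvection_coeff_zero, map_one]
  · rw [← hval]; exact hxT

theorem eq_of_closed (hn : 3 ≤ n) {T : Subgroup PSLn} (hT : T ≤ (U n K).map pr)
    (hsc : ∀ g : PSLn, ∀ x ∈ T, g * x * g⁻¹ ∈ (U n K).map pr → g * x * g⁻¹ ∈ T) :
    T = ⊥ ∨ T = (U n K).map pr := by
  refine or_iff_not_imp_left.2 fun hne => le_antisymm hT ?_
  obtain ⟨a, b, hab, c, hc, hcT⟩ := exists_highest (p := p) hn hT
    (fun x hx y hy => hsc y x hx (mul_mem (mul_mem hy (hT hx)) (inv_mem hy))) hne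
  rintro _ ⟨A, hA, rfl⟩
  refine (Subgroup.closure_le (T.comap pr)).2 ?_ (mem_closure_transvection hA)
  rintro _ ⟨i, j, hij, d, rfl⟩
  by_cases hd : d = 0
  · subst hd
    rw [Matrix.SpecialLinearGroup.transvection_coeff_zero]
    exact one_mem _
  obtain ⟨g, hg⟩ := exists_conj_transvection hn hab hij.ne hc hd
  have h : pr (Matrix.SpecialLinearGroup.transvection hij.ne d) =
      pr g * pr (Matrix.SpecialLinearGroup.transvection hab c) * (pr g)⁻¹ := by
    rw [← map_inv, ← map_mul, ← map_mul, hg]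
  show pr (Matrix.SpecialLinearGroup.transvection hij.ne d) ∈ T
  rw [h]
  exact hsc _ _ hcT (h ▸ Subgroup.mem_map_of_mem pr (transvection_mem_U hij d))

theorem normalizer_le_gen (hn : 3 ≤ n) :
    Subgroup.normalizer (((U n K).map pr : Subgroup PSLn) : Set PSLn) ≤
      Subgroup.closure (CfsgLib.Fusion.genSet p ((U n K).map pr)) := by
  classical
  set V := (U n K).map pr with hV
  set W := Subgroup.closure (CfsgLib.Fusion.genSet p V)
  have hcent : ∀ (a b : Fin n) (hab : (b : ℕ) = a + 1),
      Subgroup.centralizer (((R (K := K) a b hab).map pr : Subgroup PSLn) : Set PSLn) ≤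
        (R (K := K) a b hab).map pr := by
    intro a b hab g hg
    obtain ⟨A, rfl⟩ := QuotientGroup.mk'_surjective _ g
    exact mem_R_of_centralize (p := p) hn hab fun u hu =>
      (Subgroup.mem_centralizer_iff.1 hg _ (Subgroup.mem_map_of_mem pr hu)).symm
  have hmapnorm : ∀ {H : Subgroup SLn} {x : SLn}, x ∈ Subgroup.normalizer (H : Set SLn) →
      pr x ∈ Subgroup.normalizer ((H.map pr : Subgroup PSLn) : Set PSLn) :=
    fun {H x} hx => Subgroup.le_normalizer_map _ (Subgroup.mem_map_of_mem pr hx)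
  have hUW : ∀ u ∈ U n K, pr u ∈ W := by
    intro u hu
    set a : Fin n := ⟨0, by omega⟩
    set b : Fin n := ⟨1, by omega⟩
    refine Subgroup.subset_closure ⟨Subgroup.le_normalizer (Subgroup.mem_map_of_mem pr hu),
      (R a b rfl).map pr, Subgroup.map_mono R_le_U, ?_, hcent a b rfl,
      Subgroup.subset_closure ⟨hmapnorm (U_le_normalizer_R hu), ?_⟩⟩
    · rintro _ ⟨x, hx, rfl⟩
      exact hmapnorm (U_le_normalizer_R hx)
    · obtain ⟨m, hm⟩ := IsPGroup.iff_orderOf.1 ((isPGroup_U (K := K) (p := p) (n := n)).map pr)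
        ⟨pr u, Subgroup.mem_map_of_mem pr hu⟩
      exact ⟨m, (Subgroup.orderOf_mk _ _).symm.trans hm⟩
  have hhW : ∀ (a b : Fin n) (_ : (b : ℕ) = a + 1) (hne : a ≠ b) (x : K) (hx : x ≠ 0),
      pr (Matrix.SpecialLinearGroup.diag2n hne x hx) ∈ W := by
    intro a b hab hne x hx
    refine Subgroup.subset_closure ⟨hmapnorm (mem_normalizer_U ?_), (R a b hab).map pr,
      Subgroup.map_mono R_le_U, ?_, hcent a b hab, ?_⟩
    · intro i j hij
      rw [Matrix.SpecialLinearGroup.diag2n_coe, diagonal_apply_ne _ hij.ne']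
    · rintro _ ⟨y, hy, rfl⟩
      exact hmapnorm (U_le_normalizer_R hy)
    · have ht : ∀ c : K, pr (Matrix.SpecialLinearGroup.transvection hne c) ∈ Subgroup.closure
          {x | x ∈ Subgroup.normalizer (((R a b hab).map pr : Subgroup PSLn) : Set PSLn) ∧
            ∃ k : ℕ, orderOf x = p ^ k} := fun c =>
        Subgroup.subset_closure ⟨hmapnorm (U_le_normalizer_R (transvection_mem_U
          (Fin.lt_def.2 (by omega)) c)), orderOf_pr_transvection hne c⟩
      have ht' : ∀ c : K, pr (Matrix.SpecialLinearGroup.transvection hne.symm c) ∈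
          Subgroup.closure
          {x | x ∈ Subgroup.normalizer (((R a b hab).map pr : Subgroup PSLn) : Set PSLn) ∧
            ∃ k : ℕ, orderOf x = p ^ k} := fun c =>
        Subgroup.subset_closure ⟨hmapnorm (lower_transvection_mem_normalizer_R hne.symm c),
          orderOf_pr_transvection hne.symm c⟩
      rw [diag2n_decompose hne hx]
      simp only [map_mul]
      exact mul_mem (mul_mem (mul_mem (mul_mem (mul_mem (ht _) (ht' _)) (ht _)) (ht _)) (ht' _))
        (ht _)
  intro g hg
  obtain ⟨A, rfl⟩ := QuotientGroup.mk'_surjective _ g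
  have hAn : ∀ B ∈ U n K, A⁻¹ * B * A ∈ U n K := by
    intro B hB
    obtain ⟨l, hl⟩ := isPGroup_U (K := K) (p := p) (n := n) ⟨B, hB⟩
    refine mem_U_of_mk (p := p) ?_ (k := l) ?_
    · rw [map_mul, map_mul, map_inv]
      exact (Subgroup.mem_normalizer_iff''.1 hg _).1 (Subgroup.mem_map_of_mem pr hB)
    · have := conj_pow (a := A⁻¹) (b := B) (i := p ^ l)
      rw [inv_inv] at this
      rw [this, show B ^ p ^ l = 1 from congrArg Subtype.val hl]
      simp
  have hut : BlockTriangular A.val id := fun i j hij => below_of_normalize hAn hij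
  have hdetD : (diagonal fun i => A.val i i).det = 1 := by
    rw [det_diagonal, ← det_of_isUpperTriangular hut]
    exact A.2
  obtain ⟨D, hD⟩ : ∃ D : SLn, D.val = diagonal fun i => A.val i i := ⟨⟨_, hdetD⟩, rfl⟩
  have hd0 : ∀ i, A.val i i ≠ 0 := fun i h0 => by
    have hd := A.2
    rw [det_of_isUpperTriangular hut] at hd
    exact zero_ne_one ((Finset.prod_eq_zero (f := fun i => A.val i i) (Finset.mem_univ i) h0).symm.trans hd)
  have hu : D⁻¹ * A ∈ U n K := by
    intro i j hji
    have h : D.val * (D⁻¹ * A).val = A.val := by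
      rw [← Matrix.SpecialLinearGroup.coe_mul, mul_inv_cancel_left]
    rw [hD] at h
    have h' := congr_fun₂ h i j
    rw [diagonal_mul] at h'
    by_cases hij : i = j
    · subst hij
      rw [if_pos rfl]
      exact mul_left_cancel₀ (hd0 i) (h'.trans (mul_one _).symm)
    · rw [if_neg hij]
      exact mul_left_cancel₀ (hd0 i)
        (h'.trans ((hut (lt_of_le_of_ne hji (Ne.symm hij))).trans (mul_zero _).symm))
  rw [show A = D * (D⁻¹ * A) by group, map_mul]
  refine mul_mem ?_ (hUW _ hu)
  refine (Subgroup.closure_le (W.comap pr)).2 ?_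
    (diagonal_mem_closure (A := D) fun i j hij => by rw [hD, diagonal_apply_ne _ hij])
  rintro _ ⟨a, b, hab, hne, x, hx, rfl⟩
  exact hhW a b hab hne x hx

end

/-- For a finite field K of characteristic p and n ≥ 3, the p-fusion system of the projective special linear group PSL_n(K) on a Sylow p-subgroup is simple. -/
theorem result {K : Type*} [Field K] [Fintype K] (p : ℕ) [Fact p.Prime] [CharP K p] (n : ℕ) (hn : 3 ≤ n) (S : Sylow p (Matrix.ProjectiveSpecialLinearGroup (Fin n) K)) : (Cfsg.groupFusionSystem (S : Subgroup (Matrix.ProjectiveSpecialLinearGroup (Fin n) K))).IsSimple p := by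
  classical
  refine CfsgLib.Fusion.isSimple_group_of_model
    (Sylow.ofCard ((U n K).map (QuotientGroup.mk' _)) (card_map_U (p := p) (by omega))) ?_ ?_ ?_ S
  · rw [Sylow.coe_ofCard]
    intro hbot
    have h01 : (⟨0, by omega⟩ : Fin n) < ⟨1, by omega⟩ := Fin.lt_def.2 Nat.zero_lt_one
    have h1 := Subgroup.mem_map_of_mem
      (QuotientGroup.mk' (Subgroup.center (Matrix.SpecialLinearGroup (Fin n) K)))
      (transvection_mem_U (K := K) h01 1)
    rw [hbot, Subgroup.mem_bot, QuotientGroup.mk'_apply, QuotientGroup.eq_one_iff,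
      Matrix.SpecialLinearGroup.transvection_mem_center_iff] at h1
    exact one_ne_zero h1
  · simp only [Sylow.coe_ofCard]
    exact fun T hT hsc => eq_of_closed (p := p) hn hT hsc
  · simp only [Sylow.coe_ofCard]
    exact (normalizer_le_gen (p := p) hn).trans le_sup_right

end Cfsg.Agent.S5163
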