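import Cfsg.Statements.S5166
import Cfsg.Agent.Lib.Golay.SylowTwoSimple
import Cfsg.Agent.Lib.Golay.MathieuFacts

set_option autoImplicit false
open Cfsg

namespace Cfsg.Agent.S5166

open CfsgLib.Golay CfsgLib.Golay.SylowTwo
open scoped Pointwise

/-- membership test -/
def inG (P : ℕ) : Bool := inM24 P && mimg P 340831 == 340831 && fixes P 1

theorem squareDodecad_eq : Cfsg.Spor.squareDodecad = dec 340831 := by
  rw [Cfsg.Spor.squareDodecad, qrWord_eq, support_wd]
  rfl

theorem dod_mem : dec 340831 ∈ dodecads :=
  ⟨⟨wd 340831, wd_mem_of_inC (by decide +kernel), support_wd _⟩, by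
    rw [card_dec_eq_pop]; decide +kernel⟩

theorem hin : ∀ P, inG P = true → validP P = true ∧ toPerm P ∈ Cfsg.Spor.M11 := fun P h => by
  simp only [inG, Bool.and_eq_true, beq_iff_eq] at h
  have hv : validP P = true := by
    have := h.1.1
    simp only [inM24, Bool.and_eq_true] at this
    exact this.1
  refine ⟨hv, Subgroup.mem_inf.2 ⟨Subgroup.mem_inf.2 ⟨toPerm_mem_M24 h.1.1,
    MulAction.mem_stabilizer_iff.2 ?_⟩, MulAction.mem_stabilizer_iff.2 ?_⟩⟩
  · rw [squareDodecad_eq, smul_dec hv, h.1.2]
  · exact fixes_apply hv h.2 (p := some 0) (by rw [mem_dec]; decide +kernel)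

theorem hcard : Nat.card Cfsg.Spor.M11 = 2 ^ 4 * 495 := by
  rw [← Nat.card_congr (conjEquiv (K := Cfsg.Spor.M11) (inf_le_left.trans inf_le_left)
    (MulAction.stabilizer M24 (dec 340831) ⊓ MulAction.stabilizer M24 (pt 0)) (one_mem M24)
    fun x => by
      simp only [inv_one, one_mul, mul_one, Subgroup.mem_inf,
        Cfsg.Spor.M11, Cfsg.Spor.M12, MulAction.mem_stabilizer_iff, SetLike.coe_mem, true_and,
        squareDodecad_eq]
      rfl).toEquiv,
    natCard_stab_dodecad_point dod_mem (by rw [mem_dec]; decide +kernel)]
  norm_num

/-- the certificate of M11 -/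
def data : Data where
  gens := [601236145209665300232929231393850496,
    596043658946495465993041807195293824,
    895334608779700298620013638818271648,
    965342965745788789474711026298660352]
  cs := [(2, [7, 2, 1]),
    (1, [3, 1]),
    (1, [1]),
    (0, [])]
  d := 2
  z := 965342965745788789474711026298660352
  steps := [.conj 0 235588569179684169962995928201074784 899228651922494682346309486665402784,
    .conj 0 978366795291128493989228805065544064 984814124769027251138997644368843264,
    .mul 1 2,
    .conj 3 221550289410297402012191048719174720 596043658946495465993041807195293824,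
    .mul 0 1,
    .mul 5 4,
    .mul 0 3]
  sqs := [[596031854299582476872989387899977824],
    [596043658946495465993041807195293824]]
  classes := [(1, 257), (2, 4160), (4, 10502176), (8, 6270622)]

theorem data_ok : data.ok inG = true := by decide +kernel

/-- The 2-fusion system of the Mathieu group M₁₁ (as the explicit permutation group carved out of the automorphism group of the binary Golay code) on a Sylow 2-subgroup is simple: saturated, over a nontrivial 2-group, with no normal subsystem other than the trivial one and itself. -/
theorem result (S : Sylow 2 Cfsg.Spor.M11) : (Cfsg.groupFusionSystem (S : Subgroup Cfsg.Spor.M11)).IsSimple 2 := by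
  exact isSimple inG hin data 4 _ rfl (by norm_num) hcard (by norm_num) data_ok S

end Cfsg.Agent.S5166
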