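import Cfsg.Statements.S5167
import Cfsg.Agent.Lib.Golay.SylowTwoSimple
import Cfsg.Agent.Lib.Golay.MathieuFacts

set_option autoImplicit false
open Cfsg

namespace Cfsg.Agent.S5167

open CfsgLib.Golay CfsgLib.Golay.SylowTwo
open scoped Pointwise

/-- membership test -/
def inG (P : ℕ) : Bool := inM24 P && mimg P 340831 == 340831

theorem squareDodecad_eq : Cfsg.Spor.squareDodecad = dec 340831 := by
  rw [Cfsg.Spor.squareDodecad, qrWord_eq, support_wd]
  rfl

theorem dod_mem : dec 340831 ∈ dodecads :=
  ⟨⟨wd 340831, wd_mem_of_inC (by decide +kernel), support_wd _⟩, by
    rw [card_dec_eq_pop]; decide +kernel⟩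

theorem hin : ∀ P, inG P = true → validP P = true ∧ toPerm P ∈ Cfsg.Spor.M12 := fun P h => by
  rw [inG, Bool.and_eq_true, beq_iff_eq] at h
  have hv : validP P = true := by
    have := h.1
    simp only [inM24, Bool.and_eq_true] at this
    exact this.1
  refine ⟨hv, Subgroup.mem_inf.2 ⟨toPerm_mem_M24 h.1, MulAction.mem_stabilizer_iff.2 ?_⟩⟩
  rw [squareDodecad_eq, smul_dec hv, h.2]

theorem hcard : Nat.card Cfsg.Spor.M12 = 2 ^ 6 * 1485 := by
  rw [← Nat.card_congr (conjEquiv (K := Cfsg.Spor.M12) inf_le_left
    (MulAction.stabilizer M24 (dec 340831)) (one_mem M24) fun x => by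
      simp only [inv_one, one_mul, mul_one, Cfsg.Spor.M12, Subgroup.mem_inf,
        MulAction.mem_stabilizer_iff, SetLike.coe_mem, true_and, squareDodecad_eq]
      rfl).toEquiv,
    natCard_stab_dodecad dod_mem]
  norm_num

/-- the certificate of M12 -/
def data : Data where
  gens := [309362189593439161141277913802737859,
    809540095373542615459574595895529900,
    818218687647215120614455139430172712,
    983229858522618809923404181036875980,
    720044849972828580952578354186406080,
    973968420574796809057970364740646176]
  cs := [(6, [20, 14, 4, 2, 1]),
    (2, [15, 5, 2, 1]),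
    (0, [5, 3, 1]),
    (1, [2, 1]),
    (1, [1]),
    (0, [])]
  d := 3
  z := 973968420574796809057970364740646176
  steps := [.conj 0 879748667622510626989504680566001859 725197061114861861305438387582371980,
    .conj 1 898904155919939377529175906258560136 719708130282520820308329691860975648,
    .conj 2 424699003190404004761788273137949202 984365217902686453248235801272398976,
    .conj 2 968831927652713667630586422974761250 818218687647215120614455139430172712,
    .mul 2 1,
    .mul 5 4,
    .conj 6 895172212344014767378984565289164865 297723636878088061075722738558313900,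
    .mul 4 1,
    .mul 7 2,
    .mul 2 3]
  sqs := [[981979484603031998670726550443271752],
    [815650174976979883165275718564455936],
    [962510111929506075058343948975481928]]
  classes := [(4, 9048457), (8, 7728758)]

theorem data_ok : data.ok inG = true := by decide +kernel

/-- The 2-fusion system of the Mathieu group M₁₂ (as the explicit permutation group carved out of the automorphism group of the binary Golay code) on a Sylow 2-subgroup is simple: saturated, over a nontrivial 2-group, with no normal subsystem other than the trivial one and itself. -/
theorem result (S : Sylow 2 Cfsg.Spor.M12) : (Cfsg.groupFusionSystem (S : Subgroup Cfsg.Spor.M12)).IsSimple 2 := by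
  exact isSimple inG hin data 6 _ rfl (by norm_num) hcard (by norm_num) data_ok S

end Cfsg.Agent.S5167
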