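import Cfsg.Statements.S5168
import Cfsg.Agent.Lib.Golay.SylowTwoSimple
import Cfsg.Agent.Lib.Golay.MathieuFacts

set_option autoImplicit false
open Cfsg

namespace Cfsg.Agent.S5168

open CfsgLib.Golay CfsgLib.Golay.SylowTwo
open scoped Pointwise

/-- membership test -/
def inG (P : ℕ) : Bool := inM24 P && fixes P F22

theorem eq_fix : Cfsg.Spor.M22 = fixH M24 F22 := by
  ext h
  rw [mem_fix22_iff, show pt 23 = none from if_pos rfl, show pt 0 = some 0 from rfl]
  exact and_assoc

theorem hin : ∀ P, inG P = true → validP P = true ∧ toPerm P ∈ Cfsg.Spor.M22 := fun P h => by
  rw [inG, Bool.and_eq_true] at h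
  refine ⟨?_, eq_fix ▸ toPerm_mem_fix24 h.1 h.2⟩
  have := h.1
  simp only [inM24, Bool.and_eq_true] at this
  exact this.1

theorem hcard : Nat.card Cfsg.Spor.M22 = 2 ^ 7 * 3465 := by rw [eq_fix, natCard_fix22]; norm_num

/-- the certificate of M22 -/
def data : Data where
  gens := [964886537817860606161338693183026208,
    963913421839742021110178612204767552,
    966176193574575633239691615049138752,
    964895826507680352824062331884603968,
    977007932088658921184254239408010272,
    964029883723233031636106928502059040,
    982224393630188514133391261838093344]
  cs := [(2, [47, 17, 10, 6, 2, 1]),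
    (0, [23, 8, 1, 2, 4]),
    (5, [13, 6, 2, 3]),
    (0, [6, 2, 3]),
    (0, [2, 1]),
    (0, [1]),
    (0, [])]
  d := 3
  z := 964029883723233031636106928502059040
  steps := [.conj 0 984474433683457500665495854907930656 981778418385515084080897070847012896,
    .conj 1 964838646084584163273475492440392064 963913421839742021110178612204767552,
    .mul 0 1,
    .conj 3 965378257499965157529209878947681408 982224393630188514133391261838093344,
    .mul 1 4,
    .conj 5 961399249686154420520881741879259808 975727407205111171400172582656678944,
    .mul 1 2,
    .mul 7 4,
    .mul 8 2,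
    .mul 6 7,
    .mul 10 8,
    .mul 7 7,
    .mul 1 9]
  sqs := [[982083753490439049571686132293601952],
    [970529384886576564329952095926525504],
    [976561362376701596320271189567257632],
    [977874807314632436048713232979168288]]
  classes := [(1, 8388609), (2, 16400), (4, 2360322), (16, 6011884)]

theorem data_ok : data.ok inG = true := by decide +kernel

/-- The 2-fusion system of the Mathieu group M₂₂ (as the explicit permutation group carved out of the automorphism group of the binary Golay code) on a Sylow 2-subgroup is simple: saturated, over a nontrivial 2-group, with no normal subsystem other than the trivial one and itself. -/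
theorem result (S : Sylow 2 Cfsg.Spor.M22) : (Cfsg.groupFusionSystem (S : Subgroup Cfsg.Spor.M22)).IsSimple 2 := by
  exact isSimple inG hin data 7 _ rfl (by norm_num) hcard (by norm_num) data_ok S

end Cfsg.Agent.S5168
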