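import Cfsg.Statements.S5169
import Cfsg.Agent.Lib.Golay.SylowTwoSimple
import Cfsg.Agent.Lib.Golay.MathieuFacts

set_option autoImplicit false
open Cfsg

namespace Cfsg.Agent.S5169

open CfsgLib.Golay CfsgLib.Golay.SylowTwo
open scoped Pointwise

/-- membership test -/
def inG (P : ℕ) : Bool := inM24 P && fixes P F23

theorem eq_fix : Cfsg.Spor.M23 = fixH M24 F23 := by
  ext h
  rw [mem_fix23_iff, show pt 23 = none from if_pos rfl]
  rfl

theorem hin : ∀ P, inG P = true → validP P = true ∧ toPerm P ∈ Cfsg.Spor.M23 := fun P h => by
  rw [inG, Bool.and_eq_true] at h
  refine ⟨?_, eq_fix ▸ toPerm_mem_fix24 h.1 h.2⟩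
  have := h.1
  simp only [inM24, Bool.and_eq_true] at this
  exact this.1

theorem hcard : Nat.card Cfsg.Spor.M23 = 2 ^ 7 * 79695 := by rw [eq_fix, natCard_fix23]; norm_num

/-- the certificate of M23 -/
def data : Data where
  gens := [971608849642553378769685305650251907,
    982700951067537908258488097351670147,
    963968006107452061485105465707840672,
    983295240934249017397443269520668046,
    983560219871965054030433640375233920,
    969078421380547773686168827279298048,
    971025651370656697506717674321852064]
  cs := [(14, [44, 17, 10, 1, 5, 3]),
    (5, [23, 10, 1, 2, 4]),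
    (0, [10, 4, 2, 1]),
    (7, [3, 2, 6]),
    (0, [2, 1]),
    (0, [1]),
    (0, [])]
  d := 3
  z := 976339721766278215343299373525214528
  steps := [.conj 0 970538868337709599569247306617199826 983560219871965054030433640375233920,
    .conj 1 977058661688185716038534596311391282 976859538088712266744195918807964995,
    .mul 0 1,
    .mul 3 2,
    .mul 4 1,
    .mul 5 2,
    .conj 6 965304148239427526087548956133441992 977007575755603988423933936150400334,
    .conj 5 969908907600115140577440448379398326 977494551837588940990684420878502560,
    .mul 1 6,
    .mul 9 8,
    .conj 10 973942740091568364917279966529408707 963968006107452061485105465707840672,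
    .mul 0 5,
    .mul 12 8,
    .mul 3 7,
    .mul 0 9]
  sqs := [[972622732773121247768836419187333283],
    [962263848600808156039796952890720686],
    [973032817084879871234748031476323694],
    [961958819710917598235138281331885472]]
  classes := [(1, 8650752), (2, 33024), (4, 1064969), (16, 7028470)]

theorem data_ok : data.ok inG = true := by decide +kernel

/-- The 2-fusion system of the Mathieu group M₂₃ (as the explicit permutation group carved out of the automorphism group of the binary Golay code) on a Sylow 2-subgroup is simple: saturated, over a nontrivial 2-group, with no normal subsystem other than the trivial one and itself. -/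
theorem result (S : Sylow 2 Cfsg.Spor.M23) : (Cfsg.groupFusionSystem (S : Subgroup Cfsg.Spor.M23)).IsSimple 2 := by
  exact isSimple inG hin data 7 _ rfl (by norm_num) hcard (by norm_num) data_ok S

end Cfsg.Agent.S5169
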