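import Cfsg.Statements.S5178
import Cfsg.Agent.Lib.Fusion.SmallControl
import Cfsg.Agent.Lib.Fusion.EssentialFlag

set_option autoImplicit false
universe u
open Cfsg

namespace Cfsg.Agent.S5178

open CfsgLib.Fusion
open Cfsg.FusionSystem (centralizerIn normalizerIn)
open CfsgLib.Fusion.SmallControl (stab stab_normal stab_pgroup le_sylow_of_normal)

theorem eq_one_of_sq {G : Type*} [Group G] {p : ℕ} (hp : p.Prime) (h2 : p ≠ 2) {x : G}
    (hx : x ^ p = 1) (h : x⁻¹ = x) : x = 1 := by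
  have h' : x ^ 2 = 1 := by
    rw [sq]
    nth_rewrite 1 [← h]
    exact inv_mul_cancel x
  have := pow_gcd_eq_one.2 ⟨hx, h'⟩
  rwa [(Nat.coprime_primes hp Nat.prime_two).2 h2, pow_one] at this

theorem zpowers_eq_of_card {G : Type*} [Group G] {p : ℕ} (hp : p.Prime) {W : Subgroup G}
    (hW : Nat.card W = p) {w : G} (hw : w ∈ W) (hw1 : w ≠ 1) : W ≤ Subgroup.zpowers w := by
  haveI : Fact p.Prime := ⟨hp⟩
  haveI : Finite W := Nat.finite_of_card_ne_zero (hW ▸ hp.ne_zero)
  refine (Subgroup.eq_of_le_of_card_ge (Subgroup.zpowers_le.2 hw) ?_).ge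
  rw [hW, Nat.card_zpowers]
  exact (orderOf_eq_prime (by
    have := congrArg Subtype.val (pow_card_eq_one' (x := (⟨w, hw⟩ : W)))
    rwa [hW] at this) hw1).ge

/-- `T` is fixed and the central part in `W` inverted by some automorphism in the system. -/
def Good {Ω : Type*} [Group Ω] {S : Subgroup Ω} (F : Cfsg.FusionSystem S) (W Z T : Subgroup Ω) : Prop :=
  T ≤ Z ∧ Z ≤ W ⊔ T ∧ ∃ t : F.autGroup S, (∀ u : S, (u : Ω) ∈ W → (t : MulAut S) u = u⁻¹) ∧
    ∀ u : S, (u : Ω) ∈ T → (t : MulAut S) u = u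

theorem split_of_comm {G : Type*} [Group G] {T C : Subgroup G} (hc : ∀ a ∈ T, ∀ b ∈ C, a * b = b * a) {g : G}
    (hg : g ∈ T ⊔ C) : ∃ t ∈ T, ∃ c ∈ C, g = t * c := by
  have hn : T ≤ Subgroup.normalizer (C : Set G) := fun t ht =>
    Subgroup.centralizer_le_normalizer (C : Set G) (fun c hc' => (hc t ht c hc').symm)
  rw [← SetLike.mem_coe, Subgroup.coe_mul_of_left_le_normalizer_right _ _ hn] at hg
  obtain ⟨t, ht, c, hcC, rfl⟩ := hg
  exact ⟨t, ht, c, hcC, rfl⟩


/-- Let p be an odd prime, S a finite p-group containing an extraspecial subgroup Q of index p, and F a saturated fusion system over S whose largest subgroup normal in F is trivial. Then the centre of S equals the centre of Q. -/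
theorem result {Ω : Type u} [Group Ω] {S : Subgroup Ω} [Finite S] (p : ℕ) [Fact p.Prime] (hp : Odd p) (hS : IsPGroup p S)
    (Q : Subgroup Ω) (hQS : Q ≤ S) (hQ : Cfsg.IsExtraspecial p ↥Q) (hQi : (Q.subgroupOf S).index = p)
    (F : Cfsg.FusionSystem S) (hF : F.IsSaturated p) (hO : F.core = ⊥) :
    S ⊓ Subgroup.centralizer (S : Set Ω) = Q ⊓ Subgroup.centralizer (Q : Set Ω) := by
  classical
  have hp' : p.Prime := Fact.out
  have hp2 : p ≠ 2 := by rintro rfl; exact absurd hp (by decide)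
  obtain ⟨⟨hQp, hfr, hcom⟩, hcard⟩ := hQ
  haveI := finite_of_le hQS
  have hQn : (Q.subgroupOf S).Normal := Subgroup.normal_of_index_eq_minFac_card (by
    obtain ⟨k, hk⟩ := hS.exists_card_eq
    have hd : p ∣ Nat.card S := hQi ▸ Subgroup.index_dvd_card _
    rw [hQi, hk]
    rcases Nat.eq_zero_or_pos k with rfl | hk0
    · rw [hk, pow_zero] at hd
      exact absurd (Nat.dvd_one.1 hd) hp'.ne_one
    · rw [Nat.Prime.pow_minFac hp' hk0.ne'])
  have hrelQ : ∀ H ≤ S, ¬ H ≤ Q → Q.relIndex H = p := by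
    intro H hH hHQ
    have h1 := Subgroup.relIndex_dvd_index_of_normal (Q.subgroupOf S) (H.subgroupOf S)
    rw [Subgroup.relIndex_subgroupOf hH, hQi] at h1
    exact (hp'.eq_one_or_self_of_dvd _ h1).resolve_left fun h => hHQ (Subgroup.relIndex_eq_one.1 h)
  set W := Q ⊓ Subgroup.centralizer (Q : Set Ω) with hWdef
  set Z := S ⊓ Subgroup.centralizer (S : Set Ω) with hZdef
  have hWmap : W = (Subgroup.center Q).map Q.subtype := by
    ext x
    constructor
    · intro hx
      exact ⟨⟨x, hx.1⟩, Subgroup.mem_center_iff.2 fun q => Subtype.ext (hx.2 q q.2), rfl⟩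
    · rintro ⟨c, hc, rfl⟩
      exact ⟨c.2, fun q hq => congrArg Subtype.val (Subgroup.mem_center_iff.1 hc ⟨q, hq⟩)⟩
  have hWcard : Nat.card W = p := by rw [hWmap, Subgroup.card_map_of_injective Q.subtype_injective, hcard]
  have hQcomm : ∀ a ∈ Q, ∀ b ∈ Q, a * b * a⁻¹ * b⁻¹ ∈ W := fun a ha b hb => by
    rw [hWmap]
    exact ⟨⟨a, ha⟩ * ⟨b, hb⟩ * ⟨a, ha⟩⁻¹ * ⟨b, hb⟩⁻¹, hcom.le
      (Subgroup.commutator_mem_commutator (Subgroup.mem_top _) (Subgroup.mem_top _)), rfl⟩
  have hQpow : ∀ a ∈ Q, a ^ p ∈ W := fun a ha => by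
    rw [hWmap]
    exact ⟨⟨a, ha⟩ ^ p, hfr.le (CfsgLib.OddOmega.pow_mem_frattini hQp _), by simp⟩
  by_cases hZQ : Z ≤ Q
  · refine le_antisymm (fun x hx => ⟨hZQ hx, fun q hq => hx.2 q (hQS hq)⟩) fun x hx => ?_
    refine ⟨hQS hx.1, fun s hs => ?_⟩
    let f : S → Ω := fun s => s * x * (s : Ω)⁻¹
    -- a normal subgroup of order `p` is central
    have hnorm : s * x * s⁻¹ ∈ Subgroup.zpowers x := by
      rcases eq_or_ne x 1 with rfl | hx1
      · simp
      refine zpowers_eq_of_card hp' hWcard hx hx1 ?_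
      refine ⟨hQn.conj_mem ⟨x, hQS hx.1⟩ hx.1 ⟨s, hs⟩, fun q hq => ?_⟩
      have hq' : s⁻¹ * q * s ∈ Q := by simpa [Subgroup.mem_subgroupOf] using hQn.conj_mem ⟨q, hQS hq⟩ hq ⟨s, hs⟩⁻¹
      calc q * (s * x * s⁻¹) = s * ((s⁻¹ * q * s) * x) * s⁻¹ := by group
        _ = s * (x * (s⁻¹ * q * s)) * s⁻¹ := by rw [hx.2 _ hq']
        _ = s * x * s⁻¹ * q := by group
    have hxp : x ^ p = 1 := by
      have := congrArg Subtype.val (pow_card_eq_one' (x := (⟨x, hx⟩ : W)))
      rwa [hWcard] at this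
    have := commute_of_conj_mem_zpowers hS hxp hs hnorm
    exact mul_inv_eq_iff_eq_mul.1 this
  exfalso
  obtain ⟨z, hz, hzQ⟩ := SetLike.not_le_iff_exists.1 hZQ
  have hzc : ∀ y ∈ S, z * y = y * z := fun y hy => (hz.2 y hy).symm
  have hcz : ∀ a ∈ Q, ∀ b ∈ Subgroup.zpowers z, a * b = b * a := fun a ha b hb => by
    obtain ⟨i, rfl⟩ := Subgroup.mem_zpowers_iff.1 hb
    exact ((show Commute z a from hzc a (hQS ha)).zpow_left i).eq.symm
  have hsplit : ∀ s ∈ S, ∃ q ∈ Q, ∃ c ∈ Subgroup.zpowers z, s = q * c := by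
    have hle : Q ⊔ Subgroup.zpowers z ≤ S := sup_le hQS (Subgroup.zpowers_le.2 hz.1)
    have h2 := Subgroup.relIndex_mul_relIndex Q (Q ⊔ Subgroup.zpowers z) S le_sup_left hle
    rw [hrelQ _ hle (fun h => hzQ (h (Subgroup.mem_sup_right (Subgroup.mem_zpowers z))))] at h2
    have hS' : S ≤ Q ⊔ Subgroup.zpowers z :=
      Subgroup.relIndex_eq_one.1 ((mul_eq_left₀ hp'.ne_zero).1 (h2.trans hQi))
    have hn : Q ≤ Subgroup.normalizer (Subgroup.zpowers z : Set Ω) := fun t ht =>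
      Subgroup.centralizer_le_normalizer _ fun c hc => (hcz t ht c hc).symm
    intro s hs
    have := hS' hs
    rw [← SetLike.mem_coe, Subgroup.coe_mul_of_left_le_normalizer_right _ _ hn] at this
    obtain ⟨q, hq, c, hc, rfl⟩ := this
    exact ⟨q, hq, c, hc, rfl⟩
  have hzcen : ∀ c ∈ Subgroup.zpowers z, ∀ y ∈ S, c * y = y * c := fun c hc y hy => by
    obtain ⟨i, rfl⟩ := Subgroup.mem_zpowers_iff.1 hc
    exact ((show Commute z y from hzc y hy).zpow_left i).eq
  have hzS : Subgroup.zpowers z ≤ S := Subgroup.zpowers_le.2 hz.1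
  have hWZ : W ≤ Z := fun x hx => ⟨hQS hx.1, fun s hs => by
    obtain ⟨q, hq, c, hc, rfl⟩ := hsplit s hs
    rw [mul_assoc, hzcen c hc x (hQS hx.1), ← mul_assoc, hx.2 q hq, mul_assoc]⟩
  have hWS : W ≤ S := fun x hx => hQS hx.1
  have hZcW : ∀ y ∈ Z, y ∈ Q → y ∈ W := fun y hy hyQ => ⟨hyQ, fun q hq => hy.2 q (hQS hq)⟩
  have hScomm : ∀ s ∈ S, ∀ t ∈ S, s * t * s⁻¹ * t⁻¹ ∈ W := by
    intro s hs t ht
    obtain ⟨q, hq, c, hc, rfl⟩ := hsplit s hs
    obtain ⟨q', hq', c', hc', rfl⟩ := hsplit t ht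
    have h1 : q * c * (q' * c') * (q * c)⁻¹ = q * q' * q⁻¹ * c' := by
      calc q * c * (q' * c') * (q * c)⁻¹ = q * (c * (q' * c') * c⁻¹) * q⁻¹ := by group
        _ = q * (q' * c') * q⁻¹ := by rw [hzcen c hc _ (S.mul_mem (hQS hq') (hzS hc')), mul_inv_cancel_right]
        _ = q * q' * (c' * q⁻¹) := by group
        _ = _ := by rw [hzcen c' hc' _ (S.inv_mem (hQS hq))]; group
    rw [h1, show q * q' * q⁻¹ * c' * (q' * c')⁻¹ = q * q' * q⁻¹ * q'⁻¹ by group]
    exact hQcomm q hq q' hq'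
  have hpow : ∀ s ∈ S, s ^ p ∈ W := by
    intro s hs
    obtain ⟨q, hq, c, hc, rfl⟩ := hsplit s hs
    rw [Commute.mul_pow (hcz q hq c hc)]
    have hcp : c ^ p ∈ Q := by
      have := Subgroup.pow_index_mem (Q.subgroupOf S) ⟨c, hzS hc⟩
      rw [hQi] at this
      simpa [Subgroup.mem_subgroupOf] using this
    exact mul_mem (hQpow q hq) (hZcW _ ⟨S.pow_mem (hzS hc) p, fun y hy =>
      ((show Commute c y from hzcen c hc y hy).pow_left p).eq.symm⟩ hcp)
  obtain ⟨q₁, hq₁, q₂, hq₂, hq₁₂⟩ : ∃ a ∈ Q, ∃ b ∈ Q, a * b * a⁻¹ * b⁻¹ ≠ 1 := by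
    by_contra hh
    push Not at hh
    have h1 : commutator Q = ⊥ := eq_bot_iff.2 (Subgroup.commutator_le.2 fun a _ b _ =>
      Subgroup.mem_bot.2 (Subtype.ext (hh a a.2 b b.2)))
    rw [← hcom, h1, Subgroup.card_bot] at hcard
    exact hp'.ne_one hcard.symm
  have hinvW : ∀ (P : Subgroup Ω), P ≤ S → ∀ (β : MulAut P) (u v : P),
      ((u * v * u⁻¹ * v⁻¹ : P) : Ω) ≠ 1 → ∀ x : P, (x : Ω) ∈ W → (β x : Ω) ∈ W := by
    intro P hP β u v huv x hx
    have hgen := zpowers_eq_of_card hp' hWcard (hScomm u (hP u.2) v (hP v.2)) huv hx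
    obtain ⟨i, hi⟩ := Subgroup.mem_zpowers_iff.1 hgen
    have : x = (u * v * u⁻¹ * v⁻¹) ^ i := Subtype.ext (by simpa using hi.symm)
    rw [this, map_zpow, map_mul, map_mul, map_mul, map_inv, map_inv, SubgroupClass.coe_zpow]
    exact W.zpow_mem (hScomm _ (hP (β u).2) _ (hP (β v).2)) i
  have hZS : Z ≤ S := fun y hy => hy.1
  -- each essential subgroup moves `W`
  have hess : ∀ P : Subgroup Ω, F.IsEssential p P →
      W ≤ P ∧ Z ≤ P ∧ (∀ g : F.autGroup P, (∃ y : P, (y : Ω) ∈ W ∧ ((g : MulAut P) y : Ω) ∉ W) →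
        ∃ T : Subgroup Ω, Good F W Z T ∧ (T : Set Ω) ⊆ P ∧
          ∀ y : P, (y : Ω) ∈ T ↔ ((y : Ω) ∈ Z ∧ (((g : MulAut P)⁻¹ y : P) : Ω) ∈ Z)) ∧
      ∃ g : F.autGroup P, ∃ y : P, (y : Ω) ∈ W ∧ ((g : MulAut P) y : Ω) ∉ W := by
    intro P hP
    have hPS := hP.1.1
    haveI := finite_of_le hPS
    haveI := finite_mulAut P
    have hne : P ≠ S := ne_of_isEssential hS hF hP
    have hZP : Z ≤ P := fun y hy => hP.1.2 P (isConj_refl hPS) ⟨hy.1, fun u hu => hy.2 u (hPS hu)⟩
    have hWP : W ≤ P := hWZ.trans hZP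
    set G := F.autGroup P
    set Wp := W.subgroupOf P
    set Zp := Z.subgroupOf P
    haveI : Wp.Normal := ⟨fun n hn u => by
      show (u : Ω) * n * (u : Ω)⁻¹ ∈ W
      rw [show (u : Ω) * n = n * u from (hWZ hn).2 u (hPS u.2), mul_inv_cancel_right]; exact hn⟩
    haveI : Zp.Normal := ⟨fun n hn u => by
      show (u : Ω) * n * (u : Ω)⁻¹ ∈ Z
      rw [show (u : Ω) * n = n * u from hn.2 u (hPS u.2), mul_inv_cancel_right]; exact hn⟩
    have hPn : ∀ s ∈ S, s ∈ Subgroup.normalizer (P : Set Ω) := fun s hs =>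
      mem_normalizer_of_conj_mem hPS fun y hy => by
        have := mul_mem (hWP (hScomm s hs y (hPS hy))) hy
        rwa [inv_mul_cancel_right] at this
    obtain ⟨R, hR⟩ := (isFullyAutomized_of_isFullyNormalized hS hF hP.2.1).2
    have hRs : ∀ α ∈ (R : Subgroup G), (∀ y ∈ Zp, (α : MulAut P) y = y) ∧ ∀ y, y⁻¹ * (α : MulAut P) y ∈ Wp := by
      intro α hα
      rw [hR] at hα
      obtain ⟨s, hs, hv⟩ := (mem_autInducedBy_iff S P _).1 hα
      replace hv : ∀ y : P, ((α : MulAut P) y : Ω) = s * y * s⁻¹ := hv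
      refine ⟨fun y hy => Subtype.ext ?_, fun y => ?_⟩
      · rw [hv, show s * (y : Ω) = y * s from hy.2 s hs, mul_inv_cancel_right]
      · show (y : Ω)⁻¹ * ((α : MulAut P) y : Ω) ∈ W
        rw [hv]
        have := hScomm (y : Ω)⁻¹ (inv_mem (hPS y.2)) s hs
        have e : (y : Ω)⁻¹ * (s * y * s⁻¹) = (y : Ω)⁻¹ * s * (y : Ω)⁻¹⁻¹ * s⁻¹ := by group
        rw [e]
        exact this
    have hconjR : ∀ s ∈ S, ∃ α ∈ (R : Subgroup G), ∀ y : P, ((α : MulAut P) y : Ω) = s * y * s⁻¹ :=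
      fun s hs => by
        have h := conjAut_mem_autInducedBy (K := S) (hPn s hs) hs
        exact ⟨⟨_, autInducedBy_le_autGroup hPS h⟩, hR.ge h, conjAut_apply P (hPn s hs)⟩
    -- something moves `W`
    have hmove : ∃ g : G, ∃ y : P, (y : Ω) ∈ W ∧ ((g : MulAut P) y : Ω) ∉ W := by
      by_contra hh
      push Not at hh
      refine EssentialFlag.false_of_normal hS hne hP (stab G Wp) (stab_normal G Wp fun β y hy => hh β y hy)
        (stab_pgroup G (hS.to_le hPS) Wp) fun α hα => ?_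
      have := hRs α (hR.ge hα)
      exact ⟨fun y hy => this.1 y (hWZ hy), this.2⟩
    obtain ⟨g₀, y₀, hy₀, hgy₀⟩ := id hmove
    have hPc : ∀ u v : P, u * v = v * u := fun u v => by
      by_contra huv
      refine hgy₀ (hinvW P hPS _ u v (fun h => huv ?_) y₀ hy₀)
      have h' : u * v * u⁻¹ * v⁻¹ = 1 := Subtype.ext h
      rw [mul_inv_eq_one, mul_inv_eq_iff_eq_mul] at h'
      exact h'
    have hPexp : ∀ u : P, u ^ p = 1 := fun u => by
      by_contra hu
      refine hgy₀ ?_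
      obtain ⟨i, hi⟩ := Subgroup.mem_zpowers_iff.1 (zpowers_eq_of_card hp' hWcard (hpow u (hPS u.2))
        (fun h => hu (Subtype.ext (by simpa using h))) hy₀)
      have : y₀ = (u ^ p) ^ i := Subtype.ext (by simpa using hi.symm)
      rw [this, map_zpow, map_pow, SubgroupClass.coe_zpow, SubgroupClass.coe_pow]
      exact W.zpow_mem (hpow _ (hPS ((g₀ : MulAut P) u).2)) i
    letI : CommGroup P := { (inferInstance : Group P) with mul_comm := hPc }
    refine ⟨hWP, hZP, fun g hg => ?_, hmove⟩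
    -- a moving automorphism
    obtain ⟨w, hw, hgw⟩ := hg
    have hw1 : (w : Ω) ≠ 1 := fun h => hgw (by
      rw [show w = 1 from Subtype.ext h, map_one]; exact one_mem _)
    have hgen : ∀ v : P, v ∈ Wp → ∃ i : ℤ, v = w ^ i := fun v hv => by
      obtain ⟨i, hi⟩ := Subgroup.mem_zpowers_iff.1 (zpowers_eq_of_card hp' hWcard hw hw1 hv)
      exact ⟨i, Subtype.ext (by simpa using hi.symm)⟩
    have hmoves : ∀ (h : G), ((h : MulAut P) w : Ω) ∉ W →
        (∀ α ∈ (R : Subgroup G), (α : MulAut P) ((h : MulAut P) w) = (h : MulAut P) w → α = 1) ∧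
        ∃ a ∈ (R : Subgroup G), (a : MulAut P) ((h : MulAut P) w) = w * (h : MulAut P) w := by
      intro h hh
      set w' := (h : MulAut P) w
      set D := Subgroup.zpowers w'
      have hdis : ∀ v : P, v ∈ Wp → v ∈ D → v = 1 := fun v hv hvD => by
        obtain ⟨i, hi⟩ := Subgroup.mem_zpowers_iff.1 hvD
        by_contra hv1
        refine hh ?_
        have h1 : W ≤ Subgroup.zpowers (v : Ω) :=
          zpowers_eq_of_card hp' hWcard hv fun e => hv1 (Subtype.ext e)
        have hwp : (w' : Ω) ^ p = 1 := by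
          rw [← SubgroupClass.coe_pow, hPexp]; rfl
        have hord : orderOf (w' : Ω) = p := orderOf_eq_prime hwp fun e => hh (e ▸ one_mem W)
        haveI : Finite (Subgroup.zpowers (w' : Ω)) := Nat.finite_of_card_ne_zero (by
          rw [Nat.card_zpowers, hord]; exact hp'.ne_zero)
        have h2 : Subgroup.zpowers (v : Ω) ≤ Subgroup.zpowers (w' : Ω) :=
          Subgroup.zpowers_le.2 ⟨i, by show (w' : Ω) ^ i = v; rw [← hi, SubgroupClass.coe_zpow]⟩
        have h3 : Subgroup.zpowers (v : Ω) = Subgroup.zpowers (w' : Ω) :=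
          Subgroup.eq_of_le_of_card_ge h2 (by
            rw [Nat.card_zpowers, Nat.card_zpowers, hord, orderOf_eq_prime
              (by rw [← SubgroupClass.coe_pow, hPexp]; rfl) (fun e => hv1 (Subtype.ext e))])
        exact (Subgroup.zpowers_le.2 hv : Subgroup.zpowers (v : Ω) ≤ W) (h3.ge (Subgroup.mem_zpowers _))
      have hfix : ∀ α ∈ (R : Subgroup G), (α : MulAut P) w' = w' → α = 1 := by
        intro α hα hαw
        have hαD : ∀ v ∈ D, (α : MulAut P) v = v := fun v hv => by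
          obtain ⟨i, rfl⟩ := Subgroup.mem_zpowers_iff.1 hv
          rw [map_zpow, hαw]
        have hn : Subgroup.zpowers α ≤ Subgroup.normalizer (stab G D : Set G) := by
          refine Subgroup.zpowers_le.2 (Subgroup.mem_normalizer_fintype fun β hβ => ⟨fun v hv => ?_, fun y => ?_⟩)
          · show (α : MulAut P) ((β : MulAut P) ((α : MulAut P)⁻¹ v)) = v
            have : (α : MulAut P)⁻¹ v = v := by
              conv_lhs => rw [← hαD v hv]
              rw [MulAut.inv_apply_self]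
            rw [this, hβ.1 v hv, hαD v hv]
          · show y⁻¹ * (α : MulAut P) ((β : MulAut P) ((α : MulAut P)⁻¹ y)) ∈ D
            have h1 := hβ.2 ((α : MulAut P)⁻¹ y)
            have h2 := hαD _ h1
            rw [map_mul, map_inv, MulAut.apply_inv_self] at h2
            rw [h2]; exact h1
        have hle : ((h • R : Sylow p G) : Subgroup G) ≤ stab G D := by
          rw [Sylow.coe_subgroup_smul]
          rintro _ ⟨β, hβ, rfl⟩
          refine ⟨fun v hv => ?_, fun y => ?_⟩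
          · show (h : MulAut P) ((β : MulAut P) ((h : MulAut P)⁻¹ v)) = v
            obtain ⟨i, rfl⟩ := Subgroup.mem_zpowers_iff.1 hv
            rw [map_zpow, show (h : MulAut P)⁻¹ w' = w from MulAut.inv_apply_self _ _ _,
              map_zpow, (hRs β hβ).1 w (hWZ hw), map_zpow]
          · show y⁻¹ * (h : MulAut P) ((β : MulAut P) ((h : MulAut P)⁻¹ y)) ∈ D
            obtain ⟨i, hi⟩ := hgen _ ((hRs β hβ).2 ((h : MulAut P)⁻¹ y))
            have := congrArg (h : MulAut P) hi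
            rw [map_mul, map_inv, MulAut.apply_inv_self, map_zpow] at this
            rw [this]
            exact Subgroup.zpow_mem _ (Subgroup.mem_zpowers _) i
        have hsup : IsPGroup p ↥(stab G D ⊔ Subgroup.zpowers α) :=
          (stab_pgroup G (hS.to_le hPS) D).to_sup_of_normal_left'
            (R.2.to_le (Subgroup.zpowers_le.2 hα)) hn
        have heq := (h • R : Sylow p G).3 hsup (hle.trans le_sup_left)
        have hαst : α ∈ stab G D :=
          hle (heq ▸ Subgroup.mem_sup_right (Subgroup.mem_zpowers α))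
        refine Subtype.ext (MulEquiv.ext fun y => ?_)
        exact (inv_mul_eq_one.1 (hdis _ ((hRs α hα).2 y) (hαst.2 y))).symm
      refine ⟨hfix, ?_⟩
      have hval : ∀ α : (R : Subgroup G), ((α : G) : MulAut P) w' * w'⁻¹ ∈ Wp := fun α => by
        rw [mul_comm]; exact (hRs α α.2).2 w'
      let φ : (R : Subgroup G) →* Wp := MonoidHom.mk' (fun α => ⟨_, hval α⟩) fun α β => Subtype.ext (by
        show ((α : G) : MulAut P) (((β : G) : MulAut P) w') * w'⁻¹ =
          (((α : G) : MulAut P) w' * w'⁻¹) * (((β : G) : MulAut P) w' * w'⁻¹)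
        have h1 := (hRs α α.2).1 _ (hWZ (hval β) : _ ∈ Zp)
        rw [map_mul, map_inv] at h1
        rw [← h1, mul_mul_mul_comm, mul_comm (((α : G) : MulAut P) w') (((α : G) : MulAut P) (((β : G) : MulAut P) w')),
          mul_comm w'⁻¹]
        group)
      have hinj : Function.Injective φ := (injective_iff_map_eq_one φ).2 fun α hα =>
        Subtype.ext (hfix α α.2 (mul_inv_eq_one.1 (congrArg Subtype.val hα)))
      have hR1 : φ.range ≠ ⊥ := by
        intro hb
        obtain ⟨n, hn, hnP⟩ := SetLike.exists_of_lt (lt_normalizerIn hS hPS hne)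
        obtain ⟨α, hα, hv⟩ := hconjR n hn.1
        have h1 : φ ⟨α, hα⟩ = 1 := Subgroup.mem_bot.1 (hb ▸ ⟨⟨α, hα⟩, rfl⟩)
        have h2 : α = 1 := congrArg Subtype.val ((injective_iff_map_eq_one φ).1 hinj _ h1)
        refine hnP (hP.1.2 P (isConj_refl hPS) ⟨hn.1, fun y hy => ?_⟩)
        have := hv ⟨y, hy⟩
        rw [h2, eq_mul_inv_iff_mul_eq] at this
        exact this
      have hWpc : Nat.card Wp = p := by
        rw [Nat.card_congr (Subgroup.subgroupOfEquivOfLe hWP).toEquiv, hWcard]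
      have htop : φ.range = ⊤ := by
        rcases hp'.eq_one_or_self_of_dvd _ (hWpc ▸ φ.range.card_subgroup_dvd_card) with h1 | h1
        · exact absurd (Subgroup.card_eq_one.1 h1) hR1
        · exact (Subgroup.card_eq_iff_eq_top _).1 (h1.trans hWpc.symm)
      obtain ⟨a, ha⟩ := htop.ge (Subgroup.mem_top (⟨w, hw⟩ : Wp))
      exact ⟨a, a.2, mul_inv_eq_iff_eq_mul.1 (congrArg Subtype.val ha)⟩
    -- the opposite automorphism
    have hgi : (((g⁻¹ : G) : MulAut P) w : Ω) ∉ W := fun hh => by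
      obtain ⟨i, hi⟩ := hgen _ hh
      have h2 := congrArg (g : MulAut P) hi
      rw [Subgroup.coe_inv, MulAut.apply_inv_self, map_zpow] at h2
      obtain ⟨j, hj⟩ : ∃ j : ℤ, (g : MulAut P) w = w ^ j := by
        have hwp : orderOf w = p := orderOf_eq_prime (hPexp w) fun e => hw1 (congrArg Subtype.val e)
        have hgwp : orderOf ((g : MulAut P) w) = p := by
          rw [← hwp]; exact orderOf_injective (g : MulAut P).toMonoidHom (g : MulAut P).injective w
        have hle : Subgroup.zpowers w ≤ Subgroup.zpowers ((g : MulAut P) w) :=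
          Subgroup.zpowers_le.2 ⟨i, h2.symm⟩
        have := (Subgroup.eq_of_le_of_card_ge hle (by rw [Nat.card_zpowers, Nat.card_zpowers, hwp, hgwp])).ge
          (Subgroup.mem_zpowers _)
        obtain ⟨j, hj⟩ := Subgroup.mem_zpowers_iff.1 this
        exact ⟨j, hj.symm⟩
      exact hgw (by rw [hj, SubgroupClass.coe_zpow]; exact W.zpow_mem hw j)
    set w' := (g : MulAut P) w with hw'
    obtain ⟨hfixa, a, haR, ha⟩ := hmoves g hgw
    obtain ⟨-, a', ha'R, ha'⟩ := hmoves g⁻¹ hgi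
    have hapow : ∀ α ∈ (R : Subgroup G), ∀ y, (a : MulAut P) y = y → (α : MulAut P) y = y := by
      intro α hα y hy
      have h1 : (α : MulAut P) w' * w'⁻¹ ∈ Wp := by rw [mul_comm]; exact (hRs α hα).2 w'
      obtain ⟨i, hi⟩ := hgen _ h1
      have hai : ∀ n : ℕ, ((a ^ n : G) : MulAut P) w' = w ^ n * w' := by
        intro n
        induction n with
        | zero => rw [pow_zero, pow_zero, one_mul]; rfl
        | succ n ih =>
          rw [pow_succ', Subgroup.coe_mul, MulAut.mul_apply, ih, map_mul, map_pow,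
            (hRs a haR).1 w (hWZ hw), ha, pow_succ, mul_assoc]
      obtain ⟨n, hn⟩ : ∃ n : ℕ, w ^ i = w ^ n := by
        haveI : Finite (Subgroup.zpowers w) := inferInstance
        obtain ⟨n, hn⟩ := (mem_powers_iff_mem_zpowers (x := w) (y := w ^ i)).2 ⟨i, rfl⟩
        exact ⟨n, hn.symm⟩
      have heq : α = a ^ n := by
        have h3 : (a ^ n)⁻¹ * α = 1 := hfixa _ (mul_mem (inv_mem (pow_mem haR n)) hα) (by
          show ((a ^ n : G) : MulAut P)⁻¹ ((α : MulAut P) w') = w'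
          rw [mul_inv_eq_iff_eq_mul.1 hi, hn, ← hai n, MulAut.inv_apply_self])
        exact (inv_mul_eq_one.1 h3).symm
      rw [heq]
      clear heq hn
      induction n with
      | zero => rw [pow_zero]; rfl
      | succ n ih => rw [pow_succ, Subgroup.coe_mul, MulAut.mul_apply, hy, ih]
    have hfa : ∀ y : P, (a : MulAut P) y = y → y ∈ Zp := fun y hy => ⟨hPS y.2, fun s hs => by
      obtain ⟨α, hα, hv⟩ := hconjR s hs
      have := hv y
      rw [hapow α hα y hy, eq_mul_inv_iff_mul_eq] at this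
      exact this.symm⟩
    have hw'Z : w' ∉ Zp := fun h => hgw (by
      have h1 := (hRs a haR).1 w' h
      rw [ha, mul_eq_right] at h1
      exact absurd (congrArg Subtype.val h1) hw1)
    have hZidx : Zp.index = p := by
      let ψ : P →* Wp := MonoidHom.mk' (fun y => ⟨y⁻¹ * (a : MulAut P) y, (hRs a haR).2 y⟩) fun u v =>
        Subtype.ext (by
          show (u * v)⁻¹ * (a : MulAut P) (u * v) = (u⁻¹ * (a : MulAut P) u) * (v⁻¹ * (a : MulAut P) v)
          rw [map_mul, mul_inv, mul_mul_mul_comm])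
      have hk : ψ.ker = Zp := by
        ext y
        rw [MonoidHom.mem_ker]
        exact ⟨fun h => hfa y (inv_mul_eq_one.1 (congrArg Subtype.val h)).symm,
          fun h => Subtype.ext (by show y⁻¹ * (a : MulAut P) y = 1; rw [(hRs a haR).1 y h, inv_mul_cancel])⟩
      have hd : Zp.index ∣ p := by
        rw [← hk, Subgroup.index_ker, ← hWcard, ← Nat.card_congr (Subgroup.subgroupOfEquivOfLe hWP).toEquiv]
        exact ψ.range.card_subgroup_dvd_card
      exact (hp'.eq_one_or_self_of_dvd _ hd).resolve_left fun h =>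
        hw'Z ((Subgroup.index_eq_one.1 h).symm ▸ Subgroup.mem_top _)
    have hcover : ∀ (K : Subgroup P) (v : P), K.index = p → v ∉ K → ∀ u : P, ∃ i : ℤ, u * (v ^ i)⁻¹ ∈ K := by
      intro K v hK hv u
      have htop : K ⊔ Subgroup.zpowers v = ⊤ := by
        have hm := Subgroup.relIndex_mul_index (le_sup_left : K ≤ K ⊔ Subgroup.zpowers v)
        rw [hK] at hm
        rcases hp'.eq_one_or_self_of_dvd _ ⟨_, hm.symm⟩ with h' | h'
        · exact absurd (Subgroup.relIndex_eq_one.1 h' (Subgroup.mem_sup_right (Subgroup.mem_zpowers v))) hv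
        · rw [h'] at hm
          exact Subgroup.index_eq_one.1 ((mul_eq_left₀ hp'.ne_zero).1 hm)
      obtain ⟨k, hk, c, hc, rfl⟩ := Subgroup.mem_sup.1 (htop ▸ Subgroup.mem_top u)
      obtain ⟨i, rfl⟩ := Subgroup.mem_zpowers_iff.1 hc
      exact ⟨i, by rw [mul_inv_cancel_right]; exact hk⟩
    set Zg := Zp.map (g : MulAut P).toMonoidHom with hZg
    have hwg : w ∉ Zg := by
      rintro ⟨y, hy, hyw⟩
      have : y = (g⁻¹ : G).1 w := by
        rw [← hyw]; exact (MulAut.inv_apply_self _ _ _).symm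
      rw [this] at hy
      have h1 := (hRs a' ha'R).1 _ hy
      rw [ha', mul_eq_right] at h1
      exact hw1 (congrArg Subtype.val h1)
    have hZgidx : Zg.index = p := (Subgroup.index_map_equiv Zp (g : MulAut P)).trans hZidx
    set b : G := g * a' * g⁻¹
    have hbw : (b : MulAut P) w = w' * w := by
      show (g : MulAut P) ((a' : MulAut P) ((g : MulAut P)⁻¹ w)) = w' * w
      rw [show (g : MulAut P)⁻¹ w = ((g⁻¹ : G) : MulAut P) w from rfl, ha', map_mul, ← hw']
      congr 1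
      exact MulAut.apply_inv_self _ _ _
    have hbg : ∀ y ∈ Zg, (b : MulAut P) y = y := by
      rintro _ ⟨y, hy, rfl⟩
      show (g : MulAut P) ((a' : MulAut P) ((g : MulAut P)⁻¹ ((g : MulAut P) y))) = (g : MulAut P) y
      rw [MulAut.inv_apply_self, (hRs a' ha'R).1 y hy]
    have hbig : ∀ y : P, (b : MulAut P) y = y → (b⁻¹ : G).1 y = y := fun y hy => by
      conv_lhs => rw [← hy]
      exact MulAut.inv_apply_self _ _ _
    have hbw' : (b⁻¹ : G).1 w = w * w'⁻¹ := by
      have hb : (b : MulAut P) w' = w' := hbg _ ⟨w, hWZ hw, rfl⟩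
      have : (b : MulAut P) (w * w'⁻¹) = w := by rw [map_mul, map_inv, hbw, hb, mul_comm w', mul_inv_cancel_right]
      conv_lhs => rw [← this]
      exact MulAut.inv_apply_self _ _ _
    have hbw'' : (b⁻¹ : G).1 w' = w' := hbig _ (hbg _ ⟨w, hWZ hw, rfl⟩)
    have haw : (a : MulAut P) w = w := (hRs a haR).1 w (hWZ hw)
    set x : G := a * b⁻¹ * a
    have hxw : (x : MulAut P) w = w'⁻¹ := by
      show (a : MulAut P) ((b⁻¹ : G).1 ((a : MulAut P) w)) = w'⁻¹
      rw [haw, hbw', map_mul, map_inv, haw, ha, mul_inv, ← mul_assoc, mul_inv_cancel, one_mul]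
    have hxw' : (x : MulAut P) w' = w := by
      show (a : MulAut P) ((b⁻¹ : G).1 ((a : MulAut P) w')) = w
      rw [ha, map_mul, hbw', hbw'', inv_mul_cancel_right, haw]
    set t : G := x * x
    have htw : (t : MulAut P) w = w⁻¹ := by
      show (x : MulAut P) ((x : MulAut P) w) = _
      rw [hxw, map_inv, hxw']
    have htw' : (t : MulAut P) w' = w'⁻¹ := by
      show (x : MulAut P) ((x : MulAut P) w') = _
      rw [hxw', hxw]
    set T := Zp ⊓ Zg with hT
    have htT : ∀ y ∈ T, (t : MulAut P) y = y := fun y hy => by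
      have hxy : (x : MulAut P) y = y := by
        show (a : MulAut P) ((b⁻¹ : G).1 ((a : MulAut P) y)) = y
        rw [(hRs a haR).1 y hy.1, hbig y (hbg y hy.2), (hRs a haR).1 y hy.1]
      show (x : MulAut P) ((x : MulAut P) y) = y
      rw [hxy, hxy]
    have hZT : ∀ u ∈ Zp, ∃ i : ℤ, u * (w ^ i)⁻¹ ∈ T := fun u hu => by
      obtain ⟨i, hi⟩ := hcover Zg w hZgidx hwg u
      exact ⟨i, Zp.mul_mem hu (Zp.inv_mem (Zp.zpow_mem (hWZ hw : w ∈ Zp) i)), hi⟩
    have htZ : ∀ u ∈ Zp, (t : MulAut P) u ∈ Zp := fun u hu => by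
      obtain ⟨i, hi⟩ := hZT u hu
      rw [show u = u * (w ^ i)⁻¹ * w ^ i by rw [inv_mul_cancel_right], map_mul, htT _ hi, map_zpow, htw]
      exact mul_mem hi.1 (zpow_mem (inv_mem (hWZ hw : w ∈ Zp)) i)
    -- the extension to `S`
    have hti : IsIso F P P (autFun (t : MulAut P)) := (mem_autGroup_iff hPS _).1 t.2
    obtain ⟨ψ, hψ, hψv⟩ := (isReceptive_iff.1 (isReceptive_of_isFullyNormalized hS hF hP.2.1)).2 P _ hti
    have hRstab : stab G Zp = R := by
      refine R.3 (stab_pgroup G (hS.to_le hPS) Zp) fun α hα => ⟨(hRs α hα).1, fun y => hWZ ((hRs α hα).2 y)⟩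
    have hSψ : S ≤ nPhi S P (autFun (t : MulAut P)) := by
      intro s hs
      obtain ⟨α, hα, hv⟩ := hconjR s hs
      have hmem : t * α * t⁻¹ ∈ (R : Subgroup G) := by
        rw [← hRstab] at hα ⊢
        refine ⟨fun y hy => ?_, fun y => ?_⟩
        · show (t : MulAut P) ((α : MulAut P) ((t : MulAut P)⁻¹ y)) = y
          obtain ⟨u, hu, rfl⟩ : ∃ u ∈ Zp, (t : MulAut P) u = y := by
            have hmap : Zp.map (t : MulAut P).toMonoidHom = Zp := Subgroup.eq_of_le_of_card_ge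
              (by rintro _ ⟨u, hu, rfl⟩; exact htZ u hu)
              (le_of_eq (Nat.card_congr (Zp.equivMapOfInjective _ (t : MulAut P).injective).toEquiv))
            obtain ⟨u, hu, h⟩ := hmap.ge hy
            exact ⟨u, hu, h⟩
          rw [MulAut.inv_apply_self, hα.1 u hu]
        · show y⁻¹ * (t : MulAut P) ((α : MulAut P) ((t : MulAut P)⁻¹ y)) ∈ Zp
          have := htZ _ (hα.2 ((t : MulAut P)⁻¹ y))
          rwa [map_mul, map_inv, MulAut.apply_inv_self] at this
      rw [hR] at hmem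
      obtain ⟨r, hr, hrv⟩ := (mem_autInducedBy_iff S P _).1 hmem
      refine ⟨hs, hPn s hs, r, hr, fun y hy => ?_⟩
      have h1 : ((t : MulAut P) ((α : MulAut P) ((t : MulAut P)⁻¹ ((t : MulAut P) ⟨y, hy⟩))) : Ω) =
          r * ((t : MulAut P) ⟨y, hy⟩ : Ω) * r⁻¹ := hrv ((t : MulAut P) ⟨y, hy⟩)
      rw [MulAut.inv_apply_self] at h1
      rw [autFun_apply _ hy, ← h1, ← autFun_coe, hv]
    obtain ⟨β, hβ, hβv⟩ := exists_mem_autGroup
      ((hψ.mono hSψ).isIso_of_card_le (fun u hu => (hψ.mono hSψ).mem hu) le_rfl)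
    have hβP : ∀ y : P, (β ⟨y, hPS y.2⟩ : Ω) = ((t : MulAut P) y : Ω) := fun y => by
      rw [hβv, hψv y y.2, autFun_coe]
    refine ⟨T.map P.subtype, ⟨?_, ?_, ⟨β, hβ⟩, fun u hu => ?_, fun u hu => ?_⟩, ?_, fun y => ?_⟩
    · rintro _ ⟨y, hy, rfl⟩
      exact hy.1
    · intro u hu
      obtain ⟨i, hi⟩ := hZT ⟨u, hZP hu⟩ hu
      have := Subgroup.mul_mem_sup (W.zpow_mem hw i) (Subgroup.mem_map_of_mem P.subtype hi)
      rwa [P.coe_subtype, Subgroup.coe_mul, Subgroup.coe_inv, SubgroupClass.coe_zpow,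
        ← mul_assoc, ← (show (u : Ω) * (w : Ω) ^ i = (w : Ω) ^ i * u from hu.2 _ (S.zpow_mem (hWS hw) i) |>.symm),
        mul_inv_cancel_right] at this
    · obtain ⟨i, hi⟩ := hgen ⟨u, hWP hu⟩ hu
      refine Subtype.ext ?_
      show (β u : Ω) = (u : Ω)⁻¹
      rw [show u = (⟨((⟨u, hWP hu⟩ : P) : Ω), hPS (⟨u, hWP hu⟩ : P).2⟩ : S) from rfl, hβP, hi, map_zpow, htw, inv_zpow]
      rfl
    · obtain ⟨y, hy, hyu⟩ := hu
      refine Subtype.ext ?_
      rw [show u = (⟨(y : Ω), hPS y.2⟩ : S) from Subtype.ext hyu.symm]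
      exact (hβP y).trans (by rw [htT y hy])
    · rintro _ ⟨y, -, rfl⟩
      exact y.2
    · constructor
      · rintro ⟨v, ⟨hv, v', hv', hvv⟩, hvy⟩
        obtain rfl : v = y := Subtype.ext hvy
        refine ⟨hv, ?_⟩
        rw [← hvv]
        show (((g : MulAut P)⁻¹ ((g : MulAut P) v') : P) : Ω) ∈ Z
        rw [MulAut.inv_apply_self]
        exact hv'
      · rintro ⟨h1, h2⟩
        exact ⟨y, ⟨h1, (g : MulAut P)⁻¹ y, h2, MulAut.apply_inv_self _ _ _⟩, rfl⟩
  -- automorphisms of `S` on the centre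
  set GS := F.autGroup S
  haveI := finite_mulAut S
  obtain ⟨RS, hRS⟩ := (isFullyAutomized_of_isFullyNormalized hS hF
    (P := S) ⟨le_rfl, fun Q' _ => by
      haveI : Finite ↥(normalizerIn S S) := finite_of_le (S := S) inf_le_left
      exact Subgroup.card_le_of_le (inf_le_left.trans (le_normalizerIn le_rfl))⟩).2
  have hZchar : ∀ (β : MulAut S) (u : S), (u : Ω) ∈ Z → (β u : Ω) ∈ Z := fun β u hu => ⟨(β u).2, fun s hs => by
    have h1 : β.symm ⟨s, hs⟩ * u = u * β.symm ⟨s, hs⟩ := Subtype.ext (hu.2 _ (β.symm ⟨s, hs⟩).2)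
    have := congrArg (fun v : S => (β v : Ω)) h1
    simpa using this⟩
  have hWchar : ∀ (β : MulAut S) (u : S), (u : Ω) ∈ W → (β u : Ω) ∈ W := fun β u hu =>
    hinvW S le_rfl β ⟨q₁, hQS hq₁⟩ ⟨q₂, hQS hq₂⟩ hq₁₂ u hu
  have hWpow : ∀ x ∈ W, x ^ p = 1 := fun x hx => by
    have := congrArg Subtype.val (pow_card_eq_one' (x := (⟨x, hx⟩ : W)))
    rwa [hWcard] at this
  have hkill : ∀ γ : GS, (∀ u : S, (u : Ω) ∈ W → (γ : MulAut S) u = u) →
      (∀ u : S, (u : Ω) ∈ Z → (((u⁻¹ * (γ : MulAut S) u : S)) : Ω) ∈ W) →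
      ∀ u : S, (u : Ω) ∈ Z → (γ : MulAut S) u = u := by
    intro γ hγW hγZ
    let K : Subgroup GS :=
      { carrier := {δ | ∀ u : S, (u : Ω) ∈ Z → (δ : MulAut S) u = u}
        one_mem' := fun u _ => rfl
        mul_mem' := fun {a b} ha hb u hu => by rw [Subgroup.coe_mul, MulAut.mul_apply, hb u hu, ha u hu]
        inv_mem' := fun {a} ha u hu => by
          conv_lhs => rw [← ha u hu]
          rw [Subgroup.coe_inv, MulAut.inv_apply_self] }
    haveI hKn : K.Normal := ⟨fun δ hδ c u hu => by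
      show (c : MulAut S) ((δ : MulAut S) ((c : MulAut S)⁻¹ u)) = u
      rw [hδ _ (hZchar _ u hu), MulAut.apply_inv_self]⟩
    have hRK : (RS : Subgroup GS) ≤ K := by
      rw [hRS]
      intro δ hδ u hu
      obtain ⟨s, hs, hv⟩ := (mem_autInducedBy_iff S S _).1 hδ
      refine Subtype.ext ?_
      rw [show ((δ : MulAut S) u : Ω) = s * u * s⁻¹ from hv u, hu.2 s hs, mul_inv_cancel_right]
    have hq : (QuotientGroup.mk' K γ) ^ p = 1 := by
      rw [← map_pow]
      refine (QuotientGroup.eq_one_iff _).2 fun u hu => ?_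
      set c := u⁻¹ * (γ : MulAut S) u
      have hiter : ∀ n : ℕ, ((γ ^ n : GS) : MulAut S) u = u * c ^ n := by
        intro n
        induction n with
        | zero => rw [pow_zero, pow_zero, mul_one]; rfl
        | succ n ih =>
          rw [pow_succ', Subgroup.coe_mul, MulAut.mul_apply, ih, map_mul, map_pow, hγW c (hγZ u hu),
            pow_succ', ← mul_assoc]
          congr 1
          exact (mul_inv_cancel_left u _).symm
      rw [hiter, show c ^ p = 1 from Subtype.ext (by rw [SubgroupClass.coe_pow]; exact hWpow _ (hγZ u hu)), mul_one]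
    have hcop : Nat.Coprime p (Nat.card (GS ⧸ K)) := by
      rw [← Subgroup.index_eq_card, hp'.coprime_iff_not_dvd]
      exact fun hd => RS.not_dvd_index (hd.trans (Subgroup.index_dvd_of_le hRK))
    have := pow_gcd_eq_one.2 ⟨hq, pow_card_eq_one' (x := QuotientGroup.mk' K γ)⟩
    rw [hcop, pow_one] at this
    exact (QuotientGroup.eq_one_iff _).1 this
  have hGood : ∀ T, Good F W Z T → (∀ (β : GS) (u : S), (u : Ω) ∈ T → ((β : MulAut S) u : Ω) ∈ T) ∧
      (∀ u ∈ T, u ∈ W → u = 1) := by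
    rintro T ⟨hTZ, hZT, t, htW, htT⟩
    have hdisj : ∀ u ∈ T, u ∈ W → u = 1 := fun u hu hu' => by
      refine eq_one_of_sq hp' hp2 (hWpow u hu') ?_
      have h1 := htT ⟨u, hWS hu'⟩ hu
      rw [htW ⟨u, hWS hu'⟩ hu'] at h1
      exact congrArg Subtype.val h1
    have hdec : ∀ u : S, (u : Ω) ∈ Z → ∃ v w : S, (v : Ω) ∈ T ∧ (w : Ω) ∈ W ∧ u = w * v := fun u hu => by
      obtain ⟨w, hw, v, hv, he⟩ := split_of_comm (fun a ha b hb => ((hTZ hb).2 a (hWS ha))) (hZT hu)
      exact ⟨⟨v, hZS (hTZ hv)⟩, ⟨w, hWS hw⟩, hv, hw, Subtype.ext he⟩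
    refine ⟨fun β u hu => ?_, hdisj⟩
    have hmod : ∀ u : S, (u : Ω) ∈ Z → (((u⁻¹ * ((t⁻¹ : GS) : MulAut S) u : S)) : Ω) ∈ W := fun u hu => by
      obtain ⟨v, w, hv, hw, rfl⟩ := hdec u hu
      have h1 : ((t⁻¹ : GS) : MulAut S) v = v := by
        conv_lhs => rw [← htT v hv]
        exact MulAut.inv_apply_self _ _ _
      have h2 : ((t⁻¹ : GS) : MulAut S) w = w⁻¹ := by
        have : (t : MulAut S) w⁻¹ = w := by rw [map_inv, htW w hw, inv_inv]
        conv_lhs => rw [← this]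
        exact MulAut.inv_apply_self _ _ _
      rw [map_mul, h1, h2, Subgroup.coe_mul, Subgroup.coe_inv, Subgroup.coe_mul, Subgroup.coe_mul,
        Subgroup.coe_inv, mul_inv_rev, mul_assoc, ← mul_assoc (w : Ω)⁻¹,
        (hTZ hv).2 _ (S.mul_mem (S.inv_mem w.2) (S.inv_mem w.2)), inv_mul_cancel_left]
      exact W.mul_mem (W.inv_mem hw) (W.inv_mem hw)
    have hmodt : ∀ u : S, (u : Ω) ∈ Z → (((u⁻¹ * (t : MulAut S) u : S)) : Ω) ∈ W := fun u hu => by
      have h := W.inv_mem (hmod _ (hZchar (t : MulAut S) u hu))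
      rw [Subgroup.coe_inv, MulAut.inv_apply_self] at h
      simpa using h
    have hWinv : ∀ u : S, (u : Ω) ∈ W → ((t⁻¹ : GS) : MulAut S) u = u⁻¹ := fun u hu => by
      have : (t : MulAut S) u⁻¹ = u := by rw [map_inv, htW u hu, inv_inv]
      conv_lhs => rw [← this]
      exact MulAut.inv_apply_self _ _ _
    have key := hkill (β * t * β⁻¹ * t⁻¹) (fun v hv => ?_) (fun v hv => ?_)
    · have h1 := key ((t : MulAut S) ((β : MulAut S) u)) (hZchar _ _ (hZchar _ u (hTZ hu)))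
      have h2 : (t : MulAut S) ((β : MulAut S) u) = (β : MulAut S) u := by
        rw [← h1]
        show (β : MulAut S) ((t : MulAut S) ((β : MulAut S)⁻¹ ((t : MulAut S)⁻¹ ((t : MulAut S) ((β : MulAut S) u))))) = _
        rw [MulAut.inv_apply_self, MulAut.inv_apply_self, htT u hu]
      obtain ⟨v, w, hv, hw, he⟩ := hdec ((β : MulAut S) u) (hZchar _ u (hTZ hu))
      rw [he, map_mul, htT v hv, htW w hw, mul_left_inj] at h2
      have hw1 : (w : Ω) = 1 := eq_one_of_sq hp' hp2 (hWpow _ hw) (congrArg Subtype.val h2)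
      rw [he, show w = 1 from Subtype.ext hw1, one_mul]
      exact hv
    · show (β : MulAut S) ((t : MulAut S) ((β : MulAut S)⁻¹ (((t⁻¹ : GS) : MulAut S) v))) = v
      rw [hWinv v hv, map_inv, map_inv, htW _ (hWchar _ v hv), inv_inv, MulAut.apply_inv_self]
    · show ((v⁻¹ * (β : MulAut S) ((t : MulAut S) ((β : MulAut S)⁻¹ (((t⁻¹ : GS) : MulAut S) v))) : S) : Ω) ∈ W
      set v₁ := ((t⁻¹ : GS) : MulAut S) v
      set v₂ := (β : MulAut S)⁻¹ v₁
      have h1 : (((v₂⁻¹ * (t : MulAut S) v₂ : S)) : Ω) ∈ W := hmodt v₂ (hZchar _ _ (hZchar _ v hv))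
      have h2 := W.mul_mem (hmod v hv) (hWchar (β : MulAut S) _ h1)
      rw [map_mul, map_inv, show (β : MulAut S) v₂ = v₁ from MulAut.apply_inv_self _ _ _, ← Subgroup.coe_mul,
        mul_assoc, mul_inv_cancel_left] at h2
      exact h2
  have huniq : ∀ T T', Good F W Z T → Good F W Z T' → T ≤ T' := by
    intro T T' hT hT' u hu
    obtain ⟨hinv, hdisj⟩ := hGood T hT
    obtain ⟨hT'Z, hZT', t, htW, htT⟩ := hT'
    obtain ⟨w, hw, v, hv, he⟩ := split_of_comm (fun a ha b hb => ((hT'Z hb).2 a (hWS ha))) (hZT' (hT.1 hu))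
    have h1 := hinv t ⟨u, hZS (hT.1 hu)⟩ hu
    rw [show (⟨u, hZS (hT.1 hu)⟩ : S) = ⟨w, hWS hw⟩ * ⟨v, hZS (hT'Z hv)⟩ from Subtype.ext he,
      map_mul, htW _ hw, htT _ hv] at h1
    have h2 := T.mul_mem hu (T.inv_mem h1)
    rw [he, Subgroup.coe_mul, Subgroup.coe_inv, mul_inv_rev, mul_assoc, mul_inv_cancel_left, inv_inv] at h2
    have hw1 : w = 1 := eq_one_of_sq hp' hp2 (hWpow w hw) (inv_eq_of_mul_eq_one_right (hdisj _ h2 (W.mul_mem hw hw)))
    rw [he, hw1, one_mul]
    exact hv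
  -- conclusion
  have hbot : ∀ D : Subgroup Ω, F.IsNormal D → D = ⊥ := fun D hD =>
    le_bot_iff.1 (hO ▸ (le_sSup hD : D ≤ sSup {Q : Subgroup Ω | F.IsNormal Q}))
  by_cases hE : ∃ P, F.IsEssential p P
  · obtain ⟨P₀, hP₀⟩ := hE
    obtain ⟨-, -, hTmk, g₀, hg₀⟩ := hess P₀ hP₀
    obtain ⟨T, hT, -, -⟩ := hTmk g₀ hg₀
    have hTn : F.IsNormal T := by
      refine isNormal_of_generators hS hF (hT.1.trans hZS) fun P hP => ?_
      rcases hP with rfl | hP
      · exact ⟨hT.1.trans hZS, fun α hα x hx => by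
          rw [autFun_apply α (hZS (hT.1 hx))]
          exact (hGood T hT).1 ⟨α, hα⟩ ⟨x, hZS (hT.1 hx)⟩ hx⟩
      obtain ⟨hWP, hZP, hTmk, g, y, hy, hgy⟩ := hess P hP
      refine ⟨hT.1.trans hZP, fun α hα x hx => ?_⟩
      rw [autFun_apply α (hZP (hT.1 hx))]
      have hmv : ∀ h : F.autGroup P, (∃ y : P, (y : Ω) ∈ W ∧ ((h : MulAut P) y : Ω) ∉ W) →
          ∀ v : P, (v : Ω) ∈ T → ((h : MulAut P) v : Ω) ∈ T := by
        intro h hh v hv
        obtain ⟨T₁, hT₁, -, h1⟩ := hTmk h hh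
        have hh' : ∃ y : P, (y : Ω) ∈ W ∧ (((h⁻¹ : F.autGroup P) : MulAut P) y : Ω) ∉ W := by
          by_contra hc
          push Not at hc
          obtain ⟨y, hy, hhy⟩ := hh
          haveI := finite_of_le hP.1.1
          set Wp := W.subgroupOf P
          have hmap : Wp.map ((h⁻¹ : F.autGroup P) : MulAut P).toMonoidHom = Wp :=
            Subgroup.eq_of_le_of_card_ge (by rintro _ ⟨u, hu, rfl⟩; exact hc u hu)
              (le_of_eq (Nat.card_congr (Wp.equivMapOfInjective _ (MulEquiv.injective _)).toEquiv))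
          obtain ⟨u, hu, huy⟩ := hmap.ge (show y ∈ Wp from hy)
          refine hhy ?_
          rw [← huy]
          show (((h : MulAut P) ((h : MulAut P)⁻¹ u)) : Ω) ∈ W
          rw [MulAut.apply_inv_self]
          exact hu
        obtain ⟨T₂, hT₂, -, h2⟩ := hTmk h⁻¹ hh'
        have hv2 := (h2 v).1 (huniq T T₂ hT hT₂ hv)
        rw [Subgroup.coe_inv, inv_inv] at hv2
        refine huniq T₁ T hT₁ hT ((h1 _).2 ⟨hv2.2, ?_⟩)
        rw [MulAut.inv_apply_self]
        exact hT.1 hv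
      by_cases hαm : ∃ y : P, (y : Ω) ∈ W ∧ (α y : Ω) ∉ W
      · exact hmv ⟨α, hα⟩ hαm ⟨x, hZP (hT.1 hx)⟩ hx
      · push Not at hαm
        have hstab : ∀ g' : F.autGroup P, (∃ y : P, (y : Ω) ∈ W ∧ ((g' : MulAut P) y : Ω) ∉ W) →
            ∀ v : P, (v : Ω) ∈ T → ∃ u : P, (u : Ω) ∈ T ∧ (g' : MulAut P) u = v := by
          intro g' hg' v hv
          haveI := finite_of_le hP.1.1
          set Tp := T.subgroupOf P
          have hmap : Tp.map (g' : MulAut P).toMonoidHom = Tp :=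
            Subgroup.eq_of_le_of_card_ge (by rintro _ ⟨u, hu, rfl⟩; exact hmv g' hg' u hu)
              (le_of_eq (Nat.card_congr (Tp.equivMapOfInjective _ (MulEquiv.injective _)).toEquiv))
          obtain ⟨u, hu, hu'⟩ := hmap.ge (show v ∈ Tp from hv)
          exact ⟨u, hu, hu'⟩
        obtain ⟨u, hu, hu'⟩ := hstab g ⟨y, hy, hgy⟩ ⟨x, hZP (hT.1 hx)⟩ hx
        rw [← hu']
        refine hmv (⟨α, hα⟩ * g) ⟨y, hy, fun hh => ?_⟩ u hu
        haveI := finite_of_le hP.1.1
        set Wp := W.subgroupOf P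
        have hmap : Wp.map α.toMonoidHom = Wp :=
          Subgroup.eq_of_le_of_card_ge (by rintro _ ⟨u, hu, rfl⟩; exact hαm u hu)
            (le_of_eq (Nat.card_congr (Wp.equivMapOfInjective _ α.injective).toEquiv))
        obtain ⟨k, hk, hk'⟩ := hmap.ge (show α ((g : MulAut P) y) ∈ Wp from hh)
        exact hgy (α.injective hk' ▸ hk)
    obtain rfl := hbot T hTn
    refine hzQ (?_ : z ∈ Q)
    have := hT.2.1 hz
    rw [sup_bot_eq] at this
    exact this.1
  · push Not at hE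
    have hWn : F.IsNormal W := by
      refine isNormal_of_generators hS hF hWS fun P hP => ?_
      rcases hP with rfl | hP
      · exact ⟨hWS, fun α hα x hx => by
          rw [autFun_apply α (hWS hx)]
          exact hWchar α ⟨x, hWS hx⟩ hx⟩
      · exact absurd hP (hE P)
    have := hWcard
    rw [hbot W hWn, Subgroup.card_bot] at this
    exact hp'.ne_one this.symm
end Cfsg.Agent.S5178
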