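import Cfsg.Statements.S5179
import Cfsg.Agent.Lib.Fusion.SmallControl

set_option autoImplicit false
universe u
open Cfsg

namespace Cfsg.Agent.S5179

open CfsgLib.Fusion
open Cfsg.FusionSystem (centralizerIn normalizerIn)
open CfsgLib.Fusion.SmallControl (stab stab_normal stab_pgroup)

/-- `p`-subgroups of a subgroup containing a Sylow subgroup are conjugate into it. -/
theorem exists_conj_le {G : Type*} [Group G] [Finite G] {p : ℕ} [Fact p.Prime] (R : Sylow p G)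
    {H : Subgroup G} (hR : (R : Subgroup G) ≤ H) {U : Subgroup G} (hU : IsPGroup p U) (hUH : U ≤ H) :
    ∃ e ∈ H, ∀ u ∈ U, e * u * e⁻¹ ∈ (R : Subgroup G) := by
  obtain ⟨T, hT⟩ := (hU.comap_of_injective H.subtype H.subtype_injective).exists_le_sylow
  obtain ⟨e, he⟩ := MulAction.exists_smul_eq H T (R.subtype hR)
  refine ⟨e, e.2, fun u hu => ?_⟩
  have h1 : (⟨u, hUH hu⟩ : H) ∈ (T : Subgroup H) := hT hu
  have h2 : e * ⟨u, hUH hu⟩ * e⁻¹ ∈ ((R.subtype hR : Sylow p H) : Subgroup H) := by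
    rw [← he, Sylow.coe_subgroup_smul]
    exact ⟨_, h1, rfl⟩
  exact h2

/-- A `p`-subgroup meeting the Sylow subgroup of a strongly embedded subgroup lies in it. -/
theorem le_of_meet {G : Type*} [Group G] [Finite G] {p : ℕ} [Fact p.Prime] (R : Sylow p G)
    {H : Subgroup G} (hH : ∀ U : Subgroup G, U ≤ R → U ≠ ⊥ → Subgroup.normalizer (U : Set G) ≤ H)
    (hR : (R : Subgroup G) ≤ H) {U : Subgroup G} (hU : IsPGroup p U) {a : G} (ha : a ∈ U)
    (haR : a ∈ (R : Subgroup G)) (ha1 : a ≠ 1) : U ≤ H := by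
  haveI : Nontrivial U := ⟨⟨⟨a, ha⟩, 1, fun h => ha1 (congrArg Subtype.val h)⟩⟩
  haveI := hU.center_nontrivial
  obtain ⟨⟨c, hc⟩, hc1⟩ := exists_ne (1 : Subgroup.center U)
  have hcc : ∀ u ∈ U, u * (c : G) = c * u := fun u hu =>
    congrArg Subtype.val (Subgroup.mem_center_iff.1 hc ⟨u, hu⟩)
  have hmem : ∀ {u v : G}, u * v = v * u → u ∈ Subgroup.normalizer (Subgroup.zpowers v : Set G) :=
    fun {u v} h => Subgroup.centralizer_le_normalizer _ fun w hw => by
      obtain ⟨i, rfl⟩ := Subgroup.mem_zpowers_iff.1 hw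
      exact ((show Commute u v from h).zpow_right i).eq.symm
  have hcH : (c : G) ∈ H := hH (Subgroup.zpowers a) (Subgroup.zpowers_le.2 haR)
    (by rw [Ne, Subgroup.zpowers_eq_bot]; exact ha1) (hmem (hcc a ha).symm)
  obtain ⟨e, he, hec⟩ := exists_conj_le R hR (U := Subgroup.zpowers (c : G))
    (hU.to_le (Subgroup.zpowers_le.2 c.2)) (Subgroup.zpowers_le.2 hcH)
  intro u hu
  have h1 : e * u * e⁻¹ ∈ H := by
    refine hH (Subgroup.zpowers (e * c * e⁻¹)) (Subgroup.zpowers_le.2 (hec _ (Subgroup.mem_zpowers _)))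
      ?_ (hmem ?_)
    · rw [Ne, Subgroup.zpowers_eq_bot, mul_inv_eq_one, mul_eq_left]
      exact fun h => hc1 (Subtype.ext (Subtype.ext h))
    · calc e * u * e⁻¹ * (e * c * e⁻¹) = e * (u * c) * e⁻¹ := by group
        _ = e * (c * u) * e⁻¹ := by rw [hcc u hu]
        _ = _ := by group
  have := H.mul_mem (H.mul_mem (H.inv_mem he) h1) he
  simpa [mul_assoc] using this


/-- Let p be an odd prime, S a finite p-group of order at least p⁶ containing an extraspecial subgroup Q of index p, and F a saturated fusion system over S whose largest subgroup normal in F is trivial. Then no proper subgroup of Q is essential in F: an essential subgroup of F contained in Q equals Q. -/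
theorem result {Ω : Type u} [Group Ω] {S : Subgroup Ω} [Finite S] (p : ℕ) [Fact p.Prime] (hp : Odd p) (hS : IsPGroup p S)
    (Q : Subgroup Ω) (hQS : Q ≤ S) (hQ : Cfsg.IsExtraspecial p ↥Q) (hQi : (Q.subgroupOf S).index = p)
    (h6 : p ^ 6 ≤ Nat.card S)
    (F : Cfsg.FusionSystem S) (hF : F.IsSaturated p) (hO : F.core = ⊥)
    (E : Subgroup Ω) (hEQ : E ≤ Q) (hE : F.IsEssential p E) : E = Q := by
  classical
  have hp' : p.Prime := Fact.out
  obtain ⟨⟨hQp, hfr, hcom⟩, hcard⟩ := hQ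
  haveI := finite_of_le hQS
  haveI := finite_of_le (hEQ.trans hQS)
  haveI := finite_mulAut E
  have hES : E ≤ S := hE.1.1
  set W := Q ⊓ Subgroup.centralizer (Q : Set Ω) with hWdef
  have hWmap : W = (Subgroup.center Q).map Q.subtype := by
    ext x
    constructor
    · intro hx
      exact ⟨⟨x, hx.1⟩, Subgroup.mem_center_iff.2 fun q => Subtype.ext (hx.2 q q.2), rfl⟩
    · rintro ⟨c, hc, rfl⟩
      exact ⟨c.2, fun q hq => congrArg Subtype.val (Subgroup.mem_center_iff.1 hc ⟨q, hq⟩)⟩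
  have hWcard : Nat.card W = p := by rw [hWmap, Subgroup.card_map_of_injective Q.subtype_injective, hcard]
  have hQcomm : ∀ a ∈ Q, ∀ b ∈ Q, a * b * a⁻¹ * b⁻¹ ∈ W := fun a ha b hb => by
    rw [hWmap]
    exact ⟨⟨a, ha⟩ * ⟨b, hb⟩ * ⟨a, ha⟩⁻¹ * ⟨b, hb⟩⁻¹, hcom.le
      (Subgroup.commutator_mem_commutator (Subgroup.mem_top _) (Subgroup.mem_top _)), rfl⟩
  by_contra hne
  obtain ⟨x, hxQ, hxE⟩ := SetLike.exists_of_lt (lt_of_le_of_ne hEQ hne)
  have hWE : W ≤ E := fun w hw => hE.1.2 E (isConj_refl hES) ⟨hQS hw.1, fun y hy => hw.2 y (hEQ hy)⟩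
  set G := F.autGroup E
  set Wp := W.subgroupOf E
  haveI : Wp.Normal := ⟨fun n hn u => by
    show (u : Ω) * n * (u : Ω)⁻¹ ∈ W
    rw [show (u : Ω) * n = n * u from hn.2 u (hEQ u.2), mul_inv_cancel_right]; exact hn⟩
  have hQN : ∀ q ∈ Q, q ∈ Subgroup.normalizer (E : Set Ω) := fun q hq =>
    mem_normalizer_of_conj_mem hES fun y hy => by
      have := E.mul_mem (hWE (hQcomm q hq y (hEQ hy))) hy
      rwa [inv_mul_cancel_right] at this
  have hα : ∀ q ∈ Q, ∃ α : G, (α : MulAut E) ∈ Cfsg.autInducedBy S E ∧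
      (∀ y : E, ((α : MulAut E) y : Ω) = q * y * q⁻¹) ∧ α ∈ stab G Wp := fun q hq => by
    have h := conjAut_mem_autInducedBy (K := S) (hQN q hq) (hQS hq)
    refine ⟨⟨_, autInducedBy_le_autGroup hES h⟩, h, conjAut_apply E (hQN q hq), fun z hz => Subtype.ext ?_, fun y => ?_⟩
    · show q * (z : Ω) * q⁻¹ = z
      rw [show q * (z : Ω) = z * q from hz.2 q hq, mul_inv_cancel_right]
    · show (y : Ω)⁻¹ * (q * y * q⁻¹) ∈ W
      have := hQcomm (y : Ω)⁻¹ (Q.inv_mem (hEQ y.2)) q hq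
      rw [inv_inv] at this
      simpa [mul_assoc] using this
  obtain ⟨g₀, hg₀⟩ : ∃ g : G, ∃ y ∈ Wp, (g : MulAut E) y ∉ Wp := by
    by_contra hh
    push Not at hh
    obtain ⟨α, -, hv, hst⟩ := hα x hxQ
    exact hxE (mem_of_mem_pCore hE.1 (isRadical_of_isEssential hS hE) ⟨hQS hxQ, hQN x hxQ⟩ hv
      (CfsgLib.Fitting.le_pCore (stab_normal G Wp fun β y hy => hh β y hy) (stab_pgroup G (hS.to_le hES) Wp) hst))
  obtain ⟨y₀, hy₀, hgy₀⟩ := hg₀
  have hgen : ∀ v ∈ W, v ≠ 1 → W ≤ Subgroup.zpowers v := fun v hv hv1 => by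
    haveI : Finite W := Nat.finite_of_card_ne_zero (hWcard ▸ hp'.ne_zero)
    refine (Subgroup.eq_of_le_of_card_ge (Subgroup.zpowers_le.2 hv) ?_).ge
    rw [hWcard, Nat.card_zpowers]
    refine (orderOf_eq_prime ?_ hv1).ge
    have := congrArg Subtype.val (pow_card_eq_one' (x := (⟨v, hv⟩ : W)))
    rwa [hWcard] at this
  have hEc : ∀ u v : E, u * v = v * u := fun u v => by
    by_contra huv
    refine hgy₀ ?_
    have h1 : ((u * v * u⁻¹ * v⁻¹ : E) : Ω) ≠ 1 := fun h => huv (by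
      have h' : u * v * u⁻¹ * v⁻¹ = 1 := Subtype.ext h
      rw [mul_inv_eq_one, mul_inv_eq_iff_eq_mul] at h'
      exact h')
    obtain ⟨i, hi⟩ := Subgroup.mem_zpowers_iff.1 (hgen _ (hQcomm u (hEQ u.2) v (hEQ v.2)) h1 hy₀)
    have : y₀ = (u * v * u⁻¹ * v⁻¹) ^ i := Subtype.ext (by simpa using hi.symm)
    rw [this, map_zpow, map_mul, map_mul, map_mul, map_inv, map_inv]
    exact Wp.zpow_mem (hQcomm _ (hEQ ((g₀ : MulAut E) u).2) _ (hEQ ((g₀ : MulAut E) v).2)) i
  letI : CommGroup E := { (inferInstance : Group E) with mul_comm := hEc }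
  have hQc : ∀ s ∈ Q, ∀ t ∈ Q, ∀ w ∈ W, s * (t * w) = s * (w * t) := fun s _ t ht w hw => by rw [hw.2 t ht]
  -- some element of `Q ∖ E` centralises any given element of `E`
  have hcent : ∀ v ∈ E, ∃ q ∈ Q, q ∉ E ∧ q * v = v * q := by
    intro v hv
    by_contra hc
    push Not at hc
    let f : Q →* W := MonoidHom.mk' (fun q => ⟨(q : Ω) * v * (q : Ω)⁻¹ * v⁻¹, hQcomm q q.2 v (hEQ hv)⟩)
      fun a b => Subtype.ext (by
        show (a : Ω) * b * v * ((a : Ω) * b)⁻¹ * v⁻¹ =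
          ((a : Ω) * v * (a : Ω)⁻¹ * v⁻¹) * ((b : Ω) * v * (b : Ω)⁻¹ * v⁻¹)
        have hb := hQcomm b b.2 v (hEQ hv)
        calc (a : Ω) * b * v * ((a : Ω) * b)⁻¹ * v⁻¹
            = (a : Ω) * ((b : Ω) * v * (b : Ω)⁻¹ * v⁻¹) * (v * (a : Ω)⁻¹ * v⁻¹) := by group
          _ = ((b : Ω) * v * (b : Ω)⁻¹ * v⁻¹) * a * (v * (a : Ω)⁻¹ * v⁻¹) := by rw [hb.2 a a.2]
          _ = ((b : Ω) * v * (b : Ω)⁻¹ * v⁻¹) * ((a : Ω) * v * (a : Ω)⁻¹ * v⁻¹) := by group
          _ = _ := (hb.2 _ (hQcomm a a.2 v (hEQ hv)).1).symm)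
    have hker : f.ker ≤ E.subgroupOf Q := fun q hq => by
      by_contra hqE
      exact hc q q.2 hqE (mul_inv_eq_iff_eq_mul.1 (mul_inv_eq_one.1 (congrArg Subtype.val hq)))
    have hQE : E.relIndex Q ∣ p := by
      refine (Subgroup.index_dvd_of_le hker).trans ?_
      rw [Subgroup.index_ker, ← hWcard]
      exact f.range.card_subgroup_dvd_card
    have hEn : (E.subgroupOf Q).Normal := ⟨fun n hn g => (Subgroup.mem_normalizer_iff.1 (hQN g g.2) n).1 hn⟩
    let h : E →* W := MonoidHom.mk' (fun e => ⟨x * e * x⁻¹ * (e : Ω)⁻¹, hQcomm x hxQ e (hEQ e.2)⟩)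
      fun a b => Subtype.ext (by
        show x * ((a : Ω) * b) * x⁻¹ * ((a : Ω) * b)⁻¹ =
          (x * a * x⁻¹ * (a : Ω)⁻¹) * (x * b * x⁻¹ * (b : Ω)⁻¹)
        have hb := hQcomm x hxQ b (hEQ b.2)
        calc x * ((a : Ω) * b) * x⁻¹ * ((a : Ω) * b)⁻¹
            = x * a * x⁻¹ * ((x * b * x⁻¹ * (b : Ω)⁻¹) * (a : Ω)⁻¹) := by group
          _ = x * a * x⁻¹ * ((a : Ω)⁻¹ * (x * b * x⁻¹ * (b : Ω)⁻¹)) := by rw [hb.2 _ (Q.inv_mem (hEQ a.2))]
          _ = _ := by group)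
    have hhker : h.ker ≤ Wp := by
      intro e he
      refine ⟨hEQ e.2, fun q hq => ?_⟩
      have hxe : x * (e : Ω) = e * x := mul_inv_eq_iff_eq_mul.1 (mul_inv_eq_one.1 (congrArg Subtype.val he))
      have hle : E ⊔ Subgroup.zpowers x ≤ Subgroup.centralizer {(e : Ω)} := sup_le
        (fun u hu => Subgroup.mem_centralizer_singleton_iff.2 (congrArg Subtype.val (hEc ⟨u, hu⟩ e)))
        (Subgroup.zpowers_le.2 (Subgroup.mem_centralizer_singleton_iff.2 hxe))
      have hQle : Q ≤ E ⊔ Subgroup.zpowers x := by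
        have hle' : E ⊔ Subgroup.zpowers x ≤ Q := sup_le hEQ (Subgroup.zpowers_le.2 hxQ)
        have h2 := Subgroup.relIndex_mul_relIndex E (E ⊔ Subgroup.zpowers x) Q le_sup_left hle'
        have hne1 : E.relIndex (E ⊔ Subgroup.zpowers x) ≠ 1 := fun h1 =>
          hxE (Subgroup.relIndex_eq_one.1 h1 (Subgroup.mem_sup_right (Subgroup.mem_zpowers x)))
        have hQp' : E.relIndex Q = p := (hp'.eq_one_or_self_of_dvd _ hQE).resolve_left fun h1 =>
          hxE (Subgroup.relIndex_eq_one.1 h1 hxQ)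
        rw [hQp'] at h2
        have h3 := (hp'.eq_one_or_self_of_dvd _ ⟨_, h2.symm⟩).resolve_left hne1
        rw [h3] at h2
        exact Subgroup.relIndex_eq_one.1 ((mul_eq_left₀ hp'.ne_zero).1 h2)
      exact Subgroup.mem_centralizer_singleton_iff.1 (hle (hQle hq))
    have hWpc : Nat.card Wp = p := by
      rw [Nat.card_congr (Subgroup.subgroupOfEquivOfLe hWE).toEquiv, hWcard]
    have hEcard : Nat.card E ∣ p * p := by
      rw [← Wp.card_mul_index, hWpc]
      refine mul_dvd_mul_left p ((Subgroup.index_dvd_of_le hhker).trans ?_)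
      rw [Subgroup.index_ker, ← hWcard]
      exact h.range.card_subgroup_dvd_card
    have hQcard : Nat.card Q ∣ p * p * p := by
      rw [← (E.subgroupOf Q).card_mul_index, Nat.card_congr (Subgroup.subgroupOfEquivOfLe hEQ).toEquiv]
      exact mul_dvd_mul hEcard hQE
    have hScard : Nat.card S ∣ p * p * p * p := by
      rw [← (Q.subgroupOf S).card_mul_index, hQi, Nat.card_congr (Subgroup.subgroupOfEquivOfLe hQS).toEquiv]
      exact mul_dvd_mul_right hQcard p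
    have := h6.trans (Nat.le_of_dvd (Nat.mul_pos (Nat.mul_pos (Nat.mul_pos hp'.pos hp'.pos) hp'.pos) hp'.pos) hScard)
    rw [show p * p * p * p = p ^ 4 by ring] at this
    exact absurd ((Nat.pow_le_pow_iff_right hp'.one_lt).1 this) (by norm_num)
  obtain ⟨R, hR⟩ := (isFullyAutomized_of_isFullyNormalized hS hF hE.2.1).2
  obtain ⟨hn, E₁, hE₁⟩ := hE.2.2
  have hI : (Cfsg.Inn E).subgroupOf G = ⊥ := by
    rw [eq_bot_iff]
    rintro α hα
    obtain ⟨u, hu⟩ := (hα : (α : MulAut E) ∈ Cfsg.Inn E)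
    refine Subgroup.mem_bot.2 (Subtype.ext (MulEquiv.ext fun y => ?_))
    rw [show (α : MulAut E) = MulAut.conj u from hu.symm]
    show u * y * u⁻¹ = y
    rw [mul_comm u y, mul_inv_cancel_right]
  let q := QuotientGroup.mk' ((Cfsg.Inn E).subgroupOf G)
  have hqi : Function.Injective q := (MonoidHom.ker_eq_bot_iff _).1 (by rw [QuotientGroup.ker_mk', hI])
  obtain ⟨E0, hE0, hEn⟩ := exists_of_isStronglyPEmbedded hE₁ (R.mapSurjective (f := q) (QuotientGroup.mk'_surjective _))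
  set H := E0.comap q
  have hnorm : ∀ U : Subgroup G, U ≤ R → U ≠ ⊥ → Subgroup.normalizer (U : Set G) ≤ H :=
    fun U hU hU0 n hn => hEn (U.map q)
      (Subgroup.map_mono hU)
      (fun h => hU0 ((Subgroup.map_eq_bot_iff_of_injective U hqi).1 h))
      (Subgroup.le_normalizer_map q ⟨n, hn, rfl⟩)
  obtain ⟨α₀, hα₀S, hα₀v, hα₀st⟩ := hα x hxQ
  have hne1 : ∀ {α : G} {r : Ω}, r ∈ Q → r ∉ E → (∀ y : E, ((α : MulAut E) y : Ω) = r * y * r⁻¹) → α ≠ 1 := by
    intro α r hr hrE hv h1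
    refine hrE (hE.1.2 E (isConj_refl hES) ⟨hQS hr, fun y hy => ?_⟩)
    have := hv ⟨y, hy⟩
    rw [h1, eq_mul_inv_iff_mul_eq] at this
    exact this
  have hRH : (R : Subgroup G) ≤ H := by
    refine fun r hr => hnorm R le_rfl (fun h0 => hne1 hxQ hxE hα₀v ?_) (Subgroup.le_normalizer hr)
    exact Subgroup.mem_bot.1 (h0 ▸ hR.ge hα₀S)
  -- every conjugate of the transvection group lies in `H`
  have hstabH : ∀ g : G, g * α₀ * g⁻¹ ∈ H := by
    intro g
    set D := Wp.map (g : MulAut E).toMonoidHom with hD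
    have hw : ∃ w ∈ W, w ≠ 1 := by
      by_contra hc
      push Not at hc
      have : W = ⊥ := eq_bot_iff.2 fun w hw => Subgroup.mem_bot.2 (hc w hw)
      rw [this, Subgroup.card_bot] at hWcard
      exact hp'.ne_one hWcard.symm
    obtain ⟨w, hw, hw1⟩ := hw
    obtain ⟨r, hr, hrE, hrv⟩ := hcent _ ((g : MulAut E) ⟨w, hWE hw⟩).2
    obtain ⟨α, hαS, hαv, -⟩ := hα r hr
    have hαD : ∀ v ∈ D, (α : MulAut E) v = v := by
      rintro _ ⟨u, hu, rfl⟩
      obtain ⟨i, hi⟩ := Subgroup.mem_zpowers_iff.1 (hgen w hw hw1 hu)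
      have hu' : u = (⟨w, hWE hw⟩ : E) ^ i := Subtype.ext (by simpa using hi.symm)
      show (α : MulAut E) ((g : MulAut E) u) = (g : MulAut E) u
      rw [hu', map_zpow, map_zpow]
      congr 1
      exact Subtype.ext (by rw [hαv, hrv, mul_inv_cancel_right])
    haveI : D.Normal := ⟨fun n hn u => by rwa [mul_comm u n, mul_inv_cancel_right]⟩
    have hn' : Subgroup.zpowers α ≤ Subgroup.normalizer (stab G D : Set G) := by
      refine Subgroup.zpowers_le.2 (Subgroup.mem_normalizer_fintype fun β hβ => ⟨fun v hv => ?_, fun y => ?_⟩)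
      · show (α : MulAut E) ((β : MulAut E) ((α : MulAut E)⁻¹ v)) = v
        have : (α : MulAut E)⁻¹ v = v := by
          conv_lhs => rw [← hαD v hv]
          rw [MulAut.inv_apply_self]
        rw [this, hβ.1 v hv, hαD v hv]
      · show y⁻¹ * (α : MulAut E) ((β : MulAut E) ((α : MulAut E)⁻¹ y)) ∈ D
        have h1 := hβ.2 ((α : MulAut E)⁻¹ y)
        have h2 := hαD _ h1
        rw [map_mul, map_inv, MulAut.apply_inv_self] at h2
        rw [h2]; exact h1
    have hαR : α ∈ (R : Subgroup G) := hR.ge hαS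
    have hsup : IsPGroup p ↥(stab G D ⊔ Subgroup.zpowers α) :=
      (stab_pgroup G (hS.to_le hES) D).to_sup_of_normal_left'
        (R.2.to_le (Subgroup.zpowers_le.2 hαR)) hn'
    refine le_of_meet R hnorm hRH hsup (Subgroup.mem_sup_right (Subgroup.mem_zpowers α)) hαR
      (hne1 hr hrE hαv) (Subgroup.mem_sup_left ⟨?_, fun y => ?_⟩)
    · rintro _ ⟨u, hu, rfl⟩
      show (g : MulAut E) ((α₀ : MulAut E) ((g : MulAut E)⁻¹ ((g : MulAut E) u))) = (g : MulAut E) u
      rw [MulAut.inv_apply_self, hα₀st.1 u hu]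
    · refine ⟨_, hα₀st.2 ((g : MulAut E)⁻¹ y), ?_⟩
      show (g : MulAut E) (((g : MulAut E)⁻¹ y)⁻¹ * (α₀ : MulAut E) ((g : MulAut E)⁻¹ y)) =
        y⁻¹ * (g : MulAut E) ((α₀ : MulAut E) ((g : MulAut E)⁻¹ y))
      rw [map_mul, map_inv, MulAut.apply_inv_self]
  -- Frattini
  set K := Subgroup.normalClosure ({α₀} : Set G)
  have hKH : K ≤ H := by
    refine (Subgroup.closure_le H).2 fun c hc => ?_
    obtain ⟨a, ha, hac⟩ := Group.mem_conjugatesOfSet_iff.1 hc
    obtain ⟨g, rfl⟩ := isConj_iff.1 hac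
    rw [Set.mem_singleton_iff.1 ha]
    exact hstabH g
  refine hE0 (Subgroup.comap_injective (QuotientGroup.mk'_surjective ((Cfsg.Inn E).subgroupOf G)) ?_)
  rw [Subgroup.comap_top]
  obtain ⟨T⟩ : Nonempty (Sylow p K) := inferInstance
  refine eq_top_iff.2 ((Sylow.normalizer_sup_eq_top T).ge.trans (sup_le ?_ hKH))
  have hTp : IsPGroup p ((T : Subgroup K).map K.subtype) := T.2.map _
  obtain ⟨e, he, heR⟩ := exists_conj_le R hRH hTp ((Subgroup.map_subtype_le _).trans hKH)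
  set U := ((T : Subgroup K).map K.subtype).map (MulAut.conj e).toMonoidHom with hU
  have hU0 : U ≠ ⊥ := by
    rw [hU, Ne, Subgroup.map_eq_bot_iff_of_injective _ (MulAut.conj e).injective,
      Subgroup.map_eq_bot_iff_of_injective _ K.subtype_injective]
    refine Sylow.ne_bot_of_dvd_card T ?_
    have hαK : α₀ ∈ K := Subgroup.subset_normalClosure rfl
    obtain ⟨k, hk⟩ := isPGroup_autInducedBy hS E ⟨_, hα₀S⟩
    have hd : orderOf (⟨α₀, hαK⟩ : K) ∣ p ^ k := orderOf_dvd_of_pow_eq_one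
      (Subtype.ext (Subtype.ext (show ((α₀ : MulAut E)) ^ p ^ k = 1 from congrArg Subtype.val hk)))
    obtain ⟨j, -, hj⟩ := (Nat.dvd_prime_pow hp').1 hd
    refine Dvd.dvd.trans ?_ (orderOf_dvd_natCard (⟨α₀, hαK⟩ : K))
    rw [hj]
    refine dvd_pow_self p fun h0 => hne1 hxQ hxE hα₀v ?_
    rw [h0, pow_zero, orderOf_eq_one_iff] at hj
    exact congrArg Subtype.val hj
  intro n hn
  have hmap : e * n * e⁻¹ ∈ Subgroup.normalizer (U : Set G) :=
    Subgroup.le_normalizer_map (MulAut.conj e).toMonoidHom ⟨n, hn, rfl⟩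
  have h1 := hnorm U (by rintro _ ⟨u, hu, rfl⟩; exact heR u hu) hU0 hmap
  have := H.mul_mem (H.mul_mem (H.inv_mem he) h1) he
  have e1 : e⁻¹ * (e * n * e⁻¹) * e = n := by group
  exact e1 ▸ this
end Cfsg.Agent.S5179
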