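import Cfsg.Statements.S5187
import Cfsg.Agent.Lib.Fusion.EssentialShapes

set_option autoImplicit false
universe u
open Cfsg

namespace Cfsg.Agent.S5187

open CfsgLib.Fusion.EssentialFlag

theorem card_zm (p n : ℕ) : Nat.card (Multiplicative (ZMod (p ^ n))) = p ^ n := by
  rw [Nat.card_congr Multiplicative.toAdd, Nat.card_zmod]

theorem pow_p {Y : Type*} [Group Y] {p : ℕ} (h : Nat.card Y = p ^ 1) (y : Y) : y ^ p = 1 := by
  rw [pow_one] at h
  rw [← h, pow_card_eq_one']

theorem split {p n k : ℕ} (hp : p.Prime) {H : Type*} (hn : 0 < n)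
    (hcard : Nat.card ((Multiplicative (ZMod (p ^ n)) × Multiplicative (ZMod (p ^ n))) × H) = p ^ k) :
    ∃ m, Nat.card H = p ^ m ∧ 2 * n + m = k := by
  rw [Nat.card_prod, Nat.card_prod, card_zm, ← pow_add] at hcard
  obtain ⟨m, hmk, hm⟩ := (Nat.dvd_prime_pow hp).1 ⟨_, (mul_comm _ _).trans hcard |>.symm⟩
  rw [hm, ← pow_add] at hcard
  have := Nat.pow_right_injective hp.two_le hcard
  exact ⟨m, hm, by omega⟩

theorem elementary_of_iso {Ω : Type*} [Group Ω] {P : Subgroup Ω} {p : ℕ} {X : Type*} [CommGroup X]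
    (e : P ≃* X) (hexp : ∀ x : X, x ^ p = 1) : Cfsg.IsElementaryAbelian p P := by
  refine ⟨⟨⟨fun a b => e.injective (by rw [map_mul, map_mul, mul_comm])⟩⟩, fun a ha => ?_⟩
  have : (⟨a, ha⟩ : P) ^ p = 1 := e.injective (by rw [map_pow, hexp, map_one])
  exact congrArg Subtype.val this


/-- Let F be a saturated fusion system over a finite p-group S and H an abelian essential subgroup that can be generated by two elements (its Frattini quotient has order at most p²). Then H is elementary abelian of order p², or p ≤ 3 and H is homocyclic of rank two, that is isomorphic to C_{pᵏ} × C_{pᵏ} for some k. -/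
theorem result {Ω : Type u} [Group Ω] {S : Subgroup Ω} [Finite S] (p : ℕ) [Fact p.Prime] (hS : IsPGroup p S)
    (F : Cfsg.FusionSystem S) (hF : F.IsSaturated p) (H : Subgroup Ω) (hH : F.IsEssential p H) (hab : IsMulCommutative ↥H) (hrk : (frattini ↥H).index ≤ p ^ 2) :
    (Cfsg.IsElementaryAbelian p H ∧ Nat.card H = p ^ 2) ∨
      (p ≤ 3 ∧ ∃ k : ℕ, Nonempty (↥H ≃* Multiplicative (ZMod (p ^ k) × ZMod (p ^ k)))) := by
  classical
  have := CfsgLib.Fusion.finite_of_le hH.1.1
  have hp : p.Prime := Fact.out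
  haveI := hab
  obtain ⟨n, X, _, hn, ⟨e⟩⟩ := repeated_of_abelian hS hF hH hab
  letI : CommGroup H := { (inferInstance : Group H) with mul_comm := hab.is_comm.comm }
  haveI : NeZero (p ^ n) := ⟨(pow_pos hp.pos n).ne'⟩
  haveI : Finite X := Finite.of_injective (fun x => e.symm (1, x)) fun a b h => congrArg Prod.snd (e.symm.injective h)
  have hX : Nat.card X = 1 := by
    by_contra hX
    have hXp : IsPGroup p X := (hS.to_le hH.1.1).of_injective
      (e.symm.toMonoidHom.comp (MonoidHom.inr (Multiplicative (ZMod (p ^ n)) × Multiplicative (ZMod (p ^ n))) X))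
      (fun a b h => congrArg Prod.snd (e.symm.injective h))
    obtain ⟨m, hm⟩ := hXp.exists_card_eq
    have hpd : p ∣ Nat.card X := by
      rcases Nat.eq_zero_or_pos m with rfl | h
      · exact absurd (hm.trans (pow_zero p)) hX
      · rw [hm]; exact dvd_pow_self p h.ne'
    have hk : ∀ (Y : Type) [Group Y] [Finite Y], p ∣ Nat.card Y → ∃ y : Y, y ^ p = 1 ∧ y ≠ 1 := by
      intro Y _ _ hY
      obtain ⟨y, hy⟩ := exists_prime_orderOf_dvd_card' p hY
      exact ⟨y, orderOf_dvd_iff_pow_eq_one.1 (dvd_of_eq hy), fun h => hp.one_lt.ne' (by rw [← hy, h, orderOf_one])⟩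
    obtain ⟨g, hg, hg1⟩ := hk (Multiplicative (ZMod (p ^ n))) (by rw [card_zm]; exact dvd_pow_self p hn.ne')
    obtain ⟨x, hx, hx1⟩ := hk X hpd
    have hfr : frattini H ≤ (powMonoidHom p : H →* H).range := by
      refine CfsgLib.Critical.frattini_le_of_elementary (p := p) _ ?_ fun v => ⟨v, rfl⟩
      rw [commutator_def, Subgroup.commutator_le]
      intro a _ b _
      rw [commutatorElement_eq_one_iff_mul_comm.2 (mul_comm a b)]
      exact one_mem _
    have hidx : (powMonoidHom p : H →* H).range.index = Nat.card (powMonoidHom p : H →* H).ker := by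
      have h2 := (powMonoidHom p : H →* H).range.card_mul_index
      have h3 := Subgroup.card_eq_card_quotient_mul_card_subgroup (powMonoidHom p : H →* H).ker
      rw [Nat.card_congr (QuotientGroup.quotientKerEquivRange (powMonoidHom p : H →* H)).toEquiv, ← h2] at h3
      exact Nat.eq_of_mul_eq_mul_left Nat.card_pos h3
    have hle : p ^ 3 ≤ (frattini H).index := by
      refine le_trans ?_ (Nat.le_of_dvd (Nat.pos_of_ne_zero Subgroup.index_ne_zero_of_finite)
        (Subgroup.index_dvd_of_le hfr))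
      rw [hidx]
      have hzpow : ∀ (Y : Type) [Group Y] (y : Y), y ^ p = 1 → ∀ v : Subgroup.zpowers y, (v : Y) ^ p = 1 := by
        intro Y _ y hy v
        obtain ⟨i, hi⟩ := Subgroup.mem_zpowers_iff.1 v.2
        rw [← hi, ← zpow_natCast, ← zpow_mul, mul_comm, zpow_mul, zpow_natCast, hy, one_zpow]
      refine le_trans ?_ (Nat.card_le_card_of_injective
        (fun v : (Subgroup.zpowers g × Subgroup.zpowers g) × Subgroup.zpowers x =>
          (⟨e.symm ((v.1.1, v.1.2), v.2), ?_⟩ : (powMonoidHom p : H →* H).ker)) fun a b hab' => ?_)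
      · rw [Nat.card_prod, Nat.card_prod, Nat.card_zpowers, Nat.card_zpowers,
          orderOf_eq_prime hg hg1, orderOf_eq_prime hx hx1]
        exact le_of_eq (by ring)
      · rw [MonoidHom.mem_ker, powMonoidHom_apply, ← map_pow, Prod.pow_mk, Prod.pow_mk,
          hzpow _ g hg, hzpow _ g hg, hzpow _ x hx]
        exact map_one e.symm
      · have := e.symm.injective (congrArg Subtype.val hab')
        simp only [Prod.mk.injEq] at this
        exact Prod.ext (Prod.ext (Subtype.ext this.1.1) (Subtype.ext this.1.2)) (Subtype.ext this.2)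
    have := Nat.pow_lt_pow_right hp.one_lt (show 2 < 3 by norm_num)
    omega
  haveI : Subsingleton X := (Nat.card_eq_one_iff_unique.1 hX).1
  haveI : Unique X := uniqueOfSubsingleton 1
  let e' := e.trans MulEquiv.prodUnique
  rcases (show n = 1 ∨ 2 ≤ n by omega) with rfl | hn2
  · left
    refine ⟨elementary_of_iso e' fun x => Prod.ext ?_ ?_, ?_⟩
    · show x.1 ^ p = 1
      exact pow_p (card_zm p 1) x.1
    · show x.2 ^ p = 1
      exact pow_p (card_zm p 1) x.2
    · rw [Nat.card_congr e'.toEquiv, Nat.card_prod, card_zm, pow_one, sq]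
  · exact .inr ⟨le_three_of_homocyclic hS hF hH hn2 e', n, ⟨e'.trans (MulEquiv.prodMultiplicative _ _).symm⟩⟩

end Cfsg.Agent.S5187
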