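import Cfsg.Statements.S5188
import Cfsg.Agent.Lib.Fusion.EssentialShapes

set_option autoImplicit false
universe u
open Cfsg

namespace Cfsg.Agent.S5188

open CfsgLib.Fusion.EssentialFlag

theorem card_zm (p n : ℕ) : Nat.card (Multiplicative (ZMod (p ^ n))) = p ^ n := by
  rw [Nat.card_congr Multiplicative.toAdd, Nat.card_zmod]

theorem pow_p {Y : Type*} [Group Y] {p : ℕ} (h : Nat.card Y = p ^ 1) (y : Y) : y ^ p = 1 := by
  rw [pow_one] at h
  rw [← h, pow_card_eq_one']

theorem split {p n k : ℕ} (hp : p.Prime) {H : Type*} (hn : 0 < n)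
    (hcard : Nat.card ((Multiplicative (ZMod (p ^ n)) × Multiplicative (ZMod (p ^ n))) × H) = p ^ k) :
    ∃ m, Nat.card H = p ^ m ∧ 2 * n + m = k := by
  rw [Nat.card_prod, Nat.card_prod, card_zm, ← pow_add] at hcard
  obtain ⟨m, hmk, hm⟩ := (Nat.dvd_prime_pow hp).1 ⟨_, (mul_comm _ _).trans hcard |>.symm⟩
  rw [hm, ← pow_add] at hcard
  have := Nat.pow_right_injective hp.two_le hcard
  exact ⟨m, hm, by omega⟩

theorem elementary_of_iso {Ω : Type*} [Group Ω] {P : Subgroup Ω} {p : ℕ} {X : Type*} [CommGroup X]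
    (e : P ≃* X) (hexp : ∀ x : X, x ^ p = 1) : Cfsg.IsElementaryAbelian p P := by
  refine ⟨⟨⟨fun a b => e.injective (by rw [map_mul, map_mul, mul_comm])⟩⟩, fun a ha => ?_⟩
  have : (⟨a, ha⟩ : P) ^ p = 1 := e.injective (by rw [map_pow, hexp, map_one])
  exact congrArg Subtype.val this


/-- Let F be a saturated fusion system over a finite p-group S and H an essential subgroup of order p⁴. Then H is isomorphic to one of: C_p⁴ or C_{p²} × C_p × C_p (any p); C_{p²} × C_{p²} with p ∈ {2, 3}; p^{1+2}_+ × C_p with p odd (the direct product of an extraspecial group of order p³ and exponent p with a group of order p); Q₈ × C₂ (p = 2); or the non-abelian group of order p⁴ of exponent p² whose centre is cyclic of order p² (the central product of an extraspecial group of order p³ with a cyclic group of order p²; for p = 2 this is D₈ ∘ C₄). -/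
theorem result {Ω : Type u} [Group Ω] {S : Subgroup Ω} [Finite S] (p : ℕ) [Fact p.Prime] (hS : IsPGroup p S)
    (F : Cfsg.FusionSystem S) (hF : F.IsSaturated p) (H : Subgroup Ω) (hH : F.IsEssential p H) (hcard : Nat.card H = p ^ 4) :
    Cfsg.IsElementaryAbelian p H ∨
      Nonempty (↥H ≃* Multiplicative (ZMod (p ^ 2) × ZMod p × ZMod p)) ∨
      ((p = 2 ∨ p = 3) ∧ Nonempty (↥H ≃* Multiplicative (ZMod (p ^ 2) × ZMod (p ^ 2)))) ∨
      (Odd p ∧ ∃ (E : Type) (_ : Group E) (_ : Finite E), Cfsg.IsExtraspecial p E ∧ Nat.card E = p ^ 3 ∧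
        (∀ x : E, x ^ p = 1) ∧ Nonempty (↥H ≃* E × Multiplicative (ZMod p))) ∨
      (p = 2 ∧ Nonempty (↥H ≃* QuaternionGroup 2 × Multiplicative (ZMod 2))) ∨
      (¬ IsMulCommutative ↥H ∧ (∀ x ∈ H, x ^ (p ^ 2) = 1) ∧ IsCyclic ↥(Subgroup.center ↥H) ∧
        Nat.card (Subgroup.center ↥H) = p ^ 2) := by
  classical
  have := CfsgLib.Fusion.finite_of_le hH.1.1
  have hp : p.Prime := Fact.out
  by_cases hab : ∀ a b : H, a * b = b * a
  · obtain ⟨n, X, _, hn, ⟨e⟩⟩ := repeated_of_abelian hS hF hH ⟨⟨hab⟩⟩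
    haveI : NeZero (p ^ n) := ⟨(pow_pos hp.pos n).ne'⟩
    haveI : Finite X := Finite.of_injective (fun x => e.symm (1, x)) fun a b h => congrArg Prod.snd (e.symm.injective h)
    obtain ⟨m, hm, hnm⟩ := split hp hn (by rw [← Nat.card_congr e.toEquiv, hcard])
    rcases (show (n = 1 ∧ m = 2) ∨ (n = 2 ∧ m = 0) by omega) with ⟨rfl, rfl⟩ | ⟨rfl, rfl⟩
    · by_cases hc : IsCyclic X
      · refine .inr (.inl ?_)
        have c1 : Multiplicative (ZMod (p ^ 1)) ≃* Multiplicative (ZMod p) :=
          (ZMod.ringEquivCongr (pow_one p)).toAddEquiv.toMultiplicative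
        have c2 : X ≃* Multiplicative (ZMod (p ^ 2)) :=
          (zmodCyclicMulEquiv hc).symm.trans
            (ZMod.ringEquivCongr hm).toAddEquiv.toMultiplicative
        exact ⟨e.trans ((MulEquiv.prodCongr (MulEquiv.prodCongr c1 c1) c2).trans
          (MulEquiv.prodComm.trans ((MulEquiv.prodCongr (MulEquiv.refl _)
            (MulEquiv.prodMultiplicative _ _).symm).trans (MulEquiv.prodMultiplicative _ _).symm)))⟩
      · refine .inl (elementary_of_iso e fun x => Prod.ext (Prod.ext ?_ ?_) ?_)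
        · show x.1.1 ^ p = 1
          exact pow_p (card_zm p 1) x.1.1
        · show x.1.2 ^ p = 1
          exact pow_p (card_zm p 1) x.1.2
        · show x.2 ^ p = 1
          by_contra hne
          exact hc (isCyclic_of_orderOf_eq_card x.2 (by
            rw [hm]
            exact orderOf_eq_prime_pow (n := 1) (fun e1 => hne (by simpa using e1)) (by
              show x.2 ^ p ^ (1 + 1) = 1
              rw [show p ^ (1 + 1) = Nat.card X from hm.symm, pow_card_eq_one'])))
    · haveI : Subsingleton X := (Nat.card_eq_one_iff_unique.1 (by rw [hm, pow_zero])).1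
      haveI : Unique X := uniqueOfSubsingleton 1
      let e' := e.trans MulEquiv.prodUnique
      have h3 := le_three_of_homocyclic hS hF hH le_rfl e'
      refine .inr (.inr (.inl ⟨?_, ⟨e'.trans (MulEquiv.prodMultiplicative _ _).symm⟩⟩))
      have := hp.two_le
      omega
  · rcases CfsgLib.Fusion.EssentialShapes.shape_four hcard hab (not_hasFlag hS hF hH) with h | h | ⟨he, hc, hz⟩
    · exact .inr (.inr (.inr (.inl h)))
    · exact .inr (.inr (.inr (.inr (.inl h))))
    · exact .inr (.inr (.inr (.inr (.inr ⟨fun hcomm => hab hcomm.is_comm.comm,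
        fun x hx => congrArg Subtype.val (he ⟨x, hx⟩), hc, hz⟩))))

end Cfsg.Agent.S5188
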