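import Cfsg.Statements.S5200
import Cfsg.Agent.Lib.Fusion.NormalCentralizerOdd

set_option autoImplicit false
open Cfsg CfsgLib.Fusion CfsgLib.Fusion.NormalCentralizer
open scoped commutatorElement

namespace Cfsg.Agent.S5200

/-- Let F be a saturated fusion system over a finite p-group S and E a normal subsystem of F over T whose centralizer in S lies in T: every subgroup Y of C_S(T) such that E is contained in the centralizer fusion system of Y in F satisfies Y ≤ T. Then T·C_S(T)/T is abelian (the commutator subgroup of T·C_S(T) lies in T), and if p is odd then C_S(T) ≤ T. -/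
theorem result {Ω : Type*} [Group Ω] {S : Subgroup Ω} [Finite S] (p : ℕ) [Fact p.Prime] (hS : IsPGroup p S) (F : Cfsg.FusionSystem S) (hF : F.IsSaturated p) {T : Subgroup Ω} (E : Cfsg.FusionSystem T) (hE : E.IsNormalIn F p) (hCE : ∀ Y : Subgroup Ω, Y ≤ Cfsg.FusionSystem.centralizerIn S T → (∀ C : Cfsg.FusionSystem (Cfsg.FusionSystem.centralizerIn S Y), F.IsCentralizerSystem Y C → E.IsSubsystemOf C) → Y ≤ T) : ⁅T ⊔ Cfsg.FusionSystem.centralizerIn S T, T ⊔ Cfsg.FusionSystem.centralizerIn S T⁆ ≤ T ∧ (p ≠ 2 → Cfsg.FusionSystem.centralizerIn S T ≤ T) := by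
  have hTS : T ≤ S := hE.1.2.2.2.1.1
  have hX : centE E F p hTS ≤ T := hCE _ (centE_le hTS) fun C hC P φ hφ =>
    (hC P).symm ▸ centralizes_centE hS hF hE P hφ
  have hcomm : ∀ a ∈ FusionSystem.centralizerIn S T, ∀ b ∈ FusionSystem.centralizerIn S T,
      ⁅a, b⁆ ∈ T := fun a ha b hb =>
    hX (NormalCentralizerOdd.commutator_mem_centE hE ha hb)
  refine ⟨?_, fun hp c hc => ?_⟩
  · have hN : FusionSystem.centralizerIn S T ≤ Subgroup.normalizer (T : Set Ω) :=
      inf_le_right.trans (Subgroup.centralizer_le_normalizer _)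
    refine Subgroup.commutator_le.2 fun x hx y hy => ?_
    rw [← SetLike.mem_coe, Subgroup.coe_mul_of_right_le_normalizer_left T _ hN] at hx hy
    obtain ⟨t, ht, a, ha, rfl⟩ := hx
    obtain ⟨u, hu, b, hb, rfl⟩ := hy
    have c1 : Commute t a := ha.2 t ht
    have c2 : Commute t b := hb.2 t ht
    have c3 : Commute u a := ha.2 u hu
    have c4 : Commute u b := hb.2 u hu
    show ⁅t * a, u * b⁆ ∈ T
    have e : ⁅t * a, u * b⁆ = ⁅t, u⁆ * ⁅a, b⁆ := by
      simp only [commutatorElement_def, mul_inv_rev]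
      calc t * a * (u * b) * (a⁻¹ * t⁻¹) * (b⁻¹ * u⁻¹)
          = t * (a * u) * (b * a⁻¹) * (t⁻¹ * b⁻¹) * u⁻¹ := by group
        _ = t * u * (a * b * a⁻¹ * b⁻¹) * t⁻¹ * u⁻¹ := by
            rw [← c3.eq, c2.inv_inv.eq]; group
        _ = t * u * ((a * b * a⁻¹ * b⁻¹) * (t⁻¹ * u⁻¹)) := by group
        _ = t * u * ((t⁻¹ * u⁻¹) * (a * b * a⁻¹ * b⁻¹)) := by
            have k : Commute (a * b * a⁻¹ * b⁻¹) (t⁻¹ * u⁻¹) :=
              (((c1.symm.mul_left c2.symm).mul_left c1.symm.inv_left).mul_left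
                c2.symm.inv_left).inv_right.mul_right
              (((c3.symm.mul_left c4.symm).mul_left c3.symm.inv_left).mul_left
                c4.symm.inv_left).inv_right
            rw [k.eq]
        _ = t * u * t⁻¹ * u⁻¹ * (a * b * a⁻¹ * b⁻¹) := by group
    rw [e]
    refine T.mul_mem ?_ (hcomm a ha b hb)
    rw [commutatorElement_def]
    exact T.mul_mem (T.mul_mem (T.mul_mem ht hu) (T.inv_mem ht)) (T.inv_mem hu)
  · obtain ⟨v, hv, hEv, m, hm, hvT⟩ := NormalCentralizerOdd.exists_centralised hp hS hF hE hc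
    have hvT' : v ∈ T := hCE _ (Subgroup.zpowers_le.2 hv) (fun C hC P φ hφ =>
      (hC P).symm ▸ hEv P hφ) (Subgroup.mem_zpowers v)
    have hcm : c ^ m ∈ T := by
      have h := T.mul_mem hvT' (T.inv_mem hvT)
      simpa using h
    obtain ⟨k, hk⟩ := hS ⟨c, hc.1⟩
    have hk' : c ^ p ^ k = 1 := congrArg Subtype.val hk
    have hco : Nat.Coprime m (p ^ k) :=
      (((Fact.out : p.Prime).coprime_iff_not_dvd.2 hm).symm).pow_right k
    have hg : c ^ (m.gcd (p ^ k) : ℤ) ∈ T := by
      rw [Nat.gcd_eq_gcd_ab, zpow_add, zpow_mul, zpow_mul, zpow_natCast, zpow_natCast, hk',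
        one_zpow, mul_one]
      exact T.zpow_mem hcm _
    rwa [hco.gcd_eq_one, Nat.cast_one, zpow_one] at hg

end Cfsg.Agent.S5200
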