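import Cfsg.Statements.S5201
import Cfsg.Agent.Lib.Fusion.EnvelopeFull

set_option autoImplicit false
open Cfsg

namespace Cfsg.Agent.S5201

/-- A reduction to normal subsystems. Let F be a saturated fusion system over a finite p-group S and E a normal subsystem of F over T whose centralizer in S lies in T (every subgroup Y of C_S(T) with E contained in the centralizer fusion system of Y in F satisfies Y ≤ T), and suppose Aut_F(T)/Aut_E(T) is p-solvable. Then F and E have the same residual limit: if F∞ is the residual limit of F (reached by alternately passing to the p-residual and the p'-residual subsystem until nothing changes) and E∞ that of E, then F∞ and E∞ have the same maps. -/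
theorem result {Ω : Type*} [Group Ω] {S : Subgroup Ω} [Finite S] (p : ℕ) [Fact p.Prime] (hS : IsPGroup p S) (F : Cfsg.FusionSystem S) (hF : F.IsSaturated p) {T : Subgroup Ω} (E : Cfsg.FusionSystem T) (hE : E.IsNormalIn F p) (hCE : ∀ Y : Subgroup Ω, Y ≤ Cfsg.FusionSystem.centralizerIn S T → (∀ C : Cfsg.FusionSystem (Cfsg.FusionSystem.centralizerIn S Y), F.IsCentralizerSystem Y C → E.IsSubsystemOf C) → Y ≤ T) [hn : ((E.autGroup T).subgroupOf (F.autGroup T)).Normal] (hsolv : Cfsg.IsPSolvable p (↥(F.autGroup T) ⧸ (E.autGroup T).subgroupOf (F.autGroup T))) {U V : Subgroup Ω} (Finf : Cfsg.FusionSystem U) (hFinf : Finf.IsResidualLimitOf F p) (Einf : Cfsg.FusionSystem V) (hEinf : Einf.IsResidualLimitOf E p) : ∀ P : Subgroup Ω, Finf.Hom P = Einf.Hom P := by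
  obtain ⟨G, hG, hGA⟩ := CfsgLib.Fusion.Envelope.exists_envelope hS hF hE hsolv
  have hCE' : CfsgLib.Fusion.NormalCentralizer.centE E F p hE.1.2.2.2.1.1 ≤ T :=
    hCE _ (CfsgLib.Fusion.NormalCentralizer.centE_le _) fun C hC P φ hφ =>
      (hC P).symm ▸ CfsgLib.Fusion.NormalCentralizer.centralizes_centE hS hF hE P hφ
  have hFn := (CfsgLib.Fusion.Envelope.stage_self hS hE).normal
  have hIn := CfsgLib.Fusion.Envelope.limit_normal hFinf hS hF hFn
  obtain ⟨h1, h2⟩ := CfsgLib.Fusion.Envelope.limit_stable hFinf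
  have hle := hG.limit_le Finf hFinf
  have hUT : U ≤ T := h1.symm.le.trans ((CfsgLib.Fusion.PowerIndex.hyperfocal_mono hle).trans
    (CfsgLib.Fusion.Envelope.hyperfocal_envelope_le hS hF hE hG hGA hCE'))
  have hsub : Finf.IsSubsystemOf E := fun P φ hφ => by
    have hm := CfsgLib.Fusion.Envelope.isMap_of_envelope hS hF hE hG hGA
      ((Finf.le_of_mem hφ).1.trans hUT)
      (CfsgLib.Fusion.isMap_of_subsystem hle (CfsgLib.Fusion.isMap_homFun hφ))
    exact (CfsgLib.Fusion.mem_hom_iff φ).2 hm
  intro P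
  exact Set.Subset.antisymm
    (fun φ hφ => CfsgLib.Fusion.Envelope.limit_mono hEinf hS hF hIn hE hsub
      (.stable Finf p h1 h2) P hφ)
    fun φ hφ => CfsgLib.Fusion.Envelope.limit_mono hFinf hS hF hE hFn hE.1.2.2.1 hEinf P hφ

end Cfsg.Agent.S5201
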