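import Cfsg.Statements.S5212
import Cfsg.Agent.Lib.Fusion.MetacyclicTwo
import Cfsg.Agent.Lib.Fusion.MetacyclicTwoAut
import Cfsg.Agent.Lib.Fusion.Solvable
import Cfsg.Agent.Lib.Fusion.Transport

set_option autoImplicit false
open Cfsg

namespace Cfsg.Agent.S5212

open CfsgLib.Fusion Cfsg.FusionSystem

/-- Let S be a finite metacyclic 2-group that is not homocyclic abelian (a direct product of cyclic groups of one common order), not dihedral, not semidihedral and not generalized quaternion. Then every saturated fusion system over S is the inner fusion system of S. -/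
theorem result {Ω : Type*} [Group Ω] {S : Subgroup Ω} [Finite S] (hS : IsPGroup 2 S) (F : Cfsg.FusionSystem S) (hF : F.IsSaturated 2) (hm : Cfsg.IsMetacyclic ↥S) (hh : ¬ ∃ n k : ℕ, Nonempty (↥S ≃* Multiplicative (Fin k → ZMod (2 ^ n)))) (hd : ¬ ∃ m : ℕ, Nonempty (↥S ≃* DihedralGroup m)) (hq : ¬ ∃ m : ℕ, Nonempty (↥S ≃* QuaternionGroup m)) (hsd : ¬ Cfsg.IsQuasiDihedral ↥S) : ∀ P : Subgroup Ω, F.Hom P = (Cfsg.innerFusionSystem S).Hom P := by
  haveI : Fact (Nat.Prime 2) := ⟨Nat.prime_two⟩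
  have hN : F.IsNormal S :=
    isNormal_of_metacyclic_two hS hF (stronglyClosed_top F) hm hd hq hsd
  have hA : IsPGroup 2 (MulAut S) := by
    by_contra h
    rcases homocyclic_or_quaternion_of_not_isPGroup hS hm h with ⟨n, -, he⟩ | he
    · exact hh ⟨n, 2, he⟩
    · exact hq ⟨2, he⟩
  have hauts : AutsPGroup F 2 := by
    intro A hA' a
    obtain ⟨g, hg, hag, hgS⟩ := (isNormal_iff.1 hN).2 A _ ((mem_autGroup_iff hA' a.1).1 a.2).isMap
    rw [sup_eq_right.2 hA'] at hg
    obtain ⟨φ, -, hφ⟩ := hg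
    have hmem : ∀ x : S, φ x ∈ S := fun x => by
      rw [hφ]; exact hgS.subset ⟨_, x.2, rfl⟩
    have hsurj : Function.Surjective (φ.codRestrict S hmem) := fun y => by
      obtain ⟨x, hx, hxy⟩ := hgS.symm.subset y.2
      exact ⟨⟨x, hx⟩, Subtype.ext ((hφ _).trans hxy)⟩
    let α : MulAut S := MulEquiv.ofBijective _ ⟨Finite.injective_iff_surjective.2 hsurj, hsurj⟩
    obtain ⟨m, hm'⟩ := hA α
    refine ⟨m, Subtype.ext (MulEquiv.ext fun x => Subtype.ext ?_)⟩
    have key : ∀ k : ℕ, (((a : MulAut A) ^ k) x : Ω) = (α ^ k) ⟨x, hA' x.2⟩ := by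
      intro k
      induction k with
      | zero => rfl
      | succ k ih =>
        rw [pow_succ', pow_succ', MulAut.mul_apply, MulAut.mul_apply]
        show _ = (φ ((α ^ k) ⟨x, hA' x.2⟩) : Ω)
        rw [hφ, ← ih, hag _ (((a : MulAut A) ^ k) x).2, autFun_coe]
    rw [SubgroupClass.coe_pow, key, hm', MulAut.one_apply]
    rfl
  intro P
  exact hom_eq_of_isMap_iff fun f =>
    ⟨hauts.le_inner hS hF P f, fun ⟨φ, hφ, hv⟩ => ⟨φ, exists_le_inner F hφ, hv⟩⟩
end Cfsg.Agent.S5212
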