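import Cfsg.Statements.S5213
import Cfsg.Agent.Lib.Fusion.Normal
import Cfsg.Agent.Lib.TwoRank.SylowRankTwo.Main

set_option autoImplicit false
set_option linter.style.haveILetI false
open Cfsg

namespace Cfsg.Agent.S5213

/-- Let S be a finite 2-group of 2-rank 2 (it has an elementary abelian subgroup of order 4 and none of order 8) and F a saturated fusion system over S with trivial centre. Then S is dihedral, semidihedral, wreathed, homocyclic abelian (a direct product of cyclic groups of one common order), or isomorphic to a Sylow 2-subgroup of the projective special unitary group PSU₃(4) (realised over the field with 16 elements). -/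
theorem result {Ω : Type*} [Group Ω] {S : Subgroup Ω} [Finite S] (hS : IsPGroup 2 S) (F : Cfsg.FusionSystem S) (hF : F.IsSaturated 2) (hr : Cfsg.PRankAtLeast 2 2 ↥S ∧ ¬ Cfsg.PRankAtLeast 2 3 ↥S) (hZ : F.center = ⊥) {K : Type*} [Field K] [Fintype K] (hK : Fintype.card K = 16) : (∃ m : ℕ, Nonempty (↥S ≃* DihedralGroup m)) ∨ Cfsg.IsQuasiDihedral ↥S ∨ Cfsg.IsWreathed ↥S ∨ (∃ n k : ℕ, Nonempty (↥S ≃* Multiplicative (Fin k → ZMod (2 ^ n)))) ∨ ∃ T : Sylow 2 (Cfsg.PSU 3 K 4), Nonempty (↥S ≃* ↥(T : Subgroup (Cfsg.PSU 3 K 4))) := by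
  classical
  haveI : Fact (Nat.Prime 2) := ⟨Nat.prime_two⟩
  have h2 : Cfsg.PRankLE 2 2 S := by
    intro A hAc hA2
    obtain ⟨i, hi⟩ := IsPGroup.iff_card.mp (hS.to_subgroup A)
    rw [hi]
    refine Nat.pow_le_pow_right two_pos ?_
    by_contra hlt
    exact hr.2 ⟨A, hAc, hA2, hi ▸ Nat.pow_le_pow_right two_pos (by omega)⟩
  have h1 : ¬ Cfsg.PRankLE 2 1 S := by
    obtain ⟨A, hAc, hA2, hA⟩ := hr.1
    intro h
    have := h A hAc hA2
    norm_num at hA this
    omega
  have hfix : ∀ z : S, z * z = 1 → z ≠ 1 → (∀ g : S, g * z = z * g) →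
      ∃ f, CfsgLib.Fusion.IsMap F (Subgroup.zpowers (z : Ω)) f ∧ f z ≠ z := by
    intro z hz hz1 _
    by_contra hcon
    push Not at hcon
    have hc : F.IsCentral (Subgroup.zpowers (z : Ω)) := by
      refine CfsgLib.Fusion.isCentral_of_fixed hS hF (Subgroup.zpowers_le.mpr z.2) fun P f hf x hx hxz => ?_
      rcases CfsgLib.SylowRankTwo.pair_eq (congrArg Subtype.val hz) hxz with rfl | rfl
      · exact hf.map_one
      · exact hcon f (hf.mono (Subgroup.zpowers_le.mpr hx))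
    have hle : Subgroup.zpowers (z : Ω) ≤ F.center := le_sSup hc
    rw [hZ] at hle
    exact hz1 (Subtype.ext (Subgroup.mem_bot.mp (hle (Subgroup.mem_zpowers _))))
  obtain ⟨T⟩ : Nonempty (Sylow 2 (Cfsg.PSU 3 K 4)) := inferInstance
  rcases CfsgLib.SylowRankTwo.shape_of_fusion hS hF h2 h1 hfix hK T with
    (⟨m, -, h⟩ | h) | h | ⟨n, -, ⟨e⟩⟩ | h
  · exact Or.inl ⟨m, h⟩
  · exact Or.inr (Or.inl h)
  · exact Or.inr (Or.inr (Or.inl h))
  · exact Or.inr (Or.inr (Or.inr (Or.inl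
      ⟨n, 2, ⟨e.trans (RingEquiv.piFinTwo fun _ => ZMod (2 ^ n)).toAddEquiv.symm.toMultiplicative⟩⟩)))
  · exact Or.inr (Or.inr (Or.inr (Or.inr ⟨T, h⟩)))

end Cfsg.Agent.S5213
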