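import Cfsg.Statements.S5214
import Cfsg.Agent.S1137
import Cfsg.Agent.Lib.PGroup.SuzukiQuotient
import Cfsg.Agent.Lib.Fusion.Normal

set_option autoImplicit false
set_option linter.style.haveILetI false
open Cfsg

namespace Cfsg.Agent.S5214

/-- Let S be a Suzuki 2-group (a finite nonabelian 2-group with more than one involution admitting a cyclic group of automorphisms permuting its involutions regularly). Then S is normal in every saturated fusion system over S (such a group is resistant). -/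
theorem result {Ω : Type*} [Group Ω] {S : Subgroup Ω} [Finite S] (hS : IsPGroup 2 S) (F : Cfsg.FusionSystem S) (hF : F.IsSaturated 2) (hsz : Cfsg.IsSuzukiTwoGroup ↥S) : F.IsNormal S := by
  obtain ⟨K, hSet, hna⟩ := Cfsg.Agent.S1137.exists_setting hsz
  have hh := CfsgLib.SuzukiQuotient.upper_inv_eq_top hSet hna
  set Z : Subgroup Ω := hSet.inv.map S.subtype with hZ
  have memZ : ∀ x, x ∈ Z ↔ x ∈ S ∧ x * x = 1 := by
    intro x
    constructor
    · rintro ⟨w, hw, rfl⟩
      exact ⟨w.2, congrArg Subtype.val hw⟩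
    · rintro ⟨h1, h2⟩
      exact ⟨⟨x, h1⟩, Subtype.ext h2, rfl⟩
  have hZS : Z ≤ S := Subgroup.map_subtype_le _
  refine CfsgLib.Fusion.isNormal_of_series hS hF 2
    (fun i => if i = 0 then ⊥ else if i = 1 then Z else S) rfl rfl (fun i hi => ?_) (fun i hi => ?_)
    fun i hi g hg x hx => ?_
  · interval_cases i
    · exact bot_le
    · exact hZS
  · interval_cases i
    · refine ⟨bot_le, fun R hR φ _ x => ?_⟩
      have hx1 : x = 1 := Subtype.ext (Subgroup.mem_bot.mp (hR x.2))
      show φ x ∈ (⊥ : Subgroup Ω)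
      rw [hx1, map_one]
      exact Subgroup.one_mem _
    · refine ⟨hZS, fun R hR φ hφ x => ?_⟩
      show φ x ∈ Z
      rw [memZ]
      refine ⟨(F.le_of_mem hφ).2 x, ?_⟩
      rw [← map_mul, show x * x = 1 from Subtype.ext ((memZ x).mp (hR x.2)).2, map_one]
    · exact ⟨le_rfl, fun R _ φ hφ x => (F.le_of_mem hφ).2 x⟩
  · interval_cases i
    · show g * x * g⁻¹ * x⁻¹ ∈ (⊥ : Subgroup Ω)
      change x ∈ Z at hx
      rw [memZ] at hx
      have h : g * x = x * g :=
        congrArg Subtype.val (hSet.central ⟨x, hx.1⟩ (Subtype.ext hx.2) ⟨g, hg⟩)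
      rw [h, Subgroup.mem_bot]
      group
    · exact ⟨_, (hh ⟨x, hx⟩).2 ⟨g, hg⟩, rfl⟩

end Cfsg.Agent.S5214
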