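import Cfsg.Statements.S5219
import Cfsg.Agent.Lib.Fusion.SmallClass

set_option autoImplicit false
open Cfsg

namespace Cfsg.Agent.S5219

/-- Let p be a prime, n a natural number, S a nontrivial finite p-group of nilpotence class at most n(p−1)+1, and F a saturated fusion system over S with no nontrivial normal subgroup (O_p(F) = 1). Then S has exponent dividing p^(n²(p−1)+n). -/
theorem result {Ω : Type*} [Group Ω] {S : Subgroup Ω} [Finite S] (p : ℕ) [Fact p.Prime] (hS : IsPGroup p S) (F : Cfsg.FusionSystem S) (hF : F.IsSaturated p) (n : ℕ) (hS1 : S ≠ ⊥) (hcl : Subgroup.lowerCentralSeries S (n * (p - 1) + 1) = ⊥) (hcore : F.core = ⊥) : Monoid.exponent ↥S ∣ p ^ (n ^ 2 * (p - 1) + n) := by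
  classical
  have hN := CfsgLib.Fusion.isNormal_powerClosure_center hS hF n hcl
  have hZ : ∀ z ∈ Subgroup.center ↥S, z ^ p ^ n = 1 := fun z hz => by
    have h1 : ((z : Ω) ^ p ^ n) ∈ F.core :=
      (le_sSup hN : _ ≤ F.core) (Subgroup.subset_closure ⟨z, ⟨z.2, fun y hy =>
        congrArg Subtype.val (Subgroup.mem_center_iff.1 hz ⟨y, hy⟩)⟩, rfl⟩)
    rw [hcore, Subgroup.mem_bot] at h1
    exact Subtype.ext h1
  have hc : Subgroup.upperCentralSeries ↥S (n * (p - 1) + 1) = ⊤ := by
    refine Subgroup.lowerCentralSeries_eq_bot_iff_upperCentralSeries_eq_top.1 ?_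
    refine (Subgroup.map_eq_bot_iff_of_injective _ S.subtype_injective).1 ?_
    rw [CfsgLib.Fusion.map_lowerCentralSeries, ← MonoidHom.range_eq_map, Subgroup.range_subtype, hcl]
  refine Monoid.exponent_dvd_of_forall_pow_eq_one fun x => ?_
  have h2 := CfsgLib.Fusion.pow_pow_eq_one_of_class hZ hc x
  rwa [← pow_mul, show n * (n * (p - 1) + 1) = n ^ 2 * (p - 1) + n by ring] at h2

end Cfsg.Agent.S5219
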