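import Cfsg.Statements.S5220
import Cfsg.Agent.Lib.Fusion.Generation

set_option autoImplicit false
open Cfsg

namespace Cfsg.Agent.S5220

/-- Let F be a saturated fusion system over a nontrivial finite p-group S, let J(S) be the subgroup generated by the abelian subgroups of S of largest order, and let V be the subgroup generated by the p-th powers of the elements of Z(S). Then F is generated by the centralizer fusion system of V and the normalizer fusion system of J(S): every fusion system over S containing the maps of both contains every map of F. -/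
theorem result {Ω : Type*} [Group Ω] {S : Subgroup Ω} [Finite S] (p : ℕ) [Fact p.Prime] (hS : IsPGroup p S) (F : Cfsg.FusionSystem S) (hF : F.IsSaturated p) (hS1 : S ≠ ⊥) (C : Cfsg.FusionSystem (Cfsg.FusionSystem.centralizerIn S (Cfsg.powerClosure p 1 (S ⊓ Subgroup.centralizer (S : Set Ω))))) (hC : F.IsCentralizerSystem (Cfsg.powerClosure p 1 (S ⊓ Subgroup.centralizer (S : Set Ω))) C) (N : Cfsg.FusionSystem (Cfsg.FusionSystem.normalizerIn S (Cfsg.thompsonSubgroupAOf S))) (hN : F.IsNormalizerSystem (Cfsg.thompsonSubgroupAOf S) N) (E : Cfsg.FusionSystem S) (hCE : C.IsSubsystemOf E) (hNE : N.IsSubsystemOf E) : F.IsSubsystemOf E := by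
  classical
  set Q := Cfsg.powerClosure p 1 (S ⊓ Subgroup.centralizer (S : Set Ω)) with hQ
  have hJe : Cfsg.thompsonSubgroupAOf S = CfsgLib.Fusion.functorOf CfsgLib.Fusion.jFunctor S :=
    (CfsgLib.Fusion.functorOf_jFunctor S).symm
  have hsub : ∀ {T : Subgroup Ω} (A : Cfsg.FusionSystem T), A.IsSubsystemOf E →
      ∀ P f, CfsgLib.Fusion.IsMap A P f → CfsgLib.Fusion.IsMap E P f := by
    rintro T A hA P f ⟨φ, hφ, hv⟩
    exact ⟨φ, hA P hφ, hv⟩
  have hQc : Q ≤ S ⊓ Subgroup.centralizer (S : Set Ω) := by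
    refine (Subgroup.closure_le _).2 ?_
    rintro _ ⟨x, hx, rfl⟩
    exact Subgroup.pow_mem _ hx _
  have key := CfsgLib.Fusion.le_of_agemo_center_thompson (E := E) hS hF (fun P f hf hw => ?_)
    (fun P f hf hJP hJ => ?_)
  · intro P φ hφ
    obtain ⟨ψ, hψ, hv⟩ := key P _ (CfsgLib.Fusion.isMap_homFun hφ)
    have : ψ = φ := MonoidHom.ext fun x => (hv x).trans (CfsgLib.Fusion.homFun_apply φ x.2)
    exact this ▸ hψ
  · refine hsub _ hCE P f ((CfsgLib.Fusion.isMap_centralizerSystem_iff hC).2 ⟨?_, ?_, f, ?_,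
      fun x _ => rfl, ?_⟩)
    · exact fun x hx => ⟨hf.le hx, fun q hq => ((hQc hq).2 x (hf.le hx)).symm⟩
    · exact fun x hx => ⟨hf.mem hx, fun q hq => ((hQc hq).2 _ (hf.mem hx)).symm⟩
    · have hQP : Q ≤ P := by
        refine (Subgroup.closure_le _).2 ?_
        rintro _ ⟨x, hx, rfl⟩
        rw [pow_one]
        exact (hw x hx.1 hx.2).1
      rw [sup_eq_left.2 hQP]; exact hf
    · intro x hx
      have hQP : Q ≤ P := by
        refine (Subgroup.closure_le _).2 ?_
        rintro _ ⟨x, hx, rfl⟩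
        rw [pow_one]
        exact (hw x hx.1 hx.2).1
      induction hx using Subgroup.closure_induction with
      | mem y hy =>
        obtain ⟨z, hz, rfl⟩ := hy
        rw [pow_one]
        exact (hw z hz.1 hz.2).2
      | one => exact hf.map_one
      | mul a b ha hb h1 h2 => rw [hf.map_mul (hQP ha) (hQP hb), h1, h2]
      | inv a ha h1 => rw [hf.map_inv (hQP ha), h1]
  · refine hsub _ hNE P f ((CfsgLib.Fusion.isMap_normalizerSystem_iff hN).2 ⟨?_, ?_, f, ?_,
      fun x _ => rfl, ?_⟩)
    · intro x hx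
      rw [hJe]
      exact ⟨hf.le hx, CfsgLib.Fusion.normalizer_le_functorOf _ (CfsgLib.Fusion.jFunctor_map (p := p))
        le_rfl hS (Subgroup.le_normalizer (hf.le hx))⟩
    · intro x hx
      rw [hJe]
      exact ⟨hf.mem hx, CfsgLib.Fusion.normalizer_le_functorOf _ (CfsgLib.Fusion.jFunctor_map (p := p))
        le_rfl hS (Subgroup.le_normalizer (hf.mem hx))⟩
    · rw [hJe, sup_eq_left.2 hJP]; exact hf
    · rw [hJe]; exact hJ

end Cfsg.Agent.S5220
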