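import Cfsg.Statements.S5223
import Cfsg.Agent.S5083
import Cfsg.Agent.Lib.Fusion.Normal

set_option autoImplicit false
open Cfsg

namespace Cfsg.Agent.S5223

/-- Let F be a saturated fusion system over a finite p-group S. Suppose there are subgroups Q₀ = S, Q₁, …, Qₙ = 1 (not required to be nested) such that for each i < n the focal subgroup of Qᵢ (generated by the elements x⁻¹φ(x), x ∈ Qᵢ, φ a map of F defined on the cyclic group generated by x) lies in Qᵢ₊₁. Then F is the inner fusion system of S. -/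
theorem result {Ω : Type*} [Group Ω] {S : Subgroup Ω} [Finite S] (p : ℕ) [Fact p.Prime] (hS : IsPGroup p S) (F : Cfsg.FusionSystem S) (hF : F.IsSaturated p) (n : ℕ) (Q : Fin (n + 1) → Subgroup Ω) (hQ0 : Q 0 = S) (hQn : Q (Fin.last n) = ⊥) (hstep : ∀ i : Fin n, Subgroup.closure {y : Ω | ∃ x ∈ Q i.castSucc, ∃ φ ∈ F.Hom (Subgroup.zpowers x), y = x⁻¹ * φ ⟨x, Subgroup.mem_zpowers x⟩} ≤ Q i.succ) : ∀ P : Subgroup Ω, F.Hom P = (Cfsg.innerFusionSystem S).Hom P := by
  intro P
  suffices h : F = Cfsg.innerFusionSystem S by rw [h]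
  refine Cfsg.Agent.S5083.result p hS F hF fun P hP => ?_
  have := CfsgLib.Fusion.finite_of_le hP
  let L : ℕ → Subgroup P := fun i => (Q ⟨n - i, by omega⟩).subgroupOf P
  refine CfsgLib.Fusion.isPGroup_of_stabilizes_series (hS.to_le hP) L n ?_ ?_ (F.autGroup P) ?_
  · show (Q ⟨n - 0, _⟩).subgroupOf P = ⊥
    rw [show (⟨n - 0, by omega⟩ : Fin (n + 1)) = Fin.last n from Fin.ext (by simp), hQn,
      Subgroup.bot_subgroupOf]
  · show (Q ⟨n - n, _⟩).subgroupOf P = ⊤
    rw [show (⟨n - n, by omega⟩ : Fin (n + 1)) = 0 from Fin.ext (by simp), hQ0,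
      Subgroup.subgroupOf_eq_top]
    exact hP
  · intro α hα i hi x hx
    obtain ⟨φ, hφ, hv⟩ := (((CfsgLib.Fusion.mem_autGroup_iff hP α).1 hα).isMap.mono
      (show Subgroup.zpowers (x : Ω) ≤ P from Subgroup.zpowers_le.2 x.2)).exists_hom
    have h := hstep ⟨n - (i + 1), by omega⟩ (Subgroup.subset_closure
      ⟨(x : Ω), hx, φ, hφ, rfl⟩)
    rw [hv, CfsgLib.Fusion.autFun_coe] at h
    show ((x⁻¹ * α x : P) : Ω) ∈ Q ⟨n - i, _⟩
    rw [show (⟨n - i, by omega⟩ : Fin (n + 1)) = (⟨n - (i + 1), by omega⟩ : Fin n).succ from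
      Fin.ext (by simp; omega)]
    exact h

end Cfsg.Agent.S5223
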