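import Cfsg.Statements.S5226
import Cfsg.Agent.Lib.Fusion.WeakSeries

set_option autoImplicit false
open Cfsg

namespace Cfsg.Agent.S5226

/-- Let F be a saturated fusion system over a finite p-group S and Q a subgroup of S. Then Q is normal in F (F equals the normalizer system of Q) if and only if Q is strongly closed in F and admits a central series 1 = Q₀ ≤ Q₁ ≤ ⋯ ≤ Qₙ = Q ([Qᵢ₊₁, Q] ≤ Qᵢ) all of whose proper terms are weakly closed in F. -/
theorem result {Ω : Type*} [Group Ω] {S : Subgroup Ω} [Finite S] (p : ℕ) [Fact p.Prime] (hS : IsPGroup p S) (F : Cfsg.FusionSystem S) (hF : F.IsSaturated p) (Q : Subgroup Ω) : F.IsNormal Q ↔ F.StronglyClosed Q ∧ ∃ (n : ℕ) (C : Fin (n + 1) → Subgroup Ω), C 0 = ⊥ ∧ C (Fin.last n) = Q ∧ Monotone C ∧ (∀ i : Fin n, ⁅C i.succ, Q⁆ ≤ C i.castSucc) ∧ ∀ i : Fin n, F.WeaklyClosed (C i.castSucc) := by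
  constructor
  · intro hQ
    obtain ⟨n, Qs, h0, hn, hm, h⟩ := (CfsgLib.Fusion.isNormal_iff_series hS hF).1 hQ
    refine ⟨CfsgLib.Fusion.stronglyClosed_of_isNormal hQ, n, Qs, h0, hn, hm,
      fun i => (Subgroup.commutator_comm_le _ _).trans (h i).2, fun i => ?_⟩
    apply CfsgLib.Fusion.weaklyClosed_of_stronglyClosed
    rcases Fin.eq_zero_or_eq_succ i.castSucc with hi | ⟨j, hj⟩
    · rw [hi, h0]
      exact CfsgLib.Fusion.stronglyClosed_of_isNormal (CfsgLib.Fusion.isNormal_bot F)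
    · rw [hj]
      exact (h j).1
  · rintro ⟨hsc, n, C, h0, hn, hm, hc, hw⟩
    let C' : ℕ → Subgroup Ω := fun i => if hi : i < n + 1 then C ⟨i, hi⟩ else Q
    have hC' : ∀ (i : ℕ) (hi : i < n + 1), C' i = C ⟨i, hi⟩ := fun i hi => dif_pos hi
    refine CfsgLib.Fusion.isNormal_of_weak_series hS hF hsc n C'
      ((hC' 0 (Nat.succ_pos n)).trans h0) ((hC' n (Nat.lt_succ_self n)).trans hn)
      (fun i hi => ?_) (fun i hi x hx q hq => ?_) (fun i hi => ?_)
    · rw [hC' i (by omega), hC' (i + 1) (by omega)]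
      exact hm (Nat.le_succ i)
    · rw [hC' (i + 1) (by omega)] at hx
      rw [hC' i (by omega)]
      exact hc ⟨i, hi⟩ (Subgroup.commutator_mem_commutator hx hq)
    · rw [hC' i (by omega)]
      exact hw ⟨i, hi⟩

end Cfsg.Agent.S5226
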