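import Cfsg.Statements.S5236
import Cfsg.Agent.Lib.Fusion.OmegaSeries

set_option autoImplicit false
open Cfsg

namespace Cfsg.Agent.S5236

open scoped commutatorElement

/-- Let p be an odd prime, F a saturated fusion system over a finite p-group S and P a subgroup of S strongly closed in F. Then P is normal in F if and only if Ω₁(P) (the subgroup generated by the elements of order p of P) has a chain of subgroups 1 = Q₀ ≤ Q₁ ≤ ⋯ ≤ Qₙ = Ω₁(P), each strongly closed in F, with [Qᵢ₊₁, P] ≤ Qᵢ for all i. -/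
theorem result {Ω : Type*} [Group Ω] {S : Subgroup Ω} [Finite S] (p : ℕ) [Fact p.Prime] (hS : IsPGroup p S) (F : Cfsg.FusionSystem S) (hF : F.IsSaturated p) (hp : p ≠ 2) (P : Subgroup Ω) (hP : F.StronglyClosed P) : F.IsNormal P ↔ ∃ (n : ℕ) (Q : Fin (n + 1) → Subgroup Ω), Q 0 = ⊥ ∧ Q (Fin.last n) = Cfsg.omegaOne p P ∧ Monotone Q ∧ (∀ i : Fin (n + 1), F.StronglyClosed (Q i)) ∧ ∀ i : Fin n, ⁅Q i.succ, P⁆ ≤ Q i.castSucc := by
  constructor
  · intro hN
    obtain ⟨n, Qs, h0, hn, hm, hchar, hcomm⟩ := CfsgLib.Fusion.exists_char_series hS hP.1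
    have hO : F.IsNormal (Cfsg.omegaOne p P) := CfsgLib.Fusion.isNormal_of_characteristic F hN
      (CfsgLib.Fusion.omegaOne_le_self p P) (CfsgLib.Fusion.omegaOne_characteristic p P)
    have hsc : ∀ i, F.StronglyClosed (Qs i) := fun i => CfsgLib.Fusion.stronglyClosed_of_isNormal
      (CfsgLib.Fusion.isNormal_of_characteristic F hN (hchar i).1 (hchar i).2)
    have hsO := CfsgLib.Fusion.stronglyClosed_of_isNormal hO
    refine ⟨n, fun i => Qs i ⊓ Cfsg.omegaOne p P, ?_, ?_, fun i j h => inf_le_inf_right _ (hm h),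
      fun i => ?_, fun i => ?_⟩
    · simp [h0]
    · simp [hn, CfsgLib.Fusion.omegaOne_le_self]
    · exact ⟨inf_le_left.trans (hsc i).1, fun R hR φ hφ x =>
        ⟨(hsc i).2 R (hR.trans inf_le_left) φ hφ x, hsO.2 R (hR.trans inf_le_right) φ hφ x⟩⟩
    · rw [Subgroup.commutator_le]
      intro x hx g hg
      have hx' : x ∈ Qs ((i : ℕ) + 1) ⊓ Cfsg.omegaOne p P := by simpa using hx
      have h1 := (Qs i).inv_mem (hcomm i i.2 g hg x hx'.1)
      have h2 := CfsgLib.Fusion.isMap_mem_of_stronglyClosed hsO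
        (CfsgLib.Fusion.isMap_conj (F := F) le_rfl (hP.1 hg)) (hsO.1 hx'.2) hx'.2
      have e : ⁅x, g⁆ = (g * x * g⁻¹ * x⁻¹)⁻¹ := by rw [commutatorElement_def]; group
      refine ⟨?_, ?_⟩
      · rw [e]
        exact h1
      · show ⁅x, g⁆ ∈ Cfsg.omegaOne p P
        rw [e]
        exact Subgroup.inv_mem _ (Subgroup.mul_mem _ h2 (Subgroup.inv_mem _ hx'.2))
  · rintro ⟨n, Q, h0, hn, hm, hsc, hc⟩
    let C : ℕ → Subgroup Ω := fun i => if hi : i < n + 1 then Q ⟨i, hi⟩ else ⊥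
    have hC : ∀ (i : ℕ) (hi : i < n + 1), C i = Q ⟨i, hi⟩ := fun i hi => dif_pos hi
    refine (CfsgLib.Fusion.isNormal_iff_stronglyClosed_le hS hF).2 ⟨hP, fun R hc' hr' => ?_⟩
    refine CfsgLib.Fusion.le_of_omega_series hS hp hc' hr' hP n C
      ((hC 0 (Nat.succ_pos n)).trans h0) ((hC n (Nat.lt_succ_self n)).trans hn)
      (fun i hi => ?_) (fun i hi x hx g hg => ?_)
    · rw [hC i (by omega)]
      exact hsc _
    · rw [hC (i + 1) (by omega)] at hx
      rw [hC i (by omega)]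
      exact hc ⟨i, hi⟩ (Subgroup.commutator_mem_commutator hx hg)

end Cfsg.Agent.S5236
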