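import Cfsg.Statements.S5238
import Cfsg.Agent.Lib.Fusion.Pearls
set_option autoImplicit false
open Cfsg

namespace Cfsg.Agent.S5238

/-- Let p be an odd prime and F a saturated fusion system over a finite p-group S having a pearl: an F-essential subgroup E that is elementary abelian of order p² or nonabelian of order p³. Then S has maximal nilpotency class (if S has order pⁿ with n ≥ 3, the term of index n − 2 of its lower central series, counting S itself as the term of index 0, is nontrivial), and every subgroup of S can be generated by at most p elements (the sectional rank of S is at most p). -/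
theorem result {Ω : Type*} [Group Ω] {S : Subgroup Ω} [Finite S] (p : ℕ) [Fact p.Prime] (hS : IsPGroup p S) (F : Cfsg.FusionSystem S) (hF : F.IsSaturated p) (hp : p ≠ 2) (E : Subgroup Ω) (hE : F.IsEssential p E) (hpearl : (Nat.card E = p ^ 2 ∧ ∀ x ∈ E, x ^ p = 1 ∧ IsMulCommutative ↥E) ∨ (Nat.card E = p ^ 3 ∧ ¬ IsMulCommutative ↥E)) : (∀ n : ℕ, Nat.card S = p ^ n → 3 ≤ n → Subgroup.lowerCentralSeries S (n - 2) ≠ ⊥) ∧ ∀ H : Subgroup Ω, H ≤ S → ∃ T : Finset Ω, T.card ≤ p ∧ Subgroup.closure (T : Set Ω) = H := by
  obtain ⟨m, x, h⟩ := CfsgLib.Pearls.exists_setting hS hF hp hE hpearl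
  refine ⟨fun n hn hn3 => ?_, fun H hH => ?_⟩
  · have hm : m = n := Nat.pow_right_injective (Fact.out : p.Prime).two_le (h.card.symm.trans hn)
    have hc := CfsgLib.UniserialPower.card_gamma h (j := n - 2) (by omega) (by omega)
    intro e
    rw [← Subgroup.top_subtype_lowerCentralSeries,
      (Subgroup.map_eq_bot_iff_of_injective _ S.subtype_injective)] at e
    rw [CfsgLib.UniserialPower.Γ, e, Subgroup.card_bot] at hc
    have := Nat.pow_right_injective (Fact.out : p.Prime).two_le (hc.symm.trans (pow_zero p).symm)
    omega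
  · classical
    obtain ⟨T, hT, hTH⟩ := CfsgLib.UniserialPower.exists_generators h (H.subgroupOf S)
    refine ⟨T.image Subtype.val, Finset.card_image_le.trans hT, ?_⟩
    rw [Finset.coe_image]
    calc Subgroup.closure (S.subtype '' (T : Set S)) = (H.subgroupOf S).map S.subtype := by
          rw [← MonoidHom.map_closure, hTH]
      _ = H := Subgroup.map_subgroupOf_eq_of_le hH
end Cfsg.Agent.S5238
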