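import Cfsg.Statements.S5239
import Cfsg.Agent.Lib.Fusion.PearlsThree
set_option autoImplicit false
open Cfsg

namespace Cfsg.Agent.S5239

/-- Let F be a saturated fusion system over a finite 3-group S having a pearl: an F-essential subgroup E that is elementary abelian of order 9 or nonabelian of order 27. Then either S is extraspecial of order 27 and exponent 3, or S has order at least 81 and every subgroup of S can be generated by at most two elements, or S is isomorphic to the wreath product C₃ ≀ C₃ (a Sylow 3-subgroup of the symmetric group of degree 9). -/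
theorem result {Ω : Type*} [Group Ω] {S : Subgroup Ω} [Finite S] (hS : IsPGroup 3 S) (F : Cfsg.FusionSystem S) (hF : F.IsSaturated 3) [Fact (Nat.Prime 3)] (E : Subgroup Ω) (hE : F.IsEssential 3 E) (hpearl : (Nat.card E = 9 ∧ ∀ x ∈ E, x ^ 3 = 1 ∧ IsMulCommutative ↥E) ∨ (Nat.card E = 27 ∧ ¬ IsMulCommutative ↥E)) : (Cfsg.IsExtraspecial 3 ↥S ∧ Nat.card S = 27 ∧ Monoid.exponent ↥S = 3) ∨ (81 ≤ Nat.card S ∧ ∀ H : Subgroup Ω, H ≤ S → ∃ T : Finset Ω, T.card ≤ 2 ∧ Subgroup.closure (T : Set Ω) = H) ∨ (∃ W : Sylow 3 (Equiv.Perm (Fin 9)), Nonempty (↥S ≃* ↥(W : Subgroup (Equiv.Perm (Fin 9))))) := by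
  classical
  obtain ⟨n, x, h⟩ := CfsgLib.Pearls.exists_setting hS hF (by norm_num) hE hpearl
  rcases Nat.lt_or_ge n 4 with hn | hn
  · left
    have hn3 : n = 3 := by have := h.three_le; omega
    subst hn3
    have hc : Nat.card E = 3 ^ 2 ∧ (∀ e ∈ E, e ^ 3 = 1) ∧ ∀ a ∈ E, ∀ b ∈ E, a * b = b * a := by
      rcases hpearl with ⟨hc, he⟩ | ⟨hc, -⟩
      · refine ⟨by rw [hc]; norm_num, fun e he' => (he e he').1, fun a ha b hb => ?_⟩
        haveI := (he a ha).2
        exact Subtype.ext_iff.1 (mul_comm' (⟨a, ha⟩ : E) ⟨b, hb⟩)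
      · exfalso
        haveI : Finite E := CfsgLib.Fusion.finite_of_le hE.1.1
        refine CfsgLib.Fusion.ne_of_isEssential hS hF hE ?_
        exact Subgroup.eq_of_le_of_card_ge hE.1.1 (by rw [h.card, hc]; norm_num)
    have hna : ¬ ∀ a b : S, a * b = b * a := by
      intro hcomm
      have hclass := CfsgLib.UniserialPower.class_eq h
      haveI : Group.IsNilpotent S := hS.isNilpotent
      have h1 : (⊤ : Subgroup S).lowerCentralSeries 1 = ⊥ := by
        rw [Subgroup.top_lowerCentralSeries_one, commutator_def, eq_bot_iff, Subgroup.commutator_le]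
        intro a _ b _
        rw [Subgroup.mem_bot, commutatorElement_eq_one_iff_mul_comm]
        exact hcomm a b
      have := Subgroup.lowerCentralSeries_eq_bot_iff_nilpotencyClass_le.mp h1
      omega
    have hexp := CfsgLib.PearlsThree.exponent_of_order_27 hS hF h.card hna hE hc.1 hc.2.1 hc.2.2
    refine ⟨CfsgLib.Fusion.SmallNonabelian.isExtraspecial_of_exp h.card hna hexp, by rw [h.card]; norm_num, ?_⟩
    haveI : Nontrivial S := Finite.one_lt_card_iff_nontrivial.1 (h.card ▸ by norm_num)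
    exact (Monoid.exponent_eq_prime_iff (Nat.prime_three)).2 fun g hg => orderOf_eq_prime (hexp g) hg
  have h81 : 81 ≤ Nat.card S := by
    rw [h.card]; exact le_of_eq_of_le (by norm_num) (Nat.pow_le_pow_right (by norm_num : 0 < 3) hn)
  have hgen : CfsgLib.UniserialThree.CubeZero S → ∀ H : Subgroup Ω, H ≤ S →
      ∃ T : Finset Ω, T.card ≤ 2 ∧ Subgroup.closure (T : Set Ω) = H := by
    intro hc H hH
    obtain ⟨T, hT, hTH⟩ := CfsgLib.UniserialThree.exists_two h hn hc (H.subgroupOf S)
    refine ⟨T.image Subtype.val, Finset.card_image_le.trans hT, ?_⟩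
    rw [Finset.coe_image]
    calc Subgroup.closure (S.subtype '' (T : Set S)) = (H.subgroupOf S).map S.subtype := by
          rw [← MonoidHom.map_closure, hTH]
      _ = H := Subgroup.map_subgroupOf_eq_of_le hH
  rcases Nat.lt_or_ge n 5 with hn5 | hn5
  · have hn4 : n = 4 := by omega
    subst hn4
    rcases CfsgLib.UniserialThree.cubeZero_or_wreath h with hc | he
    · exact Or.inr (Or.inl ⟨h81, hgen hc⟩)
    · right; right
      obtain ⟨e⟩ : Nonempty (CfsgLib.CyclicWreath.W 3 ≃* S) := he
      obtain ⟨W⟩ : Nonempty (Sylow 3 (Equiv.Perm (Fin 9))) := inferInstance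
      let u : (IteratedWreathProduct (Multiplicative (ZMod 3)) 1) ≃* Multiplicative (ZMod 3) :=
        MulEquiv.ofBijective (RegularWreathProduct.rightHom : PUnit ≀ᵣ Multiplicative (ZMod 3) →* _)
          ⟨fun a b hab => RegularWreathProduct.ext (funext fun _ => rfl) hab,
            fun q => ⟨⟨fun _ => PUnit.unit, q⟩, rfl⟩⟩
      exact ⟨W, ⟨(e.symm.trans (RegularWreathProduct.congr u (MulEquiv.refl _)).symm).trans
        (Sylow.mulEquivIteratedWreathProduct 3 2 (Fin 9) (by simp) (Multiplicative (ZMod 3))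
          (by simp) W).symm⟩⟩
  · exact Or.inr (Or.inl ⟨h81, hgen (CfsgLib.UniserialThree.cubeZero_of_five h hn5)⟩)
end Cfsg.Agent.S5239
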