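import Cfsg.Statements.S5243
import Cfsg.Agent.Lib.Fusion.CharacterSubsystem

set_option autoImplicit false
open Cfsg

namespace Cfsg.Agent.S5243

/-- Let F be a saturated fusion system over a finite p-group S, E a normal subsystem of F over T ≤ S, and χ a surjective homomorphism from Aut_F(T) onto a nontrivial finite group Δ of order prime to p whose kernel contains Aut_E(T). Then there is a proper normal subsystem F₀ of F over S containing E such that Aut_{F₀}(S) consists of those α ∈ Aut_F(S) whose restriction to T is an element of Aut_F(T) in the kernel of χ; moreover every p'-residual subsystem O^{p'}(F) of F is contained in F₀. -/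
theorem result {Ω : Type*} [Group Ω] {S : Subgroup Ω} [Finite S] (p : ℕ) [Fact p.Prime] (hS : IsPGroup p S) (F : Cfsg.FusionSystem S) (hF : F.IsSaturated p) {T : Subgroup Ω} (hTS : T ≤ S) (E : Cfsg.FusionSystem T) (hE : E.IsNormalIn F p) {Δ : Type*} [Group Δ] [Finite Δ] [Nontrivial Δ] (hΔ : (Nat.card Δ).Coprime p) (χ : ↥(F.autGroup T) →* Δ) (hχ : Function.Surjective χ) (hker : (E.autGroup T).subgroupOf (F.autGroup T) ≤ χ.ker) : ∃ F₀ : Cfsg.FusionSystem S, F₀.IsNormalIn F p ∧ ¬ (∀ P : Subgroup Ω, F₀.Hom P = F.Hom P) ∧ E.IsSubsystemOf F₀ ∧ (∀ α : MulAut ↥S, α ∈ F₀.autGroup S ↔ α ∈ F.autGroup S ∧ ∃ β : ↥(F.autGroup T), χ β = 1 ∧ ∀ t : ↥T, (((β : MulAut ↥T) t : ↥T) : Ω) = ((α ⟨(t : Ω), hTS t.2⟩ : ↥S) : Ω)) ∧ ∀ R : Cfsg.FusionSystem S, F.IsPPrimeResidual p R → R.IsSubsystemOf F₀ := by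
  classical
  have hI := hE.1.2.2
  haveI := CfsgLib.Fusion.finite_of_le hTS
  haveI := CfsgLib.Fusion.finite_mulAut T
  have hT : IsPGroup p T := hS.to_le hTS
  set K : Subgroup (MulAut T) := χ.ker.map (F.autGroup T).subtype with hKdef
  have hmemK : ∀ c : MulAut T, c ∈ K ↔ ∃ hc : c ∈ F.autGroup T, χ ⟨c, hc⟩ = 1 := fun c => by
    constructor
    · rintro ⟨b, hb, rfl⟩
      exact ⟨b.2, hb⟩
    · rintro ⟨hc, h⟩
      exact ⟨⟨c, hc⟩, h, rfl⟩
  have hEF : E.autGroup T ≤ F.autGroup T := fun c hc =>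
    (CfsgLib.Fusion.mem_autGroup_iff hTS c).2
      (((CfsgLib.Fusion.mem_autGroup_iff le_rfl c).1 hc).of_subsystem hI.1)
  have hEK : E.autGroup T ≤ K := fun c hc => (hmemK c).2 ⟨hEF hc, hker (x := ⟨c, hEF hc⟩) hc⟩
  have hresF : ∀ V : Subgroup Ω, CfsgLib.Fusion.Residual.resIn F E V ≤ F.autGroup T := fun V =>
    (Subgroup.closure_le _).2 fun c hc => hc.1
  have hK : CfsgLib.Fusion.Character.CharKer F E p K := by
    refine ⟨Subgroup.map_subtype_le _, fun c hc k hk => ?_, fun V hV c hc => ?_, fun c hc k hk => ?_⟩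
    · obtain ⟨hk', hk1⟩ := (hmemK k).1 hk
      refine (hmemK _).2 ⟨(F.autGroup T).mul_mem ((F.autGroup T).mul_mem hc hk')
        ((F.autGroup T).inv_mem hc), ?_⟩
      show χ (⟨c, hc⟩ * ⟨k, hk'⟩ * ⟨c, hc⟩⁻¹) = 1
      rw [map_mul, map_mul, hk1, mul_one, map_inv, mul_inv_cancel]
    · obtain ⟨j, hj⟩ := CfsgLib.Fusion.Residual.exists_relIndex_resIn hS hE.1 _ V rfl hV
      set R' := (CfsgLib.Fusion.Residual.resIn F E V).subgroupOf (F.autGroup T)
      have h1 : χ.ker.relIndex R' = Nat.card ↥(R'.map χ) := Subgroup.relIndex_ker R' χ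
      have h2 : χ.ker.relIndex R' ∣ p ^ j := by
        refine (Subgroup.relIndex_dvd_of_le_left R' hker).trans (dvd_of_eq ?_)
        rw [Subgroup.relIndex_subgroupOf (hresF V), hj]
      rw [h1] at h2
      have h3 : Nat.card ↥(R'.map χ) = 1 :=
        Nat.eq_one_of_dvd_coprimes (hΔ.pow_right j) (Subgroup.card_subgroup_dvd_card _) h2
      have h4 : χ ⟨c, hresF V hc⟩ ∈ R'.map χ := ⟨⟨c, hresF V hc⟩, hc, rfl⟩
      rw [Subgroup.card_eq_one.1 h3, Subgroup.mem_bot] at h4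
      exact (hmemK c).2 ⟨_, h4⟩
    · obtain ⟨hk', hk1⟩ := (hmemK _).1 hk
      refine (hmemK c).2 ⟨hc, orderOf_eq_one_iff.1 (Nat.eq_one_of_dvd_coprimes (hΔ.pow_right k)
        (orderOf_dvd_natCard _) (orderOf_dvd_of_pow_eq_one ?_))⟩
      rw [← map_pow]
      exact hk1
  set D := CfsgLib.Fusion.Character.sub F E K with hD
  obtain ⟨hidx, hfac, -⟩ := CfsgLib.Fusion.Character.index_sub hS hF hK hI
  have hTcen : E.IsCentric T := by
    refine ⟨le_rfl, fun Q hQ => ?_⟩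
    obtain ⟨f, hf⟩ := CfsgLib.Fusion.isConj_iff.1 hQ
    rw [Subgroup.eq_of_le_of_card_ge hf.le_right hf.card_eq.ge]
    exact inf_le_left
  have hgood : ∀ P, T ≤ P → E.IsCentric (P ⊓ T) := fun P hP => by rwa [inf_eq_right.2 hP]
  refine ⟨D, CfsgLib.Fusion.Character.isNormalIn_sub hS hF hK hI, fun hall => ?_, ?_, fun α => ?_,
    fun R hR => hR.2.2 D (CfsgLib.Fusion.Character.isSaturated_sub hS hF hK hI) hidx⟩
  · obtain ⟨d, hd⟩ := exists_ne (1 : Δ)
    obtain ⟨β, rfl⟩ := hχ d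
    have hm := ((CfsgLib.Fusion.mem_autGroup_iff hTS (β : MulAut T)).1 β.2).isMap
    have hmD : CfsgLib.Fusion.IsMap D T (CfsgLib.Fusion.autFun (β : MulAut T)) := by
      obtain ⟨φ, hφ, hv⟩ := hm
      exact ⟨φ, (hall T).symm ▸ hφ, hv⟩
    have hdec : CfsgLib.Fusion.Character.Dec F E (β : MulAut T) T
        (CfsgLib.Fusion.autFun (β : MulAut T)) :=
      ⟨β.2, id, CfsgLib.Fusion.isMap_id inf_le_right, fun x _ => rfl⟩
    obtain ⟨h1, h2⟩ := (hmemK _).1 (CfsgLib.Fusion.Character.dec_mem hK hI (hgood T le_rfl) hdec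
      (CfsgLib.Fusion.Character.th_of_isMap hS hK hI hmD))
    exact hd h2
  · have hpred : CfsgLib.Fusion.PPrime.IsSubPred E
        (fun P f => CfsgLib.Fusion.IsMap E P f ∧ CfsgLib.Fusion.IsMap D P f) :=
      { isMap := fun h => h.1
        congr := fun h he => ⟨h.1.congr he, h.2.congr he⟩
        conj := fun hP hg => ⟨CfsgLib.Fusion.isMap_conj hP hg,
          CfsgLib.Fusion.isMap_conj (hP.trans hTS) (hTS hg)⟩
        comp := fun hf hg hm => ⟨hf.1.comp hg.1 hm, hf.2.comp hg.2 hm⟩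
        inv := fun {P Q f r} hf hi hr h1 => by
          refine ⟨hr.isMap, ?_⟩
          obtain ⟨r', hr', hr'1, -⟩ := CfsgLib.Fusion.IsIso.exists_symm ⟨hf.2, hi.image_eq⟩
          refine hr'.isMap.congr fun y hy => ?_
          obtain ⟨x, hx, rfl⟩ := hi.surj hy
          rw [hr'1 x hx, h1 x hx] }
    intro P φ hφ
    have key := CfsgLib.Fusion.le_of_autGroup_le hT hE.1.1
      (E := CfsgLib.Fusion.PPrime.ofPred E _ hpred) (fun R hR c hc => ?_) P _
      (CfsgLib.Fusion.isMap_homFun hφ)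
    · exact CfsgLib.Fusion.mem_hom_of_isMap ((CfsgLib.Fusion.PPrime.isMap_ofPred hpred).1 key).2
        fun x => (CfsgLib.Fusion.homFun_coe φ x).symm
    · have hRc : E.IsCentric R := by
        rcases hR with rfl | hR
        · exact hTcen
        · exact hR.1
      have hcm := (CfsgLib.Fusion.mem_autGroup_iff hRc.1 c).1 hc
      refine CfsgLib.Fusion.mem_autGroup_of_isMap ((CfsgLib.Fusion.PPrime.isMap_ofPred hpred).2
        ⟨hcm.isMap, CfsgLib.Fusion.Character.isMap_of_th ?_ ?_⟩) c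
        fun x => (CfsgLib.Fusion.autFun_coe c x).symm
      · rwa [inf_eq_left.2 hRc.1]
      · refine ⟨CfsgLib.Fusion.isMap_of_subsystem hI.1 hcm.isMap, 1, K.one_mem,
          Subgroup.one_mem _, CfsgLib.Fusion.autFun c, hcm.isMap.mono inf_le_left, fun x hx => ?_⟩
        rw [CfsgLib.Fusion.autFun_apply (1 : MulAut T)
          (hRc.1 (CfsgLib.Fusion.autFun_mem c hx.1))]
        rfl
  · constructor
    · intro hα
      have hαm := (CfsgLib.Fusion.mem_autGroup_iff le_rfl α).1 hα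
      refine ⟨(CfsgLib.Fusion.mem_autGroup_iff le_rfl α).2
        (hαm.of_subsystem CfsgLib.Fusion.Character.sub_subsystem), ?_⟩
      obtain ⟨-, a, haK, haF, ψ, hψ, hv⟩ :=
        CfsgLib.Fusion.Character.th_of_isMap hS hK hI hαm.isMap
      have hψT : CfsgLib.Fusion.IsIso E T T ψ := (hψ.mono (le_inf hTS le_rfl)).isIso_of_card_le
        (fun x hx => (hψ.mono (le_inf hTS le_rfl)).mem hx) le_rfl
      obtain ⟨e, he, hev⟩ := CfsgLib.Fusion.exists_mem_autGroup hψT
      obtain ⟨hb, hb1⟩ := (hmemK _).1 (K.mul_mem haK (hEK he))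
      refine ⟨⟨a * e, hb⟩, hb1, fun t => ?_⟩
      have h1 := hv t ⟨hTS t.2, t.2⟩
      rw [CfsgLib.Fusion.autFun_apply α (hTS t.2), ← hev t, CfsgLib.Fusion.autFun_coe] at h1
      exact h1.symm
    · rintro ⟨hα, β, hβ, hβv⟩
      have hαm := (CfsgLib.Fusion.mem_autGroup_iff le_rfl α).1 hα
      refine CfsgLib.Fusion.mem_autGroup_of_isMap (CfsgLib.Fusion.Character.isMap_of_th
        (hgood S hTS) ⟨hαm.isMap, (β : MulAut T), (hmemK _).2 ⟨β.2, hβ⟩, β.2, id,
          CfsgLib.Fusion.isMap_id inf_le_right, fun x hx => ?_⟩) α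
        fun x => (CfsgLib.Fusion.autFun_coe α x).symm
      rw [id, CfsgLib.Fusion.autFun_apply α hx.1, CfsgLib.Fusion.autFun_apply (β : MulAut T) hx.2]
      exact (hβv ⟨x, hx.2⟩).symm
end Cfsg.Agent.S5243
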