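import Cfsg.Statements.S5245
import Cfsg.Agent.Lib.Fusion.AutSystem
import Cfsg.Agent.Lib.Fusion.Normal
import Cfsg.Agent.Lib.Fusion.Transport

set_option autoImplicit false
open Cfsg

namespace Cfsg.Agent.S5245

open Cfsg.FusionSystem CfsgLib.Fusion

variable {Ω : Type*} [Group Ω] {S : Subgroup Ω} {F : Cfsg.FusionSystem S} {p : ℕ} [Fact p.Prime]

theorem subsystem_autSystem {P : Subgroup Ω} (hP : P ≤ S) {A : Subgroup (MulAut P)}
    (hinn : Cfsg.autInducedBy P P ≤ A) (hA : A ≤ F.autGroup P) :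
    (autSystem A hinn).IsSubsystemOf F := by
  rintro R φ ⟨hR, α, hα, hv⟩
  exact (mem_hom_iff φ).2 (((mem_autGroup_iff hP α).1 (hA hα)).isMap.mono hR |>.congr
    fun x hx => ((homFun_apply φ hx).trans (hv ⟨x, hx⟩)).symm)

/-- The dichotomy for the system of one automorphism. -/
theorem key [Finite S] (hS : IsPGroup p S)
    (hsparse : ∀ (T : Subgroup Ω) (E : Cfsg.FusionSystem T), E.IsSaturated p → E.IsSubsystemOf F →
      (T = S ∧ ∀ P : Subgroup Ω, E.Hom P = F.Hom P) ∨
        (∀ P : Subgroup Ω, E.Hom P = (Cfsg.innerFusionSystem T).Hom P))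
    {P : Subgroup Ω} (hP : P ≤ S) {β : MulAut P} (hβ : β ∈ F.autGroup P)
    (hco : (orderOf β).Coprime p) :
    β = 1 ∨ (P = S ∧ F.autGroup P = Subgroup.zpowers β ⊔ Cfsg.autInducedBy P P) := by
  have := finite_of_le hP
  have := finite_mulAut P
  have hPp : IsPGroup p P := hS.to_le hP
  haveI : (Cfsg.autInducedBy P P).Normal := inn_eq_autInducedBy P ▸ Cfsg.innNormal P
  set A := Subgroup.zpowers β ⊔ Cfsg.autInducedBy P P
  have hinn : Cfsg.autInducedBy P P ≤ A := le_sup_right
  have hAle : A ≤ F.autGroup P := sup_le (Subgroup.zpowers_le.2 hβ)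
    ((inn_eq_autInducedBy P).symm.le.trans (inn_le_autGroup hP))
  have hsat := isSaturated_autSystem A hinn hPp (fun hd => by
    have h1 : ((Cfsg.autInducedBy P P).subgroupOf A).index ∣ orderOf β := by
      show (Cfsg.autInducedBy P P).relIndex A ∣ _
      rw [Subgroup.relIndex_sup_right, ← Nat.card_zpowers]
      exact Subgroup.index_dvd_card _
    exact (Fact.out : p.Prime).coprime_iff_not_dvd.1 hco.symm (hd.trans h1))
  rcases hsparse P _ hsat (subsystem_autSystem hP hinn hAle) with ⟨hPS, he⟩ | he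
  · refine .inr ⟨hPS, ?_⟩
    have hg : F.autGroup P = (autSystem A hinn).autGroup P := by
      simp only [Cfsg.FusionSystem.autGroup, he]
    rw [hg, autGroup_autSystem]
  · left
    have hm : IsMap (Cfsg.innerFusionSystem P) P (autFun β) := by
      obtain ⟨φ, hφ, hv⟩ := ((mem_autGroup_iff le_rfl β).1 (by
        rw [autGroup_autSystem A hinn]
        exact Subgroup.mem_sup_left (Subgroup.mem_zpowers β))).isMap
      exact ⟨φ, he P ▸ hφ, hv⟩
    obtain ⟨φ, ⟨-, g, hg, hgv⟩, hv⟩ := hm
    have hin : β ∈ Cfsg.autInducedBy P P := (mem_autInducedBy_iff P P β).2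
      ⟨g, hg, fun x => by rw [← autFun_coe β x, ← hv, hgv]⟩
    obtain ⟨k, hk⟩ := (isPGroup_autInducedBy hPp P) ⟨β, hin⟩
    have h2 : orderOf β ∣ Nat.gcd (orderOf β) (p ^ k) :=
      Nat.dvd_gcd dvd_rfl (orderOf_dvd_of_pow_eq_one (congrArg Subtype.val hk))
    rw [(hco.pow_right k).gcd_eq_one, Nat.dvd_one, orderOf_eq_one_iff] at h2
    exact h2


/-- Let F be an extremely sparse fusion system over a finite p-group S (saturated, not the inner system, and every saturated fusion system over any subgroup T of S contained in F is F itself or the inner system of T). Then S is normal in F, the focal and hyperfocal subgroups of F are both S, and Aut_F(S) is generated by the inner automorphisms of S together with a single automorphism of prime order q ≠ p (F is the fusion system of the semidirect product of S by a cyclic group of prime order). -/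
theorem result {Ω : Type*} [Group Ω] {S : Subgroup Ω} [Finite S] (p : ℕ) [Fact p.Prime] (hS : IsPGroup p S) (F : Cfsg.FusionSystem S) (hF : F.IsSaturated p) (hxs : ¬ (∀ P : Subgroup Ω, F.Hom P = (Cfsg.innerFusionSystem S).Hom P) ∧ ∀ (T : Subgroup Ω) (E : Cfsg.FusionSystem T), E.IsSaturated p → E.IsSubsystemOf F → (T = S ∧ ∀ P : Subgroup Ω, E.Hom P = F.Hom P) ∨ (∀ P : Subgroup Ω, E.Hom P = (Cfsg.innerFusionSystem T).Hom P)) : F.IsNormal S ∧ F.focalSubgroup = S ∧ F.hyperfocalSubgroup p = S ∧ ∃ (q : ℕ) (β : MulAut ↥S), q.Prime ∧ q ≠ p ∧ β ∈ F.autGroup S ∧ orderOf β = q ∧ (F.autGroup S : Subgroup (MulAut ↥S)) = Cfsg.Inn ↥S ⊔ Subgroup.zpowers β := by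
  classical
  obtain ⟨hni, hsp⟩ := hxs
  have := finite_mulAut S
  -- automorphism groups of proper subgroups are `p`-groups
  have hpg : ∀ P : Subgroup Ω, P ≤ S → P ≠ S → IsPGroup p (F.autGroup P) := by
    intro P hP hne α
    have := finite_of_le hP
    have := finite_mulAut P
    obtain ⟨a, r, hr, hord⟩ := Nat.exists_eq_pow_mul_and_not_dvd
      (orderOf_pos (α : MulAut P)).ne' p (Fact.out : p.Prime).ne_one
    have hpow : (α : MulAut P) ^ p ^ a = 1 := by
      refine (key hS hsp hP (Subgroup.pow_mem _ α.2 _) ?_).resolve_right fun h => hne h.1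
      have : orderOf ((α : MulAut P) ^ p ^ a) ∣ r := orderOf_dvd_of_pow_eq_one
        (by rw [← pow_mul, ← hord, pow_orderOf_eq_one])
      exact Nat.Coprime.coprime_dvd_left this ((Fact.out : p.Prime).coprime_iff_not_dvd.2 hr).symm
    exact ⟨a, Subtype.ext hpow⟩
  have hnoess : ∀ P : Subgroup Ω, ¬ F.IsEssential p P := by
    intro P hP
    have hne := ne_of_isEssential hS hF hP
    obtain ⟨hcen, hfn, hn, E, hE⟩ := hP
    have := finite_of_le hfn.1
    have := finite_mulAut P
    have htop := eq_bot_of_isStronglyPEmbedded hE (U := ⊤)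
      (((hpg P hfn.1 hne).to_quotient _).to_subgroup ⊤)
    refine hE.2.1 (eq_top_iff.2 fun x _ => ?_)
    have hx : x ∈ (⊤ : Subgroup (↥(F.autGroup P) ⧸ (Cfsg.Inn ↥P).subgroupOf (F.autGroup P))) :=
      Subgroup.mem_top x
    rw [htop, Subgroup.mem_bot] at hx
    rw [hx]
    exact E.one_mem
  have hN : F.IsNormal S := by
    refine isNormal_of_generators hS hF le_rfl fun P hP => ?_
    rcases hP with rfl | hess
    · exact ⟨le_rfl, fun α _ x hx => autFun_mem α hx⟩
    · exact absurd hess (hnoess P)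
  obtain ⟨-, R, hR⟩ := ((isSaturated_iff_top_automized_receptive hS).1 hF).1
  have hneq : F.autGroup S ≠ Cfsg.autInducedBy S S := by
    intro he
    refine hni fun P => hom_eq_of_isMap_iff fun f => ⟨fun hf => ?_, fun hf => ?_⟩
    · obtain ⟨g, hg, hag, hgS⟩ := (isNormal_iff.1 hN).2 P f hf
      obtain ⟨α, hα, hαv⟩ := exists_mem_autGroup (F := F) (f := g) ⟨hg.mono le_sup_right, hgS⟩
      rw [he] at hα
      obtain ⟨s, hs, hsv⟩ := (mem_autInducedBy_iff S S α).1 hα
      refine (isMap_conj hf.le hs).congr fun x hx => ?_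
      rw [← hag x hx, ← hαv ⟨x, hf.le hx⟩, hsv]
    · obtain ⟨φ, ⟨hP, g, hg, hgv⟩, hv⟩ := hf
      exact (isMap_conj hP hg).congr fun x hx => by rw [← hv ⟨x, hx⟩, hgv]
  have hidx : ((Cfsg.autInducedBy S S).subgroupOf (F.autGroup S)).index ≠ 1 := by
    rw [Ne, Subgroup.index_eq_one, Subgroup.subgroupOf_eq_top]
    exact fun h => hneq (le_antisymm h (autInducedBy_le_autGroup le_rfl))
  obtain ⟨q, hq, hqd⟩ := Nat.exists_prime_and_dvd hidx
  have hqp : q ≠ p := by
    rintro rfl
    rw [← hR] at hqd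
    exact R.not_dvd_index hqd
  haveI : Fact q.Prime := ⟨hq⟩
  obtain ⟨β', hβ'⟩ := exists_prime_orderOf_dvd_card' q (hqd.trans (Subgroup.index_dvd_card _))
  set β : MulAut S := β'.1 with hβdef
  have hβA : β ∈ F.autGroup S := β'.2
  have hord : orderOf β = q := by rw [hβdef, Subgroup.orderOf_coe, hβ']
  have hco : (orderOf β).Coprime p := by rw [hord]; exact (Nat.coprime_primes hq Fact.out).2 hqp
  have hβ1 : β ≠ 1 := fun h => hq.one_lt.ne (by rw [← hord, h, orderOf_one])
  have hA := ((key hS hsp le_rfl hβA hco).resolve_left hβ1).2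
  -- the commutator with `β` is everything
  set T : Subgroup S := Subgroup.closure (Set.range fun x : S => x⁻¹ * β x) with hT
  have hTn : T.Normal := by
    refine ⟨fun n hn g => ?_⟩
    induction hn using Subgroup.closure_induction with
    | mem n hn =>
      obtain ⟨x, rfl⟩ := hn
      have h1 := T.mul_mem (Subgroup.subset_closure ⟨x * g⁻¹, rfl⟩)
        (T.inv_mem (Subgroup.subset_closure ⟨g⁻¹, rfl⟩))
      convert h1 using 1
      simp only [map_mul, map_inv]
      group
    | one => simp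
    | mul a b _ _ ha hb => rw [show g * (a * b) * g⁻¹ = (g * a * g⁻¹) * (g * b * g⁻¹) by group]; exact T.mul_mem ha hb
    | inv a _ ha => rw [show g * a⁻¹ * g⁻¹ = (g * a * g⁻¹)⁻¹ by group]; exact T.inv_mem ha
  have hTinv : ∀ n : S, n ∈ T → β n ∈ T := by
    intro n hn
    induction hn using Subgroup.closure_induction with
    | mem n hn =>
      obtain ⟨x, rfl⟩ := hn
      exact Subgroup.subset_closure ⟨β x, by simp⟩
    | one => simp
    | mul a b _ _ ha hb => rw [map_mul]; exact T.mul_mem ha hb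
    | inv a _ ha => rw [map_inv]; exact T.inv_mem ha
  set T' := T.map S.subtype with hT'
  have hT'S : T' ≤ S := Subgroup.map_subtype_le T
  have htop : T' = S := by
    by_contra hne
    have := finite_of_le hT'S
    have himg : autFun β '' (T' : Set Ω) = T' := by
      refine Set.eq_of_subset_of_ncard_le ?_ ?_ (Set.toFinite _)
      · rintro _ ⟨_, ⟨n, hn, rfl⟩, rfl⟩
        exact ⟨β n, hTinv n hn, (autFun_coe β n).symm⟩
      · rw [Set.ncard_image_of_injOn]
        rintro _ ⟨a, -, rfl⟩ _ ⟨b, -, rfl⟩ h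
        have h' : ((β a : S) : Ω) = β b := by
          rw [← autFun_coe β a, ← autFun_coe β b]; exact h
        exact congrArg Subtype.val (β.injective (Subtype.ext h'))
    obtain ⟨γ, hγ, hγv⟩ := exists_mem_autGroup (F := F) (f := autFun β)
      ⟨((mem_autGroup_iff le_rfl β).1 hβA).isMap.mono hT'S, himg⟩
    have hiter : ∀ (m : ℕ) (x : T'), (((γ ^ m) x : T') : Ω) = ((β ^ m) ⟨x, hT'S x.2⟩ : S) := by
      intro m
      induction m with
      | zero => intro x; simp
      | succ m ih =>
        intro x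
        rw [pow_succ', pow_succ', MulAut.mul_apply, MulAut.mul_apply, hγv, autFun_apply β (hT'S (SetLike.coe_mem _))]
        congr 2
        exact Subtype.ext (ih x)
    have hγq : γ ^ q = 1 := MulEquiv.ext fun x => Subtype.ext (by
      rw [hiter, ← hord, pow_orderOf_eq_one]
      rfl)
    have hγ1 : γ = 1 := (key hS hsp hT'S hγ (Nat.Coprime.coprime_dvd_left
      (orderOf_dvd_of_pow_eq_one hγq) ((Nat.coprime_primes hq Fact.out).2 hqp))).resolve_right
      fun h => hne h.1
    have hfix : ∀ n ∈ T, β n = n := by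
      intro n hn
      refine Subtype.ext ?_
      rw [← autFun_coe β n, ← hγv ⟨(n : Ω), n, hn, rfl⟩, hγ1]
      rfl
    refine hβ1 (MulEquiv.ext fun x => ?_)
    show β x = x
    set d := x⁻¹ * β x with hd
    have hdT : d ∈ T := Subgroup.subset_closure ⟨x, rfl⟩
    have hxm : ∀ m : ℕ, (β ^ m) x = x * d ^ m := by
      intro m
      induction m with
      | zero => simp
      | succ m ihm =>
        rw [pow_succ', MulAut.mul_apply, ihm, map_mul, map_pow, hfix d hdT,
          show β x = x * d by rw [hd, mul_inv_cancel_left], pow_succ', mul_assoc]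
    have hdq : d ^ q = 1 := by
      have := hxm q
      rw [← hord, pow_orderOf_eq_one, MulAut.one_apply, hord] at this
      exact mul_eq_left.1 this.symm
    obtain ⟨b, hb⟩ := hS d
    have h1 : orderOf d ∣ Nat.gcd (p ^ b) q :=
      Nat.dvd_gcd (orderOf_dvd_of_pow_eq_one hb) (orderOf_dvd_of_pow_eq_one hdq)
    rw [(((Nat.coprime_primes (Fact.out : p.Prime) hq).2 hqp.symm).pow_left b).gcd_eq_one,
      Nat.dvd_one, orderOf_eq_one_iff, hd, inv_mul_eq_one] at h1
    exact h1.symm
  have hhyp : F.hyperfocalSubgroup p = S := by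
    refine le_antisymm ((Subgroup.closure_le _).2 ?_) ?_
    · rintro _ ⟨P, α, x, hP, -, rfl⟩
      exact S.mul_mem (S.inv_mem (hP x.2)) (hP (SetLike.coe_mem _))
    · refine htop.ge.trans ?_
      rw [hT', Subgroup.map_le_iff_le_comap, hT, Subgroup.closure_le]
      rintro _ ⟨x, rfl⟩
      refine Subgroup.subset_closure ⟨S, β', x, le_rfl,
        CfsgLib.Transfer.mem_pResidual_of_coprime ?_, rfl⟩
      rw [hβ']
      exact (Nat.coprime_primes hq Fact.out).2 hqp
  have hfoc : F.focalSubgroup = S := by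
    refine le_antisymm ((Subgroup.closure_le _).2 ?_) ?_
    · rintro _ ⟨P, φ, x, hφ, rfl⟩
      exact S.mul_mem (S.inv_mem ((F.le_of_mem hφ).1 x.2)) ((F.le_of_mem hφ).2 x)
    · conv_lhs => rw [← hhyp]
      refine (Subgroup.closure_le _).2 ?_
      rintro _ ⟨P, α, x, hP, -, rfl⟩
      obtain ⟨φ, hφ, hv⟩ := ((mem_autGroup_iff hP (α : MulAut P)).1 α.2).isMap
      exact Subgroup.subset_closure ⟨P, φ, x, hφ, by rw [hv, autFun_coe]⟩
  refine ⟨hN, hfoc, hhyp, q, β, hq, hqp, hβA, hord, ?_⟩
  rw [hA, sup_comm, inn_eq_autInducedBy]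

end Cfsg.Agent.S5245
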