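import Cfsg.Statements.S5254
import Cfsg.Agent.Lib.Fusion.EssentialFlag

set_option autoImplicit false
open Cfsg

namespace Cfsg.Agent.S5254

open CfsgLib.Fusion
open scoped commutatorElement

section
variable {V : Type*} [Group V] (G : Subgroup (MulAut V))

/-- The automorphisms in `G` trivial on `D` and modulo `D`. -/
def stab (D : Subgroup V) [D.Normal] : Subgroup G where
  carrier := {α | (∀ z ∈ D, (α : MulAut V) z = z) ∧ ∀ y, y⁻¹ * (α : MulAut V) y ∈ D}
  one_mem' := ⟨fun z _ => rfl, fun y => by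
    show y⁻¹ * y ∈ D
    rw [inv_mul_cancel]; exact one_mem _⟩
  mul_mem' := by
    intro a b ha hb
    refine ⟨fun z hz => ?_, fun y => ?_⟩
    · rw [Subgroup.coe_mul, MulAut.mul_apply, hb.1 z hz, ha.1 z hz]
    · rw [Subgroup.coe_mul, MulAut.mul_apply,
        show y⁻¹ * (a : MulAut V) ((b : MulAut V) y) = (y⁻¹ * (b : MulAut V) y) *
          (((b : MulAut V) y)⁻¹ * (a : MulAut V) ((b : MulAut V) y)) by group]
      exact mul_mem (hb.2 y) (ha.2 _)
  inv_mem' := by
    intro a ha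
    refine ⟨fun z hz => ?_, fun y => ?_⟩
    · conv_lhs => rw [← ha.1 z hz]
      rw [Subgroup.coe_inv, MulAut.inv_apply_self]
    · have := inv_mem (ha.2 (((a⁻¹ : G) : MulAut V) y))
      rw [Subgroup.coe_inv] at this ⊢
      rwa [MulAut.apply_inv_self, mul_inv_rev, inv_inv] at this

theorem stab_pgroup [Finite V] {p : ℕ} [Fact p.Prime] (hV : IsPGroup p V) (D : Subgroup V)
    [D.Normal] : IsPGroup p (stab G D) := by
  have h : IsPGroup p ((stab G D).map G.subtype) := by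
    let L : ℕ → Subgroup V := fun i => if i = 0 then ⊥ else if i = 1 then D else ⊤
    refine isPGroup_of_stabilizes_series hV L 2 rfl rfl _ ?_
    rintro _ ⟨α, hα, rfl⟩ i hi x hx
    match i, hi with
    | 0, _ => exact Subgroup.mem_bot.2 (by rw [G.coe_subtype, hα.1 x hx, inv_mul_cancel])
    | 1, _ => exact hα.2 x
  exact h.of_equiv ((stab G D).equivMapOfInjective G.subtype G.subtype_injective).symm

theorem stab_conj [Finite V] (D : Subgroup V) [D.Normal] {β α : G}
    (hβ : ∀ z ∈ D, (β : MulAut V) z ∈ D) (hα : α ∈ stab G D) : β * α * β⁻¹ ∈ stab G D := by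
  have hmap : D.map (β : MulAut V).toMonoidHom = D := by
    refine Subgroup.eq_of_le_of_card_ge ?_ (le_of_eq ?_)
    · rintro _ ⟨z, hz, rfl⟩
      exact hβ z hz
    · exact Nat.card_congr (D.equivMapOfInjective _ (β : MulAut V).injective).toEquiv
  refine ⟨fun z hz => ?_, fun y => ?_⟩
  · rw [← hmap] at hz
    obtain ⟨w, hw, rfl⟩ := hz
    show (β : MulAut V) ((α : MulAut V) ((β : MulAut V)⁻¹ ((β : MulAut V) w))) = (β : MulAut V) w
    rw [MulAut.inv_apply_self, hα.1 w hw]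
  · have := hβ _ (hα.2 ((β : MulAut V)⁻¹ y))
    rw [map_mul, map_inv, MulAut.apply_inv_self] at this
    exact this

theorem stab_normal [Finite V] (D : Subgroup V) [D.Normal]
    (h : ∀ β : G, ∀ z ∈ D, (β : MulAut V) z ∈ D) : (stab G D).Normal :=
  ⟨fun _ hα β => stab_conj G D (h β) hα⟩

end


/-- Let p be an odd prime, S a finite nonabelian p-group with a unique abelian subgroup A of index p, and F a saturated fusion system over S. Then every F-essential subgroup P is A, or Z(S)⟨x⟩ for some x ∈ S outside A, or (when the second centre Z₂(S) lies in A) Z₂(S)⟨x⟩ for some x ∈ S outside A; and P has index p in its normalizer in S. -/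
theorem result {Ω : Type*} [Group Ω] {S : Subgroup Ω} [Finite S] (p : ℕ) [Fact p.Prime] (hS : IsPGroup p S) (F : Cfsg.FusionSystem S) (hF : F.IsSaturated p) (hp : p ≠ 2) (hna : ¬ IsMulCommutative ↥S) (A : Subgroup Ω) (hA : A ≤ S ∧ IsMulCommutative ↥A ∧ (A.subgroupOf S).index = p) (huniq : ∀ B : Subgroup Ω, B ≤ S → IsMulCommutative ↥B → (B.subgroupOf S).index = p → B = A) (P : Subgroup Ω) (hP : F.IsEssential p P) : (P = A ∨ (∃ x ∈ S, x ∉ A ∧ P = (S ⊓ Subgroup.centralizer (S : Set Ω)) ⊔ Subgroup.zpowers x) ∨ (((upperCentralSeries ↥S 2).map S.subtype) ≤ A ∧ ∃ x ∈ S, x ∉ A ∧ P = ((upperCentralSeries ↥S 2).map S.subtype) ⊔ Subgroup.zpowers x)) ∧ (P.subgroupOf (S ⊓ Subgroup.normalizer (P : Set Ω))).index = p := by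
  classical
  obtain ⟨hAS, hAab, hAidx⟩ := hA
  have hp' : p.Prime := Fact.out
  have hAcomm : ∀ a ∈ A, ∀ b ∈ A, a * b = b * a := fun a ha b hb =>
    congrArg Subtype.val (hAab.is_comm.comm ⟨a, ha⟩ ⟨b, hb⟩)
  have hPS : P ≤ S := hP.1.1
  have hne : P ≠ S := ne_of_isEssential hS hF hP
  haveI : Finite P := finite_of_le hPS
  haveI := finite_mulAut P
  have hAn : (A.subgroupOf S).Normal :=
    Subgroup.normal_of_index_eq_minFac_card (by
      obtain ⟨k, hk⟩ := hS.exists_card_eq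
      have hd : p ∣ Nat.card S := hAidx ▸ Subgroup.index_dvd_card _
      rw [hAidx, hk]
      rcases Nat.eq_zero_or_pos k with rfl | hk0
      · rw [hk, pow_zero] at hd
        exact absurd (Nat.dvd_one.1 hd) hp'.ne_one
      · rw [Nat.Prime.pow_minFac hp' hk0.ne'])
  have hAconj : ∀ g ∈ S, ∀ a ∈ A, g * a * g⁻¹ ∈ A := fun g hg a ha =>
    hAn.conj_mem ⟨a, hAS ha⟩ ha ⟨g, hg⟩
  have hcomA : ∀ g ∈ S, ∀ y ∈ S, g * y * g⁻¹ * y⁻¹ ∈ A := by
    intro g hg y hy
    haveI : IsCyclic (S ⧸ A.subgroupOf S) :=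
      isCyclic_of_prime_card (p := p) (by rw [← Subgroup.index_eq_card, hAidx])
    letI := IsCyclic.commGroup (α := S ⧸ A.subgroupOf S)
    have : QuotientGroup.mk' (A.subgroupOf S) ((⟨g, hg⟩ : S) * ⟨y, hy⟩ * ⟨g, hg⟩⁻¹ * ⟨y, hy⟩⁻¹) = 1 := by
      simp only [map_mul, map_inv]
      rw [mul_inv_cancel_comm, mul_inv_cancel]
    exact (QuotientGroup.eq_one_iff (N := A.subgroupOf S) _).1 this
  have hrelA : ∀ H ≤ S, ¬ H ≤ A → A.relIndex H = p := by
    intro H hH hHA
    have h1 := Subgroup.relIndex_dvd_index_of_normal (A.subgroupOf S) (H.subgroupOf S)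
    rw [Subgroup.relIndex_subgroupOf hH, hAidx] at h1
    exact (hp'.eq_one_or_self_of_dvd _ h1).resolve_left fun h => hHA (Subgroup.relIndex_eq_one.1 h)
  have hsup : ∀ g ∈ S, g ∉ A → A ⊔ Subgroup.zpowers g = S := by
    intro g hg hgA
    refine le_antisymm (sup_le hAS (Subgroup.zpowers_le.2 hg)) ?_
    have h1 : (A ⊔ Subgroup.zpowers g).relIndex S = 1 := by
      have h2 := Subgroup.relIndex_mul_relIndex A (A ⊔ Subgroup.zpowers g) S le_sup_left
        (sup_le hAS (Subgroup.zpowers_le.2 hg))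
      rw [hrelA _ (sup_le hAS (Subgroup.zpowers_le.2 hg))
        (fun h => hgA (h (Subgroup.mem_sup_right (Subgroup.mem_zpowers g))))] at h2
      exact (mul_eq_left₀ hp'.ne_zero).1 (h2.trans hAidx)
    exact Subgroup.relIndex_eq_one.1 h1
  have hScom : ∀ g ∈ S, g ∉ A → ∀ a, (∀ b ∈ A, a * b = b * a) → a * g = g * a →
      ∀ y ∈ S, a * y = y * a := by
    intro g hg hgA a hab hag y hy
    have : S ≤ Subgroup.centralizer {a} := by
      rw [← hsup g hg hgA]
      exact sup_le (fun b hb => Subgroup.mem_centralizer_singleton_iff.2 (hab b hb).symm)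
        (Subgroup.zpowers_le.2 (Subgroup.mem_centralizer_singleton_iff.2 hag.symm))
    exact (Subgroup.mem_centralizer_singleton_iff.1 (this hy)).symm
  set Z := S ⊓ Subgroup.centralizer (S : Set Ω) with hZdef
  have hZc : ∀ z ∈ Z, ∀ y ∈ S, z * y = y * z := fun z hz y hy => (hz.2 y hy).symm
  have hZP : Z ≤ P := fun z hz =>
    hP.1.2 P (isConj_refl hPS) ⟨hz.1, fun y hy => hz.2 y (hPS hy)⟩
  have hZA : Z ≤ A := by
    intro z hz
    by_contra hzA
    refine hna ⟨⟨fun a b => Subtype.ext ?_⟩⟩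
    have hA' : ∀ c ∈ A, ∀ y ∈ S, c * y = y * c := fun c hc =>
      hScom z hz.1 hzA c (hAcomm c hc) (hZc z hz c (hAS hc)).symm
    have : S ≤ Subgroup.centralizer {(a : Ω)} := by
      refine (hsup z hz.1 hzA).ge.trans ?_
      exact sup_le (fun c hc => Subgroup.mem_centralizer_singleton_iff.2 (hA' c hc a a.2))
        (Subgroup.zpowers_le.2 (Subgroup.mem_centralizer_singleton_iff.2 (hZc z hz a a.2)))
    exact (Subgroup.mem_centralizer_singleton_iff.1 (this b.2)).symm
  by_cases hPA : P ≤ A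
  · have hAP : A ≤ P := fun a ha =>
      hP.1.2 P (isConj_refl hPS) ⟨hAS ha, fun y hy => hAcomm y (hPA hy) a ha⟩
    obtain rfl := le_antisymm hPA hAP
    refine ⟨.inl rfl, ?_⟩
    have hnorm : S ⊓ Subgroup.normalizer (P : Set Ω) = S :=
      inf_eq_left.2 fun g hg => mem_normalizer_of_conj_mem hPS fun y hy => hAconj g hg y hy
    rw [hnorm]
    exact hAidx
  obtain ⟨x, hxP, hxA⟩ := SetLike.not_le_iff_exists.1 hPA
  have hxS := hPS hxP
  set P0 := P ⊓ A with hP0
  have hPgen : P = P0 ⊔ Subgroup.zpowers x := by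
    refine le_antisymm ?_ (sup_le inf_le_left (Subgroup.zpowers_le.2 hxP))
    have hm := Subgroup.relIndex_mul_relIndex P0 (P0 ⊔ Subgroup.zpowers x) P le_sup_left
      (sup_le inf_le_left (Subgroup.zpowers_le.2 hxP))
    rw [hP0, Subgroup.inf_relIndex_left, hrelA P hPS hPA] at hm
    rcases hp'.eq_one_or_self_of_dvd _ ⟨_, hm.symm⟩ with h | h
    · exact absurd ((Subgroup.relIndex_eq_one.1 h (Subgroup.mem_sup_right (Subgroup.mem_zpowers x))).2) hxA
    · rw [h] at hm
      exact Subgroup.relIndex_eq_one.1 ((mul_eq_left₀ hp'.ne_zero).1 hm)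
  -- the normaliser
  set N := S ⊓ Subgroup.normalizer (P : Set Ω) with hN
  have hPN : P < N := lt_normalizerIn hS hPS hne
  have hindex : P.relIndex N = P0.relIndex (N ⊓ A) := by
    have h1 := Subgroup.relIndex_mul_relIndex P0 P N inf_le_left hPN.le
    have h2 := Subgroup.relIndex_mul_relIndex P0 (N ⊓ A) N
      (le_inf (inf_le_left.trans hPN.le) inf_le_right) inf_le_left
    rw [Subgroup.inf_relIndex_left N A, hrelA N inf_le_left (fun h => hxA (h (hPN.le hxP)))] at h2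
    rw [hP0, Subgroup.inf_relIndex_left, hrelA P hPS hPA] at h1
    rw [← h2, mul_comm p] at h1
    exact Nat.eq_of_mul_eq_mul_right hp'.pos h1
  have hfin : P0.relIndex (N ⊓ A) ∣ p → (P.subgroupOf N).index = p := by
    intro h
    rw [← hindex] at h
    exact (hp'.eq_one_or_self_of_dvd _ h).resolve_left fun h1 =>
      hPN.not_ge (Subgroup.relIndex_eq_one.1 h1)
  -- commutators with `x`
  have hcP0 : ∀ a ∈ N ⊓ A, a * x * a⁻¹ * x⁻¹ ∈ P0 := fun a ha =>
    ⟨P.mul_mem ((Subgroup.mem_normalizer_iff.1 ha.1.2 x).1 hxP) (P.inv_mem hxP), hcomA a ha.1.1 x hxS⟩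
  let f : ↥(N ⊓ A) →* P := MonoidHom.mk' (fun a => ⟨_, (hcP0 a a.2).1⟩) fun a b => Subtype.ext (by
    show (a : Ω) * b * x * ((a : Ω) * b)⁻¹ * x⁻¹ =
      ((a : Ω) * x * (a : Ω)⁻¹ * x⁻¹) * ((b : Ω) * x * (b : Ω)⁻¹ * x⁻¹)
    have e : ((a : Ω) * x * (a : Ω)⁻¹ * x⁻¹) * ((b : Ω) * x * (b : Ω)⁻¹ * x⁻¹) =
        ((b : Ω) * x * (b : Ω)⁻¹ * x⁻¹) * ((a : Ω) * x * (a : Ω)⁻¹ * x⁻¹) :=
      hAcomm _ (hcP0 a a.2).2 _ (hcP0 b b.2).2
    rw [e]
    have e2 : (a : Ω) * ((b : Ω) * x * (b : Ω)⁻¹ * x⁻¹) = ((b : Ω) * x * (b : Ω)⁻¹ * x⁻¹) * (a : Ω) :=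
      hAcomm _ a.2.2 _ (hcP0 b b.2).2
    calc (a : Ω) * b * x * ((a : Ω) * b)⁻¹ * x⁻¹
        = (a : Ω) * ((b : Ω) * x * (b : Ω)⁻¹ * x⁻¹) * x * (a : Ω)⁻¹ * x⁻¹ := by group
      _ = _ := by rw [e2]; group)
  have hbound : ∀ (D : Subgroup P) [D.Normal], D.relIndex (P0.subgroupOf P) ∣ p →
      (∀ a : ↥(N ⊓ A), f a ∈ D → (a : Ω) ∈ P0) → P0.relIndex (N ⊓ A) ∣ p := by
    intro D _ hD hker
    let g := (QuotientGroup.mk' D).comp f
    have h1 : g.ker ≤ P0.subgroupOf (N ⊓ A) := fun a ha =>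
      hker a ((QuotientGroup.eq_one_iff _).1 ha)
    refine (Subgroup.index_dvd_of_le h1).trans ?_
    rw [Subgroup.index_ker]
    refine (Subgroup.card_dvd_of_le (K := (P0.subgroupOf P).map (QuotientGroup.mk' D)) ?_).trans ?_
    · rintro _ ⟨a, rfl⟩
      exact ⟨f a, hcP0 a a.2, rfl⟩
    · rwa [← Subgroup.relIndex_ker, QuotientGroup.ker_mk']
  set G := F.autGroup P
  have hmkα : ∀ a ∈ N, ∃ α : G, (α : MulAut P) ∈ autInducedBy S P ∧
      ∀ y : P, ((α : MulAut P) y : Ω) = a * y * a⁻¹ := fun a ha => by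
    have h := conjAut_mem_autInducedBy (K := S) (P := P) ha.2 ha.1
    exact ⟨⟨_, autInducedBy_le_autGroup hPS h⟩, h, conjAut_apply P ha.2⟩
  have hP0n : (P0.subgroupOf P).Normal :=
    ⟨fun n hn g => ⟨(g * n * g⁻¹ : P).2, hAconj g (hPS g.2) n hn.2⟩⟩
  have hP0idx : (P0.subgroupOf P).index = p := by
    show P0.relIndex P = p
    rw [hP0, Subgroup.inf_relIndex_left, hrelA P hPS hPA]
  by_cases hab : P0 ≤ Z
  · -- `P` is abelian
    have hP0Z : P0 = Z := le_antisymm hab (le_inf hZP hZA)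
    refine ⟨.inr (.inl ⟨x, hxS, hxA, hP0Z ▸ hPgen⟩), hfin ?_⟩
    have hPc : ∀ u v : P, u * v = v * u := by
      have h1 : P ≤ Subgroup.centralizer {x} := by
        rw [hPgen]
        exact sup_le (fun z hz => Subgroup.mem_centralizer_singleton_iff.2 (hZc z (hab hz) x hxS))
          (Subgroup.zpowers_le.2 (Subgroup.mem_centralizer_singleton_iff.2 rfl))
      intro u v
      have h2 : P ≤ Subgroup.centralizer {(u : Ω)} := by
        conv_lhs => rw [hPgen]
        exact sup_le (fun z hz => Subgroup.mem_centralizer_singleton_iff.2 (hZc z (hab hz) u (hPS u.2)))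
          (Subgroup.zpowers_le.2 (Subgroup.mem_centralizer_singleton_iff.2
            (Subgroup.mem_centralizer_singleton_iff.1 (h1 u.2)).symm))
      exact Subtype.ext (Subgroup.mem_centralizer_singleton_iff.1 (h2 v.2)).symm
    letI : CommGroup P := { (inferInstance : Group P) with mul_comm := hPc }
    set Zp := P0.subgroupOf P with hZp
    obtain ⟨R, hR⟩ := (isFullyAutomized_of_isFullyNormalized hS hF hP.2.1).2
    have hQK : (R : Subgroup G) = stab G Zp := by
      refine (R.3 (stab_pgroup G (hS.to_le hPS) Zp) ?_).symm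
      rw [hR]
      intro α hα
      obtain ⟨g, hg, hv⟩ := (mem_autInducedBy_iff S P _).1 hα
      replace hv : ∀ y : P, ((α : MulAut P) y : Ω) = g * y * g⁻¹ := hv
      refine ⟨fun z hz => Subtype.ext ?_, fun y => ?_⟩
      · rw [hv, ← hZc (z : Ω) (hab hz) g hg, mul_inv_cancel_right]
      · refine ⟨((y⁻¹ * (α : MulAut P) y : P)).2, ?_⟩
        show (y : Ω)⁻¹ * ((α : MulAut P) y : Ω) ∈ A
        rw [hv]
        have := hAconj (y : Ω)⁻¹ (inv_mem (hPS y.2)) _ (hcomA g hg y (hPS y.2))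
        simpa [mul_assoc] using this
    have hQfix : ∀ α ∈ (R : Subgroup G), ∀ z ∈ Zp, (α : MulAut P) z = z := fun α hα => (hQK ▸ hα : α ∈ stab G Zp).1
    obtain ⟨hn, E, hE⟩ := hP.2.2
    have hI : (Inn P).subgroupOf G = ⊥ := by
      rw [eq_bot_iff]
      rintro α hα
      obtain ⟨u, hu⟩ := (hα : (α : MulAut P) ∈ Inn P)
      refine Subgroup.mem_bot.2 (Subtype.ext (MulEquiv.ext fun y => ?_))
      rw [show (α : MulAut P) = MulAut.conj u from hu.symm]
      show u * y * u⁻¹ = y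
      rw [mul_comm u y, mul_inv_cancel_right]
    let q := QuotientGroup.mk' ((Inn P).subgroupOf G)
    have hqi : Function.Injective q := (MonoidHom.ker_eq_bot_iff _).1 (by rw [QuotientGroup.ker_mk', hI])
    obtain ⟨E0, hE0, hEn⟩ := exists_of_isStronglyPEmbedded hE (R.mapSurjective (f := q) (QuotientGroup.mk'_surjective _))
    have hnorm : ∀ U : Subgroup G, U ≤ R → U ≠ ⊥ → Subgroup.normalizer (U : Set G) ≤ E0.comap q :=
      fun U hU hU0 n hn => hEn (U.map q)
        (Subgroup.map_mono hU)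
        (fun h => hU0 ((Subgroup.map_eq_bot_iff_of_injective U hqi).1 h))
        (Subgroup.le_normalizer_map q ⟨n, hn, rfl⟩)
    by_contra hidx
    refine hE0 (Subgroup.comap_injective (QuotientGroup.mk'_surjective ((Inn P).subgroupOf G)) ?_)
    rw [Subgroup.comap_top]
    refine eq_top_iff.2 fun h _ => ?_
    obtain ⟨a, haN, haP⟩ := SetLike.exists_of_lt hPN
    have hR0 : (R : Subgroup G) ≠ ⊥ := by
      intro h0
      obtain ⟨α, hα, hv⟩ := hmkα a haN
      have : α = 1 := Subgroup.mem_bot.1 (h0 ▸ hR.ge hα)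
      subst this
      refine haP (hP.1.2 P (isConj_refl hPS) ⟨haN.1, fun y hy => ?_⟩)
      have := hv ⟨y, hy⟩
      rw [eq_mul_inv_iff_mul_eq] at this
      exact this
    by_cases hh : ∀ z ∈ Zp, (h : MulAut P) z ∈ Zp
    · refine hnorm R le_rfl hR0 (Subgroup.mem_normalizer_fintype fun α hα => ?_)
      rw [SetLike.mem_coe, hQK] at hα ⊢
      exact stab_conj G Zp hh hα
    set Zh := Zp.map (h : MulAut P).toMonoidHom with hZh
    set D := Zp ⊓ Zh with hD
    have hDp : D.relIndex Zp ∣ p := by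
      rw [hD, Subgroup.inf_relIndex_left]
      refine (Subgroup.relIndex_dvd_index_of_normal _ _).trans (dvd_of_eq ?_)
      exact (Subgroup.index_map_equiv Zp (h : MulAut P)).trans hP0idx
    obtain ⟨b, hbD, hbZ⟩ : ∃ b : ↥(N ⊓ A), f b ∈ D ∧ (b : Ω) ∉ P0 := by
      by_contra hc
      push Not at hc
      exact hidx (hbound D hDp hc)
    have hnr : ∀ α ∈ (R : Subgroup G), α ∈ Subgroup.normalizer (stab G D : Set G) := fun α hα =>
      Subgroup.mem_normalizer_fintype fun β hβ => stab_conj G D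
        (fun z hz => (hQfix α hα z hz.1).symm ▸ hz) hβ
    have hDR : stab G D ≤ R := by
      have := R.3 ((stab_pgroup G (hS.to_le hPS) D).to_sup_of_normal_left' R.2 hnr) le_sup_right
      exact this ▸ le_sup_left
    have hDne : stab G D ≠ ⊥ := by
      intro h0
      obtain ⟨α, -, hv⟩ := hmkα (b : Ω) b.2.1
      have hαD : α ∈ stab G D := by
        refine ⟨fun z hz => Subtype.ext ?_, fun y => ?_⟩
        · rw [hv, ← hZc (z : Ω) (hab hz.1) (b : Ω) b.2.1.1, mul_inv_cancel_right]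
        · let φ : P →* P ⧸ D := MonoidHom.mk' (fun y => QuotientGroup.mk' D (y⁻¹ * (α : MulAut P) y))
            fun u v => by
              rw [← map_mul]; congr 1
              rw [map_mul, mul_inv, mul_mul_mul_comm]
          have hgen : (⊤ : Subgroup P) ≤ φ.ker := by
            have h1 : Zp ⊔ Subgroup.zpowers ⟨x, hxP⟩ = ⊤ := by
              refine Subgroup.map_injective P.subtype_injective ?_
              rw [Subgroup.map_sup, MonoidHom.map_zpowers, ← MonoidHom.range_eq_map, Subgroup.range_subtype,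
                hZp, Subgroup.map_subgroupOf_eq_of_le inf_le_left]
              exact hPgen.symm
            rw [← h1]
            refine sup_le (fun z hz => ?_) (Subgroup.zpowers_le.2 ?_)
            · refine MonoidHom.mem_ker.2 ((QuotientGroup.eq_one_iff _).2 ?_)
              rw [show (α : MulAut P) z = z from Subtype.ext (by
                rw [hv, ← hZc (z : Ω) (hab hz) (b : Ω) b.2.1.1, mul_inv_cancel_right]), inv_mul_cancel]
              exact one_mem _
            · refine MonoidHom.mem_ker.2 ((QuotientGroup.eq_one_iff _).2 ?_)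
              rw [mul_comm]
              convert hbD using 1
              exact Subtype.ext (by rw [Subgroup.coe_mul, Subgroup.coe_inv, hv]; rfl)
          exact (QuotientGroup.eq_one_iff _).1 (hgen (Subgroup.mem_top y))
      rw [h0, Subgroup.mem_bot] at hαD
      subst hαD
      have := hv ⟨x, hxP⟩
      rw [eq_mul_inv_iff_mul_eq] at this
      exact hbZ (hP0Z.ge ⟨b.2.1.1, fun y hy => (hScom x hxS hxA b (hAcomm b b.2.2) this.symm y hy).symm⟩)
    have hE2 := hnorm _ hDR hDne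
    have hRE : (R : Subgroup G) ≤ E0.comap q := fun α hα => hE2 (hnr α hα)
    have hhRE : ((h • R : Sylow p G) : Subgroup G) ≤ E0.comap q := by
      rw [Sylow.coe_subgroup_smul]
      rintro _ ⟨α, hα, rfl⟩
      refine hE2 (Subgroup.mem_normalizer_fintype fun β hβ => stab_conj G D (fun z hz => ?_) hβ)
      obtain ⟨w, hw, rfl⟩ := hz.2
      have : ((h * α * h⁻¹ : G) : MulAut P) ((h : MulAut P) w) = (h : MulAut P) w := by
        rw [Subgroup.coe_mul, Subgroup.coe_mul, Subgroup.coe_inv, MulAut.mul_apply, MulAut.mul_apply,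
          MulAut.inv_apply_self, hQfix α hα w hw]
      exact this.symm ▸ hz
    obtain ⟨e, he⟩ := MulAction.exists_smul_eq (E0.comap q) (R.subtype hRE) ((h • R).subtype hhRE)
    rw [Sylow.smul_subtype] at he
    have he' : (e : G) • R = h • R := Sylow.subtype_injective he
    have h3 : (e : G)⁻¹ * h ∈ E0.comap q := hnorm R le_rfl hR0
      (Sylow.smul_eq_iff_mem_normalizer.1 (by rw [mul_smul, ← he', inv_smul_smul]))
    exact (Subgroup.mul_mem_cancel_left _ (inv_mem e.2)).1 h3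
  -- `P` is not abelian
  set Zp := Z.subgroupOf P with hZp
  have hcen : Zp = Subgroup.center P := by
    refine le_antisymm (fun z hz => Subgroup.mem_center_iff.2 fun y =>
      Subtype.ext (hZc _ hz y (hPS y.2)).symm) fun z hz => ?_
    have hzc : ∀ y ∈ P, (z : Ω) * y = y * z := fun y hy =>
      (congrArg Subtype.val (Subgroup.mem_center_iff.1 hz ⟨y, hy⟩)).symm
    by_cases hzA : (z : Ω) ∈ A
    · exact ⟨hPS z.2, fun y hy => (hScom x hxS hxA z (hAcomm z hzA) (hzc x hxP) y hy).symm⟩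
    · exact absurd (fun b hb => ⟨hPS hb.1, fun y hy =>
        (hScom z (hPS z.2) hzA b (hAcomm b hb.2) (hzc b hb.1).symm y hy).symm⟩) hab
  haveI hZn : Zp.Normal := hcen ▸ inferInstance
  have hZinv : ∀ β : G, ∀ z ∈ Zp, (β : MulAut P) z ∈ Zp := fun β z hz => by
    rw [hcen] at hz ⊢
    exact (Subgroup.characteristic_iff_map_le.1 (inferInstance : (Subgroup.center P).Characteristic) _)
      ⟨z, hz, rfl⟩
  -- elements stabilising a normal series
  have hkill : ∀ (D : Subgroup P) [D.Normal], (∀ β : G, ∀ z ∈ D, (β : MulAut P) z ∈ D) →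
      ∀ a ∈ N, (∀ z : P, z ∈ D → a * (z : Ω) * a⁻¹ = z) →
      (∀ y : P, ∀ w : P, (w : Ω) = (y : Ω)⁻¹ * (a * y * a⁻¹) → w ∈ D) → a ∈ P := by
    intro D _ hDi a ha h1 h2
    obtain ⟨α, -, hv⟩ := hmkα a ha
    refine mem_of_mem_pCore hP.1 (isRadical_of_isEssential hS hP) ha hv
      (CfsgLib.Fitting.le_pCore (stab_normal G D hDi) (stab_pgroup G (hS.to_le hPS) D) ⟨fun z hz => Subtype.ext ?_, fun y => h2 y _ ?_⟩)
    · rw [hv, h1 z hz]
    · rw [Subgroup.coe_mul, Subgroup.coe_inv, hv]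
  have hP0c : ∀ u ∈ P0.subgroupOf P, ∀ v ∈ P0.subgroupOf P, u * v = v * u := fun u hu v hv =>
    Subtype.ext (hAcomm _ hu.2 _ hv.2)
  obtain ⟨h, hh⟩ : ∃ h : G, ¬ ∀ z ∈ P0.subgroupOf P, (h : MulAut P) z ∈ P0.subgroupOf P := by
    by_contra hc
    push Not at hc
    obtain ⟨n, hnN, hnP⟩ := SetLike.exists_of_lt hPN
    obtain ⟨a, ha, hna'⟩ : ∃ a ∈ N ⊓ A, a ∉ P := by
      by_contra hh
      push Not at hh
      have h1 : N ⊓ A ≤ P0 := fun a ha => ⟨hh a ha, ha.2⟩
      rw [Subgroup.relIndex_eq_one.2 h1] at hindex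
      exact hnP (Subgroup.relIndex_eq_one.1 hindex hnN)
    refine hna' (hkill _ hc a ha.1 (fun z hz => ?_) fun y w hw => ?_)
    · rw [hAcomm a ha.2 z hz.2, mul_inv_cancel_right]
    · refine ⟨w.2, ?_⟩
      show (w : Ω) ∈ A
      rw [hw]
      have := hAconj (y : Ω)⁻¹ (inv_mem (hPS y.2)) _ (hcomA a ha.1.1 y (hPS y.2))
      simpa [mul_assoc] using this
  have hZidx : Zp.relIndex (P0.subgroupOf P) = p := by
    set P1 := (P0.subgroupOf P).map (h : MulAut P).toMonoidHom with hP1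
    have h1idx : P1.index = p := by exact (Subgroup.index_map_equiv _ (h : MulAut P)).trans hP0idx
    haveI : P1.Normal := hP0n.map _ (h : MulAut P).surjective
    have hle : P1 ⊓ P0.subgroupOf P ≤ Zp := by
      rw [hcen]
      intro u hu
      obtain ⟨⟨u', hu', rfl⟩, hu0⟩ := hu
      have htop : P1 ⊔ P0.subgroupOf P = ⊤ := by
        have hm := Subgroup.relIndex_mul_index (show P0.subgroupOf P ≤ P1 ⊔ P0.subgroupOf P from le_sup_right)
        rw [hP0idx] at hm
        rcases hp'.eq_one_or_self_of_dvd _ ⟨_, by rw [mul_comm]; exact hm.symm⟩ with h' | h'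
        · exact Subgroup.index_eq_one.1 h'
        · rw [h'] at hm
          exact absurd (fun z hz => (le_sup_left.trans (Subgroup.relIndex_eq_one.1
            ((mul_eq_right₀ hp'.ne_zero).1 hm))) ⟨z, hz, rfl⟩) hh
      refine Subgroup.mem_center_iff.2 fun y => ?_
      have : (⊤ : Subgroup P) ≤ Subgroup.centralizer {(h : MulAut P).toMonoidHom u'} := by
        rw [← htop]
        refine sup_le ?_ fun v hv => Subgroup.mem_centralizer_singleton_iff.2 (hP0c v hv _ hu0)
        rintro _ ⟨v, hv, rfl⟩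
        refine Subgroup.mem_centralizer_singleton_iff.2 ?_
        rw [← map_mul, ← map_mul, hP0c v hv u' hu']
      exact Subgroup.mem_centralizer_singleton_iff.1 (this (Subgroup.mem_top y))
    have hd : (P1 ⊓ P0.subgroupOf P).relIndex (P0.subgroupOf P) ∣ p := by
      rw [Subgroup.inf_relIndex_right]
      exact h1idx ▸ Subgroup.relIndex_dvd_index_of_normal _ _
    refine (hp'.eq_one_or_self_of_dvd _ ((Subgroup.relIndex_dvd_of_le_left _ hle).trans hd)).resolve_left
      fun h1 => hab fun z hz => ?_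
    exact Subgroup.relIndex_eq_one.1 h1 (x := ⟨z, hz.1⟩) hz
  have hq : ∀ u v : P, u * v * u⁻¹ * v⁻¹ ∈ Zp := by
    have hidx : Zp.index = p ^ 2 := by
      have hle : Zp ≤ P0.subgroupOf P := fun z hz => ⟨hZP hz, hZA hz⟩
      rw [← Subgroup.relIndex_mul_index hle, hZidx, hP0idx, sq]
    haveI := IsPGroup.isMulCommutative_of_card_eq_prime_sq (G := P ⧸ Zp) (p := p)
      (by rw [← Subgroup.index_eq_card, hidx])
    intro u v
    rw [← QuotientGroup.eq_one_iff]
    show QuotientGroup.mk' Zp (u * v * u⁻¹ * v⁻¹) = 1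
    simp only [map_mul, map_inv]
    rw [mul_comm' (QuotientGroup.mk' Zp u), mul_inv_cancel_right, mul_inv_cancel]
  -- the second centre
  let T : Ω → Subgroup Ω := fun a =>
    { carrier := {y | y ∈ S ∧ a * y * a⁻¹ * y⁻¹ ∈ Z}
      one_mem' := ⟨one_mem _, by simp⟩
      mul_mem' := by
        intro u v hu hv
        refine ⟨mul_mem hu.1 hv.1, ?_⟩
        rw [show a * (u * v) * a⁻¹ * (u * v)⁻¹ =
          (a * u * a⁻¹ * u⁻¹) * (u * (a * v * a⁻¹ * v⁻¹) * u⁻¹) by group,
          ← hZc _ hv.2 u hu.1, mul_inv_cancel_right]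
        exact mul_mem hu.2 hv.2
      inv_mem' := by
        intro u hu
        refine ⟨inv_mem hu.1, ?_⟩
        rw [show a * u⁻¹ * a⁻¹ * u⁻¹⁻¹ = u⁻¹ * (a * u * a⁻¹ * u⁻¹)⁻¹ * u by group,
          ← hZc _ (inv_mem hu.2) u⁻¹ (inv_mem hu.1), inv_mul_cancel_right]
        exact inv_mem hu.2 }
  have hAT : ∀ a ∈ A, A ≤ T a := fun a ha b hb => ⟨hAS hb, by
    rw [hAcomm a ha b hb, mul_inv_cancel_right, mul_inv_cancel]; exact one_mem _⟩
  have hT : ∀ a ∈ A, ∀ g ∈ S, g ∉ A → g ∈ T a → S ≤ T a := fun a ha g hg hgA hga => by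
    rw [← hsup g hg hgA]
    exact sup_le (hAT a ha) (Subgroup.zpowers_le.2 hga)
  have hkey : ∀ a ∈ A, x ∈ T a → a ∈ P := by
    intro a ha hx
    have hTS := hT a ha x hxS hxA hx
    have hconj : ∀ y ∈ P, a * y * a⁻¹ ∈ P := fun y hy => by
      have := mul_mem (hZP (hTS (hPS hy)).2) hy
      rwa [inv_mul_cancel_right] at this
    refine hkill Zp hZinv a ⟨hAS ha, mem_normalizer_of_conj_mem hPS hconj⟩
      (fun z hz => by rw [← hZc (z : Ω) hz a (hAS ha), mul_inv_cancel_right]) fun y w hw => ?_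
    show (w : Ω) ∈ Z
    rw [hw, show (y : Ω)⁻¹ * (a * y * a⁻¹) = (y : Ω)⁻¹ * (a * y * a⁻¹ * (y : Ω)⁻¹) * y by group,
      ← hZc _ (hTS (hPS y.2)).2 (y : Ω)⁻¹ (inv_mem (hPS y.2)), inv_mul_cancel_right]
    exact (hTS (hPS y.2)).2
  set Z2 := (upperCentralSeries ↥S 2).map S.subtype with hZ2
  have hZ2mem : ∀ g, g ∈ Z2 ↔ g ∈ S ∧ S ≤ T g := by
    intro g
    have key : ∀ s : S, s ∈ upperCentralSeries ↥S 2 ↔ S ≤ T s := fun s => by
      rw [show s ∈ upperCentralSeries ↥S 2 ↔ ∀ y : S, ⁅s, y⁆ ∈ Subgroup.upperCentralSeries S 1 from Iff.rfl,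
        Subgroup.upperCentralSeries_one]
      simp only [Subgroup.mem_center_iff, commutatorElement_def]
      constructor
      · exact fun h y hy => ⟨hy, (s * ⟨y, hy⟩ * s⁻¹ * ⟨y, hy⟩⁻¹ : S).2,
          fun u hu => congrArg Subtype.val (h ⟨y, hy⟩ ⟨u, hu⟩)⟩
      · exact fun h y u => Subtype.ext ((h y.2).2.2 u u.2)
    constructor
    · rintro ⟨s, hs, rfl⟩
      exact ⟨s.2, (key s).1 hs⟩
    · rintro ⟨hg, h⟩
      exact ⟨⟨g, hg⟩, (key ⟨g, hg⟩).2 h, rfl⟩
  have hZ2A : Z2 ≤ A := by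
    intro g hg
    by_contra hgA
    obtain ⟨hgS, hgT⟩ := (hZ2mem g).1 hg
    have hAP : A ≤ P := fun a ha => hkey a ha (hT a ha g hgS hgA
      ⟨hgS, by
        have := inv_mem (hgT (hAS ha)).2
        simpa [mul_assoc] using this⟩ hxS)
    exact hne (le_antisymm hPS (hsup x hxS hxA ▸ sup_le hAP (Subgroup.zpowers_le.2 hxP)))
  have hP0Z2 : Z2 = P0 := by
    refine le_antisymm (fun g hg => ⟨hkey g (hZ2A hg) (((hZ2mem g).1 hg).2 hxS), hZ2A hg⟩) fun b hb => ?_
    exact (hZ2mem b).2 ⟨hPS hb.1, hT b hb.2 x hxS hxA ⟨hxS, hq ⟨b, hb.1⟩ ⟨x, hxP⟩⟩⟩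
  refine ⟨.inr (.inr ⟨hZ2A, x, hxS, hxA, hP0Z2 ▸ hPgen⟩), hfin (hbound Zp hZidx.dvd fun a ha => ?_)⟩
  exact ⟨hkey a a.2.2 ⟨hxS, ha⟩, a.2.2⟩
end Cfsg.Agent.S5254
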