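import Cfsg.Statements.S5257
import Cfsg.Agent.S5254

set_option autoImplicit false
open Cfsg

namespace Cfsg.Agent.S5257

open CfsgLib.Fusion
open scoped commutatorElement

section
variable {V : Type*} [Group V] (G : Subgroup (MulAut V))

/-- The automorphisms in `G` trivial on `D` and modulo `D`. -/
def stab (D : Subgroup V) [D.Normal] : Subgroup G where
  carrier := {α | (∀ z ∈ D, (α : MulAut V) z = z) ∧ ∀ y, y⁻¹ * (α : MulAut V) y ∈ D}
  one_mem' := ⟨fun z _ => rfl, fun y => by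
    show y⁻¹ * y ∈ D
    rw [inv_mul_cancel]; exact one_mem _⟩
  mul_mem' := by
    intro a b ha hb
    refine ⟨fun z hz => ?_, fun y => ?_⟩
    · rw [Subgroup.coe_mul, MulAut.mul_apply, hb.1 z hz, ha.1 z hz]
    · rw [Subgroup.coe_mul, MulAut.mul_apply,
        show y⁻¹ * (a : MulAut V) ((b : MulAut V) y) = (y⁻¹ * (b : MulAut V) y) *
          (((b : MulAut V) y)⁻¹ * (a : MulAut V) ((b : MulAut V) y)) by group]
      exact mul_mem (hb.2 y) (ha.2 _)
  inv_mem' := by
    intro a ha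
    refine ⟨fun z hz => ?_, fun y => ?_⟩
    · conv_lhs => rw [← ha.1 z hz]
      rw [Subgroup.coe_inv, MulAut.inv_apply_self]
    · have := inv_mem (ha.2 (((a⁻¹ : G) : MulAut V) y))
      rw [Subgroup.coe_inv] at this ⊢
      rwa [MulAut.apply_inv_self, mul_inv_rev, inv_inv] at this

theorem stab_pgroup [Finite V] {p : ℕ} [Fact p.Prime] (hV : IsPGroup p V) (D : Subgroup V)
    [D.Normal] : IsPGroup p (stab G D) := by
  have h : IsPGroup p ((stab G D).map G.subtype) := by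
    let L : ℕ → Subgroup V := fun i => if i = 0 then ⊥ else if i = 1 then D else ⊤
    refine isPGroup_of_stabilizes_series hV L 2 rfl rfl _ ?_
    rintro _ ⟨α, hα, rfl⟩ i hi x hx
    match i, hi with
    | 0, _ => exact Subgroup.mem_bot.2 (by rw [G.coe_subtype, hα.1 x hx, inv_mul_cancel])
    | 1, _ => exact hα.2 x
  exact h.of_equiv ((stab G D).equivMapOfInjective G.subtype G.subtype_injective).symm

theorem stab_conj [Finite V] (D : Subgroup V) [D.Normal] {β α : G}
    (hβ : ∀ z ∈ D, (β : MulAut V) z ∈ D) (hα : α ∈ stab G D) : β * α * β⁻¹ ∈ stab G D := by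
  have hmap : D.map (β : MulAut V).toMonoidHom = D := by
    refine Subgroup.eq_of_le_of_card_ge ?_ (le_of_eq ?_)
    · rintro _ ⟨z, hz, rfl⟩
      exact hβ z hz
    · exact Nat.card_congr (D.equivMapOfInjective _ (β : MulAut V).injective).toEquiv
  refine ⟨fun z hz => ?_, fun y => ?_⟩
  · rw [← hmap] at hz
    obtain ⟨w, hw, rfl⟩ := hz
    show (β : MulAut V) ((α : MulAut V) ((β : MulAut V)⁻¹ ((β : MulAut V) w))) = (β : MulAut V) w
    rw [MulAut.inv_apply_self, hα.1 w hw]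
  · have := hβ _ (hα.2 ((β : MulAut V)⁻¹ y))
    rw [map_mul, map_inv, MulAut.apply_inv_self] at this
    exact this

theorem stab_normal [Finite V] (D : Subgroup V) [D.Normal]
    (h : ∀ β : G, ∀ z ∈ D, (β : MulAut V) z ∈ D) : (stab G D).Normal :=
  ⟨fun _ hα β => stab_conj G D (h β) hα⟩

end


/-- Let p be an odd prime, S a finite nonabelian p-group with a unique abelian subgroup A of index p, and F a saturated fusion system over S having an F-essential subgroup other than A. Then the second centre Z₂(S) lies in A; Z(S) ∩ [S, S] has order p; Z(S)[S, S] has index p in A; Z(S) has index p in Z₂(S); and S/Z(S) has maximal nilpotency class (if S/Z(S) has order pᵐ with m ≥ 3 then the term of index m − 2 of the lower central series of S, counting S as index 0, is not contained in Z(S)). -/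
theorem result {Ω : Type*} [Group Ω] {S : Subgroup Ω} [Finite S] (p : ℕ) [Fact p.Prime] (hS : IsPGroup p S) (F : Cfsg.FusionSystem S) (hF : F.IsSaturated p) (hp : p ≠ 2) (hna : ¬ IsMulCommutative ↥S) (A : Subgroup Ω) (hA : A ≤ S ∧ IsMulCommutative ↥A ∧ (A.subgroupOf S).index = p) (huniq : ∀ B : Subgroup Ω, B ≤ S → IsMulCommutative ↥B → (B.subgroupOf S).index = p → B = A) (P : Subgroup Ω) (hP : F.IsEssential p P) (hPA : P ≠ A) : ((upperCentralSeries ↥S 2).map S.subtype) ≤ A ∧ Nat.card ↥((S ⊓ Subgroup.centralizer (S : Set Ω)) ⊓ ((commutator ↥S).map S.subtype)) = p ∧ (((S ⊓ Subgroup.centralizer (S : Set Ω)) ⊔ ((commutator ↥S).map S.subtype)).subgroupOf A).index = p ∧ (((S ⊓ Subgroup.centralizer (S : Set Ω))).subgroupOf ((upperCentralSeries ↥S 2).map S.subtype)).index = p ∧ ∀ m : ℕ, ((S ⊓ Subgroup.centralizer (S : Set Ω)).subgroupOf S).index = p ^ m → 3 ≤ m → ¬ Subgroup.lowerCentralSeries S (m - 2) ≤ (S ⊓ Subgroup.centralizer (S : Set Ω)) :=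 by
  classical
  obtain ⟨hAS, hAab, hAidx⟩ := hA
  have hp' : p.Prime := Fact.out
  have hAcomm : ∀ a ∈ A, ∀ b ∈ A, a * b = b * a := fun a ha b hb =>
    congrArg Subtype.val (hAab.is_comm.comm ⟨a, ha⟩ ⟨b, hb⟩)
  have hPS : P ≤ S := hP.1.1
  have hne : P ≠ S := ne_of_isEssential hS hF hP
  haveI : Finite P := finite_of_le hPS
  haveI := finite_mulAut P
  have hAn : (A.subgroupOf S).Normal :=
    Subgroup.normal_of_index_eq_minFac_card (by
      obtain ⟨k, hk⟩ := hS.exists_card_eq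
      have hd : p ∣ Nat.card S := hAidx ▸ Subgroup.index_dvd_card _
      rw [hAidx, hk]
      rcases Nat.eq_zero_or_pos k with rfl | hk0
      · rw [hk, pow_zero] at hd
        exact absurd (Nat.dvd_one.1 hd) hp'.ne_one
      · rw [Nat.Prime.pow_minFac hp' hk0.ne'])
  have hAconj : ∀ g ∈ S, ∀ a ∈ A, g * a * g⁻¹ ∈ A := fun g hg a ha =>
    hAn.conj_mem ⟨a, hAS ha⟩ ha ⟨g, hg⟩
  have hcomA : ∀ g ∈ S, ∀ y ∈ S, g * y * g⁻¹ * y⁻¹ ∈ A := by
    intro g hg y hy
    haveI : IsCyclic (S ⧸ A.subgroupOf S) :=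
      isCyclic_of_prime_card (p := p) (by rw [← Subgroup.index_eq_card, hAidx])
    letI := IsCyclic.commGroup (α := S ⧸ A.subgroupOf S)
    have : QuotientGroup.mk' (A.subgroupOf S) ((⟨g, hg⟩ : S) * ⟨y, hy⟩ * ⟨g, hg⟩⁻¹ * ⟨y, hy⟩⁻¹) = 1 := by
      simp only [map_mul, map_inv]
      rw [mul_inv_cancel_comm, mul_inv_cancel]
    exact (QuotientGroup.eq_one_iff (N := A.subgroupOf S) _).1 this
  have hrelA : ∀ H ≤ S, ¬ H ≤ A → A.relIndex H = p := by
    intro H hH hHA
    have h1 := Subgroup.relIndex_dvd_index_of_normal (A.subgroupOf S) (H.subgroupOf S)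
    rw [Subgroup.relIndex_subgroupOf hH, hAidx] at h1
    exact (hp'.eq_one_or_self_of_dvd _ h1).resolve_left fun h => hHA (Subgroup.relIndex_eq_one.1 h)
  have hsup : ∀ g ∈ S, g ∉ A → A ⊔ Subgroup.zpowers g = S := by
    intro g hg hgA
    refine le_antisymm (sup_le hAS (Subgroup.zpowers_le.2 hg)) ?_
    have h1 : (A ⊔ Subgroup.zpowers g).relIndex S = 1 := by
      have h2 := Subgroup.relIndex_mul_relIndex A (A ⊔ Subgroup.zpowers g) S le_sup_left
        (sup_le hAS (Subgroup.zpowers_le.2 hg))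
      rw [hrelA _ (sup_le hAS (Subgroup.zpowers_le.2 hg))
        (fun h => hgA (h (Subgroup.mem_sup_right (Subgroup.mem_zpowers g))))] at h2
      exact (mul_eq_left₀ hp'.ne_zero).1 (h2.trans hAidx)
    exact Subgroup.relIndex_eq_one.1 h1
  have hScom : ∀ g ∈ S, g ∉ A → ∀ a, (∀ b ∈ A, a * b = b * a) → a * g = g * a →
      ∀ y ∈ S, a * y = y * a := by
    intro g hg hgA a hab hag y hy
    have : S ≤ Subgroup.centralizer {a} := by
      rw [← hsup g hg hgA]
      exact sup_le (fun b hb => Subgroup.mem_centralizer_singleton_iff.2 (hab b hb).symm)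
        (Subgroup.zpowers_le.2 (Subgroup.mem_centralizer_singleton_iff.2 hag.symm))
    exact (Subgroup.mem_centralizer_singleton_iff.1 (this hy)).symm
  set Z := S ⊓ Subgroup.centralizer (S : Set Ω) with hZdef
  have hZc : ∀ z ∈ Z, ∀ y ∈ S, z * y = y * z := fun z hz y hy => (hz.2 y hy).symm
  have hZP : Z ≤ P := fun z hz =>
    hP.1.2 P (isConj_refl hPS) ⟨hz.1, fun y hy => hz.2 y (hPS hy)⟩
  have hZA : Z ≤ A := by
    intro z hz
    by_contra hzA
    refine hna ⟨⟨fun a b => Subtype.ext ?_⟩⟩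
    have hA' : ∀ c ∈ A, ∀ y ∈ S, c * y = y * c := fun c hc =>
      hScom z hz.1 hzA c (hAcomm c hc) (hZc z hz c (hAS hc)).symm
    have : S ≤ Subgroup.centralizer {(a : Ω)} := by
      refine (hsup z hz.1 hzA).ge.trans ?_
      exact sup_le (fun c hc => Subgroup.mem_centralizer_singleton_iff.2 (hA' c hc a a.2))
        (Subgroup.zpowers_le.2 (Subgroup.mem_centralizer_singleton_iff.2 (hZc z hz a a.2)))
    exact (Subgroup.mem_centralizer_singleton_iff.1 (this b.2)).symm
  by_cases hPA' : P ≤ A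
  · exact absurd (le_antisymm hPA' fun a ha => hP.1.2 P (isConj_refl hPS)
      ⟨hAS ha, fun y hy => hAcomm y (hPA' hy) a ha⟩) hPA
  clear hPA
  have hPA : ¬ P ≤ A := hPA'
  obtain ⟨x, hxP, hxA⟩ := SetLike.not_le_iff_exists.1 hPA
  have hxS := hPS hxP
  set P0 := P ⊓ A with hP0
  have hPgen : P = P0 ⊔ Subgroup.zpowers x := by
    refine le_antisymm ?_ (sup_le inf_le_left (Subgroup.zpowers_le.2 hxP))
    have hm := Subgroup.relIndex_mul_relIndex P0 (P0 ⊔ Subgroup.zpowers x) P le_sup_left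
      (sup_le inf_le_left (Subgroup.zpowers_le.2 hxP))
    rw [hP0, Subgroup.inf_relIndex_left, hrelA P hPS hPA] at hm
    rcases hp'.eq_one_or_self_of_dvd _ ⟨_, hm.symm⟩ with h | h
    · exact absurd ((Subgroup.relIndex_eq_one.1 h (Subgroup.mem_sup_right (Subgroup.mem_zpowers x))).2) hxA
    · rw [h] at hm
      exact Subgroup.relIndex_eq_one.1 ((mul_eq_left₀ hp'.ne_zero).1 hm)
  -- the normaliser
  set N := S ⊓ Subgroup.normalizer (P : Set Ω) with hN
  have hPN : P < N := lt_normalizerIn hS hPS hne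
  have hindex : P.relIndex N = P0.relIndex (N ⊓ A) := by
    have h1 := Subgroup.relIndex_mul_relIndex P0 P N inf_le_left hPN.le
    have h2 := Subgroup.relIndex_mul_relIndex P0 (N ⊓ A) N
      (le_inf (inf_le_left.trans hPN.le) inf_le_right) inf_le_left
    rw [Subgroup.inf_relIndex_left N A, hrelA N inf_le_left (fun h => hxA (h (hPN.le hxP)))] at h2
    rw [hP0, Subgroup.inf_relIndex_left, hrelA P hPS hPA] at h1
    rw [← h2, mul_comm p] at h1
    exact Nat.eq_of_mul_eq_mul_right hp'.pos h1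
  have hfin : P0.relIndex (N ⊓ A) ∣ p → (P.subgroupOf N).index = p := by
    intro h
    rw [← hindex] at h
    exact (hp'.eq_one_or_self_of_dvd _ h).resolve_left fun h1 =>
      hPN.not_ge (Subgroup.relIndex_eq_one.1 h1)
  -- commutators with `x`
  have hcP0 : ∀ a ∈ N ⊓ A, a * x * a⁻¹ * x⁻¹ ∈ P0 := fun a ha =>
    ⟨P.mul_mem ((Subgroup.mem_normalizer_iff.1 ha.1.2 x).1 hxP) (P.inv_mem hxP), hcomA a ha.1.1 x hxS⟩
  let f : ↥(N ⊓ A) →* P := MonoidHom.mk' (fun a => ⟨_, (hcP0 a a.2).1⟩) fun a b => Subtype.ext (by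
    show (a : Ω) * b * x * ((a : Ω) * b)⁻¹ * x⁻¹ =
      ((a : Ω) * x * (a : Ω)⁻¹ * x⁻¹) * ((b : Ω) * x * (b : Ω)⁻¹ * x⁻¹)
    have e : ((a : Ω) * x * (a : Ω)⁻¹ * x⁻¹) * ((b : Ω) * x * (b : Ω)⁻¹ * x⁻¹) =
        ((b : Ω) * x * (b : Ω)⁻¹ * x⁻¹) * ((a : Ω) * x * (a : Ω)⁻¹ * x⁻¹) :=
      hAcomm _ (hcP0 a a.2).2 _ (hcP0 b b.2).2
    rw [e]
    have e2 : (a : Ω) * ((b : Ω) * x * (b : Ω)⁻¹ * x⁻¹) = ((b : Ω) * x * (b : Ω)⁻¹ * x⁻¹) * (a : Ω) :=
      hAcomm _ a.2.2 _ (hcP0 b b.2).2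
    calc (a : Ω) * b * x * ((a : Ω) * b)⁻¹ * x⁻¹
        = (a : Ω) * ((b : Ω) * x * (b : Ω)⁻¹ * x⁻¹) * x * (a : Ω)⁻¹ * x⁻¹ := by group
      _ = _ := by rw [e2]; group)
  have hbound : ∀ (D : Subgroup P) [D.Normal], D.relIndex (P0.subgroupOf P) ∣ p →
      (∀ a : ↥(N ⊓ A), f a ∈ D → (a : Ω) ∈ P0) → P0.relIndex (N ⊓ A) ∣ p := by
    intro D _ hD hker
    let g := (QuotientGroup.mk' D).comp f
    have h1 : g.ker ≤ P0.subgroupOf (N ⊓ A) := fun a ha =>
      hker a ((QuotientGroup.eq_one_iff _).1 ha)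
    refine (Subgroup.index_dvd_of_le h1).trans ?_
    rw [Subgroup.index_ker]
    refine (Subgroup.card_dvd_of_le (K := (P0.subgroupOf P).map (QuotientGroup.mk' D)) ?_).trans ?_
    · rintro _ ⟨a, rfl⟩
      exact ⟨f a, hcP0 a a.2, rfl⟩
    · rwa [← Subgroup.relIndex_ker, QuotientGroup.ker_mk']
  set G := F.autGroup P
  have hmkα : ∀ a ∈ N, ∃ α : G, (α : MulAut P) ∈ autInducedBy S P ∧
      ∀ y : P, ((α : MulAut P) y : Ω) = a * y * a⁻¹ := fun a ha => by
    have h := conjAut_mem_autInducedBy (K := S) (P := P) ha.2 ha.1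
    exact ⟨⟨_, autInducedBy_le_autGroup hPS h⟩, h, conjAut_apply P ha.2⟩
  have hP0n : (P0.subgroupOf P).Normal :=
    ⟨fun n hn g => ⟨(g * n * g⁻¹ : P).2, hAconj g (hPS g.2) n hn.2⟩⟩
  have hP0idx : (P0.subgroupOf P).index = p := by
    show P0.relIndex P = p
    rw [hP0, Subgroup.inf_relIndex_left, hrelA P hPS hPA]
  have hidx : P0.relIndex (N ⊓ A) = p := by
    rw [← hindex]
    exact (Cfsg.Agent.S5254.result p hS F hF hp hna A ⟨hAS, hAab, hAidx⟩ huniq P hP).2
  -- commutation with `x` on `A`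
  letI : CommGroup A := { (inferInstance : Group A) with mul_comm := fun a b => hAab.is_comm.comm a b }
  have hψm : ∀ a ∈ A, a * x * a⁻¹ * x⁻¹ ∈ A := fun a ha => hcomA a (hAS ha) x hxS
  let ψ : A →* A := MonoidHom.mk' (fun a => ⟨_, hψm a a.2⟩) fun a b => Subtype.ext (by
    show (a : Ω) * b * x * ((a : Ω) * b)⁻¹ * x⁻¹ =
      ((a : Ω) * x * (a : Ω)⁻¹ * x⁻¹) * ((b : Ω) * x * (b : Ω)⁻¹ * x⁻¹)
    rw [hAcomm _ (hψm a a.2) _ (hψm b b.2)]
    have e2 : (a : Ω) * ((b : Ω) * x * (b : Ω)⁻¹ * x⁻¹) = ((b : Ω) * x * (b : Ω)⁻¹ * x⁻¹) * (a : Ω) :=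
      hAcomm _ a.2 _ (hψm b b.2)
    calc (a : Ω) * b * x * ((a : Ω) * b)⁻¹ * x⁻¹
        = (a : Ω) * ((b : Ω) * x * (b : Ω)⁻¹ * x⁻¹) * x * (a : Ω)⁻¹ * x⁻¹ := by group
      _ = _ := by rw [e2]; group)
  have hψker : ψ.ker = Z.subgroupOf A := by
    ext a
    rw [MonoidHom.mem_ker]
    constructor
    · intro h
      have h' : (a : Ω) * x * (a : Ω)⁻¹ * x⁻¹ = 1 := congrArg Subtype.val h
      rw [mul_inv_eq_one, mul_inv_eq_iff_eq_mul] at h'
      exact ⟨hAS a.2, fun y hy => (hScom x hxS hxA a (hAcomm a a.2) h' y hy).symm⟩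
    · intro h
      refine Subtype.ext ?_
      show (a : Ω) * x * (a : Ω)⁻¹ * x⁻¹ = 1
      rw [hZc (a : Ω) h x hxS, mul_inv_cancel_right, mul_inv_cancel]
  let T : Ω → Subgroup Ω := fun a =>
    { carrier := {y | y ∈ S ∧ a * y * a⁻¹ * y⁻¹ ∈ Z}
      one_mem' := ⟨one_mem _, by simp⟩
      mul_mem' := by
        intro u v hu hv
        refine ⟨mul_mem hu.1 hv.1, ?_⟩
        rw [show a * (u * v) * a⁻¹ * (u * v)⁻¹ =
          (a * u * a⁻¹ * u⁻¹) * (u * (a * v * a⁻¹ * v⁻¹) * u⁻¹) by group,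
          ← hZc _ hv.2 u hu.1, mul_inv_cancel_right]
        exact mul_mem hu.2 hv.2
      inv_mem' := by
        intro u hu
        refine ⟨inv_mem hu.1, ?_⟩
        rw [show a * u⁻¹ * a⁻¹ * u⁻¹⁻¹ = u⁻¹ * (a * u * a⁻¹ * u⁻¹)⁻¹ * u by group,
          ← hZc _ (inv_mem hu.2) u⁻¹ (inv_mem hu.1), inv_mul_cancel_right]
        exact inv_mem hu.2 }
  have hAT : ∀ a ∈ A, A ≤ T a := fun a ha b hb => ⟨hAS hb, by
    rw [hAcomm a ha b hb, mul_inv_cancel_right, mul_inv_cancel]; exact one_mem _⟩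
  have hT : ∀ a ∈ A, ∀ g ∈ S, g ∉ A → g ∈ T a → S ≤ T a := fun a ha g hg hgA hga => by
    rw [← hsup g hg hgA]
    exact sup_le (hAT a ha) (Subgroup.zpowers_le.2 hga)
  have hnon : ¬ P0 ≤ Z → (∀ a ∈ A, x ∈ T a → a ∈ P) ∧ (∀ b ∈ P0, x ∈ T b) ∧ Z.relIndex P0 = p := by
    intro hab
    set Zp := Z.subgroupOf P with hZp
    have hcen : Zp = Subgroup.center P := by
      refine le_antisymm (fun z hz => Subgroup.mem_center_iff.2 fun y =>
        Subtype.ext (hZc _ hz y (hPS y.2)).symm) fun z hz => ?_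
      have hzc : ∀ y ∈ P, (z : Ω) * y = y * z := fun y hy =>
        (congrArg Subtype.val (Subgroup.mem_center_iff.1 hz ⟨y, hy⟩)).symm
      by_cases hzA : (z : Ω) ∈ A
      · exact ⟨hPS z.2, fun y hy => (hScom x hxS hxA z (hAcomm z hzA) (hzc x hxP) y hy).symm⟩
      · exact absurd (fun b hb => ⟨hPS hb.1, fun y hy =>
          (hScom z (hPS z.2) hzA b (hAcomm b hb.2) (hzc b hb.1).symm y hy).symm⟩) hab
    haveI hZn : Zp.Normal := hcen ▸ inferInstance
    have hZinv : ∀ β : G, ∀ z ∈ Zp, (β : MulAut P) z ∈ Zp := fun β z hz => by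
      rw [hcen] at hz ⊢
      exact (Subgroup.characteristic_iff_map_le.1 (inferInstance : (Subgroup.center P).Characteristic) _)
        ⟨z, hz, rfl⟩
    -- elements stabilising a normal series
    have hkill : ∀ (D : Subgroup P) [D.Normal], (∀ β : G, ∀ z ∈ D, (β : MulAut P) z ∈ D) →
        ∀ a ∈ N, (∀ z : P, z ∈ D → a * (z : Ω) * a⁻¹ = z) →
        (∀ y : P, ∀ w : P, (w : Ω) = (y : Ω)⁻¹ * (a * y * a⁻¹) → w ∈ D) → a ∈ P := by
      intro D _ hDi a ha h1 h2
      obtain ⟨α, -, hv⟩ := hmkα a ha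
      refine mem_of_mem_pCore hP.1 (isRadical_of_isEssential hS hP) ha hv
        (CfsgLib.Fitting.le_pCore (stab_normal G D hDi) (stab_pgroup G (hS.to_le hPS) D) ⟨fun z hz => Subtype.ext ?_, fun y => h2 y _ ?_⟩)
      · rw [hv, h1 z hz]
      · rw [Subgroup.coe_mul, Subgroup.coe_inv, hv]
    have hP0c : ∀ u ∈ P0.subgroupOf P, ∀ v ∈ P0.subgroupOf P, u * v = v * u := fun u hu v hv =>
      Subtype.ext (hAcomm _ hu.2 _ hv.2)
    obtain ⟨h, hh⟩ : ∃ h : G, ¬ ∀ z ∈ P0.subgroupOf P, (h : MulAut P) z ∈ P0.subgroupOf P := by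
      by_contra hc
      push Not at hc
      obtain ⟨n, hnN, hnP⟩ := SetLike.exists_of_lt hPN
      obtain ⟨a, ha, hna'⟩ : ∃ a ∈ N ⊓ A, a ∉ P := by
        by_contra hh
        push Not at hh
        have h1 : N ⊓ A ≤ P0 := fun a ha => ⟨hh a ha, ha.2⟩
        rw [Subgroup.relIndex_eq_one.2 h1] at hindex
        exact hnP (Subgroup.relIndex_eq_one.1 hindex hnN)
      refine hna' (hkill _ hc a ha.1 (fun z hz => ?_) fun y w hw => ?_)
      · rw [hAcomm a ha.2 z hz.2, mul_inv_cancel_right]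
      · refine ⟨w.2, ?_⟩
        show (w : Ω) ∈ A
        rw [hw]
        have := hAconj (y : Ω)⁻¹ (inv_mem (hPS y.2)) _ (hcomA a ha.1.1 y (hPS y.2))
        simpa [mul_assoc] using this
    have hZidx : Zp.relIndex (P0.subgroupOf P) = p := by
      set P1 := (P0.subgroupOf P).map (h : MulAut P).toMonoidHom with hP1
      have h1idx : P1.index = p := by exact (Subgroup.index_map_equiv _ (h : MulAut P)).trans hP0idx
      haveI : P1.Normal := hP0n.map _ (h : MulAut P).surjective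
      have hle : P1 ⊓ P0.subgroupOf P ≤ Zp := by
        rw [hcen]
        intro u hu
        obtain ⟨⟨u', hu', rfl⟩, hu0⟩ := hu
        have htop : P1 ⊔ P0.subgroupOf P = ⊤ := by
          have hm := Subgroup.relIndex_mul_index (show P0.subgroupOf P ≤ P1 ⊔ P0.subgroupOf P from le_sup_right)
          rw [hP0idx] at hm
          rcases hp'.eq_one_or_self_of_dvd _ ⟨_, by rw [mul_comm]; exact hm.symm⟩ with h' | h'
          · exact Subgroup.index_eq_one.1 h'
          · rw [h'] at hm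
            exact absurd (fun z hz => (le_sup_left.trans (Subgroup.relIndex_eq_one.1
              ((mul_eq_right₀ hp'.ne_zero).1 hm))) ⟨z, hz, rfl⟩) hh
        refine Subgroup.mem_center_iff.2 fun y => ?_
        have : (⊤ : Subgroup P) ≤ Subgroup.centralizer {(h : MulAut P).toMonoidHom u'} := by
          rw [← htop]
          refine sup_le ?_ fun v hv => Subgroup.mem_centralizer_singleton_iff.2 (hP0c v hv _ hu0)
          rintro _ ⟨v, hv, rfl⟩
          refine Subgroup.mem_centralizer_singleton_iff.2 ?_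
          rw [← map_mul, ← map_mul, hP0c v hv u' hu']
        exact Subgroup.mem_centralizer_singleton_iff.1 (this (Subgroup.mem_top y))
      have hd : (P1 ⊓ P0.subgroupOf P).relIndex (P0.subgroupOf P) ∣ p := by
        rw [Subgroup.inf_relIndex_right]
        exact h1idx ▸ Subgroup.relIndex_dvd_index_of_normal _ _
      refine (hp'.eq_one_or_self_of_dvd _ ((Subgroup.relIndex_dvd_of_le_left _ hle).trans hd)).resolve_left
        fun h1 => hab fun z hz => ?_
      exact Subgroup.relIndex_eq_one.1 h1 (x := ⟨z, hz.1⟩) hz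
    have hq : ∀ u v : P, u * v * u⁻¹ * v⁻¹ ∈ Zp := by
      have hidx : Zp.index = p ^ 2 := by
        have hle : Zp ≤ P0.subgroupOf P := fun z hz => ⟨hZP hz, hZA hz⟩
        rw [← Subgroup.relIndex_mul_index hle, hZidx, hP0idx, sq]
      haveI := IsPGroup.isMulCommutative_of_card_eq_prime_sq (G := P ⧸ Zp) (p := p)
        (by rw [← Subgroup.index_eq_card, hidx])
      intro u v
      rw [← QuotientGroup.eq_one_iff]
      show QuotientGroup.mk' Zp (u * v * u⁻¹ * v⁻¹) = 1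
      simp only [map_mul, map_inv]
      rw [mul_comm' (QuotientGroup.mk' Zp u), mul_inv_cancel_right, mul_inv_cancel]
    have hkey : ∀ a ∈ A, x ∈ T a → a ∈ P := by
      intro a ha hx
      have hTS := hT a ha x hxS hxA hx
      have hconj : ∀ y ∈ P, a * y * a⁻¹ ∈ P := fun y hy => by
        have := mul_mem (hZP (hTS (hPS hy)).2) hy
        rwa [inv_mul_cancel_right] at this
      refine hkill Zp hZinv a ⟨hAS ha, mem_normalizer_of_conj_mem hPS hconj⟩
        (fun z hz => by rw [← hZc (z : Ω) hz a (hAS ha), mul_inv_cancel_right]) fun y w hw => ?_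
      show (w : Ω) ∈ Z
      rw [hw, show (y : Ω)⁻¹ * (a * y * a⁻¹) = (y : Ω)⁻¹ * (a * y * a⁻¹ * (y : Ω)⁻¹) * y by group,
        ← hZc _ (hTS (hPS y.2)).2 (y : Ω)⁻¹ (inv_mem (hPS y.2)), inv_mul_cancel_right]
      exact (hTS (hPS y.2)).2
    refine ⟨hkey, fun b hb => ⟨hxS, hq ⟨b, hb.1⟩ ⟨x, hxP⟩⟩, ?_⟩
    rw [← hZidx, Subgroup.relIndex_subgroupOf inf_le_left]
  set K2 := (Z.subgroupOf A).comap ψ with hK2
  have hK2mem : ∀ a : A, a ∈ K2 ↔ x ∈ T a := fun a => ⟨fun h => ⟨hxS, h⟩, fun h => h.2⟩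
  -- `Z₂` lies in `A`
  set Z2 := (upperCentralSeries ↥S 2).map S.subtype with hZ2
  have hZ2mem : ∀ g, g ∈ Z2 ↔ g ∈ S ∧ S ≤ T g := by
    intro g
    have key : ∀ s : S, s ∈ upperCentralSeries ↥S 2 ↔ S ≤ T s := fun s => by
      rw [show s ∈ upperCentralSeries ↥S 2 ↔ ∀ y : S, ⁅s, y⁆ ∈ Subgroup.upperCentralSeries S 1 from Iff.rfl,
        Subgroup.upperCentralSeries_one]
      simp only [Subgroup.mem_center_iff, commutatorElement_def]
      constructor
      · exact fun h y hy => ⟨hy, (s * ⟨y, hy⟩ * s⁻¹ * ⟨y, hy⟩⁻¹ : S).2,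
          fun u hu => congrArg Subtype.val (h ⟨y, hy⟩ ⟨u, hu⟩)⟩
      · exact fun h y u => Subtype.ext ((h y.2).2.2 u u.2)
    constructor
    · rintro ⟨s, hs, rfl⟩
      exact ⟨s.2, (key s).1 hs⟩
    · rintro ⟨hg, h⟩
      exact ⟨⟨g, hg⟩, (key ⟨g, hg⟩).2 h, rfl⟩
  have hZ2A : Z2 ≤ A := by
    intro g hg
    by_contra hgA
    obtain ⟨hgS, hgT⟩ := (hZ2mem g).1 hg
    have hcl : ∀ a ∈ A, x ∈ T a := fun a ha => hT a ha g hgS hgA ⟨hgS, by
      have := inv_mem (hgT (hAS ha)).2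
      simpa [mul_assoc] using this⟩ hxS
    by_cases hab : P0 ≤ Z
    · -- `P` is a second abelian subgroup of index `p`
      have hconj : ∀ a ∈ A, a ∈ Subgroup.normalizer (P : Set Ω) := fun a ha =>
        mem_normalizer_of_conj_mem hPS fun y hy => by
          have hy' := hT a ha x hxS hxA (hcl a ha) (hPS hy)
          have := mul_mem (hZP hy'.2) hy
          rwa [inv_mul_cancel_right] at this
      have hSN : S ≤ N := by
        rw [← hsup x hxS hxA]
        exact sup_le (fun a ha => ⟨hAS ha, hconj a ha⟩) (Subgroup.zpowers_le.2 (hPN.le hxP))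
      have hPidx : (P.subgroupOf S).index = p := by
        have := (Cfsg.Agent.S5254.result p hS F hF hp hna A ⟨hAS, hAab, hAidx⟩ huniq P hP).2
        rwa [show S ⊓ Subgroup.normalizer (P : Set Ω) = S from le_antisymm inf_le_left hSN] at this
      refine hPA (huniq P hPS ⟨⟨fun u v => Subtype.ext ?_⟩⟩ hPidx).le
      have h1 : P ≤ Subgroup.centralizer {x} := by
        rw [hPgen]
        exact sup_le (fun z hz => Subgroup.mem_centralizer_singleton_iff.2 (hZc z (hab hz) x hxS))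
          (Subgroup.zpowers_le.2 (Subgroup.mem_centralizer_singleton_iff.2 rfl))
      have h2 : P ≤ Subgroup.centralizer {(u : Ω)} := by
        conv_lhs => rw [hPgen]
        exact sup_le (fun z hz => Subgroup.mem_centralizer_singleton_iff.2 (hZc z (hab hz) u (hPS u.2)))
          (Subgroup.zpowers_le.2 (Subgroup.mem_centralizer_singleton_iff.2
            (Subgroup.mem_centralizer_singleton_iff.1 (h1 u.2)).symm))
      exact (Subgroup.mem_centralizer_singleton_iff.1 (h2 v.2)).symm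
    · have hAP : A ≤ P := fun a ha => (hnon hab).1 a ha (hcl a ha)
      exact hne (le_antisymm hPS (hsup x hxS hxA ▸ sup_le hAP (Subgroup.zpowers_le.2 hxP)))
  -- the order of `Z ∩ [A, x]`
  have hk : (Z.subgroupOf A).relIndex K2 = p := by
    have hZK : Z.subgroupOf A ≤ K2 := fun a ha => by
      show ψ a ∈ Z.subgroupOf A
      rw [show ψ a = 1 from (hψker.ge ha)]
      exact one_mem _
    have hmap : Z.relIndex (K2.map A.subtype) = (Z.subgroupOf A).relIndex K2 := by
      rw [← Subgroup.map_subgroupOf_eq_of_le hZA, Subgroup.relIndex_map_map_of_injective _ _ A.subtype_injective,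
        Subgroup.map_subgroupOf_eq_of_le hZA]
    rw [← hmap]
    by_cases hab : P0 ≤ Z
    · have hP0Z : P0 = Z := le_antisymm hab (le_inf hZP hZA)
      have heq : K2.map A.subtype = N ⊓ A := by
        apply le_antisymm
        · rintro _ ⟨a, ha, rfl⟩
          have hS' := hT a a.2 x hxS hxA ((hK2mem a).1 ha)
          refine ⟨⟨hAS a.2, mem_normalizer_of_conj_mem hPS fun y hy => ?_⟩, a.2⟩
          have := mul_mem (hZP (hS' (hPS hy)).2) hy
          rwa [inv_mul_cancel_right] at this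
        · intro a ha
          refine ⟨⟨a, ha.2⟩, ?_, rfl⟩
          exact hab ⟨P.mul_mem ((Subgroup.mem_normalizer_iff.1 ha.1.2 x).1 hxP) (P.inv_mem hxP), hcomA a ha.1.1 x hxS⟩
      rw [heq, ← hP0Z]
      exact hidx
    · obtain ⟨h1, h2, h3⟩ := hnon hab
      have heq : K2.map A.subtype = P0 := by
        apply le_antisymm
        · rintro _ ⟨a, ha, rfl⟩
          exact ⟨h1 a a.2 ((hK2mem a).1 ha), a.2⟩
        · intro a ha
          exact ⟨⟨a, ha.2⟩, (hK2mem ⟨a, ha.2⟩).2 (h2 a ha), rfl⟩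
      rw [heq]
      exact h3
  -- `S' = [A, x]`
  set B := ψ.range.map A.subtype with hB
  have hBn : ∀ g ∈ S, ∀ b ∈ B, g * b * g⁻¹ ∈ B := by
    have h1 : S ≤ Subgroup.normalizer (B : Set Ω) := by
      rw [← hsup x hxS hxA]
      refine sup_le (fun a ha => Subgroup.centralizer_le_normalizer _ ?_) (Subgroup.zpowers_le.2 ?_)
      · rintro _ ⟨c, -, rfl⟩
        exact hAcomm c c.2 a ha
      · refine mem_normalizer_of_conj_mem ((Subgroup.map_subtype_le _).trans hAS) ?_
        rintro _ ⟨_, ⟨a, rfl⟩, rfl⟩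
        refine ⟨_, ⟨⟨_, hAconj x hxS a a.2⟩, rfl⟩, ?_⟩
        show x * (a : Ω) * x⁻¹ * x * (x * (a : Ω) * x⁻¹)⁻¹ * x⁻¹ = x * ((a : Ω) * x * (a : Ω)⁻¹ * x⁻¹) * x⁻¹
        group
    exact fun g hg b hb => (Subgroup.mem_normalizer_iff.1 (h1 hg) b).1 hb
  let U : Ω → Subgroup Ω := fun a =>
    { carrier := {y | y ∈ S ∧ a * y * a⁻¹ * y⁻¹ ∈ B}
      one_mem' := ⟨one_mem _, by simp⟩
      mul_mem' := by
        intro u v hu hv
        refine ⟨mul_mem hu.1 hv.1, ?_⟩
        rw [show a * (u * v) * a⁻¹ * (u * v)⁻¹ =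
          (a * u * a⁻¹ * u⁻¹) * (u * (a * v * a⁻¹ * v⁻¹) * u⁻¹) by group]
        exact mul_mem hu.2 (hBn u hu.1 _ hv.2)
      inv_mem' := by
        intro u hu
        refine ⟨inv_mem hu.1, ?_⟩
        rw [show a * u⁻¹ * a⁻¹ * u⁻¹⁻¹ = u⁻¹ * (a * u * a⁻¹ * u⁻¹)⁻¹ * u⁻¹⁻¹ by group]
        exact hBn _ (inv_mem hu.1) _ (inv_mem hu.2) }
  have hUA : ∀ a ∈ A, S ≤ U a := fun a ha => by
    rw [← hsup x hxS hxA]
    refine sup_le (fun b hb => ⟨hAS hb, ?_⟩) (Subgroup.zpowers_le.2 ⟨hxS, ⟨_, ⟨⟨a, ha⟩, rfl⟩, rfl⟩⟩)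
    rw [hAcomm a ha b hb, mul_inv_cancel_right, mul_inv_cancel]
    exact one_mem _
  have hUx : S ≤ U x := by
    conv_lhs => rw [← hsup x hxS hxA]
    refine sup_le (fun b hb => ⟨hAS hb, ?_⟩) (Subgroup.zpowers_le.2 ⟨hxS, by
      rw [mul_inv_cancel_right, mul_inv_cancel]; exact one_mem _⟩)
    have := inv_mem ((hUA b hb) hxS).2
    simpa [mul_assoc] using this
  have hUS : ∀ g ∈ S, S ≤ U g := by
    intro g hg t ht
    refine ⟨ht, ?_⟩
    have h1 : S ≤ U t := fun s hs => by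
      have hs' : s ∈ A ⊔ Subgroup.zpowers x := (hsup x hxS hxA).ge hs
      refine (sup_le (fun a ha => (⟨hAS ha, ?_⟩ : a ∈ U t)) (Subgroup.zpowers_le.2 (⟨hxS, ?_⟩ : x ∈ U t))) hs'
      · have := inv_mem ((hUA a ha) ht).2
        simpa [mul_assoc] using this
      · have := inv_mem (hUx ht).2
        simpa [mul_assoc] using this
    have := inv_mem (h1 hg).2
    simpa [mul_assoc] using this
  have hS'B : (commutator ↥S).map S.subtype = B := by
    apply le_antisymm
    · rw [Subgroup.map_le_iff_le_comap]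
      refine Subgroup.commutator_le.2 fun g _ h _ => ?_
      exact (hUS g g.2 h.2).2
    · rintro _ ⟨_, ⟨a, rfl⟩, rfl⟩
      exact ⟨⁅(⟨a, hAS a.2⟩ : S), ⟨x, hxS⟩⁆,
        Subgroup.commutator_mem_commutator (Subgroup.mem_top _) (Subgroup.mem_top _), rfl⟩
  have hinj := A.subtype_injective
  have hZmap : (Z.subgroupOf A).map A.subtype = Z := Subgroup.map_subgroupOf_eq_of_le hZA
  have hkcard : Nat.card ↥(ψ.ker ⊓ ψ.range) = p := by
    rw [← hk, hK2, ← hψker]
    have h := Subgroup.relIndex_comap ⊥ ψ (ψ.ker.comap ψ)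
    rw [MonoidHom.comap_bot, Subgroup.map_comap_eq, Subgroup.relIndex_bot_left] at h
    rw [h, inf_comm]
  refine ⟨hZ2A, ?_, ?_, ?_, ?_⟩
  · rw [hS'B, hB, ← hZmap, ← Subgroup.map_inf _ _ _ hinj, Subgroup.card_map_of_injective hinj,
      ← hψker]
    exact hkcard
  · rw [hS'B, hB, ← hZmap, ← Subgroup.map_sup,
      show (((Z.subgroupOf A) ⊔ ψ.range).map A.subtype).subgroupOf A = Z.subgroupOf A ⊔ ψ.range from
        Subgroup.comap_map_eq_self_of_injective hinj _, ← hψker]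
    have h1 := Subgroup.relIndex_mul_index (le_sup_left : ψ.ker ≤ ψ.ker ⊔ ψ.range)
    rw [Subgroup.relIndex_sup_left, Subgroup.index_ker] at h1
    have h2 := (ψ.ker.subgroupOf ψ.range).card_mul_index
    rw [show Nat.card ↥(ψ.ker.subgroupOf ψ.range) = p from by
      rw [← Subgroup.inf_subgroupOf_right, Nat.card_congr (Subgroup.subgroupOfEquivOfLe inf_le_right).toEquiv, hkcard]] at h2
    rw [show (ψ.ker.subgroupOf ψ.range).index = ψ.ker.relIndex ψ.range from rfl] at h2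
    rw [← h2, mul_comm p] at h1
    haveI : Finite A := finite_of_le hAS
    exact Nat.eq_of_mul_eq_mul_left (Nat.pos_of_ne_zero (Subgroup.index_ne_zero_of_finite)) h1
  · have heq : Z2 = K2.map A.subtype := by
      apply le_antisymm
      · intro g hg
        exact ⟨⟨g, hZ2A hg⟩, (hK2mem ⟨g, hZ2A hg⟩).2 (((hZ2mem g).1 hg).2 hxS), rfl⟩
      · rintro _ ⟨a, ha, rfl⟩
        exact (hZ2mem _).2 ⟨hAS a.2, hT a a.2 x hxS hxA ((hK2mem a).1 ha)⟩
    show Z.relIndex Z2 = p
    rw [heq, ← hZmap, Subgroup.relIndex_map_map_of_injective _ _ hinj]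
    exact hk
  · intro m hm h3 hle
    let K : ℕ → Subgroup A := fun j => Nat.rec ⊥ (fun _ H => H.comap ψ) j
    have hK1 : K 1 = Z.subgroupOf A := by
      show (⊥ : Subgroup A).comap ψ = _
      rw [MonoidHom.comap_bot, hψker]
    have hmono : ∀ j, K j ≤ K (j + 1) := by
      intro j
      induction j with
      | zero => exact bot_le
      | succ j ih => exact Subgroup.comap_mono ih
    have hrel : ∀ j, (K (j + 1)).relIndex (K (j + 2)) ≤ p := by
      intro j
      induction j with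
      | zero =>
        show (K 1).relIndex ((K 1).comap ψ) ≤ p
        rw [hK1]
        exact hk.le
      | succ j ih =>
        show ((K (j + 1)).comap ψ).relIndex (K (j + 3)) ≤ p
        rw [Subgroup.relIndex_comap]
        haveI : Finite A := finite_of_le hAS
        exact (Subgroup.relIndex_le_of_le_right (Subgroup.map_comap_le ψ (K (j + 2))) Subgroup.index_ne_zero_of_finite).trans ih
    have hbound : ∀ j, (K 1).relIndex (K (j + 1)) ≤ p ^ j := by
      intro j
      induction j with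
      | zero => simp
      | succ j ih =>
        have h := Subgroup.relIndex_mul_relIndex (K 1) (K (j + 1)) (K (j + 2))
          (monotone_nat_of_le_succ hmono (show 1 ≤ j + 1 by omega)) (hmono (j + 1))
        rw [← h, pow_succ]
        exact Nat.mul_le_mul ih (hrel j)
    have hdown : ∀ j, j ≤ m - 2 → ∀ a : A, (a : Ω) ∈ Subgroup.lowerCentralSeries S (m - 2 - j) →
        a ∈ K (j + 1) := by
      intro j
      induction j with
      | zero =>
        intro _ a ha
        rw [zero_add, hK1]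
        exact hle ha
      | succ j ih =>
        intro hj a ha
        show ψ a ∈ K (j + 1)
        refine ih (by omega) (ψ a) ?_
        rw [show m - 2 - j = (m - 2 - (j + 1)) + 1 by omega]
        exact Subgroup.commutator_mem_commutator ha hxS
    have htop : K (m - 2 + 1) = ⊤ := eq_top_iff.2 fun a _ => hdown (m - 2) le_rfl a (by rw [Nat.sub_self]; exact hAS a.2)
    have h1 := hbound (m - 2)
    rw [htop, Subgroup.relIndex_top_right, hK1] at h1
    have h2 : (Z.subgroupOf S).index = (Z.subgroupOf A).index * p := by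
      show Z.relIndex S = Z.relIndex A * p
      rw [← Subgroup.relIndex_mul_relIndex Z A S hZA hAS, show A.relIndex S = p from hAidx]
    rw [hm] at h2
    have h4 : p ^ (m - 1) * p = (Z.subgroupOf A).index * p := by
      rw [← h2, ← pow_succ, Nat.sub_add_cancel (by omega : 1 ≤ m)]
    rw [← Nat.eq_of_mul_eq_mul_right hp'.pos h4] at h1
    exact absurd ((Nat.pow_le_pow_iff_right hp'.one_lt).1 h1) (by omega)
end Cfsg.Agent.S5257
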