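import Cfsg.Statements.S5259
import Cfsg.Agent.Lib.Fusion.HeisCore
import Cfsg.Agent.Lib.Classical.Unitriangular

set_option autoImplicit false
open Cfsg

namespace Cfsg.Agent.S5259

open Matrix CfsgLib.Classical

/-- Coordinates of a group like the upper unitriangular `3 × 3` matrices. -/
structure Coord (X : Type*) [Group X] (K : Type*) [Field K] where
  f : X ≃ K × K × K
  mul : ∀ x y, f (x * y) = ((f x).1 + (f y).1, (f x).2.1 + (f y).2.1,
    (f x).2.2 + (f y).2.2 + (f x).1 * (f y).2.1)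

section

variable {X : Type*} [Group X] {K : Type*} [Field K] (C : Coord X K)

theorem Coord.one : C.f 1 = (0, 0, 0) := by
  have h := C.mul 1 1
  rw [one_mul] at h
  revert h
  generalize C.f 1 = z
  obtain ⟨a, b, c⟩ := z
  intro h
  simp only [Prod.mk.injEq] at h
  obtain ⟨ha, hb, hc⟩ := h
  have ha' : a = 0 := by linear_combination -ha
  subst ha'
  have hb' : b = 0 := by linear_combination -hb
  subst hb'
  have hc' : c = 0 := by linear_combination -hc
  subst hc'
  rfl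

theorem Coord.commute_iff (x y : X) :
    x * y = y * x ↔ (C.f x).1 * (C.f y).2.1 = (C.f y).1 * (C.f x).2.1 := by
  rw [← C.f.injective.eq_iff, C.mul, C.mul, Prod.ext_iff, Prod.ext_iff]
  simp only [add_comm (C.f y).1, add_comm (C.f y).2.1, add_comm (C.f y).2.2, true_and]
  exact add_right_inj _

/-- The central elements. -/
def Coord.Cen (x : X) : Prop := (C.f x).1 = 0 ∧ (C.f x).2.1 = 0

theorem Coord.cen_iff (x : X) : C.Cen x ↔ ∀ y, x * y = y * x := by
  refine ⟨fun h y => (C.commute_iff x y).2 (by rw [h.1, h.2, zero_mul, mul_zero]), fun h => ?_⟩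
  have h1 := (C.commute_iff x (C.f.symm (0, 1, 0))).1 (h _)
  have h2 := (C.commute_iff x (C.f.symm (1, 0, 0))).1 (h _)
  rw [Equiv.apply_symm_apply] at h1 h2
  simp only [mul_one, zero_mul, mul_zero, one_mul] at h1 h2
  exact ⟨h1, h2.symm⟩

theorem Coord.exists_scalar {x y : X} (hx : ¬ C.Cen x) (h : y * x = x * y) :
    ∃ l : K, (C.f y).1 = l * (C.f x).1 ∧ (C.f y).2.1 = l * (C.f x).2.1 := by
  rw [C.commute_iff] at h
  by_cases ha : (C.f x).1 = 0
  · have hb : (C.f x).2.1 ≠ 0 := fun e => hx ⟨ha, e⟩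
    rw [ha, zero_mul] at h
    exact ⟨(C.f y).2.1 / (C.f x).2.1, by rw [ha, mul_zero]; exact (mul_eq_zero.1 h).resolve_right hb,
      (div_mul_cancel₀ _ hb).symm⟩
  · refine ⟨(C.f y).1 / (C.f x).1, (div_mul_cancel₀ _ ha).symm, ?_⟩
    field_simp
    linear_combination -h

theorem Coord.pow (x : X) (n : ℕ) : C.f (x ^ n) = ((n : K) * (C.f x).1, (n : K) * (C.f x).2.1,
    (n : K) * (C.f x).2.2 + (n.choose 2 : K) * ((C.f x).1 * (C.f x).2.1)) := by
  induction n with
  | zero => simp [C.one]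
  | succ n ih =>
    rw [pow_succ, C.mul, ih, Nat.choose_succ_succ, Nat.choose_one_right]
    simp only [Prod.mk.injEq]
    push_cast
    exact ⟨by ring, by ring, by ring⟩

theorem Coord.pow_char (p : ℕ) [CharP K p] (x : X) :
    C.f (x ^ p) = (0, 0, (p.choose 2 : K) * ((C.f x).1 * (C.f x).2.1)) := by
  rw [C.pow, CharP.cast_eq_zero K p, zero_mul, zero_mul, zero_mul, zero_add]

theorem shape {Ω : Type*} [Group Ω] {S : Subgroup Ω} (p : ℕ) [Fintype K] [CharP K p]
    (C : Coord S K) :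
    CfsgLib.Fusion.HeisCore.Shape p (Fintype.card K) S (S ⊓ Subgroup.centralizer (S : Set Ω)) := by
  classical
  have hZ : ∀ (x : Ω) (hx : x ∈ S),
      x ∈ S ⊓ Subgroup.centralizer (S : Set Ω) ↔ C.Cen ⟨x, hx⟩ := by
    intro x hx
    rw [C.cen_iff]
    refine ⟨fun h y => Subtype.ext (Subgroup.mem_centralizer_iff.1 h.2 y y.2).symm,
      fun h => ⟨hx, Subgroup.mem_centralizer_iff.2 fun s hs =>
        (congrArg Subtype.val (h ⟨s, hs⟩)).symm⟩⟩
  have hcom : ∀ {a b : S}, (a : Ω) * b = b * a ↔ a * b = b * a := fun {a b} =>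
    ⟨fun h => Subtype.ext h, fun h => congrArg Subtype.val h⟩
  refine
    { le := inf_le_left
      central := fun z hz s hs => (Subgroup.mem_centralizer_iff.1 hz.2 s hs).symm
      mem := fun x hx h => ⟨hx, Subgroup.mem_centralizer_iff.2 fun s hs => (h s hs).symm⟩
      gt := Fintype.one_lt_card
      cardS := ?_
      cardZ := ?_
      comm := ?_
      cardC := ?_
      commC := ?_
      expZ := ?_
      expC := ?_ }
  · rw [Nat.card_congr C.f, Nat.card_prod, Nat.card_prod, Nat.card_eq_fintype_card]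
    ring
  · rw [← Nat.card_eq_fintype_card]
    refine Nat.card_congr
      { toFun := fun z => (C.f ⟨z, z.2.1⟩).2.2
        invFun := fun c => ⟨(C.f.symm (0, 0, c) : S), (hZ _ (SetLike.coe_mem _)).2 (by
          simp [Coord.Cen])⟩
        left_inv := fun z => ?_
        right_inv := fun c => by simp }
    obtain ⟨h1, h2⟩ := (hZ _ z.2.1).1 z.2
    apply Subtype.ext
    show ((C.f.symm _ : S) : Ω) = z
    have e : ((0 : K), (0 : K), (C.f ⟨z, z.2.1⟩).2.2) = C.f ⟨z, z.2.1⟩ :=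
      Prod.ext h1.symm (Prod.ext h2.symm rfl)
    rw [e, Equiv.symm_apply_apply]
  · intro a ha b hb
    have hm : ∀ u : S, u = ⟨a, ha⟩ * ⟨b, hb⟩ * (⟨b, hb⟩ * ⟨a, ha⟩)⁻¹ → C.Cen u := by
      intro u hu
      have e := C.mul u (⟨b, hb⟩ * ⟨a, ha⟩)
      rw [hu, inv_mul_cancel_right, ← hu, C.mul, C.mul] at e
      simp only [Prod.mk.injEq] at e
      exact ⟨by linear_combination -e.1, by linear_combination -e.2.1⟩
    refine (hZ _ (S.mul_mem (S.mul_mem (S.mul_mem ha hb) (S.inv_mem ha)) (S.inv_mem hb))).2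
      (hm _ (Subtype.ext ?_))
    simp [mul_assoc]
  · intro x hx hxZ
    have hx' : ¬ C.Cen ⟨x, hx⟩ := fun h => hxZ ((hZ x hx).2 h)
    rw [← Nat.card_eq_fintype_card, pow_two, ← Nat.card_prod]
    refine (Nat.card_congr (Equiv.ofBijective (fun lc : K × K =>
      (⟨(C.f.symm (lc.1 * (C.f ⟨x, hx⟩).1, lc.1 * (C.f ⟨x, hx⟩).2.1, lc.2) : S), ?_⟩ :
        ↥(S ⊓ Subgroup.centralizer ({x} : Set Ω)))) ⟨?_, ?_⟩)).symm
    · refine ⟨SetLike.coe_mem _, Subgroup.mem_centralizer_singleton_iff.2 ?_⟩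
      refine (hcom (b := ⟨x, hx⟩)).2 ?_
      rw [C.commute_iff, Equiv.apply_symm_apply]
      ring
    · rintro ⟨l, c⟩ ⟨l', c'⟩ e
      have := congrArg C.f (Subtype.ext (congrArg Subtype.val e :) :
        C.f.symm _ = C.f.symm _)
      simp only [Equiv.apply_symm_apply, Prod.mk.injEq] at this
      refine Prod.ext ?_ this.2.2
      by_cases ha : (C.f ⟨x, hx⟩).1 = 0
      · exact mul_right_cancel₀ (fun e => hx' ⟨ha, e⟩) this.2.1
      · exact mul_right_cancel₀ ha this.1
    · rintro ⟨y, hy, hyx⟩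
      obtain ⟨l, h1, h2⟩ := C.exists_scalar hx'
        ((hcom (a := ⟨y, hy⟩) (b := ⟨x, hx⟩)).1 (Subgroup.mem_centralizer_singleton_iff.1 hyx))
      refine ⟨(l, (C.f ⟨y, hy⟩).2.2), Subtype.ext ?_⟩
      show ((C.f.symm _ : S) : Ω) = y
      have e : (l * (C.f ⟨x, hx⟩).1, l * (C.f ⟨x, hx⟩).2.1, (C.f ⟨y, hy⟩).2.2) = C.f ⟨y, hy⟩ :=
        Prod.ext h1.symm (Prod.ext h2.symm rfl)
      rw [e, Equiv.symm_apply_apply]
  · intro x hx hxZ y hy hyx w hw hwx
    have hx' : ¬ C.Cen ⟨x, hx⟩ := fun h => hxZ ((hZ x hx).2 h)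
    obtain ⟨l, h1, h2⟩ := C.exists_scalar hx' ((hcom (a := ⟨y, hy⟩) (b := ⟨x, hx⟩)).1 hyx)
    obtain ⟨m, h3, h4⟩ := C.exists_scalar hx' ((hcom (a := ⟨w, hw⟩) (b := ⟨x, hx⟩)).1 hwx)
    refine (hcom (a := ⟨y, hy⟩) (b := ⟨w, hw⟩)).2 ((C.commute_iff _ _).2 ?_)
    rw [h1, h2, h3, h4]
    ring
  · intro z hz
    have h := C.pow_char p ⟨z, hz.1⟩
    rw [((hZ z hz.1).1 hz).1, zero_mul, mul_zero] at h
    have := C.f.injective (h.trans C.one.symm)
    exact congrArg Subtype.val this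
  · intro x hx hxZ hxp y hy hyx
    have hx' : ¬ C.Cen ⟨x, hx⟩ := fun h => hxZ ((hZ x hx).2 h)
    obtain ⟨l, h1, h2⟩ := C.exists_scalar hx' ((hcom (a := ⟨y, hy⟩) (b := ⟨x, hx⟩)).1 hyx)
    have h := C.pow_char p ⟨x, hx⟩
    rw [show (⟨x, hx⟩ : S) ^ p = 1 from Subtype.ext (by simpa using hxp), C.one] at h
    simp only [Prod.mk.injEq, true_and] at h
    have h' := C.pow_char p ⟨y, hy⟩
    rw [h1, h2, show (p.choose 2 : K) * (l * (C.f ⟨x, hx⟩).1 * (l * (C.f ⟨x, hx⟩).2.1)) =
      l * l * ((p.choose 2 : K) * ((C.f ⟨x, hx⟩).1 * (C.f ⟨x, hx⟩).2.1)) by ring, ← h, mul_zero,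
      ← C.one] at h'
    exact congrArg Subtype.val (C.f.injective h')

end

section

variable {K : Type*} [Field K] [Fintype K]

local notation "SL3" => Matrix.SpecialLinearGroup (Fin 3) K

theorem mul_corner {A B : SL3} (hA : A ∈ Unitri.U 3 K) (hB : B ∈ Unitri.U 3 K) :
    (A * B).val 0 2 = A.val 0 2 + B.val 0 2 + A.val 0 1 * B.val 1 2 := by
  have hA' : Unitri.IsUnitri A.val := hA
  have hB' : Unitri.IsUnitri B.val := hB
  rw [Matrix.SpecialLinearGroup.coe_mul, mul_apply, Fin.sum_univ_three, hA'.diag, hB'.diag]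
  ring

/-- The matrix with given entries. -/
noncomputable def mkU (z : K × K × K) : Unitri.U 3 K :=
  ⟨⟨!![1, z.1, z.2.2; 0, 1, z.2.1; 0, 0, 1], by rw [det_fin_three]; simp⟩,
    Unitri.mem_U.2 (by
      intro i j hij
      fin_cases i <;> fin_cases j <;> first | rfl | (exact absurd hij (by decide)))⟩

/-- The coordinates of a unitriangular matrix. -/
noncomputable def coordEquiv : Unitri.U 3 K ≃ K × K × K where
  toFun := fun A => ((A : SL3).val 0 1, (A : SL3).val 1 2, (A : SL3).val 0 2)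
  invFun := mkU
  left_inv := fun A => by
    have hA : Unitri.IsUnitri (A : SL3).val := Unitri.mem_U.1 A.2
    refine Subtype.ext (Subtype.ext (Matrix.ext fun i j => ?_))
    fin_cases i <;> fin_cases j <;>
      first
        | rfl
        | exact (hA.diag _).symm
        | exact (hA.below (by decide)).symm
  right_inv := fun z => rfl

theorem coord_mul (A B : Unitri.U 3 K) : coordEquiv (A * B) = ((coordEquiv A).1 + (coordEquiv B).1,
    (coordEquiv A).2.1 + (coordEquiv B).2.1,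
    (coordEquiv A).2.2 + (coordEquiv B).2.2 + (coordEquiv A).1 * (coordEquiv B).2.1) := by
  show (((A : SL3) * (B : SL3)).val 0 1, ((A : SL3) * (B : SL3)).val 1 2,
      ((A : SL3) * (B : SL3)).val 0 2) = ((A : SL3).val 0 1 + (B : SL3).val 0 1,
      (A : SL3).val 1 2 + (B : SL3).val 1 2,
      (A : SL3).val 0 2 + (B : SL3).val 0 2 + (A : SL3).val 0 1 * (B : SL3).val 1 2)
  rw [Unitri.mul_apply_succ A.2 B.2 (a := 0) (b := 1) rfl,
    Unitri.mul_apply_succ A.2 B.2 (a := 1) (b := 2) rfl, mul_corner A.2 B.2]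

/-- Coordinates on the unitriangular group. -/
noncomputable def coordU : Coord (Unitri.U 3 K) K := ⟨coordEquiv, coord_mul⟩

theorem exists_coord (p : ℕ) [Fact p.Prime] [CharP K p] {X : Type*} [Group X] (T : Sylow p SL3)
    (e : X ≃* ↥(T : Subgroup SL3)) : Nonempty (Coord X K) := by
  obtain ⟨P⟩ : Nonempty (Sylow p (GL (Fin 3) K)) := inferInstance
  have h2 := card_sylow_GL p 3 P
  rw [P.card_eq_multiplicity, card_GL_eq_mul_card_SL, Nat.factorization_mul
    Nat.card_pos.ne' Nat.card_pos.ne', Finsupp.add_apply] at h2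
  have hu : (Nat.card Kˣ).factorization p = 0 := by
    refine Nat.factorization_eq_zero_of_not_dvd ?_
    rw [Nat.card_units, Nat.card_eq_fintype_card]
    intro hd
    obtain ⟨f, -, hf⟩ := FiniteField.card K p
    have h1 : p ∣ Fintype.card K := hf ▸ dvd_pow_self p f.pos.ne'
    have h4 := Nat.dvd_sub h1 hd
    rw [Nat.sub_sub_self Fintype.card_pos] at h4
    exact (Fact.out : p.Prime).not_dvd_one h4
  rw [hu, zero_add] at h2
  have hU : Nat.card (Unitri.U 3 K) = p ^ (Nat.card SL3).factorization p := by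
    rw [h2, Unitri.card_U, Nat.card_eq_fintype_card]
  let T0 : Sylow p SL3 := Sylow.ofCard (Unitri.U 3 K) hU
  let e1 : X ≃* ↥(Unitri.U 3 K) :=
    e.trans ((T.equiv T0).trans (MulEquiv.subgroupCongr (Sylow.coe_ofCard _ hU)))
  refine ⟨⟨e1.toEquiv.trans coordU.f, fun x y => ?_⟩⟩
  show coordU.f (e1 (x * y)) = _
  rw [map_mul, coordU.mul]
  rfl

end


/-- Let p be a prime, K a finite field of characteristic p, and S a finite p-group isomorphic to a Sylow p-subgroup of SL₃(K). Then every exotic fusion system F over S (saturated but not the fusion system of a finite group on a Sylow p-subgroup) has no nontrivial normal subgroup: O_p(F) = 1. -/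
theorem result {Ω : Type*} [Group Ω] {S : Subgroup Ω} [Finite S] (p : ℕ) [Fact p.Prime] (hS : IsPGroup p S) (F : Cfsg.FusionSystem S) (hF : F.IsSaturated p) {K : Type*} [Field K] [Fintype K] [CharP K p] (T : Sylow p (Matrix.SpecialLinearGroup (Fin 3) K)) (e : ↥S ≃* ↥(T : Subgroup (Matrix.SpecialLinearGroup (Fin 3) K))) (hex : F.IsExotic p) : F.core = ⊥ := by
  obtain ⟨C⟩ := exists_coord p T e
  exact CfsgLib.Fusion.HeisCore.core_eq_bot (shape p C) hS hex

end Cfsg.Agent.S5259
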