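import Cfsg.Statements.S5265
import Cfsg.Agent.Lib.Fusion.CenterIndexSquareMain

set_option autoImplicit false
open Cfsg

namespace Cfsg.Agent.S5265

open CfsgLib.Fusion

/-- Let p be a prime, S a nontrivial finite p-group whose centre has index at most p², and F a saturated fusion system over S with no nontrivial normal subgroup and with hyperfocal subgroup equal to S. Then S is extraspecial of order p³; for odd p it has exponent p, and for p = 2 it is dihedral of order 8. -/
theorem result {Ω : Type*} [Group Ω] {S : Subgroup Ω} [Finite S] (p : ℕ) [Fact p.Prime] (hS : IsPGroup p ↥S) (F : Cfsg.FusionSystem S) (hF : F.IsSaturated p) (hS1 : S ≠ ⊥) (hcore : F.core = ⊥) (hhyp : F.hyperfocalSubgroup p = S) (hZ : (Subgroup.center ↥S).index ≤ p ^ 2) : Cfsg.IsExtraspecial p ↥S ∧ Nat.card S = p ^ 3 ∧ (p ≠ 2 → Monoid.exponent ↥S = p) ∧ (p = 2 → Nonempty (↥S ≃* DihedralGroup 4)) := by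
  have hna : ∃ x ∈ S, ∃ y ∈ S, x * y ≠ y * x := by
    by_contra hab
    push Not at hab
    have hn := isNormal_of_abelian hS hF
      (⟨le_rfl, fun R _ φ hφ x => (F.le_of_mem hφ).2 x⟩ : F.StronglyClosed S) hab
    have hle : S ≤ F.core := le_sSup hn
    rw [hcore] at hle
    exact hS1 (le_bot_iff.1 hle)
  obtain ⟨c, hc⟩ := CenterSq.exists_setup hS hna hZ
  rcases eq_or_ne p 2 with rfl | hp2
  · obtain ⟨hcard, hd⟩ := CenterSq.main_two hc hF hcore hhyp
    obtain ⟨he, h3⟩ := CenterSq.isExtraspecial_of_setup hc hcard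
    exact ⟨he, h3, fun h => absurd rfl h, fun _ => hd⟩
  · obtain ⟨hcard, hexp⟩ := CenterSq.main_odd hc hF hcore hp2
    obtain ⟨he, h3⟩ := CenterSq.isExtraspecial_of_setup hc hcard
    exact ⟨he, h3, fun _ => hexp, fun h => absurd h hp2⟩

end Cfsg.Agent.S5265
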