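import Cfsg.Statements.S5270
import Cfsg.Agent.Lib.Fusion.Alperin
import Cfsg.Agent.Lib.PGroup.MaximalClassUpper
-- import your own Cfsg.Agent.* helpers here

set_option autoImplicit false
set_option linter.style.haveILetI false
open Cfsg
open scoped commutatorElement

namespace Cfsg.Agent.S5270

/-- Let p ≥ 5 be a prime, S a finite p-group of maximal class of order p^n with n ≥ 4, and F a saturated fusion system over S. If some map of F defined on the second centre Z₂(S) with image Z₂(S) does not carry Z(S) into itself, then the centralizer C_S(Z₂(S)) is an F-essential subgroup. -/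
theorem result {Ω : Type*} [Group Ω] {S : Subgroup Ω} [Finite S] (p : ℕ) [Fact p.Prime] (hS : IsPGroup p ↥S) (n : ℕ) (hn : Nat.card S = p ^ n) (h4 : 4 ≤ n) (hmax : Subgroup.lowerCentralSeries S (n - 2) ≠ ⊥) (F : Cfsg.FusionSystem S) (hF : F.IsSaturated p) (hp : 5 ≤ p) (φ : ↥((Subgroup.upperCentralSeries ↥S 2).map S.subtype) →* Ω) (hφ : φ ∈ F.Hom ((Subgroup.upperCentralSeries ↥S 2).map S.subtype)) (hφZ : φ.range = ((Subgroup.upperCentralSeries ↥S 2).map S.subtype)) (hmove : ∃ (z : Ω) (hz : z ∈ ((Subgroup.upperCentralSeries ↥S 2).map S.subtype)), z ∈ ((Subgroup.center ↥S).map S.subtype) ∧ φ ⟨z, hz⟩ ∉ ((Subgroup.center ↥S).map S.subtype)) : F.IsEssential p (S ⊓ Subgroup.centralizer (((Subgroup.upperCentralSeries ↥S 2).map S.subtype) : Set Ω)) := by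
  have hX : Nat.card ↥S = p ^ n := hn
  have hlcs : (⊤ : Subgroup ↥S).lowerCentralSeries (n - 2) ≠ ⊥ := fun h => hmax (by
    rw [← Subgroup.top_subtype_lowerCentralSeries, h, Subgroup.map_bot])
  have h1 : Nat.card (Subgroup.center ↥S) = p := by
    have := CfsgLib.MaxClassUpper.card_ucs_eq hX (by omega) hlcs (i := 1) (by omega)
    rwa [Subgroup.upperCentralSeries_one, pow_one] at this
  have h2 := CfsgLib.MaxClassUpper.card_ucs_eq hX (by omega) hlcs (i := 2) (by omega)
  haveI hUn : (Subgroup.upperCentralSeries ↥S 2).Normal := inferInstance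
  have hcU : Subgroup.center ↥S ≤ Subgroup.upperCentralSeries ↥S 2 := by
    rw [← Subgroup.upperCentralSeries_one]
    exact Subgroup.upperCentralSeries_mono _ (by omega)
  have hUc : ∀ u ∈ Subgroup.upperCentralSeries ↥S 2, ∀ s : ↥S, ⁅u, s⁆ ∈ Subgroup.center ↥S := by
    intro u hu s
    have := (Subgroup.mem_upperCentralSeries_succ_iff (n := 1)).1 hu s
    rwa [Subgroup.upperCentralSeries_one] at this
  generalize Subgroup.upperCentralSeries ↥S 2 = U at *
  have hUcomm : IsMulCommutative U := IsPGroup.isMulCommutative_of_card_eq_prime_sq (p := p) h2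
  have hWS : (U.map S.subtype) ≤ S := Subgroup.map_subtype_le U
  have hWconj : ∀ g ∈ S, ∀ x ∈ (U.map S.subtype), g * x * g⁻¹ ∈ (U.map S.subtype) := by
    rintro g hg _ ⟨u, hu, rfl⟩
    exact ⟨(⟨g, hg⟩ : ↥S) * u * (⟨g, hg⟩ : ↥S)⁻¹, hUn.conj_mem u hu ⟨g, hg⟩, rfl⟩
  set E := S ⊓ Subgroup.centralizer ((U.map S.subtype : Subgroup Ω) : Set Ω) with hE
  have hWE : (U.map S.subtype) ≤ E := by
    rintro _ ⟨u, hu, rfl⟩
    refine ⟨u.2, Subgroup.mem_centralizer_iff.2 ?_⟩
    rintro _ ⟨v, hv, rfl⟩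
    have h3 : v * u = u * v := congrArg Subtype.val (mul_comm' (⟨v, hv⟩ : U) ⟨u, hu⟩)
    rw [Subgroup.coe_subtype, ← Subgroup.coe_mul, h3, Subgroup.coe_mul]
  have hEconj : ∀ g ∈ S, ∀ x ∈ E, g * x * g⁻¹ ∈ E := by
    intro g hg x hx
    refine ⟨S.mul_mem (S.mul_mem hg hx.1) (S.inv_mem hg), Subgroup.mem_centralizer_iff.2 ?_⟩
    intro w hw
    have h := Subgroup.mem_centralizer_iff.1 hx.2 _ (hWconj g⁻¹ (S.inv_mem hg) w hw)
    rw [inv_inv] at h
    calc w * (g * x * g⁻¹) = g * (g⁻¹ * w * g * x) * g⁻¹ := by group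
      _ = g * (x * (g⁻¹ * w * g)) * g⁻¹ := by rw [h]
      _ = g * x * g⁻¹ * w := by group
  -- subgroups normal in `S` are fully normalized
  have hfn : ∀ A : Subgroup Ω, A ≤ S → (∀ g ∈ S, ∀ x ∈ A, g * x * g⁻¹ ∈ A) →
      F.IsFullyNormalized A := by
    refine fun A hA hconj => ⟨hA, fun Q _ => ?_⟩
    have hN : Cfsg.FusionSystem.normalizerIn S A = S := le_antisymm inf_le_left fun g hg =>
      ⟨hg, CfsgLib.Fusion.mem_normalizer_of_conj_mem hA (hconj g hg)⟩
    rw [hN]
    exact Subgroup.card_le_of_le inf_le_left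
  obtain ⟨z, hzW, hzc, hzm⟩ := hmove
  obtain ⟨z₀, hz₀, rfl⟩ := hzc
  -- `E` is a maximal subgroup of `S`
  have hmaxE : ∀ Q : Subgroup Ω, E < Q → Q ≤ S → Q = S := by
    intro Q hEQ hQS
    obtain ⟨a, haU, hac⟩ : ∃ a ∈ U, a ∉ Subgroup.center ↥S := by
      refine SetLike.exists_of_lt (lt_of_le_of_ne hcU fun h => ?_)
      rw [← h, h1] at h2
      exact absurd h2 (by nlinarith [(Fact.out : p.Prime).two_le])
    have hcomm : ∀ s : ↥S, ⁅s, a⁆ ∈ Subgroup.center ↥S := by
      intro s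
      rw [← commutatorElement_inv]
      exact inv_mem (hUc a haU s)
    let θ : ↥S →* Subgroup.center ↥S := MonoidHom.mk' (fun s => ⟨⁅s, a⁆, hcomm s⟩) fun s t => by
      refine Subtype.ext ?_
      show ⁅s * t, a⁆ = ⁅s, a⁆ * ⁅t, a⁆
      rw [show ⁅s * t, a⁆ = s * ⁅t, a⁆ * s⁻¹ * ⁅s, a⁆ by simp only [commutatorElement_def]; group,
        Subgroup.mem_center_iff.1 (hcomm t) s, mul_inv_cancel_right,
        Subgroup.mem_center_iff.1 (hcomm t) ⁅s, a⁆]
    have hker : θ.ker.map S.subtype ≤ E := by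
      rintro _ ⟨s, hs, rfl⟩
      refine ⟨s.2, Subgroup.mem_centralizer_iff.2 ?_⟩
      rintro _ ⟨u, hu, rfl⟩
      have hsa : ⁅s, a⁆ = 1 := congrArg Subtype.val (show θ s = 1 from hs)
      have hle : Subgroup.center ↥S ⊔ Subgroup.zpowers a = U := by
        refine Subgroup.eq_of_le_of_card_ge (sup_le hcU (Subgroup.zpowers_le.2 haU)) ?_
        obtain ⟨d, hd⟩ := IsPGroup.iff_card.1
          (hS.to_subgroup (Subgroup.center ↥S ⊔ Subgroup.zpowers a))
        have hlt : Nat.card (Subgroup.center ↥S) <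
            Nat.card (Subgroup.center ↥S ⊔ Subgroup.zpowers a : Subgroup ↥S) := by
          refine lt_of_le_of_ne (Subgroup.card_le_of_le le_sup_left) fun h => hac ?_
          exact (Subgroup.eq_of_le_of_card_ge le_sup_left h.ge).ge
            (Subgroup.mem_sup_right (Subgroup.mem_zpowers a))
        rw [hd, h1] at hlt
        rw [hd, h2]
        refine Nat.pow_le_pow_right (Fact.out : p.Prime).pos ?_
        exact (Nat.pow_lt_pow_iff_right (a := p) (n := 1) (Fact.out : p.Prime).one_lt).1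
          (by rwa [pow_one])
      have hC : U ≤ Subgroup.centralizer ({s} : Set ↥S) := hle ▸ sup_le
        (fun c hc => Subgroup.mem_centralizer_singleton_iff.2
          (Subgroup.mem_center_iff.1 hc s).symm)
        (Subgroup.zpowers_le.2 (Subgroup.mem_centralizer_singleton_iff.2
          (commutatorElement_eq_one_iff_mul_comm.1 hsa).symm))
      exact congrArg Subtype.val (Subgroup.mem_centralizer_singleton_iff.1 (hC hu))
    haveI := CfsgLib.Fusion.finite_of_le (S := S) (P := E) inf_le_left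
    haveI := CfsgLib.Fusion.finite_of_le (S := S) (P := Q) hQS
    have hle1 : Nat.card θ.ker ≤ Nat.card E := by
      rw [← Subgroup.card_map_of_injective (f := S.subtype) (Subgroup.subtype_injective S)]
      exact Subgroup.card_le_of_le hker
    have hle2 : Nat.card θ.range ≤ p := h1 ▸ Subgroup.card_le_card_group θ.range
    have hSE : Nat.card ↥S ≤ p * Nat.card E := by
      rw [Subgroup.card_eq_card_quotient_mul_card_subgroup θ.ker,
        Nat.card_congr (QuotientGroup.quotientKerEquivRange θ).toEquiv]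
      exact Nat.mul_le_mul hle2 hle1
    refine Subgroup.eq_of_le_of_card_ge hQS (hSE.trans ?_)
    obtain ⟨e, he⟩ := IsPGroup.iff_card.1 (hS.to_le (inf_le_left : E ≤ S))
    obtain ⟨q, hq⟩ := IsPGroup.iff_card.1 (hS.to_le hQS)
    have hlt : Nat.card E < Nat.card Q := lt_of_le_of_ne (Subgroup.card_le_of_le hEQ.le)
      fun h => hEQ.ne (Subgroup.eq_of_le_of_card_ge hEQ.le h.ge)
    rw [he, hq] at hlt ⊢
    rw [← pow_succ']
    exact Nat.pow_le_pow_right (Fact.out : p.Prime).pos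
      ((Nat.pow_lt_pow_iff_right (Fact.out : p.Prime).one_lt).1 hlt)
  -- `E` is proper
  have hES : E < S := by
    refine lt_of_le_of_ne inf_le_left fun h => hzm ?_
    have hin : φ ⟨_, hzW⟩ ∈ (U.map S.subtype) := hφZ.le ⟨⟨_, hzW⟩, rfl⟩
    obtain ⟨u, hu, hue⟩ := hin
    refine ⟨u, Subgroup.mem_center_iff.2 fun s => Subtype.ext ?_, hue⟩
    have hs : (s : Ω) ∈ E := h.symm ▸ s.2
    exact (Subgroup.mem_centralizer_iff.1 hs.2 _ ⟨u, hu, rfl⟩).symm
  -- `φ` extends to an automorphism of `E`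
  have hrec := CfsgLib.Fusion.isReceptive_of_isFullyNormalized hS hF (hfn (U.map S.subtype) hWS hWconj)
  have hiso : CfsgLib.Fusion.IsIso F (U.map S.subtype) (U.map S.subtype) (CfsgLib.Fusion.homFun φ) := by
    have := CfsgLib.Fusion.isIso_homFun hφ
    rwa [hφZ] at this
  obtain ⟨f, hf, hfv⟩ := (CfsgLib.Fusion.isReceptive_iff.1 hrec).2 (U.map S.subtype) _ hiso
  have hfW : CfsgLib.Fusion.IsIso F (U.map S.subtype) (U.map S.subtype) f := hiso.congr fun x hx => (hfv x hx).symm
  have hfE0 : CfsgLib.Fusion.IsMap F E f :=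
    hf.mono (CfsgLib.Fusion.centralizerIn_le_nPhi (U.map S.subtype) _)
  haveI := CfsgLib.Fusion.finite_of_le (S := S) (P := E) inf_le_left
  have hfE : CfsgLib.Fusion.IsIso F E E f := hfE0.isIso_of_card_le
    (fun x hx => hfE0.mem_centralizerIn hWE hfW hx hx.2) le_rfl
  obtain ⟨α, hα, hαv⟩ := CfsgLib.Fusion.exists_mem_autGroup hfE
  refine CfsgLib.Fusion.isEssential_of_ne hS hF hES (hfn E inf_le_left hEconj) fun heq => ?_
  -- extendable automorphisms of `E` preserve the centre of `S`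
  set C := (Subgroup.center ↥S).map S.subtype with hC
  have key : ∀ β ∈ Subgroup.closure (CfsgLib.Fusion.extSet F E),
      ∀ x : E, (x : Ω) ∈ C ↔ (β x : Ω) ∈ C := by
    intro β hβ
    induction hβ using Subgroup.closure_induction with
    | one => intro x; rfl
    | mul β γ _ _ ihβ ihγ => intro x; rw [MulAut.mul_apply, ← ihβ, ← ihγ]
    | inv β _ ihβ => intro x; rw [ihβ (β⁻¹ x), MulAut.apply_inv_self]
    | mem β hβ =>
      obtain ⟨Q, hEQ, g, hg, hv⟩ := hβ
      have hQ : Q = S := hmaxE Q hEQ hg.le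
      have hgS : CfsgLib.Fusion.IsIso F S S g :=
        (hQ ▸ hg).isIso_of_card_le (fun x hx => (hQ ▸ hg).mem hx) le_rfl
      let e := hgS.equiv
      intro x
      have hxS : (x : Ω) ∈ S := x.2.1
      have hev : (e ⟨x, hxS⟩ : Ω) = β x := by rw [hgS.equiv_apply, hv]
      constructor
      · rintro ⟨c, hc, hcx⟩
        refine ⟨e c, Subgroup.mem_center_iff.2 fun s => ?_, ?_⟩
        · obtain ⟨t, rfl⟩ := e.surjective s
          rw [← map_mul, ← map_mul, Subgroup.mem_center_iff.1 hc t]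
        · rw [← hev]
          exact congrArg (fun y : ↥S => (y : Ω)) (congrArg e (Subtype.ext hcx))
      · rintro ⟨c, hc, hcx⟩
        refine ⟨⟨x, hxS⟩, Subgroup.mem_center_iff.2 fun s => e.injective ?_, rfl⟩
        have : e ⟨x, hxS⟩ = c := Subtype.ext (hev.trans hcx.symm)
        rw [map_mul, map_mul, this, Subgroup.mem_center_iff.1 hc (e s)]
  refine hzm ?_
  have h := (key α (heq.symm ▸ hα) ⟨_, hWE hzW⟩).1 ⟨z₀, hz₀, rfl⟩
  rwa [hαv, hfv _ hzW, CfsgLib.Fusion.homFun_apply φ hzW] at h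

end Cfsg.Agent.S5270
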