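import Cfsg.Statements.S5273
import Cfsg.Agent.Lib.Fusion.SmallControl

set_option autoImplicit false
open Cfsg

namespace Cfsg.Agent.S5273

open CfsgLib.Fusion.SmallControl

/-- Small-exponent abelian subgroups control fusion. Let E and F be saturated fusion systems over the same finite p-group S with E contained in F. Suppose that E and F have the same maps between A and B for all subgroups A, B of S that are elementary abelian when p is odd, respectively abelian of exponent dividing 4 when p = 2. Then E = F (they have the same maps on every subgroup). -/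
theorem result {Ω : Type*} [Group Ω] {S : Subgroup Ω} [Finite S] (p : ℕ) [Fact p.Prime] (hS : IsPGroup p ↥S) (E F : Cfsg.FusionSystem S) (hE : E.IsSaturated p) (hF : F.IsSaturated p) (hEF : E.IsSubsystemOf F) (hodd : p ≠ 2 → ∀ A B : Subgroup Ω, A ≤ S → B ≤ S → Cfsg.IsElementaryAbelian p A → Cfsg.IsElementaryAbelian p B → E.homSet A B = F.homSet A B) (htwo : p = 2 → ∀ A B : Subgroup Ω, A ≤ S → B ≤ S → IsMulCommutative ↥A → IsMulCommutative ↥B → (∀ a ∈ A, a ^ 4 = 1) → (∀ b ∈ B, b ^ 4 = 1) → E.homSet A B = F.homSet A B) : ∀ P : Subgroup Ω, E.Hom P = F.Hom P := by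
  have hS' : S ≤ S := le_rfl
  refine fun P => Set.Subset.antisymm (hEF P) fun φ hφ => ?_
  refine (CfsgLib.Fusion.mem_hom_iff φ).2 (isMap_of_small_control _ rfl hS hE hF hEF (T := S)
    ⟨le_rfl, fun R _ ψ hψ x => (F.le_of_mem hψ).2 x⟩ (fun Q hQ β _ _ x => hQ (x⁻¹ * β x).2) ?_ P _
    (CfsgLib.Fusion.isMap_homFun hφ))
  intro A f hA hAs hf
  obtain ⟨ψ, hψ, hv⟩ := hf
  have hiso := CfsgLib.Fusion.isIso_homFun hψ
  have hB : ψ.range ≤ S := fun y ⟨x, hx⟩ => hx ▸ (F.le_of_mem hψ).2 x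
  have hBs : Small p ψ.range := hAs.image hiso
  have hmem : ψ ∈ F.homSet A ψ.range := ⟨hψ, fun x => ⟨x, rfl⟩⟩
  have hAc : IsMulCommutative A := ⟨⟨fun a b => Subtype.ext (hAs.1 a a.2 b b.2)⟩⟩
  have hBc : IsMulCommutative ψ.range := ⟨⟨fun a b => Subtype.ext (hBs.1 a a.2 b b.2)⟩⟩
  have key : E.homSet A ψ.range = F.homSet A ψ.range := by
    by_cases hp : p = 2
    · refine htwo hp A ψ.range hA hB hAc hBc ?_ ?_
      · intro a ha; simpa [CfsgLib.OddOmega.omegaExp, hp] using hAs.2 a ha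
      · intro a ha; simpa [CfsgLib.OddOmega.omegaExp, hp] using hBs.2 a ha
    · refine hodd hp A ψ.range hA hB ⟨hAc, ?_⟩ ⟨hBc, ?_⟩
      · intro a ha; simpa [CfsgLib.OddOmega.omegaExp, hp] using hAs.2 a ha
      · intro a ha; simpa [CfsgLib.OddOmega.omegaExp, hp] using hBs.2 a ha
  exact ⟨ψ, (key ▸ hmem : ψ ∈ E.homSet A ψ.range).1, hv⟩
end Cfsg.Agent.S5273
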