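import Cfsg.Statements.S5280
import Cfsg.Agent.Lib.ZJ.CentricFunctor
import Cfsg.Agent.Lib.Fusion.PStableGroup

set_option autoImplicit false
open Cfsg

namespace Cfsg.Agent.S5280

/-- Let p be a prime greater than 3, G a finite group with Sylow p-subgroup P, and F the fusion system of G on P. Suppose F is p-stable: for every fully normalized subgroup Q and every χ in Aut_F(Q) acting quadratically on Q (χ(a⁻¹)·a·χ(a⁻¹)·χ(χ(a)) = 1 for all a in Q), χ lies in O_p(Aut_F(Q)). Then F is constrained: some subgroup normal in F is F-centric. -/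
theorem result {Ω : Type*} [Group Ω] [Finite Ω] (p : ℕ) [Fact p.Prime] (hp : 3 < p) (P : Sylow p Ω) (hst : (∀ Q : Subgroup Ω, (Cfsg.groupFusionSystem (P : Subgroup Ω)).IsFullyNormalized Q → ∀ χ : MulAut ↥Q, χ ∈ (Cfsg.groupFusionSystem (P : Subgroup Ω)).autGroup Q → (∀ a : ↥Q, (χ a⁻¹) * a * (χ a⁻¹) * (χ (χ a)) = 1) → χ ∈ ((Cfsg.pCore p ↥((Cfsg.groupFusionSystem (P : Subgroup Ω)).autGroup Q)).map ((Cfsg.groupFusionSystem (P : Subgroup Ω)).autGroup Q).subtype : Subgroup (MulAut ↥Q)))) : (Cfsg.groupFusionSystem (P : Subgroup Ω)).IsConstrained p := by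
  have hst' : Cfsg.IsNormalizerPStable p Ω :=
    CfsgLib.Fusion.isNormalizerPStable_of_pStableHyp (S := P) hst
  obtain ⟨R, hRP, hRc, hctl⟩ := CfsgLib.ZJ.exists_centric_control (by omega) hst' P
  have hnorm : (Cfsg.groupFusionSystem (P : Subgroup Ω)).IsNormal R := by
    refine CfsgLib.Fusion.isNormal_iff.2 ⟨hRP, fun Q f hf => ?_⟩
    obtain ⟨hQ, hfP, g, hg⟩ := CfsgLib.Fusion.isMap_group_iff.1 hf
    obtain ⟨x, hx, hxg⟩ := (hctl (Q : Set Ω) hQ).2 g (by
      rintro _ ⟨a, ha, rfl⟩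
      show g * a * g⁻¹ ∈ (P : Subgroup Ω)
      rw [← hg a ha]
      exact hfP a ha)
    have himg : (fun y => x * y * x⁻¹) '' (R : Set Ω) = R := by
      ext y
      constructor
      · rintro ⟨a, ha, rfl⟩
        exact (Subgroup.mem_normalizer_iff.1 hx a).1 ha
      · intro hy
        exact ⟨x⁻¹ * y * x, (Subgroup.mem_normalizer_iff''.1 hx y).1 hy, by group⟩
    refine ⟨fun y => x * y * x⁻¹, CfsgLib.Fusion.isMap_group_iff.2 ⟨sup_le hQ hRP, fun y hy => ?_,
      x, fun _ _ => rfl⟩, fun a ha => (hg a ha).symm ▸ (hxg a ha).symm, himg⟩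
    have hle : Q ⊔ R ≤ ((P : Subgroup Ω)).comap (MulAut.conj x).toMonoidHom :=
      sup_le (fun a ha => by
          have h1 := hfP a ha
          rw [hg a ha, hxg a ha] at h1
          exact h1)
        fun a ha => hRP ((Subgroup.mem_normalizer_iff.1 hx a).1 ha)
    exact hle hy
  refine ⟨CfsgLib.Fusion.isSaturated_group P, R, hnorm, hRP, fun Q hQ => ?_⟩
  obtain ⟨-, hQP, g, hg⟩ := CfsgLib.Fusion.isConj_group_iff.1 hQ
  obtain ⟨x, hx, hxg⟩ := (hctl (R : Set Ω) hRP).2 g (by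
    rintro _ ⟨a, ha, rfl⟩
    exact hQP (hg ▸ ⟨a, ha, rfl⟩))
  have hQR : Q = R := by
    rw [← hg]
    refine Subgroup.eq_of_le_of_card_ge ?_ (Subgroup.card_map_of_injective (MulAut.conj g).injective).ge
    rintro _ ⟨a, ha, rfl⟩
    show g * a * g⁻¹ ∈ R
    rw [hxg a ha]
    exact (Subgroup.mem_normalizer_iff.1 hx a).1 ha
  rw [hQR]
  exact hRc
end Cfsg.Agent.S5280
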