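import Cfsg.Statements.S5284
import Cfsg.Agent.Lib.Fusion.AbelianLayers
import Cfsg.Agent.Lib.Fusion.AutSystem

set_option autoImplicit false
open Cfsg

namespace Cfsg.Agent.S5284

open Cfsg.FusionSystem CfsgLib.Fusion CfsgLib.Fusion.AbelianLayers

theorem ker_pow_eq_bot {X : Type*} [CommGroup X] {k : ℕ} (hk : k = 1) :
    (powMonoidHom k : X →* X).ker = ⊥ := by
  subst hk
  ext x
  simp

theorem ker_pow_eq_top {X : Type*} [CommGroup X] {k : ℕ} (hk : ∀ x : X, x ^ k = 1) :
    (powMonoidHom k : X →* X).ker = ⊤ := by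
  ext x
  simp [hk x]


/-- Let S be a finite abelian p-group. Every saturated fusion system over S is supersoluble (S has a chain of F-strongly closed subgroups from 1 to S with cyclic steps) if and only if the invariants of S are pairwise distinct, that is, S is not isomorphic to a direct product (Z/p^n × Z/p^n) × H with n ≥ 1. -/
theorem result {Ω : Type*} [Group Ω] {S : Subgroup Ω} [Finite S] (p : ℕ) [Fact p.Prime] (hS : IsPGroup p ↥S) (hab : IsMulCommutative ↥S) : (∀ F : Cfsg.FusionSystem S, F.IsSaturated p → (∃ (m : ℕ) (c : Fin (m + 1) → Subgroup Ω), c 0 = ⊥ ∧ c (Fin.last m) = S ∧ (∀ i : Fin (m + 1), F.StronglyClosed (c i)) ∧ ∀ i : Fin m, c i.castSucc ≤ c i.succ ∧ ∃ x ∈ S, c i.succ = c i.castSucc ⊔ Subgroup.zpowers x)) ↔ ¬ ∃ (n : ℕ) (H : Type) (_ : CommGroup H), 0 < n ∧ Nonempty (↥S ≃* (Multiplicative (ZMod (p ^ n)) × Multiplicative (ZMod (p ^ n))) × H) := by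
  classical
  have hab' : ∀ x ∈ S, ∀ y ∈ S, x * y = y * x := fun x hx y hy =>
    congrArg Subtype.val (hab.is_comm.comm (⟨x, hx⟩ : S) ⟨y, hy⟩)
  letI : CommGroup S := { (inferInstance : Group S) with mul_comm := hab.is_comm.comm }
  have := finite_mulAut S
  constructor
  · rintro hchain ⟨n, H, _, hn, ⟨e⟩⟩
    haveI : NeZero (p ^ n) := ⟨(pow_pos (Fact.out : p.Prime).pos n).ne'⟩
    set C := Multiplicative (ZMod (p ^ n)) with hC
    haveI : IsCyclic C := inferInstance
    obtain ⟨A₀, hA₀, hirr⟩ := exists_irreducible_aut (C := C) (p := p)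
    let L : MulAut (C × C) →* MulAut S := MonoidHom.mk'
      (fun m => e.trans ((MulEquiv.prodCongr m (MulEquiv.refl H)).trans e.symm)) fun m m' =>
        MulEquiv.ext fun x => by simp [MulEquiv.prodCongr, Prod.map_map]
    have hinn : autInducedBy S S ≤ A₀.map L := (autInducedBy_eq_bot_of_abelian hab').le.trans bot_le
    obtain ⟨m, c, hc0, hcm, hcl, hstep⟩ := hchain (autSystem (A₀.map L) hinn)
      (isSaturated_autSystem _ hinn hS (by
        rw [autInducedBy_eq_bot_of_abelian hab', Subgroup.bot_subgroupOf, Subgroup.index_bot]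
        exact (Fact.out : p.Prime).coprime_iff_not_dvd.1
          (Nat.Coprime.coprime_dvd_left (Subgroup.card_map_dvd A₀ L) hA₀).symm))
    let ι : C × C →* S := e.symm.toMonoidHom.comp (MonoidHom.inl (C × C) H)
    let W : Fin (m + 1) → Subgroup (C × C) := fun i => (c i).comap (S.subtype.comp ι)
    have hWinv : ∀ i, ∀ α ∈ A₀, ∀ v ∈ W i, α v ∈ W i := by
      intro i α hα v hv
      have h1 := autFun_mem_of_stronglyClosed _ hinn (hcl i) (Subgroup.mem_map_of_mem L hα) (x := ι v) hv
      have h2 : L α (ι v) = ι (α v) := by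
        show e.symm _ = e.symm _
        simp [ι, MulEquiv.prodCongr]
      rw [h2] at h1
      exact h1
    have htriv : ∀ i, ∀ v ∈ W i, v ^ p = 1 → v = 1 := by
      intro i
      induction i using Fin.induction with
      | zero =>
        intro v hv _
        have h : ((ι v : S) : Ω) ∈ c 0 := hv
        rw [hc0, Subgroup.mem_bot] at h
        have h' : ι v = ι 1 := by rw [map_one]; exact Subtype.ext h
        exact congrArg Prod.fst (e.symm.injective h')
      | succ i ih =>
        intro v hv hvp
        by_contra hv1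
        have hall := hirr (W i.succ) (hWinv _) ⟨v, hv, hvp, hv1⟩
        obtain ⟨hle, x, hxS, hx⟩ := hstep i
        let g : C := Multiplicative.ofAdd (1 : ZMod (p ^ n))
        have hg : orderOf g = p ^ n := by
          rw [show orderOf g = addOrderOf (1 : ZMod (p ^ n)) from orderOf_ofAdd_eq_addOrderOf _,
            ZMod.addOrderOf_one]
        set z : C := g ^ p ^ (n - 1) with hz
        have hzp : z ^ p = 1 := by
          rw [hz, ← pow_mul, ← pow_succ, show n - 1 + 1 = n by omega]
          exact orderOf_dvd_iff_pow_eq_one.1 (dvd_of_eq hg)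
        have hz1 : z ≠ 1 := by
          intro h
          have := orderOf_dvd_of_pow_eq_one h
          rw [hg, Nat.pow_dvd_pow_iff_le_right (Fact.out : p.Prime).one_lt] at this
          omega
        let T : Subgroup S := (c i.castSucc).subgroupOf S
        let q : S →* S ⧸ T := QuotientGroup.mk' T
        have hin : ∀ w : C × C, w ^ p = 1 → q (ι w) ∈ Subgroup.zpowers (q ⟨x, hxS⟩) := by
          intro w hw
          have h1 : ((ι w : S) : Ω) ∈ c i.succ := hall w hw
          have h2 : c i.succ ≤ (T ⊔ Subgroup.zpowers (⟨x, hxS⟩ : S)).map S.subtype := by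
            rw [hx, Subgroup.map_sup, Subgroup.map_subgroupOf_eq_of_le (hcl _).1, MonoidHom.map_zpowers]
            exact le_rfl
          obtain ⟨y, hy, hyw⟩ := h2 h1
          obtain rfl : y = ι w := Subtype.ext hyw
          have h3 := Subgroup.mem_map_of_mem q hy
          rwa [Subgroup.map_sup, MonoidHom.map_zpowers, QuotientGroup.map_mk'_self, bot_sup_eq] at h3
        have hne : ∀ w : C × C, w ^ p = 1 → q (ι w) = 1 → w = 1 := fun w hw h =>
          ih w (Subgroup.mem_subgroupOf.1 ((QuotientGroup.eq_one_iff (ι w)).1 h)) hw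
        have hzz : (((z, 1) : C × C)) ^ p = 1 := by simp [hzp]
        have hzz' : (((1, z) : C × C)) ^ p = 1 := by simp [hzp]
        obtain ⟨k, hk⟩ := Subgroup.mem_zpowers_iff.1 (mem_zpowers_of_pow
          (x := (⟨_, hin _ hzz⟩ : Subgroup.zpowers (q ⟨x, hxS⟩)))
          (y := (⟨_, hin _ hzz'⟩ : Subgroup.zpowers (q ⟨x, hxS⟩))) (p := p)
          (Subtype.ext (by show (q (ι _)) ^ p = 1; rw [← map_pow, ← map_pow, hzz, map_one, map_one]))
          (fun h => hz1 (congrArg Prod.fst (hne _ hzz (congrArg Subtype.val h))))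
          (Subtype.ext (by show (q (ι _)) ^ p = 1; rw [← map_pow, ← map_pow, hzz', map_one, map_one])))
        have hk' : q (ι (z, 1)) ^ k = q (ι (1, z)) := congrArg Subtype.val hk
        have h4 := hne ((z, 1) ^ k * ((1, z) : C × C)⁻¹) (by
          rw [mul_pow, inv_pow, hzz', ← zpow_natCast, ← zpow_mul, mul_comm k, zpow_mul, zpow_natCast,
            hzz, one_zpow, inv_one, one_mul]) (by
          rw [map_mul, map_mul, map_inv, map_inv, map_zpow, map_zpow, hk', mul_inv_cancel])
        have h5 := congrArg Prod.snd h4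
        simp at h5
        exact hz1 h5
    have h1 : ∀ v : C × C, v ^ p = 1 → v = 1 := fun v hv =>
      htriv (Fin.last m) v (by show ((ι v : S) : Ω) ∈ c _; rw [hcm]; exact (ι v).2) hv
    obtain ⟨y, hy⟩ := exists_prime_orderOf_dvd_card' (G := C × C) p (by
      rw [Nat.card_prod, hC, Nat.card_congr Multiplicative.toAdd, Nat.card_zmod]
      exact (dvd_pow_self p hn.ne').mul_right _)
    rw [h1 y (orderOf_dvd_iff_pow_eq_one.1 (dvd_of_eq hy)), orderOf_one] at hy
    exact (Fact.out : p.Prime).one_lt.ne hy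
  · intro hno F hF
    rcases thin_or_repeated hS with hT | h
    swap
    · exact absurd h hno
    obtain ⟨k, hk⟩ := hS.exists_card_eq
    set N := k + 1 with hN
    have hexp : ∀ (j : ℕ), N ≤ j + 1 → ∀ x : S, x ^ p ^ j = 1 := fun j hj x => by
      obtain ⟨d, hd⟩ : p ^ k ∣ p ^ j := Nat.pow_dvd_pow p (by omega)
      rw [hd, pow_mul, ← hk, pow_card_eq_one', one_pow]
    have hend : ∀ j, AbelianLayers.layer S p j N = (powMonoidHom (p ^ j) : S →* S).ker := fun j => by
      refine le_antisymm (sup_le le_rfl ?_) le_sup_left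
      rintro _ ⟨-, v, rfl⟩
      rw [powMonoidHom_apply, hexp N (by omega) v]
      exact one_mem _
    have hmono : ∀ j, (powMonoidHom (p ^ j) : S →* S).ker ≤ (powMonoidHom (p ^ (j + 1)) : S →* S).ker := by
      intro j x hx
      rw [MonoidHom.mem_ker, powMonoidHom_apply] at hx ⊢
      rw [pow_succ, pow_mul, hx, one_pow]
    have hstart : ∀ j, AbelianLayers.layer S p j 0 = AbelianLayers.layer S p (j + 1) N := fun j => by
      rw [hend]
      refine le_antisymm (sup_le (hmono j) inf_le_left) fun x hx => ?_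
      exact Subgroup.mem_sup_right ⟨hx, x, by simp⟩
    let c : Fin (N * N + 1) → Subgroup Ω := fun t =>
      (AbelianLayers.layer S p ((t : ℕ) / N) (N - (t : ℕ) % N)).map S.subtype
    refine ⟨N * N, c, ?_, ?_, fun t => ?_, fun t => ?_⟩
    · show (AbelianLayers.layer S p ((0 : ℕ) / N) (N - 0 % N)).map S.subtype = ⊥
      rw [Nat.zero_div, Nat.zero_mod, Nat.sub_zero, hend, ker_pow_eq_bot (pow_zero p), Subgroup.map_bot]
    · show (AbelianLayers.layer S p ((N * N) / N) (N - (N * N) % N)).map S.subtype = S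
      rw [Nat.mul_div_cancel _ (by omega), Nat.mul_mod_left, Nat.sub_zero, hend,
        ker_pow_eq_top (hexp N (Nat.le_succ N)), ← MonoidHom.range_eq_map, Subgroup.range_subtype]
    · rw [stronglyClosed_iff]
      refine ⟨Subgroup.map_subtype_le (K := AbelianLayers.layer S p _ _), fun P f hf x hx hxT => ?_⟩
      obtain ⟨α, -, hv⟩ := exists_aut_of_abelian hS hF hab' hf
      obtain ⟨y, hy, rfl⟩ := hxT
      rw [← hv _ hx]
      exact ⟨α y, layer_map α hy, (autFun_coe α y).symm⟩
    · obtain ⟨t, ht⟩ := t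
      have key : ∃ j i, AbelianLayers.layer S p (t / N) (N - t % N) = AbelianLayers.layer S p j (i + 1) ∧
          AbelianLayers.layer S p ((t + 1) / N) (N - (t + 1) % N) = AbelianLayers.layer S p j i := by
        have hd := Nat.div_add_mod t N
        have hlt := Nat.mod_lt t (show N > 0 by omega)
        refine ⟨t / N, N - t % N - 1, by rw [Nat.sub_add_cancel (by omega)], ?_⟩
        rcases Nat.lt_or_ge (t % N + 1) N with h | h
        · have h1 : (t + 1) % N = t % N + 1 ∧ (t + 1) / N = t / N := by
            refine ⟨?_, ?_⟩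
            · conv_lhs => rw [← hd, add_assoc, Nat.mul_add_mod, Nat.mod_eq_of_lt h]
            · conv_lhs => rw [← hd, add_assoc, Nat.mul_add_div (by omega), Nat.div_eq_of_lt h, add_zero]
          rw [h1.1, h1.2, Nat.sub_sub]
        · have h1 : t + 1 = N * (t / N + 1) := by rw [Nat.mul_add]; omega
          rw [show N - t % N - 1 = 0 by omega, hstart, h1, Nat.mul_mod_right,
            Nat.mul_div_cancel_left _ (by omega), Nat.sub_zero]
      obtain ⟨j, i, h1, h2⟩ := key
      obtain ⟨x, hx⟩ := layer_step (p := p) hT j i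
      show (AbelianLayers.layer S p (t / N) (N - t % N)).map S.subtype ≤ (AbelianLayers.layer S p ((t + 1) / N) (N - (t + 1) % N)).map S.subtype ∧
        ∃ y ∈ S, (AbelianLayers.layer S p ((t + 1) / N) (N - (t + 1) % N)).map S.subtype =
          (AbelianLayers.layer S p (t / N) (N - t % N)).map S.subtype ⊔ Subgroup.zpowers y
      rw [h1, h2, hx, Subgroup.map_sup, MonoidHom.map_zpowers]
      exact ⟨le_sup_left, x, x.2, rfl⟩

end Cfsg.Agent.S5284
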