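import Cfsg.Statements.S5286
import Cfsg.Agent.Lib.Fusion.GraphExtension
set_option autoImplicit false
universe u
open Cfsg

namespace Cfsg.Agent.S5286

open Cfsg.Agent Cfsg.FusionSystem

open scoped Classical

variable {Ω : Type u} [Group Ω] {S : Subgroup Ω}

/-- The left regular permutation of an element of `S`. -/
def lreg : ↥S →* Equiv.Perm ↥S := MulAction.toPermHom ↥S ↥S

theorem lreg_injective : Function.Injective (lreg (S := S)) := by
  intro a b h
  have := Equiv.ext_iff.1 h 1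
  simpa [lreg] using this

/-- An index of a stable letter. -/
abbrev Idx (F : Cfsg.FusionSystem S) : Type u := (P : Subgroup Ω) × {φ : P →* Ω // φ ∈ F.Hom P}

theorem exists_intertwiner [Finite S] (F : Cfsg.FusionSystem S) (i : Idx F) :
    ∃ σ : Equiv.Perm ↥S, ∀ (x : Ω) (hx : x ∈ i.1) (a : ↥S),
      σ (⟨x, (F.le_of_mem i.2.2).1 hx⟩ * a) =
        ⟨i.2.1 ⟨x, hx⟩, (F.le_of_mem i.2.2).2 ⟨x, hx⟩⟩ * σ a := by
  obtain ⟨P, φ, hφ⟩ := i
  have hP : P ≤ S := (F.le_of_mem hφ).1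
  let A : Subgroup ↥S := P.subgroupOf S
  let f : A →* ↥S :=
    { toFun := fun a => ⟨φ ⟨a.1.1, a.2⟩, (F.le_of_mem hφ).2 _⟩
      map_one' := Subtype.ext (map_one φ)
      map_mul' := fun a b => Subtype.ext (map_mul φ ⟨a.1.1, a.2⟩ ⟨b.1.1, b.2⟩) }
  have hf : Function.Injective f := by
    intro a b h
    have h' := F.injective_of_mem hφ (Subtype.ext_iff.1 h : φ ⟨a.1.1, a.2⟩ = φ ⟨b.1.1, b.2⟩)
    exact Subtype.ext (Subtype.ext (congrArg (fun z : P => (z : Ω)) h'))
  have hB : Nat.card f.range = Nat.card A := Nat.card_congr (MonoidHom.ofInjective hf).symm.toEquiv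
  have hq : Nat.card (↥S ⧸ A) = Nat.card (↥S ⧸ f.range) := by
    have h1 := Subgroup.card_eq_card_quotient_mul_card_subgroup A
    have h2 := Subgroup.card_eq_card_quotient_mul_card_subgroup f.range
    rw [hB, h1] at h2
    exact Nat.eq_of_mul_eq_mul_right Nat.card_pos h2
  obtain ⟨e⟩ : Nonempty ((↥S ⧸ A) ≃ (↥S ⧸ f.range)) := by
    exact ⟨(Finite.equivFinOfCardEq hq).trans (Finite.equivFin _).symm⟩
  have hmem : ∀ a : ↥S, (QuotientGroup.mk (a⁻¹) : ↥S ⧸ A).out⁻¹ * a⁻¹ ∈ A := by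
    intro a
    exact QuotientGroup.eq.1 (QuotientGroup.out_eq' _)
  let g : ↥S → ↥S := fun a => ((e (QuotientGroup.mk a⁻¹)).out * f ⟨_, hmem a⟩)⁻¹
  have hg : Function.Injective g := by
    intro a b h
    have h' := inv_injective h
    have hq' : (e (QuotientGroup.mk a⁻¹)) = e (QuotientGroup.mk b⁻¹) := by
      rw [← QuotientGroup.out_eq' (e (QuotientGroup.mk a⁻¹)),
        ← QuotientGroup.out_eq' (e (QuotientGroup.mk b⁻¹))]
      have := congrArg (QuotientGroup.mk (s := f.range)) h'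
      rwa [QuotientGroup.mk_mul_of_mem _ (show _ ∈ f.range from MonoidHom.mem_range.2 ⟨_, rfl⟩),
        QuotientGroup.mk_mul_of_mem _ (show _ ∈ f.range from MonoidHom.mem_range.2 ⟨_, rfl⟩)] at this
    rw [hq'] at h'
    have h3 := Subtype.ext_iff.1 (hf (mul_left_cancel h'))
    have h4 := e.injective hq'
    simp only at h3
    rw [h4] at h3
    exact inv_injective (mul_left_cancel h3)
  refine ⟨Equiv.ofBijective g (Finite.injective_iff_bijective.1 hg), fun x hx a => ?_⟩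
  show g _ = _ * g a
  set y : ↥S := ⟨x, hP hx⟩ with hy
  have hyA : y ∈ A := hx
  have e1 : (QuotientGroup.mk (y * a)⁻¹ : ↥S ⧸ A) = QuotientGroup.mk a⁻¹ := by
    rw [mul_inv_rev]
    exact QuotientGroup.mk_mul_of_mem _ (A.inv_mem hyA)
  have e2 : (⟨_, hmem (y * a)⟩ : A) = ⟨_, hmem a⟩ * (⟨y, hyA⟩ : A)⁻¹ := by
    apply Subtype.ext
    show (QuotientGroup.mk (y * a)⁻¹ : ↥S ⧸ A).out⁻¹ * (y * a)⁻¹ = _ * y⁻¹
    rw [e1, mul_inv_rev, mul_assoc]
  show ((e (QuotientGroup.mk (y * a)⁻¹)).out * f ⟨_, hmem (y * a)⟩)⁻¹ = _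
  rw [e2, e1, map_mul, map_inv, ← mul_assoc, mul_inv_rev, inv_inv]
  rfl

/-- The permutation attached to a map of the system. -/
noncomputable def sigmaI [Finite S] (F : Cfsg.FusionSystem S) (i : Idx F) : Equiv.Perm ↥S :=
  (exists_intertwiner F i).choose

theorem sigmaI_conj [Finite S] (F : Cfsg.FusionSystem S) (i : Idx F) (x : Ω) (hx : x ∈ i.1) :
    sigmaI F i * lreg ⟨x, (F.le_of_mem i.2.2).1 hx⟩ * (sigmaI F i)⁻¹ =
      lreg ⟨i.2.1 ⟨x, hx⟩, (F.le_of_mem i.2.2).2 ⟨x, hx⟩⟩ := by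
  ext a
  have := (exists_intertwiner F i).choose_spec x hx ((sigmaI F i)⁻¹ a)
  show ((sigmaI F i) (_ * (sigmaI F i)⁻¹ a) : Ω) = ((_ * a : ↥S) : Ω)
  unfold sigmaI at this ⊢
  rw [this]
  show ((_ * ((exists_intertwiner F i).choose)
    ((exists_intertwiner F i).choose⁻¹ a) : ↥S) : Ω) = _
  simp

/-- The graph data. -/
noncomputable def graphData [Finite S] (F : Cfsg.FusionSystem S) :
    GraphExt.Data (Equiv.Perm ↥S) (Idx F) where
  base := (lreg (S := S)).range
  sub i := (i.1.subgroupOf S).map lreg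
  step i := (sigmaI F i)⁻¹
  sub_le i := Subgroup.map_le_range _ _
  conj_le i := by
    rintro _ ⟨x, hx, rfl⟩
    rw [inv_inv]
    exact ⟨_, (sigmaI_conj F i x.1 hx).symm⟩

theorem lreg_mem_sub [Finite S] {F : Cfsg.FusionSystem S} {i : Idx F} {x : ↥S}
    (h : lreg x ∈ (graphData F).sub i) : (x : Ω) ∈ i.1 := by
  obtain ⟨y, hy, e⟩ := h
  rw [lreg_injective e] at hy
  exact hy

/-- `w` conjugates the elements of `P` into the regular image of `S` by a map of the system. -/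
def Good (F : Cfsg.FusionSystem S) (P : Subgroup Ω) (w : Equiv.Perm ↥S) : Prop :=
  ∃ ψ, ∃ (hψ : ψ ∈ F.Hom P), ∀ x : P,
    w⁻¹ * lreg ⟨x.1, (F.le_of_mem hψ).1 x.2⟩ * w = lreg ⟨ψ x, (F.le_of_mem hψ).2 x⟩

theorem good_coset {F : Cfsg.FusionSystem S} {P : Subgroup Ω} {w w' : Equiv.Perm ↥S}
    (h : Good F P w) (e : (w : Equiv.Perm ↥S ⧸ (lreg (S := S)).range) = w') : Good F P w' := by
  obtain ⟨s, hs⟩ := QuotientGroup.eq.1 e
  obtain ⟨ψ, hψ, hrel⟩ := h
  have hw : w' = w * lreg s := by rw [hs, mul_inv_cancel_left]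
  have hran : ψ.range ≤ S := by
    rintro _ ⟨x, rfl⟩
    exact (F.le_of_mem hψ).2 x
  refine ⟨_, F.comp_mem hψ (F.conj_mem hran (S.inv_mem s.2)) (fun x => ⟨x, rfl⟩), fun x => ?_⟩
  rw [hw, mul_inv_rev]
  calc (lreg s)⁻¹ * w⁻¹ * lreg ⟨x.1, _⟩ * (w * lreg s)
      = (lreg s)⁻¹ * (w⁻¹ * lreg ⟨x.1, (F.le_of_mem hψ).1 x.2⟩ * w) * lreg s := by group
    _ = lreg (s⁻¹ * ⟨ψ x, (F.le_of_mem hψ).2 x⟩ * s) := by
        rw [hrel, map_mul, map_mul, map_inv]
    _ = _ := by
        congr 1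
        apply Subtype.ext
        show (s : Ω)⁻¹ * ψ x * s = (s : Ω)⁻¹ * ψ x * ((s : Ω)⁻¹)⁻¹
        rw [inv_inv]

theorem good_path [Finite S] {F : Cfsg.FusionSystem S} {P : Subgroup Ω} (hP : P ≤ S) :
    ∀ (L : List (GraphExt.Edge (graphData F) × Bool)),
    (∀ a ∈ L, ∀ x : P, GraphExt.edgePerm (graphData F) (lreg ⟨x.1, hP x.2⟩) a.1 = a.1) →
    ∀ w w' : Equiv.Perm ↥S, GraphExt.IsPath (graphData F) (w : _ ⧸ (graphData F).base) L
      (w' : _ ⧸ (graphData F).base) → Good F P w → Good F P w'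
  | [], _, w, w', hp, hg => good_coset hg hp
  | ⟨⟨i, q⟩, b⟩ :: L, hfix, w, w', hp, hg => by
    obtain ⟨h0, rfl⟩ := QuotientGroup.mk_surjective q
    have hin : ∀ x : P, h0⁻¹ * lreg ⟨x.1, hP x.2⟩ * h0 ∈ (graphData F).sub i := by
      intro x
      have h := eq_of_heq (Sigma.mk.inj (hfix _ List.mem_cons_self x)).2
      have h' : ((lreg ⟨x.1, hP x.2⟩ * h0 : Equiv.Perm ↥S) : _ ⧸ (graphData F).sub i) =
          (h0 : _ ⧸ (graphData F).sub i) := h
      have h'' := QuotientGroup.eq.1 h'.symm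
      rwa [← mul_assoc] at h''
    have hrec := good_path hP L (fun a ha => hfix a (List.mem_cons_of_mem _ ha))
    cases b
    · -- backwards along the edge
      refine hrec h0 w' hp.2 ?_
      obtain ⟨ψ, hψ, hrel⟩ := good_coset hg (hp.1.symm :
        (w : _ ⧸ (lreg (S := S)).range) = ((h0 * (graphData F).step i : Equiv.Perm ↥S) : _))
      obtain ⟨χ, hχ, hχi⟩ := F.inv_mem i.2.2
      have key : ∀ x : P, ∃ z : ↥S, ∃ hz : (z : Ω) ∈ i.1,
          lreg z = h0⁻¹ * lreg ⟨x.1, hP x.2⟩ * h0 ∧ ψ x = i.2.1 ⟨z.1, hz⟩ := by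
        intro x
        obtain ⟨z, hz, hze⟩ := hin x
        refine ⟨z, hz, hze, ?_⟩
        have h1 := hrel x
        have h2 : lreg ⟨ψ x, (F.le_of_mem hψ).2 x⟩ =
            lreg ⟨i.2.1 ⟨z.1, hz⟩, (F.le_of_mem i.2.2).2 ⟨z.1, hz⟩⟩ := by
          rw [← sigmaI_conj F i z.1 hz, ← h1]
          show (h0 * (sigmaI F i)⁻¹)⁻¹ * _ * (h0 * (sigmaI F i)⁻¹) = _
          rw [show (⟨z.1, (F.le_of_mem i.2.2).1 hz⟩ : ↥S) = z from rfl, hze]
          group
        exact Subtype.ext_iff.1 (lreg_injective h2)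
      have hran : ∀ x : P, ψ x ∈ i.2.1.range := fun x => by
        obtain ⟨z, hz, -, e⟩ := key x
        exact ⟨_, e.symm⟩
      refine ⟨_, F.comp_mem hψ hχ hran, fun x => ?_⟩
      obtain ⟨z, hz, hze, hzψ⟩ := key x
      rw [← hze]
      congr 1
      apply Subtype.ext
      show (z : Ω) = χ ⟨ψ x, _⟩
      rw [← (hχi ⟨z.1, hz⟩ : _ = (z : Ω))]
      congr 1
      exact Subtype.ext hzψ.symm
    · -- forwards along the edge
      refine hrec (h0 * (graphData F).step i) w' hp.2 ?_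
      obtain ⟨ψ, hψ, hrel⟩ := good_coset hg (hp.1.symm :
        (w : _ ⧸ (lreg (S := S)).range) = (h0 : _))
      have hmem : ∀ x : P, ψ x ∈ i.1 := fun x => by
        have h := hin x
        rw [hrel x] at h
        exact lreg_mem_sub h
      refine ⟨_, F.comp_mem hψ i.2.2 hmem, fun x => ?_⟩
      have h1 := sigmaI_conj F i (ψ x) (hmem x)
      show (h0 * (sigmaI F i)⁻¹)⁻¹ * _ * (h0 * (sigmaI F i)⁻¹) = lreg ⟨i.2.1 ⟨ψ x, hmem x⟩, _⟩
      rw [← h1, ← hrel x]
      group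

/-- The embedding of `S`. -/
noncomputable def emb [Finite S] (F : Cfsg.FusionSystem S) :
    ↥S →* ↥(GraphExt.fund (graphData F)) :=
  (SemidirectProduct.inr.comp lreg).codRestrict _ fun s =>
    (GraphExt.inr_mem_fund _ _).2 ⟨s, rfl⟩

theorem emb_realizes [Finite S] (F : Cfsg.FusionSystem S) : F.IsRealizedBy (emb F) := by
  refine ⟨fun a b h => lreg_injective (SemidirectProduct.inr_injective (Subtype.ext_iff.1 h)),
    fun P hP φ hφ => ⟨fun hmem => ?_, ?_⟩⟩
  · let i : Idx F := ⟨P, φ, hmem⟩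
    refine ⟨(⟨_, GraphExt.stable_mem_fund (graphData F) i⟩ : GraphExt.fund (graphData F))⁻¹,
      fun x => ?_⟩
    rw [inv_inv, mul_assoc, eq_inv_mul_iff_mul_eq]
    apply Subtype.ext
    refine SemidirectProduct.ext ?_ ?_
    · show FreeGroup.of _ * GraphExt.act (graphData F) _ 1 =
        1 * GraphExt.act (graphData F) (lreg ⟨x.1, hP x.2⟩) (FreeGroup.of _)
      rw [map_one, mul_one, one_mul]
      show FreeGroup.of _ = FreeGroup.map _ (FreeGroup.of _)
      rw [FreeGroup.map.of]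
      congr 1
      refine Sigma.ext rfl (heq_of_eq ?_)
      refine QuotientGroup.eq.2 ?_
      show (1 : Equiv.Perm ↥S)⁻¹ * (lreg ⟨x.1, hP x.2⟩ * 1) ∈ _
      rw [inv_one, one_mul, mul_one]
      exact Subgroup.mem_map_of_mem _ (x.2 : x.1 ∈ P)
    · show (sigmaI F i)⁻¹ * lreg ⟨φ x, hφ x⟩ = lreg ⟨x.1, hP x.2⟩ * (sigmaI F i)⁻¹
      rw [← sigmaI_conj F i x.1 x.2]
      group
  · rintro ⟨g, hg⟩
    have hconj : ∀ x : P, g⁻¹ * emb F ⟨φ x, hφ x⟩ = emb F ⟨x.1, hP x.2⟩ * g⁻¹ := fun x => by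
      rw [hg x]; group
    set h := g⁻¹
    have hl : ∀ x : P, GraphExt.act (graphData F) (lreg ⟨x.1, hP x.2⟩) h.1.left = h.1.left := by
      intro x
      have e : h.1.left * GraphExt.act (graphData F) h.1.right 1 =
          1 * GraphExt.act (graphData F) (lreg ⟨x.1, hP x.2⟩) h.1.left :=
        congrArg SemidirectProduct.left (Subtype.ext_iff.1 (hconj x))
      rw [map_one, mul_one, one_mul] at e
      exact e.symm
    have hr : ∀ x : P, h.1.right * lreg ⟨φ x, hφ x⟩ = lreg ⟨x.1, hP x.2⟩ * h.1.right := fun x =>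
      congrArg SemidirectProduct.right (Subtype.ext_iff.1 (hconj x))
    have hpath := h.2
    rw [GraphExt.mem_fund, GraphExt.smul_v0] at hpath
    have hstart : Good F P 1 := ⟨_, F.conj_mem hP S.one_mem, fun x => by
      rw [inv_one, one_mul, mul_one]
      congr 1
      apply Subtype.ext
      show (x : Ω) = 1 * x * 1⁻¹
      simp⟩
    have hfix : ∀ a ∈ h.1.left.toWord, ∀ x : P,
        GraphExt.edgePerm (graphData F) (lreg ⟨x.1, hP x.2⟩) a.1 = a.1 := by
      intro a ha x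
      have h2 := congrArg FreeGroup.toWord (hl x)
      rw [GraphExt.toWord_act] at h2
      have h3 := (List.map_inj_left (g := id)).1 (h2.trans (List.map_id _).symm) a ha
      exact congrArg Prod.fst h3
    obtain ⟨ψ, hψ, hrel⟩ := good_path hP _ hfix 1 h.1.right hpath hstart
    have : φ = ψ := by
      ext x
      have h1 := hrel x
      rw [mul_assoc, ← hr x, inv_mul_cancel_left] at h1
      exact Subtype.ext_iff.1 (lreg_injective h1)
    rw [this]
    exact hψ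

/-- Every fusion system F over a finite p-group S, saturated or not, is realized by a possibly infinite group: there are a group G and an injective homomorphism ι of S into G such that the maps of F are exactly the conjugations by elements of G between subgroups of ι(S), every finite subgroup of G is conjugate to a subgroup of ι(S), and G has a free normal subgroup whose index divides (#S)!. -/
theorem result {Ω : Type u} [Group Ω] {S : Subgroup Ω} [Finite S] (p : ℕ) [Fact p.Prime] (hS : IsPGroup p ↥S) (F : Cfsg.FusionSystem S) : ∃ (G : Type u) (_ : Group G) (ι : ↥S →* G), F.IsRealizedBy ι ∧ (∀ H : Subgroup G, Finite ↥H → ∃ g : G, ∀ h ∈ H, g * h * g⁻¹ ∈ ι.range) ∧ ∃ N : Subgroup G, N.Normal ∧ IsFreeGroup ↥N ∧ N.index ∣ (Nat.card ↥S).factorial := by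
  refine ⟨↥(GraphExt.fund (graphData F)), inferInstance, emb F, emb_realizes F, ?_,
    (GraphExt.proj (graphData F)).ker, inferInstance, GraphExt.ker_proj_isFree _, ?_⟩
  · intro H hH
    obtain ⟨g, hg⟩ := GraphExt.finite_conj (graphData F) H
    refine ⟨g, fun h hh => ?_⟩
    obtain ⟨_, ⟨s, rfl⟩, he⟩ := hg h hh
    exact ⟨s, Subtype.ext he.symm⟩
  · have := GraphExt.index_ker_dvd (graphData F)
    rwa [Nat.card_perm] at this
end Cfsg.Agent.S5286
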