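import Cfsg.Statements.S5287
import Cfsg.Agent.S5284
import Cfsg.Agent.Lib.Fusion.SupersolubleExceptions
import Cfsg.Agent.Lib.PGroup.MetacyclicLine
import Cfsg.Agent.Lib.Fusion.MetacyclicOdd
import Cfsg.Agent.Lib.Fusion.MetacyclicTwo
import Cfsg.Agent.Lib.Fusion.MetacyclicTwoAut
import Cfsg.Agent.Lib.Fusion.Solvable

set_option autoImplicit false
open Cfsg

namespace Cfsg.Agent.S5287

open Cfsg.FusionSystem CfsgLib.Fusion

theorem card_le_sq {G : Type*} [Group G] (hm : Cfsg.IsMetacyclic G) {W : Subgroup G} {p : ℕ}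
    (hp : p ≠ 0) (he : ∀ x ∈ W, x ^ p = 1) : Nat.card W ≤ p * p :=
  card_le_sq_of_metacyclic (CfsgLib.Metacyclic.isMetacyclic_subgroup hm ⊤) le_top (MonoidHom.id W)
    Function.surjective_id hp fun x => Subtype.ext (he x x.2)

/-- An abelian metacyclic group has no third factor. -/
theorem homocyclic_of_factor {G : Type*} [Group G] [Finite G] {p : ℕ} [Fact p.Prime]
    (hG : IsPGroup p G) (hab : ∀ x y : G, x * y = y * x) (hm : Cfsg.IsMetacyclic G) {n : ℕ}
    (hn : 0 < n) {H : Type} [CommGroup H]
    (e : G ≃* (Multiplicative (ZMod (p ^ n)) × Multiplicative (ZMod (p ^ n))) × H) :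
    Nonempty (G ≃* Multiplicative (ZMod (p ^ n)) × Multiplicative (ZMod (p ^ n))) := by
  have hpp := (Fact.out : p.Prime)
  haveI : Finite H := Finite.of_surjective (fun g => (e g).2) fun h =>
    ⟨e.symm ((1, h)), by simp⟩
  by_cases hH : ∀ h : H, h = 1
  · exact ⟨e.trans
      { toFun := Prod.fst
        invFun := fun c => (c, 1)
        left_inv := fun c => Prod.ext rfl (hH c.2).symm
        right_inv := fun c => rfl
        map_mul' := fun _ _ => rfl }⟩
  exfalso
  haveI : Nontrivial H := by
    push Not at hH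
    obtain ⟨h, hh⟩ := hH
    exact ⟨⟨h, 1, hh⟩⟩
  have hHp : IsPGroup p H := hG.of_surjective
    ((MonoidHom.snd _ H).comp e.toMonoidHom) fun h => ⟨e.symm ((1, h)), by simp⟩
  obtain ⟨k, hk, hk'⟩ := hHp.nontrivial_iff_card.1 inferInstance
  obtain ⟨h, hh⟩ := exists_prime_orderOf_dvd_card' (G := H) p (hk' ▸ dvd_pow_self p hk.ne')
  haveI : NeZero (p ^ n) := ⟨(pow_pos hpp.pos n).ne'⟩
  obtain ⟨z, hz⟩ := exists_prime_orderOf_dvd_card' (G := Multiplicative (ZMod (p ^ n))) p (by
    rw [Nat.card_congr Multiplicative.toAdd, Nat.card_zmod]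
    exact dvd_pow_self p hn.ne')
  let W : Subgroup G :=
    { carrier := {x | x ^ p = 1}
      one_mem' := one_pow p
      mul_mem' := fun {x y} hx hy => by
        show (x * y) ^ p = 1
        rw [(show Commute x y from hab x y).mul_pow, hx, hy, one_mul]
      inv_mem' := fun {x} hx => by
        show x⁻¹ ^ p = 1
        rw [inv_pow, show x ^ p = 1 from hx, inv_one] }
  have hle := card_le_sq hm hpp.ne_zero (W := W) fun x hx => hx
  have hpow : ∀ {X : Type} [Group X] (u : X) (a : Subgroup.zpowers u), orderOf u = p →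
      (a : X) ^ p = 1 := by
    intro X _ u a hu
    obtain ⟨i, hi⟩ := Subgroup.mem_zpowers_iff.1 a.2
    rw [← hi, ← zpow_natCast, ← zpow_mul, mul_comm, zpow_mul, zpow_natCast, ← hu,
      pow_orderOf_eq_one, one_zpow]
  let f : (Subgroup.zpowers z × Subgroup.zpowers z) × Subgroup.zpowers h → W := fun a =>
    ⟨e.symm (((a.1.1 : Multiplicative (ZMod (p ^ n))), (a.1.2 : Multiplicative (ZMod (p ^ n)))),
      (a.2 : H)), by
      show e.symm _ ^ p = 1
      rw [← map_pow, Prod.pow_mk, Prod.pow_mk, hpow z a.1.1 hz, hpow z a.1.2 hz, hpow h a.2 hh]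
      exact map_one e.symm⟩
  have hf : Function.Injective f := fun a b hab => by
    have h1 := e.symm.injective (Subtype.ext_iff.1 hab)
    simp only [Prod.mk.injEq] at h1
    exact Prod.ext (Prod.ext (Subtype.ext h1.1.1) (Subtype.ext h1.1.2)) (Subtype.ext h1.2)
  have h2 := Nat.card_le_card_of_injective f hf
  rw [Nat.card_prod, Nat.card_prod, Nat.card_zpowers, Nat.card_zpowers, hz, hh] at h2
  have h3 := h2.trans hle
  exact absurd (Nat.le_of_mul_le_mul_left (h3.trans_eq (mul_one _).symm)
    (Nat.mul_pos hpp.pos hpp.pos)) (not_le.2 hpp.one_lt)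

/-- The index of a dihedral or quaternion `2`-group. -/
theorem exists_two_pow {G : Type*} [Group G] [Finite G] (hG : IsPGroup 2 G) {n c : ℕ}
    (hc : Nat.card G = c * n) : ∃ k, n = 2 ^ k := by
  haveI : Fact (Nat.Prime 2) := ⟨Nat.prime_two⟩
  obtain ⟨j, hj⟩ := hG.exists_card_eq
  obtain ⟨k, -, hk⟩ := (Nat.dvd_prime_pow Nat.prime_two).1 (hj ▸ Dvd.intro_left c hc.symm : n ∣ 2 ^ j)
  exact ⟨k, hk⟩


/-- Let S be a finite metacyclic p-group (an extension of a cyclic group by a cyclic group). Every saturated fusion system over S is supersoluble (S has a chain of F-strongly closed subgroups from 1 to S with cyclic steps) if and only if S is not homocyclic of rank two (isomorphic to Z/p^n × Z/p^n with n ≥ 1) and, when p = 2, S is not dihedral of order at least 4, not quasi-dihedral (semidihedral) and not generalized quaternion of order at least 8. -/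
theorem result {Ω : Type*} [Group Ω] {S : Subgroup Ω} [Finite S] (p : ℕ) [Fact p.Prime] (hS : IsPGroup p ↥S) (hm : Cfsg.IsMetacyclic ↥S) : (∀ F : Cfsg.FusionSystem S, F.IsSaturated p → (∃ (m : ℕ) (c : Fin (m + 1) → Subgroup Ω), c 0 = ⊥ ∧ c (Fin.last m) = S ∧ (∀ i : Fin (m + 1), F.StronglyClosed (c i)) ∧ ∀ i : Fin m, c i.castSucc ≤ c i.succ ∧ ∃ x ∈ S, c i.succ = c i.castSucc ⊔ Subgroup.zpowers x)) ↔ ¬ ((∃ n : ℕ, 0 < n ∧ Nonempty (↥S ≃* Multiplicative (ZMod (p ^ n)) × Multiplicative (ZMod (p ^ n)))) ∨ (p = 2 ∧ ((∃ n : ℕ, 2 ≤ n ∧ Nonempty (↥S ≃* DihedralGroup n)) ∨ Cfsg.IsQuasiDihedral ↥S ∨ (∃ n : ℕ, 2 ≤ n ∧ Nonempty (↥S ≃* QuaternionGroup n))))) := by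
  classical
  have := finite_mulAut S
  constructor
  · rintro hchain (⟨n, hn, ⟨e⟩⟩ | ⟨rfl, ⟨n, hn, ⟨e⟩⟩ | hsd | ⟨n, hn, ⟨e⟩⟩⟩)
    · have hab : IsMulCommutative ↥S :=
        ⟨⟨fun a b => e.injective (by rw [map_mul, map_mul, mul_comm])⟩⟩
      refine (Cfsg.Agent.S5284.result p hS hab).1 hchain ⟨n, PUnit, inferInstance, hn, ⟨e.trans ?_⟩⟩
      exact { toFun := fun c => (c, PUnit.unit)
              invFun := Prod.fst
              left_inv := fun c => rfl
              right_inv := fun c => rfl
              map_mul' := fun _ _ => rfl }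
    · haveI : NeZero n := ⟨by omega⟩
      obtain ⟨k, rfl⟩ := exists_two_pow hS (n := n) (c := 2) (by
        rw [Nat.card_congr e.toEquiv, DihedralGroup.nat_card])
      have hk : 1 ≤ k := Nat.pos_of_ne_zero (by rintro rfl; simp at hn)
      rcases Nat.eq_or_lt_of_le hk with rfl | hk
      · -- the four group
        have hab : IsMulCommutative ↥S := by
          haveI : Fact (Nat.Prime 2) := ⟨Nat.prime_two⟩
          exact IsPGroup.isMulCommutative_of_card_eq_prime_sq (p := 2) (by
            rw [Nat.card_congr e.toEquiv, DihedralGroup.nat_card]; norm_num)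
        haveI : IsKleinFour S := by
          refine ⟨?_, ?_⟩
          · rw [Nat.card_congr e.toEquiv, DihedralGroup.nat_card]; norm_num
          · rw [Monoid.exponent_eq_of_mulEquiv e, DihedralGroup.exponent]; rfl
        haveI : IsKleinFour (Multiplicative (ZMod (2 ^ 1)) × Multiplicative (ZMod (2 ^ 1))) := by
          refine ⟨?_, ?_⟩
          · rw [Nat.card_prod, Nat.card_congr Multiplicative.toAdd, Nat.card_zmod]; norm_num
          · rw [Monoid.exponent_prod, Monoid.exponent_multiplicative, ZMod.exponent]; rfl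
        obtain ⟨e1⟩ : Nonempty (↥S ≃* Multiplicative (ZMod (2 ^ 1)) × Multiplicative (ZMod (2 ^ 1))) :=
          IsKleinFour.nonempty_mulEquiv
        refine (Cfsg.Agent.S5284.result 2 hS hab).1 hchain ⟨1, PUnit, inferInstance, one_pos,
          ⟨e1.trans ?_⟩⟩
        exact { toFun := fun c => (c, PUnit.unit)
                invFun := Prod.fst
                left_inv := fun c => rfl
                right_inv := fun c => rfl
                map_mul' := fun _ _ => rfl }
      · obtain ⟨F, hF, hno⟩ := CfsgLib.SupersolubleExc.dihedral hS hk e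
        exact hno (hchain F hF)
    · obtain ⟨F, hF, hno⟩ := CfsgLib.SupersolubleExc.quasiDihedral hS hsd
      exact hno (hchain F hF)
    · haveI : NeZero n := ⟨by omega⟩
      obtain ⟨k, rfl⟩ := exists_two_pow hS (n := n) (c := 4) (by
        rw [Nat.card_congr e.toEquiv, Nat.card_eq_fintype_card, QuaternionGroup.card])
      have hk : 1 ≤ k := Nat.pos_of_ne_zero (by rintro rfl; simp at hn)
      obtain ⟨F, hF, hno⟩ := CfsgLib.SupersolubleExc.quaternion hS hk e
      exact hno (hchain F hF)
  · intro hnot F hF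
    push Not at hnot
    obtain ⟨hnh, hn2⟩ := hnot
    by_cases hab : IsMulCommutative ↥S
    · refine (Cfsg.Agent.S5284.result p hS hab).2 ?_ F hF
      rintro ⟨n, H, _, hn, ⟨e⟩⟩
      obtain ⟨e'⟩ := homocyclic_of_factor hS (fun a b => hab.is_comm.comm a b) hm hn e
      exact (hnh n hn).false e'
    have hna : ¬ ∀ x y : S, x * y = y * x := fun h => hab ⟨⟨h⟩⟩
    by_cases hp2 : p = 2
    · subst hp2
      obtain ⟨hd, hsd, hq⟩ := hn2 rfl
      refine SupersolubleType.exists_chain hS hF
        (isNormal_of_metacyclic_two hS hF (stronglyClosed_top F) hm ?_ ?_ hsd) fun H hH => ?_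
      · rintro ⟨m, ⟨e⟩⟩
        rcases Nat.lt_or_ge m 2 with hm2 | hm2
        · interval_cases m
          · haveI := Finite.of_equiv _ e.toEquiv
            haveI : Finite (ZMod 0) :=
              Finite.of_injective (fun i => DihedralGroup.r (n := 0) i) fun _ _ h => DihedralGroup.r.inj h
            exact not_finite (ZMod 0)
          · refine hna fun x y => e.injective ?_
            rw [map_mul, map_mul]
            haveI : IsCyclic (DihedralGroup 1) := isCyclic_of_prime_card (p := 2) (by
              rw [DihedralGroup.nat_card])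
            exact (IsCyclic.commGroup (α := DihedralGroup 1)).mul_comm _ _
        · exact (hd m hm2).false e
      · rintro ⟨m, ⟨e⟩⟩
        rcases Nat.lt_or_ge m 2 with hm2 | hm2
        · interval_cases m
          · haveI := Finite.of_equiv _ e.toEquiv
            haveI : Finite (ZMod (2 * 0)) :=
              Finite.of_injective (fun i => QuaternionGroup.a (n := 0) i) fun _ _ h => QuaternionGroup.a.inj h
            exact not_finite (ZMod 0)
          · refine hna fun x y => e.injective ?_
            rw [map_mul, map_mul]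
            haveI : Fact (Nat.Prime 2) := ⟨Nat.prime_two⟩
            exact (IsPGroup.isMulCommutative_of_card_eq_prime_sq (p := 2) (G := QuaternionGroup 1) (by
              rw [Nat.card_eq_fintype_card, QuaternionGroup.card]; rfl)).is_comm.comm _ _
        · exact (hq m hm2).false e
      · have hA : IsPGroup 2 (MulAut S) := by
          by_contra hA
          rcases CfsgLib.Fusion.homocyclic_or_quaternion_of_not_isPGroup hS hm hA with ⟨k, hk, ⟨e⟩⟩ | ⟨⟨e⟩⟩
          · exact hna fun x y => e.injective (by rw [map_mul, map_mul, mul_comm])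
          · exact (hq 2 le_rfl).false e
        obtain ⟨k, hk⟩ := (hA.to_subgroup H).exists_card_eq
        have h1 : Nat.card H = 1 := Nat.eq_one_of_dvd_coprimes hH dvd_rfl
          (by rcases Nat.eq_zero_or_pos k with rfl | hk0
              · rw [hk]; simp
              · exact absurd (hH.symm.coprime_dvd_right (hk ▸ dvd_pow_self 2 hk0.ne'))
                  (by norm_num))
        haveI : Subsingleton H := (Nat.card_eq_one_iff_unique.1 h1).1
        exact ⟨⟨⟨fun a b => Subsingleton.elim _ _⟩⟩, fun h hh => by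
          have : (⟨h, hh⟩ : H) = 1 := Subsingleton.elim _ _
          rw [show h = 1 from congrArg Subtype.val this, one_pow]⟩
    · exact SupersolubleType.exists_chain hS hF
        (isNormal_of_metacyclic_odd hS hF hp2 (stronglyClosed_top F) hm)
        fun H hH => CfsgLib.MetacyclicLine.aut_coprime hp2 hS hm hna H hH

end Cfsg.Agent.S5287
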