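import Cfsg.Statements.S5292
import Cfsg.Agent.Lib.Fusion.PSolvableRealization

set_option autoImplicit false
universe u
open Cfsg

namespace Cfsg.Agent.S5292

/-- Let F be a saturated fusion system over a finite p-group S. Then F is the fusion system of some finite p-solvable group on a Sylow p-subgroup if and only if F is constrained (some subgroup normal in F is centric in F) and the group of automorphisms that F induces on its largest normal subgroup O_p(F) is p-solvable. -/
theorem result {Ω : Type u} [Group Ω] {S : Subgroup Ω} [Finite S] (p : ℕ) [Fact p.Prime] (hS : IsPGroup p S)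
    (F : Cfsg.FusionSystem S) (hF : F.IsSaturated p) :
    (∃ (G : Type u) (_ : Group G) (_ : Finite G) (ι : S →* G), Cfsg.IsPSolvable p G ∧ F.IsRealizedBy ι ∧
        ∃ T : Sylow p G, (T : Subgroup G) = ι.range) ↔
      (F.IsConstrained p ∧ Cfsg.IsPSolvable p ↥(F.autGroup F.core)) := by
  constructor
  · rintro ⟨G, _, _, ι, hsol, hreal, T, hT⟩
    haveI := CfsgLib.Transfer.pPrimeCore_normal p G
    have hQ : F.core ≤ S := (CfsgLib.Fusion.isNormal_core F).1
    refine ⟨?_, CfsgLib.Fusion.isPSolvable_autGroup hreal hsol hQ⟩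
    set π := QuotientGroup.mk' (Cfsg.pPrimeCore p G)
    have hT' : ((T.mapSurjective (QuotientGroup.mk'_surjective (Cfsg.pPrimeCore p G))) :
        Subgroup (G ⧸ Cfsg.pPrimeCore p G)) = (π.comp ι).range := by
      rw [MonoidHom.range_comp, ← hT]
      rfl
    exact CfsgLib.Fusion.isConstrained_of_model hS F (π.comp ι)
      (CfsgLib.Fusion.isRealizedBy_pPrimeCore_quotient hreal T hT) _ hT'
      (CfsgLib.PSolvable.centralizer_pCore_le
        (CfsgLib.PSolvable.isPSolvable_of_surjective π (QuotientGroup.mk'_surjective _) hsol)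
        (CfsgLib.Layer.pPrimeCore_quotient_eq_bot p))
  · rintro ⟨⟨-, Q, hn, hc⟩, hA⟩
    exact CfsgLib.Fusion.exists_pSolvable_model hS hF (CfsgLib.Fusion.isNormal_core F)
      (CfsgLib.Fusion.isCentric_of_le hc (le_sSup hn) (CfsgLib.Fusion.isNormal_core F).1) hA

end Cfsg.Agent.S5292
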