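import Cfsg.Statements.S5297
import Cfsg.Agent.Lib.Fusion.SmallExtend
-- import your own Cfsg.Agent.* helpers here

set_option autoImplicit false
universe u
open Cfsg

namespace Cfsg.Agent.S5297

/-- Let F be a saturated fusion system over a finite p-group S. If every map of F between cyclic subgroups of the hyperfocal subgroup of F of order p or 4 is a map of the normalizer system of S (it extends to a map of F defined on all of S), then S is normal in F. -/
theorem result {Ω : Type u} [Group Ω] {S : Subgroup Ω} [Finite S] (p : ℕ) [Fact p.Prime] (hS : IsPGroup p S)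
    (F : Cfsg.FusionSystem S) (hF : F.IsSaturated p)
    (h : ∀ A B : Subgroup Ω, A ≤ (F.hyperfocalSubgroup p) → B ≤ (F.hyperfocalSubgroup p) → IsCyclic ↥A → (Nat.card ↥A = p ∨ Nat.card ↥A = 4) → IsCyclic ↥B → (Nat.card ↥B = p ∨ Nat.card ↥B = 4) →
      F.homSet A B ⊆ F.normalizerHom S A) :
    F.IsNormal S := by
  refine CfsgLib.Fusion.SmallExtend.isNormal_of_small_extend hS hF fun Q f hf x hx hxT hxe => ?_
  rcases eq_or_ne x 1 with rfl | hx1
  · exact ⟨id, CfsgLib.Fusion.isMap_id le_rfl, hf.map_one.symm⟩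
  have hzQ : Subgroup.zpowers x ≤ Q := Subgroup.zpowers_le.2 hx
  obtain ⟨φ, hφ, hv⟩ := (hf.mono hzQ).exists_hom
  have hyT : f x ∈ F.hyperfocalSubgroup p := CfsgLib.Fusion.isMap_mem_of_stronglyClosed
    (CfsgLib.Fusion.stronglyClosed_hyperfocal hS hF) hf hx hxT
  have hpow : ∀ n : ℕ, f (x ^ n) = f x ^ n := fun n => by
    have := hf.map_zpow hx n
    simpa using this
  have hye : f x ^ CfsgLib.OddOmega.omegaExp p = 1 := by rw [← hpow, hxe, hf.map_one]
  have hy1 : f x ≠ 1 := fun e => hx1 (hf.injOn hx Q.one_mem (by rw [e, hf.map_one]))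
  have hcard : ∀ z : Ω, z ^ CfsgLib.OddOmega.omegaExp p = 1 → z ≠ 1 →
      Nat.card (Subgroup.zpowers z) = p ∨ Nat.card (Subgroup.zpowers z) = 4 := by
    intro z hz hz1
    rw [Nat.card_zpowers]
    have hd := orderOf_dvd_of_pow_eq_one hz
    unfold CfsgLib.OddOmega.omegaExp at hd
    split at hd
    · obtain ⟨k, hk, hk'⟩ :=
        (Nat.dvd_prime_pow Nat.prime_two).1 (show orderOf z ∣ 2 ^ 2 from hd)
      interval_cases k
      · exact absurd (orderOf_eq_one_iff.1 hk') hz1
      · left; omega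
      · right; omega
    · rcases (Nat.dvd_prime (Fact.out : p.Prime)).1 hd with h1 | h1
      · exact absurd (orderOf_eq_one_iff.1 h1) hz1
      · exact Or.inl h1
  have hφB : φ ∈ F.homSet (Subgroup.zpowers x) (Subgroup.zpowers (f x)) := by
    refine ⟨hφ, fun z => ?_⟩
    obtain ⟨i, hi⟩ := Subgroup.mem_zpowers_iff.1 z.2
    rw [hv, ← hi, hf.map_zpow hx]
    exact Subgroup.zpow_mem _ (Subgroup.mem_zpowers _) i
  obtain ⟨-, -, -, ψ, hψ, hag, -⟩ := h (Subgroup.zpowers x) (Subgroup.zpowers (f x))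
    (Subgroup.zpowers_le.2 hxT) (Subgroup.zpowers_le.2 hyT) inferInstance (hcard x hxe hx1)
    inferInstance (hcard (f x) hye hy1) hφB
  refine ⟨CfsgLib.Fusion.homFun ψ,
    (CfsgLib.Fusion.isMap_homFun hψ).mono le_sup_right, ?_⟩
  have h1 := hag ⟨x, Subgroup.mem_zpowers x⟩
  rw [hv] at h1
  rw [CfsgLib.Fusion.homFun_apply ψ (Subgroup.mem_sup_left (Subgroup.mem_zpowers x))]
  exact h1

end Cfsg.Agent.S5297
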