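import Cfsg.Statements.S5298
import Cfsg.Agent.S5083
import Cfsg.Agent.Lib.Fusion.SmallMaps

set_option autoImplicit false
universe u
open Cfsg

namespace Cfsg.Agent.S5298

/-- Let F be a saturated fusion system over a finite p-group S. If every map of F between cyclic subgroups of the hyperfocal subgroup of F of order p or 4 is conjugation by an element of S, then F is the inner fusion system of S. -/
theorem result {Ω : Type u} [Group Ω] {S : Subgroup Ω} [Finite S] (p : ℕ) [Fact p.Prime] (hS : IsPGroup p S)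
    (F : Cfsg.FusionSystem S) (hF : F.IsSaturated p)
    (h : ∀ A B : Subgroup Ω, A ≤ (F.hyperfocalSubgroup p) → B ≤ (F.hyperfocalSubgroup p) → IsCyclic ↥A → (Nat.card ↥A = p ∨ Nat.card ↥A = 4) → IsCyclic ↥B → (Nat.card ↥B = p ∨ Nat.card ↥B = 4) →
      F.homSet A B ⊆ (Cfsg.innerFusionSystem S).Hom A) :
    ∀ P : Subgroup Ω, F.Hom P = (Cfsg.innerFusionSystem S).Hom P := by
  intro P
  suffices hFi : F = Cfsg.innerFusionSystem S by rw [hFi]
  refine Cfsg.Agent.S5083.result p hS F hF fun P hP => ?_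
  refine CfsgLib.Fusion.fix_small_of_conj hS hF (fun Q f hf x hx hxT hxe => ?_) hP
  rcases eq_or_ne x 1 with rfl | hx1
  · exact ⟨1, S.one_mem, by rw [hf.map_one]; group⟩
  have hzQ : Subgroup.zpowers x ≤ Q := Subgroup.zpowers_le.2 hx
  obtain ⟨φ, hφ, hv⟩ := (hf.mono hzQ).exists_hom
  have hyT : f x ∈ F.hyperfocalSubgroup p := CfsgLib.Fusion.isMap_mem_of_stronglyClosed
    (CfsgLib.Fusion.stronglyClosed_hyperfocal hS hF) hf hx hxT
  have hinj : ∀ n : ℕ, f x ^ n = 1 ↔ x ^ n = 1 := fun n => by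
    have h1 : f (x ^ n) = f x ^ n := by
      have := hf.map_zpow hx n
      simpa using this
    refine ⟨fun h => hf.injOn (Q.pow_mem hx n) Q.one_mem (by rw [h1, h, hf.map_one]),
      fun h => by rw [← h1, h, hf.map_one]⟩
  have hcard : ∀ z : Ω, z ^ CfsgLib.OddOmega.omegaExp p = 1 → z ≠ 1 →
      Nat.card (Subgroup.zpowers z) = p ∨ Nat.card (Subgroup.zpowers z) = 4 := by
    intro z hz hz1
    rw [Nat.card_zpowers]
    have hd := orderOf_dvd_of_pow_eq_one hz
    unfold CfsgLib.OddOmega.omegaExp at hd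
    split at hd
    · have h4 := (Nat.dvd_prime_pow Nat.prime_two).1 (show orderOf z ∣ 2 ^ 2 from hd)
      obtain ⟨k, hk, hk'⟩ := h4
      interval_cases k
      · exact absurd (orderOf_eq_one_iff.1 hk') hz1
      · left; omega
      · right; omega
    · rcases (Nat.dvd_prime (Fact.out : p.Prime)).1 hd with h1 | h1
      · exact absurd (orderOf_eq_one_iff.1 h1) hz1
      · exact Or.inl h1
  have hy1 : f x ≠ 1 := fun e => hx1 (hf.injOn hx Q.one_mem (by rw [e, hf.map_one]))
  have hφB : φ ∈ F.homSet (Subgroup.zpowers x) (Subgroup.zpowers (f x)) := by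
    refine ⟨hφ, fun z => ?_⟩
    obtain ⟨i, hi⟩ := Subgroup.mem_zpowers_iff.1 z.2
    rw [hv, ← hi, hf.map_zpow hx]
    exact Subgroup.zpow_mem _ (Subgroup.mem_zpowers _) i
  obtain ⟨-, s, hs, hsv⟩ := h (Subgroup.zpowers x) (Subgroup.zpowers (f x))
    (Subgroup.zpowers_le.2 hxT) (Subgroup.zpowers_le.2 hyT) inferInstance (hcard x hxe hx1)
    inferInstance (hcard (f x) ((hinj _).2 hxe) hy1) hφB
  exact ⟨s, hs, by rw [← hv ⟨x, Subgroup.mem_zpowers x⟩, hsv]⟩

end Cfsg.Agent.S5298
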