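import Cfsg.Statements.S5299
import Cfsg.Agent.Lib.Fusion.Group
import Cfsg.Agent.Lib.Offender.Involves

set_option autoImplicit false
universe u
open Cfsg

namespace Cfsg.Agent.S5299

/-- Let F be a saturated fusion system over a finite p-group S, H a finite group and Q a p-subgroup of H. If Q is not involved in S (no section of S is isomorphic to Q), then F is H-free: H is involved in no model of the normalizer system of a fully normalized centric subgroup. -/
theorem result {Ω : Type u} [Group Ω] {S : Subgroup Ω} [Finite S] (p : ℕ) [Fact p.Prime] (hS : IsPGroup p S)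
    (F : Cfsg.FusionSystem S) (hF : F.IsSaturated p) (H : Type*) [Group H] [Finite H] (Q : Subgroup H) (hQ : IsPGroup p Q)
    (hfree : ¬ Cfsg.Involves (↥Q) (↥S)) : F.IsSectionFree p H := by
  intro R hR _ N _ L _ ι hL hinv
  obtain ⟨hfin, hreal, ⟨T, hT⟩, -⟩ := hL
  obtain ⟨K, ψ, hψ⟩ := CfsgLib.Offender.exists_hom_of_involves hinv
  let K' : Subgroup K := Q.comap ψ
  let χ : K' →* Q := ψ.subgroupComap Q
  have hχ : Function.Surjective χ := ψ.subgroupComap_surjective_of_surjective Q hψ
  obtain ⟨W⟩ : Nonempty (Sylow p K') := inferInstance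
  have htop : ((W.mapSurjective hχ : Sylow p Q) : Subgroup Q) = ⊤ :=
    ((Sylow.mapSurjective hχ W).is_maximal' (hQ.of_equiv Subgroup.topEquiv.symm) le_top).symm
  rw [Sylow.coe_mapSurjective] at htop
  let U : Subgroup L := ((W : Subgroup K').map (K.subtype.comp K'.subtype))
  have hUp : IsPGroup p U := W.isPGroup'.map _
  obtain ⟨g, hg⟩ := CfsgLib.Fusion.exists_conj_le_sylow T hUp
  have hinj : Function.Injective (K.subtype.comp K'.subtype) :=
    K.subtype_injective.comp K'.subtype_injective
  let e : (W : Subgroup K') ≃* U := Subgroup.equivMapOfInjective _ _ hinj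
  have hsurj : Function.Surjective ((χ.comp (W : Subgroup K').subtype).comp e.symm.toMonoidHom) := by
    intro q
    obtain ⟨w, hw, hwq⟩ := htop.ge (Subgroup.mem_top q)
    exact ⟨e ⟨w, hw⟩, by simp [hwq]⟩
  have h1 : Cfsg.Involves Q U :=
    CfsgLib.Offender.involves_of_hom (K := (⊤ : Subgroup U))
      (((χ.comp (W : Subgroup K').subtype).comp e.symm.toMonoidHom).comp
        (Subgroup.topEquiv (G := U)).toMonoidHom) fun q => by
      obtain ⟨u, hu⟩ := hsurj q
      exact ⟨⟨u, Subgroup.mem_top u⟩, hu⟩
  have hle : ∀ u : U, g * (u : L) * g⁻¹ ∈ ι.range := fun u =>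
    hT ▸ hg ⟨u, u.2, rfl⟩
  have hiinj : Function.Injective ι := hreal.1
  let f : U →* ↥(FusionSystem.normalizerIn S R) :=
    (MonoidHom.ofInjective hiinj).symm.toMonoidHom.comp
      (((MulAut.conj g).toMonoidHom.comp U.subtype).codRestrict ι.range hle)
  have hf : Function.Injective f := by
    refine (MonoidHom.ofInjective hiinj).symm.injective.comp fun a b hab => Subtype.ext ?_
    exact (MulAut.conj g).injective (congrArg Subtype.val hab)
  have hincl : Function.Injective (Subgroup.inclusion (inf_le_left :
      FusionSystem.normalizerIn S R ≤ S)) := Subgroup.inclusion_injective _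
  exact hfree (CfsgLib.Offender.involves_of_injective ((Subgroup.inclusion (inf_le_left :
      FusionSystem.normalizerIn S R ≤ S)).comp f)
    (hincl.comp hf) h1)

end Cfsg.Agent.S5299
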