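import Cfsg.Statements.S5301
import Cfsg.Agent.Lib.Fusion.NormalSeries

set_option autoImplicit false
universe u
open Cfsg

namespace Cfsg.Agent.S5301

/-- Let F be a saturated fusion system over a finite p-group S. If for every subgroup P of S that is fully normalized, centric and radical in F the automorphism group that F induces on P has a normal Sylow p-subgroup, then S is normal in F. -/
theorem result {Ω : Type u} [Group Ω] {S : Subgroup Ω} [Finite S] (p : ℕ) [Fact p.Prime] (hS : IsPGroup p S)
    (F : Cfsg.FusionSystem S) (hF : F.IsSaturated p)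
    (hcl : ∀ P : Subgroup Ω, F.IsFullyNormalized P → F.IsCentric P → F.IsRadical p P →
      ∃ R : Sylow p ↥(F.autGroup P), (R : Subgroup ↥(F.autGroup P)).Normal) :
    F.IsNormal S := by
  refine CfsgLib.Fusion.isNormal_of_generators hS hF le_rfl fun P hP => ?_
  have hPS : P = S := by
    rcases hP with rfl | hess
    · rfl
    by_contra hne
    have hr := CfsgLib.Fusion.isRadical_of_isEssential hS hess
    obtain ⟨hc, hfn, -⟩ := hess
    have := CfsgLib.Fusion.finite_of_le hfn.1
    have := CfsgLib.Fusion.finite_mulAut P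
    obtain ⟨R, hR⟩ := hcl P hfn hc hr
    obtain ⟨-, T, hT⟩ := CfsgLib.Fusion.isFullyAutomized_of_isFullyNormalized hS hF hfn
    obtain ⟨x, hx⟩ := MulAction.exists_smul_eq (F.autGroup P) R T
    have hTR : (T : Subgroup (F.autGroup P)) = R := by
      rw [← hx, Sylow.coe_subgroup_smul]
      exact Subgroup.Normal.map_conj_eq (R : Subgroup _) x
    obtain ⟨g, hg, hgP⟩ := SetLike.exists_of_lt (CfsgLib.Fusion.lt_normalizerIn hS hfn.1 hne)
    have hmem := CfsgLib.Fusion.conjAut_mem_autInducedBy (K := S) hg.2 hg.1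
    have hTp : (T : Subgroup (F.autGroup P)) ≤ Cfsg.pCore p (F.autGroup P) := by
      rw [hTR]
      exact CfsgLib.Fitting.le_pCore hR R.isPGroup'
    exact hgP (CfsgLib.Fusion.mem_of_mem_pCore hc hr hg
      (α := ⟨_, CfsgLib.Fusion.autInducedBy_le_autGroup hfn.1 hmem⟩)
      (CfsgLib.Fusion.conjAut_apply P hg.2) (hTp (hT ▸ hmem)))
  subst hPS
  exact ⟨le_rfl, fun α _ x hx => CfsgLib.Fusion.autFun_mem α hx⟩

end Cfsg.Agent.S5301
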