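import Cfsg.Statements.S5306


set_option autoImplicit false
open Cfsg

namespace Cfsg.Agent.S5306

/-- Let P be a Sylow p-subgroup of the finite group X and J = J(P) its Thompson subgroup (generated by the elementary abelian subgroups of P of largest order). If x and y lie in the centre of J and y = g x g⁻¹ for some g in X, then y = n x n⁻¹ for some n in the normalizer N_X(J). -/
theorem result {X : Type*} [Group X] [Finite X] (p : ℕ) [Fact p.Prime] (P : Sylow p X) (J : Subgroup X) (hJ : J = Cfsg.thompsonSubgroupOf p (P : Subgroup X))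
    (x y : X) (hx : x ∈ J ∧ ∀ j ∈ J, Commute j x) (hy : y ∈ J ∧ ∀ j ∈ J, Commute j y) (g : X) (hg : g * x * g⁻¹ = y) :
    ∃ n ∈ Subgroup.normalizer (J : Set X), n * x * n⁻¹ = y := by
  classical
  set conjS : X → Subgroup X → Subgroup X := fun a H => H.map (MulAut.conj a).toMonoidHom with hconjS
  have hmul : ∀ (a b : X) (H : Subgroup X), conjS (a * b) H = conjS a (conjS b H) := by
    intro a b H
    simp only [hconjS, Subgroup.map_map]
    congr 1
    ext z
    simp [mul_assoc]
  have hone : ∀ H : Subgroup X, conjS 1 H = H := fun H => by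
    ext z; simp [hconjS]
  have hwc : ∀ b : X, conjS b J ≤ (P : Subgroup X) → conjS b J = J := by
    intro b hb
    refine Subgroup.eq_of_le_of_card_ge ?_ ?_
    · subst hJ
      rw [hconjS]
      show Subgroup.map _ (Subgroup.map _ (sSup _)) ≤ _
      rw [Subgroup.map_map, Subgroup.map_le_iff_le_comap]
      refine sSup_le fun A hA => ?_
      rw [← Subgroup.map_le_iff_le_comap]
      set f : ↥(P : Subgroup X) →* X := (MulAut.conj b).toMonoidHom.comp (P : Subgroup X).subtype with hf
      have hfinj : Function.Injective f := (MulAut.conj b).injective.comp Subtype.val_injective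
      have hAP : A.map f ≤ (P : Subgroup X) := by
        refine le_trans ?_ hb
        rw [hf, ← Subgroup.map_map]
        exact Subgroup.map_mono (Subgroup.map_mono (le_sSup hA))
      let A' : Subgroup ↥(P : Subgroup X) := (A.map f).subgroupOf (P : Subgroup X)
      have hA'mem : A' ∈ Cfsg.maxElementaryAbelianSubgroups p ↥(P : Subgroup X) := by
        have hel : ∀ a : A', ∃ c ∈ A, f c = ((a : ↥(P : Subgroup X)) : X) := fun a => a.2
        refine ⟨⟨⟨⟨fun a c => ?_⟩⟩, fun a ha => ?_⟩, fun B hB => ?_⟩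
        · obtain ⟨a', ha', hae⟩ := hel a
          obtain ⟨c', hc', hce⟩ := hel c
          have := congrArg Subtype.val (hA.1.1.is_comm.comm ⟨a', ha'⟩ ⟨c', hc'⟩)
          apply Subtype.ext; apply Subtype.ext
          simp only [Subgroup.coe_mul] at this ⊢
          rw [← hae, ← hce, ← map_mul, ← map_mul]
          exact congrArg f this
        · obtain ⟨a', ha', hae⟩ := hel ⟨a, ha⟩
          apply Subtype.ext
          rw [SubmonoidClass.coe_pow, ← hae, ← map_pow, hA.1.2 a' ha', map_one]
          rfl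
        · rw [Nat.card_congr (Subgroup.subgroupOfEquivOfLe hAP).toEquiv,
            ← Nat.card_congr (A.equivMapOfInjective f hfinj).toEquiv]
          exact hA.2 B hB
      have heq : A.map f = A'.map (P : Subgroup X).subtype := by
        rw [show A'.map (P : Subgroup X).subtype = A.map f from Subgroup.map_subgroupOf_eq_of_le hAP]
      show A.map f ≤ _
      rw [heq]
      exact Subgroup.map_mono (le_sSup hA'mem)
    · exact (Nat.card_congr (J.equivMapOfInjective (MulAut.conj b).toMonoidHom (MulAut.conj b).injective).toEquiv).le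
  have hnorm : ∀ b : X, conjS b J = J → b ∈ Subgroup.normalizer (J : Set X) := by
    intro b hb
    rw [Subgroup.mem_normalizer_iff]
    intro h
    conv_rhs => rw [← hb]
    exact (Subgroup.mem_map_iff_mem (MulAut.conj b).injective).symm
  set C := Subgroup.centralizer ({y} : Set X) with hC
  have hJC : J ≤ C := fun j hj => Subgroup.mem_centralizer_iff.mpr
    fun h hh => by rw [Set.mem_singleton_iff.mp hh]; exact (hy.2 j hj).eq.symm
  have hgJC : conjS g J ≤ C := by
    rintro _ ⟨j, hj, rfl⟩
    refine Subgroup.mem_centralizer_iff.mpr fun h hh => ?_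
    rw [Set.mem_singleton_iff.mp hh, ← hg]
    have := ((hx.2 j hj).map (MulAut.conj g).toMonoidHom).eq
    simpa using this.symm
  have hJp : IsPGroup p J := by
    subst hJ
    exact P.isPGroup'.to_le (Subgroup.map_subtype_le _)
  have hgJp : IsPGroup p ↥(conjS g J) := hJp.map _
  obtain ⟨P₁, hP₁⟩ := (hJp.comap_of_injective C.subtype C.subtype_injective).exists_le_sylow
  obtain ⟨P₂, hP₂⟩ := (hgJp.comap_of_injective C.subtype C.subtype_injective).exists_le_sylow
  obtain ⟨c, hc⟩ := MulAction.exists_smul_eq C P₂ P₁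
  set R₁ : Subgroup X := (P₁ : Subgroup C).map C.subtype with hR₁
  have hJR : J ≤ R₁ := fun j hj => ⟨⟨j, hJC hj⟩, hP₁ hj, rfl⟩
  have hgR : conjS ((c : X) * g) J ≤ R₁ := by
    rw [hmul]
    rintro _ ⟨z, hz, rfl⟩
    refine ⟨c * ⟨z, hgJC hz⟩ * c⁻¹, ?_, rfl⟩
    rw [← hc]
    show _ ∈ ((c • P₂ : Sylow p C) : Subgroup C)
    rw [Sylow.coe_subgroup_smul]
    exact ⟨⟨z, hgJC hz⟩, hP₂ hz, rfl⟩
  obtain ⟨R, hR⟩ := (P₁.isPGroup'.map C.subtype).exists_le_sylow
  obtain ⟨h, hh⟩ := MulAction.exists_smul_eq X R P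
  have key : ∀ b : X, conjS b J ≤ R₁ → conjS (h * b) J = J := by
    intro b hb
    apply hwc
    rw [hmul, ← hh]
    rintro _ ⟨z, hz, rfl⟩
    show _ ∈ ((h • R : Sylow p X) : Subgroup X)
    rw [Sylow.coe_subgroup_smul]
    exact ⟨z, hR (hb hz), rfl⟩
  have h1 := hnorm _ (key 1 (by rw [hone]; exact hJR))
  have h2 := hnorm _ (key _ hgR)
  rw [mul_one] at h1
  have h3 : (c : X) * g ∈ Subgroup.normalizer (J : Set X) := by
    have := Subgroup.mul_mem _ (Subgroup.inv_mem _ h1) h2
    simpa [mul_assoc] using this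
  refine ⟨_, h3, ?_⟩
  have hcy : (c : X) * y = y * c := (Subgroup.mem_centralizer_iff.mp c.2 y rfl).symm
  calc (c : X) * g * x * ((c : X) * g)⁻¹ = c * (g * x * g⁻¹) * (c : X)⁻¹ := by simp [mul_assoc]
    _ = y := by rw [hg, hcy, mul_inv_cancel_right]

end Cfsg.Agent.S5306
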