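import Cfsg.Statements.S5309
import Cfsg.Agent.S5146
import Cfsg.Agent.Lib.Fusion.NormalProduct
-- import your own Cfsg.Agent.* helpers here

set_option autoImplicit false
open Cfsg

namespace Cfsg.Agent.S5309

/-- Self-centralizing property of the generalized Fitting subsystem. Let F be a saturated fusion system over a finite p-group S and D a generalized Fitting subsystem of F, over U. Then the centre of D is the largest subgroup Y of C_S(U) centralized by D in F, in the sense that every map of D extends to a map of F fixing Y elementwise: the centre of D is such a subgroup, and every such Y lies in the centre of D. -/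
theorem result {Ω : Type*} [Group Ω] {S : Subgroup Ω} [Finite S] (p : ℕ) [Fact p.Prime] (hS : IsPGroup p S) (F : Cfsg.FusionSystem S) (hF : F.IsSaturated p)
    {U : Subgroup Ω} (D : Cfsg.FusionSystem U) (hD : D.IsGeneralizedFittingOf F p) :
    (D.center ≤ Cfsg.FusionSystem.centralizerIn S U ∧ ∀ P : Subgroup Ω, D.Hom P ⊆ F.centralizerHom D.center P) ∧
      ∀ Y : Subgroup Ω, Y ≤ Cfsg.FusionSystem.centralizerIn S U →
        (∀ P : Subgroup Ω, D.Hom P ⊆ F.centralizerHom Y P) → Y ≤ D.center := by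
  obtain ⟨T, E, hE, hprod⟩ := hD
  have hd : CfsgLib.Fusion.NormalProduct.Data F p F.core E D :=
    ⟨CfsgLib.Fusion.isNormal_core F, hE.1,
      CfsgLib.Fusion.ComponentCentral.core_centralizes_layer hS hF hE, hprod⟩
  have hUS := hd.le_S
  have hUp : IsPGroup p U := hS.to_le hUS
  have : Finite U := CfsgLib.Fusion.finite_of_le hUS
  have hcU : D.center ≤ U := sSup_le fun Q hQ => hQ.1
  refine ⟨⟨le_inf (hcU.trans hUS) D.center_le_centralizer, fun P φ hφ => ?_⟩, fun Y hY hYD => ?_⟩
  · obtain ⟨hP, hv⟩ := D.le_of_mem hφ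
    have hcS : ∀ x ∈ U, x ∈ FusionSystem.centralizerIn S D.center := fun x hx => ⟨hUS hx,
      Subgroup.mem_centralizer_iff.2 fun z hz =>
        (Subgroup.mem_centralizer_iff.1 (D.center_le_centralizer hz) x hx).symm⟩
    obtain ⟨ψ, hψ, hag, hfix⟩ := (CfsgLib.Fusion.isCentral_center D).2 P φ hφ
    exact ⟨hd.isSubsystemOf P hφ, fun x hx => hcS x (hP hx), fun x => hcS _ (hv x), ψ,
      hd.isSubsystemOf _ hψ, hag, hfix⟩
  · have hDn := hd.isNormalIn hS hF
    set Y₀ := CfsgLib.Fusion.NormalCentralizer.centE D F p hDn.1.2.2.2.1.1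
    have hY₀c : Y₀ ≤ FusionSystem.centralizerIn S U := CfsgLib.Fusion.NormalCentralizer.centE_le _
    have hY₀ : Y ≤ Y₀ := CfsgLib.Fusion.NormalCentralizer.le_centE hS hF hDn hY hYD
    have hY₀S : Y₀ ≤ S := hY₀c.trans inf_le_left
    have : Finite Y₀ := CfsgLib.Fusion.finite_of_le hY₀S
    obtain ⟨N, hN, -⟩ := CfsgLib.Fusion.NormalCentralizer.exists_centralizer_system hS hF hDn
    have hno : ¬ ∃ (X : Subgroup Ω) (C : Cfsg.FusionSystem X), C.IsComponentIn N p := by
      rintro ⟨X, C, hsub, hq⟩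
      have hXY : X ≤ Y₀ := CfsgLib.Fusion.le_of_isSubnormalIn hsub
      have hXT : X ≤ T := fun x hx => by
        have h := (E.le_of_mem (hE.2.1 X C ⟨.step hsub hN, hq⟩ X
          (C.conj_mem (g := 1) le_rfl X.one_mem))).2 ⟨x, hx⟩
        have e : conjHom X 1 ⟨x, hx⟩ = x := by
          show (1 : Ω) * x * (1 : Ω)⁻¹ = x
          group
        rwa [e] at h
      have hXS : X ≤ S := hXY.trans hY₀S
      have : Finite X := CfsgLib.Fusion.finite_of_le hXS
      exact Cfsg.Agent.S5148.result p (hS.to_le hXS) C hq ⟨⟨fun a b => Subtype.ext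
        (Subgroup.mem_centralizer_iff.1 (hY₀c (hXY b.2)).2 a
          (hd.eq_sup ▸ Subgroup.mem_sup_right (hXT a.2)))⟩⟩
    obtain ⟨-, Q, hQn, hQc⟩ := (Cfsg.Agent.S5146.result p (hS.to_le hY₀S) N hN.1.1).2 hno
    have hQR : Q ≤ F.core := (CfsgLib.Fusion.ComponentExists.le_core hQn).trans
      (CfsgLib.Fusion.ComponentExists.core_le_core hS hN.1)
    have hY₀Q : Y₀ ≤ Q := fun y hy => hQc.2 Q (CfsgLib.Fusion.isConj_refl hQn.1)
      ⟨hy, Subgroup.centralizer_le (show (Q : Set Ω) ⊆ U from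
        hd.eq_sup ▸ hQR.trans le_sup_left) (hY₀c hy).2⟩
    exact le_sSup (hd.isCentral_of_le (hY₀.trans (hY₀Q.trans hQR)) fun y hy x hx =>
      Subgroup.mem_centralizer_iff.1 (hY hy).2 x hx)

end Cfsg.Agent.S5309
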