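import Cfsg.Statements.S5310
import Cfsg.Agent.S5146
import Cfsg.Agent.Lib.Fusion.ProductSystem
-- import your own Cfsg.Agent.* helpers here

set_option autoImplicit false
open Cfsg

namespace Cfsg.Agent.S5310

/-- A saturated fusion system F over a finite p-group S is constrained (its largest normal subgroup O_p(F) is centric) if and only if the inner fusion system of O_p(F) is itself a generalized Fitting subsystem of F (that is, F*(F) = O_p(F)). -/
theorem result {Ω : Type*} [Group Ω] {S : Subgroup Ω} [Finite S] (p : ℕ) [Fact p.Prime] (hS : IsPGroup p S) (F : Cfsg.FusionSystem S) (hF : F.IsSaturated p) :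
    F.IsConstrained p ↔ (Cfsg.innerFusionSystem F.core).IsGeneralizedFittingOf F p := by
  constructor
  · intro hc
    have hno := (Cfsg.Agent.S5146.result p hS F hF).1 hc
    refine ⟨⊥, innerFusionSystem ⊥,
      ⟨CfsgLib.Fusion.ComponentCentral.isNormalIn_inner hS hF (CfsgLib.Fusion.isNormal_bot F),
        fun U C hC => absurd ⟨U, C, hC⟩ hno, fun R D hD _ => ?_⟩, ?_⟩
    · exact fun P => CfsgLib.Fusion.hom_inner_subset D bot_le
    · obtain ⟨D₀, hD₀⟩ := CfsgLib.Fusion.exists_productSystem (innerFusionSystem F.core)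
        (innerFusionSystem (⊥ : Subgroup Ω))
      have hcS : F.core ≤ S := (CfsgLib.Fusion.isNormal_core F).1
      refine ⟨D₀, hD₀, ⊥, (MonoidHom.fst Ω Ω).comp (F.core.prod ⊥).subtype, bot_le, bot_inf_eq _,
        bot_inf_eq _, fun x hx => rfl, fun y hy => ?_, bot_le, fun s => ?_, ?_, fun P' φ' => ?_⟩
      · exact (Subgroup.mem_bot.1 hy.2).symm
      · constructor
        · intro h
          exact Subgroup.mem_bot.2 (Prod.ext h (Subgroup.mem_bot.1 s.2.2))
        · intro h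
          exact congrArg Prod.fst (Subgroup.mem_bot.1 h)
      · ext x
        exact ⟨fun ⟨s, hs⟩ => hs ▸ s.2.1, fun hx => ⟨⟨(x, 1), hx, Subgroup.one_mem _⟩, rfl⟩⟩
      · set θ := (MonoidHom.fst Ω Ω).comp (F.core.prod (⊥ : Subgroup Ω)).subtype with hθ
        constructor
        · rintro ⟨hP', g, hg, hv⟩
          have hpre : FusionSystem.preimageAlong θ P' ≤ F.core.prod ⊥ := Subgroup.map_subtype_le _
          refine ⟨hP', _, D₀.conj_mem (g := (g, 1)) hpre ⟨hg, Subgroup.one_mem _⟩, hpre,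
            fun x => (F.core.prod (⊥ : Subgroup Ω)).mul_mem ((F.core.prod (⊥ : Subgroup Ω)).mul_mem
              ⟨hg, Subgroup.one_mem _⟩ (hpre x.2)) (inv_mem ⟨hg, Subgroup.one_mem _⟩),
            fun x => ?_, fun x => ?_⟩
          · obtain ⟨y, hy, e⟩ := x.2
            rw [show (⟨(x : Ω × Ω), hpre x.2⟩ : F.core.prod (⊥ : Subgroup Ω)) = y from
              Subtype.ext e.symm]
            exact hy
          · rw [hv]
            rfl
        · rintro ⟨hP', φ, hφ, hPS, hφS, hP'', hv⟩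
          obtain ⟨-, φ₁, ⟨-, g, hg, hφ₁⟩, φ₂, -, hφv⟩ := (hD₀ _ φ).1 hφ
          refine ⟨hP', g, hg, fun x => ?_⟩
          have hx : ((x : Ω), (1 : Ω)) ∈ F.core.prod (⊥ : Subgroup Ω) :=
            ⟨hP' x.2, Subgroup.one_mem _⟩
          have hxp : ((x : Ω), (1 : Ω)) ∈ FusionSystem.preimageAlong θ P' := ⟨⟨_, hx⟩, x.2, rfl⟩
          have h1 := hv ⟨_, hxp⟩
          rw [show φ' x = φ' ⟨θ ⟨_, hPS hxp⟩, hP'' ⟨_, hxp⟩⟩ from congrArg φ' (Subtype.ext rfl),
            h1]
          show (φ ⟨_, hxp⟩).1 = _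
          rw [hφv ⟨_, hxp⟩ ⟨_, hxp, rfl⟩ ⟨_, hxp, rfl⟩, hφ₁]
  · rintro ⟨T, E, hE, D₀, -, Z, θ, -, -, -, -, hθ₂, -, -, hrange, -⟩
    refine (Cfsg.Agent.S5146.result p hS F hF).2 ?_
    rintro ⟨X, C, hC⟩
    obtain ⟨hCF, hXC, -⟩ := CfsgLib.Fusion.ComponentCentral.fixes_of_subnormal hC.1 inferInstance
      hS hC.2 F.core (CfsgLib.Fusion.isNormal_core F)
    have hXT : X ≤ T := fun x hx => by
      have h := (E.le_of_mem (hE.2.1 X C hC X (C.conj_mem (g := 1) le_rfl X.one_mem))).2 ⟨x, hx⟩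
      have e : conjHom X 1 ⟨x, hx⟩ = x := by
        show (1 : Ω) * x * (1 : Ω)⁻¹ = x
        group
      rwa [e] at h
    have hTc : T ≤ F.core := fun y hy => by
      rw [← hrange]
      exact ⟨⟨(1, y), Subgroup.one_mem _, hy⟩, hθ₂ y _⟩
    have hXS : X ≤ S := hXC.trans inf_le_left
    have : Finite X := CfsgLib.Fusion.finite_of_le hXS
    exact Cfsg.Agent.S5148.result p (hS.to_le hXS) C hC.2 ⟨⟨fun a b => Subtype.ext
      (Subgroup.mem_centralizer_iff.1 (hXC b.2).2 a (hTc (hXT a.2)))⟩⟩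

end Cfsg.Agent.S5310
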