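import Cfsg.Statements.S5311
import Cfsg.Agent.Lib.Fusion.ComponentTransport

set_option autoImplicit false
open Cfsg

namespace Cfsg.Agent.S5311

open Cfsg.FusionSystem CfsgLib.Fusion in
theorem transport_of_isMorphism {Ω : Type*} [Group Ω] {S : Subgroup Ω} {F : Cfsg.FusionSystem S}
    {a b : ↥S →* Ω} (ha : F.IsMorphism F a) (hb : F.IsMorphism F b)
    (hba : ∀ x ∈ S, homExt b (homExt a x) = x) (hab : ∀ x ∈ S, homExt a (homExt b x) = x) :
    Transport F F (homExt a) (homExt b) := by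
  have main : ∀ {a b : ↥S →* Ω}, F.IsMorphism F a → (∀ x ∈ S, homExt b (homExt a x) = x) →
      ∀ (P : Subgroup Ω) (f : Ω → Ω) (P' : Subgroup Ω), IsMap F P f →
        (P' : Set Ω) = homExt a '' P → IsMap F P' (fun y => homExt a (f (homExt b y))) := by
    intro a b ha hba P f P' hf he
    obtain ⟨φ, hφ, hv⟩ := hf
    obtain ⟨φ', hφ', hP, hφS, hmem, hind⟩ := ha.2 P φ hφ
    have hle : P' ≤ Cfsg.FusionSystem.imageAlong a P := fun y hy => by
      obtain ⟨x, hx, rfl⟩ := he.subset hy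
      exact mem_imageAlong hP hx
    refine ((isMap_homFun hφ').mono hle).congr fun y hy => ?_
    obtain ⟨x, hx, rfl⟩ := he.subset hy
    rw [hba x (hP hx), homExt_apply a (hP hx), homFun_apply φ' (hmem ⟨x, hx⟩), hind ⟨x, hx⟩,
      ← hv ⟨x, hx⟩, homExt_apply a (hφS ⟨x, hx⟩)]
  exact ⟨fun x hx => by rw [homExt_apply a hx]; exact ha.1 _,
    fun x hx => by rw [homExt_apply b hx]; exact hb.1 _, hba, hab,
    fun x hx y hy => homExt_mul' a hx hy, main ha hba, fun P' f P hf he => main hb hab P' f P hf he⟩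

theorem _root_.Cfsg.FusionSystem.IsSubsystemOf.le_range {Ω : Type*} [Group Ω] {T U : Subgroup Ω}
    {E : Cfsg.FusionSystem T} {D : Cfsg.FusionSystem U} (h : E.IsSubsystemOf D) : T ≤ U :=
  (D.le_of_mem (h T (CfsgLib.Fusion.subtype_mem E le_rfl))).1


/-- The layer of a saturated fusion system F over a finite p-group S is characteristic in F: for every automorphism α of S that is an automorphism of F (α and its inverse are morphisms from F to F) and every layer E of F over T, α carries T onto T and, for every map φ of E with source P, the map induced by α on α(P) (that is, α ∘ φ ∘ α⁻¹) is a map of E. -/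
theorem result {Ω : Type*} [Group Ω] {S : Subgroup Ω} [Finite S] (p : ℕ) [Fact p.Prime] (hS : IsPGroup p S) (F : Cfsg.FusionSystem S) (hF : F.IsSaturated p)
    (α : ↥S ≃* ↥S) (hα : F.IsMorphism F (S.subtype.comp α.toMonoidHom))
    (hα' : F.IsMorphism F (S.subtype.comp α.symm.toMonoidHom))
    {T : Subgroup Ω} (E : Cfsg.FusionSystem T) (hE : E.IsLayerOf F p) :
    Cfsg.FusionSystem.imageAlong (S.subtype.comp α.toMonoidHom) T = T ∧
      ∀ (P : Subgroup Ω) (φ : ↥P →* Ω), φ ∈ E.Hom P →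
        ∀ φ' : ↥(Cfsg.FusionSystem.imageAlong (S.subtype.comp α.toMonoidHom) P) →* Ω,
          Cfsg.FusionSystem.InducedAlong (S.subtype.comp α.toMonoidHom) φ φ' →
            φ' ∈ E.Hom (Cfsg.FusionSystem.imageAlong (S.subtype.comp α.toMonoidHom) P) := by
  set jf : ↥S →* Ω := S.subtype.comp α.toMonoidHom with hjf
  set kf : ↥S →* Ω := S.subtype.comp α.symm.toMonoidHom with hkf
  have hj : ∀ (x : Ω) (hx : x ∈ S), CfsgLib.Fusion.homExt jf x = (α ⟨x, hx⟩ : Ω) := fun x hx =>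
    CfsgLib.Fusion.homExt_apply jf hx
  have hk : ∀ (x : Ω) (hx : x ∈ S), CfsgLib.Fusion.homExt kf x = (α.symm ⟨x, hx⟩ : Ω) := fun x hx =>
    CfsgLib.Fusion.homExt_apply kf hx
  have h : CfsgLib.Fusion.Transport F F (CfsgLib.Fusion.homExt jf) (CfsgLib.Fusion.homExt kf) :=
    transport_of_isMorphism hα hα' (fun x hx => by rw [hj x hx, hk _ (α _).2]; simp)
      (fun x hx => by rw [hk x hx, hj _ (α.symm _).2]; simp)
  have key : ∀ {j k : Ω → Ω} (h : CfsgLib.Fusion.Transport F F j k),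
      E.IsSubsystemOf (h.push E hE.1.1.2.2.2.1.1) := fun {j k} h => by
    refine hE.2.2 _ _ (h.isNormalIn_push hS hE.1) fun U C hC => ?_
    obtain ⟨U₀, C₀, hC₀, h₀⟩ := CfsgLib.Fusion.exists_component_transport h.symm hS hC
    intro P φ hφ
    have hm := h₀.isMap (CfsgLib.Fusion.isMap_homFun hφ)
    have hm' := CfsgLib.Fusion.isMap_of_subsystem (hE.2.1 U₀ C₀ hC₀) hm
    have hPU : P ≤ U := (C.le_of_mem hφ).1
    have hUS : U ≤ S := CfsgLib.Fusion.le_of_isSubnormalIn hC.1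
    have hT : T ≤ S := hE.1.1.2.2.2.1.1
    have hP : P ≤ h.img T := fun x hx => by
      rw [← h.jk x (hUS (hPU hx))]
      exact h.mem_img hT (hm'.le (h₀.mem_img hPU hx))
    refine CfsgLib.Fusion.mem_hom_of_isMap (h.isMap_push_iff.2 ⟨hP, _, hm'.mono ?_, fun y hy => ?_⟩)
      fun y => (CfsgLib.Fusion.homFun_coe φ y).symm
    · intro x hx
      obtain ⟨y, hy, -, rfl⟩ := h.symm.mem_img_iff'.1 hx
      exact h₀.mem_img hPU hy
    · show CfsgLib.Fusion.homFun φ y = j (k (CfsgLib.Fusion.homFun φ (j (k y))))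
      rw [h.jk y (hUS (hPU hy)), h.jk _ (hUS ((CfsgLib.Fusion.isMap_homFun hφ).mem hy))]
  have hT : T ≤ S := hE.1.1.2.2.2.1.1
  have himg : Cfsg.FusionSystem.imageAlong jf T = h.img T := by
    ext y
    rw [h.mem_img_iff']
    constructor
    · rintro ⟨x, hx, rfl⟩
      exact ⟨x, hx, x.2, hj x x.2⟩
    · rintro ⟨x, hx, hxS, rfl⟩
      exact ⟨⟨x, hxS⟩, hx, (hj x hxS).symm⟩
  have k1 := key h
  have k2 := key h.symm
  have hTimg : h.img T = T := by
    refine le_antisymm (fun y hy => ?_) (k1.le_range)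
    obtain ⟨x, hx, hxS, rfl⟩ := h.mem_img_iff'.1 hy
    obtain ⟨z, hz, hzS, e⟩ := h.symm.mem_img_iff'.1 (k2.le_range hx)
    rw [← e, h.jk z hzS]
    exact hz
  refine ⟨himg.trans hTimg, fun P φ hφ φ' hind => ?_⟩
  obtain ⟨hP, hφS, hP', hval⟩ := hind
  have hPT : P ≤ T := (E.le_of_mem hφ).1
  obtain ⟨-, g, hg, hv⟩ := h.symm.isMap_push_iff.1
    (CfsgLib.Fusion.isMap_of_subsystem k2 (CfsgLib.Fusion.isMap_homFun hφ))
  have himP : Cfsg.FusionSystem.imageAlong jf P ≤ h.symm.symm.img P := by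
    rintro y ⟨x, hx, rfl⟩
    exact h.symm.symm.mem_img_iff'.2 ⟨x, hx, x.2, hj x x.2⟩
  refine CfsgLib.Fusion.mem_hom_of_isMap (hg.mono himP) fun y => ?_
  obtain ⟨x, hx, hxy⟩ := y.2
  have hxS : (x : Ω) ∈ S := x.2
  have hy : y = ⟨jf ⟨x, hP hx⟩, hP' ⟨x, hx⟩⟩ := Subtype.ext hxy.symm
  have e := hv x hx
  rw [CfsgLib.Fusion.homFun_apply φ (show (x : Ω) ∈ P from hx)] at e
  rw [hy, hval ⟨x, hx⟩, show jf ⟨φ ⟨x, hx⟩, hφS ⟨x, hx⟩⟩ = (α ⟨φ ⟨x, hx⟩, hφS ⟨x, hx⟩⟩ : Ω) from rfl,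
    ← hj _ (hφS ⟨x, hx⟩), e, h.jk _ (hT (hg.mem (himP
    (CfsgLib.Fusion.mem_imageAlong (θ := jf) hP (show (x : Ω) ∈ P from hx)))))]
  congr 1
  exact hj x hxS
end Cfsg.Agent.S5311
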