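import Cfsg.Statements.S5312
import Cfsg.Agent.Lib.Fusion.ComponentStructure
import Cfsg.Agent.Lib.Fusion.GeneralizedFitting
-- import your own Cfsg.Agent.* helpers here

set_option autoImplicit false
open Cfsg

namespace Cfsg.Agent.S5312

/-- Let F be a saturated fusion system over a finite p-group S. Every component C of F is a normal subsystem of every generalized Fitting subsystem of F. -/
theorem result {Ω : Type*} [Group Ω] {S : Subgroup Ω} [Finite S] (p : ℕ) [Fact p.Prime] (hS : IsPGroup p S) (F : Cfsg.FusionSystem S) (hF : F.IsSaturated p)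
    {T : Subgroup Ω} (C : Cfsg.FusionSystem T) (hC : C.IsComponentIn F p)
    {U : Subgroup Ω} (D : Cfsg.FusionSystem U) (hD : D.IsGeneralizedFittingOf F p) : C.IsNormalIn D p := by
  obtain ⟨T', E, hE, hprod⟩ := hD
  have hR : F.IsNormal F.core := CfsgLib.Fusion.isNormal_core F
  have hd : CfsgLib.Fusion.NormalProduct.Data F p F.core E D :=
    ⟨hR, hE.1, CfsgLib.Fusion.ComponentCentral.core_centralizes_layer hS hF hE, hprod⟩
  have h₁ := (CfsgLib.Fusion.ComponentCentral.centE_inner (p := p) hS hR).symm ▸ hd.le_centralizerIn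
  have h₂ := CfsgLib.Fusion.NormalCentralizer.le_centE hS hF hE.1 hd.le_centralizerIn' hd.cent
  have h : CfsgLib.Fusion.CommProduct.Data F p (Cfsg.innerFusionSystem F.core) E D :=
    ⟨hS, hF, CfsgLib.Fusion.ComponentCentral.isNormalIn_inner hS hF hR, hE.1, h₁, h₂, hprod⟩
  exact h.isNormalIn₂ (CfsgLib.Fusion.CompStructure.isNormalIn_layer hS hF hE hC)

end Cfsg.Agent.S5312
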