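import Cfsg.Statements.S5315
import Cfsg.Agent.Lib.Fusion.Solvable
import Cfsg.Agent.Lib.Fusion.SmallMaps

set_option autoImplicit false
open Cfsg

namespace Cfsg.Agent.S5315

open CfsgLib.Fusion Cfsg.FusionSystem
open scoped commutatorElement

theorem center_bot {Ω : Type*} [Group Ω] {S : Subgroup Ω} [Finite S] {p : ℕ} [Fact p.Prime]
    (hS : IsPGroup p S) {F : Cfsg.FusionSystem S} (hF : F.IsSaturated p)
    (hperf : F.hyperfocalSubgroup p = S)
    {E : Cfsg.FusionSystem (⊤ : Subgroup (S ⧸ (F.center).subgroupOf S))}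
    (hE : F.IsFactorSystem F.center (QuotientGroup.mk' ((F.center).subgroupOf S)) E) :
    E.center = ⊥ := by
  set θ := QuotientGroup.mk' ((F.center).subgroupOf S) with hθdef
  have hZc := isCentral_center F
  obtain ⟨hZS, hZext⟩ := isCentral_iff.1 hZc
  have hZfix : ∀ (P : Subgroup Ω) (f : Ω → Ω), IsMap F P f → ∀ z ∈ P, z ∈ F.center → f z = z := by
    intro P f hf z hz hzZ
    obtain ⟨g, -, hag, hfix⟩ := hZext P f hf
    rw [← hag z hz, hfix z hzZ]
  have hZn : F.IsNormal F.center := by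
    refine isNormal_iff.2 ⟨hZS, fun P f hf => ?_⟩
    obtain ⟨g, hg, hag, hfix⟩ := hZext P f hf
    refine ⟨g, hg, hag, ?_⟩
    ext y
    exact ⟨fun ⟨x, hx, hxy⟩ => by rw [← hxy, hfix x hx]; exact hx,
      fun hy => ⟨y, hy, hfix y hy⟩⟩
  have hZsc := stronglyClosed_of_isNormal hZn
  have hE' := isCentral_center E
  obtain ⟨-, hEext⟩ := isCentral_iff.1 hE'
  set W := preimageAlong θ E.center with hW
  have hWS : W ≤ S := preimageAlong_le θ _
  have hZW : F.center ≤ W := le_preimageAlong hE _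
  have hmor := (isSurjectiveMorphism_factor hS hF hZsc hE).1
  have hWsc : F.StronglyClosed W := by
    refine stronglyClosed_preimageAlong hmor (stronglyClosed_iff.2 ⟨hE'.1, fun P f hf x hx hxC => ?_⟩)
    obtain ⟨g, -, hag, hfix⟩ := hEext P f hf
    rw [← hag x hx, hfix x hxC]
    exact hxC
  -- maps move elements of `W` only modulo the centre
  have hmod : ∀ (P : Subgroup Ω) (f : Ω → Ω), IsMap F P f → ∀ w ∈ P, w ∈ W →
      w⁻¹ * f w ∈ F.center := by
    intro P f hf w hw hwW
    obtain ⟨g, hg, hag, hfix⟩ := hZext P f hf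
    have hPS : P ⊔ F.center ≤ S := sup_le hf.le hZS
    have hpre := preimageAlong_imageAlong hE hPS
    rw [sup_assoc, sup_idem] at hpre
    obtain ⟨g', hg', hrel⟩ := exists_factor_map hE (P' := imageAlong θ (P ⊔ F.center))
      (fun _ _ => Subgroup.mem_top _) (f := g) (hpre.symm ▸ hg) fun t ht => by
        rw [hfix t ht]; exact ht
    have hwP : w ∈ preimageAlong θ (imageAlong θ (P ⊔ F.center)) :=
      hpre.symm ▸ Subgroup.mem_sup_left hw
    obtain ⟨G, -, hG, hGfix⟩ := hEext _ g' hg'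
    have hwC := ((mem_preimageAlong θ _).1 hwW).2
    have h1 := hrel w hwP
    rw [← hG _ ((mem_preimageAlong θ _).1 hwP).2, hGfix _ hwC] at h1
    have hwS := hWS hwW
    have hgw : g w ∈ S := hg.mem (Subgroup.mem_sup_left hw)
    rw [← hag w hw]
    refine (mem_of_homExt_eq_one hE (S.mul_mem (S.inv_mem hwS) hgw)).1 ?_
    rw [homExt_mul' θ (S.inv_mem hwS) hgw, homExt_inv' θ hwS, ← h1, inv_mul_cancel]
  have hcomm : ∀ w ∈ W, ∀ s ∈ S, ⁅s, w⁆ ∈ F.center := fun w hw s hs => by
    have h1 := hmod _ _ (isMap_conj (F := F) le_rfl (S.inv_mem hs)) w⁻¹ (S.inv_mem (hWS hw))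
      (W.inv_mem hw)
    have h2 := hmod _ _ (isMap_conj (F := F) le_rfl hs) w (hWS hw) hw
    have h3 : ⁅s, w⁆ = w * (w⁻¹ * (s * w * s⁻¹)) * w⁻¹ := by rw [commutatorElement_def]; group
    rw [h3]
    exact conjMem_of_stronglyClosed hZsc (hWS hw) h2
  -- `W` is normal
  have hWn : F.IsNormal W := by
    refine isNormal_of_series hS hF 2 (fun i => if i = 0 then ⊥ else if i = 1 then F.center else W)
      rfl rfl (fun i hi => ?_) (fun i hi => ?_) fun i hi g hg x hx => ?_
    · interval_cases i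
      · exact bot_le
      · exact hZW
    · interval_cases i
      · exact stronglyClosed_of_isNormal (isNormal_bot F)
      · exact hZsc
      · exact hWsc
    · interval_cases i
      · simp only [if_pos]
        rw [Subgroup.mem_bot, hZfix _ _ (isMap_conj (F := F) le_rfl (hWS hg)) x
          (hZS hx) hx, mul_inv_cancel]
      · exact hcomm x hx g (hWS hg)
  obtain ⟨-, hWext⟩ := isNormal_iff.1 hWn
  have hZcomm : ∀ z ∈ F.center, ∀ s ∈ S, s * z = z * s := fun z hz s hs =>
    mul_inv_eq_iff_eq_mul.1 (hZfix _ _ (isMap_conj le_rfl hs) z (hZS hz) hz)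
  -- `W` centralises the focal subgroup, which is `S`
  have hWcen : ∀ w ∈ W, ∀ s ∈ S, s * w = w * s := by
    intro w hw
    have hle : F.focalSubgroup ≤ Subgroup.centralizer ({w} : Set Ω) := by
      refine (Subgroup.closure_le _).2 ?_
      rintro _ ⟨P, φ, a, hφ, rfl⟩
      obtain ⟨g, hg, hag, hgW⟩ := hWext P _ (isMap_homFun hφ)
      have hga : g a = φ a := by rw [hag a a.2, homFun_coe]
      have haS : (a : Ω) ∈ S := (F.le_of_mem hφ).1 a.2
      have hbS : φ a ∈ S := (F.le_of_mem hφ).2 a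
      have hwP : w ∈ P ⊔ W := Subgroup.mem_sup_right hw
      have haP : (a : Ω) ∈ P ⊔ W := Subgroup.mem_sup_left a.2
      set z := w⁻¹ * g w with hz
      have hzZ : z ∈ F.center := hmod _ _ hg w hwP hw
      have hk := hcomm w hw a haS
      have hk' : ⁅(a : Ω), w⁆ ∈ P ⊔ W := Subgroup.mem_sup_right (hZW hk)
      have e1 : g ⁅(a : Ω), w⁆ = ⁅(a : Ω), w⁆ := hZfix _ _ hg _ hk' hk
      have hgc : g ⁅(a : Ω), w⁆ = ⁅g a, g w⁆ := by
        rw [commutatorElement_def, commutatorElement_def,
          hg.map_mul (Subgroup.mul_mem _ (Subgroup.mul_mem _ haP hwP) (Subgroup.inv_mem _ haP))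
            (Subgroup.inv_mem _ hwP),
          hg.map_mul (Subgroup.mul_mem _ haP hwP) (Subgroup.inv_mem _ haP), hg.map_mul haP hwP,
          hg.map_inv haP, hg.map_inv hwP]
      have hgw : g w = w * z := by rw [hz, mul_inv_cancel_left]
      rw [e1, hga, hgw] at hgc
      have hcz : φ a * z * (φ a)⁻¹ = z := by
        rw [hZcomm z hzZ _ hbS, mul_inv_cancel_right]
      have e2 : ⁅φ a, w * z⁆ = ⁅φ a, w⁆ := by
        calc ⁅φ a, w * z⁆ = φ a * w * (φ a)⁻¹ * (φ a * z * (φ a)⁻¹) * z⁻¹ * w⁻¹ := by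
              rw [commutatorElement_def]; group
          _ = ⁅φ a, w⁆ := by rw [hcz, commutatorElement_def]; group
      rw [e2, commutatorElement_def, commutatorElement_def] at hgc
      have e3 : (a : Ω) * w * (a : Ω)⁻¹ = φ a * w * (φ a)⁻¹ := mul_right_cancel hgc
      refine Subgroup.mem_centralizer_singleton_iff.2 ?_
      calc (a : Ω)⁻¹ * φ a * w = (a : Ω)⁻¹ * (φ a * w * (φ a)⁻¹) * φ a := by group
        _ = (a : Ω)⁻¹ * ((a : Ω) * w * (a : Ω)⁻¹) * φ a := by rw [e3]
        _ = w * ((a : Ω)⁻¹ * φ a) := by group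
    have hfoc : F.focalSubgroup = S := le_antisymm focal_le (hperf.ge.trans hyperfocal_le_focal)
    exact fun s hs => Subgroup.mem_centralizer_singleton_iff.1 (hle (hfoc.ge hs))
  -- `Aut_F(W)` is a `p'`-group
  have := finite_of_le hWS
  have := finite_mulAut W
  have hWfn : F.IsFullyNormalized W := ⟨hWS, fun Q _ => by
    rw [show normalizerIn S W = S from le_antisymm inf_le_left fun s hs =>
      ⟨hs, le_normalizer_of_isNormal hWn hs⟩]
    exact Subgroup.card_le_of_le inf_le_left⟩
  have hWcentral : F.IsCentral W := by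
    refine isCentral_of_fixed hS hF hWS fun P f hf x hx hxW => ?_
    obtain ⟨g, hg, hag, hgW⟩ := hWext P f hf
    have hgiso : IsIso F W W g := ⟨hg.mono le_sup_right, hgW⟩
    obtain ⟨β, hβ, hβv⟩ := exists_mem_autGroup hgiso
    obtain ⟨n, hn⟩ := IsPGroup.iff_card.1 (hS.to_le hWS)
    have hpow : β ^ p ^ n = 1 := by
      refine MulEquiv.ext fun y => ?_
      have hy : ((y⁻¹ * β y : W) : Ω) ∈ F.center := by
        rw [Subgroup.coe_mul, Subgroup.coe_inv, hβv]
        exact hmod _ _ hgiso.isMap y y.2 y.2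
      have hfix : β (y⁻¹ * β y) = y⁻¹ * β y := Subtype.ext (by
        rw [hβv, hZfix _ _ hgiso.isMap _ (SetLike.coe_mem _) hy])
      have hiter : ∀ k : ℕ, (β ^ k) y = y * (y⁻¹ * β y) ^ k := by
        intro k
        induction k with
        | zero => simp
        | succ k ih =>
          rw [pow_succ' β, MulAut.mul_apply, ih, map_mul, map_pow, hfix, pow_succ', ← mul_assoc,
            mul_inv_cancel_left]
      rw [hiter, ← hn, pow_card_eq_one', mul_one]
      rfl
    obtain ⟨-, hA⟩ := (isFullyAutomized_iff hS).1 (isFullyAutomized_of_isFullyNormalized hS hF hWfn)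
    have hzp : IsPGroup p (Subgroup.zpowers β) := by
      rintro ⟨_, k, rfl⟩
      refine ⟨n, Subtype.ext ?_⟩
      show (β ^ k) ^ p ^ n = 1
      rw [← zpow_natCast, ← zpow_mul, mul_comm, zpow_mul, zpow_natCast, hpow, one_zpow]
    obtain ⟨γ, -, hγ⟩ := hA _ (Subgroup.zpowers_le.2 hβ) hzp
    obtain ⟨s, hs, hsv⟩ := (mem_autInducedBy_iff S W _).1 (hγ β (Subgroup.mem_zpowers β))
    have hone : γ * β * γ⁻¹ = 1 := MulEquiv.ext fun y => Subtype.ext (by
      rw [hsv, hWcen y y.2 s hs, mul_inv_cancel_right]; rfl)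
    have hβ1 : β = 1 := conj_eq_one_iff.1 hone
    rw [← hag x hx, ← hβv ⟨x, hxW⟩, hβ1]
    rfl
  have hWle : W ≤ F.center := le_sSup hWcentral
  refine (Subgroup.eq_bot_iff_forall _).2 fun y hy => ?_
  obtain ⟨u, rfl⟩ := QuotientGroup.mk'_surjective _ y
  refine (hE.2.1 u).2 (hWle ((mem_preimageAlong θ _).2 ⟨u.2, ?_⟩))
  rw [homExt_apply θ u.2]
  exact hy

/-- An analogue of Grün's lemma for fusion systems. Let F be a saturated fusion system over a finite p-group S that is perfect in the sense that its hyperfocal subgroup is all of S (F coincides with its p-residual subsystem). Then the second centre of F equals its centre: every fusion system over S/(Z(F) ∩ S) that is the factor system of F modulo its centre Z(F), read through the quotient map, has trivial centre. -/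
theorem result {Ω : Type*} [Group Ω] {S : Subgroup Ω} [Finite S] (p : ℕ) [Fact p.Prime] (hS : IsPGroup p S) (F : Cfsg.FusionSystem S) (hF : F.IsSaturated p)
    (hperf : F.hyperfocalSubgroup p = S)
    (E : Cfsg.FusionSystem (⊤ : Subgroup (↥S ⧸ (F.center).subgroupOf S)))
    (hE : F.IsFactorSystem F.center (QuotientGroup.mk' ((F.center).subgroupOf S)) E) : E.center = ⊥ := by
  exact center_bot hS hF hperf hE

end Cfsg.Agent.S5315
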