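import Cfsg.Statements.S5316
import Cfsg.Agent.Lib.Fusion.MaxClassCube
import Cfsg.Agent.Lib.Fusion.EssentialShapes

set_option autoImplicit false
set_option linter.style.haveILetI false
open Cfsg
open CfsgLib.Fusion

namespace Cfsg.Agent.S5316

/-- Let p ≥ 5 be a prime, S a finite p-group of maximal class of order p^n with n ≥ 5 (nilpotency class n − 1), F a saturated fusion system over S, and E an F-essential subgroup that is not a pearl (not elementary abelian of order p² and not extraspecial of order p³ and exponent p). Then E has order at least p⁴. -/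
theorem result {Ω : Type*} [Group Ω] {S : Subgroup Ω} [Finite S] (p : ℕ) [Fact p.Prime] (hp : 5 ≤ p) (hS : IsPGroup p ↥S) (n : ℕ) (hn : Nat.card S = p ^ n) (h5 : 5 ≤ n)
    (hmax : Subgroup.lowerCentralSeries S (n - 2) ≠ ⊥) (F : Cfsg.FusionSystem S) (hF : F.IsSaturated p)
    (E : Subgroup Ω) (hE : F.IsEssential p E)
    (hnp : ¬ ((Nat.card ↥E = p ^ 2 ∧ Cfsg.IsElementaryAbelian p E) ∨ (Nat.card ↥E = p ^ 3 ∧ Cfsg.IsExtraspecial p ↥E ∧ Monoid.exponent ↥E = p))) :
    p ^ 4 ≤ Nat.card ↥E := by
  classical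
  have hES : E ≤ S := hE.1.1
  haveI := finite_of_le hES
  have hp2 : p ≠ 2 := by omega
  obtain ⟨k, hk⟩ := IsPGroup.iff_card.1 (hS.to_le hES)
  by_contra hlt
  rw [hk] at hlt
  have hk3 : k ≤ 3 := by
    by_contra hc
    exact hlt (Nat.pow_le_pow_right (Fact.out : p.Prime).pos (by omega))
  haveI : Group.IsNilpotent S := hS.isNilpotent
  have hlcs : (⊤ : Subgroup ↥S).lowerCentralSeries (n - 2) ≠ ⊥ := fun h => hmax (by
    rw [← Subgroup.top_subtype_lowerCentralSeries, h, Subgroup.map_bot])
  have hM : CfsgLib.MaxClassLayers.MC S p n := by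
    refine ⟨hn, le_antisymm (Subgroup.lowerCentralSeries_eq_bot_iff_nilpotencyClass_le.1 ?_) ?_,
      by omega⟩
    · refine Subgroup.eq_bot_of_card_le _ ?_
      have := CfsgLib.MaxClass.card_lcs_succ_le (p := p) hn (n - 2)
      rwa [show n - 2 - (n - 2) = 0 by omega, pow_zero, show n - 2 + 1 = n - 1 by omega] at this
    · by_contra hc
      exact hlcs (Subgroup.lowerCentralSeries_eq_bot_iff_nilpotencyClass_le.2 (by omega))
  have hflag : ¬ EssentialFlag.HasFlag p E := EssentialFlag.not_hasFlag hS hF hE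
  by_cases hab : ∀ a ∈ E, ∀ b ∈ E, a * b = b * a
  · have hcm : IsMulCommutative E := ⟨⟨fun a b => Subtype.ext (hab a a.2 b b.2)⟩⟩
    obtain ⟨m, H, iH, hm, ⟨e⟩⟩ := EssentialFlag.repeated_of_abelian hS hF hE hcm
    have hc := Nat.card_congr e.toEquiv
    rw [Nat.card_prod, Nat.card_prod, Nat.card_congr (Multiplicative.toAdd (α := ZMod (p ^ m))),
      Nat.card_zmod, hk] at hc
    have hH0 : Nat.card H ≠ 0 := fun h0 => by
      rw [h0, mul_zero] at hc
      exact pow_ne_zero k (Fact.out : p.Prime).ne_zero hc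
    have hle : p ^ (m + m) ≤ p ^ k := by
      rw [pow_add, hc]
      exact Nat.le_mul_of_pos_right _ (Nat.pos_of_ne_zero hH0)
    have hmk := (Nat.pow_le_pow_iff_right (Fact.out : p.Prime).one_lt).1 hle
    obtain rfl : m = 1 := by omega
    rw [← pow_add] at hc
    have hH : Nat.card H = p ^ (k - 2) := by
      refine Nat.eq_of_mul_eq_mul_left (pow_pos (Fact.out : p.Prime).pos (1 + 1)) ?_
      rw [← hc, ← pow_add]
      congr 1
      omega
    have hexp : ∀ a ∈ E, a ^ p = 1 := by
      intro a ha
      have h1 : ∀ v : Multiplicative (ZMod (p ^ 1)), v ^ p = 1 := fun v => by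
        have := pow_card_eq_one' (x := v)
        rw [Nat.card_congr Multiplicative.toAdd, Nat.card_zmod] at this
        exact (congrArg (v ^ ·) (pow_one p)).symm.trans this
      have h2 : ∀ v : H, v ^ p = 1 := fun v => by
        have h := pow_card_eq_one' (x := v)
        rw [hH] at h
        rcases (show k - 2 = 0 ∨ k - 2 = 1 by omega) with e0 | e0
        · rw [e0, pow_zero, pow_one] at h; rw [h, one_pow]
        · rwa [e0, pow_one] at h
      have h3 : (⟨a, ha⟩ : E) ^ p = 1 := e.injective (by
        rw [map_pow, map_one]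
        exact Prod.ext (Prod.ext (h1 _) (h1 _)) (h2 _))
      exact congrArg Subtype.val h3
    rcases (show k = 2 ∨ k = 3 by omega) with rfl | rfl
    · exact hnp (Or.inl ⟨hk, hcm, hexp⟩)
    · exact MaxClassCube.false_of_cube ⟨hS, hF, hE, hk, hab, hexp⟩ hp2 hM h5
  · have hk' : k = 3 := by
      by_contra hne
      apply hab
      intro a ha b hb
      have hcm : IsMulCommutative E := by
        rcases (show k = 0 ∨ k = 1 ∨ k = 2 by omega) with rfl | rfl | rfl
        · haveI : Subsingleton E := (Nat.card_eq_one_iff_unique.mp (by rw [hk, pow_zero])).1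
          exact ⟨⟨fun x y => Subsingleton.elim _ _⟩⟩
        · haveI : IsCyclic E := isCyclic_of_prime_card (p := p) (by rw [hk, pow_one])
          exact ⟨⟨fun x y => (IsCyclic.commGroup (α := E)).mul_comm x y⟩⟩
        · exact IsPGroup.isMulCommutative_of_card_eq_prime_sq (p := p) hk
      exact congrArg Subtype.val (hcm.is_comm.comm (⟨a, ha⟩ : E) ⟨b, hb⟩)
    subst hk'
    have hna : ¬ ∀ a b : E, a * b = b * a := fun h =>
      hab fun a ha b hb => congrArg Subtype.val (h ⟨a, ha⟩ ⟨b, hb⟩)
    rcases EssentialShapes.shape_three hk hna hflag with ⟨-, hx, hexp⟩ | ⟨h2, -⟩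
    · refine hnp (Or.inr ⟨hk, hx, ?_⟩)
      haveI : Nontrivial E := Finite.one_lt_card_iff_nontrivial.1 (by
        rw [hk]; exact Nat.one_lt_pow (by omega) (Fact.out : p.Prime).one_lt)
      rcases (Nat.dvd_prime (Fact.out : p.Prime)).1 (Monoid.exponent_dvd_of_forall_pow_eq_one hexp)
        with h1 | h1
      · exact absurd h1 (by
          rw [Monoid.exp_eq_one_iff]
          exact not_subsingleton _)
      · exact h1
    · exact hp2 h2

end Cfsg.Agent.S5316
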