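import Cfsg.Statements.S5317
import Cfsg.Agent.Lib.Fusion.SimpleCases
import Cfsg.Agent.Lib.Fusion.CyclicIndexTwo
import Cfsg.Agent.Lib.SL2.PSL

set_option autoImplicit false
open Cfsg

namespace Cfsg.Agent.S5317

/-- Let F be a finite field of odd order q with q² ≡ 1 mod 16 (so that a Sylow 2-subgroup of PSL(2,q), dihedral of order the 2-part of (q²−1)/2, has order at least 8). Then the 2-fusion system of PSL(2,F) on a Sylow 2-subgroup is simple: saturated, over a nontrivial 2-group, with no normal subsystem other than the trivial one and itself. -/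
theorem result {F : Type*} [Field F] [Fintype F] (hodd : Fintype.card F % 2 = 1) (h16 : 16 ∣ Fintype.card F ^ 2 - 1)
    (S : Sylow 2 (Matrix.ProjectiveSpecialLinearGroup (Fin 2) F)) :
    (Cfsg.groupFusionSystem (S : Subgroup (Matrix.ProjectiveSpecialLinearGroup (Fin 2) F))).IsSimple 2 := by
  classical
  have : Fact (Nat.Prime 2) := ⟨Nat.prime_two⟩
  have hodd' : Odd (Nat.card F) := by rw [Nat.card_eq_fintype_card]; exact Nat.odd_iff.2 hodd
  have h2 := CfsgLib.SL2.odd_card_two_ne_zero hodd'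
  obtain ⟨P, rfl⟩ := Sylow.mapSurjective_surjective CfsgLib.SL2.proj_surjective 2 S
  obtain ⟨k, hk1, ⟨e⟩⟩ := CfsgLib.SL2.sylow_two_quaternion hodd' P
  have hne : NeZero (2 ^ k) := ⟨by positivity⟩
  set N := 2 ^ k with hN
  have hPcard : Nat.card (P : Subgroup (Matrix.SpecialLinearGroup (Fin 2) F)) = 4 * N := by
    rw [Nat.card_congr e.toEquiv, Nat.card_eq_fintype_card, QuaternionGroup.card]
  -- the Sylow subgroup has order at least 16
  have hk2 : 2 ≤ k := by
    have h16' : 2 ^ 4 ∣ Nat.card (Matrix.SpecialLinearGroup (Fin 2) F) := by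
      rw [CfsgLib.SL2.card_SL_two', Nat.card_eq_fintype_card]
      refine dvd_mul_of_dvd_right ?_ _
      have e1 : (Fintype.card F - 1) * (Fintype.card F + 1) = Fintype.card F ^ 2 - 1 := by
        rw [mul_comm, ← Nat.sq_sub_sq, one_pow]
      rw [e1]
      exact h16
    have h4 := (Nat.prime_two.pow_dvd_iff_le_factorization Nat.card_pos.ne').1 h16'
    have h5 := hPcard
    rw [show (4 : ℕ) * N = 2 ^ (k + 2) by rw [hN, pow_add]; ring,
      P.card_eq_multiplicity] at h5
    have := Nat.pow_right_injective le_rfl h5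
    omega
  let φ : QuaternionGroup N →* Matrix.SpecialLinearGroup (Fin 2) F :=
    (P : Subgroup _).subtype.comp e.symm.toMonoidHom
  have hφinj : Function.Injective φ := Subtype.val_injective.comp e.symm.injective
  let q : QuaternionGroup N →* Matrix.ProjectiveSpecialLinearGroup (Fin 2) F :=
    CfsgLib.SL2.proj.comp φ
  -- kernel of `q`
  have hker : ∀ y, q y = 1 → y * y = 1 := fun y hy => by
    apply hφinj
    rw [map_mul, map_one]
    rcases CfsgLib.SL2.eq_one_or_eq_neg_one_of_mem_center _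
      ((CfsgLib.SL2.proj_eq_one_iff _).1 hy) with h | h <;> rw [h] <;> simp
  have hsq : (QuaternionGroup.a (N : ZMod (2 * N)) : QuaternionGroup N) * QuaternionGroup.a N = 1 := by
    rw [QuaternionGroup.a_mul_a, ← Nat.cast_add, ← two_mul, ZMod.natCast_self]
    exact QuaternionGroup.one_def.symm
  have hnat : ∀ m : ℕ, m < 2 * N → 0 < m → (QuaternionGroup.a (m : ZMod (2 * N)) : QuaternionGroup N) ≠ 1 := by
    intro m hm hm0 h
    rw [QuaternionGroup.one_def, QuaternionGroup.a.injEq, ZMod.natCast_eq_zero_iff] at h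
    exact absurd (Nat.le_of_dvd hm0 h) (not_le.2 hm)
  have hNpos : 0 < N := Nat.pos_of_ne_zero hne.out
  have hnegφ : φ (QuaternionGroup.a N) = -1 := by
    refine CfsgLib.SL2.eq_neg_one_of_mul_self h2 (by rw [← map_mul, hsq, map_one]) ?_
    exact fun h => hnat N (by omega) hNpos (hφinj (h.trans (map_one φ).symm))
  have hqN : q (QuaternionGroup.a N) = 1 := by
    show CfsgLib.SL2.proj (φ _) = 1
    rw [hnegφ, CfsgLib.SL2.proj_eq_one_iff]
    exact CfsgLib.SL2.neg_one_mem_center
  set r := q (QuaternionGroup.a 1) with hrdef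
  have hr : orderOf r = 2 ^ k := by
    obtain ⟨j, rfl⟩ : ∃ j, k = j + 1 := ⟨k - 1, by omega⟩
    refine orderOf_eq_prime_pow ?_ ?_
    · intro h
      rw [hrdef, ← map_pow, QuaternionGroup.a_one_pow] at h
      have h1 := hker _ h
      rw [QuaternionGroup.a_mul_a, ← Nat.cast_add] at h1
      exact hnat (2 ^ j + 2 ^ j) (by rw [hN, pow_succ]; omega) (by positivity) h1
    · rw [hrdef, ← map_pow, QuaternionGroup.a_one_pow]
      exact hqN
  have hinv : ∀ i, orderOf (q (QuaternionGroup.xa i)) = 2 := by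
    intro i
    refine orderOf_eq_prime ?_ ?_
    · rw [← map_pow, QuaternionGroup.xa_sq, hqN]
    · intro h
      have := hker _ h
      rw [← sq, QuaternionGroup.xa_sq] at this
      exact hnat N (by omega) hNpos this
  set T := P.mapSurjective CfsgLib.SL2.proj_surjective with hT
  have hTmap : (T : Subgroup (Matrix.ProjectiveSpecialLinearGroup (Fin 2) F))
      = (P : Subgroup _).map CfsgLib.SL2.proj := Sylow.coe_mapSurjective _ P
  have hqT : ∀ y, q y ∈ (T : Subgroup (Matrix.ProjectiveSpecialLinearGroup (Fin 2) F)) := fun y => by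
    rw [hTmap]
    exact ⟨φ y, (e.symm y).2, rfl⟩
  have hTq : ∀ s ∈ (T : Subgroup (Matrix.ProjectiveSpecialLinearGroup (Fin 2) F)), ∃ y, q y = s := by
    intro s hs
    rw [hTmap] at hs
    obtain ⟨g, hg, rfl⟩ := hs
    exact ⟨e ⟨g, hg⟩, by show CfsgLib.SL2.proj (e.symm (e ⟨g, hg⟩) : Matrix.SpecialLinearGroup _ F) = _; simp⟩
  have hcenP : Subgroup.center (Matrix.SpecialLinearGroup (Fin 2) F) ≤ (P : Subgroup _) := by
    intro z hz
    rcases CfsgLib.SL2.eq_one_or_eq_neg_one_of_mem_center z hz with h | h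
    · rw [h]; exact one_mem _
    · rw [h, ← hnegφ]; exact (e.symm _).2
  have hTcard : Nat.card T = 2 ^ (k + 1) := by
    have h := CfsgLib.SL2.card_map_proj hcenP
    have hq : 2 ∣ Nat.card F - 1 := by
      rw [Nat.card_eq_fintype_card]; omega
    rw [Nat.gcd_eq_left hq, hPcard, ← hTmap] at h
    rw [pow_succ, ← hN]
    show Nat.card (T : Subgroup (Matrix.ProjectiveSpecialLinearGroup (Fin 2) F)) = _
    omega
  have haut : IsPGroup 2 (MulAut (T : Subgroup (Matrix.ProjectiveSpecialLinearGroup (Fin 2) F))) := by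
    refine CfsgLib.Fusion.isPGroup_mulAut_of_cyclic_index_two (⟨r, hqT _⟩ : (T : Subgroup _))
      (by rw [Subgroup.orderOf_mk, hr]) (by omega) ?_ ?_
    · have h1 := Subgroup.card_mul_index (Subgroup.zpowers (⟨r, hqT _⟩ : (T : Subgroup _)))
      rw [Nat.card_zpowers, Subgroup.orderOf_mk, hr, hTcard, pow_succ] at h1
      exact Nat.eq_of_mul_eq_mul_left (pow_pos two_pos k) h1
    · rintro ⟨s, hs⟩ hx
      obtain ⟨y, rfl⟩ := hTq s hs
      rcases y with i | i
      · refine absurd ⟨(i.val : ℤ), Subtype.ext ?_⟩ hx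
        show r ^ (i.val : ℤ) = _
        rw [hrdef, ← map_zpow, zpow_natCast, QuaternionGroup.a_one_pow, ZMod.natCast_zmod_val]
      · rw [Subgroup.orderOf_mk, hinv]
        calc 2 < 2 ^ 2 := by norm_num
          _ ≤ 2 ^ k := Nat.pow_le_pow_right two_pos hk2
  refine CfsgLib.Fusion.isSimple_group_of_isPGroup T ?_
    (CfsgLib.Fusion.stronglyClosed_of_one_class T ?_ ?_) (haut.to_subgroup _)
  · intro h
    rw [show Nat.card T = Nat.card (T : Subgroup (Matrix.ProjectiveSpecialLinearGroup (Fin 2) F))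
      from rfl, h, Subgroup.card_bot] at hTcard
    exact absurd hTcard.symm (by simp)
  · -- one class of involutions
    have hlift : ∀ x : Matrix.ProjectiveSpecialLinearGroup (Fin 2) F, orderOf x = 2 →
        ∃ g : Matrix.SpecialLinearGroup (Fin 2) F, CfsgLib.SL2.proj g = x ∧ g * g = -1 := by
      intro x hx
      obtain ⟨g, rfl⟩ := CfsgLib.SL2.proj_surjective x
      refine ⟨g, rfl, ?_⟩
      have hgg : g * g ∈ Subgroup.center (Matrix.SpecialLinearGroup (Fin 2) F) := by
        rw [← CfsgLib.SL2.proj_eq_one_iff, map_mul, ← sq]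
        exact orderOf_dvd_iff_pow_eq_one.1 hx.dvd
      have hg1 : g ∉ Subgroup.center (Matrix.SpecialLinearGroup (Fin 2) F) := fun h => by
        rw [(CfsgLib.SL2.proj_eq_one_iff g).2 h, orderOf_one] at hx
        exact absurd hx (by norm_num)
      rcases CfsgLib.SL2.eq_one_or_eq_neg_one_of_mem_center _ hgg with h | h
      · exfalso
        apply hg1
        by_cases h1 : g = 1
        · rw [h1]; exact one_mem _
        · rw [CfsgLib.SL2.eq_neg_one_of_mul_self h2 h h1]; exact CfsgLib.SL2.neg_one_mem_center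
      · exact h
    intro x y _ _ hx hy
    obtain ⟨g, rfl, hg⟩ := hlift x hx
    obtain ⟨h, rfl, hh⟩ := hlift y hy
    have hgr := CfsgLib.SL2.regular_of_mul_self h2 hg
    have hhr := CfsgLib.SL2.regular_of_mul_self h2 hh
    have hcard : orderOf h ∣ Nat.card (CfsgLib.SL2.cent g) := by
      rw [CfsgLib.SL2.orderOf_of_mul_self h2 hh, ← CfsgLib.SL2.orderOf_of_mul_self h2 hg]
      exact Subgroup.orderOf_dvd_natCard _ (CfsgLib.SL2.self_mem_cent g)
    obtain ⟨c, hc⟩ := CfsgLib.SL2.exists_conj_mem_cent hgr hhr hcard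
    have htr : ((c * h * c⁻¹ : Matrix.SpecialLinearGroup (Fin 2) F) : Matrix (Fin 2) (Fin 2) F).trace
        = (g : Matrix (Fin 2) (Fin 2) F).trace := by
      rw [CfsgLib.SL2.trace_conj, CfsgLib.SL2.trace_eq_zero_of_mul_self h2 hg,
        CfsgLib.SL2.trace_eq_zero_of_mul_self h2 hh]
    have hpe : CfsgLib.SL2.proj (c * h * c⁻¹) = CfsgLib.SL2.proj g := by
      rcases CfsgLib.SL2.eq_or_eq_inv_of_trace hgr hc htr with h' | h'
      · rw [h']
      · rw [h', map_inv, inv_eq_iff_mul_eq_one, ← sq]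
        exact orderOf_dvd_iff_pow_eq_one.1 hx.dvd
    refine ⟨(CfsgLib.SL2.proj c)⁻¹, ?_⟩
    rw [← hpe, map_mul, map_mul, map_inv]
    group
  · -- generated by involutions
    intro s hs
    obtain ⟨y, rfl⟩ := hTq s hs
    have hmem : ∀ i, q (QuaternionGroup.xa i) ∈ Subgroup.closure
        {x : Matrix.ProjectiveSpecialLinearGroup (Fin 2) F |
          x ∈ (T : Subgroup (Matrix.ProjectiveSpecialLinearGroup (Fin 2) F)) ∧ orderOf x = 2} :=
      fun i => Subgroup.subset_closure ⟨hqT _, hinv i⟩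
    rcases y with i | i
    · have : (QuaternionGroup.a i : QuaternionGroup N)
          = QuaternionGroup.xa 0 * QuaternionGroup.xa (i - (N : ZMod (2 * N))) := by
        rw [QuaternionGroup.xa_mul_xa]
        simp
      rw [this, map_mul]
      exact Subgroup.mul_mem _ (hmem _) (hmem _)
    · exact hmem i

end Cfsg.Agent.S5317
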