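import Cfsg.Statements.S5318
import Cfsg.Agent.Lib.GL2.SylowTwo
import Cfsg.Agent.Lib.Fusion.SimpleModel

set_option autoImplicit false
open Cfsg

namespace Cfsg.Agent.S5318

open Matrix CfsgLib.GL2
open scoped MatrixGroups

section

variable {F : Type*} [Field F] [Finite F]

set_option linter.unusedSectionVars false

local notation "SL3" => Matrix.SpecialLinearGroup (Fin 3) F
local notation "pr" => QuotientGroup.mk' (Subgroup.center (Matrix.SpecialLinearGroup (Fin 3) F))

/-- The block matrix `diag(A, det A⁻¹)`. -/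
def m3 (A : GL (Fin 2) F) : Matrix (Fin 3) (Fin 3) F :=
  !![(A : Matrix (Fin 2) (Fin 2) F) 0 0, (A : Matrix (Fin 2) (Fin 2) F) 0 1, 0;
    (A : Matrix (Fin 2) (Fin 2) F) 1 0, (A : Matrix (Fin 2) (Fin 2) F) 1 1, 0;
    0, 0, (A : Matrix (Fin 2) (Fin 2) F).det⁻¹]

theorem m3_mul (A B : GL (Fin 2) F) : m3 (A * B) = m3 A * m3 B := by
  ext i j
  fin_cases i <;> fin_cases j <;>
    simp [m3, Matrix.mul_apply, Fin.sum_univ_three, Fin.sum_univ_two, Units.val_mul, mul_comm]

/-- `A ↦ diag(A, det A⁻¹)`. -/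
def i3 : GL (Fin 2) F →* SL3 where
  toFun A := ⟨!![(A : Matrix (Fin 2) (Fin 2) F) 0 0, (A : Matrix (Fin 2) (Fin 2) F) 0 1, 0;
      (A : Matrix (Fin 2) (Fin 2) F) 1 0, (A : Matrix (Fin 2) (Fin 2) F) 1 1, 0;
      0, 0, (A : Matrix (Fin 2) (Fin 2) F).det⁻¹], by
    have h : (A : Matrix (Fin 2) (Fin 2) F).det ≠ 0 := A.isUnit.map Matrix.detMonoidHom |>.ne_zero
    rw [Matrix.det_fin_three]
    simp
    rw [det_fin_two] at h ⊢
    field_simp⟩
  map_one' := Subtype.ext (Matrix.ext fun i j => by fin_cases i <;> fin_cases j <;> simp)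
  map_mul' A B := Subtype.ext (show m3 (A * B) = m3 A * m3 B from m3_mul A B)

theorem i3_val (A : GL (Fin 2) F) : (i3 A).val =
    !![(A : Matrix (Fin 2) (Fin 2) F) 0 0, (A : Matrix (Fin 2) (Fin 2) F) 0 1, 0;
      (A : Matrix (Fin 2) (Fin 2) F) 1 0, (A : Matrix (Fin 2) (Fin 2) F) 1 1, 0;
      0, 0, (A : Matrix (Fin 2) (Fin 2) F).det⁻¹] := rfl

theorem i3_injective : Function.Injective (i3 (F := F)) := by
  intro A B h
  have h' := congrArg Subtype.val h
  rw [i3_val, i3_val] at h'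
  refine Units.ext (Matrix.ext fun i j => ?_)
  fin_cases i <;> fin_cases j
  · simpa using congr_fun₂ h' 0 0
  · simpa using congr_fun₂ h' 0 1
  · simpa using congr_fun₂ h' 1 0
  · simpa using congr_fun₂ h' 1 1

theorem i3_dg (u v : Fˣ) :
    (i3 (dg (u, v))).val = Matrix.diagonal ![(u : F), (v : F), ((u : F) * v)⁻¹] := by
  rw [i3_val]
  ext i j
  fin_cases i <;> fin_cases j <;> simp [dg_val, det_fin_two]

/-- A central element of 2-power order is trivial. -/
theorem central_eq_one {z : SL3} (hz : z ∈ Subgroup.center SL3) {m : ℕ} (hm : z ^ 2 ^ m = 1) :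
    z = 1 := by
  have h3 : z ^ 3 = 1 := by
    obtain ⟨r, hr, hrz⟩ := Matrix.SpecialLinearGroup.mem_center_iff.1 hz
    apply Subtype.ext
    rw [Matrix.SpecialLinearGroup.coe_pow, ← hrz, ← map_pow]
    rw [Fintype.card_fin] at hr
    rw [hr, map_one]
    rfl
  rw [← orderOf_eq_one_iff]
  exact Nat.eq_one_of_dvd_coprimes (Nat.Coprime.pow_left m (show Nat.Coprime 2 3 by norm_num))
    (orderOf_dvd_of_pow_eq_one hm) (orderOf_dvd_of_pow_eq_one h3)

theorem eq_of_pr_eq {a b : SL3} (h : pr a = pr b) {m : ℕ} (ha : a ^ 2 ^ m = 1) {l : ℕ}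
    (hb : b ^ 2 ^ l = 1) : a = b := by
  have hz : a * b⁻¹ ∈ Subgroup.center SL3 := by
    refine (QuotientGroup.eq_one_iff _).1 ?_
    show pr (a * b⁻¹) = 1
    rw [map_mul, map_inv, h, mul_inv_cancel]
  have hcomm : Commute (a * b⁻¹) b := (Subgroup.mem_center_iff.1 hz b).symm
  have h1 : a ^ 2 ^ (m + l) = 1 := by rw [pow_add, pow_mul, ha, one_pow]
  have h2 : b ^ 2 ^ (m + l) = 1 := by rw [add_comm, pow_add, pow_mul, hb, one_pow]
  rw [show a = a * b⁻¹ * b by group, hcomm.mul_pow, h2, mul_one] at h1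
  rw [show a = a * b⁻¹ * b by group, central_eq_one hz h1, one_mul]

/-- The permutation matrix exchanging the outer coordinates. -/
def g02 : SL3 := ⟨!![0, 0, 1; 0, 1, 0; -1, 0, 0], by simp [det_fin_three]⟩

/-- The permutation matrix exchanging the last two coordinates. -/
def g12 : SL3 := ⟨!![1, 0, 0; 0, 0, 1; 0, -1, 0], by simp [det_fin_three]⟩

theorem g02_conj (u v w : F) :
    (g02 : SL3).val * diagonal ![u, v, w] = diagonal ![w, v, u] * (g02 : SL3).val := by
  ext i j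
  fin_cases i <;> fin_cases j <;> simp [g02]

theorem g12_conj (u v w : F) :
    (g12 : SL3).val * diagonal ![u, v, w] = diagonal ![u, w, v] * (g12 : SL3).val := by
  ext i j
  fin_cases i <;> fin_cases j <;> simp [g12]

/-- Involutions of `GL_2`. -/
theorem involution_cases (h2 : (2 : F) ≠ 0) {c : GL (Fin 2) F} (hc : c * c = 1) (hc1 : c ≠ 1) :
    c = -1 ∨ ∃ g : GL (Fin 2) F, g * c * g⁻¹ = dg (1, -1) := by
  set M : Matrix (Fin 2) (Fin 2) F := (c : Matrix (Fin 2) (Fin 2) F) with hM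
  have hMM : M * M = 1 := by rw [hM, ← Units.val_mul, hc, Units.val_one]
  by_cases hn : CfsgLib.SL2.NonScalar M
  · right
    have hcay := CfsgLib.SL2.cayley M
    rw [hMM] at hcay
    have htr : M.trace = 0 := by
      by_contra ht
      apply hn ((1 + M.det) / M.trace)
      have : M.trace • M = (1 + M.det) • (1 : Matrix (Fin 2) (Fin 2) F) := by
        rw [add_smul, one_smul]
        exact (eq_sub_iff_add_eq.1 hcay).symm
      rw [div_eq_inv_mul, mul_smul, ← this, smul_smul, inv_mul_cancel₀ ht, one_smul]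
    have hdet : M.det = -1 := by
      rw [htr, zero_smul, zero_sub] at hcay
      have := congr_fun₂ hcay 0 0
      simp at this
      linear_combination this
    have hd : CfsgLib.SL2.NonScalar (dg ((1 : Fˣ), -1) : Matrix (Fin 2) (Fin 2) F) := by
      rw [CfsgLib.SL2.nonScalar_iff, dg_val]
      refine Or.inr (Or.inr ?_)
      simp
      intro h
      apply h2
      linear_combination h
    obtain ⟨P, hP, hPc⟩ := CfsgLib.SL2.exists_conj_of_trace_det hn hd
      (by rw [htr]; simp [dg_val, trace_fin_two]) (by rw [hdet]; simp [dg_val, det_fin_two])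
    obtain ⟨g, hg⟩ := (Matrix.isUnit_iff_isUnit_det P).2 (isUnit_iff_ne_zero.2 hP)
    refine ⟨g, ?_⟩
    rw [mul_inv_eq_iff_eq_mul]
    apply Units.ext
    rw [Units.val_mul, Units.val_mul, hg]
    exact hPc
  · left
    simp only [CfsgLib.SL2.NonScalar, not_forall, not_not] at hn
    obtain ⟨r, hr⟩ := hn
    have hr2 : r * r = 1 := by
      have := congr_fun₂ hMM 0 0
      rw [hr] at this
      simpa [Matrix.mul_apply, Fin.sum_univ_two] using this
    rcases mul_self_eq_one_iff.1 hr2 with h | h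
    · exact absurd (Units.ext (by rw [← hM, hr, h, one_smul, Units.val_one])) hc1
    · exact Units.ext (by rw [← hM, hr, h, neg_smul, one_smul, Units.val_neg, Units.val_one])

theorem eq_i3_of_commute (h2 : (2 : F) ≠ 0) {h : SL3} (hc : h * i3 (-1 : GL (Fin 2) F) = i3 (-1 : GL (Fin 2) F) * h) :
    ∃ A : GL (Fin 2) F, i3 A = h := by
  have hval : (i3 (-1 : GL (Fin 2) F)).val = diagonal ![(-1 : F), -1, 1] := by
    rw [i3_val]
    ext i j
    fin_cases i <;> fin_cases j <;> simp [det_fin_two]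
  have hm := congrArg Subtype.val hc
  rw [Matrix.SpecialLinearGroup.coe_mul, Matrix.SpecialLinearGroup.coe_mul, hval] at hm
  have key : ∀ i j : Fin 3, ![(-1 : F), -1, 1] i ≠ ![(-1 : F), -1, 1] j → h.val i j = 0 := by
    intro i j hij
    have := congr_fun₂ hm i j
    rw [mul_diagonal, diagonal_mul] at this
    have h' : (![(-1 : F), -1, 1] j - ![(-1 : F), -1, 1] i) * h.val i j = 0 := by
      linear_combination this
    exact (mul_eq_zero.1 h').resolve_left (sub_ne_zero.2 (Ne.symm hij))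
  have hne : (-1 : F) ≠ 1 := fun e => h2 (by linear_combination -e)
  have e02 := key 0 2 (by simpa using hne)
  have e12 := key 1 2 (by simpa using hne)
  have e20 := key 2 0 (by simpa using hne.symm)
  have e21 := key 2 1 (by simpa using hne.symm)
  have hd := h.2
  rw [det_fin_three, e02, e12, e20, e21] at hd
  simp only [mul_zero, zero_mul, add_zero, sub_zero] at hd
  set M : Matrix (Fin 2) (Fin 2) F := !![h.val 0 0, h.val 0 1; h.val 1 0, h.val 1 1] with hM
  have hMd : M.det * h.val 2 2 = 1 := by rw [hM, det_fin_two_of]; linear_combination hd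
  obtain ⟨A, hA⟩ := (Matrix.isUnit_iff_isUnit_det M).2 (isUnit_iff_ne_zero.2 (left_ne_zero_of_mul_eq_one hMd))
  refine ⟨A, Subtype.ext ?_⟩
  rw [i3_val, hA, inv_eq_of_mul_eq_one_right hMd]
  ext i j
  fin_cases i <;> fin_cases j <;> simp [hM, e02, e12, e20, e21]

theorem factorization_two (hodd : Odd (Nat.card F)) :
    (Nat.card (ProjectiveSpecialLinearGroup (Fin 3) F)).factorization 2 =
      (Nat.card (GL (Fin 2) F)).factorization 2 := by
  have := Fintype.ofFinite F
  set q := Fintype.card F with hq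
  have hqo : Odd q := by rwa [Nat.card_eq_fintype_card] at hodd
  have hq2 : 2 ≤ q := Fintype.one_lt_card
  have h := CfsgLib.Classical.card_GL_eq_mul_card_SL (ι := Fin 3) (F := F)
  rw [CfsgLib.Classical.card_GL_fin, CfsgLib.Classical.card_SL_eq_gcd_mul_card_PSL, Nat.card_units,
    Nat.card_eq_fintype_card (α := F), Fintype.card_fin, Fin.prod_univ_three, ← hq] at h
  simp only [Fin.val_zero, Fin.val_one, Fin.val_two, pow_zero, pow_one] at h
  have h2 := CfsgLib.Classical.card_GL_fin (F := F) 2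
  rw [Fin.prod_univ_two, ← hq] at h2
  simp only [Fin.val_zero, Fin.val_one, pow_zero, pow_one] at h2
  clear_value q
  obtain ⟨s, rfl⟩ : ∃ s, q = s + 1 := ⟨q - 1, by omega⟩
  have e1 : (s + 1) ^ 3 - 1 = s * ((s + 1) ^ 2 + (s + 1) + 1) := Nat.sub_eq_of_eq_add (by ring)
  have e2 : (s + 1) ^ 3 - (s + 1) = (s + 1) * (s * (s + 2)) := Nat.sub_eq_of_eq_add (by ring)
  have e3 : (s + 1) ^ 3 - (s + 1) ^ 2 = (s + 1) ^ 2 * s := Nat.sub_eq_of_eq_add (by ring)
  have e4 : (s + 1) ^ 2 - 1 = s * (s + 2) := Nat.sub_eq_of_eq_add (by ring)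
  have e5 : (s + 1) ^ 2 - (s + 1) = (s + 1) * s := Nat.sub_eq_of_eq_add (by ring)
  rw [e1, e2, e3] at h
  rw [e4, e5] at h2
  rw [Nat.add_sub_cancel] at h
  have key : Nat.gcd 3 s * Nat.card (ProjectiveSpecialLinearGroup (Fin 3) F) =
      (s + 1) ^ 2 * ((s + 1) ^ 2 + (s + 1) + 1) * Nat.card (GL (Fin 2) F) := by
    refine Nat.eq_of_mul_eq_mul_left (show 0 < s by omega) ?_
    rw [← h, h2]
    ring
  have hs : 2 ∣ s := by
    obtain ⟨j, hj⟩ := hqo
    exact ⟨j, by omega⟩
  have hg : ¬ 2 ∣ Nat.gcd 3 s := fun hd => absurd (hd.trans (Nat.gcd_dvd_left _ _)) (by norm_num)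
  have hA : ¬ 2 ∣ (s + 1) ^ 2 * ((s + 1) ^ 2 + (s + 1) + 1) := by
    intro hd
    rcases Nat.prime_two.dvd_mul.1 hd with hd | hd
    · have := Nat.prime_two.dvd_of_dvd_pow hd; omega
    · have h1 : 2 ∣ (s + 1) ^ 2 + (s + 1) :=
        ⟨(s + 1) * (s / 2 + 1), by
          obtain ⟨j, rfl⟩ := hs
          rw [Nat.mul_div_cancel_left _ two_pos]; ring⟩
      omega
  have := congrArg (fun n => n.factorization 2) key
  rwa [Nat.factorization_mul (fun h0 => hg (by rw [h0]; exact dvd_zero 2)) Nat.card_pos.ne',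
    Nat.factorization_mul (fun h0 => hA (by rw [h0]; exact dvd_zero 2)) Nat.card_pos.ne',
    Finsupp.add_apply, Finsupp.add_apply, Nat.factorization_eq_zero_of_not_dvd hg,
    Nat.factorization_eq_zero_of_not_dvd hA, zero_add, zero_add] at this

end

/-- For a finite field F of odd order, the 2-fusion system of PSL(3,F) on a Sylow 2-subgroup (semidihedral or wreathed according as |F| ≡ 3 or 1 mod 4) is simple. -/
theorem result {F : Type*} [Field F] [Fintype F] (hodd : Fintype.card F % 2 = 1) (S : Sylow 2 (Matrix.ProjectiveSpecialLinearGroup (Fin 3) F)) :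
    (Cfsg.groupFusionSystem (S : Subgroup (Matrix.ProjectiveSpecialLinearGroup (Fin 3) F))).IsSimple 2 := by
  classical
  have : Fact (Nat.Prime 2) := ⟨Nat.prime_two⟩
  have hoddF : Odd (Nat.card F) := by rw [Nat.card_eq_fintype_card]; exact Nat.odd_iff.2 hodd
  have h2 := CfsgLib.SL2.odd_card_two_ne_zero hoddF
  obtain ⟨t, hord, ht⟩ := exists_twoGen (F := F)
  obtain ⟨S2, hdg, hw⟩ := exists_model (F := F) hord
  set pr := QuotientGroup.mk' (Subgroup.center (Matrix.SpecialLinearGroup (Fin 3) F)) with hpr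
  set f : GL (Fin 2) F →* Matrix.ProjectiveSpecialLinearGroup (Fin 3) F := pr.comp i3 with hf
  have hpow : ∀ x ∈ S2, ∃ m : ℕ, i3 x ^ 2 ^ m = 1 := by
    intro x hx
    obtain ⟨m, hm⟩ := S2.isPGroup' ⟨x, hx⟩
    exact ⟨m, by rw [← map_pow, show x ^ 2 ^ m = 1 from congrArg Subtype.val hm, map_one]⟩
  -- elements over the model
  have hlift : ∀ (h : Matrix.SpecialLinearGroup (Fin 3) F) (x y : GL (Fin 2) F), x ∈ S2 → y ∈ S2 →
      pr h * f x * (pr h)⁻¹ = f y → h * i3 x * h⁻¹ = i3 y := by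
    intro h x y hx hy he
    obtain ⟨m, hm⟩ := hpow x hx
    obtain ⟨l, hl⟩ := hpow y hy
    refine eq_of_pr_eq (m := m) ?_ ?_ hl
    · rw [map_mul, map_mul, map_inv]; exact he
    · rw [conj_pow, hm, mul_one, mul_inv_cancel]
  have hinj : ∀ x ∈ S2, ∀ y ∈ S2, f x = f y → x = y := by
    intro x hx y hy he
    have := hlift 1 x y hx hy (by rw [map_one, one_mul, inv_one, mul_one]; exact he)
    simp only [one_mul, inv_one, mul_one] at this
    exact i3_injective this
  have hcard : Nat.card ((S2 : Subgroup (GL (Fin 2) F)).map f) =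
      2 ^ (Nat.card (Matrix.ProjectiveSpecialLinearGroup (Fin 3) F)).factorization 2 := by
    rw [factorization_two hoddF, ← S2.card_eq_multiplicity]
    refine (Nat.card_congr (Equiv.ofBijective
      (fun x : (S2 : Subgroup (GL (Fin 2) F)) =>
        (⟨f x, ⟨x, x.2, rfl⟩⟩ : (S2 : Subgroup (GL (Fin 2) F)).map f)) ⟨?_, ?_⟩)).symm
    · exact fun x y hxy => Subtype.ext (hinj x x.2 y y.2 (congrArg Subtype.val hxy))
    · rintro ⟨_, x, hx, rfl⟩
      exact ⟨⟨x, hx⟩, rfl⟩
  have hn1 : (-1 : GL (Fin 2) F) ∈ S2 := by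
    have := hdg (-1) (-1) (neg_one_mem ht) (neg_one_mem ht)
    rwa [show dg ((-1 : Fˣ), (-1 : Fˣ)) = (-1 : GL (Fin 2) F) from
      Units.ext (Matrix.ext fun i j => by fin_cases i <;> fin_cases j <;> simp [dg_val])] at this
  have hne1 : (-1 : GL (Fin 2) F) ≠ 1 := by
    intro h
    have h0 : ((-1 : GL (Fin 2) F) : Matrix (Fin 2) (Fin 2) F) = 1 := by rw [h, Units.val_one]
    have := congr_fun₂ h0 0 0
    simp at this
    exact h2 (by linear_combination -this)
  refine CfsgLib.Fusion.isSimple_group_of_model_pPrime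
    (Sylow.ofCard ((S2 : Subgroup (GL (Fin 2) F)).map f) hcard) ?_ ?_ ?_ S
  · rw [Sylow.coe_ofCard]
    intro hbot
    have h := Subgroup.mem_map_of_mem f hn1
    rw [hbot, Subgroup.mem_bot] at h
    exact hne1 (hinj _ hn1 1 (one_mem _) (h.trans (map_one f).symm))
  · intro T hT hsc
    simp only [Sylow.coe_ofCard] at hT hsc ⊢
    refine or_iff_not_imp_left.2 fun hne => le_antisymm hT ?_
    set T2 : Subgroup (GL (Fin 2) F) := T.comap f ⊓ S2 with hT2
    have hcl : ∀ (h : Matrix.SpecialLinearGroup (Fin 3) F) (x y : GL (Fin 2) F), x ∈ T2 → y ∈ S2 →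
        h * i3 x = i3 y * h → y ∈ T2 := by
      intro h x y hx hy he
      have hc : pr h * f x * (pr h)⁻¹ = f y := by
        rw [hf, MonoidHom.comp_apply, MonoidHom.comp_apply, ← map_inv, ← map_mul, ← map_mul, he,
          mul_inv_cancel_right]
      refine ⟨?_, hy⟩
      show f y ∈ T
      rw [← hc]
      exact hsc _ _ hx.1 (hc ▸ Subgroup.mem_map_of_mem f hy)
    have hgl : ∀ (g x y : GL (Fin 2) F), x ∈ T2 → y ∈ S2 → g * x * g⁻¹ = y → y ∈ T2 := by
      intro g x y hx hy he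
      refine hcl (i3 g) x y hx hy ?_
      rw [← map_mul, ← map_mul, ← he, inv_mul_cancel_right]
    have hd : dg ((1 : Fˣ), (-1 : Fˣ)) ∈ S2 := hdg 1 (-1) (one_mem _) (neg_one_mem ht)
    have hd2 : dg ((1 : Fˣ), (-1 : Fˣ)) * dg ((1 : Fˣ), (-1 : Fˣ)) = 1 := by
      rw [← map_mul, Prod.mk_mul_mk, one_mul, neg_mul_neg, one_mul, ← map_one dg]; rfl
    have hi02 : (g02 : Matrix.SpecialLinearGroup (Fin 3) F) * i3 (-1 : GL (Fin 2) F) =
        i3 (dg ((1 : Fˣ), (-1 : Fˣ))) * g02 := by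
      have e : (-1 : GL (Fin 2) F) = dg ((-1 : Fˣ), (-1 : Fˣ)) :=
        Units.ext (Matrix.ext fun i j => by fin_cases i <;> fin_cases j <;> simp [dg_val])
      apply Subtype.ext
      rw [Matrix.SpecialLinearGroup.coe_mul, Matrix.SpecialLinearGroup.coe_mul, e, i3_dg, i3_dg,
        g02_conj]
      congr 2
      simp [inv_neg]
    -- an involution
    obtain ⟨c, hcT, hc2, hc1⟩ : ∃ c ∈ T2, c * c = 1 ∧ c ≠ 1 := by
      have : Nontrivial T := (Subgroup.nontrivial_iff_ne_bot T).2 hne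
      have hTp : IsPGroup 2 T := (S2.isPGroup'.map f).to_le hT
      obtain ⟨j, hj0, hj⟩ := hTp.nontrivial_iff_card.1 this
      obtain ⟨⟨u, hu⟩, huo⟩ := exists_prime_orderOf_dvd_card' (G := T) 2 (hj ▸ dvd_pow_self 2 hj0.ne')
      obtain ⟨x, hx, rfl⟩ := hT hu
      rw [Subgroup.orderOf_mk] at huo
      refine ⟨x, ⟨hu, hx⟩, hinj _ (mul_mem hx hx) 1 (one_mem _) ?_, fun h => ?_⟩
      · rw [map_mul, map_one, ← pow_two]
        have h' := pow_orderOf_eq_one (f x)
        rwa [huo] at h'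
      · rw [h, map_one, orderOf_one] at huo; omega
    have hneg : (-1 : GL (Fin 2) F) ∈ T2 ∧ dg ((1 : Fˣ), (-1 : Fˣ)) ∈ T2 := by
      rcases involution_cases h2 hc2 hc1 with rfl | ⟨g, hg⟩
      · exact ⟨hcT, hcl g02 _ _ hcT hd hi02⟩
      · have hdT := hgl g c _ hcT hd hg
        refine ⟨hcl g02⁻¹ _ _ hdT hn1 ?_, hdT⟩
        rw [inv_mul_eq_iff_eq_mul, ← mul_assoc, hi02, mul_inv_cancel_right]
    have hwT : wS ∈ T2 := by
      rcases involution_cases h2 (wS_mul_self (F := F)) (fun h => by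
        have := congr_fun₂ (show ((wS : GL (Fin 2) F) : Matrix (Fin 2) (Fin 2) F) = 1 by
          rw [h, Units.val_one]) 0 0
        simp [wS_val] at this) with h | ⟨g, hg⟩
      · exfalso
        have := congr_fun₂ (show ((wS : GL (Fin 2) F) : Matrix (Fin 2) (Fin 2) F) = -1 by
          rw [h, Units.val_neg, Units.val_one]) 0 1
        simp [wS_val] at this
      · exact hgl g⁻¹ _ _ hneg.2 hw (by rw [← hg]; group)
    have hyT : Matrix.SpecialLinearGroup.toGL (yS : SL(2, F)) ∈ T2 := by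
      rw [toGL_yS]; exact mul_mem hneg.2 hwT
    obtain ⟨P, hP⟩ := exists_sylow_SL S2
    have hPT : (P : Subgroup SL(2, F)) ≤ T2.comap Matrix.SpecialLinearGroup.toGL := by
      refine le_of_order_four hoddF P _ fun x hx hxx => ?_
      have hy0 : CfsgLib.SL2.Regular (yS : SL(2, F)) :=
        CfsgLib.SL2.regular_of_mul_self h2 yS_mul_self
      obtain ⟨k, hk⟩ := CfsgLib.SL2.isConj_of_trace hy0.nonScalar
        (CfsgLib.SL2.regular_of_mul_self h2 hxx).nonScalar
        (by rw [CfsgLib.SL2.trace_eq_zero_of_mul_self h2 yS_mul_self,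
          CfsgLib.SL2.trace_eq_zero_of_mul_self h2 hxx]) (Or.inl hy0)
      refine hgl (Matrix.SpecialLinearGroup.toGL k) _ _ hyT (hP.le hx) ?_
      rw [← map_inv, ← map_mul, ← map_mul, hk]
    have hdet1 : ∀ x ∈ S2, GeneralLinearGroup.det x = 1 → x ∈ T2 := by
      intro x hx hdx
      have hd' : (x : Matrix (Fin 2) (Fin 2) F).det = 1 := by
        rw [← GeneralLinearGroup.val_det_apply, hdx, Units.val_one]
      have e : Matrix.SpecialLinearGroup.toGL (⟨_, hd'⟩ : SL(2, F)) = x := Units.ext rfl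
      have hm : (⟨_, hd'⟩ : SL(2, F)) ∈ (P : Subgroup SL(2, F)) := by
        rw [hP]
        show Matrix.SpecialLinearGroup.toGL (⟨_, hd'⟩ : SL(2, F)) ∈ (S2 : Subgroup (GL (Fin 2) F))
        rw [e]; exact hx
      exact e ▸ hPT hm
    have htS : dg (t, (1 : Fˣ)) ∈ S2 := hdg t 1 (Subgroup.mem_zpowers t) (one_mem _)
    have htT : dg (t, (1 : Fˣ)) ∈ T2 := by
      have h1 : dg (t, t⁻¹) ∈ T2 := hdet1 _
        (hdg t t⁻¹ (Subgroup.mem_zpowers t) (inv_mem (Subgroup.mem_zpowers t)))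
        (Units.ext (by simp [dg_val, det_fin_two]))
      refine hcl g12 _ _ h1 htS ?_
      apply Subtype.ext
      rw [Matrix.SpecialLinearGroup.coe_mul, Matrix.SpecialLinearGroup.coe_mul, i3_dg, i3_dg,
        g12_conj]
      congr 2
      simp
    rintro _ ⟨x, hx, rfl⟩
    obtain ⟨m, hm⟩ := S2.isPGroup' ⟨x, hx⟩
    obtain ⟨k, hk⟩ := Subgroup.mem_zpowers_iff.1 (ht (GeneralLinearGroup.det x)
      ⟨m, by rw [← map_pow, show x ^ 2 ^ m = 1 from congrArg Subtype.val hm, map_one]⟩)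
    have hdt : GeneralLinearGroup.det (dg (t, (1 : Fˣ))) = t :=
      Units.ext (by simp [dg_val, det_fin_two])
    have hq : x * (dg (t, (1 : Fˣ)) ^ k)⁻¹ ∈ T2 := hdet1 _
      (mul_mem hx (inv_mem (Subgroup.zpow_mem _ htS k)))
      (by rw [map_mul, map_inv, map_zpow, hdt, hk, mul_inv_cancel])
    have := mul_mem hq (Subgroup.zpow_mem _ htT k)
    rw [inv_mul_cancel_right] at this
    exact this.1
  · intro g hg hgo
    simp only [Sylow.coe_ofCard] at hg ⊢
    obtain ⟨h, rfl⟩ := QuotientGroup.mk'_surjective _ g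
    have hconj : ∀ x ∈ S2, ∃ y ∈ S2, h * i3 x * h⁻¹ = i3 y := by
      intro x hx
      obtain ⟨y, hy, hye⟩ := (Subgroup.mem_normalizer_iff.1 hg (f x)).1 ⟨x, hx, rfl⟩
      exact ⟨y, hy, hlift h x y hx hy hye.symm⟩
    have hconj' : ∀ y ∈ S2, ∃ x ∈ S2, h * i3 x * h⁻¹ = i3 y := by
      intro y hy
      obtain ⟨x, hx, hxe⟩ := (Subgroup.mem_normalizer_iff''.1 hg (f y)).1 ⟨y, hy, rfl⟩
      refine ⟨x, hx, hlift h x y hx hy ?_⟩
      rw [hxe, hpr]
      group
    obtain ⟨c, hc, hce⟩ := hconj _ hn1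
    have hc' : c = -1 := by
      refine eq_neg_one_of_central h2 ht hdg hw (fun y hy => i3_injective ?_) (i3_injective ?_) ?_
      · obtain ⟨x, hx, hxe⟩ := hconj' y hy
        rw [map_mul, map_mul, ← hce, ← hxe,
          show h * i3 x * h⁻¹ * (h * i3 (-1 : GL (Fin 2) F) * h⁻¹) = h * (i3 x * i3 (-1 : GL (Fin 2) F)) * h⁻¹ by group,
          show h * i3 (-1 : GL (Fin 2) F) * h⁻¹ * (h * i3 x * h⁻¹) = h * (i3 (-1 : GL (Fin 2) F) * i3 x) * h⁻¹ by group,
          ← map_mul, ← map_mul, mul_neg_one, neg_one_mul]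
      · rw [map_mul, map_one, ← hce,
          show h * i3 (-1 : GL (Fin 2) F) * h⁻¹ * (h * i3 (-1 : GL (Fin 2) F) * h⁻¹) = h * (i3 (-1 : GL (Fin 2) F) * i3 (-1 : GL (Fin 2) F)) * h⁻¹ by group,
          ← map_mul, neg_mul_neg, one_mul, map_one, mul_one, mul_inv_cancel]
      · intro hc1
        apply hne1
        apply i3_injective
        rw [hc1, map_one, mul_inv_eq_one, mul_eq_left] at hce
        rw [hce, map_one]
    rw [hc'] at hce
    obtain ⟨A, rfl⟩ := eq_i3_of_commute h2 (mul_inv_eq_iff_eq_mul.1 hce)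
    have hA : A ∈ Subgroup.normalizer ((S2 : Subgroup (GL (Fin 2) F)) : Set (GL (Fin 2) F)) := by
      refine Subgroup.mem_normalizer_fintype fun x hx => ?_
      obtain ⟨y, hy, hye⟩ := hconj x hx
      rw [← map_inv, ← map_mul, ← map_mul] at hye
      exact i3_injective hye ▸ hy
    have hcen := centralizes_model hoddF hord ht S2 hdg A hA (r := orderOf (pr (i3 A))) hgo ?_
    · rw [Subgroup.mem_centralizer_iff]
      rintro _ ⟨x, hx, rfl⟩
      show pr (i3 x) * pr (i3 A) = pr (i3 A) * pr (i3 x)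
      rw [← map_mul, ← map_mul, ← map_mul, ← map_mul, mul_inv_eq_iff_eq_mul.1 (hcen x hx)]
    · intro x _
      have hz : i3 A ^ orderOf (pr (i3 A)) ∈
          Subgroup.center (Matrix.SpecialLinearGroup (Fin 3) F) := by
        refine (QuotientGroup.eq_one_iff _).1 ?_
        show pr (i3 A ^ orderOf (pr (i3 A))) = 1
        rw [map_pow, pow_orderOf_eq_one]
      apply i3_injective
      rw [map_mul, map_mul, map_inv, map_pow, ← Subgroup.mem_center_iff.1 hz (i3 x),
        mul_inv_cancel_right]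

end Cfsg.Agent.S5318
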