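import Cfsg.Statements.S5319
import Cfsg.Agent.Lib.Fusion.UnitaryThreeCases
-- import your own Cfsg.Agent.* helpers here

set_option autoImplicit false
open Cfsg

namespace Cfsg.Agent.S5319

/-- Let q be an odd prime power and F a field with q² elements. Then the 2-fusion system of PSU(3,q) (realised as the special unitary group of the standard Hermitian form over F modulo its centre) on a Sylow 2-subgroup is simple. -/
theorem result {F : Type*} [Field F] [Fintype F] (q : ℕ) (hq : Fintype.card F = q ^ 2) (hodd : q % 2 = 1) (S : Sylow 2 (Cfsg.PSU 3 F q)) :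
    (Cfsg.groupFusionSystem (S : Subgroup (Cfsg.PSU 3 F q))).IsSimple 2 := by
  obtain ⟨p, hchar⟩ := CharP.exists F
  obtain ⟨c, hp, hc⟩ := FiniteField.card F p
  have : Fact p.Prime := ⟨hp⟩
  obtain ⟨f, -, hf⟩ := (Nat.dvd_prime_pow hp).1 (show q ∣ p ^ (c : ℕ) from
    ⟨q, by rw [← hc, hq, sq]⟩)
  obtain ⟨C⟩ := CfsgLib.ClassicalAut.Unitary.exists_conj (p := p) hf
    (show Nat.card F = q ^ 2 by rw [Nat.card_eq_fintype_card, hq])
  have h2 : (2 : F) ≠ 0 := CfsgLib.SL2.odd_card_two_ne_zero (by
    rw [Nat.card_eq_fintype_card, hq]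
    exact (Nat.odd_iff.2 hodd).pow)
  rcases (show q % 4 = 1 ∨ q % 4 = 3 by omega) with h | h
  · exact CfsgLib.Fusion.UnitaryThree.case_one C h2 h S
  · exact CfsgLib.Fusion.UnitaryThree.case_three C h2 h S

end Cfsg.Agent.S5319
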