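import Cfsg.Statements.S5323
import Cfsg.Agent.Lib.McLMult.Fusion
import Cfsg.Agent.Lib.McLMult.Mult
import Cfsg.Agent.S2073

set_option autoImplicit false
open Cfsg

namespace Cfsg.Agent.S5323

/-- For a finite group G isomorphic to the McLaughlin group, the 2-fusion system of G on a Sylow 2-subgroup is simple: saturated, over a nontrivial 2-group, with no normal subsystem other than the trivial one and itself. -/
theorem result {G : Type*} [Group G] [Finite G] (hG : Cfsg.Spor.IsoMcL G) (S : Sylow 2 G) : (Cfsg.groupFusionSystem (S : Subgroup G)).IsSimple 2 := by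
  obtain ⟨e₁⟩ := hG
  obtain ⟨e₀⟩ := Cfsg.Agent.S2073.exists_equiv
  let e : G ≃* ↥CfsgLib.McLMult.G := e₁.trans e₀.symm
  obtain ⟨ρ, hρ⟩ := CfsgLib.McLMult.exists_action
  obtain ⟨hg2, himg, hprod⟩ := CfsgLib.McLMult.gensG
  simp only [List.all_eq_true, List.mem_range, Bool.and_eq_true, Nat.beq_eq] at himg
  haveI := CfsgLib.McLMult.finite_G
  have hinj : Function.Injective ρ :=
    (CfsgLib.Schur.MonoCover.Data.chain_generates CfsgLib.McLMult.validG ρ CfsgLib.McLMult.X (fun g hg i => by
      have hg' := hg2 g hg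
      interval_cases g
      · exact (hρ 0 (by norm_num) i).trans (himg i i.isLt).1.1.1.symm
      · exact (hρ 1 (by norm_num) i).trans (himg i i.isLt).1.1.2.symm)
    (by rw [CfsgLib.McLMult.natCard_G, hprod])).2
  refine CfsgLib.McLMult.fusion_simple (ρ := ρ.comp e.toMonoidHom) (X := fun j => e.symm (CfsgLib.McLMult.X j))
    (hinj.comp e.injective) (by rw [Nat.card_congr e.toEquiv, CfsgLib.McLMult.natCard_G]) (fun j hj i => ?_)
    (fun x hx => ⟨(himg x hx).1.2, (himg x hx).2⟩) S
  rw [MonoidHom.comp_apply, MulEquiv.coe_toMonoidHom, MulEquiv.apply_symm_apply]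
  exact hρ j hj i

end Cfsg.Agent.S5323
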