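import Cfsg.Statements.S5331
import Cfsg.Agent.Lib.Fusion.DistinctInvariants
import Cfsg.Agent.Lib.Fusion.AbelianSystem
import Cfsg.Agent.Lib.Fusion.Inner

set_option autoImplicit false
open Cfsg

namespace Cfsg.Agent.S5331

/-- Let S be a finite abelian 2-group that is a direct product of cyclic groups of pairwise distinct orders 2^{a_1} < 2^{a_2} < ⋯ < 2^{a_n} (all a_i ≥ 1). Then every saturated fusion system over S is the inner one: its maps are exactly the conjugations by elements of S. -/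
theorem result {Ω : Type*} [Group Ω] {S : Subgroup Ω} [Finite S] (n : ℕ) (a : Fin n → ℕ) (ha : StrictMono a) (ha1 : ∀ i, 1 ≤ a i) (e : ↥S ≃* Multiplicative ((i : Fin n) → ZMod (2 ^ a i))) (F : Cfsg.FusionSystem S) (hF : F.IsSaturated 2) (P : Subgroup Ω) : F.Hom P = (Cfsg.innerFusionSystem S).Hom P := by
  have : ∀ i, NeZero (2 ^ a i) := fun i => ⟨pow_ne_zero _ two_ne_zero⟩
  have hS : IsPGroup 2 S := by
    refine IsPGroup.of_card (n := ∑ i, a i) ?_
    rw [Nat.card_congr e.toEquiv, ← Finset.prod_pow_eq_pow_sum,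
      Nat.card_congr Multiplicative.toAdd, Nat.card_pi]
    exact Finset.prod_congr rfl fun i _ => Nat.card_zmod _
  have hab : ∀ x ∈ S, ∀ y ∈ S, x * y = y * x := fun x hx y hy =>
    congrArg Subtype.val (e.injective (by rw [map_mul, map_mul, mul_comm]) :
      (⟨x, hx⟩ : S) * ⟨y, hy⟩ = ⟨y, hy⟩ * ⟨x, hx⟩)
  refine Set.Subset.antisymm (fun φ hφ => ?_) (CfsgLib.Fusion.hom_inner_subset F le_rfl)
  obtain ⟨α, hα, hv⟩ :=
    CfsgLib.Fusion.exists_aut_of_abelian hS hF hab (CfsgLib.Fusion.isMap_homFun hφ)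
  have hP := (F.le_of_mem hφ).1
  suffices h1 : α = 1 by
    refine ⟨hP, 1, S.one_mem, fun x => ?_⟩
    have e1 := hv x x.2
    rw [h1, CfsgLib.Fusion.autFun_apply _ (hP x.2), CfsgLib.Fusion.homFun_coe] at e1
    rw [← e1, one_mul, inv_one, mul_one]
    rfl
  have := CfsgLib.Fusion.finite_mulAut S
  have hcop := CfsgLib.Fusion.coprime_card_autGroup_of_abelian hS hF hab
  have hα1 : α ^ Nat.card (F.autGroup S) = 1 :=
    congrArg Subtype.val (pow_card_eq_one' (x := (⟨α, hα⟩ : F.autGroup S)))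
  let σ : ((i : Fin n) → ZMod (2 ^ a i)) ≃+ ((i : Fin n) → ZMod (2 ^ a i)) :=
    MulEquiv.toAdditive (e.symm.trans (α.trans e))
  have hiter : ∀ (m : ℕ) (x : (i : Fin n) → ZMod (2 ^ a i)),
      σ^[m] x = Multiplicative.toAdd (e ((α ^ m) (e.symm (Multiplicative.ofAdd x)))) := by
    intro m
    induction m with
    | zero => intro x; simp
    | succ m ih =>
      intro x
      rw [Function.iterate_succ_apply', ih, pow_succ', MulAut.mul_apply]
      show Multiplicative.toAdd (e (α (e.symm (Multiplicative.ofAdd (Multiplicative.toAdd _))))) = _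
      rw [ofAdd_toAdd, MulEquiv.symm_apply_apply]
  refine MulEquiv.ext fun s => e.injective ?_
  have h := CfsgLib.Fusion.addEquiv_eq_id_of_odd a ha ha1 σ
    (Nat.coprime_two_right.1 hcop) (fun x => by rw [hiter, hα1]; simp) (Multiplicative.toAdd (e s))
  have h2 : e (α (e.symm (e s))) = e s := Multiplicative.toAdd.injective h
  rw [MulEquiv.symm_apply_apply] at h2
  exact h2

end Cfsg.Agent.S5331
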