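import Cfsg.Statements.S5333
import Cfsg.Agent.Lib.Fusion.Alperin
import Cfsg.Agent.Lib.Fusion.Ext
import Cfsg.Agent.Lib.Fusion.Transport
import Cfsg.Agent.Lib.Fusion.NormalizerSaturated

set_option autoImplicit false
open Cfsg

namespace Cfsg.Agent.S5333

/-- Let F′ ≤ F be saturated fusion systems over the same finite p-group S. Suppose that for every subgroup Z ≤ S of order p that is fully centralized in F′, the maps of F and of F′ with source Z coincide and the centralizer systems C_F(Z) and C_{F′}(Z) coincide. Then F = F′. -/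
theorem result {Ω : Type*} [Group Ω] {S : Subgroup Ω} [Finite S] (p : ℕ) [Fact p.Prime] (hS : IsPGroup p S) (F : Cfsg.FusionSystem S) (hF : F.IsSaturated p) (F' : Cfsg.FusionSystem S) (hF' : F'.IsSaturated p) (hle : F' ≤ F) (hZ : ∀ Z : Subgroup Ω, Z ≤ S → Nat.card Z = p → F'.IsFullyCentralized Z → F.Hom Z = F'.Hom Z ∧ ∀ (C C' : Cfsg.FusionSystem (Cfsg.FusionSystem.centralizerIn S Z)), F.IsCentralizerSystem Z C → F'.IsCentralizerSystem Z C' → ∀ P : Subgroup Ω, C.Hom P = C'.Hom P) (P : Subgroup Ω) : F.Hom P = F'.Hom P := by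
  classical
  have hsub : F'.IsSubsystemOf F := hle
  rcases eq_or_ne S ⊥ with hS1 | hS1
  · refine Set.Subset.antisymm (fun φ hφ => ?_) (hle P)
    have hP := (F.le_of_mem hφ).1
    refine CfsgLib.Fusion.mem_hom_of_isMap (CfsgLib.Fusion.isMap_id hP) fun x => ?_
    have h1 : ∀ y, y ∈ S → y = 1 := fun y hy => by rwa [hS1, Subgroup.mem_bot] at hy
    show φ x = (x : Ω)
    rw [h1 _ ((F.le_of_mem hφ).2 x), h1 _ (hP x.2)]
  have hnt : Nontrivial S := (Subgroup.nontrivial_iff_ne_bot S).2 hS1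
  have hzt : Nontrivial (Subgroup.center S) := hS.center_nontrivial
  obtain ⟨n, hn⟩ := (IsPGroup.iff_card.1 (hS.to_subgroup (Subgroup.center S)))
  have hn0 : n ≠ 0 := by
    rintro rfl
    rw [pow_zero] at hn
    exact not_nontrivial_iff_subsingleton.2 (Nat.card_eq_one_iff_unique.1 hn).1 hzt
  obtain ⟨⟨z, hzc⟩, hz⟩ := exists_prime_orderOf_dvd_card' p
    (show p ∣ Nat.card (Subgroup.center S) from hn ▸ dvd_pow_self p hn0)
  set Z := Subgroup.zpowers (z : Ω) with hZdef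
  have hZS : Z ≤ S := Subgroup.zpowers_le.2 z.2
  have hZcard : Nat.card Z = p := by
    rw [hZdef, Nat.card_zpowers, Subgroup.orderOf_coe, ← hz]
    exact (Subgroup.orderOf_mk (H := Subgroup.center S) z hzc).symm
  have hzS : ∀ x ∈ S, x * (z : Ω) = z * x := fun x hx =>
    congrArg Subtype.val (Subgroup.mem_center_iff.1 hzc ⟨x, hx⟩)
  have hcen : Cfsg.FusionSystem.centralizerIn S Z = S := by
    refine le_antisymm inf_le_left fun x hx => ⟨hx, ?_⟩
    have : Z ≤ Subgroup.centralizer {x} := by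
      rw [hZdef, Subgroup.zpowers_le, Subgroup.mem_centralizer_singleton_iff]
      exact (hzS x hx).symm
    exact fun y hy => Subgroup.mem_centralizer_singleton_iff.1 (this hy)
  have hfc : F'.IsFullyCentralized Z :=
    ⟨hZS, fun Q _ => by rw [hcen]; exact Subgroup.card_le_of_le inf_le_left⟩
  obtain ⟨hH, hC⟩ := hZ Z hZS hZcard hfc
  have hCC := hC (CfsgLib.Fusion.centralizerSystem F Z hZS) (CfsgLib.Fusion.centralizerSystem F' Z hZS)
    (fun _ => rfl) (fun _ => rfl)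
  have key : ∀ (R : Subgroup Ω), R ≤ S → Z ≤ R → ∀ f, CfsgLib.Fusion.IsIso F R R f →
      CfsgLib.Fusion.IsMap F' R f := by
    intro R hR hZR f hf
    obtain ⟨ψ, hψ, hψv⟩ := hf.isMap.mono hZR
    rw [hH] at hψ
    obtain ⟨Z₁, hZ₁⟩ : ∃ Z₁, CfsgLib.Fusion.IsIso F' Z Z₁ f :=
      CfsgLib.Fusion.IsMap.exists_iso ⟨ψ, hψ, hψv⟩
    obtain ⟨u, hu, hu1, -⟩ := hZ₁.exists_symm
    obtain ⟨-, hext⟩ := CfsgLib.Fusion.isReceptive_iff.1
      (CfsgLib.Fusion.isReceptive_of_isFullyCentralized hS hF' hfc)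
    obtain ⟨g, hg, hgv⟩ := hext Z₁ u hu
    have hRN : R ≤ CfsgLib.Fusion.nPhi S Z₁ u := by
      intro x hx
      refine CfsgLib.Fusion.centralizerIn_le_nPhi Z₁ u ⟨hR hx, fun y hy => ?_⟩
      obtain ⟨w, hw, rfl⟩ := hZ₁.surj hy
      obtain ⟨x', hx', rfl⟩ := hf.surj hx
      rw [← hf.isMap.map_mul (hZR hw) hx', ← hf.isMap.map_mul hx' (hZR hw)]
      congr 1
      exact (((hcen.ge (hR hx')).2) w hw)
    have hgR := hg.mono hRN
    have hgF := CfsgLib.Fusion.isMap_of_subsystem hsub hgR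
    have hw : CfsgLib.Fusion.IsMap F R (g ∘ f) := hf.isMap.comp hgF fun x hx => hf.mem hx
    have hwZ : ∀ x ∈ Z, g (f x) = x := fun x hx => by rw [hgv _ (hZ₁.mem hx), hu1 x hx]
    have hsup : R ⊔ Z = R := sup_eq_left.2 hZR
    have hwC : CfsgLib.Fusion.IsMap (CfsgLib.Fusion.centralizerSystem F Z hZS) R (g ∘ f) :=
      (CfsgLib.Fusion.isMap_centralizerSystem_iff (fun _ => rfl)).2
        ⟨hR.trans hcen.ge, fun x hx => hcen.ge (hw.mem hx), g ∘ f, by rw [hsup]; exact hw,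
          fun x _ => rfl, hwZ⟩
    obtain ⟨ω, hω, hωv⟩ := hwC
    rw [hCC] at hω
    have hwF' : CfsgLib.Fusion.IsMap F' R (g ∘ f) := by
      obtain ⟨-, -, g', hg', hg'v, -⟩ := (CfsgLib.Fusion.isMap_centralizerSystem_iff
        (F := F') (E := CfsgLib.Fusion.centralizerSystem F' Z hZS) (fun _ => rfl)).1 ⟨ω, hω, hωv⟩
      exact (hg'.mono le_sup_left).congr hg'v
    obtain ⟨R', hR'⟩ := hgR.exists_iso
    obtain ⟨g₂, hg₂, hg₂1, -⟩ := hR'.exists_symm
    refine (hwF'.comp hg₂.isMap fun x hx => hR'.mem (hf.mem hx)).congr fun x hx => ?_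
    exact hg₂1 _ (hf.mem hx)
  refine CfsgLib.Fusion.hom_eq_of_isMap_iff fun f => ⟨fun hf => ?_, fun hf =>
    CfsgLib.Fusion.isMap_of_subsystem hsub hf⟩
  refine CfsgLib.Fusion.le_of_autGroup_le hS hF (fun R hR α hα => ?_) P f hf
  have hRS : R ≤ S := by
    rcases hR with rfl | hR
    · exact le_rfl
    · exact hR.1.1
  have hZR : Z ≤ R := by
    rcases hR with rfl | hR
    · exact hZS
    · refine le_trans (fun x hx => ?_) (hR.1.2 R (CfsgLib.Fusion.isConj_refl hRS))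
      refine ⟨hZS hx, fun y hy => ?_⟩
      exact ((hcen.ge (hRS hy)).2 x hx).symm
  exact CfsgLib.Fusion.mem_autGroup_of_isMap
    (key R hRS hZR _ ((CfsgLib.Fusion.mem_autGroup_iff hRS α).1 hα)) α
    fun x => (CfsgLib.Fusion.autFun_coe α x).symm
end Cfsg.Agent.S5333
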