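import Cfsg.Statements.S5334
import Cfsg.Agent.Lib.Fusion.SubsystemAgree

set_option autoImplicit false
open Cfsg

namespace Cfsg.Agent.S5334

open CfsgLib.Fusion

/-- Let F′ ≤ F be saturated fusion systems over the same finite p-group S, let Q and R be F-centric subgroups, φ a map of F with source Q and values in R, and ψ a map of F with source R. If two of φ, ψ and the composite ψ ∘ φ are maps of F′ then so is the third. -/
theorem result {Ω : Type*} [Group Ω] {S : Subgroup Ω} [Finite S] (p : ℕ) [Fact p.Prime] (hS : IsPGroup p S) (F : Cfsg.FusionSystem S) (hF : F.IsSaturated p) (F' : Cfsg.FusionSystem S) (hF' : F'.IsSaturated p) (hle : F' ≤ F) (Q R : Subgroup Ω) (hQ : F.IsCentric Q) (hR : F.IsCentric R) (φ : ↥Q →* Ω) (hφ : φ ∈ F.Hom Q) (hφR : ∀ x : Q, φ x ∈ R) (ψ : ↥R →* Ω) (hψ : ψ ∈ F.Hom R) : (φ ∈ F'.Hom Q → ψ ∈ F'.Hom R → ψ.comp (φ.codRestrict R hφR) ∈ F'.Hom Q) ∧ (ψ ∈ F'.Hom R → ψ.comp (φ.codRestrict R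 hφR) ∈ F'.Hom Q → φ ∈ F'.Hom Q) ∧ (φ ∈ F'.Hom Q → ψ.comp (φ.codRestrict R hφR) ∈ F'.Hom Q → ψ ∈ F'.Hom R) := by
  set χ := ψ.comp (φ.codRestrict R hφR) with hχdef
  have hag : ∀ x ∈ Q, homFun χ x = homFun ψ (homFun φ x) := fun x hx => by
    rw [homFun_apply χ hx, homFun_apply φ hx, homFun_apply ψ (hφR ⟨x, hx⟩)]
    rfl
  have hmem : ∀ x ∈ Q, homFun φ x ∈ R := fun x hx => by
    rw [homFun_apply φ hx]; exact hφR _
  refine ⟨fun h1 h2 => F'.comp_mem h1 h2 hφR, fun h1 h2 => ?_, fun h1 h2 => ?_⟩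
  · obtain ⟨ψi, hψi, hinv⟩ := F'.inv_mem h1
    refine mem_hom_of_isMap (f := homFun ψi ∘ homFun χ)
      ((isMap_homFun h2).comp (isMap_homFun hψi) fun x hx => ?_) fun x => ?_
    · rw [homFun_apply χ hx]
      exact ⟨_, rfl⟩
    · show φ x = homFun ψi (homFun χ x)
      rw [homFun_apply χ x.2,
        homFun_apply ψi (show χ ⟨x, x.2⟩ ∈ ψ.range from ⟨⟨φ x, hφR x⟩, rfl⟩)]
      exact (hinv ⟨φ x, hφR x⟩).symm
  · obtain ⟨φi, hφi, hl, hr⟩ := (isIso_homFun h1).exists_symm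
    have hres : IsMap F' φ.range (homFun ψ) :=
      (hφi.isMap.comp (isMap_homFun h2) fun y hy => hφi.mem hy).congr fun y hy => by
        show homFun χ (φi y) = homFun ψ y
        rw [hag _ (hφi.mem hy), hr y hy]
    have hle' : φ.range ≤ R := by
      rintro _ ⟨x, rfl⟩
      exact hφR x
    exact (mem_hom_iff ψ).2 (isMap_of_centric_restrict hS hF hF' hle (isMap_homFun hψ) _ φ.range
      rfl hle' (isCentric_of_isConj hQ (isIso_homFun hφ).isConj) hres)

end Cfsg.Agent.S5334
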