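import Cfsg.Statements.S5337
import Cfsg.Agent.Lib.Fusion.Inner
import Cfsg.Agent.Lib.Fusion.AbelianSystem

set_option autoImplicit false
open Cfsg

namespace Cfsg.Agent.S5337

/-- Let F be a saturated fusion system over a finite abelian p-group S. Then F is simple if and only if S has order p and F is the inner system of S (whose only maps are the inclusions, S being abelian). -/
theorem result {Ω : Type*} [Group Ω] {S : Subgroup Ω} [Finite S] (p : ℕ) [Fact p.Prime] (hS : IsPGroup p S) (F : Cfsg.FusionSystem S) (hF : F.IsSaturated p) (hab : ∀ x ∈ S, ∀ y ∈ S, x * y = y * x) : F.IsSimple p ↔ (Nat.card S = p ∧ ∀ P : Subgroup Ω, F.Hom P = (Cfsg.innerFusionSystem S).Hom P) := by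
  constructor
  · rintro ⟨-, hne, h⟩
    have hSn := CfsgLib.Fusion.isNormal_top_of_abelian hS hF hab
    rcases h S _ (CfsgLib.Fusion.isNormalIn_inner_of_abelian hS hF hSn hab) with hbot | ⟨-, heq⟩
    · exact absurd hbot hne
    refine ⟨?_, fun P => (heq P).symm⟩
    have : Nontrivial S := (Subgroup.nontrivial_iff_ne_bot S).2 hne
    obtain ⟨k, hk, hk'⟩ := hS.nontrivial_iff_card.1 inferInstance
    obtain ⟨x, hx⟩ := exists_prime_orderOf_dvd_card' (G := S) p (hk' ▸ dvd_pow_self p hk.ne')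
    have hQle : Subgroup.zpowers (x : Ω) ≤ S := Subgroup.zpowers_le.2 x.2
    have hQn : F.IsNormal (Subgroup.zpowers (x : Ω)) := by
      refine CfsgLib.Fusion.isNormal_of_abelian hS hF (CfsgLib.Fusion.stronglyClosed_iff.2
        ⟨hQle, fun P f hf z hz hzQ => ?_⟩) fun a ha b hb => hab a (hQle ha) b (hQle hb)
      obtain ⟨φ, hφ, hv⟩ := hf
      rw [← heq P] at hφ
      obtain ⟨hP, g, hg, hgv⟩ := hφ
      rw [← hv ⟨z, hz⟩, hgv ⟨z, hz⟩]
      show g * z * g⁻¹ ∈ _
      rw [hab g hg z (hP hz), mul_inv_cancel_right]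
      exact hzQ
    have hQab : ∀ a ∈ Subgroup.zpowers (x : Ω), ∀ b ∈ Subgroup.zpowers (x : Ω), a * b = b * a :=
      fun a ha b hb => hab a (hQle ha) b (hQle hb)
    rcases h _ _ (CfsgLib.Fusion.isNormalIn_inner_of_abelian hS hF hQn hQab) with hb | ⟨hQS, -⟩
    · rw [Subgroup.zpowers_eq_bot] at hb
      rw [show x = 1 from Subtype.ext hb, orderOf_one] at hx
      exact absurd hx.symm (Fact.out : p.Prime).ne_one
    · rw [← hQS, Nat.card_zpowers, Subgroup.orderOf_coe, hx]
  · rintro ⟨hcard, heq⟩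
    refine ⟨hF, fun hbot => ?_, fun T E hE => ?_⟩
    · rw [Subgroup.card_eq_one.2 hbot] at hcard
      exact (Fact.out : p.Prime).ne_one hcard.symm
    · obtain ⟨⟨hEs, -, hsub, hsc, -⟩, -⟩ := hE
      rcases (Nat.dvd_prime (Fact.out : p.Prime)).1
        (hcard ▸ Subgroup.card_dvd_of_le hsc.1) with h1 | h1
      · exact Or.inl (Subgroup.card_eq_one.1 h1)
      · have hTS : T = S := Subgroup.eq_of_le_of_card_ge hsc.1 (by rw [hcard, h1])
        subst hTS
        refine Or.inr ⟨rfl, fun P => Set.Subset.antisymm (hsub P) fun φ hφ => ?_⟩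
        rw [heq P] at hφ
        exact CfsgLib.Fusion.exists_le_inner E hφ

end Cfsg.Agent.S5337
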