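import Cfsg.Statements.S5338
import Cfsg.Agent.Lib.Fusion.Alperin
import Cfsg.Agent.Lib.Fusion.Invariant

set_option autoImplicit false
open Cfsg

namespace Cfsg.Agent.S5338

/-- Let F be a saturated fusion system over a finite p-group S and F′ ≤ F a saturated subsystem over all of S that is invariant under F in the conjugation sense: for every map φ of F with source Q and every map ψ of F′ between subgroups R ≤ Q (with values in Q), the transported map φψφ⁻¹ defined on φ(R) is again a map of F′. If moreover Aut_{F′}(S) = Aut_F(S), then F′ = F. -/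
theorem result {Ω : Type*} [Group Ω] {S : Subgroup Ω} [Finite S] (p : ℕ) [Fact p.Prime] (hS : IsPGroup p S) (F : Cfsg.FusionSystem S) (hF : F.IsSaturated p) (F' : Cfsg.FusionSystem S) (hF' : F'.IsSaturated p) (hle : F' ≤ F) (hinv : ∀ (Q : Subgroup Ω) (φ : ↥Q →* Ω), φ ∈ F.Hom Q → ∀ (R : Subgroup Ω) (hRQ : R ≤ Q) (ψ : ↥R →* Ω), ψ ∈ F'.Hom R → ∀ (hψQ : ∀ x : R, ψ x ∈ Q), ∃ χ ∈ F'.Hom ((R.subgroupOf Q).map φ), ∀ (x : R) (hx : φ ⟨(x : Ω), hRQ x.2⟩ ∈ (R.subgroupOf Q).map φ), χ ⟨φ ⟨(x : Ω), hRQ x.2⟩, hx⟩ = φ ⟨ψ x, hψQ x⟩) (htop : F'.autGroup S = F.autGroup S) (P : Subgroup Ω) : F'.Hom P = F.Hom P := by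
  refine Set.Subset.antisymm (hle P) fun φ hφ => (CfsgLib.Fusion.mem_hom_iff φ).2 ?_
  refine CfsgLib.Fusion.le_of_autGroup_le_step hS hF (fun R hR hbig => ?_) P _
    (CfsgLib.Fusion.isMap_homFun hφ)
  rcases hR with rfl | hR
  · exact htop.ge
  have hRS : R ≤ S := hR.2.1.1
  have hsub : ∀ {A : Subgroup Ω} {f : Ω → Ω}, CfsgLib.Fusion.IsMap F' A f →
      CfsgLib.Fusion.IsMap F A f := fun hf => CfsgLib.Fusion.isMap_of_subsystem hle hf
  have hleA : F'.autGroup R ≤ F.autGroup R := fun a ha =>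
    CfsgLib.Fusion.mem_autGroup_of_isMap
      (hsub ((CfsgLib.Fusion.mem_autGroup_iff hRS a).1 ha).isMap) a
      fun x => (CfsgLib.Fusion.autFun_coe a x).symm
  have hnormal : ∀ α ∈ F.autGroup R, ∀ γ ∈ F'.autGroup R, α * γ * α⁻¹ ∈ F'.autGroup R := by
    intro α hα γ hγ
    have hα' := (CfsgLib.Fusion.mem_autGroup_iff hRS α).1 hα
    have hγ' := (CfsgLib.Fusion.mem_autGroup_iff hRS γ).1 hγ
    obtain ⟨φ, hφ, hv⟩ := hα'.isMap
    obtain ⟨ψ, hψ, hw⟩ := hγ'.isMap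
    have hψR : ∀ x : R, ψ x ∈ R := fun x => by
      rw [hw, CfsgLib.Fusion.autFun_coe]; exact SetLike.coe_mem _
    obtain ⟨χ, hχ, hχv⟩ := hinv R φ hφ R le_rfl ψ hψ hψR
    have he : (R.subgroupOf R).map φ = R := by
      ext y
      constructor
      · rintro ⟨x, -, rfl⟩
        rw [hv]; exact hα'.mem x.2
      · intro hy
        obtain ⟨x, hx, rfl⟩ := hα'.surj hy
        exact ⟨⟨x, hx⟩, hx, hv _⟩
    have hm := (CfsgLib.Fusion.isMap_homFun hχ).mono he.ge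
    refine CfsgLib.Fusion.mem_autGroup_of_isMap hm _ fun y => ?_
    obtain ⟨x, rfl⟩ := α.surjective y
    have hxm : φ ⟨(x : Ω), x.2⟩ ∈ (R.subgroupOf R).map φ := ⟨_, x.2, rfl⟩
    have e := hχv x hxm
    have hxe : ((α x : R) : Ω) = φ ⟨(x : Ω), x.2⟩ := by
      rw [hv, CfsgLib.Fusion.autFun_coe]
    rw [MulAut.mul_apply, MulAut.mul_apply, MulAut.inv_apply_self, hxe,
      CfsgLib.Fusion.homFun_apply χ hxm, e, hv, CfsgLib.Fusion.autFun_apply α (hψR x)]
    congr 2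
    refine Subtype.ext ?_
    show (γ x : Ω) = ψ x
    rw [hw, CfsgLib.Fusion.autFun_coe]
  intro α hα
  have hfn' : F'.IsFullyNormalized R :=
    ⟨hRS, fun Q hQ => hR.2.1.2 Q (CfsgLib.Fusion.isConj_of_subsystem hle hQ)⟩
  let A0 : Subgroup (MulAut R) := Cfsg.autInducedBy S R
  have hA0 : A0 ≤ F'.autGroup R := CfsgLib.Fusion.autInducedBy_le_autGroup hRS
  obtain ⟨β, hβ, hconj⟩ := ((CfsgLib.Fusion.isFullyAutomized_iff hS).1
    (CfsgLib.Fusion.isFullyAutomized_of_isFullyNormalized hS hF' hfn')).2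
    (A0.map (MulAut.conj α).toMonoidHom)
    (by rintro _ ⟨a, ha, rfl⟩; exact hnormal α hα a (hA0 ha))
    ((CfsgLib.Fusion.isPGroup_autInducedBy hS R).map _)
  have hδ : β * α ∈ F.autGroup R := (F.autGroup R).mul_mem (hleA hβ) hα
  have hrec := CfsgLib.Fusion.isReceptive_of_isFullyNormalized hS hF hR.2.1
  obtain ⟨f, hf, hfv⟩ := (CfsgLib.Fusion.isReceptive_iff.1 hrec).2 R _
    ((CfsgLib.Fusion.mem_autGroup_iff hRS _).1 hδ)
  have hN : Cfsg.FusionSystem.normalizerIn S R ≤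
      CfsgLib.Fusion.nPhi S R (CfsgLib.Fusion.autFun (β * α)) := by
    intro g hg
    obtain ⟨h, hh, hhv⟩ := (CfsgLib.Fusion.mem_autInducedBy_iff S R _).1
      (hconj _ ⟨_, CfsgLib.Fusion.conjAut_mem_autInducedBy hg.2 hg.1, rfl⟩)
    refine ⟨hg.1, hg.2, h, hh, fun x hx => ?_⟩
    have hgx := CfsgLib.Fusion.conj_mem_of_mem_normalizer hg.2 hx
    rw [CfsgLib.Fusion.autFun_apply _ hx, CfsgLib.Fusion.autFun_apply _ hgx,
      ← hhv ((β * α) ⟨x, hx⟩)]
    simp only [MulEquiv.coe_toMonoidHom, MulAut.conj_apply, MulAut.mul_apply,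
      MulAut.inv_apply_self]
    rfl
  have hlt : Nat.card R < Nat.card (CfsgLib.Fusion.nPhi S R (CfsgLib.Fusion.autFun (β * α))) := by
    have hne := CfsgLib.Fusion.ne_of_isEssential hS hF hR
    have hlt := (CfsgLib.Fusion.lt_normalizerIn hS hRS hne).trans_le hN
    have := CfsgLib.Fusion.finite_of_le (CfsgLib.Fusion.nPhi_le_self (S := S) R
      (CfsgLib.Fusion.autFun (β * α)))
    refine lt_of_le_of_ne (Subgroup.card_le_of_le hlt.le) fun h => ?_
    exact hlt.ne (Subgroup.eq_of_le_of_card_ge hlt.le h.ge)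
  have hfin := CfsgLib.Fusion.mem_autGroup_of_isMap ((hbig _ f hlt hf).mono fun x hx =>
    hN (CfsgLib.Fusion.le_normalizerIn hRS hx)) (β * α) fun x => by
      rw [hfv x x.2, CfsgLib.Fusion.autFun_coe]
  have := (F'.autGroup R).mul_mem ((F'.autGroup R).inv_mem hβ) hfin
  rwa [inv_mul_cancel_left] at this

end Cfsg.Agent.S5338
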