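import Cfsg.Statements.S5340
import Cfsg.Agent.S5339

set_option autoImplicit false
open Cfsg

namespace Cfsg.Agent.S5340

/-- Let F be a saturated fusion system over a nontrivial finite p-group S such that S is generated by its elements of order p, any two subgroups of S of order p are F-conjugate, and Aut_F(S) consists of inner automorphisms only. Then F is simple. -/
theorem result {Ω : Type*} [Group Ω] {S : Subgroup Ω} [Finite S] (p : ℕ) [Fact p.Prime] (hS : IsPGroup p S) (F : Cfsg.FusionSystem S) (hF : F.IsSaturated p) (hS1 : S ≠ ⊥) (hgen : Subgroup.closure {x : Ω | x ∈ S ∧ orderOf x = p} = S) (htr : ∀ A B : Subgroup Ω, A ≤ S → B ≤ S → Nat.card A = p → Nat.card B = p → F.IsConj A B) (htop : F.autGroup S = Cfsg.Inn ↥S) : F.IsSimple p := by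
  refine Cfsg.Agent.S5339.result p hS F hF hS1 htop fun T hT => ?_
  by_cases hT1 : T = ⊥
  · exact Or.inl hT1
  refine Or.inr (le_antisymm hT.1 ?_)
  have hTp : IsPGroup p T := hS.to_le hT.1
  haveI : Finite T := Finite.of_injective _ (Subgroup.inclusion_injective hT.1)
  haveI : Nontrivial T := (Subgroup.nontrivial_iff_ne_bot T).mpr hT1
  obtain ⟨n, hn, hcardT⟩ := hTp.nontrivial_iff_card.mp inferInstance
  obtain ⟨a, ha⟩ := exists_prime_orderOf_dvd_card' (G := T) p (hcardT ▸ dvd_pow_self p hn.ne')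
  have hA : Nat.card (Subgroup.zpowers (a : Ω)) = p := by
    rw [Nat.card_zpowers, Subgroup.orderOf_coe, ha]
  conv_lhs => rw [← hgen]
  refine (Subgroup.closure_le T).mpr ?_
  rintro x ⟨hx, hxp⟩
  have hB : Nat.card (Subgroup.zpowers x) = p := by rw [Nat.card_zpowers, hxp]
  have hAle : Subgroup.zpowers (a : Ω) ≤ T := Subgroup.zpowers_le.mpr a.2
  obtain ⟨φ, hφ, hr⟩ := htr _ _ (hAle.trans hT.1) (Subgroup.zpowers_le.mpr hx) hA hB
  obtain ⟨y, rfl⟩ : x ∈ φ.range := hr ▸ Subgroup.mem_zpowers x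
  exact hT.2 _ hAle φ hφ y

end Cfsg.Agent.S5340
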