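import Cfsg.Statements.S5341
import Cfsg.Agent.Lib.Fusion.Invariant
import Cfsg.Agent.Lib.Fusion.Normal

set_option autoImplicit false
open Cfsg

namespace Cfsg.Agent.S5341

/-- Let F be a saturated fusion system over a finite p-group S, T a subgroup strongly closed in F, and F′ any fusion system over T all of whose maps are maps of F. For a subgroup Q ≤ T: if Q is fully centralized in F then it is fully centralized in F′, and if Q is fully normalized in F then it is fully normalized in F′. -/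
theorem result {Ω : Type*} [Group Ω] {S : Subgroup Ω} [Finite S] (p : ℕ) [Fact p.Prime] (hS : IsPGroup p S) (F : Cfsg.FusionSystem S) (hF : F.IsSaturated p) (T : Subgroup Ω) (hT : F.StronglyClosed T) (F' : Cfsg.FusionSystem T) (hsub : F'.IsSubsystemOf F) (Q : Subgroup Ω) (hQT : Q ≤ T) : (F.IsFullyCentralized Q → F'.IsFullyCentralized Q) ∧ (F.IsFullyNormalized Q → F'.IsFullyNormalized Q) := by
  have hTn : ∀ (R : Subgroup Ω) (g : Ω → Ω), CfsgLib.Fusion.IsMap F R g → ∀ x ∈ R, x ∈ T → g x ∈ T :=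
    fun R g hg x hx hxT => CfsgLib.Fusion.isMap_mem_of_stronglyClosed hT hg hx hxT
  constructor
  · intro hc
    refine ⟨hQT, fun R hR => ?_⟩
    have hcF := CfsgLib.Fusion.isConj_of_subsystem hsub hR
    obtain ⟨f, hf⟩ := CfsgLib.Fusion.isConj_iff.1 (CfsgLib.Fusion.isConj_symm hcF)
    obtain ⟨f', hf', hv⟩ := (CfsgLib.Fusion.isReceptive_iff.1
      (CfsgLib.Fusion.isReceptive_of_isFullyCentralized hS hF hc)).2 R f hf
    have hTS : T ≤ S := hT.1
    have := CfsgLib.Fusion.finite_of_le (S := S) (P := Cfsg.FusionSystem.centralizerIn T Q)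
      (inf_le_left.trans hTS)
    have hle : Cfsg.FusionSystem.centralizerIn T R ≤ Cfsg.FusionSystem.centralizerIn S R :=
      inf_le_inf_right _ hTS
    refine (hf'.mono (hle.trans (CfsgLib.Fusion.centralizerIn_le_nPhi R f))).card_le fun g hg => ?_
    exact ⟨hTn _ _ hf' g (CfsgLib.Fusion.centralizerIn_le_nPhi R f (hle hg)) hg.1,
      (hf'.mem_centralizerIn (CfsgLib.Fusion.le_nPhi hf.isMap)
        (hf.congr fun x hx => (hv x hx).symm)
        (CfsgLib.Fusion.centralizerIn_le_nPhi R f (hle hg)) hg.2).2⟩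
  · intro hn
    refine ⟨hQT, fun R hR => ?_⟩
    have hcF := CfsgLib.Fusion.isConj_of_subsystem hsub hR
    obtain ⟨ha, hr⟩ := (CfsgLib.Fusion.isFullyNormalized_iff hS hF).1 hn
    obtain ⟨f, hf, -, hfN, -⟩ :=
      CfsgLib.Fusion.exists_map_normalizerIn hS ha hr (CfsgLib.Fusion.isConj_symm hcF)
    have hTS : T ≤ S := hT.1
    have := CfsgLib.Fusion.finite_of_le (S := S) (P := Cfsg.FusionSystem.normalizerIn T Q)
      (inf_le_left.trans hTS)
    have hle : Cfsg.FusionSystem.normalizerIn T R ≤ Cfsg.FusionSystem.normalizerIn S R :=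
      inf_le_inf_right _ hTS
    exact (hf.mono hle).card_le fun g hg => ⟨hTn _ _ hf g (hle hg) hg.1, (hfN g (hle hg)).2⟩

end Cfsg.Agent.S5341
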