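import Cfsg.Statements.S5343
import Cfsg.Agent.Lib.Fusion.MinimalRealization

set_option autoImplicit false
universe u
open Cfsg

namespace Cfsg.Agent.S5343

open Cfsg Cfsg.FusionSystem in
theorem aux.{v} {Ω : Type v} [Group Ω] {S : Subgroup Ω} [Finite S] (p : ℕ) [Fact p.Prime]
    (hS : IsPGroup p S) (F : Cfsg.FusionSystem S) (hsimple : F.IsSimple p) :
    ∀ (n : ℕ) (G : Type v) [Group G] [Finite G] (ι : ↥S →* G), Nat.card G = n →
      F.IsRealizedBy ι → (∃ T : Sylow p G, (T : Subgroup G) = ι.range) →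
      ∃ (G : Type v) (_ : Group G) (_ : Finite G) (_ : IsSimpleGroup G) (ι : ↥S →* G),
        F.IsRealizedBy ι ∧ ∃ T : Sylow p G, (T : Subgroup G) = ι.range := by
  intro n
  induction n using Nat.strong_induction_on with
  | _ n ih =>
  intro G _ _ ι hn hreal hsyl
  obtain ⟨T, hT⟩ := hsyl
  obtain ⟨k, hk⟩ := CfsgLib.Fusion.exists_transport_of_realized ι hreal
  have hGsimple := hk.isSimple hS hsimple
  by_cases hcore : pPrimeCore p G = ⊥
  · by_cases hmin : ∀ (H : Subgroup G) (hSH : (T : Subgroup G) ≤ H), H ≠ ⊤ → ∃ P : Subgroup G,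
        (fusionSystemOfSubgroup H (T : Subgroup G) hSH).Hom P ≠
          (groupFusionSystem (T : Subgroup G)).Hom P
    · rw [← hT] at hGsimple
      exact ⟨G, inferInstance, inferInstance,
        CfsgLib.Fusion.isSimpleGroup_of_minimal T hGsimple hcore hmin, ι, hreal, T, hT⟩
    · push_neg at hmin
      obtain ⟨H, hTH, hH, heq⟩ := hmin
      have hlt : Nat.card H < n := by
        rw [← hn]
        exact lt_of_le_of_ne (Subgroup.card_le_card_group H) fun e =>
          hH (Subgroup.eq_top_of_card_eq H e)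
      have hιH : ∀ s, ι s ∈ H := fun s => hTH (hT.ge ⟨s, rfl⟩)
      refine ih _ hlt H (ι.codRestrict H hιH) rfl ⟨?_, ?_⟩ ⟨T.subtype hTH, ?_⟩
      · exact fun a b e => hreal.1 (congrArg Subtype.val e)
      · intro P hP φ hφ
        rw [hreal.2 P hP φ hφ]
        refine ⟨fun ⟨g, hg⟩ => ?_, fun ⟨g, hg⟩ => ⟨g, fun x => congrArg Subtype.val (hg x)⟩⟩
        let P' : Subgroup G := (P.subgroupOf S).map ι
        have hP' : P' ≤ T := by rintro _ ⟨y, -, rfl⟩; exact hT.ge ⟨y, rfl⟩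
        have hgm : conjHom P' g ∈ (groupFusionSystem (T : Subgroup G)).Hom P' := by
          refine ⟨hP', ?_, g, fun x => rfl⟩
          rintro ⟨_, y, hy, rfl⟩
          show g * ι y * g⁻¹ ∈ (T : Subgroup G)
          rw [← hg ⟨y, hy⟩]
          exact hT.ge ⟨_, rfl⟩
        rw [← heq] at hgm
        obtain ⟨-, -, h, hhH, hh⟩ := hgm
        refine ⟨⟨h, hhH⟩, fun x => Subtype.ext ?_⟩
        show ι ⟨φ x, hφ x⟩ = h * ι ⟨x, hP x.2⟩ * h⁻¹
        rw [hg x, ← hh ⟨ι ⟨x, hP x.2⟩, ⟨x, hP x.2⟩, x.2, rfl⟩]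
        rfl
      · rw [Sylow.coe_subtype]
        ext x
        rw [Subgroup.mem_subgroupOf, hT]
        exact ⟨fun ⟨s, hs⟩ => ⟨s, Subtype.ext hs⟩, fun ⟨s, hs⟩ => ⟨s, congrArg Subtype.val hs⟩⟩
  · have : (pPrimeCore p G).Normal := CfsgLib.Transfer.pPrimeCore_normal p G
    set N := pPrimeCore p G with hN
    have hlt : Nat.card (G ⧸ N) < n := by
      rw [← hn, Subgroup.card_eq_card_quotient_mul_card_subgroup N]
      refine lt_mul_of_one_lt_right Nat.card_pos ?_
      exact Finite.one_lt_card_iff_nontrivial.2 ((Subgroup.nontrivial_iff_ne_bot N).2 hcore)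
    have hinj : Function.Injective ((QuotientGroup.mk' N).comp ι) := by
      refine (injective_iff_map_eq_one _).2 fun s hs => hreal.1 ?_
      rw [map_one]
      have hsN : ι s ∈ N := (QuotientGroup.eq_one_iff _).1 hs
      obtain ⟨m, hm⟩ := hS s
      have h2 : orderOf (ι s) ∣ p ^ m :=
        orderOf_dvd_of_pow_eq_one (by rw [← map_pow, hm, map_one])
      have h3 : orderOf (ι s) ∣ Nat.card N := by
        have := orderOf_dvd_natCard (⟨ι s, hsN⟩ : N)
        rwa [Subgroup.orderOf_mk] at this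
      rw [← orderOf_eq_one_iff]
      exact Nat.eq_one_of_dvd_coprimes
        ((CfsgLib.Transfer.pPrimeCore_coprime (G := G) p).pow_right m) h3 h2
    refine ih _ hlt (G ⧸ N) ((QuotientGroup.mk' N).comp ι) rfl ⟨hinj, ?_⟩
      ⟨T.mapSurjective (QuotientGroup.mk'_surjective N), ?_⟩
    · intro P hP φ hφ
      rw [hreal.2 P hP φ hφ]
      refine ⟨fun ⟨g, hg⟩ => ⟨g, fun x => congrArg (QuotientGroup.mk' N) (hg x) |>.trans (by simp)⟩,
        fun ⟨γ, hγ⟩ => ?_⟩
      obtain ⟨g, hg⟩ := CfsgLib.Fusion.exists_lift_of_quotient T ((P.subgroupOf S).map ι)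
        (by rintro _ ⟨y, -, rfl⟩; exact hT.ge ⟨y, rfl⟩) γ (by
          rintro _ ⟨y, hy, rfl⟩
          exact ⟨ι ⟨φ ⟨y, hy⟩, hφ _⟩, hT.ge ⟨_, rfl⟩, hγ ⟨y, hy⟩⟩)
      refine ⟨g, fun x => ?_⟩
      obtain ⟨hgS, hge⟩ := hg (ι ⟨x, hP x.2⟩) ⟨⟨x, hP x.2⟩, x.2, rfl⟩
      have hgS' : g * ι ⟨x, hP x.2⟩ * g⁻¹ ∈ ι.range := hT.le hgS
      obtain ⟨s, hs⟩ := hgS'
      rw [← hs]
      congr 1
      refine hinj ?_
      show QuotientGroup.mk' N (ι _) = QuotientGroup.mk' N (ι s)
      rw [hs]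
      exact (hγ x).trans hge.symm
    · rw [Sylow.coe_mapSurjective, hT, MonoidHom.map_range]


/-- Let F be a simple saturated fusion system over a finite p-group S that is realized by some finite group on a Sylow p-subgroup. Then F is realized by a finite simple group on a Sylow p-subgroup. -/
theorem result {Ω : Type u} [Group Ω] {S : Subgroup Ω} [Finite S] (p : ℕ) [Fact p.Prime] (hS : IsPGroup p S) (F : Cfsg.FusionSystem S) (hsimple : F.IsSimple p) (hreal : F.IsRealizable p) : ∃ (G : Type u) (_ : Group G) (_ : Finite G) (_ : IsSimpleGroup G) (ι : ↥S →* G), F.IsRealizedBy ι ∧ ∃ T : Sylow p G, (T : Subgroup G) = ι.range := by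
  obtain ⟨G, _, _, ι, hι, hT⟩ := hreal
  exact aux p hS F hsimple _ G ι rfl hι hT

end Cfsg.Agent.S5343
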