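import Cfsg.Statements.S5344
import Cfsg.Agent.Lib.ThreeTransp.StringHom
-- import your own Cfsg.Agent.* helpers here

set_option autoImplicit false
open Cfsg

namespace Cfsg.Agent.S5344

/-- In a set of 3-transpositions, let a, b, c be members with a and c different and commuting, while neither a nor c commutes with b (a 3-string). Then there is an injective homomorphism from the symmetric group of degree 4 into the ambient group sending the transpositions (0 1), (1 2), (2 3) to a, b, c; so a, b, c generate a copy of the symmetric group of degree 4 in which they are transpositions. -/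
theorem result {G : Type*} [Group G] {D : Set G} (hD : Cfsg.IsThreeTranspositionSet D) {a b c : G} (ha : a ∈ D) (hb : b ∈ D) (hc : c ∈ D) (hac : a ≠ c) (hac' : Commute a c) (hab : ¬ Commute a b) (hbc : ¬ Commute b c) : ∃ φ : Equiv.Perm (Fin 4) →* G, Function.Injective φ ∧ φ (Equiv.swap 0 1) = a ∧ φ (Equiv.swap 1 2) = b ∧ φ (Equiv.swap 2 3) = c := by
  classical
  have sa := CfsgLib.ThreeTransp.mul_self_eq_one hD ha
  obtain ⟨φ, h0, h1, h2⟩ := CfsgLib.ThreeTransp.exists_hom_perm_four sa
    (CfsgLib.ThreeTransp.mul_self_eq_one hD hb) (CfsgLib.ThreeTransp.mul_self_eq_one hD hc)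
    (CfsgLib.ThreeTransp.braid hD ha hb hab) (CfsgLib.ThreeTransp.braid hD hb hc hbc) hac'.eq
  refine ⟨φ, ?_, h0, h1, h2⟩
  rw [← MonoidHom.ker_eq_bot_iff, Subgroup.eq_bot_iff_forall]
  intro x hx
  by_contra hx1
  -- every nontrivial element has a commutator chain reaching the four-group
  have key : ∀ x : Equiv.Perm (Fin 4), x ≠ 1 → ∃ u v w : Equiv.Perm (Fin 4),
      u * ((v * x * v⁻¹ * x⁻¹) * (w * (v * x * v⁻¹ * x⁻¹) * w⁻¹)) * u⁻¹
        = Equiv.swap 0 1 * Equiv.swap 2 3 ∨
      u * (v * x * v⁻¹ * x⁻¹) * u⁻¹ = Equiv.swap 0 1 * Equiv.swap 2 3 := by decide +kernel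
  obtain ⟨u, v, w, h⟩ := key x hx1
  have hN : ∀ (y g : Equiv.Perm (Fin 4)), y ∈ φ.ker → g * y * g⁻¹ ∈ φ.ker :=
    fun y g hy => (inferInstance : φ.ker.Normal).conj_mem y hy g
  have hy := mul_mem (hN x v hx) (inv_mem hx)
  have hmem : Equiv.swap 0 1 * Equiv.swap 2 3 ∈ φ.ker := by
    rcases h with h | h
    · exact h ▸ hN _ u (mul_mem hy (hN _ w hy))
    · exact h ▸ hN _ u hy
  rw [MonoidHom.mem_ker, map_mul, h0, h2] at hmem
  exact hac (by rw [eq_inv_of_mul_eq_one_left hmem, CfsgLib.ThreeTransp.inv_eq_self hD hc])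

end Cfsg.Agent.S5344
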