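import Cfsg.Statements.S5345
import Cfsg.Agent.Lib.ThreeTransp.Sylow
-- import your own Cfsg.Agent.* helpers here

set_option autoImplicit false
open Cfsg

namespace Cfsg.Agent.S5345

/-- Let D be a conjugation-invariant generating set of 3-transpositions of a finite group G and T a Sylow 2-subgroup of G. Then the members of D lying in T generate an abelian subgroup, and their number is the width of D (the largest number of pairwise commuting members of D). -/
theorem result {G : Type*} [Group G] [Finite G] {D : Set G} (hD : Cfsg.IsThreeTranspositionGroup D) (T : Sylow 2 G) : IsMulCommutative (Subgroup.closure {d : G | d ∈ D ∧ d ∈ T}) ∧ {d : G | d ∈ D ∧ d ∈ T}.ncard = Cfsg.commutingWidth D := by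
  obtain ⟨hS, hcl, -⟩ := hD
  have hc : ∀ a ∈ {d : G | d ∈ D ∧ d ∈ T}, ∀ b ∈ {d : G | d ∈ D ∧ d ∈ T}, Commute a b :=
    fun a ha b hb => CfsgLib.ThreeTransp.commute_of_mem_two_group hS T.isPGroup' ha.1 hb.1 ha.2 hb.2
  refine ⟨Subgroup.isMulCommutative_closure fun a ha b hb => (hc a ha b hb).eq, ?_⟩
  refine le_antisymm (le_csSup ?_ ⟨_, fun d hd => hd.1, Set.toFinite _, hc, rfl⟩) (csSup_le ?_ ?_)
  · exact ⟨Nat.card G, by rintro n ⟨E, -, -, -, rfl⟩; exact Set.ncard_le_card E⟩
  · exact ⟨0, ∅, Set.empty_subset _, Set.finite_empty, by simp, Set.ncard_empty G⟩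
  · rintro n ⟨E, hE, -, hEc, rfl⟩
    exact CfsgLib.ThreeTransp.ncard_le_inter_sylow hS hcl hE hEc T

end Cfsg.Agent.S5345
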