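import Cfsg.Statements.S5346
import Cfsg.Agent.Lib.ThreeTransp.Main
-- import your own Cfsg.Agent.* helpers here

set_option autoImplicit false
open Cfsg

namespace Cfsg.Agent.S5346

/-- Let D be a conjugation-invariant generating set of 3-transpositions of a finite group G and d a member of D. Then D has width 1 (no two different members of D commute) if and only if G is the product of the subgroup generated by d with the largest normal 3-subgroup of G. -/
theorem result {G : Type*} [Group G] [Finite G] {D : Set G} (hD : Cfsg.IsThreeTranspositionGroup D) {d : G} (hd : d ∈ D) : Cfsg.commutingWidth D = 1 ↔ Subgroup.zpowers d ⊔ Cfsg.pCore 3 G = ⊤ := by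
  obtain ⟨hS, hc, hgen⟩ := hD
  haveI : (Cfsg.pCore 3 G).Normal := CfsgLib.Fitting.pCore_normal 3
  have hbdd : BddAbove {n : ℕ | ∃ E : Set G, E ⊆ D ∧ E.Finite ∧ (∀ a ∈ E, ∀ b ∈ E, Commute a b) ∧
      E.ncard = n} := ⟨Nat.card G, by rintro n ⟨E, -, -, -, rfl⟩; exact Set.ncard_le_card E⟩
  constructor
  · intro h
    have hw : ∀ a ∈ D, ∀ b ∈ D, Commute a b → a = b := by
      intro a ha b hb hab
      by_contra hne
      have h2 : 2 ≤ Cfsg.commutingWidth D := le_csSup hbdd ⟨{a, b},
        Set.insert_subset ha (Set.singleton_subset_iff.mpr hb), Set.toFinite _,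
        by rintro x (rfl | rfl) y (rfl | rfl) <;> first | exact Commute.refl _ | exact hab | exact hab.symm,
        Set.ncard_pair hne⟩
      omega
    refine CfsgLib.ThreeTransp.eq_top_of_subset hgen fun e he => ?_
    rw [← CfsgLib.ThreeTransp.mul_self_cancel hS hd e]
    exact mul_mem (Subgroup.mem_sup_left (Subgroup.mem_zpowers d))
      (Subgroup.mem_sup_right (CfsgLib.ThreeTransp.mul_mem_pCore_three hS hc hgen hw hd he))
  · intro h
    refine le_antisymm (csSup_le ⟨0, ∅, Set.empty_subset _, Set.finite_empty, by simp, Set.ncard_empty G⟩ ?_)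
      (le_csSup hbdd ⟨{d}, Set.singleton_subset_iff.mpr hd, Set.toFinite _,
        by rintro x rfl y rfl; exact Commute.refl y, Set.ncard_singleton d⟩)
    rintro n ⟨E, hE, hEf, hEc, rfl⟩
    refine (Set.ncard_le_one hEf).mpr fun a ha b hb => ?_
    haveI : Fact (Nat.Prime 3) := ⟨Nat.prime_three⟩
    set π := QuotientGroup.mk' (Cfsg.pCore 3 G)
    have himg : ∀ e ∈ D, π e = π d := by
      intro e he
      have hne : π e ≠ 1 := fun h1 => by
        have h2 := Subgroup.orderOf_dvd_natCard _ ((QuotientGroup.eq_one_iff e).mp h1)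
        rw [hS.1 e he] at h2
        obtain ⟨k, hk⟩ := (CfsgLib.Fitting.pCore_isPGroup (G := G) 3).exists_card_eq
        rw [hk] at h2
        have := Nat.prime_two.dvd_of_dvd_pow h2
        norm_num at this
      obtain ⟨z, hz, y, hy, rfl⟩ := Subgroup.mem_sup_of_normal_right.mp (h ▸ Subgroup.mem_top e)
      obtain ⟨k, rfl⟩ := Subgroup.mem_zpowers_iff.mp hz
      have hy1 : π y = 1 := (QuotientGroup.eq_one_iff y).mpr hy
      rw [map_mul, hy1, mul_one, map_zpow] at hne ⊢
      have hsq : π d * π d = 1 := by rw [← map_mul, CfsgLib.ThreeTransp.mul_self_eq_one hS hd, map_one]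
      rcases Int.even_or_odd k with ⟨j, rfl⟩ | ⟨j, rfl⟩
      · rw [← two_mul, zpow_mul, zpow_two, hsq, one_zpow] at hne
        exact absurd rfl hne
      · rw [zpow_add, zpow_mul, zpow_two, hsq, one_zpow, one_mul, zpow_one]
    have hmem : a * b ∈ Cfsg.pCore 3 G := by
      refine (QuotientGroup.eq_one_iff _).mp ?_
      show π (a * b) = 1
      rw [map_mul, himg a (hE ha), himg b (hE hb), ← map_mul,
        CfsgLib.ThreeTransp.mul_self_eq_one hS hd, map_one]
    by_contra hne
    exact CfsgLib.ThreeTransp.not_commute_of_starEq hS (hE hb) hne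
      (CfsgLib.ThreeTransp.starEq_of_mul_mem hS (CfsgLib.Fitting.pCore_isPGroup 3) (hE ha) (hE hb) hmem)
      (hEc a ha b hb)

end Cfsg.Agent.S5346
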