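import Cfsg.Statements.S5347
import Cfsg.Agent.Lib.ThreeTransp.Basic
-- import your own Cfsg.Agent.* helpers here

set_option autoImplicit false
open Cfsg

namespace Cfsg.Agent.S5347

/-- Let D be a conjugation-invariant generating set of 3-transpositions of a finite group G, p a prime bigger than 3, and P a p-subgroup of G. If a member d of D normalizes P then d centralizes P. -/
theorem result {G : Type*} [Group G] [Finite G] {D : Set G} (hD : Cfsg.IsThreeTranspositionGroup D) {p : ℕ} (hp : p.Prime) (hp3 : 3 < p) (P : Subgroup G) (hP : IsPGroup p P) {d : G} (hd : d ∈ D) (hnorm : d ∈ Subgroup.normalizer (P : Set G)) : ∀ x ∈ P, Commute d x := by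
  intro x hx
  obtain ⟨hS, hcl, -⟩ := hD
  have he : x * d * x⁻¹ ∈ D := hcl x d hd
  have hmem : d * (x * d * x⁻¹) ∈ P := by
    have h1 := (Subgroup.mem_normalizer_iff.mp hnorm x).mp hx
    rw [CfsgLib.ThreeTransp.conj_eq hS hd] at h1
    simpa [mul_assoc] using P.mul_mem h1 (P.inv_mem hx)
  obtain ⟨k, hk⟩ := hP ⟨_, hmem⟩
  have h2 : ¬ 2 ∣ p ^ k := fun h => by
    have := (Nat.prime_dvd_prime_iff_eq Nat.prime_two hp).mp (Nat.prime_two.dvd_of_dvd_pow h)
    omega
  have h3 : ¬ 3 ∣ p ^ k := fun h => by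
    have := (Nat.prime_dvd_prime_iff_eq Nat.prime_three hp).mp (Nat.prime_three.dvd_of_dvd_pow h)
    omega
  have := CfsgLib.ThreeTransp.mul_eq_one_of_coprime_order hS hd he
    (by simpa using congrArg Subtype.val hk) h2 h3
  have h5 : x * d = d * x := by
    conv_rhs => rw [this, inv_mul_cancel_right]
  exact h5.symm

end Cfsg.Agent.S5347
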