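import Cfsg.Statements.S5349
import Cfsg.Agent.Lib.ThreeTransp.Classes
-- import your own Cfsg.Agent.* helpers here

set_option autoImplicit false
open Cfsg

namespace Cfsg.Agent.S5349

/-- Let D be a conjugacy class of 3-transpositions generating the finite group G, with at least two members, and d a member of D. Then the set of members of D commuting with exactly the same members of D as d coincides with the set of members of D lying in the coset of d modulo the largest normal 2-subgroup of G, and also with the orbit of d under conjugation by that normal 2-subgroup. -/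
theorem result {G : Type*} [Group G] [Finite G] {D : Set G} (hD : Cfsg.IsThreeTranspositionClass D) (hD2 : ∃ a ∈ D, ∃ b ∈ D, a ≠ b) {d : G} (hd : d ∈ D) : {v : G | v ∈ D ∧ ∀ e ∈ D, Commute v e ↔ Commute d e} = {v : G | v ∈ D ∧ d⁻¹ * v ∈ Cfsg.pCore 2 G} ∧ {v : G | v ∈ D ∧ ∀ e ∈ D, Commute v e ↔ Commute d e} = {v : G | ∃ g ∈ Cfsg.pCore 2 G, v = g * d * g⁻¹} := by
  have hS := hD.1
  have hc := CfsgLib.ThreeTransp.class_conjClosed hD
  haveI := CfsgLib.Fitting.pCore_normal (G := G) 2
  have h1 : {v : G | v ∈ D ∧ ∀ e ∈ D, Commute v e ↔ Commute d e}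
      = {v : G | v ∈ D ∧ d⁻¹ * v ∈ Cfsg.pCore 2 G} := by
    ext v
    refine and_congr_right fun hv => ?_
    rw [CfsgLib.ThreeTransp.inv_eq_self hS hd,
      ← CfsgLib.ThreeTransp.perpEq_iff_mul_mem hS hc hd hv]
    exact ⟨fun h e he => (h e he).symm, fun h e he => (h e he).symm⟩
  refine ⟨h1, ?_⟩
  ext v
  constructor
  · rintro ⟨hv, h⟩
    rcases eq_or_ne v d with rfl | hne
    · exact ⟨1, one_mem _, by group⟩
    obtain ⟨e, he, hde⟩ := CfsgLib.ThreeTransp.exists_not_commute hD hD2 hd
    have hP : CfsgLib.ThreeTransp.PerpEq D d v := fun e he => (h e he).symm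
    exact CfsgLib.ThreeTransp.exists_conj_of_mul_mem hS hd hv he
      (CfsgLib.ThreeTransp.mul_mem_pCore_two hS hc hd hv hP)
      (CfsgLib.ThreeTransp.commute_of_perpEq hS hd hP).symm (fun x => hde x.symm)
      (fun x => hde ((hP e he).mpr x.symm))
  · rintro ⟨g, hg, rfl⟩
    rw [h1]
    refine ⟨hc g d hd, ?_⟩
    rw [show d⁻¹ * (g * d * g⁻¹) = (d⁻¹ * g * d⁻¹⁻¹) * g⁻¹ by group]
    exact mul_mem (Subgroup.Normal.conj_mem inferInstance g hg d⁻¹) (inv_mem hg)

end Cfsg.Agent.S5349
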