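import Cfsg.Statements.S5350
import Cfsg.Agent.Lib.ThreeTransp.WClasses
-- import your own Cfsg.Agent.* helpers here

set_option autoImplicit false
open Cfsg

namespace Cfsg.Agent.S5350

/-- Let D be a conjugacy class of 3-transpositions generating the finite group G, with at least two members, and d a member of D. Then the set of members w of D whose commuting partners in D (other than w) are exactly those of d (other than d) coincides with the set of members of D lying in the coset of d modulo the largest normal 3-subgroup of G, and also with the orbit of d under conjugation by that normal 3-subgroup. -/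
theorem result {G : Type*} [Group G] [Finite G] {D : Set G} (hD : Cfsg.IsThreeTranspositionClass D) (hD2 : ∃ a ∈ D, ∃ b ∈ D, a ≠ b) {d : G} (hd : d ∈ D) : {w : G | w ∈ D ∧ {y : G | y ∈ D ∧ y ≠ d ∧ Commute d y} = {y : G | y ∈ D ∧ y ≠ w ∧ Commute w y}} = {w : G | w ∈ D ∧ d⁻¹ * w ∈ Cfsg.pCore 3 G} ∧ {w : G | w ∈ D ∧ {y : G | y ∈ D ∧ y ≠ d ∧ Commute d y} = {y : G | y ∈ D ∧ y ≠ w ∧ Commute w y}} = {w : G | ∃ g ∈ Cfsg.pCore 3 G, w = g * d * g⁻¹} := by
  have hS := hD.1
  have hc := CfsgLib.ThreeTransp.class_conjClosed hD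
  haveI := CfsgLib.Fitting.pCore_normal (G := G) 3
  have hiff : ∀ w, ({y : G | y ∈ D ∧ y ≠ d ∧ Commute d y} = {y : G | y ∈ D ∧ y ≠ w ∧ Commute w y})
      ↔ CfsgLib.ThreeTransp.StarEq D d w := by
    intro w
    refine ⟨fun h e he => ?_, fun h => Set.ext fun e => and_congr_right fun he => h e he⟩
    exact ⟨fun h' => (h.subset (⟨he, h'⟩ : e ∈ {y : G | y ∈ D ∧ y ≠ d ∧ Commute d y})).2,
      fun h' => (h.superset (⟨he, h'⟩ : e ∈ {y : G | y ∈ D ∧ y ≠ w ∧ Commute w y})).2⟩
  have h1 : {w : G | w ∈ D ∧ {y : G | y ∈ D ∧ y ≠ d ∧ Commute d y}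
      = {y : G | y ∈ D ∧ y ≠ w ∧ Commute w y}}
      = {w : G | w ∈ D ∧ d⁻¹ * w ∈ Cfsg.pCore 3 G} := by
    ext v
    refine and_congr_right fun hv => ?_
    rw [CfsgLib.ThreeTransp.inv_eq_self hS hd, hiff,
      CfsgLib.ThreeTransp.starEq_iff_mul_mem hS hc hd hv]
  refine ⟨h1, ?_⟩
  ext v
  constructor
  · rintro ⟨hv, h⟩
    rcases eq_or_ne v d with rfl | hne
    · exact ⟨1, one_mem _, by group⟩
    exact CfsgLib.ThreeTransp.exists_conj_of_not_commute hS hd hv
      (CfsgLib.ThreeTransp.mul_mem_pCore_three_of_starEq hS hc hd hv ((hiff v).mp h))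
      (CfsgLib.ThreeTransp.not_commute_of_starEq hS hv hne.symm ((hiff v).mp h))
  · rintro ⟨g, hg, rfl⟩
    rw [h1]
    refine ⟨hc g d hd, ?_⟩
    rw [show d⁻¹ * (g * d * g⁻¹) = (d⁻¹ * g * d⁻¹⁻¹) * g⁻¹ by group]
    exact mul_mem (Subgroup.Normal.conj_mem inferInstance g hg d⁻¹) (inv_mem hg)

end Cfsg.Agent.S5350
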