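import Cfsg.Statements.S5351
import Cfsg.Agent.Lib.ThreeTransp.Main
-- import your own Cfsg.Agent.* helpers here

set_option autoImplicit false
open Cfsg

namespace Cfsg.Agent.S5351

/-- Let D be a conjugacy class of 3-transpositions generating the finite group G, with at least two members. Then for every prime p > 3 the largest normal p-subgroup of G is central, and exactly one of the following holds: the largest normal 2-subgroup of G is not central; the largest normal 3-subgroup of G is not central; the layer of G (the product of its components) is non-trivial. -/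
theorem result {G : Type*} [Group G] [Finite G] {D : Set G} (hD : Cfsg.IsThreeTranspositionClass D) (hD2 : ∃ a ∈ D, ∃ b ∈ D, a ≠ b) : (∀ p : ℕ, p.Prime → 3 < p → Cfsg.pCore p G ≤ Subgroup.center G) ∧ ((¬ Cfsg.pCore 2 G ≤ Subgroup.center G ∧ Cfsg.pCore 3 G ≤ Subgroup.center G ∧ Cfsg.layer G = ⊥) ∨ (Cfsg.pCore 2 G ≤ Subgroup.center G ∧ ¬ Cfsg.pCore 3 G ≤ Subgroup.center G ∧ Cfsg.layer G = ⊥) ∨ (Cfsg.pCore 2 G ≤ Subgroup.center G ∧ Cfsg.pCore 3 G ≤ Subgroup.center G ∧ Cfsg.layer G ≠ ⊥)) := by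
  have hS := hD.1
  have hc := CfsgLib.ThreeTransp.class_conjClosed hD
  refine ⟨fun p hp hp3 => CfsgLib.ThreeTransp.pCore_le_center hS hc hD.2.2 hp hp3, ?_⟩
  by_cases h2 : Cfsg.pCore 2 G ≤ Subgroup.center G
  · right
    by_cases h3 : Cfsg.pCore 3 G ≤ Subgroup.center G
    · right
      exact ⟨h2, h3, CfsgLib.Layer.ne_bot_of_isComponent
        (CfsgLib.ThreeTransp.layer_structure hD hD2 h2 h3).1⟩
    · left
      exact ⟨h2, h3, CfsgLib.ThreeTransp.layer_eq_bot_of_three hD h3⟩
  · left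
    refine ⟨h2, ?_, CfsgLib.ThreeTransp.layer_eq_bot_of_two hD h2⟩
    by_contra h3
    obtain ⟨d, hd, -⟩ := hD.2.1
    obtain ⟨v, hv, hvd, hdv⟩ := CfsgLib.ThreeTransp.exists_perpEq_ne hD h2 hd
    obtain ⟨w, hw, hwd, hdw⟩ := CfsgLib.ThreeTransp.exists_starEq_ne hD h3 hd
    exact CfsgLib.ThreeTransp.not_perp_and_star hS hd hv hw hvd hwd hdv hdw

end Cfsg.Agent.S5351
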