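import Cfsg.Statements.S5354
import Cfsg.Agent.Lib.ThreeTransp.Main
-- import your own Cfsg.Agent.* helpers here

set_option autoImplicit false
open Cfsg

namespace Cfsg.Agent.S5354

/-- Let D be a conjugation-invariant generating set of 3-transpositions of the finite group G on which G acts primitively by conjugation, and suppose two different members of D commute (width at least 2). Then G has a quasisimple normal subgroup L of index at most 2 with the generalized Fitting subgroup of G equal to L times the centre, the commuting graph of D is connected, and for d in D the subgroup generated by the members of D commuting with d is a maximal D-subgroup: it is proper, and every subgroup generated by members of D that contains it is either it or G. -/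
theorem result {G : Type*} [Group G] [Finite G] {D : Set G} (hD : Cfsg.IsThreeTranspositionGroup D) (hprim : Cfsg.IsPrimitiveUnderConj D) (hw : ∃ a ∈ D, ∃ b ∈ D, a ≠ b ∧ Commute a b) : (∃ L : Subgroup G, L.Normal ∧ Cfsg.IsQuasisimple L ∧ L.index ≤ 2 ∧ Cfsg.generalizedFittingSubgroup G = L ⊔ Subgroup.center G) ∧ (Cfsg.commutingGraph D).Connected ∧ ∀ d ∈ D, Subgroup.closure {y : G | y ∈ D ∧ Commute d y} ≠ ⊤ ∧ ∀ H : Subgroup G, Cfsg.IsDSubgroup D H → Subgroup.closure {y : G | y ∈ D ∧ Commute d y} ≤ H → H = Subgroup.closure {y : G | y ∈ D ∧ Commute d y} ∨ H = ⊤ := by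
  obtain ⟨hcl, hD2⟩ := CfsgLib.ThreeTransp.class_of_primitive hD hprim
  have h2 := CfsgLib.ThreeTransp.pCore_two_le_center hD hprim
  have h3 := CfsgLib.ThreeTransp.pCore_three_le_center hD hprim hw
  have hconn := CfsgLib.ThreeTransp.connected_of_primitive hD hprim hw
  obtain ⟨hL, hq, hF⟩ := CfsgLib.ThreeTransp.layer_structure hcl hD2 h2 h3
  haveI : (Cfsg.layer G).Normal := CfsgLib.Layer.layer_normal
  refine ⟨⟨Cfsg.layer G, inferInstance, hq,
    CfsgLib.ThreeTransp.index_le_two_of_connected hcl hL hconn, hF⟩, hconn, fun d hd => ?_⟩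
  refine ⟨CfsgLib.ThreeTransp.perp_closure_ne_top hcl hD2 hd, fun H hH hle => ?_⟩
  by_cases h : ∀ e ∈ D, e ∈ H → Commute d e
  · refine Or.inl (le_antisymm ?_ hle)
    rw [← hH]
    exact Subgroup.closure_mono fun e he => ⟨he.1, h e he.1 he.2⟩
  · push_neg at h
    obtain ⟨e, he, heH, hde⟩ := h
    exact Or.inr (CfsgLib.ThreeTransp.perp_maximal hD hprim hw hd hle he heH hde)

end Cfsg.Agent.S5354
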