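import Cfsg.Statements.S5355
import Cfsg.Agent.Lib.ThreeTransp.Classes
import Cfsg.Agent.Lib.ThreeTransp.StringHom
-- import your own Cfsg.Agent.* helpers here

set_option autoImplicit false
open Cfsg

namespace Cfsg.Agent.S5355

/-- Let D be a conjugacy class of 3-transpositions generating the finite group G, with at least two members, and d a member of D. Suppose that every member of D commuting with d commutes with exactly the same members of D as d does, and that exactly one member of D other than d commutes with d. Then G is isomorphic to the symmetric group of degree 4. -/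
theorem result {G : Type*} [Group G] [Finite G] {D : Set G} (hD : Cfsg.IsThreeTranspositionClass D) (hD2 : ∃ a ∈ D, ∃ b ∈ D, a ≠ b) {d : G} (hd : d ∈ D) (hV : {y : G | y ∈ D ∧ Commute d y} = {v : G | v ∈ D ∧ ∀ e ∈ D, Commute v e ↔ Commute d e}) (hm : {y : G | y ∈ D ∧ Commute d y}.ncard = 2) : Nonempty (G ≃* Equiv.Perm (Fin 4)) := by
  have hS := hD.1
  have hc := CfsgLib.ThreeTransp.class_conjClosed hD
  open CfsgLib.ThreeTransp in
  -- every member has exactly one other member commuting with it
  have huniq : ∀ a ∈ D, ∀ b ∈ D, ∀ b' ∈ D, Commute a b → Commute a b' → b ≠ a → b' ≠ a → b = b' := by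
    intro a ha b hb b' hb' h h' hne hne'
    obtain ⟨g, rfl⟩ := class_exists_conj hD hd ha
    obtain ⟨v, -, hv⟩ : ∃ v, v ≠ d ∧ {y : G | y ∈ D ∧ Commute d y} = {d, v} := by
      obtain ⟨p, q, hpq, he⟩ := Set.ncard_eq_two.mp hm
      have hdm : d ∈ ({p, q} : Set G) := he ▸ (⟨hd, Commute.refl d⟩ : d ∈ D ∧ Commute d d)
      rcases hdm with rfl | rfl
      · exact ⟨q, hpq.symm, he⟩
      · exact ⟨p, hpq, he.trans (Set.pair_comm p _)⟩
    have key : ∀ x ∈ D, Commute (g * d * g⁻¹) x → x ≠ g * d * g⁻¹ → x = g * v * g⁻¹ := by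
      intro x hx hgx hxne
      have h1 : g⁻¹ * x * g⁻¹⁻¹ ∈ ({d, v} : Set G) := by
        rw [← hv]
        refine ⟨hc _ x hx, commute_conj (g := g).mp ?_⟩
        simpa [mul_assoc] using hgx
      rcases h1 with h1 | h1
      · exact absurd (by rw [← h1]; group) hxne
      · rw [← Set.mem_singleton_iff.mp h1]; group
    rw [key b hb h hne, key b' hb' h' hne']
  open CfsgLib.ThreeTransp in
  obtain ⟨v, ⟨hv, hdv⟩, hvd⟩ : ∃ v, (v ∈ D ∧ Commute d v) ∧ v ≠ d := by
    obtain ⟨p, q, hpq, he⟩ := Set.ncard_eq_two.mp hm
    have hp : p ∈ {y : G | y ∈ D ∧ Commute d y} := by rw [he]; simp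
    have hq : q ∈ {y : G | y ∈ D ∧ Commute d y} := by rw [he]; simp
    rcases eq_or_ne p d with rfl | hne
    · exact ⟨q, hq, hpq.symm⟩
    · exact ⟨p, hp, hne⟩
  open CfsgLib.ThreeTransp in
  have hperp : ∀ e ∈ D, Commute v e ↔ Commute d e :=
    ((hV ▸ (⟨hv, hdv⟩ : v ∈ D ∧ Commute d v)) :
      v ∈ {v : G | v ∈ D ∧ ∀ e ∈ D, Commute v e ↔ Commute d e}).2
  open CfsgLib.ThreeTransp in
  obtain ⟨e, he, hde⟩ := exists_not_commute hD hD2 hd
  open CfsgLib.ThreeTransp in
  have hve : ¬ Commute v e := fun x => hde ((hperp e he).mp x)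
  open CfsgLib.ThreeTransp in
  obtain ⟨φ, p0, p1, p2⟩ := exists_hom_perm_four (mul_self_eq_one hS hd) (mul_self_eq_one hS he)
    (mul_self_eq_one hS hv) (braid hS hd he hde) (braid hS he hv fun x => hve x.symm) hdv.eq
  open CfsgLib.ThreeTransp in
  -- the partner of a member outside the class of `d`
  have partner : ∀ a ∈ D, ¬ Commute d a → d * (a * v * a) * d ∈ D ∧
      Commute a (d * (a * v * a) * d) ∧ d * (a * v * a) * d ≠ a := by
    intro a ha hda
    have hva : ¬ Commute v a := fun x => hda ((hperp a ha).mp x)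
    have hda' : a = d * (a * d * a) * d := by
      rw [braid hS ha hd (fun x => hda x.symm), conj_conj hS hd]
    refine ⟨conj_mem hS hc hd (conj_mem hS hc ha hv), ?_, fun h => ?_⟩
    · nth_rw 1 [hda']
      exact (commute_conj_iff hS hd _ _).mpr ((commute_conj_iff hS ha _ _).mpr hdv)
    · have h' : d * (a * v * a) * d = d * (a * d * a) * d := h.trans hda'
      exact hvd (mul_left_cancel (mul_right_cancel (mul_left_cancel (mul_right_cancel h'))))
  open CfsgLib.ThreeTransp in
  have hrel : ∀ c ∈ D, ¬ Commute d c →
      c * (d * v) * c = d * v * (c * (d * (c * v * c) * d)) := by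
    intro c hc' hdc
    have hvc : ¬ Commute v c := fun x => hdc ((hperp c hc').mp x)
    symm
    calc d * v * (c * (d * (c * v * c) * d))
        = d * v * c * d * c * (v * c * d) := by group
      _ = v * (d * c * d) * c * (v * c * d) := by rw [hdv.eq]; group
      _ = v * (c * d * c) * c * (v * c * d) := by rw [braid hS hd hc' hdc]
      _ = v * c * d * (c * c) * v * c * d := by group
      _ = v * c * (d * v) * c * d := by rw [mul_self_eq_one hS hc']; group
      _ = (v * c * v) * (d * c * d) := by rw [hdv.eq]; group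
      _ = (c * v * c) * (c * d * c) := by rw [braid hS hd hc' hdc, braid hS hv hc' hvc]
      _ = c * v * (c * c) * d * c := by group
      _ = c * (d * v) * c := by rw [mul_self_eq_one hS hc', hdv.eq]; group
  open CfsgLib.ThreeTransp in
  -- conjugating the product of one class by a member of another one
  have hpair : ∀ a a' b b', a ∈ D → a' ∈ D → b ∈ D → b' ∈ D → Commute a a' → a' ≠ a →
      Commute b b' → b' ≠ b → ¬ Commute a b →
      b * a' * b = a * b' * a ∧ b * (a * a') * b = a * (b * b') * a ∧
        b * (a * a') * b = a * a' * (b * b') := by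
    intro a a' b b' ha ha' hb hb' haa hane hbb hbne hab
    have ha'b : ¬ Commute a' b := fun h => hab (by
      have h3 := huniq a' ha' b hb a ha h haa.symm (fun h4 => hab (h4.symm ▸ haa)) hane.symm
      exact h3 ▸ Commute.refl a)
    have hx : b * a' * b = a * b' * a := by
      refine huniq (b * a * b) (conj_mem hS hc hb ha) _ (conj_mem hS hc hb ha') _
        (conj_mem hS hc ha hb') ((commute_conj_iff hS hb _ _).mpr haa) ?_
        (fun h => hane (mul_left_cancel (mul_right_cancel h))) ?_
      · rw [braid hS hb ha (fun x => hab x.symm)]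
        exact (commute_conj_iff hS ha _ _).mpr hbb
      · rw [braid hS hb ha (fun x => hab x.symm)]
        exact fun h => hbne (mul_left_cancel (mul_right_cancel h))
    refine ⟨hx, ?_, ?_⟩
    · calc b * (a * a') * b = (b * a * b) * (b * a' * b) := by
            rw [show b * a * b * (b * a' * b) = b * a * (b * b) * a' * b by group,
              mul_self_eq_one hS hb]; group
        _ = (a * b * a) * (a * b' * a) := by rw [hx, braid hS hb ha (fun x => hab x.symm)]
        _ = a * (b * b') * a := by
            rw [show a * b * a * (a * b' * a) = a * b * (a * a) * b' * a by group,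
              mul_self_eq_one hS ha]; group
    · have h1 : b' = a * (b * a' * b) * a := by rw [hx, conj_conj hS ha]
      symm
      rw [h1]
      calc a * a' * (b * (a * (b * a' * b) * a))
          = a * a' * b * a * b * (a' * b * a) := by group
        _ = a' * (a * b * a) * b * (a' * b * a) := by rw [haa.eq]; group
        _ = a' * (b * a * b) * b * (a' * b * a) := by rw [braid hS ha hb hab]
        _ = a' * b * a * (b * b) * a' * b * a := by group
        _ = a' * b * (a * a') * b * a := by rw [mul_self_eq_one hS hb]; group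
        _ = (a' * b * a') * (a * b * a) := by rw [haa.eq]; group
        _ = (b * a' * b) * (b * a * b) := by rw [braid hS ha hb hab, braid hS ha' hb ha'b]
        _ = b * a' * (b * b) * a * b := by group
        _ = b * (a * a') * b := by rw [mul_self_eq_one hS hb, haa.eq]; group
  open CfsgLib.ThreeTransp in
  -- every member is in the image
  have hmem : ∀ c ∈ D, c ∈ φ.range := by
    have hdR : d ∈ φ.range := ⟨_, p0⟩
    have heR : e ∈ φ.range := ⟨_, p1⟩
    have hvR : v ∈ φ.range := ⟨_, p2⟩
    intro c hc'
    by_cases hdc : Commute d c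
    · rcases eq_or_ne c d with rfl | hne
      · exact hdR
      · rw [huniq d hd c hc' v hv hdc hdv hne hvd]; exact hvR
    obtain ⟨he'1, he'2, he'3⟩ := partner e he hde
    by_cases hec : Commute e c
    · rcases eq_or_ne c e with rfl | hne
      · exact heR
      · rw [huniq e he c hc' _ he'1 hec he'2 hne he'3]
        exact mul_mem (mul_mem hdR (mul_mem (mul_mem heR hvR) heR)) hdR
    -- now `c` commutes with the member `e * d * e`
    obtain ⟨hc'1, hc'2, hc'3⟩ := partner c hc' hdc
    have hf : e * d * e ∈ D := conj_mem hS hc he hd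
    have hf' : e * v * e ∈ D := conj_mem hS hc he hv
    have hff' : Commute (e * d * e) (e * v * e) := (commute_conj_iff hS he _ _).mpr hdv
    have hne' : e * v * e ≠ e * d * e := fun h =>
      hvd (mul_left_cancel (mul_right_cancel h))
    obtain ⟨-, hA, hce⟩ := hpair e _ c _ he he'1 hc' hc'1 he'2 he'3 hc'2 hc'3 hec
    obtain ⟨-, -, hC⟩ := hpair c _ e _ hc' hc'1 he he'1 hc'2 hc'3 he'2 he'3 (fun x => hec x.symm)
    have hxx : Commute (e * (d * (e * v * e) * d)) (c * (d * (c * v * c) * d)) := by
      show _ * _ = _ * _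
      rw [← hce, hA, hC]
    have hcen : Commute c (e * d * e * (e * v * e)) := by
      have hcd := hrel c hc' hdc
      have hed := hrel e he hde
      have h0 : e * d * e * (e * v * e) = d * v * (e * (d * (e * v * e) * d)) := by
        rw [← hed, show e * d * e * (e * v * e) = e * d * (e * e) * v * e by group,
          mul_self_eq_one hS he]; group
      have hsq : ∀ a b : G, a ∈ D → b ∈ D → Commute a b → (a * b) * (a * b) = 1 := by
        intro a b ha hb h
        rw [← pow_two]; exact (commute_iff_mul_pow_two hS ha hb).mp h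
      refine commute_of_conj_eq hS hc' ?_
      rw [h0]
      set x := d * v
      set y := e * (d * (e * v * e) * d)
      set z := c * (d * (c * v * c) * d)
      calc c * (x * y) * c = (c * x * c) * (c * y * c) := by
            rw [show c * x * c * (c * y * c) = c * x * (c * c) * y * c by group,
              mul_self_eq_one hS hc']; group
        _ = x * z * (y * z) := by rw [hcd, hce]
        _ = x * (z * y) * z := by group
        _ = x * (y * z) * z := by rw [hxx.eq]
        _ = x * y * (z * z) := by group
        _ = x * y := by rw [hsq _ _ hc' hc'1 hc'2, mul_one]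
    have hcf := ((commute_mul_iff hS hf hf' hc' hne'.symm).mp hcen).1
    rcases eq_or_ne c (e * d * e) with rfl | hne
    · exact mul_mem (mul_mem heR hdR) heR
    · rw [huniq _ hf c hc' _ hf' hcf.symm hff' hne hne']
      exact mul_mem (mul_mem heR hvR) heR
  have hsurj : Function.Surjective φ := by
    rw [← MonoidHom.range_eq_top, eq_top_iff, ← hD.2.2, Subgroup.closure_le]
    exact hmem
  have hinj : Function.Injective φ := by
    rw [← MonoidHom.ker_eq_bot_iff, Subgroup.eq_bot_iff_forall]
    intro x hx
    by_contra hx1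
    have key : ∀ x : Equiv.Perm (Fin 4), x ≠ 1 → ∃ u v w : Equiv.Perm (Fin 4),
        u * ((v * x * v⁻¹ * x⁻¹) * (w * (v * x * v⁻¹ * x⁻¹) * w⁻¹)) * u⁻¹
          = Equiv.swap 0 1 * Equiv.swap 2 3 ∨
        u * (v * x * v⁻¹ * x⁻¹) * u⁻¹ = Equiv.swap 0 1 * Equiv.swap 2 3 := by decide +kernel
    obtain ⟨u, y, w, h⟩ := key x hx1
    have hN : ∀ (y g : Equiv.Perm (Fin 4)), y ∈ φ.ker → g * y * g⁻¹ ∈ φ.ker :=
      fun y g hy => (inferInstance : φ.ker.Normal).conj_mem y hy g
    have hy := mul_mem (hN x y hx) (inv_mem hx)
    have hmem : Equiv.swap 0 1 * Equiv.swap 2 3 ∈ φ.ker := by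
      rcases h with h | h
      · exact h ▸ hN _ u (mul_mem hy (hN _ w hy))
      · exact h ▸ hN _ u hy
    rw [MonoidHom.mem_ker, map_mul, p0, p2] at hmem
    exact hvd (by rw [eq_inv_of_mul_eq_one_left hmem, CfsgLib.ThreeTransp.inv_eq_self hS hv])
  exact ⟨(MulEquiv.ofBijective φ ⟨hinj, hsurj⟩).symm⟩

end Cfsg.Agent.S5355
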