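import Cfsg.Statements.S5356
import Cfsg.Agent.Lib.ThreeTransp.PerpClass
-- import your own Cfsg.Agent.* helpers here

set_option autoImplicit false
open Cfsg

namespace Cfsg.Agent.S5356

/-- Let D be a conjugacy class of 3-transpositions generating the finite group G, with at least two members, and d a member of D such that every member of D commuting with d commutes with exactly the same members of D as d. Then there is a Sylow 3-subgroup P of G normalized by d such that G is generated by d, P and the largest normal 2-subgroup of G. -/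
theorem result {G : Type*} [Group G] [Finite G] {D : Set G} (hD : Cfsg.IsThreeTranspositionClass D) (hD2 : ∃ a ∈ D, ∃ b ∈ D, a ≠ b) {d : G} (hd : d ∈ D) (hV : {y : G | y ∈ D ∧ Commute d y} = {v : G | v ∈ D ∧ ∀ e ∈ D, Commute v e ↔ Commute d e}) : ∃ P : Sylow 3 G, d ∈ Subgroup.normalizer (P : Set G) ∧ Subgroup.zpowers d ⊔ (P : Subgroup G) ⊔ Cfsg.pCore 2 G = ⊤ := by
  have hS := hD.1
  have hc := CfsgLib.ThreeTransp.class_conjClosed hD
  have hH : ∀ a ∈ D, ∀ b ∈ D, Commute a b → a * b ∈ Cfsg.pCore 2 G := by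
    intro a ha b hb hab
    obtain ⟨g, rfl⟩ := CfsgLib.ThreeTransp.class_exists_conj hD hd ha
    have hb' : g⁻¹ * b * g⁻¹⁻¹ ∈ {y : G | y ∈ D ∧ Commute d y} := by
      refine ⟨hc _ b hb, (CfsgLib.ThreeTransp.commute_conj (g := g)).mp ?_⟩
      simpa [mul_assoc] using hab
    rw [hV] at hb'
    haveI := CfsgLib.Fitting.pCore_normal (G := G) 2
    have h1 := CfsgLib.ThreeTransp.mul_mem_pCore_two hS hc hd hb'.1
      (fun e he => (hb'.2 e he).symm)
    have h2 := Subgroup.Normal.conj_mem inferInstance _ h1 g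
    rwa [show g * (d * (g⁻¹ * b * g⁻¹⁻¹)) * g⁻¹ = g * d * g⁻¹ * b by group] at h2
  obtain ⟨P, hP⟩ := CfsgLib.ThreeTransp.exists_invariant_sylow_three hD hH hd
  exact ⟨P, hP, CfsgLib.ThreeTransp.sup_eq_top_of_perp hD hH hd P⟩

end Cfsg.Agent.S5356
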