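import Cfsg.Statements.S5358
import Cfsg.Agent.Lib.Classical.OrthSum
import Cfsg.Agent.Lib.Classical.Reflect

set_option autoImplicit false
open scoped MatrixGroups
open Cfsg

namespace Cfsg.Agent.S5358

/-- Let Q be a non-degenerate quadratic form on the n-dimensional coordinate space over the field with three elements and u, v vectors of the same non-zero norm Q(u) = Q(v) spanning different lines (v ≠ u and v ≠ −u). Then the reflection matrices of u and v commute if and only if u and v are orthogonal for the polar form of Q. -/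
theorem result (n : ℕ) (Q : QuadraticForm (ZMod 3) (Fin n → ZMod 3)) (hQ : (QuadraticMap.polarBilin Q).Nondegenerate) (u v : Fin n → ZMod 3) (hu : Q u ≠ 0) (huv : Q u = Q v) (h1 : v ≠ u) (h2 : v ≠ -u) : Commute (Cfsg.reflectionMatrix (⇑Q) u) (Cfsg.reflectionMatrix (⇑Q) v) ↔ QuadraticMap.polar (⇑Q) u v = 0 := by
  have hv : Q v ≠ 0 := huv ▸ hu
  have h3 : ∀ x : ZMod 3, x * x = 1 → x = 1 ∨ x = -1 := by decide
  refine ⟨fun hc => ?_, fun h => ?_⟩
  · have e := congrArg (fun M => Matrix.mulVec M v) hc.eq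
    simp only [← Matrix.mulVec_mulVec] at e
    rw [CfsgLib.Reflect.reflection_self Q v hv, Matrix.mulVec_neg,
      CfsgLib.Reflect.reflection_mulVec Q u v, Matrix.mulVec_sub, Matrix.mulVec_smul,
      CfsgLib.Reflect.reflection_self Q v hv, CfsgLib.Reflect.reflection_mulVec Q v u] at e
    by_contra h
    have h' : QuadraticMap.polar ⇑Q v u ≠ 0 := by rwa [QuadraticMap.polar_comm]
    have e2 : (((Q u)⁻¹ * QuadraticMap.polar ⇑Q u v) * 2) • u =
        (((Q u)⁻¹ * QuadraticMap.polar ⇑Q u v) * ((Q v)⁻¹ * QuadraticMap.polar ⇑Q v u)) • v := by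
      linear_combination (norm := module) e
    obtain ⟨t, ht⟩ : ∃ t, u = t • v := by
      refine ⟨(((Q u)⁻¹ * QuadraticMap.polar ⇑Q u v) * 2)⁻¹ *
        (((Q u)⁻¹ * QuadraticMap.polar ⇑Q u v) * ((Q v)⁻¹ * QuadraticMap.polar ⇑Q v u)), ?_⟩
      rw [mul_smul, ← e2, smul_smul, inv_mul_cancel₀, one_smul]
      exact mul_ne_zero (mul_ne_zero (inv_ne_zero hu) h) (by decide)
    have hq : Q u = t * t * Q v := by rw [ht, QuadraticMap.map_smul, smul_eq_mul]
    have htt : t * t = 1 := mul_right_cancel₀ hv (by rw [← hq, one_mul, huv])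
    rcases h3 t htt with rfl | rfl
    · exact h1 (by rw [ht, one_smul])
    · exact h2 (by rw [ht, neg_one_smul, neg_neg])
  · refine Matrix.ext_iff_mulVec.mpr fun x => ?_
    simp only [← Matrix.mulVec_mulVec, CfsgLib.Reflect.reflection_mulVec,
      QuadraticMap.polar_sub_right, QuadraticMap.polar_smul_right, smul_eq_mul, h,
      QuadraticMap.polar_comm ⇑Q v u]
    module

end Cfsg.Agent.S5358
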