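import Cfsg.Statements.S5359
import Cfsg.Agent.Lib.Classical.OrthClassRefl
-- import your own Cfsg.Agent.* helpers here

set_option autoImplicit false
open scoped MatrixGroups
open Cfsg

namespace Cfsg.Agent.S5359

/-- Let Q be a non-degenerate quadratic form on the n-dimensional coordinate space over the field with three elements, n odd and at least 5, and c a non-zero scalar. Then the subgroup of the isometry group of Q generated by the reflections in vectors of norm c has index 2 in the isometry group. -/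
theorem result (n : ℕ) (hn : 5 ≤ n) (hodd : Odd n) (Q : QuadraticForm (ZMod 3) (Fin n → ZMod 3)) (hQ : (QuadraticMap.polarBilin Q).Nondegenerate) (c : ZMod 3) (hc : c ≠ 0) : (Cfsg.reflectionSubgroup (⇑Q) c).index = 2 := by
  have hB : CfsgLib.Orth.Nondeg Q := fun x hx => hQ.1 x hx
  refine Eq.trans ?_ (CfsgLib.Orth.index_classRefl hB (by decide +kernel : (2 : ZMod 3) ≠ 0)
    (Or.inr (Or.inr (by rw [Module.finrank_fin_fun]; omega))) hc)
  refine congrArg (fun s => (Subgroup.closure s).index) (Set.ext fun g => ⟨?_, ?_⟩)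
  · rintro ⟨v, hv, hg⟩
    exact ⟨v, (CfsgLib.Orth.refl_iff (by rw [hv]; exact hc)).2 hg, c, by rw [hv]⟩
  · rintro ⟨v, hv, k, hk⟩
    refine ⟨v, ?_, (CfsgLib.Orth.refl_iff hv.1).1 hv⟩
    exact (by decide +kernel : ∀ q c k : ZMod 3, q ≠ 0 → c ≠ 0 → q * c = k * k → q = c) _ _ _ hv.1 hc hk

end Cfsg.Agent.S5359
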