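import Cfsg.Statements.S5361
import Cfsg.Agent.Lib.ThreeTransp.Main
-- import your own Cfsg.Agent.* helpers here

set_option autoImplicit false
open Cfsg

namespace Cfsg.Agent.S5361

/-- Let D be a conjugacy class of 3-transpositions generating the finite group G, and suppose the centre of G is trivial and some two different members of D commute. Then the following are equivalent: (1) the commutator subgroup of G is simple (possibly of prime order); (2) G acts primitively on D by conjugation; (3) the largest normal 2-subgroup and the largest normal 3-subgroup of G are trivial and the commuting graph of D is connected. -/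
theorem result {G : Type*} [Group G] [Finite G] {D : Set G} (hD : Cfsg.IsThreeTranspositionClass D) (hZ : Subgroup.center G = ⊥) (hw : ∃ a ∈ D, ∃ b ∈ D, a ≠ b ∧ Commute a b) : (IsSimpleGroup (commutator G) ↔ Cfsg.IsPrimitiveUnderConj D) ∧ (Cfsg.IsPrimitiveUnderConj D ↔ (Cfsg.pCore 2 G = ⊥ ∧ Cfsg.pCore 3 G = ⊥ ∧ (Cfsg.commutingGraph D).Connected)) := by
  have hS := hD.1
  have hc := CfsgLib.ThreeTransp.class_conjClosed hD
  obtain ⟨p₀, hp₀, q₀, hq₀, hpq, hpqc⟩ := hw
  have hw' : ∃ a ∈ D, ∃ b ∈ D, a ≠ b ∧ Commute a b := ⟨p₀, hp₀, q₀, hq₀, hpq, hpqc⟩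
  have hD2 : ∃ a ∈ D, ∃ b ∈ D, a ≠ b := ⟨p₀, hp₀, q₀, hq₀, hpq⟩
  have hG := CfsgLib.ThreeTransp.class_isGroup hD
  have key : Cfsg.IsPrimitiveUnderConj D →
      Cfsg.pCore 2 G = ⊥ ∧ Cfsg.pCore 3 G = ⊥ ∧ (Cfsg.commutingGraph D).Connected := fun h =>
    ⟨le_bot_iff.mp (hZ ▸ CfsgLib.ThreeTransp.pCore_two_le_center hG h),
      le_bot_iff.mp (hZ ▸ CfsgLib.ThreeTransp.pCore_three_le_center hG h hw'),
      CfsgLib.ThreeTransp.connected_of_primitive hG h hw'⟩
  have back : Cfsg.pCore 2 G = ⊥ ∧ Cfsg.pCore 3 G = ⊥ ∧ (Cfsg.commutingGraph D).Connected →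
      Cfsg.IsPrimitiveUnderConj D ∧ IsSimpleGroup (commutator G) := by
    rintro ⟨h2, h3, hconn⟩
    obtain ⟨hL, hq, -⟩ := CfsgLib.ThreeTransp.layer_structure hD hD2 (h2.trans_le bot_le) (h3.trans_le bot_le)
    haveI : (Cfsg.layer G).Normal := CfsgLib.Layer.layer_normal
    have hidx := CfsgLib.ThreeTransp.index_le_two_of_connected hD hL hconn
    refine ⟨CfsgLib.ThreeTransp.primitive_of_index_le_two hD hD2 (h2.trans_le bot_le)
      (h3.trans_le bot_le) hL hidx, ?_⟩
    have heq : commutator G = Cfsg.layer G := by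
      refine le_antisymm ?_ ?_
      · refine Subgroup.Normal.commutator_le_of_self_sup_commutative_eq_top (H := Subgroup.zpowers p₀) ?_ ?_
        · exact CfsgLib.ThreeTransp.sup_zpowers_eq_top hD hidx hp₀
        · infer_instance
      · rw [← CfsgLib.Layer.commutator_layer_self (G := G)]
        exact Subgroup.commutator_mono le_top le_top
    have hcenter : Subgroup.center (Cfsg.layer G) = ⊥ := by
      have hsol : Group.IsSolvable ((Subgroup.center (Cfsg.layer G)).map (Cfsg.layer G).subtype) := by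
        haveI : IsMulCommutative ((Subgroup.center (Cfsg.layer G)).map (Cfsg.layer G).subtype) :=
          Subgroup.map_isMulCommutative _ _
        exact Group.isSolvable_of_comm fun a b => mul_comm' a b
      haveI : Group.IsNilpotent ((Subgroup.center (Cfsg.layer G)).map (Cfsg.layer G).subtype) := by
        haveI : IsMulCommutative ((Subgroup.center (Cfsg.layer G)).map (Cfsg.layer G).subtype) :=
          Subgroup.map_isMulCommutative _ _
        open scoped IsMulCommutative in infer_instance
      have hle : (Subgroup.center (Cfsg.layer G)).map (Cfsg.layer G).subtype ≤ ⊥ :=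
        (CfsgLib.Fitting.le_fittingSubgroup inferInstance inferInstance).trans (hZ ▸
          CfsgLib.ThreeTransp.fittingSubgroup_le_center hS hc hD.2.2 (h2.trans_le bot_le) (h3.trans_le bot_le))
      rwa [le_bot_iff, Subgroup.map_eq_bot_iff_of_injective _ (Cfsg.layer G).subtype_injective] at hle
    haveI := hq.2
    rw [heq]
    haveI := CfsgLib.Layer.nontrivial_of_isQuasisimple hq
    exact IsSimpleGroup.isSimpleGroup_of_surjective
      ((QuotientGroup.quotientMulEquivOfEq hcenter).trans QuotientGroup.quotientBot).toMonoidHom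
      (((QuotientGroup.quotientMulEquivOfEq hcenter).trans QuotientGroup.quotientBot).surjective)
  refine ⟨⟨fun hsimp => ?_, fun h => (back (key h)).2⟩, ⟨key, fun h => (back h).1⟩⟩
  haveI := hsimp
  refine CfsgLib.ThreeTransp.primitive_of_simple_derived ?_ hD
  by_contra! hcomm
  obtain ⟨g, hg⟩ := CfsgLib.ThreeTransp.class_exists_conj hD hp₀ hq₀
  have hmem : p₀ * q₀ ∈ commutator G := by
    rw [← hg, show p₀ * (g * p₀ * g⁻¹) = (g * p₀ * g⁻¹ * p₀⁻¹)⁻¹ * (g * p₀ * g⁻¹ * (g * p₀ * g⁻¹)) by
      rw [← mul_assoc]; simp [mul_assoc]]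
    rw [CfsgLib.ThreeTransp.mul_self_eq_one hS (hc g p₀ hp₀), mul_one]
    exact inv_mem (Subgroup.commutator_mem_commutator (Subgroup.mem_top g) (Subgroup.mem_top p₀))
  letI : CommGroup (commutator G) := { (inferInstance : Group (commutator G)) with mul_comm := hcomm }
  set x : commutator G := ⟨p₀ * q₀, hmem⟩
  have hx2 : orderOf x = 2 := orderOf_eq_prime
    (Subtype.ext (by simpa using (CfsgLib.ThreeTransp.commute_iff_mul_pow_two hS hp₀ hq₀).mp hpqc))
    (fun h => hpq (by
      rw [eq_inv_of_mul_eq_one_left (congrArg Subtype.val h), CfsgLib.ThreeTransp.inv_eq_self hS hq₀]))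
  have hp := IsSimpleGroup.prime_card (α := commutator G)
  have h2 : Nat.card (commutator G) = 2 :=
    ((Nat.prime_dvd_prime_iff_eq Nat.prime_two hp).mp (hx2 ▸ orderOf_dvd_natCard x)).symm
  have hfix : ∀ h : G, h * (p₀ * q₀) * h⁻¹ = p₀ * q₀ := by
    intro h
    have hu := (Nat.card_eq_two_iff' (1 : commutator G)).mp h2
    have hm : h * (p₀ * q₀) * h⁻¹ ∈ commutator G := Subgroup.Normal.conj_mem inferInstance _ hmem h
    have hne : (⟨_, hm⟩ : commutator G) ≠ 1 := fun e => by
      have e' : p₀ * q₀ = 1 := by simpa using congrArg Subtype.val e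
      exact hpq (by rw [eq_inv_of_mul_eq_one_left e', CfsgLib.ThreeTransp.inv_eq_self hS hq₀])
    have hxne : x ≠ 1 := fun e => by rw [e, orderOf_one] at hx2; norm_num at hx2
    exact congrArg Subtype.val (hu.unique hne hxne)
  have hmemZ : p₀ * q₀ ∈ Subgroup.center G :=
    Subgroup.mem_center_iff.mpr fun h => mul_inv_eq_iff_eq_mul.mp (hfix h)
  rw [hZ, Subgroup.mem_bot] at hmemZ
  exact hpq (by rw [eq_inv_of_mul_eq_one_left hmemZ, CfsgLib.ThreeTransp.inv_eq_self hS hq₀])

end Cfsg.Agent.S5361
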