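import Cfsg.Statements.S5363
import Mathlib

set_option autoImplicit false
set_option linter.style.haveILetI false
open Cfsg

namespace Cfsg.Agent.S5363

/-- In the dihedral group of two involutions, `a (a b) ^ m` is conjugate to `a` or to `b`. -/
theorem isConj_or_of_invol {G : Type*} [Group G] {a b : G} (ha : a * a = 1) (hb : b * b = 1) :
    ∀ m : ℕ, IsConj a (a * (a * b) ^ m) ∨ IsConj b (a * (a * b) ^ m) := by
  have hai : a⁻¹ = a := inv_eq_of_mul_eq_one_right ha
  have hbi : b⁻¹ = b := inv_eq_of_mul_eq_one_right hb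
  intro m
  induction m using Nat.twoStepInduction with
  | zero => left; rw [pow_zero, mul_one]
  | one =>
    right
    rw [pow_one, ← mul_assoc, ha, one_mul]
  | more m ih _ =>
    have e : a * (a * b) ^ (m + 2) = (a * b)⁻¹ * (a * (a * b) ^ m) * (a * b) := by
      rw [pow_succ, pow_succ', mul_inv_rev, hai, hbi]
      simp only [← mul_assoc]
      rw [ha, one_mul, mul_assoc b a a, ha, mul_one]
    have hc : IsConj (a * (a * b) ^ m) (a * (a * b) ^ (m + 2)) :=
      isConj_iff.mpr ⟨(a * b)⁻¹, by rw [inv_inv, e]⟩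
    exact ih.imp (fun h => h.trans hc) (fun h => h.trans hc)

/-- Let D be a conjugation-invariant set of involutions of a finite group G. Then every product of two members of D has odd order or order 2 if and only if, for every a in D and every b in D different from a and commuting with a, the members of D commuting with a b are exactly those commuting with both a and b. -/
theorem result {G : Type*} [Group G] [Finite G] {D : Set G} (hinv : ∀ d ∈ D, orderOf d = 2) (hconj : ∀ g : G, ∀ d ∈ D, g * d * g⁻¹ ∈ D) : (∀ a ∈ D, ∀ b ∈ D, Odd (orderOf (a * b)) ∨ orderOf (a * b) = 2) ↔ ∀ a ∈ D, ∀ b ∈ D, b ≠ a → Commute a b → {y : G | y ∈ D ∧ Commute (a * b) y} = {y : G | y ∈ D ∧ Commute a y} ∩ {y : G | y ∈ D ∧ Commute b y} := by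
  classical
  have hsq : ∀ d ∈ D, d * d = 1 := fun d hd => by rw [← pow_two, ← hinv d hd, pow_orderOf_eq_one]
  have hD : ∀ d ∈ D, ∀ y, IsConj d y → y ∈ D := fun d hd y hy => by
    obtain ⟨c, rfl⟩ := isConj_iff.mp hy
    exact hconj c d hd
  have commute_of : ∀ a ∈ D, ∀ b ∈ D, orderOf (a * b) ∣ 2 → Commute a b := by
    intro a ha b hb h
    have h1 : a * b * (a * b) = 1 := by rw [← pow_two]; exact orderOf_dvd_iff_pow_eq_one.mp h
    have hai : a⁻¹ = a := inv_eq_of_mul_eq_one_right (hsq a ha)
    have hbi : b⁻¹ = b := inv_eq_of_mul_eq_one_right (hsq b hb)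
    have h2 := inv_eq_of_mul_eq_one_right h1
    rw [mul_inv_rev, hai, hbi] at h2
    exact h2.symm
  constructor
  · intro hodd a ha b hb hne hab
    ext y
    refine ⟨?_, ?_⟩
    swap
    · rintro ⟨⟨hy, hay⟩, -, hby⟩
      exact ⟨hy, hay.mul_left hby⟩
    rintro ⟨hy, habY⟩
    have hay : Commute a y := by
      rcases hodd a ha y hy with ho | ho
      swap
      · exact commute_of a ha y hy ho.dvd
      set r := a * y with hr
      have hca : Commute (a * b) a := (Commute.refl a).mul_left hab.symm
      have hcr : Commute (a * b) r := hca.mul_right habY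
      have hby : b * y = (a * b) * r := by
        rw [hr, hab.eq, mul_assoc, ← mul_assoc a a y, hsq a ha, one_mul]
      have h1 : (b * y) ^ 2 = r ^ 2 := by
        rw [hby, hcr.mul_pow, hab.mul_pow, pow_two a, pow_two b, hsq a ha, hsq b hb, one_mul, one_mul]
      rcases hodd b hb y hy with ho' | ho'
      · exfalso
        obtain ⟨j, hj⟩ := ho'
        have hord : (b * y) ^ (2 * (j + 1)) = b * y := by
          rw [show 2 * (j + 1) = 2 * j + 1 + 1 by ring, pow_succ, ← hj, pow_orderOf_eq_one, one_mul]
        have hr2 : a * b * r = r ^ (2 * (j + 1)) := by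
          rw [pow_mul, ← h1, ← pow_mul, hord, hby]
        have hab' : a * b = r ^ (2 * j + 1) := by
          apply mul_right_cancel (b := r)
          rw [hr2, ← pow_succ]
          congr 1
        have hd2 : orderOf (a * b) ∣ 2 := orderOf_dvd_of_pow_eq_one (by
          rw [hab.mul_pow, pow_two, pow_two, hsq a ha, hsq b hb, one_mul])
        have hdr : orderOf (a * b) ∣ orderOf r := by rw [hab']; exact orderOf_pow_dvd _
        have := orderOf_eq_one_iff.mp (Nat.eq_one_of_dvd_coprimes
          (Nat.coprime_two_left.mpr ho) hd2 hdr)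
        exact hne ((eq_inv_of_mul_eq_one_right this).trans (inv_eq_of_mul_eq_one_right (hsq a ha)))
      · have h2 : r ^ 2 = 1 := by rw [← h1, ← ho', pow_orderOf_eq_one]
        exact commute_of a ha y hy (orderOf_dvd_of_pow_eq_one h2)
    have hb' : Commute b y := by
      have h1 := hay.mul_left habY
      rwa [← mul_assoc, hsq a ha, one_mul] at h1
    exact ⟨⟨hy, hay⟩, hy, hb'⟩
  · intro h a ha b hb
    rcases Nat.even_or_odd (orderOf (a * b)) with ⟨m, hm⟩ | ho
    swap
    · exact Or.inl ho
    right
    have hai : a⁻¹ = a := inv_eq_of_mul_eq_one_right (hsq a ha)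
    have hbi : b⁻¹ = b := inv_eq_of_mul_eq_one_right (hsq b hb)
    set z := (a * b) ^ m with hz
    have hz2 : z * z = 1 := by rw [hz, ← pow_add, ← hm, pow_orderOf_eq_one]
    have hzi : z⁻¹ = z := inv_eq_of_mul_eq_one_right hz2
    have hconjz : ∀ c : G, c * (a * b) * c⁻¹ = (a * b)⁻¹ → Commute c z := fun c hc => by
      have : c * z * c⁻¹ = z := by rw [hz, ← conj_pow, hc, inv_pow, ← hz, hzi]
      exact mul_inv_eq_iff_eq_mul.mp this
    have haz : Commute a z := hconjz a (by rw [mul_inv_rev, hai, hbi, ← mul_assoc, hsq a ha, one_mul])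
    have hbz : Commute b z := hconjz b (by
      rw [mul_inv_rev, hai, hbi, mul_assoc b, mul_assoc a b b, hsq b hb, mul_one])
    have hzne : z ≠ 1 := fun e => by
      have h1 := orderOf_dvd_of_pow_eq_one (e : (a * b) ^ m = 1)
      have hpos := orderOf_pos (a * b)
      rw [hm] at h1 hpos
      have := Nat.le_of_dvd (by omega) h1
      omega
    have hazD : a * z ∈ D := by
      rcases isConj_or_of_invol (hsq a ha) (hsq b hb) m with e | e
      · exact hD a ha _ e
      · exact hD b hb _ e
    have hset := h a ha (a * z) hazD (fun e => hzne (mul_eq_left.mp e))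
      ((Commute.refl a).mul_right haz)
    have hmem : b ∈ {y : G | y ∈ D ∧ Commute (a * (a * z)) y} := ⟨hb, by
      rw [← mul_assoc, hsq a ha, one_mul]; exact hbz.symm⟩
    rw [hset] at hmem
    have hab : Commute a b := hmem.1.2
    have h2 : orderOf (a * b) ∣ 2 := orderOf_dvd_of_pow_eq_one (by
      rw [hab.mul_pow, pow_two, pow_two, hsq a ha, hsq b hb, one_mul])
    rw [hm] at h2 ⊢
    have := orderOf_pos (a * b)
    have := Nat.le_of_dvd two_pos h2
    omega

end Cfsg.Agent.S5363
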