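import Cfsg.Statements.S5364
import Cfsg.Agent.Lib.ThreeTransp.Basic
-- import your own Cfsg.Agent.* helpers here

set_option autoImplicit false
open Cfsg

namespace Cfsg.Agent.S5364

/-- Let D be a conjugation-invariant set of involutions of a finite group G and t an involution in the centre of G such that d t does not lie in D for any d in D. If the images of the members of D in G modulo the subgroup generated by t satisfy the 3-transposition order conditions (each has order 2 and any two have product of order at most 3), then so do the members of D. -/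
theorem result {G : Type*} [Group G] [Finite G] {D : Set G} (hinv : ∀ d ∈ D, orderOf d = 2) (hconj : ∀ g : G, ∀ d ∈ D, g * d * g⁻¹ ∈ D) (t : G) (ht : orderOf t = 2) (htZ : t ∈ Subgroup.center G) (hDt : ∀ d ∈ D, d * t ∉ D) [(Subgroup.zpowers t).Normal] (himg : Cfsg.IsThreeTranspositionSet ((QuotientGroup.mk : G → G ⧸ Subgroup.zpowers t) '' D)) : Cfsg.IsThreeTranspositionSet D := by
  refine ⟨hinv, fun d hd e he => ?_⟩
  have sd : d * d = 1 := by
    have h := pow_orderOf_eq_one d; rw [hinv d hd, pow_two] at h; exact h
  have se : e * e = 1 := by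
    have h := pow_orderOf_eq_one e; rw [hinv e he, pow_two] at h; exact h
  have hz : ∀ y ∈ Subgroup.zpowers t, y = 1 ∨ y = t := by
    intro y hy
    have hc : (Subgroup.zpowers t : Set G).ncard = 2 := by
      rw [← Nat.card_coe_set_eq]; exact (Nat.card_zpowers t).trans ht
    have ht1 : (1 : G) ≠ t := fun h => by rw [← h, orderOf_one] at ht; norm_num at ht
    have heq : ({1, t} : Set G) = (Subgroup.zpowers t : Set G) := Set.eq_of_subset_of_ncard_le
      (by rintro z (rfl | rfl)
          exacts [one_mem _, Subgroup.mem_zpowers _])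
      (by rw [hc, Set.ncard_pair ht1]) (Set.toFinite _)
    have : y ∈ ({1, t} : Set G) := heq ▸ hy
    simpa using this
  rcases himg.2 _ ⟨d, hd, rfl⟩ _ ⟨e, he, rfl⟩ with h | h <;>
    rw [← QuotientGroup.mk_mul, ← QuotientGroup.mk_pow, QuotientGroup.eq_one_iff] at h <;>
    rcases hz _ h with h | h
  · exact Or.inl h
  · refine absurd ?_ (hDt d hd)
    have h1 : d * t = e * d * e⁻¹ := by
      rw [← h, inv_eq_of_mul_eq_one_right se, pow_two,
        show d * (d * e * (d * e)) = (d * d) * (e * d * e) by group, sd, one_mul]
    exact h1 ▸ hconj e d hd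
  · exact Or.inr h
  · refine absurd ?_ (hDt d hd)
    have h1 : d * t = (e * d) * e * (e * d)⁻¹ := by
      rw [← h, mul_inv_rev, inv_eq_of_mul_eq_one_right se, inv_eq_of_mul_eq_one_right sd,
        show d * (d * e) ^ 3 = (d * d) * (e * d * e * d * e) by simp only [pow_succ, pow_zero, one_mul, mul_assoc], sd, one_mul]
      group
    exact h1 ▸ hconj (e * d) e he

end Cfsg.Agent.S5364
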