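import Cfsg.Statements.S5366
import Cfsg.Agent.Lib.ThreeTransp.FischerSpace

set_option autoImplicit false
open Cfsg

namespace Cfsg.Agent.S5366

/-- Let L be a nondegenerate Fischer space on the point type X (every point on a line). Then for every point x the map t(x) — sending a point collinear with x to the third point of their common line and fixing every other point — is a permutation of X of order 2 and an automorphism of the line system; and the set of all t(x) satisfies the 3-transposition order conditions in the permutation group of X (any two have product of order at most 3). -/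
theorem result {X : Type*} (L : Set (Set X)) (hL : Cfsg.IsFischerSpace L) (hnd : Cfsg.LineSystem.IsNondegenerate L) : (∀ x : X, ∃ σ : Equiv.Perm X, ⇑σ = Cfsg.LineSystem.lineMap L x ∧ orderOf σ = 2 ∧ Cfsg.LineSystem.IsIso L L σ) ∧ Cfsg.IsThreeTranspositionSet {σ : Equiv.Perm X | ∃ x : X, ⇑σ = Cfsg.LineSystem.lineMap L x} := by
  classical
  obtain ⟨hP, h3, hplane⟩ := id hL
  have hinv := CfsgLib.ThreeTransp.lineMap_lineMap hP h3
  have hne : ∀ x, CfsgLib.ThreeTransp.pointPerm hL x ≠ 1 := by
    intro x h
    obtain ⟨l, hl, hx⟩ := hnd x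
    obtain ⟨y, hy, hyx⟩ := Set.exists_ne_of_one_lt_ncard (by rw [h3 l hl]; norm_num) x
    obtain ⟨z, rfl, hzx, hzy⟩ := CfsgLib.ThreeTransp.exists_third h3 hl hx hy hyx.symm
    have h' := Equiv.ext_iff.mp h y
    rw [CfsgLib.ThreeTransp.pointPerm_apply, CfsgLib.ThreeTransp.lineMap_eq hP hl hyx.symm hzx hzy,
      Equiv.Perm.one_apply] at h'
    exact hzy h'
  have hord : ∀ x, orderOf (CfsgLib.ThreeTransp.pointPerm hL x) = 2 := fun x =>
    orderOf_eq_prime (by rw [pow_two]; exact CfsgLib.ThreeTransp.pointPerm_sq hL x) (hne x)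
  refine ⟨fun x => ⟨CfsgLib.ThreeTransp.pointPerm hL x, rfl, hord x, fun l => ⟨fun hl => ?_,
    fun hl => ?_⟩⟩, ?_⟩
  · exact CfsgLib.ThreeTransp.fischer_lineMap_image hL x hl
  · have h := CfsgLib.ThreeTransp.fischer_lineMap_image hL x hl
    have e : LineSystem.lineMap L x '' (CfsgLib.ThreeTransp.pointPerm hL x '' l) = l := by
      rw [Set.image_image]
      simp [CfsgLib.ThreeTransp.pointPerm_apply, hinv x]
    rwa [e] at h
  have hmem : ∀ σ : Equiv.Perm X, ∀ x, ⇑σ = LineSystem.lineMap L x →
      σ = CfsgLib.ThreeTransp.pointPerm hL x := fun σ x h => Equiv.ext fun y => congrFun h y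
  have hconj : ∀ x y, CfsgLib.ThreeTransp.pointPerm hL x * CfsgLib.ThreeTransp.pointPerm hL y *
      CfsgLib.ThreeTransp.pointPerm hL x
      = CfsgLib.ThreeTransp.pointPerm hL (LineSystem.lineMap L x y) := fun x y =>
    Equiv.ext fun z => CfsgLib.ThreeTransp.lineMap_conj hL x y z
  refine ⟨?_, ?_⟩
  · rintro σ ⟨x, hx⟩
    exact hmem σ x hx ▸ hord x
  · rintro σ ⟨x, hx⟩ τ ⟨y, hy⟩
    rw [hmem σ x hx, hmem τ y hy]
    have ha := CfsgLib.ThreeTransp.pointPerm_sq hL x
    have hb := CfsgLib.ThreeTransp.pointPerm_sq hL y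
    have hab := hconj x y
    have hba := hconj y x
    set a := CfsgLib.ThreeTransp.pointPerm hL x
    set b := CfsgLib.ThreeTransp.pointPerm hL y
    rcases eq_or_ne x y with rfl | hxy
    · have : a * b = 1 := ha
      exact Or.inl (by rw [this, one_pow])
    by_cases hc : LineSystem.Collinear L x y
    · obtain ⟨-, l, hl, hxl, hyl⟩ := hc
      obtain ⟨z, rfl, hzx, hzy⟩ := CfsgLib.ThreeTransp.exists_third h3 hl hxl hyl hxy
      rw [CfsgLib.ThreeTransp.lineMap_eq hP hl hxy hzx hzy] at hab
      rw [CfsgLib.ThreeTransp.lineMap_eq hP (by rwa [show ({y, x, z} : Set X) = {x, y, z} from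
        Set.insert_comm y x _]) hxy.symm hzy hzx] at hba
      have h : (a * b) ^ 3 = 1 := by
        rw [pow_succ, pow_two, show a * b * (a * b) * (a * b) = a * b * a * (b * a * b) by group,
          hab.trans hba.symm, show b * a * b * (b * a * b) = b * a * (b * b) * a * b by group,
          hb, mul_one, mul_assoc b a a, ha, mul_one, hb]
      exact Or.inr h
    · rw [CfsgLib.ThreeTransp.lineMap_of_not_collinear hc] at hab
      have h : (a * b) ^ 2 = 1 := by
        rw [pow_two, show a * b * (a * b) = a * b * a * b by group, hab]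
        exact hb
      exact Or.inl h

end Cfsg.Agent.S5366
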