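import Cfsg.Statements.S5367
import Cfsg.Agent.Lib.ThreeTransp.LinePlanes

set_option autoImplicit false
open Cfsg

namespace Cfsg.Agent.S5367

/-- Let D be a conjugation-invariant generating set of 3-transpositions of a finite group G. Then the line system on D whose lines are the triples {x, y, y x y⁻¹} for non-commuting members x, y of D is a Fischer space: two points lie on at most one line, lines have three points, and two different meeting lines generate a subspace isomorphic to the dual affine plane of order two or to the affine plane of order three. -/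
theorem result {G : Type*} [Group G] [Finite G] {D : Set G} (hD : Cfsg.IsThreeTranspositionGroup D) : Cfsg.IsFischerSpace (Cfsg.threeTranspositionLines D) := by
  obtain ⟨hS, hc, -⟩ := hD
  refine ⟨CfsgLib.ThreeTransp.lines_partialLinear hS hc, CfsgLib.ThreeTransp.lines_ncard hS hc, ?_⟩
  rintro l hl m hm hne ⟨x, hxl, hxm⟩
  have h3 := CfsgLib.ThreeTransp.lines_ncard hS hc
  obtain ⟨y, hyl, hyx⟩ := Set.exists_ne_of_one_lt_ncard (by rw [h3 l hl]; norm_num) x
  obtain ⟨z, hzm, hzx⟩ := Set.exists_ne_of_one_lt_ncard (by rw [h3 m hm]; norm_num) x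
  obtain ⟨hxy, hl'⟩ := CfsgLib.ThreeTransp.line_eq hS hc hl hxl hyl hyx.symm
  obtain ⟨hxz, hm'⟩ := CfsgLib.ThreeTransp.line_eq hS hc hm hxm hzm hzx.symm
  let y' : D := ⟨(y : G) * x * y, CfsgLib.ThreeTransp.conj_mem hS hc y.2 x.2⟩
  let z' : D := ⟨(z : G) * x * z, CfsgLib.ThreeTransp.conj_mem hS hc z.2 x.2⟩
  have hl2 : l = {x, y, y'} := Set.ext fun w => by
    simp only [hl' w, Set.mem_insert_iff, Set.mem_singleton_iff, Subtype.ext_iff, y']
  have hm2 : m = {x, z, z'} := Set.ext fun w => by
    simp only [hm' w, Set.mem_insert_iff, Set.mem_singleton_iff, Subtype.ext_iff, z']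
  have hznl : z ∉ l := fun h =>
    hne (CfsgLib.ThreeTransp.lines_partialLinear hS hc l hl m hm x z hzx.symm hxl h hxm hzm)
  have hzy : z ≠ y := fun h => hznl (h ▸ hyl)
  have hy'l : y' ∈ l := by rw [hl2]; simp
  have hzy' : z ≠ y' := fun h => hznl (h ▸ hy'l)
  by_cases hyz : Commute (y : G) z
  · refine Or.inl ?_
    rw [hl2, hm2]
    exact CfsgLib.ThreeTransp.plane_dual hS hc hxy hxz hyz hzy.symm rfl rfl
  by_cases hy'z : Commute (y' : G) z
  · refine Or.inl ?_
    have hy'' : (y' : G) = (x : G) * y * x :=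
      (CfsgLib.ThreeTransp.braid hS x.2 y.2 hxy).symm
    have hxy' : ¬ Commute (x : G) y' := fun h => hxy (by
      rw [hy''] at h
      have e := CfsgLib.ThreeTransp.conj_conj hS x.2 (y : G)
      rw [CfsgLib.ThreeTransp.conj_eq_of_commute hS x.2 h] at e
      exact CfsgLib.ThreeTransp.commute_of_conj_eq hS x.2 e)
    rw [show l = {x, y', y} by rw [hl2]; ext; simp; tauto, hm2]
    refine CfsgLib.ThreeTransp.plane_dual hS hc hxy' hxz hy'z hzy'.symm ?_ rfl
    rw [← CfsgLib.ThreeTransp.braid hS x.2 y'.2 hxy', hy'', CfsgLib.ThreeTransp.conj_conj hS x.2]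
  refine Or.inr ?_
  rw [hl2, hm2]
  exact CfsgLib.ThreeTransp.plane_affine hS hc hxy hxz hyz hy'z ⟨hzy, hzy'⟩ rfl rfl

end Cfsg.Agent.S5367
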