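import Cfsg.Statements.S5377
import Cfsg.Agent.Lib.M22Recog.Type
import Cfsg.Agent.Lib.USixFusion.Cover

set_option autoImplicit false
open Cfsg

namespace Cfsg.Agent.S5377

/-- Let G be a finite group with an involution d whose centralizer C is quasisimple with C modulo the subgroup generated by d isomorphic to the projective special unitary group of dimension 6 over the field with four elements, and suppose some conjugate of d other than d commutes with d. Then the conjugacy class of d is a class of 3-transpositions generating G, and G with this class is of type M(22). -/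
theorem result {G : Type*} [Group G] [Finite G] (d : G) (hd : orderOf d = 2) (hq : Cfsg.IsQuasisimple (Subgroup.centralizer ({d} : Set G))) [((Subgroup.zpowers d).subgroupOf (Subgroup.centralizer ({d} : Set G))).Normal] (K : Type) [Field K] [Fintype K] (hK : Fintype.card K = 4) (e : (Subgroup.centralizer ({d} : Set G)) ⧸ (Subgroup.zpowers d).subgroupOf (Subgroup.centralizer ({d} : Set G)) ≃* Cfsg.PSU 6 K 2) (hnwc : ∃ g : G, g * d * g⁻¹ ∈ Subgroup.centralizer ({d} : Set G) ∧ g * d * g⁻¹ ≠ d) : Cfsg.IsThreeTranspositionClass (conjugatesOf d) ∧ Cfsg.IsOfTypeM22 G (conjugatesOf d) := by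
  classical
  haveI : Fact (Nat.Prime 2) := ⟨Nat.prime_two⟩
  haveI : Finite Cfsg.Spor.Fi22 := CfsgLib.Fi22Pres.finite_and_card.1
  obtain ⟨e₁⟩ := CfsgLib.GTwoTwo.psu_equiv
    (FiniteField.ringEquivOfCardEq (K := K) (K' := CfsgLib.HePres.K4) (by rw [hK, CfsgLib.HePres.K4.card_eq])) 6 2
  have hC : ∀ c, c ∈ (Subgroup.centralizer ({d} : Set G)) ↔ Commute c d := fun c => Subgroup.mem_centralizer_singleton_iff
  have hdC : d ∈ (Subgroup.centralizer ({d} : Set G)) := (hC d).mpr (Commute.refl d)
  generalize hCdef : Subgroup.centralizer ({d} : Set G) = C at *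
  set N := (Subgroup.zpowers d).subgroupOf C with hN
  have hcen : N ≤ Subgroup.center _ := fun n hn => Subgroup.mem_center_iff.2 fun c => Subtype.ext (by
    obtain ⟨k, hk⟩ := Subgroup.mem_subgroupOf.1 hn
    show (c : G) * (n : G) = (n : G) * (c : G)
    rw [← hk]
    exact (((hC c).1 c.2).zpow_right k).eq)
  have hcard : Nat.card N = 2 := by
    rw [Nat.card_congr (Subgroup.subgroupOfEquivOfLe (Subgroup.zpowers_le.2 hdC)).toEquiv, Nat.card_zpowers, hd]
  let ε : Shrink.{0} C ≃* C := Shrink.mulEquiv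
  let τ₀ : C →* Cfsg.PSU 6 CfsgLib.HePres.K4 2 := (e.trans e₁).toMonoidHom.comp (QuotientGroup.mk' N)
  let τ : Shrink.{0} C →* Cfsg.PSU 6 CfsgLib.HePres.K4 2 := τ₀.comp ε.toMonoidHom
  have hk₀ : ∀ c, τ₀ c = 1 ↔ c ∈ N := fun c => (e.trans e₁).map_eq_one_iff.trans (QuotientGroup.eq_one_iff c)
  have hstem : Cfsg.IsStemExtension τ := by
    refine ⟨((e.trans e₁).surjective.comp (QuotientGroup.mk'_surjective N)).comp ε.surjective, fun x hx => ?_, fun x _ => ?_⟩
    · refine Subgroup.mem_center_iff.2 fun y => ε.injective ?_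
      rw [map_mul, map_mul]
      exact Subgroup.mem_center_iff.1 (hcen ((hk₀ (ε x)).1 hx)) (ε y)
    · have h : (commutator C).map ε.symm.toMonoidHom ≤ commutator (Shrink.{0} C) := by
        rw [commutator_def, Subgroup.map_commutator, commutator_def]
        exact Subgroup.commutator_mono le_top le_top
      rw [← ε.symm_apply_apply x]
      exact h (Subgroup.mem_map_of_mem ε.symm.toMonoidHom (hq.1.1.symm ▸ Subgroup.mem_top (ε x)))
  have hker : Nat.card τ.ker = 2 := by
    refine Eq.trans ?_ hcard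
    exact Nat.card_congr (ε.toEquiv.subtypeEquiv fun x => hk₀ (ε x))
  haveI : Finite (Shrink.{0} C) := Finite.of_equiv _ ε.symm.toEquiv
  obtain ⟨θ'⟩ := CfsgLib.USixFusion.exists_cover hstem hker
  let θ := θ'.trans ε
  let z : CfsgLib.Fi22Pres.subA := ⟨CfsgLib.Fi22Pres.gen 0, CfsgLib.TypeM22.gen0_mem⟩
  have hθz : (θ z : G) = d := by
    have hc : θ z ∈ Subgroup.center C := Subgroup.mem_center_iff.2 fun c => by
      obtain ⟨y, rfl⟩ := θ.surjective c
      rw [← map_mul, ← map_mul]
      exact congrArg θ (Subtype.ext (CfsgLib.Fi22USix.comm_central _ y.2))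
    have h1 : τ₀ (θ z) ∈ Subgroup.center (Cfsg.PSU 6 CfsgLib.HePres.K4 2) := Subgroup.mem_center_iff.2 fun q => by
      obtain ⟨c, rfl⟩ := ((e.trans e₁).surjective.comp (QuotientGroup.mk'_surjective N)) q
      show τ₀ c * τ₀ (θ z) = τ₀ (θ z) * τ₀ c
      rw [← map_mul, ← map_mul, Subgroup.mem_center_iff.1 hc c]
    rw [CfsgLib.Fi22USix.psu_center, Subgroup.mem_bot, hk₀, hN, Subgroup.mem_subgroupOf] at h1
    obtain ⟨k, hk⟩ := h1
    replace hk : d ^ k = (θ z : G) := hk
    have h2 : d ^ (2 : ℤ) = 1 := by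
      rw [show (2 : ℤ) = ((2 : ℕ) : ℤ) from rfl, zpow_natCast, ← hd, pow_orderOf_eq_one]
    rcases Int.even_or_odd' k with ⟨m, rfl | rfl⟩
    · rw [zpow_mul, h2, one_zpow] at hk
      exact absurd (congrArg Subtype.val (θ.injective (show θ z = θ 1 from Subtype.ext (by rw [← hk, map_one]; rfl))) :)
        CfsgLib.Fi22Pres.first_facts.2
    · rw [zpow_add, zpow_mul, h2, one_zpow, one_mul, zpow_one] at hk
      exact hk.symm
  let ι : CfsgLib.Fi22Pres.subA →* G := C.subtype.comp θ.toMonoidHom
  have hι : Function.Injective ι := C.subtype_injective.comp θ.injective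
  have hr : ι.range = C := by
    rw [MonoidHom.range_comp, MonoidHom.range_eq_top.mpr θ.surjective, ← MonoidHom.range_eq_map,
      Subgroup.range_subtype]
  have hz : ∀ x : CfsgLib.Fi22Pres.subA, (x : Cfsg.Spor.Fi22) = CfsgLib.Fi22Pres.gen 0 → ι x = d := fun x hx => by
    obtain rfl : x = z := Subtype.ext hx
    exact hθz
  have hD : ∀ g : G, ∀ x ∈ conjugatesOf d, g * x * g⁻¹ ∈ conjugatesOf d := fun g x hx =>
    IsConj.trans hx (isConj_iff.2 ⟨g, rfl⟩)
  have hsq : ∀ x ∈ conjugatesOf d, x * x = 1 := fun x hx => by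
    obtain ⟨g, rfl⟩ := isConj_iff.1 hx
    rw [show g * d * g⁻¹ * (g * d * g⁻¹) = g * (d * d) * g⁻¹ by group, ← pow_two, ← hd, pow_orderOf_eq_one,
      mul_one, mul_inv_cancel]
  have H : CfsgLib.M22Recog.Hyp (conjugatesOf d) :=
    { sq := hsq
      conj := hD
      ne_one := fun x hx h => by
        obtain ⟨g, rfl⟩ := isConj_iff.1 hx
        rw [conj_eq_one_iff] at h
        rw [h, orderOf_one] at hd
        exact absurd hd (by norm_num)
      loc := fun x hx => by
        obtain ⟨g, rfl⟩ := isConj_iff.1 hx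
        refine ⟨_, CfsgLib.M22Recog.Loc.map
          (⟨hι, fun c => by rw [hr]; exact hC c, hz,
            fun i hi => CfsgLib.M22Recog.frame_conj ι hd hC hι hr hz hnwc hi,
            fun y hy hyD => CfsgLib.M22Recog.frame_mem ι hd hC hι hr hz hnwc hy hyD,
            fun g hg hgn => CfsgLib.M22Recog.exists_fixed ι hd hC hι hr hz hnwc hg hgn⟩ :
            CfsgLib.M22Recog.Loc (conjugatesOf d) d ι) hD g⟩ }
  have hdD : d ∈ conjugatesOf d := IsConj.refl d
  exact ⟨H.class_three hdD, H.type22 hdD⟩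

end Cfsg.Agent.S5377
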