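import Cfsg.Statements.S5380
import Cfsg.Agent.Lib.SuzThree.Quasi
import Cfsg.Agent.Lib.SuzType.Build

set_option autoImplicit false
open Cfsg

namespace Cfsg.Agent.S5380

/-- Let G be a finite group of Suzuki sporadic type (involution z with generalized Fitting subgroup Q of its centralizer C extraspecial of order 2^7, C/Q the commutator subgroup of the isometry group of the elliptic quadratic form in dimension 6 over the field with two elements, z not weakly closed in Q), and let Y be a subgroup of C of order 3 whose commutator subgroup with Q is non-abelian of order 8 (a quaternion group). Then the centralizer of Y in G is quasisimple, its quotient by Y is isomorphic to the projective special unitary group of dimension 4 over the field with nine elements, and the centralizer of Y has index 2 in the normalizer of Y. -/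
theorem result {G : Type*} [Group G] [Finite G] (z : G) (hz : orderOf z = 2) (Q : Subgroup (Subgroup.centralizer ({z} : Set G))) [Q.Normal] (hF : Cfsg.generalizedFittingSubgroup (Subgroup.centralizer ({z} : Set G)) = Q) (hQ : Cfsg.IsExtraspecial 2 Q) (hcard : Nat.card Q = 2 ^ 7) (e : (Subgroup.centralizer ({z} : Set G)) ⧸ Q ≃* Cfsg.Omega (ZMod 2) (Cfsg.quadFormMinus 2 (ZMod 2) 1 1)) (hnwc : ∃ g : G, (∃ hq : g * z * g⁻¹ ∈ Subgroup.centralizer ({z} : Set G), (⟨g * z * g⁻¹, hq⟩ : Subgroup.centralizer ({z} : Set G)) ∈ Q) ∧ g * z * g⁻¹ ≠ z) (Y : Subgroup (Subgroup.centralizer ({z} : Set G))) (hY : Nat.card Y = 3) (hQY : Nat.card ↥⁅Q, Y⁆ = 8) (hQYna : ¬ IsMulCommutative ↥⁅Q, Y⁆) [((Y.map (Subgroup.subtype (Subgroup.centralizer ({z} : Set G)))).subgroupOf (Subgroup.centralizer ((Y.map (Subgroup.subtype (Subgroup.centralizer ({z} : Set G)))) : Set G))).Normal] (K : Type) [Field K] [Fintype K] (hK : Fintype.card K = 9) : Cfsg.IsQuasisimple ↥(Subgroup.centralizer ((Y.map (Subgroup.subtype (Subgroup.centralizer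 ({z} : Set G)))) : Set G)) ∧ Nonempty (↥(Subgroup.centralizer ((Y.map (Subgroup.subtype (Subgroup.centralizer ({z} : Set G)))) : Set G)) ⧸ (Y.map (Subgroup.subtype (Subgroup.centralizer ({z} : Set G)))).subgroupOf (Subgroup.centralizer ((Y.map (Subgroup.subtype (Subgroup.centralizer ({z} : Set G)))) : Set G)) ≃* Cfsg.PSU 4 K 3) ∧ (Subgroup.centralizer ((Y.map (Subgroup.subtype (Subgroup.centralizer ({z} : Set G)))) : Set G)).relIndex (Subgroup.normalizer ((Y.map (Subgroup.subtype (Subgroup.centralizer ({z} : Set G)))) : Set G)) = 2 := by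
  classical
  obtain ⟨v, H⟩ := CfsgLib.SuzType.exists_co z hz Q hF hQ hcard e hnwc
  haveI : Fact (Nat.Prime 3) := ⟨Nat.prime_three⟩
  haveI : IsCyclic Y := isCyclic_of_prime_card hY
  obtain ⟨g, hg⟩ := IsCyclic.exists_ofOrder_eq_natCard (α := Y)
  rw [hY] at hg
  have hgC : orderOf ((g : (Subgroup.centralizer ({z} : Set G))) : G) = 3 := by rw [Subgroup.orderOf_coe, Subgroup.orderOf_coe]; exact hg
  have hzp : Subgroup.zpowers (g : (Subgroup.centralizer ({z} : Set G))) = Y :=
    Subgroup.eq_of_le_of_card_ge ((Subgroup.zpowers_le).mpr g.2) (by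
      rw [hY, Nat.card_zpowers, Subgroup.orderOf_coe, hg])
  set y : G := ((g : (Subgroup.centralizer ({z} : Set G))) : G) with hy
  have hB : Y.map (Subgroup.centralizer ({z} : Set G)).subtype = Subgroup.zpowers y := by
    rw [← hzp, MonoidHom.map_zpowers]; rfl
  have hy3 : y * y * y = 1 := by
    have := pow_orderOf_eq_one y
    rwa [hgC, pow_succ, pow_two] at this
  have hy1 : y ≠ 1 := fun e => by rw [e, orderOf_one] at hgC; exact absurd hgC (by norm_num)
  have hyz : y * z = z * y := Subgroup.mem_centralizer_singleton_iff.mp (g : (Subgroup.centralizer ({z} : Set G))).2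
  let S : Finset CfsgLib.SuzType.V6 :=
    (Set.toFinite ((⁅Q, Y⁆ : Subgroup (Subgroup.centralizer ({z} : Set G))) : Set (Subgroup.centralizer ({z} : Set G)))).toFinset.image (fun c : ↥(Subgroup.centralizer ({z} : Set G)) => v (c : G))
  have hS : S.card ≤ 8 := by
    refine Finset.card_image_le.trans ?_
    rw [← Nat.card_eq_card_finite_toFinset]; exact hQY.le
  obtain ⟨v', D⟩ := CfsgLib.SuzThree.exists_yd H hy3 hy1 hyz S hS (fun a ha => by
    obtain ⟨q, hq, rfl⟩ := ha
    refine Finset.mem_image.mpr ⟨q⁻¹ * (g : (Subgroup.centralizer ({z} : Set G))) * (q⁻¹)⁻¹ * (g : (Subgroup.centralizer ({z} : Set G)))⁻¹, (Set.Finite.mem_toFinset _).mpr ?_, ?_⟩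
    · exact Subgroup.commutator_mem_commutator (inv_mem hq) g.2
    · have hq' : (q : G) ∈ Q.map (Subgroup.centralizer ({z} : Set G)).subtype := ⟨q, hq, rfl⟩
      have hm := H.conj_mem hyz hq'
      show v ((q : G)⁻¹ * y * ((q : G)⁻¹)⁻¹ * y⁻¹) = v ((q : G) * (y * (q : G) * y⁻¹))
      rw [show (q : G)⁻¹ * y * ((q : G)⁻¹)⁻¹ * y⁻¹ = (q : G)⁻¹ * (y * (q : G) * y⁻¹) by group,
        H.mul _ (inv_mem hq') _ hm, H.v_inv hq', H.mul _ hq' _ hm])
  exact CfsgLib.SuzThree.conclusion D hB K hK

end Cfsg.Agent.S5380
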