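import Cfsg.Statements.S5381
import Cfsg.Agent.Lib.CoOneThree.Perfect
import Cfsg.Agent.Lib.CoOneType.Build

set_option autoImplicit false
open scoped commutatorElement
open Cfsg

namespace Cfsg.Agent.S5381

/-- Let G be a finite group of Conway type (involution z with generalized Fitting subgroup Q of its centralizer C extraspecial of order 2^9, C/Q the commutator subgroup of the isometry group of the hyperbolic quadratic form in dimension 8 over the field with two elements, z not weakly closed in Q), and let X be a subgroup of C of order 3 whose commutator subgroup with Q is non-abelian of order 8, contained in an elementary abelian subgroup Y of C of order 9 whose centralizer in Q is extraspecial of order 32 containing an elementary abelian subgroup of order 8. Then the centralizer of X in G is quasisimple and its quotient by X is isomorphic to the presented sporadic Suzuki group. -/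
theorem result {G : Type*} [Group G] [Finite G] (z : G) (hz : orderOf z = 2) (Q : Subgroup (Subgroup.centralizer ({z} : Set G))) [Q.Normal] (hF : Cfsg.generalizedFittingSubgroup (Subgroup.centralizer ({z} : Set G)) = Q) (hQ : Cfsg.IsExtraspecial 2 Q) (hcard : Nat.card Q = 2 ^ 9) (e : (Subgroup.centralizer ({z} : Set G)) ⧸ Q ≃* Cfsg.Omega (ZMod 2) (Cfsg.quadFormPlus 4 (ZMod 2))) (hnwc : ∃ g : G, (∃ hq : g * z * g⁻¹ ∈ Subgroup.centralizer ({z} : Set G), (⟨g * z * g⁻¹, hq⟩ : Subgroup.centralizer ({z} : Set G)) ∈ Q) ∧ g * z * g⁻¹ ≠ z) (X : Subgroup (Subgroup.centralizer ({z} : Set G))) (hX : Nat.card X = 3) (hQX : Nat.card ↥⁅Q, X⁆ = 8) (hQXna : ¬ IsMulCommutative ↥⁅Q, X⁆) (Y₉ : Subgroup (Subgroup.centralizer ({z} : Set G))) (hXY : X ≤ Y₉) (hY₉ : Nat.card Y₉ = 9) (hY₉e : ∀ y ∈ Y₉, y ^ 3 = 1) (hCQ₉ : Cfsg.IsExtraspecial 2 ↥(Q ⊓ Subgroup.centralizer (Y₉ : Set (Subgroup.centralizer ({z} : Set G))))) (hCQ₉c : Nat.card ↥(Q ⊓ Subgroup.centralizer (Y₉ : Set (Subgroup.centralizer ({z} : Set G)))) = 32) (hCQ₉p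 : ∃ A : Subgroup (Subgroup.centralizer ({z} : Set G)), A ≤ Q ⊓ Subgroup.centralizer (Y₉ : Set (Subgroup.centralizer ({z} : Set G))) ∧ Cfsg.IsElementaryAbelian 2 A ∧ Nat.card A = 8) [((X.map (Subgroup.subtype (Subgroup.centralizer ({z} : Set G)))).subgroupOf (Subgroup.centralizer ((X.map (Subgroup.subtype (Subgroup.centralizer ({z} : Set G)))) : Set G))).Normal] : Cfsg.IsQuasisimple ↥(Subgroup.centralizer ((X.map (Subgroup.subtype (Subgroup.centralizer ({z} : Set G)))) : Set G)) ∧ Cfsg.Spor.IsoSuz (↥(Subgroup.centralizer ((X.map (Subgroup.subtype (Subgroup.centralizer ({z} : Set G)))) : Set G)) ⧸ (X.map (Subgroup.subtype (Subgroup.centralizer ({z} : Set G)))).subgroupOf (Subgroup.centralizer ((X.map (Subgroup.subtype (Subgroup.centralizer ({z} : Set G)))) : Set G))) := by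
  classical
  haveI : Fact (Nat.Prime 3) := ⟨Nat.prime_three⟩
  obtain ⟨v, H⟩ := CfsgLib.CoOneType.exists_co z hz Q hF hQ hcard e hnwc
  obtain ⟨a, ha⟩ := exists_prime_orderOf_dvd_card' (G := X) 3 (by rw [hX])
  set x : G := ((a : (Subgroup.centralizer ({z} : Set G))) : G) with hx
  have hxo : orderOf x = 3 := by rw [hx, Subgroup.orderOf_coe, Subgroup.orderOf_coe, ha]
  have hB : X.map (Subgroup.centralizer ({z} : Set G)).subtype = Subgroup.zpowers x := by
    refine (Subgroup.eq_of_le_of_card_ge (Subgroup.zpowers_le.mpr (show x ∈ _ from Subgroup.mem_map_of_mem _ a.2)) ?_).symm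
    rw [Nat.card_zpowers, hxo, Subgroup.card_map_of_injective (Subgroup.subtype_injective (Subgroup.centralizer ({z} : Set G))), hX]
  have hx3 : x * x * x = 1 := by
    have := pow_orderOf_eq_one x
    rwa [hxo, pow_succ, pow_two] at this
  have hx1 : x ≠ 1 := fun h => by rw [h, orderOf_one] at hxo; norm_num at hxo
  have hxz : x * z = z * x := Subgroup.mem_centralizer_singleton_iff.mp (a : (Subgroup.centralizer ({z} : Set G))).2
  -- the commutator group in coordinates
  set K := (⁅Q, X⁆).map (Subgroup.centralizer ({z} : Set G)).subtype with hK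
  have hKc : Nat.card K = 8 := by rw [hK, Subgroup.card_map_of_injective (Subgroup.subtype_injective (Subgroup.centralizer ({z} : Set G))), hQX]
  have hKR : K ≤ (Q.map (Subgroup.centralizer ({z} : Set G)).subtype) := Subgroup.map_mono (Subgroup.commutator_le_left Q X)
  have hzK : z ∈ K := by
    by_contra hzK
    refine hQXna ⟨⟨fun p q => ?_⟩⟩
    have hp : ((p : (Subgroup.centralizer ({z} : Set G))) : G) ∈ K := ⟨_, p.2, rfl⟩
    have hq : ((q : (Subgroup.centralizer ({z} : Set G))) : G) ∈ K := ⟨_, q.2, rfl⟩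
    rcases H.st.comm_cases (hKR hp) (hKR hq) with h | h
    · exact Subtype.ext (Subtype.ext (mul_inv_eq_iff_eq_mul.mp h))
    · refine absurd ?_ hzK
      have h1 := mul_mem (mul_mem (mul_mem hp hq) (inv_mem hp)) (inv_mem hq)
      rwa [h, mul_inv_cancel_right] at h1
  have hmemK : ∀ q ∈ (Q.map (Subgroup.centralizer ({z} : Set G)).subtype), x * q * x⁻¹ * q⁻¹ ∈ K := by
    intro q hq
    obtain ⟨q', hq', rfl⟩ := hq
    refine ⟨⁅(a : (Subgroup.centralizer ({z} : Set G))), q'⁆, ?_, by simp [commutatorElement_def, hx]⟩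
    rw [Subgroup.commutator_comm]
    exact Subgroup.commutator_mem_commutator a.2 hq'
  have hsmall : ∀ L : CfsgLib.CoOneType.Lin, (∀ q ∈ (Q.map (Subgroup.centralizer ({z} : Set G)).subtype), v (x * q * x⁻¹) = L (v q)) → CfsgLib.CoOneType.Good L →
      CfsgLib.CoOneType.Small L := by
    intro L hL _
    have hpre : ∀ d : (CfsgLib.CoOneType.del L).range, ∃ k ∈ K, v k = d.1 := by
      rintro ⟨_, w, rfl⟩
      obtain ⟨q, hq, rfl⟩ := H.surj w
      refine ⟨_, hmemK q hq, ?_⟩
      rw [H.mul _ (H.conj_mem hxz hq) _ (inv_mem hq), H.v_inv hq, hL q hq]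
      rfl
    choose k hk hkv using hpre
    let f : (CfsgLib.CoOneType.del L).range × Bool → K := fun p =>
      ⟨cond p.2 z 1 * k p.1, mul_mem (by cases p.2; exacts [one_mem _, hzK]) (hk p.1)⟩
    have hf : Function.Injective f := by
      rintro ⟨d, i⟩ ⟨d', i'⟩ he
      have he' : cond i z 1 * k d = cond i' z 1 * k d' := congrArg Subtype.val he
      have hv : ∀ (d : (CfsgLib.CoOneType.del L).range) (i : Bool), v (cond i z 1 * k d) = d.1 := fun d i => by
        cases i
        · rw [cond_false, one_mul, hkv]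
        · rw [cond_true, H.mul _ H.z_mem _ (hKR (hk d)), H.v_z, CfsgLib.CoOneType.zero_xr, hkv]
      have hd : d = d' := Subtype.ext (by rw [← hv d i, he', hv])
      subst hd
      have h2 := mul_right_cancel he'
      cases i <;> cases i'
      exacts [rfl, absurd h2.symm H.st.ne_one, absurd h2 H.st.ne_one, rfl]
    have h8 := Nat.card_le_card_of_injective f hf
    rw [Nat.card_prod, hKc, Nat.card_eq_fintype_card (α := Bool), Fintype.card_bool] at h8
    unfold CfsgLib.CoOneType.Small
    omega
  obtain ⟨M, hM, hMv⟩ := CfsgLib.CoOneThree.plane_act H hx3 hx1 hxz hsmall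
  have D : CfsgLib.CoOneThree.Pl z (Q.map (Subgroup.centralizer ({z} : Set G)).subtype) (fun q => M.symm (v q)) x := by
    refine ⟨?_, hx3, hx1, hxz, fun q hq => ?_⟩
    · exact CfsgLib.CoOneThree.co_move H (M := M⁻¹) (CfsgLib.CoOneType.good_inv hM)
    · show M.symm (v (x * q * x⁻¹)) = _
      rw [hMv q hq, M.symm_apply_apply]
  exact D.main hB

end Cfsg.Agent.S5381
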