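import Cfsg.Statements.S5382
import Cfsg.Agent.Lib.J2Type.Normalizer

set_option autoImplicit false
open Cfsg

namespace Cfsg.Agent.S5382

/-- Let G be a finite group of Hall–Janko type: it has more than one class of involutions and an involution z whose centralizer C has generalized Fitting subgroup Q extraspecial of order 32 with C/Q isomorphic to the commutator subgroup of the isometry group of the elliptic quadratic form in dimension 4 over the field with two elements (the alternating group of degree 5), with z not weakly closed in Q. Then for every involution t not conjugate to z, the centralizer of t is isomorphic to the direct product of an elementary abelian group of order 4 and the alternating group of degree 5, and the normalizer of the largest normal 2-subgroup of that centralizer is isomorphic to the direct product of the alternating groups of degrees 4 and 5. -/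
theorem result {G : Type*} [Group G] [Finite G] (z : G) (hz : orderOf z = 2) (Q : Subgroup (Subgroup.centralizer ({z} : Set G))) [Q.Normal] (hF : Cfsg.generalizedFittingSubgroup (Subgroup.centralizer ({z} : Set G)) = Q) (hQ : Cfsg.IsExtraspecial 2 Q) (hcard : Nat.card Q = 2 ^ 5) (e : (Subgroup.centralizer ({z} : Set G)) ⧸ Q ≃* Cfsg.Omega (ZMod 2) (Cfsg.quadFormMinus 1 (ZMod 2) 1 1)) (hnwc : ∃ g : G, (∃ hq : g * z * g⁻¹ ∈ Subgroup.centralizer ({z} : Set G), (⟨g * z * g⁻¹, hq⟩ : Subgroup.centralizer ({z} : Set G)) ∈ Q) ∧ g * z * g⁻¹ ≠ z) (hcl : ∃ x y : G, orderOf x = 2 ∧ orderOf y = 2 ∧ ¬ IsConj x y) (t : G) (ht : orderOf t = 2) (htz : ¬ IsConj t z) : Nonempty (↥(Subgroup.centralizer ({t} : Set G)) ≃* (Multiplicative (ZMod 2) × Multiplicative (ZMod 2)) × alternatingGroup (Fin 5)) ∧ Nonempty (↥(Subgroup.normalizer (((Cfsg.pCore 2 ↥(Subgroup.centralizer ({t} : Set G))).map (Subgroup.subtype (Subgroup.centralizer ({t} : Set G))) : Subgroup G) : Set G)) ≃* alternatingGroup (Fin 4) × alternatingGroup (Fin 5)) := by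
  obtain ⟨u, g, Q', K, C, V, M0, D⟩ := CfsgLib.J2Type.exists_data z hz Q hF hQ hcard e hnwc hcl
  obtain ⟨c, hc⟩ := isConj_iff.1 ((D.pair.classes t ht).resolve_left htz)
  set φ : G ≃* G := MulAut.conj c with hφ
  have hM : (Subgroup.centralizer ({t} : Set G)).map φ.toMonoidHom = Subgroup.centralizer ({u} : Set G) := by
    ext x
    rw [Subgroup.mem_map_equiv, Subgroup.mem_centralizer_singleton_iff,
      Subgroup.mem_centralizer_singleton_iff, ← φ.injective.eq_iff, map_mul, map_mul,
      MulEquiv.apply_symm_apply, show φ t = u from hc]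
  have hV : ((Cfsg.pCore 2 ↥(Subgroup.centralizer ({t} : Set G))).map
      (Subgroup.subtype (Subgroup.centralizer ({t} : Set G))) : Subgroup G).map φ.toMonoidHom = V := by
    ext x
    rw [Subgroup.mem_map_equiv, D.pCore_conj hc]
    rw [show c * φ.symm x * c⁻¹ = x from φ.apply_symm_apply x]
  obtain ⟨e1⟩ := D.equiv_M
  obtain ⟨e2⟩ := D.equiv_N
  refine ⟨⟨((Subgroup.equivMapOfInjective _ φ.toMonoidHom φ.injective).trans
    (MulEquiv.subgroupCongr hM)).trans e1⟩, ⟨((Subgroup.equivMapOfInjective _ φ.toMonoidHom φ.injective).trans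
    (MulEquiv.subgroupCongr ?_)).trans e2⟩⟩
  rw [Subgroup.map_equiv_normalizer_eq, hV]

end Cfsg.Agent.S5382
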