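import Cfsg.Statements.S5385
import Cfsg.Agent.Lib.ConwayFive.Main

set_option autoImplicit false
open Cfsg

namespace Cfsg.Agent.S5385

/-- Let G be a finite group of Conway type (involution z with generalized Fitting subgroup Q of its centralizer C extraspecial of order 2^9, C/Q the commutator subgroup of the isometry group of the hyperbolic quadratic form in dimension 8 over the field with two elements, z not weakly closed in Q), and let B be a subgroup of C of order 5 such that the centralizer of B in Q is extraspecial of order 32 containing no elementary abelian subgroup of order 8 (the quaternion-times-dihedral type). Then the layer L of the centralizer of B in G is isomorphic to the Hall–Janko group and the centralizer of L is isomorphic to the alternating group of degree 5. -/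
theorem result {G : Type*} [Group G] [Finite G] (z : G) (hz : orderOf z = 2) (Q : Subgroup (Subgroup.centralizer ({z} : Set G))) [Q.Normal] (hF : Cfsg.generalizedFittingSubgroup (Subgroup.centralizer ({z} : Set G)) = Q) (hQ : Cfsg.IsExtraspecial 2 Q) (hcard : Nat.card Q = 2 ^ 9) (e : (Subgroup.centralizer ({z} : Set G)) ⧸ Q ≃* Cfsg.Omega (ZMod 2) (Cfsg.quadFormPlus 4 (ZMod 2))) (hnwc : ∃ g : G, (∃ hq : g * z * g⁻¹ ∈ Subgroup.centralizer ({z} : Set G), (⟨g * z * g⁻¹, hq⟩ : Subgroup.centralizer ({z} : Set G)) ∈ Q) ∧ g * z * g⁻¹ ≠ z) (B : Subgroup (Subgroup.centralizer ({z} : Set G))) (hB : Nat.card B = 5) (hCQ : Cfsg.IsExtraspecial 2 ↥(Q ⊓ Subgroup.centralizer (B : Set (Subgroup.centralizer ({z} : Set G))))) (hCQcard : Nat.card ↥(Q ⊓ Subgroup.centralizer (B : Set (Subgroup.centralizer ({z} : Set G)))) = 32) (hminus : ∀ A : Subgroup (Subgroup.centralizer ({z} : Set G)), A ≤ Q ⊓ Subgroup.centralizer (B : Set (Subgroup.centralizer ({z} : Set G))) → Cfsg.IsElementaryAbelian 2 A → Nat.card A ≤ 4) : Cfsg.Spor.IsoJ2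 ↥(Cfsg.layer ↥(Subgroup.centralizer ((B.map (Subgroup.subtype (Subgroup.centralizer ({z} : Set G)))) : Set G))) ∧ Nonempty (↥(Subgroup.centralizer (((Cfsg.layer ↥(Subgroup.centralizer ((B.map (Subgroup.subtype (Subgroup.centralizer ({z} : Set G)))) : Set G))).map (Subgroup.subtype _)) : Set G)) ≃* alternatingGroup (Fin 5)) := by
  classical
  have hQ1 : CfsgLib.ConwayFive.Q1 (Q.map (Subgroup.centralizer ({z} : Set G)).subtype) (B.map (Subgroup.centralizer ({z} : Set G)).subtype) = (Q ⊓ Subgroup.centralizer (B : Set ↥(Subgroup.centralizer ({z} : Set G)))).map (Subgroup.centralizer ({z} : Set G)).subtype := by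
    ext x
    rw [CfsgLib.ConwayFive.mem_Q1, Subgroup.mem_map]
    constructor
    · rintro ⟨hx, hb⟩
      obtain ⟨c, hc, rfl⟩ := Subgroup.mem_map.mp hx
      exact ⟨c, ⟨hc, Subgroup.mem_centralizer_iff.mpr fun b hb' =>
        Subtype.ext (hb _ (Subgroup.mem_map_of_mem _ hb'))⟩, rfl⟩
    · rintro ⟨c, ⟨hc, hc'⟩, rfl⟩
      refine ⟨Subgroup.mem_map_of_mem _ hc, fun b hb => ?_⟩
      obtain ⟨b', hb', rfl⟩ := Subgroup.mem_map.mp hb
      exact congrArg Subtype.val (Subgroup.mem_centralizer_iff.mp hc' b' hb')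
  have eR : ↥Q ≃* ↥(Q.map (Subgroup.centralizer ({z} : Set G)).subtype) := Q.equivMapOfInjective (Subgroup.centralizer ({z} : Set G)).subtype Subtype.val_injective
  have eB : ↥B ≃* ↥(B.map (Subgroup.centralizer ({z} : Set G)).subtype) := B.equivMapOfInjective (Subgroup.centralizer ({z} : Set G)).subtype Subtype.val_injective
  have e1 : ↥(Q ⊓ Subgroup.centralizer (B : Set ↥(Subgroup.centralizer ({z} : Set G)))) ≃* ↥(CfsgLib.ConwayFive.Q1 (Q.map (Subgroup.centralizer ({z} : Set G)).subtype) (B.map (Subgroup.centralizer ({z} : Set G)).subtype)) :=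
    ((Q ⊓ Subgroup.centralizer (B : Set ↥(Subgroup.centralizer ({z} : Set G)))).equivMapOfInjective (Subgroup.centralizer ({z} : Set G)).subtype Subtype.val_injective).trans
      (MulEquiv.subgroupCongr hQ1.symm)
  have H : CfsgLib.ConwayFive.Hyp z (Q.map (Subgroup.centralizer ({z} : Set G)).subtype) (B.map (Subgroup.centralizer ({z} : Set G)).subtype) :=
    { st := CfsgLib.Extraspecial.Setting.of_fStar hz (Q.map (Subgroup.centralizer ({z} : Set G)).subtype) (by rw [hF])
        (CfsgLib.Extraspecial.isExtraspecial_congr eR hQ)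
      card := by rw [← Nat.card_congr eR.toEquiv, hcard]; norm_num
      cardB := by rw [← Nat.card_congr eB.toEquiv, hB]
      Bz := Subgroup.map_subtype_le B
      ex1 := CfsgLib.Extraspecial.isExtraspecial_congr e1 hCQ
      card1 := by rw [← Nat.card_congr e1.toEquiv, hCQcard]
      minus := fun A hA hAe => by
        have hAC : A ≤ (Subgroup.centralizer ({z} : Set G)) := hA.trans (hQ1.le.trans (Subgroup.map_subtype_le _))
        rw [← Nat.card_congr (Subgroup.subgroupOfEquivOfLe hAC).toEquiv]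
        refine hminus (A.subgroupOf (Subgroup.centralizer ({z} : Set G))) (fun a ha => ?_) ⟨⟨⟨fun a b => Subtype.ext (Subtype.ext ?_)⟩⟩, fun a ha => ?_⟩
        · obtain ⟨c, hc, hce⟩ := Subgroup.mem_map.mp (hQ1.le (hA ha))
          rwa [← (Subtype.ext hce : c = a)]
        · have := hAe.1.1.comm ⟨_, a.2⟩ ⟨_, b.2⟩
          exact (congrArg (fun t : ↥A => (t : G)) this :)
        · exact Subtype.ext (hAe.2 _ ha) }
  have T := CfsgLib.ConwayFive.exists_top z (Subgroup.centralizer ({z} : Set G)) (fun g => Subgroup.mem_centralizer_singleton_iff) Q (B.map (Subgroup.centralizer ({z} : Set G)).subtype) H e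
  obtain ⟨g, M⟩ := T.exists_mov (by
    obtain ⟨g, ⟨hq, hq'⟩, hne⟩ := hnwc
    exact ⟨g, Subgroup.mem_map_of_mem (Subgroup.centralizer ({z} : Set G)).subtype hq', hne⟩)
  have hlayer := M.layer_eq
  refine ⟨?_, ?_⟩
  · obtain ⟨eY⟩ := M.isoJ2_Y
    exact ⟨((MulEquiv.subgroupCongr hlayer).trans (Subgroup.subgroupOfEquivOfLe M.Y_le_CB)).trans eY⟩
  · obtain ⟨eU⟩ := M.exists_U
    rw [hlayer, Subgroup.map_subgroupOf_eq_of_le M.Y_le_CB, M.centralizer_Y]
    exact ⟨eU⟩

end Cfsg.Agent.S5385
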