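import Cfsg.Statements.S5387
import Cfsg.Agent.Lib.Schur.LThreeFour

set_option autoImplicit false
open Cfsg

namespace Cfsg.Agent.S5387

open scoped commutatorElement

/-- A subgroup supplementing the centre of a perfect group is everything. -/
theorem eq_top_of_sup_center {L : Type*} [Group L] (hp : commutator L = ⊤) (R : Subgroup L)
    (h : ∀ x : L, ∃ r ∈ R, r⁻¹ * x ∈ Subgroup.center L) : R = ⊤ := by
  rw [eq_top_iff, ← hp, commutator_def, Subgroup.commutator_le]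
  intro a _ b _
  obtain ⟨r, hr, hz⟩ := h a
  obtain ⟨q, hq, hw⟩ := h b
  have ea : a = r * (r⁻¹ * a) := by group
  have eb : b = q * (q⁻¹ * b) := by group
  rw [Subgroup.mem_center_iff] at hz hw
  set z := r⁻¹ * a
  set w := q⁻¹ * b
  have hzi : ∀ g, g * z⁻¹ = z⁻¹ * g := fun g => (Commute.inv_right (show Commute g z from hz g)).eq
  have hwi : ∀ g, g * w⁻¹ = w⁻¹ * g := fun g => (Commute.inv_right (show Commute g w from hw g)).eq
  have : ⁅a, b⁆ = ⁅r, q⁆ := by
    clear_value z w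
    subst ea eb
    rw [commutatorElement_def, commutatorElement_def, mul_inv_rev, mul_inv_rev]
    calc r * z * (q * w) * (z⁻¹ * r⁻¹) * (w⁻¹ * q⁻¹)
        = r * (z * q) * (w * z⁻¹) * (r⁻¹ * w⁻¹) * q⁻¹ := by group
      _ = r * (q * z) * (z⁻¹ * w) * (w⁻¹ * r⁻¹) * q⁻¹ := by rw [← hz q, hzi w, hwi r⁻¹]
      _ = r * q * r⁻¹ * q⁻¹ := by group
  rw [this, commutatorElement_def]
  exact R.mul_mem (R.mul_mem (R.mul_mem hr hq) (R.inv_mem hr)) (R.inv_mem hq)

universe u v w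

/-- A common perfect cover inside the product. -/
theorem exists_diagonal {L₁ : Type u} {L₂ : Type v} {P : Type w} [Group L₁] [Finite L₁] [Group L₂] [Finite L₂] [Group P]
    (π₁ : L₁ →* P) (π₂ : L₂ →* P) (hs₁ : Function.Surjective π₁) (hs₂ : Function.Surjective π₂)
    (hP : commutator P = ⊤) :
    ∃ T : Subgroup (L₁ × L₂), (∀ p ∈ T, π₁ p.1 = π₂ p.2) ∧ (∀ y : P, ∃ p ∈ T, π₁ p.1 = y) ∧
      commutator T = ⊤ := by
  set ψ : L₁ × L₂ →* P := π₁.comp (MonoidHom.fst L₁ L₂)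
  set E := ψ.eqLocus (π₂.comp (MonoidHom.snd L₁ L₂))
  let S : Set (Subgroup (L₁ × L₂)) := {T | T ≤ E ∧ T.map ψ = ⊤}
  have hE : E ∈ S := ⟨le_rfl, eq_top_iff.mpr fun y _ => by
    obtain ⟨a, rfl⟩ := hs₁ y
    obtain ⟨b, hb⟩ := hs₂ (π₁ a)
    exact ⟨(a, b), hb.symm, rfl⟩⟩
  obtain ⟨T, hT⟩ := (Set.toFinite S).exists_minimal ⟨E, hE⟩
  refine ⟨T, fun p hp => hT.1.1 hp, fun y => ?_, ?_⟩
  · obtain ⟨p, hp, hpy⟩ := (hT.1.2.symm ▸ Subgroup.mem_top y : y ∈ T.map ψ)
    exact ⟨p, hp, hpy⟩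
  · have h1 : ⁅T, T⁆ ∈ S := ⟨(Subgroup.commutator_le_self T).trans hT.1.1, by
      rw [Subgroup.map_commutator, hT.1.2, ← commutator_def, hP]⟩
    have h2 : T ≤ ⁅T, T⁆ := hT.2 h1 (Subgroup.commutator_le_self T)
    refine Subgroup.map_injective T.subtype_injective ?_
    rw [commutator_def, Subgroup.map_commutator, ← MonoidHom.range_eq_map, Subgroup.range_subtype]
    exact le_antisymm (Subgroup.commutator_le_self T) h2

/-- An abelian image of `C₃ × C₄ × C₄` of exponent two has at most four elements. -/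
theorem card_le_four {A : Type*} [Group A] (π : Multiplicative (ZMod 3 × ZMod 4 × ZMod 4) →* A)
    (hs : Function.Surjective π) (h2 : ∀ z : A, z * z = 1) : Nat.card A ≤ 4 := by
  let g : Bool × Bool → Multiplicative (ZMod 3 × ZMod 4 × ZMod 4) := fun b =>
    Multiplicative.ofAdd (0, (if b.1 then 1 else 0), (if b.2 then 1 else 0))
  have hd : ∀ v : Multiplicative (ZMod 3 × ZMod 4 × ZMod 4), ∃ b u, v = g b * (u * u) := by decide +kernel
  have : Function.Surjective fun b => π (g b) := fun a => by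
    obtain ⟨v, rfl⟩ := hs a
    obtain ⟨b, u, rfl⟩ := hd v
    exact ⟨b, by show π (g b) = π (g b * (u * u)); rw [map_mul, map_mul, h2, mul_one]⟩
  have := Nat.card_le_card_of_surjective _ this
  simpa using this

/-- Up to isomorphism there is at most one quasisimple group whose centre is elementary abelian of order 4 and whose central quotient is isomorphic to the projective special linear group of dimension 3 over the field with four elements: any two such groups are isomorphic. -/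
theorem result {L₁ L₂ : Type*} [Group L₁] [Finite L₁] [Group L₂] [Finite L₂] (F : Type) [Field F] [Fintype F] (hF : Fintype.card F = 4) (h₁ : Cfsg.IsQuasisimple L₁) (h₂ : Cfsg.IsQuasisimple L₂) (hc₁ : Nat.card (Subgroup.center L₁) = 4) (hc₂ : Nat.card (Subgroup.center L₂) = 4) (he₁ : ∀ x ∈ Subgroup.center L₁, x * x = 1) (he₂ : ∀ x ∈ Subgroup.center L₂, x * x = 1) (e₁ : L₁ ⧸ Subgroup.center L₁ ≃* Matrix.ProjectiveSpecialLinearGroup (Fin 3) F) (e₂ : L₂ ⧸ Subgroup.center L₂ ≃* Matrix.ProjectiveSpecialLinearGroup (Fin 3) F) : Nonempty (L₁ ≃* L₂) := by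
  have hs : IsSimpleGroup (Matrix.ProjectiveSpecialLinearGroup (Fin 3) F) := by
    haveI := h₁.2
    exact e₁.symm.isSimpleGroup
  let π₁ : L₁ →* Matrix.ProjectiveSpecialLinearGroup (Fin 3) F :=
    e₁.toMonoidHom.comp (QuotientGroup.mk' (Subgroup.center L₁))
  let π₂ : L₂ →* Matrix.ProjectiveSpecialLinearGroup (Fin 3) F :=
    e₂.toMonoidHom.comp (QuotientGroup.mk' (Subgroup.center L₂))
  have hs₁ : Function.Surjective π₁ := e₁.surjective.comp (QuotientGroup.mk'_surjective _)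
  have hs₂ : Function.Surjective π₂ := e₂.surjective.comp (QuotientGroup.mk'_surjective _)
  have hker₁ : ∀ x, π₁ x = 1 ↔ x ∈ Subgroup.center L₁ := fun x => by
    show e₁ (QuotientGroup.mk' _ x) = 1 ↔ _
    rw [MulEquiv.map_eq_one_iff, QuotientGroup.mk'_apply, QuotientGroup.eq_one_iff]
  have hker₂ : ∀ x, π₂ x = 1 ↔ x ∈ Subgroup.center L₂ := fun x => by
    show e₂ (QuotientGroup.mk' _ x) = 1 ↔ _
    rw [MulEquiv.map_eq_one_iff, QuotientGroup.mk'_apply, QuotientGroup.eq_one_iff]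
  have hp₁ : commutator L₁ = ⊤ := h₁.1.1
  have hp₂ : commutator L₂ = ⊤ := h₂.1.1
  have hP : commutator (Matrix.ProjectiveSpecialLinearGroup (Fin 3) F) = ⊤ := by
    rw [commutator_def, ← Subgroup.map_top_of_surjective _ hs₁, ← Subgroup.map_commutator,
      ← commutator_def, hp₁, Subgroup.map_top_of_surjective _ hs₁]
  obtain ⟨T, hTE, hTs, hTp⟩ := exists_diagonal π₁ π₂ hs₁ hs₂ hP
  let σ : T →* Matrix.ProjectiveSpecialLinearGroup (Fin 3) F :=
    (π₁.comp (MonoidHom.fst L₁ L₂)).comp T.subtype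
  have hσ : Cfsg.IsStemExtension σ := by
    refine ⟨fun y => ?_, fun p hp => ?_, ?_⟩
    · obtain ⟨p, hp, hpy⟩ := hTs y
      exact ⟨⟨p, hp⟩, hpy⟩
    · have h1 : π₁ (p : L₁ × L₂).1 = 1 := hp
      have h2 : π₂ (p : L₁ × L₂).2 = 1 := (hTE _ p.2).symm.trans h1
      rw [hker₁] at h1
      rw [hker₂] at h2
      rw [Subgroup.mem_center_iff] at h1 h2 ⊢
      exact fun q => Subtype.ext (Prod.ext (h1 _) (h2 _))
    · rw [hTp]; exact le_top
  obtain ⟨π, hπ⟩ := CfsgLib.Schur.LThreeFour.exists_surjection hF σ hσ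
  have hk : Nat.card σ.ker ≤ 4 := card_le_four π hπ fun z => by
    have h1 : π₁ ((z : T) : L₁ × L₂).1 = 1 := z.2
    have h2 : π₂ ((z : T) : L₁ × L₂).2 = 1 := (hTE _ (z : T).2).symm.trans h1
    exact Subtype.ext (Subtype.ext (Prod.ext (he₁ _ ((hker₁ _).1 h1)) (he₂ _ ((hker₂ _).1 h2))))
  have hT : Nat.card T ≤ 4 * Nat.card (Matrix.ProjectiveSpecialLinearGroup (Fin 3) F) := by
    rw [← σ.ker.card_mul_index, Subgroup.index_ker, MonoidHom.range_eq_top.mpr hσ.1, Subgroup.card_top]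
    exact Nat.mul_le_mul_right _ hk
  have hL₁ : Nat.card L₁ = 4 * Nat.card (Matrix.ProjectiveSpecialLinearGroup (Fin 3) F) := by
    rw [Subgroup.card_eq_card_quotient_mul_card_subgroup (Subgroup.center L₁), Nat.card_congr e₁.toEquiv,
      hc₁, mul_comm]
  have hL₂ : Nat.card L₂ = 4 * Nat.card (Matrix.ProjectiveSpecialLinearGroup (Fin 3) F) := by
    rw [Subgroup.card_eq_card_quotient_mul_card_subgroup (Subgroup.center L₂), Nat.card_congr e₂.toEquiv,
      hc₂, mul_comm]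
  let f₁ : T →* L₁ := (MonoidHom.fst L₁ L₂).comp T.subtype
  let f₂ : T →* L₂ := (MonoidHom.snd L₁ L₂).comp T.subtype
  have hf₁ : f₁.range = ⊤ := eq_top_of_sup_center hp₁ _ fun x => by
    obtain ⟨p, hp, hpx⟩ := hTs (π₁ x)
    exact ⟨p.1, ⟨⟨p, hp⟩, rfl⟩, (hker₁ _).1 (by rw [map_mul, map_inv, hpx, inv_mul_cancel])⟩
  have hf₂ : f₂.range = ⊤ := eq_top_of_sup_center hp₂ _ fun x => by
    obtain ⟨p, hp, hpx⟩ := hTs (π₂ x)
    exact ⟨p.2, ⟨⟨p, hp⟩, rfl⟩, (hker₂ _).1 (by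
      rw [map_mul, map_inv, ← hTE p hp, hpx, inv_mul_cancel])⟩
  have b₁ := (MonoidHom.range_eq_top.mp hf₁).bijective_of_nat_card_le (hL₁ ▸ hT)
  have b₂ := (MonoidHom.range_eq_top.mp hf₂).bijective_of_nat_card_le (hL₂ ▸ hT)
  exact ⟨(MulEquiv.ofBijective f₁ b₁).symm.trans (MulEquiv.ofBijective f₂ b₂)⟩

end Cfsg.Agent.S5387
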