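import Cfsg.Statements.S5389
import Cfsg.Agent.S5388
import Cfsg.Agent.Lib.ConwayThree.Main

set_option autoImplicit false
open Cfsg

namespace Cfsg.Agent.S5389

set_option maxHeartbeats 2000000 in
/-- A simple section of the automorphism group of the Leech lattice satisfying the Suzuki-sporadic-type hypothesis (the group so obtained is the sporadic Suzuki group; that identification is not part of this statement): there is a subgroup A of order 3 of that automorphism group such that the centralizer of A modulo the subgroup generated by A and the centre of the automorphism group is a non-abelian simple group satisfying the large extraspecial hypothesis of minus type in dimension 6 — an involution whose centralizer has extraspecial generalized Fitting subgroup of order 2^7 with quotient the commutator subgroup of the isometry group of the elliptic quadratic form in dimension 6 over the field with two elements, the involution not weakly closed in that extraspecial group.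 -/
theorem result : ∃ A : Subgroup ↥Cfsg.Co0, Nat.card A = 3 ∧ ∃ (hn : ((A ⊔ Subgroup.center ↥Cfsg.Co0).subgroupOf (Subgroup.centralizer (A : Set ↥Cfsg.Co0))).Normal), ∃ (S : Type) (_ : Group S) (_ : Finite S), Nonempty (S ≃* ↥(Subgroup.centralizer (A : Set ↥Cfsg.Co0)) ⧸ (A ⊔ Subgroup.center ↥Cfsg.Co0).subgroupOf (Subgroup.centralizer (A : Set ↥Cfsg.Co0))) ∧ IsSimpleGroup S ∧ ¬ IsMulCommutative S ∧ ∃ z : S, orderOf z = 2 ∧ ∃ (Q : Subgroup (Subgroup.centralizer ({z} : Set S))) (_ : Q.Normal), Cfsg.generalizedFittingSubgroup (Subgroup.centralizer ({z} : Set S)) = Q ∧ Cfsg.IsExtraspecial 2 Q ∧ Nat.card Q = 2 ^ 7 ∧ Nonempty ((Subgroup.centralizer ({z} : Set S)) ⧸ Q ≃* Cfsg.Omega (ZMod 2) (Cfsg.quadFormMinus 2 (ZMod 2) 1 1)) ∧ ∃ g : S, (∃ hq : g * z * g⁻¹ ∈ Subgroup.centralizer ({z} : Set S), (⟨g * z * g⁻¹, hq⟩ : Subgroup.centralizer ({z} : Set S)) ∈ Q) ∧ g * z * g⁻¹ ≠ z := by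
  classical
  haveI : Finite ↥Cfsg.Co0 := CfsgLib.Leech.finite_Co0
  haveI : Fact (Nat.Prime 3) := ⟨by norm_num⟩
  obtain ⟨z, hz, Q, hQn, hF, hQ, hcard, ⟨e⟩, g, ⟨hq, hg⟩, hne⟩ := Cfsg.Agent.S5388.result
  haveI := hQn
  have eR : ↥Q ≃* ↥(Q.map (Subgroup.centralizer ({z} : Set Cfsg.Spor.Co1)).subtype) :=
    Q.equivMapOfInjective _ (Subgroup.centralizer ({z} : Set Cfsg.Spor.Co1)).subtype_injective
  have st := CfsgLib.Extraspecial.Setting.of_fStar hz (Q.map (Subgroup.centralizer ({z} : Set Cfsg.Spor.Co1)).subtype)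
    (by rw [hF]) (CfsgLib.Extraspecial.isExtraspecial_congr eR hQ)
  have memC : ∀ x : Cfsg.Spor.Co1, x ∈ Subgroup.centralizer ({z} : Set Cfsg.Spor.Co1) ↔ x * z = z * x :=
    fun x => Subgroup.mem_centralizer_singleton_iff
  obtain ⟨B, π, g₁, D⟩ := CfsgLib.ConwayThree.exists_data z _ memC Q st hQ hcard e
    ⟨g, Subgroup.mem_map_of_mem (Subgroup.centralizer ({z} : Set Cfsg.Spor.Co1)).subtype hg, hne⟩
  haveI : (B.subgroupOf (Subgroup.centralizer (B : Set Cfsg.Spor.Co1))).Normal := ⟨fun n hn x => by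
    have h1 : (n : Cfsg.Spor.Co1) * x = x * n := Subgroup.mem_centralizer_iff.mp x.2 n hn
    show (x : Cfsg.Spor.Co1) * n * (x : Cfsg.Spor.Co1)⁻¹ ∈ B
    rw [← h1, mul_inv_cancel_right]
    exact hn⟩
  obtain ⟨hsimple, hna, hyp⟩ := D.quot_data
  set pz : ↥Cfsg.Co0 →* Cfsg.Spor.Co1 := QuotientGroup.mk' (Subgroup.center ↥Cfsg.Co0) with hpz
  have hker : ∀ x, pz x = 1 ↔ x = 1 ∨ x = CfsgLib.Leech.negAut := by
    intro x
    rw [hpz, QuotientGroup.mk'_apply, QuotientGroup.eq_one_iff]
    refine ⟨CfsgLib.Leech.Octad.center_or, ?_⟩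
    rintro (rfl | rfl)
    exacts [one_mem _, CfsgLib.Leech.negAut_mem_center]
  have hneg : CfsgLib.Leech.negAut * CfsgLib.Leech.negAut = 1 := by
    refine Subtype.ext (DFunLike.ext _ _ fun v => ?_)
    show CfsgLib.Leech.negAut • (CfsgLib.Leech.negAut • v) = v
    rw [CfsgLib.Leech.negAut_smul, CfsgLib.Leech.negAut_smul, neg_neg]
  -- a generator and its lift of order five
  haveI : IsCyclic ↥B := isCyclic_of_prime_card D.cardB
  obtain ⟨⟨b, hb⟩, hgen⟩ := IsCyclic.exists_generator (α := ↥B)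
  have hBb : B = Subgroup.zpowers b := le_antisymm (fun x hx => by
      obtain ⟨k, hk⟩ := Subgroup.mem_zpowers_iff.mp (hgen ⟨x, hx⟩)
      exact Subgroup.mem_zpowers_iff.mpr ⟨k, congrArg Subtype.val hk⟩)
    (Subgroup.zpowers_le.mpr hb)
  have hbord : orderOf b = 3 := by rw [← Nat.card_zpowers, ← hBb, D.cardB]
  have hb3 : b ^ 3 = 1 := hbord ▸ pow_orderOf_eq_one b
  obtain ⟨x, hx⟩ : ∃ x, pz x = b := QuotientGroup.mk'_surjective _ b
  have hx6 : x ^ 6 = 1 := by
    rcases (hker (x ^ 3)).mp (by rw [map_pow, hx, hb3]) with h | h <;>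
      rw [show x ^ 6 = x ^ 3 * x ^ 3 by rw [← pow_add], h]
    exacts [one_mul 1, hneg]
  set a := x ^ 4 with ha
  have hab : pz a = b := by rw [ha, map_pow, hx, pow_succ, hb3, one_mul]
  have ha3 : a ^ 3 = 1 := by rw [ha, ← pow_mul, show 4 * 3 = 6 * 2 by norm_num, pow_mul, hx6, one_pow]
  have ha1 : a ≠ 1 := fun h => by
    rw [h, map_one] at hab
    rw [← hab, orderOf_one] at hbord
    norm_num at hbord
  set A := Subgroup.zpowers a with hA
  have hmap : ∀ y : ↥Cfsg.Co0, y ∈ A ⊔ Subgroup.center ↥Cfsg.Co0 ↔ pz y ∈ B := by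
    intro y
    rw [hBb, ← hab, ← MonoidHom.map_zpowers, ← hA, ← Subgroup.mem_comap, Subgroup.comap_map_eq, hpz,
      QuotientGroup.ker_mk']
  have hcent : ∀ y : ↥Cfsg.Co0, y ∈ Subgroup.centralizer (A : Set ↥Cfsg.Co0) ↔
      pz y ∈ Subgroup.centralizer (B : Set Cfsg.Spor.Co1) := by
    intro y
    constructor
    · intro hy
      rw [Subgroup.mem_centralizer_iff]
      intro w hw
      rw [hBb, ← hab, ← MonoidHom.map_zpowers] at hw
      obtain ⟨u, hu, rfl⟩ := hw
      rw [← map_mul, ← map_mul, Subgroup.mem_centralizer_iff.mp hy u hu]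
    · intro hy
      have h1 : pz (y * a * y⁻¹ * a⁻¹) = 1 := by
        rw [map_mul, map_mul, map_mul, map_inv, map_inv, hab, ← Subgroup.mem_centralizer_iff.mp hy b hb]
        group
      have h2 : y * a * y⁻¹ = a := by
        rcases (hker _).mp h1 with h | h
        · exact mul_inv_eq_one.mp h
        · exfalso
          have h3 : y * a * y⁻¹ = CfsgLib.Leech.negAut * a := by rw [← h]; group
          have h4 := congrArg (· ^ 3) h3
          simp only [conj_pow, ha3, mul_one, mul_inv_cancel] at h4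
          have hc : Commute CfsgLib.Leech.negAut a :=
            (Subgroup.mem_center_iff.mp CfsgLib.Leech.negAut_mem_center a).symm
          rw [hc.mul_pow, ha3, mul_one, pow_succ, pow_two, hneg, one_mul] at h4
          rw [← h4, one_mul] at h3
          rw [h3, mul_inv_cancel] at h
          exact CfsgLib.Leech.negAut_ne_one h.symm
      rw [Subgroup.mem_centralizer_iff]
      intro w hw
      obtain ⟨k, rfl⟩ := Subgroup.mem_zpowers_iff.mp hw
      exact (((show Commute y a from mul_inv_eq_iff_eq_mul.mp h2).zpow_right k).eq).symm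
  let f : ↥(Subgroup.centralizer (A : Set ↥Cfsg.Co0)) →*
      ↥(Subgroup.centralizer (B : Set Cfsg.Spor.Co1)) ⧸ B.subgroupOf (Subgroup.centralizer (B : Set Cfsg.Spor.Co1)) :=
    (QuotientGroup.mk' _).comp ((pz.comp (Subgroup.subtype _)).codRestrict _ fun y => (hcent y).mp y.2)
  have hf : Function.Surjective f := by
    intro w
    obtain ⟨⟨v, hv⟩, rfl⟩ := QuotientGroup.mk'_surjective _ w
    obtain ⟨y, rfl⟩ := QuotientGroup.mk'_surjective (Subgroup.center ↥Cfsg.Co0) v
    exact ⟨⟨y, (hcent y).mpr hv⟩, rfl⟩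
  have hfker : f.ker = (A ⊔ Subgroup.center ↥Cfsg.Co0).subgroupOf (Subgroup.centralizer (A : Set ↥Cfsg.Co0)) := by
    ext y
    rw [MonoidHom.mem_ker, Subgroup.mem_subgroupOf, hmap]
    exact QuotientGroup.eq_one_iff _
  have hn : ((A ⊔ Subgroup.center ↥Cfsg.Co0).subgroupOf (Subgroup.centralizer (A : Set ↥Cfsg.Co0))).Normal :=
    hfker ▸ f.normal_ker
  refine ⟨A, ?_, hn, _, inferInstance, inferInstance, ⟨((QuotientGroup.quotientMulEquivOfEq hfker.symm).trans
    (QuotientGroup.quotientKerEquivOfSurjective f hf)).symm⟩, hsimple, hna, hyp⟩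
  rw [hA, Nat.card_zpowers]; exact orderOf_eq_prime ha3 ha1

end Cfsg.Agent.S5389
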