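import Cfsg.Statements.S5392
import Cfsg.Agent.Lib.Leech.ModTwo
-- import your own Cfsg.Agent.* helpers here

set_option autoImplicit false
open Cfsg

namespace Cfsg.Agent.S5392

/-- The Leech lattice modulo twice itself is a faithful irreducible module for the first Conway group: an automorphism of the rank-24 lattice built from the length-24 code that moves every lattice vector only by twice a lattice vector lies in the centre of the automorphism group (the centre consists of ±1, which act trivially there, so the kernel is exactly the centre), and an additive subgroup lying between twice the lattice and the lattice that is invariant under all lattice automorphisms is one of the two. -/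
theorem result : (∀ g : ↥Cfsg.Co0, (∀ v : ↥Cfsg.leechLattice, ∃ w : ↥Cfsg.leechLattice, ((g • v : ↥Cfsg.leechLattice) : Cfsg.GolayPt → ℤ) - (v : Cfsg.GolayPt → ℤ) = 2 • (w : Cfsg.GolayPt → ℤ)) → g ∈ Subgroup.center ↥Cfsg.Co0) ∧ ∀ M : AddSubgroup (Cfsg.GolayPt → ℤ), (∀ v ∈ Cfsg.leechLattice, (2 : ℤ) • v ∈ M) → M ≤ Cfsg.leechLattice → (∀ g : ↥Cfsg.Co0, ∀ v : ↥Cfsg.leechLattice, (v : Cfsg.GolayPt → ℤ) ∈ M → ((g • v : ↥Cfsg.leechLattice) : Cfsg.GolayPt → ℤ) ∈ M) → (∀ x ∈ M, ∃ w ∈ Cfsg.leechLattice, x = (2 : ℤ) • w) ∨ M = Cfsg.leechLattice := by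
  refine ⟨fun g hg => CfsgLib.Leech.trivial_mod_two fun v => ?_, ?_⟩
  · obtain ⟨w, hw⟩ := hg v
    exact ⟨w, Subtype.ext (by rw [AddSubgroup.coe_sub, hw, AddSubgroup.coe_add, two_nsmul])⟩
  · intro M hdbl hle hinv
    have h := CfsgLib.Leech.irreducible (M := M.comap Cfsg.leechLattice.subtype) ?_ ?_
    · rcases h with h | h
      · refine Or.inl fun x hx => ?_
        obtain ⟨w, hw⟩ := h ⟨x, hle hx⟩ hx
        exact ⟨w, w.2, by rw [two_zsmul]; exact congrArg Subtype.val hw⟩
      · refine Or.inr (le_antisymm hle fun x hx => ?_)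
        have hm : (⟨x, hx⟩ : ↥Cfsg.leechLattice) ∈ M.comap Cfsg.leechLattice.subtype := by
          rw [h]; exact AddSubgroup.mem_top _
        exact hm
    · rintro _ ⟨w, rfl⟩
      have := hdbl _ w.2
      rw [two_zsmul] at this
      exact this
    · exact fun g v hv => hinv g v hv

end Cfsg.Agent.S5392
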