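import Cfsg.Statements.S5393
import Cfsg.Agent.Lib.Golay.Invariant

set_option autoImplicit false
open Cfsg

namespace Cfsg.Agent.S5393

/-- The length-24 code built from the squares modulo 23 contains the all-ones word, and the code modulo the all-ones word is an irreducible module over the field with two elements for the code's automorphism group: a subspace of the code that contains the all-ones word and is invariant under every coordinate permutation preserving the code is either the span of the all-ones word or the whole code. -/
theorem result : (fun _ : Cfsg.GolayPt => (1 : ZMod 2)) ∈ Cfsg.golayCode ∧ ∀ W : Submodule (ZMod 2) (Cfsg.GolayPt → ZMod 2), (fun _ => (1 : ZMod 2)) ∈ W → W ≤ Cfsg.golayCode → (∀ σ ∈ Cfsg.M24, ∀ w ∈ W, (fun p => w (σ.symm p)) ∈ W) → W = Submodule.span (ZMod 2) {fun _ => (1 : ZMod 2)} ∨ W = Cfsg.golayCode := by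
  refine ⟨CfsgLib.Golay.Invariant.one_mem_code, fun W h1 hle hW => ?_⟩
  have h10 : (fun _ : Cfsg.GolayPt => (1 : ZMod 2)) ≠ 0 := fun h => absurd (congrFun h none) (by simp)
  by_cases hc : ∀ w ∈ W, w = 0 ∨ w = fun _ => 1
  · left
    refine le_antisymm (fun w hw => ?_) (by rwa [Submodule.span_singleton_le_iff_mem])
    rcases hc w hw with rfl | rfl
    · exact zero_mem _
    · exact Submodule.mem_span_singleton_self _
  · push Not at hc
    obtain ⟨w, hw, h0, hw1⟩ := hc
    exact Or.inr (le_antisymm hle (CfsgLib.Golay.Invariant.code_le_of_mem hW hw (hle hw) h0 hw1))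

end Cfsg.Agent.S5393
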