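import Cfsg.Statements.S5395
import Cfsg.Agent.Lib.Extraspecial.Basics

set_option autoImplicit false
open Cfsg
open scoped commutatorElement

namespace Cfsg.Agent.S5395

/-- For a finite extraspecial 2-group E, an automorphism of E that induces the identity on E modulo its centre is inner (so these automorphisms form exactly the inner automorphism group, an elementary abelian 2-group of order |E|/2). -/
theorem result {E : Type*} [Group E] [Finite E] (hE : Cfsg.IsExtraspecial 2 E) (φ : E ≃* E) (hφ : ∀ x : E, φ x * x⁻¹ ∈ Subgroup.center E) : ∃ g : E, ∀ x : E, φ x = g * x * g⁻¹ := by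
  haveI : Fact (Nat.Prime 2) := ⟨Nat.prime_two⟩
  have hc : ∀ x y : E, φ x * x⁻¹ * y = y * (φ x * x⁻¹) := fun x y =>
    (Subgroup.mem_center_iff.mp (hφ x) y).symm
  let χ : E →* E := MonoidHom.mk' (fun x => φ x * x⁻¹) fun a b => by
    show φ (a * b) * (a * b)⁻¹ = φ a * a⁻¹ * (φ b * b⁻¹)
    rw [map_mul]
    calc φ a * φ b * (a * b)⁻¹ = φ a * (φ b * b⁻¹) * a⁻¹ := by group
      _ = φ a * (a⁻¹ * (φ b * b⁻¹)) := by
        rw [mul_assoc (φ a), hc b a⁻¹]
      _ = _ := by group
  obtain ⟨g, hg⟩ := CfsgLib.Extraspecial.exists_comm_eq_hom (p := 2) _ E hE rfl χ hφ fun z hz => by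
    show φ z * z⁻¹ = 1
    rw [← hE.1.2.2] at hz
    have hker : commutator E ≤ χ.ker := by
      rw [commutator_def, Subgroup.commutator_le]
      intro a _ b _
      rw [MonoidHom.mem_ker, map_commutatorElement, commutatorElement_eq_one_iff_mul_comm]
      exact (Subgroup.mem_center_iff.mp (hφ b) (χ a))
    exact hker hz
  refine ⟨g, fun x => ?_⟩
  have := hg x
  rw [commutatorElement_def] at this
  exact mul_right_cancel (b := x⁻¹) this

end Cfsg.Agent.S5395
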