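import Cfsg.Statements.S5399
import Cfsg.Agent.Lib.Fi23Cent.OfType
import Cfsg.Agent.Lib.Fi23Inv.Transport

set_option autoImplicit false
open Cfsg

namespace Cfsg.Agent.S5399

/-- Let G be a finite group with trivial centre generated by a conjugation-invariant set D of 3-transpositions on which it acts primitively, such that for some d in D the subgroup generated by the members of D other than d commuting with d has central largest normal 2- and 3-subgroups, and suppose G with D is of type M(23). Then G has exactly 3 conjugacy classes of involutions: every involution is a product of m distinct pairwise commuting members of D for some m between 1 and 3; for each such m these products form one non-empty conjugacy class; and the value of m is determined by the involution. -/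
theorem result {G : Type*} [Group G] [Finite G] {D : Set G} (hD : Cfsg.IsThreeTranspositionGroup D) (hprim : Cfsg.IsPrimitiveUnderConj D) (d : G) (hd : d ∈ D) (h3 : Cfsg.pCore 3 ↥(Subgroup.closure {y : G | y ∈ D ∧ y ≠ d ∧ Commute d y}) ≤ Subgroup.center ↥(Subgroup.closure {y : G | y ∈ D ∧ y ≠ d ∧ Commute d y})) (h2 : Cfsg.pCore 2 ↥(Subgroup.closure {y : G | y ∈ D ∧ y ≠ d ∧ Commute d y}) ≤ Subgroup.center ↥(Subgroup.closure {y : G | y ∈ D ∧ y ≠ d ∧ Commute d y})) (ht : Cfsg.IsOfTypeM23 G D) : (∀ x : G, orderOf x = 2 → ∃ m : ℕ, 1 ≤ m ∧ m ≤ 3 ∧ (∃ l : List G, l.Nodup ∧ l.length = m ∧ (∀ a ∈ l, a ∈ D) ∧ (∀ a ∈ l, ∀ b ∈ l, Commute a b) ∧ l.prod = x)) ∧ (∀ m : ℕ, 1 ≤ m → m ≤ 3 → (∃ x : G, orderOf x = 2 ∧ (∃ l : List G, l.Nodup ∧ l.length = m ∧ (∀ a ∈ l, a ∈ D) ∧ (∀ a ∈ l, ∀ b ∈ l, Commute a b) ∧ l.prod = x)) ∧ ∀ x y : G, (∃ l : List G, l.Nodup ∧ l.length = m ∧ (∀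 a ∈ l, a ∈ D) ∧ (∀ a ∈ l, ∀ b ∈ l, Commute a b) ∧ l.prod = x) → (∃ l : List G, l.Nodup ∧ l.length = m ∧ (∀ a ∈ l, a ∈ D) ∧ (∀ a ∈ l, ∀ b ∈ l, Commute a b) ∧ l.prod = y) → IsConj x y) ∧ ∀ (m m' : ℕ) (x : G), 1 ≤ m → m ≤ 3 → 1 ≤ m' → m' ≤ 3 → (∃ l : List G, l.Nodup ∧ l.length = m ∧ (∀ a ∈ l, a ∈ D) ∧ (∀ a ∈ l, ∀ b ∈ l, Commute a b) ∧ l.prod = x) → (∃ l : List G, l.Nodup ∧ l.length = m' ∧ (∀ a ∈ l, a ∈ D) ∧ (∀ a ∈ l, ∀ b ∈ l, Commute a b) ∧ l.prod = x) → m = m' := by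
  obtain ⟨Φ, hΦ⟩ := CfsgLib.Fi23Cent.fi23_of_type hD hprim ht
  have mk : ∀ {m : ℕ} {x : G}, 1 ≤ m → m ≤ 3 → (∃ l : List G, l.Nodup ∧ l.length = m ∧ (∀ a ∈ l, a ∈ D) ∧
      (∀ a ∈ l, ∀ b ∈ l, Commute a b) ∧ l.prod = x) →
      ∃ l, CfsgLib.Fi23Inv.Frame D l ∧ l.length = m ∧ l.prod = x := by
    rintro m x h1 h3 ⟨l, a1, a2, a3, a4, a5⟩
    exact ⟨l, ⟨a1, a2 ▸ h1, a2 ▸ h3, a3, a4⟩, a2, a5⟩
  refine ⟨fun x hx => ?_, fun m h1 h3 => ⟨?_, fun x y hx hy => ?_⟩, fun m m' x h1 h3 h1' h3' hx hy => ?_⟩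
  · obtain ⟨l, hl, e⟩ := CfsgLib.Fi23Inv.type_involution Φ hΦ hx
    exact ⟨l.length, hl.pos, hl.le, l, hl.nodup, rfl, hl.mem, hl.comm, e⟩
  · obtain ⟨l₀, hl₀, hlen, -⟩ := CfsgLib.Fi23Inv.standard_frames m h1 h3
    have hl : CfsgLib.Fi23Inv.Frame D (l₀.map Φ) := hΦ ▸ hl₀.map Φ
    exact ⟨(l₀.map Φ).prod, CfsgLib.Fi23Inv.frame_order Φ hΦ hl, l₀.map Φ, hl.nodup,
      by simpa using hlen, hl.mem, hl.comm, rfl⟩
  · obtain ⟨l, hl, hlen, rfl⟩ := mk h1 h3 hx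
    obtain ⟨l', hl', hlen', rfl⟩ := mk h1 h3 hy
    obtain ⟨g, hg⟩ := CfsgLib.Fi23Inv.type_frame_conj Φ hΦ hl hl' (hlen.trans hlen'.symm)
    refine isConj_iff.mpr ⟨g, ?_⟩
    rw [← hg, ← map_list_prod]
    rfl
  · obtain ⟨l, hl, hlen, e⟩ := mk h1 h3 hx
    obtain ⟨l', hl', hlen', e'⟩ := mk h1' h3' hy
    have hperm : l.Perm l' := (List.perm_ext_iff_of_nodup hl.nodup hl'.nodup).mpr fun a => by
      rw [← CfsgLib.Fi23Inv.type_frame_universal Φ hΦ hl, ← CfsgLib.Fi23Inv.type_frame_universal Φ hΦ hl', e, e']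
    rw [← hlen, ← hlen', hperm.length_eq]

end Cfsg.Agent.S5399
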