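import Cfsg.Statements.S5402
import Cfsg.Agent.Lib.M23Recog.Gen
-- import your own Cfsg.Agent.* helpers here

set_option autoImplicit false
open Cfsg

namespace Cfsg.Agent.S5402

/-- Let G be a finite group with an involution d whose centralizer C is quasisimple, such that C modulo the subgroup generated by d is of type M(22) with respect to some conjugacy class of 3-transpositions generating it, and also has an involution whose own centralizer is quasisimple with quotient by it isomorphic to the projective special unitary group of dimension 6 over the field with four elements and which is not weakly closed in its centralizer; and suppose some conjugate of d other than d commutes with d. Then the conjugacy class of d is a class of 3-transpositions generating G, and G with this class is of type M(23). -/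
theorem result {G : Type*} [Group G] [Finite G] (d : G) (hd : orderOf d = 2) (hq : Cfsg.IsQuasisimple (Subgroup.centralizer ({d} : Set G))) [((Subgroup.zpowers d).subgroupOf (Subgroup.centralizer ({d} : Set G))).Normal] (htype : ∃ E : Set ((Subgroup.centralizer ({d} : Set G)) ⧸ (Subgroup.zpowers d).subgroupOf (Subgroup.centralizer ({d} : Set G))), Cfsg.IsThreeTranspositionClass E ∧ Cfsg.IsOfTypeM22 _ E) (hinvol : ∃ d' : (Subgroup.centralizer ({d} : Set G)) ⧸ (Subgroup.zpowers d).subgroupOf (Subgroup.centralizer ({d} : Set G)), orderOf d' = 2 ∧ Cfsg.IsQuasisimple (Subgroup.centralizer ({d'} : Set _)) ∧ (∃ (K : Type) (_ : Field K) (_ : Fintype K), Fintype.card K = 4 ∧ ∃ _ : ((Subgroup.zpowers d').subgroupOf (Subgroup.centralizer ({d'} : Set _))).Normal, Nonempty ((Subgroup.centralizer ({d'} : Set _)) ⧸ (Subgroup.zpowers d').subgroupOf (Subgroup.centralizer ({d'} : Set _)) ≃* Cfsg.PSU 6 K 2)) ∧ ∃ g, g * d' * g⁻¹ ∈ Subgroup.centralizer ({d'} : Set _) ∧ g * d' * g⁻¹ ≠ d') (hnwc : ∃ g : G, g * d * g⁻¹ ∈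 Subgroup.centralizer ({d} : Set G) ∧ g * d * g⁻¹ ≠ d) : Cfsg.IsThreeTranspositionClass (conjugatesOf d) ∧ Cfsg.IsOfTypeM23 G (conjugatesOf d) := by
  obtain ⟨E, hE, ht⟩ := htype
  have hC : ∀ c, c ∈ (Subgroup.centralizer ({d} : Set G)) ↔ Commute c d := fun c => Subgroup.mem_centralizer_singleton_iff
  have hdC : d ∈ (Subgroup.centralizer ({d} : Set G)) := (hC d).mpr (Commute.refl d)
  set N := (Subgroup.zpowers d).subgroupOf (Subgroup.centralizer ({d} : Set G)) with hN
  have hker : (QuotientGroup.mk' N).ker = N := QuotientGroup.ker_mk' N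
  have hcen : N ≤ Subgroup.center _ := fun n hn => Subgroup.mem_center_iff.2 fun c => Subtype.ext (by
    obtain ⟨k, hk⟩ := Subgroup.mem_subgroupOf.1 hn
    show (c : G) * (n : G) = (n : G) * (c : G)
    rw [← hk]
    exact (((hC c).1 c.2).zpow_right k).eq)
  have hcard : Nat.card N = 2 := by
    rw [Nat.card_congr (Subgroup.subgroupOfEquivOfLe (Subgroup.zpowers_le.2 hdC)).toEquiv, Nat.card_zpowers, hd]
  obtain ⟨θ, hθ, hinv⟩ := CfsgLib.Fi22Fusion.exists_cover (QuotientGroup.mk' N) (QuotientGroup.mk'_surjective N) hq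
    (hker.symm ▸ hcen) (by rw [hker, hcard]) hE ht
  have hθd : (θ CfsgLib.Fi23Pres.zSub : G) = d := by
    rw [hker, hN, Subgroup.mem_subgroupOf] at hθ
    obtain ⟨k, hk⟩ := hθ
    replace hk : d ^ k = (θ CfsgLib.Fi23Pres.zSub : G) := hk
    have h2 : d ^ (2 : ℤ) = 1 := by
      rw [show (2 : ℤ) = ((2 : ℕ) : ℤ) from rfl, zpow_natCast, ← hd, pow_orderOf_eq_one]
    rcases Int.even_or_odd' k with ⟨m, rfl | rfl⟩
    · rw [zpow_mul, h2, one_zpow] at hk
      exact absurd (θ.injective (show θ CfsgLib.Fi23Pres.zSub = θ 1 from Subtype.ext (by rw [← hk, map_one]; rfl)))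
        CfsgLib.Fi23Pres.zSub_ne
    · rw [zpow_add, zpow_mul, h2, one_zpow, one_mul, zpow_one] at hk
      exact hk.symm
  obtain ⟨ι, hι, hr, hz, hperp⟩ := CfsgLib.M23Recog.exists_emb hd hC θ hθd hinv hnwc
  have hD : ∀ g : G, ∀ x ∈ conjugatesOf d, g * x * g⁻¹ ∈ conjugatesOf d := fun g x hx =>
    IsConj.trans hx (isConj_iff.2 ⟨g, rfl⟩)
  have H : CfsgLib.M23Recog.Hyp (conjugatesOf d) :=
    { sq := fun x hx => by
        obtain ⟨g, rfl⟩ := isConj_iff.1 hx
        rw [show g * d * g⁻¹ * (g * d * g⁻¹) = g * (d * d) * g⁻¹ by group, ← pow_two, ← hd, pow_orderOf_eq_one,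
          mul_one, mul_inv_cancel]
      ne_one := fun x hx h => by
        obtain ⟨g, rfl⟩ := isConj_iff.1 hx
        rw [conj_eq_one_iff] at h
        rw [h, orderOf_one] at hd
        exact absurd hd (by norm_num)
      conj := hD
      loc := fun x hx => by
        obtain ⟨g, rfl⟩ := isConj_iff.1 hx
        exact ⟨_, CfsgLib.M23Recog.Loc.map (⟨hι, hr, hz, hperp⟩ : CfsgLib.M23Recog.Loc (conjugatesOf d) d ι) hD g⟩ }
  exact CfsgLib.M23Recog.type23 H

end Cfsg.Agent.S5402
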