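import Cfsg.Statements.S5403
import Cfsg.Agent.S5388
import Cfsg.Agent.Lib.ConwayFive.Main
import Cfsg.Agent.Lib.ConwayFive.Exists

set_option autoImplicit false
open Cfsg

namespace Cfsg.Agent.S5403

set_option maxHeartbeats 2000000 in
/-- A simple section of the automorphism group of the Leech lattice satisfying the Hall–Janko-type hypothesis (the group so obtained is the Hall–Janko group; that identification is not part of this statement): there is a subgroup A of order 5 of that automorphism group such that the centralizer of A modulo the subgroup generated by A and the centre of the automorphism group is a non-abelian simple group satisfying the large extraspecial hypothesis of minus type in dimension 4 — an involution whose centralizer has extraspecial generalized Fitting subgroup of order 32 with quotient the commutator subgroup of the isometry group of the elliptic quadratic form in dimension 4 over the field with two elements (the alternating group of degree 5),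 the involution not weakly closed in that extraspecial group. -/
theorem result : ∃ A : Subgroup ↥Cfsg.Co0, Nat.card A = 5 ∧ ∃ (hn : ((A ⊔ Subgroup.center ↥Cfsg.Co0).subgroupOf (Subgroup.centralizer (A : Set ↥Cfsg.Co0))).Normal), ∃ (S : Type) (_ : Group S) (_ : Finite S), Nonempty (S ≃* ↥(Subgroup.centralizer (A : Set ↥Cfsg.Co0)) ⧸ (A ⊔ Subgroup.center ↥Cfsg.Co0).subgroupOf (Subgroup.centralizer (A : Set ↥Cfsg.Co0))) ∧ IsSimpleGroup S ∧ ¬ IsMulCommutative S ∧ ∃ z : S, orderOf z = 2 ∧ ∃ (Q : Subgroup (Subgroup.centralizer ({z} : Set S))) (_ : Q.Normal), Cfsg.generalizedFittingSubgroup (Subgroup.centralizer ({z} : Set S)) = Q ∧ Cfsg.IsExtraspecial 2 Q ∧ Nat.card Q = 2 ^ 5 ∧ Nonempty ((Subgroup.centralizer ({z} : Set S)) ⧸ Q ≃* Cfsg.Omega (ZMod 2) (Cfsg.quadFormMinus 1 (ZMod 2) 1 1)) ∧ ∃ g : S, (∃ hq : g * z * g⁻¹ ∈ Subgroup.centralizer ({z} : Set S), (⟨g * z * g⁻¹, hq⟩ : Subgroup.centralizer ({z} : Set S)) ∈ Q) ∧ g * z * g⁻¹ ≠ z := by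
  classical
  haveI : Finite ↥Cfsg.Co0 := CfsgLib.Leech.finite_Co0
  haveI : Fact (Nat.Prime 5) := ⟨by norm_num⟩
  obtain ⟨z, hz, Q, hQn, hF, hQ, hcard, ⟨e⟩, g, ⟨hq, hg⟩, hne⟩ := Cfsg.Agent.S5388.result
  haveI := hQn
  have eR : ↥Q ≃* ↥(Q.map (Subgroup.centralizer ({z} : Set Cfsg.Spor.Co1)).subtype) :=
    Q.equivMapOfInjective _ (Subgroup.centralizer ({z} : Set Cfsg.Spor.Co1)).subtype_injective
  have st := CfsgLib.Extraspecial.Setting.of_fStar hz (Q.map (Subgroup.centralizer ({z} : Set Cfsg.Spor.Co1)).subtype)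
    (by rw [hF]) (CfsgLib.Extraspecial.isExtraspecial_congr eR hQ)
  have memC : ∀ x : Cfsg.Spor.Co1, x ∈ Subgroup.centralizer ({z} : Set Cfsg.Spor.Co1) ↔ x * z = z * x :=
    fun x => Subgroup.mem_centralizer_singleton_iff
  obtain ⟨B, H⟩ := CfsgLib.ConwayFive.exists_hyp z _ memC Q st hQ hcard e
  have T := CfsgLib.ConwayFive.exists_top z _ memC Q B H e
  obtain ⟨g₁, M⟩ := T.exists_mov ⟨g, Subgroup.mem_map_of_mem (Subgroup.centralizer ({z} : Set Cfsg.Spor.Co1)).subtype hg, hne⟩
  haveI := M.normal_sub (Subgroup.centralizer (B : Set Cfsg.Spor.Co1)) le_rfl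
  obtain ⟨⟨eJ⟩, hyp⟩ := M.quot_data (Subgroup.centralizer (B : Set Cfsg.Spor.Co1)) M.L1_le_CB
    (M.Y_le_CB M.g_mem) le_rfl
  set pz : ↥Cfsg.Co0 →* Cfsg.Spor.Co1 := QuotientGroup.mk' (Subgroup.center ↥Cfsg.Co0) with hpz
  have hker : ∀ x, pz x = 1 ↔ x = 1 ∨ x = CfsgLib.Leech.negAut := by
    intro x
    rw [hpz, QuotientGroup.mk'_apply, QuotientGroup.eq_one_iff]
    refine ⟨CfsgLib.Leech.Octad.center_or, ?_⟩
    rintro (rfl | rfl)
    exacts [one_mem _, CfsgLib.Leech.negAut_mem_center]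
  have hneg : CfsgLib.Leech.negAut * CfsgLib.Leech.negAut = 1 := by
    refine Subtype.ext (DFunLike.ext _ _ fun v => ?_)
    show CfsgLib.Leech.negAut • (CfsgLib.Leech.negAut • v) = v
    rw [CfsgLib.Leech.negAut_smul, CfsgLib.Leech.negAut_smul, neg_neg]
  -- a generator and its lift of order five
  haveI : IsCyclic ↥B := isCyclic_of_prime_card M.cardB
  obtain ⟨⟨b, hb⟩, hgen⟩ := IsCyclic.exists_generator (α := ↥B)
  have hBb : B = Subgroup.zpowers b := le_antisymm (fun x hx => by
      obtain ⟨k, hk⟩ := Subgroup.mem_zpowers_iff.mp (hgen ⟨x, hx⟩)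
      exact Subgroup.mem_zpowers_iff.mpr ⟨k, congrArg Subtype.val hk⟩)
    (Subgroup.zpowers_le.mpr hb)
  have hbord : orderOf b = 5 := by rw [← Nat.card_zpowers, ← hBb, M.cardB]
  have hb5 : b ^ 5 = 1 := hbord ▸ pow_orderOf_eq_one b
  obtain ⟨x, hx⟩ : ∃ x, pz x = b := QuotientGroup.mk'_surjective _ b
  have hx10 : x ^ 10 = 1 := by
    rcases (hker (x ^ 5)).mp (by rw [map_pow, hx, hb5]) with h | h <;>
      rw [show x ^ 10 = x ^ 5 * x ^ 5 by rw [← pow_add], h]
    exacts [one_mul 1, hneg]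
  set a := x ^ 6 with ha
  have hab : pz a = b := by rw [ha, map_pow, hx, pow_succ, hb5, one_mul]
  have ha5 : a ^ 5 = 1 := by rw [ha, ← pow_mul, show 6 * 5 = 10 * 3 by norm_num, pow_mul, hx10, one_pow]
  have ha1 : a ≠ 1 := fun h => by
    rw [h, map_one] at hab
    rw [← hab, orderOf_one] at hbord
    norm_num at hbord
  set A := Subgroup.zpowers a with hA
  have hmap : ∀ y : ↥Cfsg.Co0, y ∈ A ⊔ Subgroup.center ↥Cfsg.Co0 ↔ pz y ∈ B := by
    intro y
    rw [hBb, ← hab, ← MonoidHom.map_zpowers, ← hA, ← Subgroup.mem_comap, Subgroup.comap_map_eq, hpz,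
      QuotientGroup.ker_mk']
  have hcent : ∀ y : ↥Cfsg.Co0, y ∈ Subgroup.centralizer (A : Set ↥Cfsg.Co0) ↔
      pz y ∈ Subgroup.centralizer (B : Set Cfsg.Spor.Co1) := by
    intro y
    constructor
    · intro hy
      rw [Subgroup.mem_centralizer_iff]
      intro w hw
      rw [hBb, ← hab, ← MonoidHom.map_zpowers] at hw
      obtain ⟨u, hu, rfl⟩ := hw
      rw [← map_mul, ← map_mul, Subgroup.mem_centralizer_iff.mp hy u hu]
    · intro hy
      have h1 : pz (y * a * y⁻¹ * a⁻¹) = 1 := by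
        rw [map_mul, map_mul, map_mul, map_inv, map_inv, hab, ← Subgroup.mem_centralizer_iff.mp hy b hb]
        group
      have h2 : y * a * y⁻¹ = a := by
        rcases (hker _).mp h1 with h | h
        · exact mul_inv_eq_one.mp h
        · exfalso
          have h3 : y * a * y⁻¹ = CfsgLib.Leech.negAut * a := by rw [← h]; group
          have h4 := congrArg (· ^ 5) h3
          simp only [conj_pow, ha5, mul_one, mul_inv_cancel] at h4
          have hc : Commute CfsgLib.Leech.negAut a :=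
            (Subgroup.mem_center_iff.mp CfsgLib.Leech.negAut_mem_center a).symm
          rw [hc.mul_pow, ha5, mul_one, pow_succ, show CfsgLib.Leech.negAut ^ 4 =
            (CfsgLib.Leech.negAut * CfsgLib.Leech.negAut) * (CfsgLib.Leech.negAut * CfsgLib.Leech.negAut) by
              simp only [pow_succ, pow_zero, one_mul, mul_assoc], hneg, one_mul, one_mul] at h4
          rw [← h4, one_mul] at h3
          rw [h3, mul_inv_cancel] at h
          exact CfsgLib.Leech.negAut_ne_one h.symm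
      rw [Subgroup.mem_centralizer_iff]
      intro w hw
      obtain ⟨k, rfl⟩ := Subgroup.mem_zpowers_iff.mp hw
      exact (((show Commute y a from mul_inv_eq_iff_eq_mul.mp h2).zpow_right k).eq).symm
  let f : ↥(Subgroup.centralizer (A : Set ↥Cfsg.Co0)) →*
      ↥(Subgroup.centralizer (B : Set Cfsg.Spor.Co1)) ⧸ B.subgroupOf (Subgroup.centralizer (B : Set Cfsg.Spor.Co1)) :=
    (QuotientGroup.mk' _).comp ((pz.comp (Subgroup.subtype _)).codRestrict _ fun y => (hcent y).mp y.2)
  have hf : Function.Surjective f := by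
    intro w
    obtain ⟨⟨v, hv⟩, rfl⟩ := QuotientGroup.mk'_surjective _ w
    obtain ⟨y, rfl⟩ := QuotientGroup.mk'_surjective (Subgroup.center ↥Cfsg.Co0) v
    exact ⟨⟨y, (hcent y).mpr hv⟩, rfl⟩
  have hfker : f.ker = (A ⊔ Subgroup.center ↥Cfsg.Co0).subgroupOf (Subgroup.centralizer (A : Set ↥Cfsg.Co0)) := by
    ext y
    rw [MonoidHom.mem_ker, Subgroup.mem_subgroupOf, hmap]
    exact QuotientGroup.eq_one_iff _
  have hn : ((A ⊔ Subgroup.center ↥Cfsg.Co0).subgroupOf (Subgroup.centralizer (A : Set ↥Cfsg.Co0))).Normal :=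
    hfker ▸ f.normal_ker
  haveI := CfsgLib.J2.simple_J2
  haveI : Nontrivial (↥(Subgroup.centralizer (B : Set Cfsg.Spor.Co1)) ⧸
      B.subgroupOf (Subgroup.centralizer (B : Set Cfsg.Spor.Co1))) := eJ.toEquiv.nontrivial
  refine ⟨A, ?_, hn, _, inferInstance, inferInstance, ⟨((QuotientGroup.quotientMulEquivOfEq hfker.symm).trans
    (QuotientGroup.quotientKerEquivOfSurjective f hf)).symm⟩, MulEquiv.isSimpleGroup eJ, ?_, hyp⟩
  · rw [hA, Nat.card_zpowers]; exact orderOf_eq_prime ha5 ha1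
  · intro hc
    obtain ⟨u, v, huv⟩ := CfsgLib.J2.not_comm
    refine huv (eJ.symm.injective ?_)
    rw [map_mul, map_mul]
    exact hc.is_comm.comm _ _

end Cfsg.Agent.S5403
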