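import Cfsg.Statements.S5405
import Cfsg.Agent.Lib.OrthCohom.Frames

open CfsgLib.Orth CfsgLib.OrthCohom

set_option autoImplicit false
open scoped MatrixGroups
open Cfsg

set_option synthInstance.maxSize 512

namespace Cfsg.Agent.S5405

/-- Vanishing of first cohomology on the natural module for three small orthogonal groups over the field with two elements: for the commutator subgroup of the isometry group of the elliptic quadratic form in dimension 4, of the elliptic form in dimension 6, and of the hyperbolic form in dimension 8, every crossed homomorphism into the natural module (a map f with f(gh) = f(g) + g·f(h)) is principal (of the form g ↦ g·v − v). -/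
theorem result : (∀ f : ↥(Cfsg.Omega (ZMod 2) (Cfsg.quadFormMinus 1 (ZMod 2) 1 1)) → ((Fin 1 ⊕ Fin 1) ⊕ Fin 2 → ZMod 2), (∀ g h : ↥(Cfsg.Omega (ZMod 2) (Cfsg.quadFormMinus 1 (ZMod 2) 1 1)), f (g * h) = f g + Matrix.mulVec (((g : ↥(Cfsg.isometryGroup (ZMod 2) (Cfsg.quadFormMinus 1 (ZMod 2) 1 1))) : GL ((Fin 1 ⊕ Fin 1) ⊕ Fin 2) (ZMod 2)) : Matrix ((Fin 1 ⊕ Fin 1) ⊕ Fin 2) ((Fin 1 ⊕ Fin 1) ⊕ Fin 2) (ZMod 2)) (f h)) → ∃ v : (Fin 1 ⊕ Fin 1) ⊕ Fin 2 → ZMod 2, ∀ g : ↥(Cfsg.Omega (ZMod 2) (Cfsg.quadFormMinus 1 (ZMod 2) 1 1)), f g = Matrix.mulVec (((g : ↥(Cfsg.isometryGroup (ZMod 2) (Cfsg.quadFormMinus 1 (ZMod 2) 1 1))) : GL ((Fin 1 ⊕ Fin 1) ⊕ Fin 2) (ZMod 2)) : Matrix ((Fin 1 ⊕ Fin 1) ⊕ Fin 2) ((Fin 1 ⊕ Fin 1) ⊕ Fin 2) (ZMod 2)) v - v) ∧ (∀ f : ↥(Cfsg.Omega (ZMod 2) (Cfsg.quadFormMinus 2 (ZMod 2) 1 1)) → ((Fin 2 ⊕ Fin 2) ⊕ Fin 2 → ZMod 2), (∀ g h : ↥(Cfsg.Omega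 (ZMod 2) (Cfsg.quadFormMinus 2 (ZMod 2) 1 1)), f (g * h) = f g + Matrix.mulVec (((g : ↥(Cfsg.isometryGroup (ZMod 2) (Cfsg.quadFormMinus 2 (ZMod 2) 1 1))) : GL ((Fin 2 ⊕ Fin 2) ⊕ Fin 2) (ZMod 2)) : Matrix ((Fin 2 ⊕ Fin 2) ⊕ Fin 2) ((Fin 2 ⊕ Fin 2) ⊕ Fin 2) (ZMod 2)) (f h)) → ∃ v : (Fin 2 ⊕ Fin 2) ⊕ Fin 2 → ZMod 2, ∀ g : ↥(Cfsg.Omega (ZMod 2) (Cfsg.quadFormMinus 2 (ZMod 2) 1 1)), f g = Matrix.mulVec (((g : ↥(Cfsg.isometryGroup (ZMod 2) (Cfsg.quadFormMinus 2 (ZMod 2) 1 1))) : GL ((Fin 2 ⊕ Fin 2) ⊕ Fin 2) (ZMod 2)) : Matrix ((Fin 2 ⊕ Fin 2) ⊕ Fin 2) ((Fin 2 ⊕ Fin 2) ⊕ Fin 2) (ZMod 2)) v - v) ∧ (∀ f : ↥(Cfsg.Omega (ZMod 2) (Cfsg.quadFormPlus 4 (ZMod 2))) → (Fin 4 ⊕ Fin 4 → ZMod 2), (∀ g h : ↥(Cfsg.Omega (ZMod 2) (Cfsg.quadFormPlus 4 (ZMod 2))), f (g * h) = f g + Matrix.mulVec (((g : ↥(Cfsg.isometryGroup (ZMod 2) (Cfsg.quadFormPlus 4 (ZMod 2)))) : GL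 (Fin 4 ⊕ Fin 4) (ZMod 2)) : Matrix (Fin 4 ⊕ Fin 4) (Fin 4 ⊕ Fin 4) (ZMod 2)) (f h)) → ∃ v : Fin 4 ⊕ Fin 4 → ZMod 2, ∀ g : ↥(Cfsg.Omega (ZMod 2) (Cfsg.quadFormPlus 4 (ZMod 2))), f g = Matrix.mulVec (((g : ↥(Cfsg.isometryGroup (ZMod 2) (Cfsg.quadFormPlus 4 (ZMod 2)))) : GL (Fin 4 ⊕ Fin 4) (ZMod 2)) : Matrix (Fin 4 ⊕ Fin 4) (Fin 4 ⊕ Fin 4) (ZMod 2)) v - v) := by
  have hab : ∀ z₁ z₂ : ZMod 2, z₁ ^ 2 + 1 * z₁ * z₂ + 1 * z₂ ^ 2 = 0 → z₁ = 0 ∧ z₂ = 0 := by decide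
  have hk : Nat.card (ZMod 2) = 2 := Nat.card_zmod 2
  refine ⟨fun f hf => ?_, fun f hf => ?_, fun f hf => ?_⟩
  · obtain ⟨Q, hQ, hB⟩ := exists_quadForm_minus (F := ZMod 2) 1 hab
    refine h1_vanish hQ (frame_of_check hQ hB ?_ (a := vecsA4) (d := dualA4) (par := parA4)
      (rk := rankA4) (by decide +kernel) (by decide +kernel) (by decide +kernel) (by decide +kernel)
      (by decide +kernel) (by decide +kernel)) f hf
    have hsmall : ∀ u v : (Fin 1 ⊕ Fin 1) ⊕ Fin 2 → ZMod 2,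
        Cfsg.quadFormMinus 1 (ZMod 2) 1 1 u = 0 → Cfsg.quadFormMinus 1 (ZMod 2) 1 1 v = 0 →
        pol (Cfsg.quadFormMinus 1 (ZMod 2) 1 1) u v = 0 → u = 0 ∨ v = 0 ∨ u = v := by
      decide +kernel
    refine top_le_iff.1 ((closure_siegel_refl hB).ge.trans ((Subgroup.closure_le _).2 ?_))
    rintro g (⟨u, v, hg⟩ | ⟨v, hv⟩)
    swap
    · exact refl_mem hv
    by_cases hv : Q v = 0
    swap
    · exact siegel_mem_refl_of_aniso hB hg hv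
    have hu := hg.1
    have huv := hg.2.1
    obtain h | h | h := hsmall u v (hQ ▸ hu) (hQ ▸ hv) (by rw [← hQ]; exact huv)
    all_goals
      suffices e : g = 1 by rw [e]; exact one_mem _
      refine ext_ap fun x => ?_
      rw [hg.2.2, ap_one]
      subst h
      simp [hv, b_zero_left, b_zero_right]
  · obtain ⟨Q, hQ, hB⟩ := exists_quadForm_minus (F := ZMod 2) 2 hab
    exact h1_vanish hQ (frame_of_check hQ hB (refl_eq_top hB fun e => by simp at e)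
      (a := vecsE6) (d := dualE6) (par := parE6)
      (rk := rankE6) (by decide +kernel) (by decide +kernel) (by decide +kernel) (by decide +kernel)
      (by decide +kernel) (by decide +kernel)) f hf
  · obtain ⟨Q, hQ, hB⟩ := exists_quadForm_plus (F := ZMod 2) 4
    exact h1_vanish hQ (frame_of_check hQ hB (refl_eq_top hB fun e => by simp at e)
      (a := vecsE8) (d := dualE8) (par := parE8)
      (rk := rankE8) (by decide +kernel) (by decide +kernel) (by decide +kernel) (by decide +kernel)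
      (by decide +kernel) (by decide +kernel)) f hf

end Cfsg.Agent.S5405
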