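import Cfsg.Statements.S5413
import Cfsg.Agent.Lib.MonsterCent.PkgFive
import Cfsg.Agent.Lib.MonsterCent.Classes

set_option autoImplicit false
open Cfsg

namespace Cfsg.Agent.S5413

/-- Let G be a finite group of Monster type at the involution z with Q the extraspecial normal subgroup of order 2^25 of C = C_G(z) (so C/Q is identified with the first Conway group with Q modulo its centre the Leech lattice modulo 2, and z is not weakly closed in Q). Let s be a conjugate of z in Q other than z and let B be a Sylow 5-subgroup of the joint centralizer of z and s. Then the centralizer of B modulo B is a group of Harada–Norton type (an involution whose centralizer D has generalized Fitting subgroup R extraspecial of order 2^9 with D/R the wreath product of the alternating group of degree 5 by a group of order 2, the involution not weakly closed in R). -/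
theorem result {G : Type*} [Group G] [Finite G] (z : G) (Q : Subgroup (Subgroup.centralizer ({z} : Set G))) [Q.Normal] (hM : Cfsg.IsOfMonsterType z Q) (s : G) (hsQ : ∃ hsc : s ∈ Subgroup.centralizer ({z} : Set G), (⟨s, hsc⟩ : Subgroup.centralizer ({z} : Set G)) ∈ Q) (hs : IsConj z s) (hs1 : s ≠ z) (B : Subgroup G) (hB : B ≤ Subgroup.centralizer ({z, s} : Set G)) (hBp : Nat.card B = 5 ^ (Nat.card ↥(Subgroup.centralizer ({z, s} : Set G))).factorization 5) [hn : (B.subgroupOf (Subgroup.centralizer (B : Set G))).Normal] : Cfsg.IsOfHaradaNortonType (↥(Subgroup.centralizer (B : Set G)) ⧸ B.subgroupOf (Subgroup.centralizer (B : Set G))) := by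
  classical
  obtain ⟨hset, e0, ψ0, hiso⟩ := hM
  have S0 : CfsgLib.Monster.Setup z Q e0 ψ0 := ⟨hset, hiso⟩
  obtain ⟨hsc, hsm⟩ := hsQ
  have hsG : s ∈ CfsgLib.Monster.QG Q := CfsgLib.Monster.mem_QG_iff.2 ⟨hsc, hsm⟩
  obtain ⟨k, hk⟩ := isConj_iff.1 hs
  obtain ⟨e, ψ, S, hrs⟩ := S0.exists_coords hsG hk hs1
  have hf := S.factor_eq (p := 5) (k := 1) (by norm_num) (by decide) hrs (by norm_num) (by norm_num)
  rw [hf, pow_one] at hBp
  obtain ⟨e', ψ', β, -, -, -, -, -, -, zb, hzC, R, hR, -, hset', hiso', -⟩ :=
    S.local_main (r := 1) CfsgLib.MonsterCent.Five.pkg hrs hk hs1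
      (CfsgLib.MonsterCent.permAut_cross _) hB hBp (fun _ => True)
      (fun g hg hgo _ => CfsgLib.MonsterCent.cross_conj_pow (by norm_num) (by norm_num) hg hgo
        (CfsgLib.MonsterCent.permAut_cross _) CfsgLib.MonsterCent.Five.order_b)
      (fun _ _ _ _ _ _ _ _ => trivial) ⟨1, one_mem _, by simp⟩ (by norm_num)
      (fun a ha h0 => ⟨1, 0, by norm_num, by norm_num, by interval_cases a <;> norm_num⟩)
  exact ⟨zb, R, hR, hset', hiso'⟩

end Cfsg.Agent.S5413
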