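import Cfsg.Statements.S5415
import Cfsg.Agent.Lib.MonsterCent.LocalThree

set_option autoImplicit false
open Cfsg

namespace Cfsg.Agent.S5415

/-- Let G be a finite group of Monster type at the involution z with Q the extraspecial normal subgroup of order 2^25 of C = C_G(z) (so C/Q is identified with the first Conway group with Q modulo its centre the Leech lattice modulo 2, and z is not weakly closed in Q). Let s be a conjugate of z in Q other than z and let Y be a subgroup of order 3 of the joint centralizer L of z and s that is 3-central in L (Y lies in the centre of some Sylow 3-subgroup of L). Then the centralizer of Y modulo Y is a group of large Fischer type (an involution whose centralizer D has generalized Fitting subgroup R extraspecial of order 2^13 and normal subgroups R ≤ N ≤ M with N/R of order 3, M/N the projective special unitary group of dimension 4 over the field with nine elements and M of index 2 in D; the involution not weakly closed in R). -/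
theorem result {G : Type*} [Group G] [Finite G] (z : G) (Q : Subgroup (Subgroup.centralizer ({z} : Set G))) [Q.Normal] (hM : Cfsg.IsOfMonsterType z Q) (s : G) (hsQ : ∃ hsc : s ∈ Subgroup.centralizer ({z} : Set G), (⟨s, hsc⟩ : Subgroup.centralizer ({z} : Set G)) ∈ Q) (hs : IsConj z s) (hs1 : s ≠ z) (Y : Subgroup G) (hY : Y ≤ Subgroup.centralizer ({z, s} : Set G)) (hY3 : Nat.card Y = 3) (hc : ∃ P : Sylow 3 ↥(Subgroup.centralizer ({z, s} : Set G)), Y.subgroupOf (Subgroup.centralizer ({z, s} : Set G)) ≤ (Subgroup.center ↥(P : Subgroup ↥(Subgroup.centralizer ({z, s} : Set G)))).map (P : Subgroup ↥(Subgroup.centralizer ({z, s} : Set G))).subtype) [hn : (Y.subgroupOf (Subgroup.centralizer (Y : Set G))).Normal] : Cfsg.IsOfLargeFischerType (↥(Subgroup.centralizer (Y : Set G)) ⧸ Y.subgroupOf (Subgroup.centralizer (Y : Set G))) := by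
  classical
  obtain ⟨hset, e0, ψ0, hiso⟩ := hM
  have S0 : CfsgLib.Monster.Setup z Q e0 ψ0 := ⟨hset, hiso⟩
  obtain ⟨hsc, hsm⟩ := hsQ
  have hsG : s ∈ CfsgLib.Monster.QG Q := CfsgLib.Monster.mem_QG_iff.2 ⟨hsc, hsm⟩
  obtain ⟨k, hk⟩ := isConj_iff.1 hs
  obtain ⟨e, ψ, S, hrs⟩ := S0.exists_coords hsG hk hs1
  have hf := S.factor_eq (p := 3) (k := 3) (by norm_num) (by decide) hrs (by norm_num) (by norm_num)
  haveI : Fact (Nat.Prime 3) := ⟨Nat.prime_three⟩
  obtain ⟨T, iT, hpkg, hser⟩ := CfsgLib.MonsterCent.ThreeSix.pkg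
  letI := iT
  obtain ⟨e', ψ', β, -, -, -, -, -, -, zb, hzC, R, hR, -, hset', hiso', -⟩ :=
    S.local_main (r := 1) hpkg hrs hk hs1
      (CfsgLib.MonsterCent.permAut_cross _) hY hY3 (fun c => 27 ∣ c)
      (fun g hg hgo hc => CfsgLib.MonsterCent.class_six hg hgo hc)
      (fun γ g hγo hgo hov hγs hgc ⟨δ, hδ, hδo, hδe⟩ => by
        have hgenY : Y = Subgroup.zpowers δ := (Subgroup.eq_of_le_of_card_ge (Subgroup.zpowers_le.2 hδ)
          (by rw [hY3, Nat.card_zpowers, hδo])).symm
        have h1 := (CfsgLib.MonsterCent.central_in_sylow_iff hY hδ hgenY hδo hf).1 hc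
        rw [← hδe] at h1
        exact S.dvd_cross_of_dvd (k := 3) (by decide) (by rw [← hgo, pow_orderOf_eq_one]) hov hrs h1) ⟨1, one_mem _, by simp⟩ (by norm_num)
      (fun a ha h0 => ⟨1, 0, by norm_num, by norm_num, by interval_cases a <;> norm_num⟩)
  obtain ⟨ei⟩ := hiso'
  obtain ⟨N, M, hN, hM', h1, h2, h3, h4, h5⟩ := CfsgLib.MonsterCent.series_lift ei hser
  exact ⟨zb, R, hR, hset', N, M, hN, hM', h1, h2, h3, h4, h5⟩

end Cfsg.Agent.S5415
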