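import Cfsg.Statements.S5416
import Cfsg.Agent.Lib.MonsterCent.LocalSeven
-- import your own Cfsg.Agent.* helpers here

set_option autoImplicit false
open Cfsg

namespace Cfsg.Agent.S5416

/-- Let G be a finite group of Monster type at the involution z with Q the extraspecial normal subgroup of order 2^25 of C = C_G(z) (so C/Q is identified with the first Conway group with Q modulo its centre the Leech lattice modulo 2, and z is not weakly closed in Q). Let s be a conjugate of z in Q other than z and let B be a Sylow 7-subgroup of the joint centralizer of z and s. Then the centralizer of B modulo B is a group of Held type (an involution whose centralizer D has generalized Fitting subgroup R extraspecial of order 2^7 with D/R isomorphic to SL(3, 2), exactly 29 of its conjugates lying in R, and the involution not weakly closed in R). -/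
theorem result {G : Type*} [Group G] [Finite G] (z : G) (Q : Subgroup (Subgroup.centralizer ({z} : Set G))) [Q.Normal] (hM : Cfsg.IsOfMonsterType z Q) (s : G) (hsQ : ∃ hsc : s ∈ Subgroup.centralizer ({z} : Set G), (⟨s, hsc⟩ : Subgroup.centralizer ({z} : Set G)) ∈ Q) (hs : IsConj z s) (hs1 : s ≠ z) (B : Subgroup G) (hB : B ≤ Subgroup.centralizer ({z, s} : Set G)) (hBp : Nat.card B = 7 ^ (Nat.card ↥(Subgroup.centralizer ({z, s} : Set G))).factorization 7) [hn : (B.subgroupOf (Subgroup.centralizer (B : Set G))).Normal] : Cfsg.IsOfHeldType (↥(Subgroup.centralizer (B : Set G)) ⧸ B.subgroupOf (Subgroup.centralizer (B : Set G))) := by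
  classical
  obtain ⟨hset, e0, ψ0, hiso⟩ := hM
  have S0 : CfsgLib.Monster.Setup z Q e0 ψ0 := ⟨hset, hiso⟩
  obtain ⟨hsc, hsm⟩ := hsQ
  have hsG : s ∈ CfsgLib.Monster.QG Q := CfsgLib.Monster.mem_QG_iff.2 ⟨hsc, hsm⟩
  obtain ⟨k, hk⟩ := isConj_iff.1 hs
  obtain ⟨e, ψ, S, hrs⟩ := S0.exists_coords hsG hk hs1
  have hf := S.factor_eq (p := 7) (k := 1) (by norm_num) (by decide) hrs (by norm_num) (by norm_num)
  rw [hf, pow_one] at hBp
  obtain ⟨e', ψ', β, S', -, hBz, hβ, hov, -, zb, hzC, R, hR, hzb, hset', hiso', hRmem⟩ :=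
    S.local_main (r := 2) CfsgLib.MonsterCent.Seven.pkg hrs hk hs1
      (CfsgLib.MonsterCent.permAut_cross _) hB hBp (fun _ => True)
      (fun g hg hgo _ => CfsgLib.MonsterCent.cross_conj_pow (by norm_num) (by norm_num) hg hgo
        (CfsgLib.MonsterCent.permAut_cross _) CfsgLib.MonsterCent.Seven.order_b)
      (fun _ _ _ _ _ _ _ _ => trivial) CfsgLib.MonsterCent.Seven.exists_squarer (by norm_num)
      CfsgLib.MonsterCent.Seven.seven_arith
  exact ⟨zb, R, hR, hset', hiso', CfsgLib.MonsterCent.Seven.count_quot S' hβ hov hBz hzb hRmem⟩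

end Cfsg.Agent.S5416
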