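import Cfsg.Statements.S5418
import Cfsg.Agent.Lib.MonsterCent.SevenOut
import Cfsg.Agent.Lib.MonsterCent.SevenLayer
-- import your own Cfsg.Agent.* helpers here

set_option autoImplicit false
open Cfsg

namespace Cfsg.Agent.S5418

/-- Let G be a finite group of Monster type at the involution z with Q the extraspecial normal subgroup of order 2^25 of C = C_G(z) (so C/Q is identified with the first Conway group with Q modulo its centre the Leech lattice modulo 2, and z is not weakly closed in Q). Let s be a conjugate of z in Q other than z and let B be a Sylow 7-subgroup of the joint centralizer of z and s. Then the centralizer of B has index 6 in the normalizer of B; and some involution inverting B induces, by conjugation, a non-inner automorphism of the layer of the centralizer of B. -/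
theorem result {G : Type*} [Group G] [Finite G] (z : G) (Q : Subgroup (Subgroup.centralizer ({z} : Set G))) [Q.Normal] (hM : Cfsg.IsOfMonsterType z Q) (s : G) (hsQ : ∃ hsc : s ∈ Subgroup.centralizer ({z} : Set G), (⟨s, hsc⟩ : Subgroup.centralizer ({z} : Set G)) ∈ Q) (hs : IsConj z s) (hs1 : s ≠ z) (B : Subgroup G) (hB : B ≤ Subgroup.centralizer ({z, s} : Set G)) (hBp : Nat.card B = 7 ^ (Nat.card ↥(Subgroup.centralizer ({z, s} : Set G))).factorization 7) : (Subgroup.centralizer (B : Set G)).relIndex (Subgroup.normalizer (B : Set G)) = 6 ∧ ∃ t : G, orderOf t = 2 ∧ (∀ b ∈ B, t * b * t⁻¹ = b⁻¹) ∧ (∀ x ∈ (Cfsg.layer ↥(Subgroup.centralizer (B : Set G))).map (Subgroup.centralizer (B : Set G)).subtype, t * x * t⁻¹ ∈ (Cfsg.layer ↥(Subgroup.centralizer (B : Set G))).map (Subgroup.centralizer (B : Set G)).subtype) ∧ ¬ ∃ l ∈ (Cfsg.layer ↥(Subgroup.centralizer (B : Set G))).map (Subgroup.centralizer (B : Set G)).subtype, ∀ x ∈ (Cfsg.layer ↥(Subgroup.centralizer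 (B : Set G))).map (Subgroup.centralizer (B : Set G)).subtype, t * x * t⁻¹ = l * x * l⁻¹ := by
  classical
  obtain ⟨hset, e0, ψ0, hiso⟩ := hM
  have S0 : CfsgLib.Monster.Setup z Q e0 ψ0 := ⟨hset, hiso⟩
  obtain ⟨hsc, hsm⟩ := hsQ
  have hsG : s ∈ CfsgLib.Monster.QG Q := CfsgLib.Monster.mem_QG_iff.2 ⟨hsc, hsm⟩
  obtain ⟨k, hk⟩ := isConj_iff.1 hs
  obtain ⟨e, ψ, S, hrs⟩ := S0.exists_coords hsG hk hs1
  have hf := S.factor_eq (p := 7) (k := 1) (by norm_num) (by decide) hrs (by norm_num) (by norm_num)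
  rw [hf, pow_one] at hBp
  set C := Subgroup.centralizer (B : Set G) with hC
  haveI hn : (B.subgroupOf C).Normal := ⟨fun a ha c => by
    rw [Subgroup.mem_subgroupOf] at ha ⊢
    simp only [Subgroup.coe_mul, Subgroup.coe_inv]
    rw [← Subgroup.mem_centralizer_iff.1 c.2 _ ha, mul_inv_cancel_right]
    exact ha⟩
  obtain ⟨e', ψ', β, S', hrs', hBz, hβ, hov, hfus, zb, hzC, -⟩ :=
    S.local_main (r := 2) CfsgLib.MonsterCent.Seven.pkg hrs hk hs1
      (CfsgLib.MonsterCent.permAut_cross _) hB hBp (fun _ => True)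
      (fun g hg hgo _ => CfsgLib.MonsterCent.cross_conj_pow (by norm_num) (by norm_num) hg hgo
        (CfsgLib.MonsterCent.permAut_cross _) CfsgLib.MonsterCent.Seven.order_b)
      (fun _ _ _ _ _ _ _ _ => trivial) CfsgLib.MonsterCent.Seven.exists_squarer (by norm_num)
      CfsgLib.MonsterCent.Seven.seven_arith
  have hβB : β ∈ B := hBz ▸ Subgroup.mem_zpowers β
  have hβs : β * s = s * β := (CfsgLib.Monster.mem_centralizer_pair.1 (hB hβB)).2
  have D : CfsgLib.MonsterCent.Seven.CentData S' B β s :=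
    ⟨hβ, hov, hBz, hsG, hs, hs1, hβs.symm, hfus⟩
  obtain ⟨t, ht2, htz, htβ⟩ := CfsgLib.MonsterCent.Seven.exists_inverting S' hk hrs' hβ hov
  obtain ⟨h, hh⟩ := CfsgLib.MonsterCent.Seven.exists_square_conj S' hβ hov
  have hinv : ∀ b ∈ B, t * b * t⁻¹ = b⁻¹ := by
    intro b hb
    rw [hBz] at hb
    obtain ⟨i, rfl⟩ := Subgroup.mem_zpowers_iff.1 hb
    rw [← conj_zpow, htβ, inv_zpow]
  have norm_of : ∀ (g : G) (a : ℕ), g * β * g⁻¹ = β ^ a → g ∈ Subgroup.normalizer (B : Set G) := by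
    intro g a hg
    refine Subgroup.mem_normalizer_fintype fun x hx => ?_
    rw [SetLike.mem_coe, hBz] at hx ⊢
    obtain ⟨i, rfl⟩ := Subgroup.mem_zpowers_iff.1 hx
    rw [← conj_zpow, hg]
    exact zpow_mem (pow_mem (Subgroup.mem_zpowers β) a) i
  have hβ7 : β ^ 7 = 1 := by rw [← hβ, pow_orderOf_eq_one]
  have ht6 : t * β * t⁻¹ = β ^ 6 := by
    rw [htβ]; exact inv_eq_of_mul_eq_one_right (by rw [← pow_succ', hβ7])
  refine ⟨?_, t, ht2, hinv, ?_, ?_⟩
  · haveI : Fact (Nat.Prime 7) := ⟨by norm_num⟩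
    haveI : IsCyclic ↥B := isCyclic_of_prime_card hBp
    haveI : Finite (MulAut ↥B) := Finite.of_injective (fun f : MulAut ↥B => (f : ↥B → ↥B))
      DFunLike.coe_injective
    have hrange : B.normalizerMonoidHom.range = ⊤ := by
      rw [eq_top_iff]
      intro f _
      obtain ⟨a, ha⟩ := Subgroup.mem_zpowers_iff.1
        (hBz ▸ (f ⟨β, hβB⟩).2 : ((f ⟨β, hβB⟩ : ↥B) : G) ∈ Subgroup.zpowers β)
      obtain ⟨c, hc⟩ : ∃ g : G, g * β * g⁻¹ = ((f ⟨β, hβB⟩ : ↥B) : G) := by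
        have hfne : ((f ⟨β, hβB⟩ : ↥B) : G) ≠ 1 := fun h0 => by
          have h1 : (⟨β, hβB⟩ : ↥B) = 1 := f.injective (by rw [map_one]; exact Subtype.ext h0)
          rw [show β = 1 from congrArg Subtype.val h1, orderOf_one] at hβ
          norm_num at hβ
        obtain ⟨m, hm⟩ := mem_powers_iff_mem_zpowers.2
          (hBz ▸ (f ⟨β, hβB⟩).2 : ((f ⟨β, hβB⟩ : ↥B) : G) ∈ Subgroup.zpowers β)
        have hm' : β ^ (m % 7) = ((f ⟨β, hβB⟩ : ↥B) : G) := by
          rw [← hm]; show β ^ (m % 7) = β ^ m; rw [← hβ, pow_mod_orderOf]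
        have e4 : h ^ 2 * β * (h ^ 2)⁻¹ = β ^ 4 := by
          rw [show h ^ 2 * β * (h ^ 2)⁻¹ = h * (h * β * h⁻¹) * h⁻¹ by rw [pow_two]; group, hh,
            ← conj_pow, hh, ← pow_mul]
        have comp : ∀ (g : G) (a : ℕ), g * β * g⁻¹ = β ^ a → g * t * β * (g * t)⁻¹ = β ^ (a * 6) := by
          intro g a hg
          rw [show g * t * β * (g * t)⁻¹ = g * (t * β * t⁻¹) * g⁻¹ by group, ht6, ← conj_pow, hg,
            ← pow_mul]
        have red : ∀ a, β ^ a = β ^ (a % 7) := fun a => by rw [← hβ, pow_mod_orderOf]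
        rw [← hm']
        have : m % 7 < 7 := Nat.mod_lt _ (by norm_num)
        have h0 : m % 7 ≠ 0 := fun h0 => hfne (by rw [← hm', h0, pow_zero])
        interval_cases hmm : m % 7
        · exact absurd rfl h0
        · exact ⟨1, by simp⟩
        · exact ⟨h, hh⟩
        · exact ⟨h ^ 2 * t, (comp _ 4 e4).trans (by rw [red])⟩
        · exact ⟨h ^ 2, e4⟩
        · exact ⟨h * t, (comp _ 2 hh).trans (by rw [red])⟩
        · exact ⟨t, ht6⟩
      obtain ⟨m, hm⟩ := mem_powers_iff_mem_zpowers.2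
        (hBz ▸ (f ⟨β, hβB⟩).2 : ((f ⟨β, hβB⟩ : ↥B) : G) ∈ Subgroup.zpowers β)
      refine ⟨⟨c, norm_of c m (hc.trans hm.symm)⟩, MulEquiv.ext fun x => ?_⟩
      obtain ⟨i, hi⟩ := Subgroup.mem_zpowers_iff.1 (hBz ▸ x.2 : (x : G) ∈ Subgroup.zpowers β)
      have hx : x = (⟨β, hβB⟩ : ↥B) ^ i := Subtype.ext (by rw [Subgroup.coe_zpow]; exact hi.symm)
      rw [hx, map_zpow, map_zpow]
      congr 1
      exact Subtype.ext hc
    rw [Subgroup.relIndex, ← Subgroup.normalizerMonoidHom_ker, Subgroup.index_ker, hrange,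
      Subgroup.card_top, IsCyclic.card_mulAut, hBp]
    decide
  · intro x hx
    obtain ⟨y, hy, rfl⟩ := hx
    have hconjC : ∀ c ∈ C, t * c * t⁻¹ ∈ C := by
      intro c hc
      refine D.mem_iff.2 ?_
      have h1 : c * β⁻¹ = β⁻¹ * c := ((show Commute c β from D.mem_iff.1 hc).inv_right).eq
      have h2 : t * β⁻¹ * t⁻¹ = β := by rw [← conj_inv, htβ, inv_inv]
      calc t * c * t⁻¹ * β = t * c * t⁻¹ * (t * β⁻¹ * t⁻¹) := by rw [h2]
        _ = t * (c * β⁻¹) * t⁻¹ := by group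
        _ = t * (β⁻¹ * c) * t⁻¹ := by rw [h1]
        _ = (t * β⁻¹ * t⁻¹) * (t * c * t⁻¹) := by group
        _ = _ := by rw [h2]
    have htt : t * t = 1 := by rw [← pow_two, ← ht2, pow_orderOf_eq_one]
    have hti : t⁻¹ = t := inv_eq_of_mul_eq_one_right htt
    let φ : ↥C ≃* ↥C :=
      { toFun := fun c => ⟨t * c * t⁻¹, hconjC c c.2⟩
        invFun := fun c => ⟨t * c * t⁻¹, hconjC c c.2⟩
        left_inv := fun c => Subtype.ext (by
          show t * (t * c * t⁻¹) * t⁻¹ = c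
          rw [hti, show t * (t * (c : G) * t) * t = (t * t) * c * (t * t) by group, htt, one_mul,
            mul_one])
        right_inv := fun c => Subtype.ext (by
          show t * (t * c * t⁻¹) * t⁻¹ = c
          rw [hti, show t * (t * (c : G) * t) * t = (t * t) * c * (t * t) by group, htt, one_mul,
            mul_one])
        map_mul' := fun a c => Subtype.ext (by
          show t * ((a : G) * c) * t⁻¹ = t * a * t⁻¹ * (t * c * t⁻¹)
          group) }
    have hmap : φ y ∈ Cfsg.layer ↥C :=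
      (Subgroup.characteristic_iff_map_le.1 inferInstance φ) ⟨y, hy, rfl⟩
    exact ⟨φ y, hmap, rfl⟩
  · rintro ⟨l, hl, hall⟩
    have hzL := D.mem_layer hzC
    obtain ⟨g, hgβ, hgz⟩ := CfsgLib.MonsterCent.Seven.fuse_seven S' hsG hs hs1 hβ D.zβ.symm hβs
    have hsL : (⟨g, D.mem_iff.2 hgβ⟩ : ↥C) * ⟨z, hzC⟩ * ⟨g, D.mem_iff.2 hgβ⟩⁻¹ ∈ Cfsg.layer ↥C :=
      (CfsgLib.Layer.layer_normal (G := ↥C)).conj_mem _ hzL _
    have hz' := hall z ⟨_, hzL, rfl⟩
    have hs' := hall s ⟨_, hsL, hgz⟩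
    obtain ⟨l0, -, rfl⟩ := hl
    have hlβ : (l0 : G) * β = β * l0 := D.mem_iff.1 l0.2
    set u := (l0 : G)⁻¹ * t with hu
    change t * z * t⁻¹ = (l0 : G) * z * (l0 : G)⁻¹ at hz'
    change t * s * t⁻¹ = (l0 : G) * s * (l0 : G)⁻¹ at hs'
    have huz : u * z = z * u := by
      rw [← mul_inv_eq_iff_eq_mul, hu, show (l0 : G)⁻¹ * t * z * ((l0 : G)⁻¹ * t)⁻¹ =
        (l0 : G)⁻¹ * (t * z * t⁻¹) * l0 by group, hz']
      group
    have hus : u * s = s * u := by
      rw [← mul_inv_eq_iff_eq_mul, hu, show (l0 : G)⁻¹ * t * s * ((l0 : G)⁻¹ * t)⁻¹ =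
        (l0 : G)⁻¹ * (t * s * t⁻¹) * l0 by group, hs']
      group
    have huβ : u * β * u⁻¹ = β⁻¹ := by
      rw [hu, show (l0 : G)⁻¹ * t * β * ((l0 : G)⁻¹ * t)⁻¹ = (l0 : G)⁻¹ * (t * β * t⁻¹) * l0 by group,
        htβ, mul_assoc, ← ((show Commute (l0 : G) β from hlβ).inv_right).eq, inv_mul_cancel_left]
    obtain ⟨n, hno⟩ := CfsgLib.Monster.exists_over (e := e') (CfsgLib.Monster.mem_CZ.2 huz)
    have hnc : n ∈ CfsgLib.Leech.crossStab := S'.over_crossStab hrs' hno hus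
    have hb7 : CfsgLib.MonsterCent.Seven.b ^ 7 = 1 := by
      rw [← CfsgLib.MonsterCent.Seven.order_b, pow_orderOf_eq_one]
    have h1 := (hno.mul hov).mul hno.inv
    rw [huβ] at h1
    exact CfsgLib.MonsterCent.Seven.cross_not_invert hnc
      (CfsgLib.Monster.eq_of_center_of_odd (p := 7) (by decide)
        (by rw [conj_pow, hb7, mul_one, mul_inv_cancel]) (by rw [inv_pow, hb7, inv_one])
        (CfsgLib.Monster.Over.unique h1 hov.inv))

end Cfsg.Agent.S5418
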