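import Cfsg.Statements.S5422
import Cfsg.Agent.Lib.Extraspecial.LargePair

set_option autoImplicit false
set_option linter.style.haveILetI false
open Cfsg

namespace Cfsg.Agent.S5422

/-- Let Q be an extraspecial 2-subgroup of the finite group G whose centralizer in G is its centre Z and which is normal in the centralizer of Z; suppose Q has width at least 2 (order 2^(2w+1) with w ≥ 2) and g is an element of G not normalizing Z with g Z g⁻¹ inside Q. Then Z lies inside g Q g⁻¹; writing V for the subgroup generated by Z and g Z g⁻¹ (a four-group), the normalizer of V induces on V its full automorphism group, that is, the centralizer of V has index 6 in the normalizer of V; and Q is a large extraspecial 2-subgroup of G. -/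
theorem result {G : Type*} [Group G] [Finite G] (Q : Subgroup G) (hL1 : Cfsg.IsExtraspecial 2 ↥Q) (hL2 : Subgroup.centralizer (Q : Set G) = ((Subgroup.center ↥Q).map Q.subtype)) (hL3 : Subgroup.centralizer (((Subgroup.center ↥Q).map Q.subtype) : Set G) ≤ Subgroup.normalizer (Q : Set G)) (w : ℕ) (hw : 2 ≤ w) (hcard : Nat.card ↥Q = 2 ^ (2 * w + 1)) (g : G) (hg : g ∉ Subgroup.normalizer (((Subgroup.center ↥Q).map Q.subtype) : Set G)) (hZg : (((Subgroup.center ↥Q).map Q.subtype)).map (MulAut.conj g).toMonoidHom ≤ Q) : ((Subgroup.center ↥Q).map Q.subtype) ≤ (Q).map (MulAut.conj g).toMonoidHom ∧ (Subgroup.centralizer ((((Subgroup.center ↥Q).map Q.subtype) ⊔ (((Subgroup.center ↥Q).map Q.subtype)).map (MulAut.conj g).toMonoidHom : Subgroup G) : Set G)).relIndex (Subgroup.normalizer ((((Subgroup.center ↥Q).map Q.subtype) ⊔ (((Subgroup.center ↥Q).map Q.subtype)).map (MulAut.conj g).toMonoidHom : Subgroup G) : Set G)) = 6 ∧ Cfsg.IsLargeExtraspecial Q := by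
  haveI := Fact.mk Nat.prime_two
  obtain ⟨z, hzc, hz2⟩ := CfsgLib.Extraspecial.exists_gen hL1
  have s : CfsgLib.Extraspecial.Setting Q z :=
    { ex := hL1
      center := hzc
      ordz := hz2
      cQ := hL2.trans hzc
      cz := fun x hx => hL3 (by
        rw [hzc, Subgroup.mem_centralizer_iff]
        intro v hv
        obtain ⟨n, rfl⟩ := Subgroup.mem_zpowers_iff.mp hv
        exact ((show Commute z x from (Subgroup.mem_centralizer_singleton_iff.mp hx).symm).zpow_left n).eq) }
  rw [hzc] at hg hZg ⊢
  rw [MonoidHom.map_zpowers] at hZg ⊢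
  simp only [MulEquiv.coe_toMonoidHom, MulAut.conj_apply] at hZg ⊢
  have hne : g * z * g⁻¹ ≠ z := fun h => hg (by
    rw [Subgroup.mem_normalizer_iff]
    intro x
    have hiff : ∀ v, v ∈ Subgroup.zpowers z → g * v * g⁻¹ = v := by
      intro v hv
      obtain ⟨n, rfl⟩ := Subgroup.mem_zpowers_iff.mp hv
      rw [← conj_zpow, h]
    constructor
    · intro hx; rw [hiff x hx]; exact hx
    · intro hx
      have h2 := hiff _ hx
      have h3 : g * x * g⁻¹ = x := mul_left_cancel (mul_right_cancel h2)
      rwa [h3] at hx)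
  have c : CfsgLib.Extraspecial.Pair Q z g :=
    ⟨s, Subgroup.zpowers_le.mp hZg, hne, by
      rw [hcard]
      exact (show 16 = 2 ^ 4 by norm_num) ▸ Nat.pow_le_pow_right (by norm_num) (by omega)⟩
  have hV : Subgroup.zpowers z ⊔ Subgroup.zpowers (g * z * g⁻¹) = CfsgLib.Extraspecial.Pair.V z g := by
    rw [CfsgLib.Extraspecial.Pair.V, Set.insert_eq, Subgroup.closure_union, Subgroup.zpowers_eq_closure,
      Subgroup.zpowers_eq_closure]
  refine ⟨Subgroup.zpowers_le.mpr c.mem', ?_, hL1, hL2, hL3, c.odd_eq_bot⟩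
  rw [hV]
  exact c.relIndex_centralizer_V

end Cfsg.Agent.S5422
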