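import Cfsg.Statements.S5423
import Cfsg.Agent.Lib.Extraspecial.AffineOfSubgroups
-- import your own Cfsg.Agent.* helpers here

set_option autoImplicit false
open Cfsg

namespace Cfsg.Agent.S5423

/-- Let G be a finite group that is the split extension of an elementary abelian normal subgroup U of order 2^(n+1), n ≥ 1, by its full automorphism group: U has a complement M in G whose conjugation action on U is faithful and realizes every automorphism of U. Let Z be a subgroup of U of order 2 and Q the largest normal 2-subgroup of the centralizer C of Z. Then Q is extraspecial of order 2^(2n+1) with an elementary abelian subgroup of order 2^(n+1) (plus type), Q is a large extraspecial 2-subgroup of G, and C is the split extension of Q by the general linear group of degree n over the field with two elements. -/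
theorem result {G : Type*} [Group G] [Finite G] (n : ℕ) (hn : 1 ≤ n) (U M : Subgroup G) [U.Normal] (hU : Cfsg.IsElementaryAbelian 2 U) (hUcard : Nat.card ↥U = 2 ^ (n + 1)) (hUM : U ⊓ M = ⊥) (hUM' : U ⊔ M = ⊤) (hfaith : ∀ m ∈ M, (∀ u ∈ U, m * u * m⁻¹ = u) → m = 1) (hfull : ∀ φ : ↥U ≃* ↥U, ∃ m ∈ M, ∀ u : ↥U, ((φ u : ↥U) : G) = m * u * m⁻¹) (Z : Subgroup G) (hZU : Z ≤ U) (hZ : Nat.card ↥Z = 2) (Q : Subgroup G) (hQ : Q = (Cfsg.pCore 2 ↥(Subgroup.centralizer (Z : Set G))).map (Subgroup.centralizer (Z : Set G)).subtype) : Cfsg.IsExtraspecial 2 ↥Q ∧ Nat.card ↥Q = 2 ^ (2 * n + 1) ∧ (∃ E : Subgroup G, E ≤ Q ∧ Cfsg.IsElementaryAbelian 2 E ∧ Nat.card ↥E = 2 ^ (n + 1)) ∧ Cfsg.IsLargeExtraspecial Q ∧ ∃ K : Subgroup G, K ≤ Subgroup.centralizer (Z : Set G) ∧ Q ⊓ K = ⊥ ∧ Q ⊔ K = Subgroup.centralizer (Z : Set G) ∧ Nonempty (↥K ≃* Matrix.GeneralLinearGroup (Fin n) (ZMod 2)) := by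
  obtain ⟨z, hzZ, hz1⟩ : ∃ z ∈ Z, z ≠ 1 := (Subgroup.bot_or_exists_ne_one Z).resolve_left fun h => by
    rw [h, Subgroup.card_bot] at hZ; omega
  have hcase : ∀ x ∈ Z, x = 1 ∨ x = z := fun x hx => by
    by_contra h
    push Not at h
    have hsub : ({1, z, x} : Set G) ⊆ (Z : Set G) := by
      rintro y (rfl | rfl | rfl)
      exacts [one_mem _, hzZ, hx]
    have h3 := Set.ncard_le_ncard hsub (Set.toFinite _)
    rw [Set.ncard_eq_three.2 ⟨1, z, x, hz1.symm, h.1.symm, h.2.symm, rfl⟩, ← Nat.card_coe_set_eq,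
      SetLike.coe_sort_coe, hZ] at h3
    omega
  have hC : Subgroup.centralizer (Z : Set G) = Subgroup.centralizer ({z} : Set G) := by
    ext c
    rw [Subgroup.mem_centralizer_singleton_iff, Subgroup.mem_centralizer_iff]
    refine ⟨fun h => (h z hzZ).symm, fun h x hx => ?_⟩
    rcases hcase x hx with rfl | rfl
    · rw [one_mul, mul_one]
    · exact h.symm
  rw [hC] at hQ ⊢
  exact CfsgLib.Extraspecial.AffineModel.large_of_affine hn U M hU hUcard
    (fun m _ u hu => (inferInstance : U.Normal).conj_mem u hu m) hUM hfaith hfull (hZU hzZ) hz1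
    (fun c _ => by
      obtain ⟨u, hu, m, hm, rfl⟩ := Subgroup.mem_sup_of_normal_left.1 (hUM'.symm ▸ Subgroup.mem_top c)
      exact ⟨m, hm, m⁻¹ * u * m, by
        have := (inferInstance : U.Normal).conj_mem u hu m⁻¹
        rwa [inv_inv] at this, by group⟩) Q hQ

end Cfsg.Agent.S5423
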