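import Cfsg.Statements.S5425
import Cfsg.Agent.Lib.Golay.InvolLocal.OctadInvolLarge
import Cfsg.Agent.S5394
import Cfsg.Agent.Lib.Conjugacy.TransferForms

set_option autoImplicit false
open Cfsg

namespace Cfsg.Agent.S5425

/-- In the Mathieu group of degree 24 (the automorphism group of the length-24 binary Golay code, acting on the 24 coordinates), let z be an involution whose fixed points form an octad (the support of a code word of weight 8), and let Q be the largest normal 2-subgroup of the centralizer C of z. Then Q is extraspecial of order 2^7 with an elementary abelian subgroup of order 16 (plus type), Q is a large extraspecial 2-subgroup, and C is the split extension of Q by the special linear group of degree 3 over the field with two elements. -/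
theorem result (z : ↥Cfsg.M24) (hz : orderOf z = 2) (hfix : (Finset.univ.filter fun p : Cfsg.GolayPt => (z : Equiv.Perm Cfsg.GolayPt) p = p) ∈ Cfsg.octads) (Q : Subgroup ↥Cfsg.M24) (hQ : Q = (Cfsg.pCore 2 ↥(Subgroup.centralizer ({z} : Set ↥Cfsg.M24))).map (Subgroup.centralizer ({z} : Set ↥Cfsg.M24)).subtype) : Cfsg.IsExtraspecial 2 ↥Q ∧ Nat.card ↥Q = 2 ^ 7 ∧ (∃ E : Subgroup ↥Cfsg.M24, E ≤ Q ∧ Cfsg.IsElementaryAbelian 2 E ∧ Nat.card ↥E = 2 ^ 4) ∧ Cfsg.IsLargeExtraspecial Q ∧ ∃ K : Subgroup ↥Cfsg.M24, K ≤ Subgroup.centralizer ({z} : Set ↥Cfsg.M24) ∧ Q ⊓ K = ⊥ ∧ Q ⊔ K = Subgroup.centralizer ({z} : Set ↥Cfsg.M24) ∧ Nonempty (↥K ≃* Matrix.SpecialLinearGroup (Fin 3) (ZMod 2)) := by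
  obtain ⟨k, hk, hkz⟩ : ∃ k ∈ Cfsg.M24, k * (CfsgLib.Golay.OctadInvol.Z : Equiv.Perm Cfsg.GolayPt) * k⁻¹ = z := by
    refine Cfsg.Agent.S5394.result.2.2.2 _ CfsgLib.Golay.OctadInvol.Z.2 _ z.2 (by rw [Subgroup.orderOf_coe, CfsgLib.Golay.OctadInvol.orderOf_Z])
      (by rw [Subgroup.orderOf_coe, hz]) (iff_of_false (fun h => ?_) (fun h => ?_))
    · exact h (CfsgLib.Golay.pt 0) ((CfsgLib.Golay.OctadInvol.fix_Z _).2 (by rw [CfsgLib.Golay.mem_dec, CfsgLib.Golay.idx_pt 0 (by norm_num)]; decide +kernel))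
    · have h8 := hfix.2
      rw [Finset.filter_eq_empty_iff.2 fun p _ => h p] at h8
      simp at h8
  set g : ↥Cfsg.M24 := ⟨k, hk⟩ with hg
  have hgz : MulAut.conj g CfsgLib.Golay.OctadInvol.Z = z := Subtype.ext hkz
  set e := (MulAut.conj g).toMonoidHom with he
  have hC : CfsgLib.Golay.OctadInvol.C0.map e = Subgroup.centralizer ({z} : Set ↥Cfsg.M24) := by
    ext x
    rw [Subgroup.mem_map_equiv, Subgroup.mem_centralizer_singleton_iff, Subgroup.mem_centralizer_singleton_iff, ← hgz]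
    simp only [MulAut.conj_apply, MulAut.conj_symm_apply]
    constructor <;> intro h
    · calc x * (g * CfsgLib.Golay.OctadInvol.Z * g⁻¹) = g * ((g⁻¹ * x * g) * CfsgLib.Golay.OctadInvol.Z) * g⁻¹ := by group
        _ = g * (CfsgLib.Golay.OctadInvol.Z * (g⁻¹ * x * g)) * g⁻¹ := by rw [h]
        _ = _ := by group
    · calc g⁻¹ * x * g * CfsgLib.Golay.OctadInvol.Z = g⁻¹ * (x * (g * CfsgLib.Golay.OctadInvol.Z * g⁻¹)) * g := by group
        _ = g⁻¹ * (g * CfsgLib.Golay.OctadInvol.Z * g⁻¹ * x) * g := by rw [h]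
        _ = _ := by group
  let eC : ↥CfsgLib.Golay.OctadInvol.C0 ≃* ↥(Subgroup.centralizer ({z} : Set ↥Cfsg.M24)) :=
    (Subgroup.equivMapOfInjective _ e (MulAut.conj g).injective).trans (MulEquiv.subgroupCongr hC)
  haveI : Fact (Nat.Prime 2) := ⟨Nat.prime_two⟩
  have hQ' : Q = CfsgLib.Golay.OctadInvol.Q0.map e := by
    rw [hQ, ← CfsgLib.Golay.OctadInvol.pCore_C0, Subgroup.map_map, ← CfsgLib.Conjugacy.map_pCore_equiv eC, Subgroup.map_map]
    rfl
  obtain ⟨E, K, hEQ, hEl, hEc, hKC, hQK, hsup, ⟨f⟩⟩ := CfsgLib.Golay.OctadInvol.structure_ref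
  have hinj : Function.Injective e := (MulAut.conj g).injective
  have hs := CfsgLib.Golay.OctadInvol.setting.conj g
  subst hQ'
  refine ⟨hs.ex, by rw [Subgroup.card_map_of_injective hinj, CfsgLib.Golay.OctadInvol.natCard_Q0],
    ⟨E.map e, Subgroup.map_mono hEQ, ⟨⟨⟨?_⟩⟩, ?_⟩, by rw [Subgroup.card_map_of_injective hinj, hEc]⟩, ?_,
    K.map e, hC ▸ Subgroup.map_mono hKC, ?_, by rw [← Subgroup.map_sup, hsup, hC],
    ⟨(Subgroup.equivMapOfInjective _ e hinj).symm.trans f⟩⟩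
  · rintro ⟨_, a, ha, rfl⟩ ⟨_, b, hb, rfl⟩
    haveI := hEl.1
    have := congrArg Subtype.val (mul_comm' (⟨a, ha⟩ : E) ⟨b, hb⟩)
    exact Subtype.ext (by rw [Subgroup.coe_mul, Subgroup.coe_mul, ← map_mul, ← map_mul]; exact congrArg e this)
  · rintro _ ⟨a, ha, rfl⟩
    rw [← map_pow, hEl.2 a ha, map_one]
  · refine hs.isLargeExtraspecial fun L hL hQL => ?_
    have hsur : Function.Surjective e := (MulAut.conj g).surjective
    rw [← Subgroup.map_comap_eq_self_of_surjective hsur L] at hL hQL ⊢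
    rw [Subgroup.card_map_of_injective hinj] at hL
    rw [CfsgLib.Golay.OctadInvol.isLarge_Q0.2.2.2 _ hL (fun q hq => ?_), Subgroup.map_bot]
    refine Subgroup.mem_normalizer_iff.2 fun x => ?_
    have h := Subgroup.mem_normalizer_iff.1 (hQL (Subgroup.mem_map_of_mem e hq)) (e x)
    rw [← map_inv, ← map_mul, ← map_mul] at h
    simpa only [Subgroup.mem_map_iff_mem hinj] using h
  · rw [← Subgroup.map_inf _ _ _ hinj, hQK, Subgroup.map_bot]

end Cfsg.Agent.S5425
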