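import Cfsg.Statements.S5426
import Cfsg.Agent.Lib.MinNormal.SimpleConjugates
import Cfsg.Agent.Lib.Extraspecial.LargePair
import Cfsg.Agent.Lib.Layer.Characteristic
import Cfsg.Agent.Lib.Layer.FStar
import Cfsg.Agent.Lib.Transfer.Basic

set_option autoImplicit false
set_option linter.style.haveILetI false
open Cfsg CfsgLib.MinNormal

namespace Cfsg.Agent.S5426

/-- Let Q be a large extraspecial 2-subgroup of the finite group G (extraspecial; centralizer equal to its centre; normal in the centralizer of its centre; normalizing no non-trivial subgroup of odd order) with centre generated by z, and let M be the normal closure of z in G. Then one of the following holds: Q is normal in G; or M is abelian and the generalized Fitting subgroup of G is its largest normal 2-subgroup; or M is the generalized Fitting subgroup of G and is a non-abelian simple group; or M is the generalized Fitting subgroup of G and is the direct product of a non-abelian simple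 subgroup L and its conjugate u L u⁻¹ by some u in Q (the two meet trivially and commute elementwise), with z = z₁ (u z₁ u⁻¹) for some z₁ in L whose centralizer in L is a Sylow 2-subgroup of L with Frattini subgroup inside the subgroup generated by z₁, and Q is not the largest normal 2-subgroup of the centralizer of z. -/
theorem result {G : Type*} [Group G] [Finite G] (Q : Subgroup G) (hQ : Cfsg.IsLargeExtraspecial Q) (z : G) (hz : ((Subgroup.center ↥Q).map Q.subtype) = Subgroup.zpowers z) (M : Subgroup G) (hM : M = Subgroup.normalClosure ({z} : Set G)) : Q.Normal ∨ (IsMulCommutative ↥M ∧ Cfsg.generalizedFittingSubgroup G = Cfsg.pCore 2 G) ∨ (M = Cfsg.generalizedFittingSubgroup G ∧ IsSimpleGroup ↥M ∧ ¬ IsMulCommutative ↥M) ∨ (M = Cfsg.generalizedFittingSubgroup G ∧ ∃ (L : Subgroup G) (u : G), u ∈ Q ∧ IsSimpleGroup ↥L ∧ ¬ IsMulCommutative ↥L ∧ L ⊓ (L).map (MulAut.conj u).toMonoidHom = ⊥ ∧ (∀ x ∈ L, ∀ y ∈ (L).map (MulAut.conj u).toMonoidHom, x *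 y = y * x) ∧ L ⊔ (L).map (MulAut.conj u).toMonoidHom = M ∧ ∃ z₁ ∈ L, z = z₁ * (u * z₁ * u⁻¹) ∧ (∃ R : Sylow 2 ↥L, (R : Subgroup ↥L) = (Subgroup.centralizer ({z₁} : Set G)).subgroupOf L ∧ (frattini ↥(R : Subgroup ↥L)).map ((L.subtype).comp (R : Subgroup ↥L).subtype) ≤ Subgroup.zpowers z₁) ∧ Q ≠ (Cfsg.pCore 2 ↥(Subgroup.centralizer ({z} : Set G))).map (Subgroup.centralizer ({z} : Set G)).subtype) := by
  classical
  haveI := Fact.mk Nat.prime_two
  have hz2 : orderOf z = 2 := by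
    rw [← Nat.card_zpowers, ← hz, Subgroup.card_map_of_injective Q.subtype_injective, hQ.1.2]
  have s := CfsgLib.Extraspecial.Setting.of_large hQ hz hz2
  have hodd := hQ.2.2.2
  have hzN : ∀ N : Subgroup G, N.Normal → N ≠ ⊥ → z ∈ N := fun N hN h => s.z_mem_normal hodd N h
  haveI hMn : M.Normal := hM ▸ Subgroup.normalClosure_normal
  have hzM : z ∈ M := hM ▸ Subgroup.subset_normalClosure (Set.mem_singleton z)
  have hMmin : ∀ N : Subgroup G, N.Normal → N ≠ ⊥ → M ≤ N := fun N hN h => by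
    haveI := hN
    exact hM ▸ Subgroup.normalClosure_le_normal (Set.singleton_subset_iff.mpr (hzN N hN h))
  have hFit : fittingSubgroup G = pCore 2 G := by
    refine CfsgLib.Layer.fittingSubgroup_eq_pCore (hodd _ ?_ ?_)
    · exact Nat.coprime_two_right.mp (CfsgLib.Transfer.pPrimeCore_coprime 2)
    · haveI := CfsgLib.Transfer.pPrimeCore_normal 2 G
      exact fun q _ => by rw [Subgroup.normalizer_eq_top]; exact Subgroup.mem_top q
  have hQ2 : IsPGroup 2 Q := hQ.1.1.1
  right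
  by_cases hab : IsMulCommutative M
  · left
    refine ⟨hab, ?_⟩
    suffices h : layer G = ⊥ by rw [generalizedFittingSubgroup, h, bot_sup_eq, hFit]
    rw [CfsgLib.Layer.layer_eq_bot_iff]
    intro K hK
    have hMsolv : Group.IsSolvable M := Group.isSolvable_of_comm fun a b => hab.is_comm.comm a b
    have hKz : ∀ x ∈ K, x * z = z * x := fun x hx => (Subgroup.mem_centralizer_iff.mp
      (Subgroup.commutator_eq_bot_iff_le_centralizer.mp (CfsgLib.Layer.commutator_layer_eq_bot_of_isSolvable hMsolv)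
        (CfsgLib.Layer.isComponent_le_layer hK hx)) z hzM).symm
    have hKN : K ≤ Subgroup.normalizer (Q : Set G) := fun x hx =>
      s.cz (Subgroup.mem_centralizer_singleton_iff.mpr (hKz x hx))
    haveI := hQ2.isNilpotent
    have h1 := Subgroup.commutator_eq_bot_iff_le_centralizer.mp
      (CfsgLib.Layer.commutator_eq_bot_of_isSolvable hK inferInstance hKN)
    rw [s.cQ] at h1
    refine CfsgLib.Layer.not_isSolvable_of_isComponent hK (CfsgLib.Coprime.isSolvable_of_le h1 ?_)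
    exact Group.isSolvable_of_comm fun a b => mul_comm' a b
  right
  obtain ⟨L, d⟩ := CfsgLib.MinNormal.exists_simpleConjugates (M := M)
    (fun N hN h hle => le_antisymm hle (hMmin N hN h)) hab

  have hcj1 : cj L 1 = L := cj_one L
  have hFM : M = generalizedFittingSubgroup G := by
    haveI := CfsgLib.Fitting.fittingSubgroup_normal (G := G)
    have hCM : Subgroup.centralizer (M : Set G) = ⊥ := by
      by_contra h
      exact hab ⟨⟨fun a b => Subtype.ext
        (Subgroup.mem_centralizer_iff.mp (hMmin _ Subgroup.normal_centralizer h b.2) a a.2)⟩⟩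
    have hF : fittingSubgroup G = ⊥ := by
      by_contra h
      have h1 := hMmin _ inferInstance h
      rw [hFit] at h1
      exact d.not_isPGroup 1 ((CfsgLib.Fitting.pCore_isPGroup (G := G) 2).to_le ((d.cj_le 1).trans h1))
    rw [generalizedFittingSubgroup, hF, sup_bot_eq]
    refine le_antisymm ?_ (sSup_le fun K hK => ?_)
    · rw [← d.sup]; exact iSup_le fun g => CfsgLib.Layer.isComponent_le_layer (d.isComponent g)
    · refine (CfsgLib.Layer.le_or_commutator_eq_bot hK d.normal.isSubnormal).resolve_right fun h => ?_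
      exact CfsgLib.Layer.ne_bot_of_isComponent hK (le_bot_iff.mp (hCM ▸ Subgroup.commutator_eq_bot_iff_le_centralizer.mp h))
  by_cases hone : ∀ g, CfsgLib.MinNormal.cj L g = L
  · left
    have e : M = L := by rw [← d.sup]; exact le_antisymm (iSup_le fun g => (hone g).le) (le_iSup_of_le 1 hcj1.ge)
    exact ⟨hFM, e ▸ d.simple, hab⟩
  right
  push Not at hone
  obtain ⟨g0, hg0⟩ := hone
  refine ⟨hFM, ?_⟩

  -- the component of `z` in a conjugate is not trivial
  have hcomp : ∀ g, ∃ a ∈ cj L g, ∃ k ∈ Subgroup.centralizer (cj L g : Set G), a * k = z ∧ a ≠ 1 := by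
    intro g
    obtain ⟨a, ha, k, hk, e⟩ := d.decomp g hzM
    refine ⟨a, ha, k, hk, e, fun ha1 => ?_⟩
    rw [ha1, one_mul] at e
    subst e
    have hAN : cj L g ≤ Subgroup.normalizer (Q : Set G) := fun l hl =>
      s.cz (Subgroup.mem_centralizer_singleton_iff.mpr (Subgroup.mem_centralizer_iff.mp hk l hl))
    have hlq : ∀ l ∈ cj L g, ∀ q ∈ Q, l * q * l⁻¹ * q⁻¹ ∈ Q := fun l hl q hq =>
      Q.mul_mem ((Subgroup.mem_normalizer_iff.mp (hAN hl) q).mp hq) (Q.inv_mem hq)
    by_cases hfix : ∀ q ∈ Q, cj L (q * g) = cj L g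
    · haveI := d.simple_cj g
      haveI : ((Q ⊓ cj L g).subgroupOf (cj L g)).Normal := by
        refine (Subgroup.normal_subgroupOf_iff_le_normalizer inf_le_right).mpr fun l hl => ?_
        rw [Subgroup.mem_normalizer_iff]
        intro x
        rw [Subgroup.mem_inf, Subgroup.mem_inf, Subgroup.mem_normalizer_iff.mp (hAN hl) x]
        exact and_congr_right fun _ =>
          ⟨fun h => (cj L g).mul_mem ((cj L g).mul_mem hl h) ((cj L g).inv_mem hl), fun h => by
            have h' := (cj L g).mul_mem ((cj L g).mul_mem ((cj L g).inv_mem hl) h) hl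
            rwa [show l⁻¹ * (l * x * l⁻¹) * l = x by group] at h'⟩
      rcases (inferInstance : ((Q ⊓ cj L g).subgroupOf (cj L g)).Normal).eq_bot_or_eq_top with h | h
      · rw [Subgroup.subgroupOf_eq_bot] at h
        have hbot := disjoint_iff.mp h
        rw [inf_assoc, inf_idem] at hbot
        refine d.nab_cj g ?_
        have hle : cj L g ≤ Subgroup.zpowers k := by
          rw [← s.cQ]
          intro l hl
          refine Subgroup.mem_centralizer_iff.mpr fun q hq => ?_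
          have h1 : l * q * l⁻¹ * q⁻¹ ∈ Q ⊓ cj L g := by
            refine ⟨hlq l hl q hq, ?_⟩
            rw [show l * q * l⁻¹ * q⁻¹ = l * (q * l⁻¹ * q⁻¹) by group]
            refine (cj L g).mul_mem hl ?_
            rw [← hfix q hq, ← cj_mul]
            exact conj_mem_cj ((cj L g).inv_mem hl)
          rw [hbot, Subgroup.mem_bot] at h1
          exact (commutatorElement_eq_one_iff_mul_comm.mp h1).symm
        exact ⟨⟨fun a b => Subtype.ext (by
          obtain ⟨m, hm⟩ := Subgroup.mem_zpowers_iff.mp (hle a.2)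
          obtain ⟨n, hn⟩ := Subgroup.mem_zpowers_iff.mp (hle b.2)
          show (a : G) * b = b * a
          rw [← hm, ← hn, ← zpow_add, ← zpow_add, add_comm])⟩⟩
      · rw [Subgroup.subgroupOf_eq_top] at h
        exact d.not_isPGroup g (hQ2.to_le (h.trans inf_le_left))
    · push Not at hfix
      obtain ⟨q, hq, hne⟩ := hfix
      refine d.not_isPGroup g (p := 2) fun ⟨l, hl⟩ => ?_
      obtain ⟨n, hn⟩ := hQ2 ⟨_, hlq l hl q hq⟩
      refine ⟨n, Subtype.ext ?_⟩
      show l ^ 2 ^ n = 1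
      have hn' : (l * (q * l⁻¹ * q⁻¹)) ^ 2 ^ n = 1 := by
        rw [show l * (q * l⁻¹ * q⁻¹) = l * q * l⁻¹ * q⁻¹ by group]
        exact congrArg Subtype.val hn
      have hb : q * l⁻¹ * q⁻¹ ∈ cj L (q * g) := by
        rw [← cj_mul]; exact conj_mem_cj ((cj L g).inv_mem hl)
      rw [(show Commute l (q * l⁻¹ * q⁻¹) from d.comm g (q * g) hne.symm l hl _ hb).mul_pow] at hn'
      exact (d.decomp_unique (pow_mem hl _) (one_mem _) (pow_mem (d.le_centralizer hne.symm hb) _) (one_mem _)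
        (hn'.trans (one_mul 1).symm)).1
  -- the component in `L`
  obtain ⟨z₁, hz₁, k₁, hk₁, he, hz₁1⟩ := hcomp 1
  rw [hcj1] at hz₁ hk₁
  have huniq : ∀ {a a' k k' : G}, a ∈ L → a' ∈ L → k ∈ Subgroup.centralizer (L : Set G) →
      k' ∈ Subgroup.centralizer (L : Set G) → a * k = a' * k' → a = a' ∧ k = k' := fun ha ha' hk hk' h =>
    d.decomp_unique (g := 1) (hcj1.symm ▸ ha) (hcj1.symm ▸ ha') (hcj1.symm ▸ hk) (hcj1.symm ▸ hk') h

  have hconjC : ∀ (q : G) {k : G}, k ∈ Subgroup.centralizer (L : Set G) →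
      q * k * q⁻¹ ∈ Subgroup.centralizer (cj L q : Set G) := by
    intro q k hk
    refine Subgroup.mem_centralizer_iff.mpr fun x hx => ?_
    have h1 := Subgroup.mem_centralizer_iff.mp hk _ (mem_cj.mp hx)
    calc x * (q * k * q⁻¹) = q * (q⁻¹ * x * q * k) * q⁻¹ := by group
      _ = q * (k * (q⁻¹ * x * q)) * q⁻¹ := by rw [h1]
      _ = _ := by group

  have hqz : ∀ q ∈ Q, q * z₁ * q⁻¹ * (q * k₁ * q⁻¹) = z := fun q hq => by
    rw [show q * z₁ * q⁻¹ * (q * k₁ * q⁻¹) = q * (z₁ * k₁) * q⁻¹ by group, he, s.z_comm hq, mul_inv_cancel_right]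

  have hsame : ∀ q ∈ Q, ∀ q' ∈ Q, cj L q = cj L q' → q * z₁ * q⁻¹ = q' * z₁ * q'⁻¹ := fun q hq q' hq' h =>
    (d.decomp_unique (g := q) (conj_mem_cj hz₁) (h ▸ conj_mem_cj hz₁) (hconjC q hk₁) (h ▸ hconjC q' hk₁)
      ((hqz q hq).trans (hqz q' hq').symm)).1
  have hfix1 : ∀ q ∈ Q, CfsgLib.MinNormal.cj L q = L → q * z₁ * q⁻¹ = z₁ := fun q hq h => by
    have := hsame q hq 1 Q.one_mem (h.trans hcj1.symm)
    rwa [one_mul, inv_one, mul_one] at this
  have hcommk : z₁ * k₁ = k₁ * z₁ := Subgroup.mem_centralizer_iff.mp hk₁ z₁ hz₁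
  have hz₁z₁ : z₁ * z₁ = 1 := by
    refine (huniq (L.mul_mem hz₁ hz₁) L.one_mem
      ((Subgroup.centralizer (L : Set G)).mul_mem hk₁ hk₁) (one_mem _) ?_).1
    rw [mul_one, ← s.zz, ← he]
    simp only [mul_assoc]
    rw [← mul_assoc k₁, ← hcommk, mul_assoc]
  have hzcomp : ∀ {a k : G}, a ∈ L → k ∈ Subgroup.centralizer (L : Set G) → a * k ∈ Subgroup.zpowers z →
      a = 1 ∨ a = z₁ := fun ha hk h => by
    rcases s.mem_zpowers h with e | e
    · exact Or.inl (huniq ha L.one_mem hk (one_mem _) (e.trans (one_mul 1).symm)).1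
    · exact Or.inr (huniq ha hz₁ hk hk₁ (e.trans he.symm)).1
  -- a mover
  obtain ⟨u, hu, huL⟩ : ∃ u ∈ Q, CfsgLib.MinNormal.cj L u ≠ L := by
    by_contra h
    push Not at h
    have hzL : z₁ = z := (s.mem_zpowers (s.cQ ▸ Subgroup.mem_centralizer_iff.mpr fun q hq =>
      mul_inv_eq_iff_eq_mul.mp (hfix1 q hq (h q hq)))).resolve_left hz₁1
    obtain ⟨a, ha, k, hk, e, ha1⟩ := hcomp g0
    refine ha1 (d.decomp_unique ha (one_mem _) hk ?_ (e.trans (one_mul z).symm)).1
    exact d.le_centralizer (g := g0) (h := 1) (by rw [hcj1]; exact hg0) (hcj1.symm ▸ hzL ▸ hz₁)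

  have hL2C : cj L u ≤ Subgroup.centralizer (L : Set G) := by
    have := d.le_centralizer (g := 1) (h := u) (by rw [hcj1]; exact huL.symm)
    rwa [hcj1] at this

  have hcomL : ∀ x ∈ L, ∀ y ∈ cj L u, x * y = y * x := fun x hx y hy =>
    Subgroup.mem_centralizer_iff.mp (hL2C hy) x hx
  have hCN : ∀ a ∈ L, a * z₁ = z₁ * a → a ∈ Subgroup.normalizer (Q : Set G) := fun a ha h => by
    refine s.cz (Subgroup.mem_centralizer_singleton_iff.mpr ?_)
    rw [← he, ← mul_assoc, h, mul_assoc, Subgroup.mem_centralizer_iff.mp hk₁ a ha, mul_assoc]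
  have hd : ∀ a ∈ L, a * z₁ = z₁ * a → a * (u * a⁻¹ * u⁻¹) ∈ Q := fun a ha h => by
    rw [show a * (u * a⁻¹ * u⁻¹) = a * u * a⁻¹ * u⁻¹ by group]
    exact Q.mul_mem ((Subgroup.mem_normalizer_iff.mp (hCN a ha h) u).mp hu) (Q.inv_mem hu)
  have hb : ∀ a ∈ L, u * a⁻¹ * u⁻¹ ∈ CfsgLib.MinNormal.cj L u := fun a ha =>
    CfsgLib.MinNormal.conj_mem_cj (L.inv_mem ha)
  have hpow : ∀ a ∈ L, a * z₁ = z₁ * a → ∃ n : ℕ, a ^ 2 ^ n = 1 := fun a ha h => by
    obtain ⟨n, hn⟩ := hQ2 ⟨_, hd a ha h⟩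
    refine ⟨n, ?_⟩
    have hn' : (a * (u * a⁻¹ * u⁻¹)) ^ 2 ^ n = 1 := congrArg Subtype.val hn
    rw [(show Commute a (u * a⁻¹ * u⁻¹) from hcomL a ha _ (hb a ha)).mul_pow] at hn'
    exact (huniq (pow_mem ha _) (one_mem _) (pow_mem (hL2C (hb a ha)) _) (one_mem _)
      (hn'.trans (one_mul 1).symm)).1
  -- a Sylow `2`-subgroup of `L`
  set R0 := (Subgroup.centralizer ({z₁} : Set G)).subgroupOf L with hR0
  have hmemR : ∀ a : L, a ∈ R0 ↔ (a : G) * z₁ = z₁ * a := fun a => by
    rw [hR0, Subgroup.mem_subgroupOf, Subgroup.mem_centralizer_singleton_iff]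
  have hR2 : IsPGroup 2 R0 := fun a => by
    obtain ⟨n, hn⟩ := hpow _ a.1.2 ((hmemR _).mp a.2)
    exact ⟨n, Subtype.ext (Subtype.ext hn)⟩
  have hRidx : ¬ 2 ∣ R0.index := by
    obtain ⟨T, hQT⟩ := hQ2.exists_le_sylow
    have hTz : ∀ y ∈ (T : Subgroup G), y * z = z * y := by
      haveI : Nontrivial ↥(T : Subgroup G) :=
        ⟨⟨⟨z, hQT s.z_mem⟩, 1, fun h => s.ne_one (congrArg Subtype.val h)⟩⟩
      obtain ⟨⟨x, hxT⟩, hxc, hx1⟩ := (Subgroup.bot_or_exists_ne_one (Subgroup.center ↥(T : Subgroup G))).resolve_left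
        ((Subgroup.nontrivial_iff_ne_bot _).mp T.2.center_nontrivial)
      have hxy := fun y (hy : y ∈ (T : Subgroup G)) => congrArg Subtype.val (Subgroup.mem_center_iff.mp hxc ⟨y, hy⟩)
      rcases s.mem_zpowers (s.cQ ▸ Subgroup.mem_centralizer_iff.mpr fun q hq => hxy q (hQT hq)) with e | e
      · exact absurd (Subtype.ext e) hx1
      · exact fun y hy => e ▸ hxy y hy
    have hTR : (T : Subgroup G).subgroupOf L ≤ R0 := fun a ha => by
      rw [hmemR]
      have haL := a.2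
      have h1 : (a : G) * z₁ * (a : G)⁻¹ * ((a : G) * k₁ * (a : G)⁻¹) = z₁ * k₁ := by
        rw [show (a : G) * z₁ * (a : G)⁻¹ * ((a : G) * k₁ * (a : G)⁻¹) = (a : G) * (z₁ * k₁) * (a : G)⁻¹ by group,
          he, hTz a (Subgroup.mem_subgroupOf.mp ha), mul_inv_cancel_right]
      refine mul_inv_eq_iff_eq_mul.mp (huniq (L.mul_mem (L.mul_mem haL hz₁) (L.inv_mem haL)) hz₁ ?_ hk₁ h1).1
      rw [Subgroup.mem_centralizer_iff.mp hk₁ a haL, mul_inv_cancel_right]; exact hk₁
    intro h2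
    have h3 : (T : Subgroup G).relIndex L ∣ (T : Subgroup G).index := by
      haveI : (L.subgroupOf M).Normal :=
        (Subgroup.normal_subgroupOf_iff_le_normalizer d.le).mpr (hcj1 ▸ d.norm 1)
      have e := CfsgLib.Fitting.relIndex_dvd_index_of_normal_right ((T : Subgroup G).subgroupOf M) (L.subgroupOf M)
      rw [Subgroup.relIndex_subgroupOf d.le] at e
      exact e.trans (CfsgLib.Fitting.relIndex_dvd_index_of_normal_right (T : Subgroup G) M)
    exact T.not_dvd_index (dvd_trans (h2.trans (Subgroup.index_dvd_of_le hTR)) h3)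
  let RS : Sylow 2 L := hR2.toSylow hRidx
  have hbig : ∃ a ∈ L, a * z₁ = z₁ * a ∧ a ≠ 1 ∧ a ≠ z₁ := by
    by_contra hno
    push Not at hno
    have hcase : ∀ a : L, a ∈ R0 → a = 1 ∨ a = ⟨z₁, hz₁⟩ := fun a ha => by
      by_cases h1 : (a : G) = 1
      · exact Or.inl (Subtype.ext h1)
      · exact Or.inr (Subtype.ext (hno a a.2 ((hmemR a).mp ha) h1))
    haveI := d.simple
    have hN : Subgroup.normalizer ((RS : Subgroup L) : Set L) ≤ Subgroup.centralizer ((RS : Subgroup L) : Set L) := by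
      intro n hn
      rw [Subgroup.mem_centralizer_iff]
      intro a ha
      rcases hcase a ha with rfl | rfl
      · rw [one_mul, mul_one]
      · rcases hcase _ ((Subgroup.mem_normalizer_iff.mp hn _).mp ha) with e | e
        · exact absurd (congrArg Subtype.val (conj_eq_one_iff.mp e)) hz₁1
        · exact (mul_inv_eq_iff_eq_mul.mp e).symm
    have hc := MonoidHom.ker_transferSylow_isComplement' RS hN
    rcases (MonoidHom.normal_ker (MonoidHom.transferSylow RS hN)).eq_bot_or_eq_top with h | h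
    · rw [h] at hc
      have htop : R0 = ⊤ := Subgroup.isComplement'_bot_left.mp hc
      exact d.not_isPGroup 1 (p := 2) (hcj1.symm ▸ (htop ▸ hR2).of_equiv Subgroup.topEquiv)
    · rw [h] at hc
      have hbot : R0 = ⊥ := Subgroup.isComplement'_top_left.mp hc
      exact hz₁1 (congrArg Subtype.val (Subgroup.mem_bot.mp
        (hbot.le ((hmemR ⟨z₁, hz₁⟩).mpr rfl) : (⟨z₁, hz₁⟩ : L) ∈ (⊥ : Subgroup L))))
  -- `Q` preserves `{L, L₂}`

  have horb : ∀ q ∈ Q, cj L q = L ∨ cj L q = cj L u := by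
    intro q hq
    by_contra hne
    push Not at hne
    obtain ⟨a, ha, haz, ha1, haz1⟩ := hbig
    set b := u * a⁻¹ * u⁻¹ with hbdef
    have hb2 : b ∈ cj L u := hb a ha
    have ha' : q * a * q⁻¹ ∈ cj L q := conj_mem_cj ha
    have hb' : q * b * q⁻¹ ∈ cj L (q * u) := by rw [← cj_mul]; exact conj_mem_cj hb2
    have he' : q * (a * b) * q⁻¹ * (a * b)⁻¹ ∈ Subgroup.zpowers z := by
      rcases s.comm_cases hq (hd a ha haz) with e | e
      · rw [e, mul_inv_cancel]; exact one_mem _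
      · rw [e, mul_inv_cancel_right]; exact Subgroup.mem_zpowers z
    rw [show q * (a * b) * q⁻¹ * (a * b)⁻¹ = (q * a * q⁻¹) * (q * b * q⁻¹) * b⁻¹ * a⁻¹ by group] at he'
    have hC : ∀ g, cj L g ≠ L → cj L g ≤ Subgroup.centralizer (L : Set G) := fun g hg => by
      have := d.le_centralizer (g := 1) (h := g) (by rw [hcj1]; exact hg.symm)
      rwa [hcj1] at this
    by_cases h4 : cj L (q * u) = L
    · have hk : (q * a * q⁻¹) * (q * b * q⁻¹) * a⁻¹ ∈ Subgroup.centralizer (cj L u : Set G) := by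
        refine mul_mem (mul_mem (d.le_centralizer hne.2.symm ha') (d.le_centralizer (by rw [h4]; exact huL) hb'))
          (inv_mem (Subgroup.mem_centralizer_iff.mpr fun y hy => (hcomL a ha y hy).symm))
      have hk2 := Subgroup.mem_centralizer_iff.mp hk b⁻¹ (inv_mem hb2)
      have e : (q * a * q⁻¹) * (q * b * q⁻¹) * b⁻¹ * a⁻¹ = b⁻¹ * ((q * a * q⁻¹) * (q * b * q⁻¹) * a⁻¹) := by
        rw [hk2]
        simp only [mul_assoc]
        rw [hcomL a⁻¹ (L.inv_mem ha) b⁻¹ (inv_mem hb2)]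
      rw [e] at he'
      have hbinv : b⁻¹ = u * a * u⁻¹ := by rw [hbdef]; group
      rcases s.mem_zpowers he' with e' | e'
      · have h5 := (d.decomp_unique (inv_mem hb2) (one_mem _) hk (one_mem _) (e'.trans (one_mul 1).symm)).1
        rw [hbinv, conj_eq_one_iff] at h5
        exact ha1 h5
      · have h5 := (d.decomp_unique (inv_mem hb2) (conj_mem_cj hz₁) hk (hconjC u hk₁) (e'.trans (hqz u hu).symm)).1
        rw [hbinv, mul_left_inj, mul_right_inj] at h5
        exact haz1 h5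
    · have hk : (q * a * q⁻¹) * (q * b * q⁻¹) * b⁻¹ ∈ Subgroup.centralizer (L : Set G) :=
        mul_mem (mul_mem (hC _ hne.1 ha') (hC _ h4 hb')) (inv_mem (hL2C hb2))
      rw [← Subgroup.mem_centralizer_iff.mp hk a⁻¹ (L.inv_mem ha)] at he'
      rcases hzcomp (L.inv_mem ha) hk he' with e' | e'
      · exact ha1 (inv_eq_one.mp e')
      · exact haz1 (by rw [← inv_inv a, e', inv_eq_of_mul_eq_one_right hz₁z₁])

  have hzprod : z = z₁ * (u * z₁ * u⁻¹) := by
    have hy : z₁ * (u * z₁ * u⁻¹) ∈ Subgroup.centralizer (Q : Set G) := by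
      refine Subgroup.mem_centralizer_iff.mpr fun q hq => mul_inv_eq_iff_eq_mul.mp ?_
      rw [show q * (z₁ * (u * z₁ * u⁻¹)) * q⁻¹ = q * z₁ * q⁻¹ * (q * u * z₁ * (q * u)⁻¹) by group]
      rcases horb q hq with e | e
      · rw [hfix1 q hq e]
        congr 1
        refine hsame _ (Q.mul_mem hq hu) u hu ?_
        refine ((horb _ (Q.mul_mem hq hu))).resolve_left fun e' => huL ?_
        refine cj_inj q ?_
        rw [cj_mul, e', e]
      · rw [hsame q hq u hu e, hfix1 _ (Q.mul_mem hq hu) ?_]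
        · exact (hcomL z₁ hz₁ _ (conj_mem_cj hz₁)).symm
        · refine ((horb _ (Q.mul_mem hq hu))).resolve_right fun e' => huL ?_
          refine cj_inj q ?_
          rw [cj_mul, e', e]
    rw [s.cQ] at hy
    refine ((s.mem_zpowers hy).resolve_left fun e => hz₁1 ?_).symm
    exact (huniq hz₁ L.one_mem (hL2C (conj_mem_cj hz₁)) (one_mem _) (e.trans (one_mul 1).symm)).1

  have hjoin : L ⊔ cj L u = M := by
    refine le_antisymm (sup_le d.le (d.cj_le u)) ?_
    conv_lhs => rw [← d.sup]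
    refine iSup_le fun g => ?_
    by_cases h1 : cj L g = L
    · exact h1.le.trans le_sup_left
    by_cases h2 : cj L g = cj L u
    · exact h2.le.trans le_sup_right
    exfalso
    obtain ⟨a, ha, k, hk, e, ha1⟩ := hcomp g
    refine ha1 (d.decomp_unique ha (one_mem _) hk ?_ (e.trans (one_mul z).symm)).1
    rw [hzprod]
    exact mul_mem (d.le_centralizer (g := g) (h := 1) (by rw [hcj1]; exact h1) (hcj1.symm ▸ hz₁))
      (d.le_centralizer h2 (conj_mem_cj hz₁))
  refine ⟨L, u, hu, d.simple, d.nab, ?_, hcomL, hjoin, z₁, hz₁, hzprod, ⟨RS, rfl, ?_⟩, ?_⟩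
  · have := d.inf 1 u (by rw [hcj1]; exact huL.symm)
    rwa [hcj1] at this
  · have key : ∀ x ∈ R0, ∀ y ∈ R0, ((x : G) * y * (x : G)⁻¹ * (y : G)⁻¹ = 1 ∨ (x : G) * y * (x : G)⁻¹ * (y : G)⁻¹ = z₁) ∧
        ((x : G) * x = 1 ∨ (x : G) * x = z₁) := by
      intro x hx y hy
      have hb1 := hb _ x.2
      have hb2 := hb _ y.2
      constructor
      · have h1 : (x : G) * (u * (x : G)⁻¹ * u⁻¹) * ((y : G) * (u * (y : G)⁻¹ * u⁻¹)) * ((x : G) * (u * (x : G)⁻¹ * u⁻¹))⁻¹ *
            ((y : G) * (u * (y : G)⁻¹ * u⁻¹))⁻¹ ∈ Subgroup.zpowers z := by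
          rcases s.comm_cases (hd _ x.2 ((hmemR x).mp hx)) (hd _ y.2 ((hmemR y).mp hy)) with e | e
          · rw [e, mul_inv_cancel]; exact one_mem _
          · rw [e, mul_inv_cancel_right]; exact Subgroup.mem_zpowers z
        set b := u * (x : G)⁻¹ * u⁻¹
        set b' := u * (y : G)⁻¹ * u⁻¹
        have c1 : Commute b (y : G) := (hcomL _ y.2 _ hb1).symm
        have c2 : Commute (x : G) b' := hcomL _ x.2 _ hb2
        have c3 : Commute (x : G) b := hcomL _ x.2 _ hb1
        have c4 : Commute (y : G) b' := hcomL _ y.2 _ hb2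
        have e : (x : G) * b * ((y : G) * b') * ((x : G) * b)⁻¹ * ((y : G) * b')⁻¹ =
            (x : G) * y * (x : G)⁻¹ * (y : G)⁻¹ * (b * b' * b⁻¹ * b'⁻¹) := by
          have hk : b * b' * b⁻¹ * b'⁻¹ ∈ Subgroup.centralizer (L : Set G) :=
            mul_mem (mul_mem (mul_mem (hL2C hb1) (hL2C hb2)) (inv_mem (hL2C hb1))) (inv_mem (hL2C hb2))
          calc (x : G) * b * ((y : G) * b') * ((x : G) * b)⁻¹ * ((y : G) * b')⁻¹
              = (x : G) * (b * (y : G)) * (b' * b⁻¹) * ((x : G)⁻¹ * b'⁻¹) * (y : G)⁻¹ := by group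
            _ = (x : G) * ((y : G) * b) * (b' * b⁻¹) * (b'⁻¹ * (x : G)⁻¹) * (y : G)⁻¹ := by
                rw [c1.eq, (c2.inv_inv).eq]
            _ = (x : G) * y * ((b * b' * b⁻¹ * b'⁻¹) * ((x : G)⁻¹ * (y : G)⁻¹)) := by group
            _ = (x : G) * y * (((x : G)⁻¹ * (y : G)⁻¹) * (b * b' * b⁻¹ * b'⁻¹)) := by
                rw [Subgroup.mem_centralizer_iff.mp hk _ (L.mul_mem (L.inv_mem x.2) (L.inv_mem y.2))]
            _ = _ := by group
        rw [e] at h1
        exact hzcomp (L.mul_mem (L.mul_mem (L.mul_mem x.2 y.2) (L.inv_mem x.2)) (L.inv_mem y.2))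
          (mul_mem (mul_mem (mul_mem (hL2C hb1) (hL2C hb2)) (inv_mem (hL2C hb1))) (inv_mem (hL2C hb2))) h1
      · have h1 : ((x : G) * (u * (x : G)⁻¹ * u⁻¹)) * ((x : G) * (u * (x : G)⁻¹ * u⁻¹)) ∈ Subgroup.zpowers z := by
          rcases s.sq_cases (hd _ x.2 ((hmemR x).mp hx)) with e | e <;> rw [e]
          exacts [one_mem _, Subgroup.mem_zpowers z]
        rw [(show Commute (x : G) (u * (x : G)⁻¹ * u⁻¹) from hcomL _ x.2 _ hb1).symm.mul_mul_mul_comm] at h1
        exact hzcomp (L.mul_mem x.2 x.2) (mul_mem (hL2C hb1) (hL2C hb1)) h1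
    have hz₁R : (⟨z₁, hz₁⟩ : L) ∈ R0 := (hmemR _).mpr rfl
    let w : ↥(RS : Subgroup L) := ⟨⟨z₁, hz₁⟩, hz₁R⟩
    have hw : ∀ v : ↥(RS : Subgroup L), ((v : L) : G) = 1 ∨ ((v : L) : G) = z₁ → v ∈ Subgroup.zpowers w := by
      rintro v (e | e)
      · rw [show v = 1 from Subtype.ext (Subtype.ext e)]; exact one_mem _
      · rw [show v = w from Subtype.ext (Subtype.ext e)]; exact Subgroup.mem_zpowers w
    haveI : (Subgroup.zpowers w).Normal := ⟨fun n hn v => by
      obtain ⟨m, rfl⟩ := Subgroup.mem_zpowers_iff.mp hn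
      rw [← conj_zpow]
      refine zpow_mem ?_ m
      rw [show v * w * v⁻¹ = w from Subtype.ext (Subtype.ext (mul_inv_eq_iff_eq_mul.mpr ((hmemR _).mp v.2)))]
      exact Subgroup.mem_zpowers w⟩
    have hfr : frattini ↥(RS : Subgroup L) ≤ Subgroup.zpowers w :=
      CfsgLib.Critical.frattini_le_of_elementary (p := 2) _ (by
        rw [commutator_def, Subgroup.commutator_le]
        exact fun x _ y _ => hw _ (key _ x.2 _ y.2).1)
        (fun x => hw _ (by rw [pow_two]; exact (key _ x.2 _ x.2).2))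
    refine (Subgroup.map_mono hfr).trans ?_
    rw [MonoidHom.map_zpowers]
    exact le_rfl
  · intro hQO
    obtain ⟨a, ha, haz, ha1, haz1⟩ := hbig
    set Cz := Subgroup.centralizer ({z} : Set G)
    have hN : IsPGroup 2 (M.subgroupOf Cz) := by
      rintro ⟨⟨m, hmz⟩, hm⟩
      have hm' : m ∈ ((L ⊔ CfsgLib.MinNormal.cj L u : Subgroup G) : Set G) := hjoin.ge hm
      rw [Subgroup.coe_mul_of_right_le_normalizer_left _ _
        ((d.cj_le u).trans (hcj1 ▸ d.norm 1))] at hm'
      obtain ⟨a, ha, b, hb2, rfl⟩ := hm'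
      have hzz : (a * b) * z * (a * b)⁻¹ = z := mul_inv_eq_iff_eq_mul.mpr (Subgroup.mem_centralizer_singleton_iff.mp hmz)
      have hz2c : u * z₁ * u⁻¹ ∈ CfsgLib.MinNormal.cj L u := CfsgLib.MinNormal.conj_mem_cj hz₁
      rw [hzprod] at hzz
      have e : (a * b) * (z₁ * (u * z₁ * u⁻¹)) * (a * b)⁻¹ = a * z₁ * a⁻¹ * (b * (u * z₁ * u⁻¹) * b⁻¹) := by
        calc (a * b) * (z₁ * (u * z₁ * u⁻¹)) * (a * b)⁻¹
            = a * (b * z₁) * (u * z₁ * u⁻¹) * b⁻¹ * a⁻¹ := by group
          _ = a * (z₁ * b) * (u * z₁ * u⁻¹) * b⁻¹ * a⁻¹ := by rw [hcomL z₁ hz₁ b hb2]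
          _ = a * z₁ * ((b * (u * z₁ * u⁻¹) * b⁻¹) * a⁻¹) := by group
          _ = a * z₁ * (a⁻¹ * (b * (u * z₁ * u⁻¹) * b⁻¹)) := by
              rw [hcomL a⁻¹ (L.inv_mem ha) _ (mul_mem (mul_mem hb2 hz2c) (inv_mem hb2))]
          _ = _ := by group
      rw [e] at hzz
      obtain ⟨e1, e2⟩ := huniq (L.mul_mem (L.mul_mem ha hz₁) (L.inv_mem ha)) hz₁
        (hL2C (mul_mem (mul_mem hb2 hz2c) (inv_mem hb2))) (hL2C hz2c) hzz
      obtain ⟨n1, hn1⟩ := hpow a ha (mul_inv_eq_iff_eq_mul.mp e1)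
      obtain ⟨c, hc, rfl⟩ := hb2
      obtain ⟨n2, hn2⟩ := hpow c hc (by
        have e3 : u * c * u⁻¹ * (u * z₁ * u⁻¹) * (u * c * u⁻¹)⁻¹ = u * z₁ * u⁻¹ := e2
        rw [show u * c * u⁻¹ * (u * z₁ * u⁻¹) * (u * c * u⁻¹)⁻¹ = u * (c * z₁ * c⁻¹) * u⁻¹ by group,
          mul_left_inj, mul_right_inj, mul_inv_eq_iff_eq_mul] at e3
        exact e3)
      refine ⟨n1 + n2, Subtype.ext (Subtype.ext ?_)⟩
      show (a * (u * c * u⁻¹)) ^ 2 ^ (n1 + n2) = 1
      rw [(show Commute a (u * c * u⁻¹) from hcomL a ha _ (CfsgLib.MinNormal.conj_mem_cj hc)).mul_pow, conj_pow,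
        pow_add, pow_mul, hn1, one_pow, one_mul, mul_comm, pow_mul, hn2, one_pow, mul_one, mul_inv_cancel]
    have hacz : a ∈ Cz := Subgroup.mem_centralizer_singleton_iff.mpr (by
      rw [← he, ← mul_assoc, haz, mul_assoc, Subgroup.mem_centralizer_iff.mp hk₁ a ha, mul_assoc])
    have haQ : a ∈ Q := hQO ▸ ⟨⟨a, hacz⟩, CfsgLib.Fitting.le_pCore inferInstance hN
      (Subgroup.mem_subgroupOf.mpr (d.le ha)), rfl⟩
    have h1 : u * a * u⁻¹ * a⁻¹ ∈ Subgroup.zpowers z := by
      rcases s.comm_cases hu haQ with e | e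
      · rw [e, mul_inv_cancel]; exact one_mem _
      · rw [e, mul_inv_cancel_right]; exact Subgroup.mem_zpowers z
    have hk : u * a * u⁻¹ ∈ Subgroup.centralizer (L : Set G) := hL2C (CfsgLib.MinNormal.conj_mem_cj ha)
    rw [← Subgroup.mem_centralizer_iff.mp hk a⁻¹ (L.inv_mem ha)] at h1
    rcases hzcomp (L.inv_mem ha) hk h1 with e | e
    · exact ha1 (inv_eq_one.mp e)
    · exact haz1 (by rw [← inv_inv a, e, inv_eq_of_mul_eq_one_right hz₁z₁])

end Cfsg.Agent.S5426
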