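import Cfsg.Statements.S5427
import Cfsg.Agent.Lib.Extraspecial.FStarSetting

set_option autoImplicit false
set_option linter.style.haveILetI false
open Cfsg

namespace Cfsg.Agent.S5427

/-- Let z be an involution of the finite group G whose centralizer C has generalized Fitting subgroup Q, an extraspecial 2-group of width at least 2 (order 2^(2w+1), w ≥ 2). Let K be a subgroup of G such that the subgroup U generated by the K-conjugates of z is abelian and C is generated by the C-conjugates of U. Suppose that either some K-conjugate of z other than z lies in Q, or some element u of U ∩ Q outside the subgroup generated by z has z in the largest normal 2-subgroup of its centralizer. Then G is simple and Q is a large extraspecial 2-subgroup of G. -/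
theorem result {G : Type*} [Group G] [Finite G] (z : G) (hz : orderOf z = 2) (Q : Subgroup G) (hQC : Q ≤ Subgroup.centralizer ({z} : Set G)) (hF : (Cfsg.generalizedFittingSubgroup ↥(Subgroup.centralizer ({z} : Set G))).map (Subgroup.centralizer ({z} : Set G)).subtype = Q) (hQ : Cfsg.IsExtraspecial 2 ↥Q) (w : ℕ) (hw : 2 ≤ w) (hcard : Nat.card ↥Q = 2 ^ (2 * w + 1)) (K U : Subgroup G) (hU : U = Subgroup.closure {x : G | ∃ k ∈ K, x = k * z * k⁻¹}) (hUab : IsMulCommutative ↥U) (hgen : Subgroup.closure {x : G | ∃ c ∈ Subgroup.centralizer ({z} : Set G), ∃ u ∈ U, x = c * u * c⁻¹} = Subgroup.centralizer ({z} : Set G)) (h3 : (∃ k ∈ K, k * z * k⁻¹ ∈ Q ∧ k * z * k⁻¹ ≠ z) ∨ ∃ u ∈ U ⊓ Q, u ∉ Subgroup.zpowers z ∧ (∃ hz' : z ∈ Subgroup.centralizer ({u} : Set G), (⟨z, hz'⟩ : ↥(Subgroup.centralizer ({u} : Set G))) ∈ Cfsg.pCore 2 ↥(Subgroup.centralizer ({u} : Set G)))) : IsSimpleGroup G ∧ Cfsg.IsLargeExtraspecial Q := by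
  classical
  haveI := Fact.mk Nat.prime_two
  have s := CfsgLib.Extraspecial.Setting.of_fStar hz Q hF hQ
  have hbig : 16 ≤ Nat.card Q := by
    rw [hcard]
    calc 16 = 2 ^ 4 := by norm_num
      _ ≤ _ := Nat.pow_le_pow_right (by norm_num) (by omega)
  have hodd : ∀ N : Subgroup G, Odd (Nat.card N) → Q ≤ Subgroup.normalizer (N : Set G) → N = ⊥ := by
    rcases h3 with ⟨k, -, hkQ, hkne⟩ | ⟨u, ⟨huU, huQ⟩, hunz, hz', hcore⟩
    · exact (⟨s, hkQ, hkne, hbig⟩ : CfsgLib.Extraspecial.Pair Q z k).odd_eq_bot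
    · have hUab' : ∀ a ∈ U, ∀ b ∈ U, a * b = b * a := fun a ha b hb =>
        congrArg Subtype.val (hUab.is_comm.comm ⟨a, ha⟩ ⟨b, hb⟩)
      have hsq : ∀ a ∈ U, a * a = 1 := by
        intro a ha
        rw [hU] at ha
        induction ha using Subgroup.closure_induction with
        | mem x hx =>
          obtain ⟨k, -, rfl⟩ := hx
          rw [show k * z * k⁻¹ * (k * z * k⁻¹) = k * (z * z) * k⁻¹ by group, s.zz, mul_one, mul_inv_cancel]
        | one => rw [one_mul]
        | mul x y hx hy hx' hy' =>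
          rw [mul_assoc, ← mul_assoc y, hUab' y (hU ▸ hy) x (hU ▸ hx), mul_assoc x y y, hy', mul_one, hx']
        | inv x _ hx' => rw [inv_eq_of_mul_eq_one_right hx', hx']
      have hu1 : u ≠ 1 := fun h => hunz (h ▸ one_mem _)
      have huz : u ≠ z := fun h => hunz (h ▸ Subgroup.mem_zpowers z)
      intro N hN hQN
      refine s.odd_eq_bot_of huQ (hsq u huU) hu1 huz N hN hQN fun x hx hxu => ?_
      set Cu := Subgroup.centralizer ({u} : Set G)
      have hxC : x ∈ Cu := Subgroup.mem_centralizer_singleton_iff.mpr hxu.symm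
      haveI := CfsgLib.Fitting.pCore_normal (G := Cu) 2
      have hc : (⟨z, hz'⟩ : Cu) * (⟨x, hxC⟩ * (⟨z, hz'⟩ : Cu)⁻¹ * (⟨x, hxC⟩ : Cu)⁻¹) ∈ Cfsg.pCore 2 ↥Cu :=
        mul_mem hcore ((inferInstance : (Cfsg.pCore 2 ↥Cu).Normal).conj_mem _ (inv_mem hcore) _)
      obtain ⟨k, hk⟩ := CfsgLib.Fitting.pCore_isPGroup (G := Cu) 2 ⟨_, hc⟩
      have hk' : (z * (x * z⁻¹ * x⁻¹)) ^ 2 ^ k = 1 := by
        have := congrArg (fun e : ↥(Cfsg.pCore 2 ↥Cu) => ((e : Cu) : G)) hk
        simpa using this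
      have hcN : z * (x * z⁻¹ * x⁻¹) ∈ N := by
        have := N.mul_mem ((Subgroup.mem_normalizer_iff.mp (hQN s.z_mem) x).mp hx) (N.inv_mem hx)
        rwa [show z * (x * z⁻¹ * x⁻¹) = z * x * z⁻¹ * x⁻¹ by group]
      have h1 : z * (x * z⁻¹ * x⁻¹) = 1 := orderOf_eq_one_iff.mp (Nat.eq_one_of_dvd_coprimes
        ((Nat.coprime_two_right.mpr hN).pow_right k) (N.orderOf_dvd_natCard hcN) (orderOf_dvd_of_pow_eq_one hk'))
      rw [← commutatorElement_eq_one_iff_mul_comm, commutatorElement_def, ← h1]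
      group
  refine ⟨?_, s.isLargeExtraspecial hodd⟩
  haveI : Nontrivial G := ⟨⟨z, 1, s.ne_one⟩⟩
  refine ⟨fun N hN => or_iff_not_imp_left.mpr fun hN1 => ?_⟩
  have hzN : z ∈ N := s.z_mem_normal hodd N hN1
  refine s.eq_top_of_centralizer_le N (hgen ▸ (Subgroup.closure_le N).mpr ?_)
  rintro _ ⟨c, -, u, hu, rfl⟩
  refine hN.conj_mem u ?_ c
  refine ((Subgroup.closure_le N).mpr ?_) (hU ▸ hu)
  rintro _ ⟨k, -, rfl⟩
  exact hN.conj_mem z hzN k

end Cfsg.Agent.S5427
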