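import Cfsg.Statements.S5434
import Cfsg.Agent.Lib.Extraspecial.LargePair
import Cfsg.Agent.Lib.Coprime.Action

set_option autoImplicit false
set_option linter.style.haveILetI false
open Cfsg

namespace Cfsg.Agent.S5434

/-- Let Q be a large extraspecial 2-subgroup of the finite group G (extraspecial; centralizer equal to its centre; normal in the centralizer of its centre; normalizing no non-trivial subgroup of odd order), and A a non-trivial subgroup of odd order of the normalizer of Q. Then Q is the central product of the centralizer of A in Q and the commutator subgroup [Q, A] (they generate Q and commute elementwise), [Q, A] is extraspecial, and the centralizer of A in Q is either the centre of Q or extraspecial. -/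
theorem result {G : Type*} [Group G] [Finite G] (Q : Subgroup G) (hQ : Cfsg.IsLargeExtraspecial Q) (A : Subgroup G) (hA : A ≤ Subgroup.normalizer (Q : Set G)) (hAodd : Odd (Nat.card ↥A)) (hA1 : A ≠ ⊥) : (Q ⊓ Subgroup.centralizer (A : Set G)) ⊔ ⁅Q, A⁆ = Q ∧ (∀ x ∈ Q ⊓ Subgroup.centralizer (A : Set G), ∀ y ∈ ⁅Q, A⁆, x * y = y * x) ∧ Cfsg.IsExtraspecial 2 ↥⁅Q, A⁆ ∧ (Q ⊓ Subgroup.centralizer (A : Set G) = ((Subgroup.center ↥Q).map Q.subtype) ∨ Cfsg.IsExtraspecial 2 ↥(Q ⊓ Subgroup.centralizer (A : Set G))) := by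
  haveI := Fact.mk Nat.prime_two
  obtain ⟨z, hzc, hz2⟩ := CfsgLib.Extraspecial.exists_gen hQ.1
  have s := CfsgLib.Extraspecial.Setting.of_large hQ hzc hz2
  have hQ2 : IsPGroup 2 Q := hQ.1.1.1
  obtain ⟨k, hk⟩ := IsPGroup.iff_card.mp hQ2
  have hcop : (Nat.card A).Coprime (Nat.card Q) := by
    rw [hk]; exact (Nat.coprime_two_right.mpr hAodd).pow_right k
  have hsolv : Group.IsSolvable A ∨ Group.IsSolvable Q := Or.inr (haveI := hQ2.isNilpotent; inferInstance)
  have hQA : ⁅Q, A⁆ ≤ Q := CfsgLib.Coprime.commutator_le_left_of_le_normalizer hA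
  -- `A` fixes `z`
  have hAz : ∀ a ∈ A, a * z = z * a := by
    intro a ha
    have haN := hA ha
    have h1 : a * z * a⁻¹ ∈ Q := (Subgroup.mem_normalizer_iff.mp haN z).mp s.z_mem
    have h2 : ∀ q ∈ Q, q * (a * z * a⁻¹) = a * z * a⁻¹ * q := by
      intro q hq
      have h3 : a⁻¹ * q * a ∈ Q := by
        have := (Subgroup.mem_normalizer_iff.mp (inv_mem haN) q).mp hq
        rwa [inv_inv] at this
      calc q * (a * z * a⁻¹) = a * ((a⁻¹ * q * a) * z) * a⁻¹ := by group
        _ = a * (z * (a⁻¹ * q * a)) * a⁻¹ := by rw [s.z_comm h3]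
        _ = _ := by group
    rcases s.eq_of_forall h1 h2 with h | h
    · exact absurd (conj_eq_one_iff.mp h) s.ne_one
    · exact mul_inv_eq_iff_eq_mul.mp h
  have hzA : z ∈ Subgroup.centralizer (A : Set G) := Subgroup.mem_centralizer_iff.mpr hAz
  have hcent : ∀ x ∈ Q, (∀ q ∈ Q, q * x = x * q) → x ∈ Subgroup.centralizer (A : Set G) := fun x hx h => by
    rcases s.eq_of_forall hx h with rfl | rfl
    exacts [one_mem _, hzA]
  have hsup : (Q ⊓ Subgroup.centralizer (A : Set G)) ⊔ ⁅Q, A⁆ = Q := by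
    rw [sup_comm]; exact CfsgLib.Coprime.commutator_sup_centralizer hA hcop hsolv
  -- the two parts commute
  have hbot : ⁅⁅A, Q⁆, Q ⊓ Subgroup.centralizer (A : Set G)⁆ = ⊥ := by
    refine Subgroup.commutator_commutator_eq_bot_of_rotate ?_ ?_
    · rw [Subgroup.commutator_eq_bot_iff_le_centralizer, Subgroup.commutator_le]
      intro q hq x hx
      rcases s.comm_cases hq hx.1 with h | h
      · rw [commutatorElement_def, h, mul_inv_cancel]; exact one_mem _
      · rw [commutatorElement_def, h, mul_inv_cancel_right]; exact hzA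
    · rw [Subgroup.commutator_eq_bot_iff_le_centralizer, Subgroup.commutator_le]
      intro x hx a ha
      rw [commutatorElement_eq_one_iff_mul_comm.mpr (Subgroup.mem_centralizer_iff.mp hx.2 a ha).symm]
      exact one_mem _
  have hXY : ∀ x ∈ Q ⊓ Subgroup.centralizer (A : Set G), ∀ y ∈ ⁅Q, A⁆, x * y = y * x := by
    intro x hx y hy
    rw [Subgroup.commutator_comm] at hy
    rw [Subgroup.commutator_eq_bot_iff_le_centralizer] at hbot
    exact Subgroup.mem_centralizer_iff.mp (hbot hy) x hx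
  have hgen : ∀ w, (∀ x ∈ Q ⊓ Subgroup.centralizer (A : Set G), x * w = w * x) →
      (∀ y ∈ ⁅Q, A⁆, y * w = w * y) → ∀ q ∈ Q, q * w = w * q := by
    intro w h1 h2 q hq
    have hle : Q ≤ Subgroup.centralizer ({w} : Set G) := hsup ▸ sup_le
      (fun x hx => Subgroup.mem_centralizer_singleton_iff.mpr (h1 x hx))
      (fun y hy => Subgroup.mem_centralizer_singleton_iff.mpr (h2 y hy))
    exact Subgroup.mem_centralizer_singleton_iff.mp (hle hq)
  -- `[Q, A]` is not central
  have hYne : ⁅Q, A⁆ ≠ ⊥ := fun h => hA1 (by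
    rw [Subgroup.commutator_eq_bot_iff_le_centralizer] at h
    refine (Subgroup.eq_bot_iff_forall _).mpr fun a ha => ?_
    have hac : a ∈ Subgroup.centralizer (Q : Set G) := Subgroup.mem_centralizer_iff.mpr fun q hq =>
      (Subgroup.mem_centralizer_iff.mp (h hq) a ha).symm
    rw [s.cQ] at hac
    rw [← orderOf_eq_one_iff]
    exact Nat.eq_one_of_dvd_coprimes (Nat.coprime_two_right.mpr hAodd) (A.orderOf_dvd_natCard ha)
      (hz2 ▸ orderOf_dvd_of_mem_zpowers hac))
  have hnab : ∃ a ∈ ⁅Q, A⁆, ∃ b ∈ ⁅Q, A⁆, a * b ≠ b * a := by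
    by_contra h
    push Not at h
    apply hYne
    rw [← CfsgLib.Coprime.commutator_commutator_eq hA hcop hsolv, Subgroup.commutator_eq_bot_iff_le_centralizer]
    exact fun y hy => hcent y (hQA hy) (hgen y (fun x hx => hXY x hx y hy) (fun b hb => h b hb y hy))
  have hzY : z ∈ ⁅Q, A⁆ := by
    obtain ⟨a, ha, b, hb, hab⟩ := hnab
    rcases s.comm_cases (hQA ha) (hQA hb) with h | h
    · exact absurd (mul_inv_eq_iff_eq_mul.mp h) hab
    · have := mul_mem (mul_mem (mul_mem ha hb) (inv_mem ha)) (inv_mem hb)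
      rwa [h, mul_inv_cancel_right] at this
  -- a criterion for subgroups of `Q`
  have key : ∀ Y : Subgroup G, Y ≤ Q → z ∈ Y → (∀ w ∈ Y, (∀ y ∈ Y, y * w = w * y) → w = 1 ∨ w = z) →
      (∃ a ∈ Y, ∃ b ∈ Y, a * b ≠ b * a) → Cfsg.IsExtraspecial 2 ↥Y := by
    intro Y hY hzY hc hne
    have hzc' : (⟨z, hzY⟩ : Y) ∈ Subgroup.center Y :=
      Subgroup.mem_center_iff.mpr fun y => Subtype.ext (s.z_comm (hY y.2))
    have hce : Subgroup.center Y = Subgroup.zpowers (⟨z, hzY⟩ : Y) := by
      refine le_antisymm (fun w hw => ?_) (Subgroup.zpowers_le.mpr hzc')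
      rcases hc w w.2 (fun y hy => congrArg Subtype.val (Subgroup.mem_center_iff.mp hw ⟨y, hy⟩)) with h | h
      · rw [show w = 1 from Subtype.ext h]; exact one_mem _
      · rw [show w = ⟨z, hzY⟩ from Subtype.ext h]; exact Subgroup.mem_zpowers _
    have hmemc : ∀ w : Y, ((w : G) = 1 ∨ (w : G) = z) → w ∈ Subgroup.center Y := by
      rintro w (h | h)
      · rw [show w = 1 from Subtype.ext h]; exact one_mem _
      · rw [show w = ⟨z, hzY⟩ from Subtype.ext h]; exact hzc'
    refine CfsgLib.Extraspecial.isExtraspecial_of (hQ2.to_le hY) ?_ ?_ ?_ ?_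
    · rw [hce, Nat.card_zpowers, Subgroup.orderOf_mk, hz2]
    · intro a b
      refine hmemc _ ?_
      show (a : G) * b * (a : G)⁻¹ * (b : G)⁻¹ = 1 ∨ (a : G) * b * (a : G)⁻¹ * (b : G)⁻¹ = z
      rcases s.comm_cases (hY a.2) (hY b.2) with h | h <;> rw [h]
      · exact Or.inl (mul_inv_cancel _)
      · exact Or.inr (mul_inv_cancel_right _ _)
    · intro a
      refine hmemc _ ?_
      rw [SubmonoidClass.coe_pow, pow_two]
      exact s.sq_cases (hY a.2)
    · obtain ⟨a, ha, b, hb, hab⟩ := hne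
      exact ⟨⟨a, ha⟩, ⟨b, hb⟩, fun h => hab (congrArg Subtype.val (commutatorElement_eq_one_iff_mul_comm.mp h))⟩
  refine ⟨hsup, hXY, key _ hQA hzY (fun w hw h => ?_) hnab, ?_⟩
  · exact s.eq_of_forall (hQA hw) (hgen w (fun x hx => hXY x hx w hw) h)
  by_cases hab : ∀ a ∈ Q ⊓ Subgroup.centralizer (A : Set G), ∀ b ∈ Q ⊓ Subgroup.centralizer (A : Set G), a * b = b * a
  · left
    rw [hzc]
    refine le_antisymm (fun w hw => ?_) (Subgroup.zpowers_le.mpr ⟨s.z_mem, hzA⟩)
    rcases s.eq_of_forall hw.1 (hgen w (fun x hx => hab x hx w hw) (fun y hy => (hXY w hw y hy).symm)) with h | h <;>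
      rw [h]
    exacts [one_mem _, Subgroup.mem_zpowers z]
  · right
    push Not at hab
    obtain ⟨a, ha, b, hb, hne⟩ := hab
    exact key _ inf_le_left ⟨s.z_mem, hzA⟩
      (fun w hw h => s.eq_of_forall hw.1 (hgen w h (fun y hy => (hXY w hw y hy).symm))) ⟨a, ha, b, hb, hne⟩

end Cfsg.Agent.S5434
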