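import Cfsg.Statements.S5428
import Cfsg.Agent.Lib.Extraspecial.FStarSetting
import Cfsg.Agent.S5434
import Cfsg.Agent.Lib.Transfer.Basic

set_option autoImplicit false
set_option linter.style.haveILetI false
open Cfsg

namespace Cfsg.Agent.S5428

/-- Let z be an involution of the finite group G whose centralizer C has generalized Fitting subgroup Q extraspecial (as a 2-group), let A be a subgroup of C of odd order, and let R be the centralizer of A in Q; suppose R has order at least 32, the largest normal subgroup of odd order of the centralizer of the subgroup generated by A and R lies in A, the order of that centralizer is not divisible by 4, and g is an element of G with g z g⁻¹ in R but outside the centre Z of Q. Let M be the subgroup generated by A and the centralizer of A (A is normal in it). Then: the centralizer in M of the subgroup generated by R and A, joined with A, equals the subgroup generated by A and Z; the image of R in M/A is a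 large extraspecial 2-subgroup of M/A; and g z g⁻¹ is conjugate to z inside the subgroup generated by R and the centralizer of A in g Q g⁻¹. -/
theorem result {G : Type*} [Group G] [Finite G] (z : G) (hz : orderOf z = 2) (Q : Subgroup G) (hQC : Q ≤ Subgroup.centralizer ({z} : Set G)) (hF : (Cfsg.generalizedFittingSubgroup ↥(Subgroup.centralizer ({z} : Set G))).map (Subgroup.centralizer ({z} : Set G)).subtype = Q) (hQ : Cfsg.IsExtraspecial 2 ↥Q) (A : Subgroup G) (hA : A ≤ Subgroup.centralizer ({z} : Set G)) (hAodd : Odd (Nat.card ↥A)) (R : Subgroup G) (hR : R = Q ⊓ Subgroup.centralizer (A : Set G)) (hR32 : 32 ≤ Nat.card ↥R) (hO : (Cfsg.oddCore ↥(Subgroup.centralizer ((A ⊔ R : Subgroup G) : Set G))).map (Subgroup.centralizer ((A ⊔ R : Subgroup G) : Set G)).subtype ≤ A) (h4 : ¬ 4 ∣ Nat.card ↥(Subgroup.centralizer ((A ⊔ R : Subgroup G) : Set G))) (g : G) (hgR : g * z * g⁻¹ ∈ R) (hgZ : g * z * g⁻¹ ∉ ((Subgroup.center ↥Q).map Q.subtype)) (M : Subgroup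 G) (hM : M = Subgroup.centralizer (A : Set G) ⊔ A) [hn : (A.subgroupOf M).Normal] : (M ⊓ Subgroup.centralizer ((R ⊔ A : Subgroup G) : Set G)) ⊔ A = A ⊔ ((Subgroup.center ↥Q).map Q.subtype) ∧ Cfsg.IsLargeExtraspecial ((R.subgroupOf M).map (QuotientGroup.mk' (A.subgroupOf M))) ∧ ∃ x ∈ R ⊔ ((Q).map (MulAut.conj g).toMonoidHom ⊓ Subgroup.centralizer (A : Set G)), x * (g * z * g⁻¹) * x⁻¹ = z := by
  classical
  haveI := Fact.mk Nat.prime_two
  have s := CfsgLib.Extraspecial.Setting.of_fStar hz Q hF hQ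
  have hRQ : R ≤ Q := hR ▸ inf_le_left
  have hRA : R ≤ Subgroup.centralizer (A : Set G) := hR ▸ inf_le_right
  have hne : g * z * g⁻¹ ≠ z := fun h => hgZ (by rw [s.center, h]; exact Subgroup.mem_zpowers z)
  have hbig : 16 ≤ Nat.card Q := le_trans (le_trans (by norm_num) hR32) (Subgroup.card_le_of_le hRQ)
  have c : CfsgLib.Extraspecial.Pair Q z g := ⟨s, hRQ hgR, hne, hbig⟩
  have hAz : ∀ a ∈ A, a * z = z * a := fun a ha => Subgroup.mem_centralizer_singleton_iff.mp (hA ha)
  have hzA : z ∈ Subgroup.centralizer (A : Set G) := Subgroup.mem_centralizer_iff.mpr hAz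
  have hz'A : g * z * g⁻¹ ∈ Subgroup.centralizer (A : Set G) := hRA hgR
  have hAQ : A ≤ Subgroup.normalizer (Q : Set G) := fun a ha => s.cz (hA ha)
  have hAQ' : A ≤ Subgroup.normalizer (Q.map (MulAut.conj g).toMonoidHom : Set G) := fun a ha =>
    c.s'.cz (Subgroup.mem_centralizer_singleton_iff.mpr (Subgroup.mem_centralizer_iff.mp hz'A a ha))
  -- the fixed points of `A` in a large `Q` have centre in `⟨z⟩`
  have key : ∀ (E : Subgroup G) (y : G), CfsgLib.Extraspecial.Setting E y →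
      (∀ K : Subgroup G, Odd (Nat.card K) → E ≤ Subgroup.normalizer (K : Set G) → K = ⊥) →
      A ≤ Subgroup.normalizer (E : Set G) →
      ∀ w ∈ E, w ∈ Subgroup.centralizer (A : Set G) →
        (∀ r ∈ E, r ∈ Subgroup.centralizer (A : Set G) → r * w = w * r) → w = 1 ∨ w = y := by
    intro E y sE hE hAE w hw hwA hcom
    refine sE.eq_of_forall hw fun q hq => ?_
    rcases eq_or_ne A ⊥ with rfl | hA1
    · exact hcom q hq (Subgroup.mem_centralizer_iff.mpr fun a ha => by
        rw [Subgroup.mem_bot.mp ha, one_mul, mul_one])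
    obtain ⟨hsup, hXY, -, -⟩ := Cfsg.Agent.S5434.result E (sE.isLargeExtraspecial hE) A hAE hAodd hA1
    have hle : E ≤ Subgroup.centralizer ({w} : Set G) := hsup ▸ sup_le
      (fun r hr => Subgroup.mem_centralizer_singleton_iff.mpr (hcom r hr.1 hr.2))
      (fun v hv => Subgroup.mem_centralizer_singleton_iff.mpr (hXY w ⟨hw, hwA⟩ v hv).symm)
    exact Subgroup.mem_centralizer_singleton_iff.mp (hle hq)
  have hcR : ∀ w ∈ R, (∀ r ∈ R, r * w = w * r) → w = 1 ∨ w = z := fun w hw h =>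
    key Q z s c.odd_eq_bot hAQ w (hRQ hw) (hRA hw) (fun r h1 h2 => h r (hR ▸ ⟨h1, h2⟩))
  have hzR : z ∈ R := hR ▸ ⟨s.z_mem, hzA⟩
  have hA2 : ∀ a ∈ A, ∀ n : ℕ, a ^ 2 ^ n = 1 → a = 1 := fun a ha n h =>
    orderOf_eq_one_iff.mp (Nat.eq_one_of_dvd_coprimes ((Nat.coprime_two_right.mpr hAodd).pow_right n)
      (A.orderOf_dvd_natCard ha) (orderOf_dvd_of_pow_eq_one h))
  have hzA' : z ∉ A := fun h => s.ne_one (hA2 z h 1 (by rw [pow_one, pow_two, s.zz]))
  have hR2 : ∀ r ∈ R, ∃ n : ℕ, r ^ 2 ^ n = 1 := fun r hr => by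
    obtain ⟨n, hn'⟩ := hQ.1.1 ⟨r, hRQ hr⟩
    exact ⟨n, congrArg Subtype.val hn'⟩
  -- the centralizer of `A ⊔ R`
  set D := Subgroup.centralizer ((A ⊔ R : Subgroup G) : Set G) with hD
  have hDA : D ≤ Subgroup.centralizer (A : Set G) := Subgroup.centralizer_le (SetLike.coe_subset_coe.mpr le_sup_left)
  have hDR : D ≤ Subgroup.centralizer (R : Set G) := Subgroup.centralizer_le (SetLike.coe_subset_coe.mpr le_sup_right)
  have hzD : z ∈ D := by
    rw [hD, Subgroup.mem_centralizer_iff]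
    intro v hv
    have hle : A ⊔ R ≤ Subgroup.centralizer ({z} : Set G) :=
      sup_le hA (fun r hr => Subgroup.mem_centralizer_singleton_iff.mpr (s.z_comm (hRQ hr)))
    exact Subgroup.mem_centralizer_singleton_iff.mp (hle hv)
  have hDsplit : D ≤ A ⊔ Subgroup.zpowers z := by
    let Z : Subgroup D := Subgroup.zpowers ⟨z, hzD⟩
    have hZc : Z ≤ Subgroup.center D := Subgroup.zpowers_le.mpr (Subgroup.mem_center_iff.mpr fun d =>
      Subtype.ext (Subgroup.mem_centralizer_iff.mp (hDR d.2) z hzR).symm)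
    haveI : Z.Normal := ⟨fun n hn' d => by
      rw [Subgroup.mem_center_iff.mp (hZc hn') d, mul_inv_cancel_right]
      exact hn'⟩
    have hZcard : Nat.card Z = 2 := by
      rw [Nat.card_zpowers, Subgroup.orderOf_mk, hz]
    have hidx : Odd Z.index := by
      by_contra hev
      rw [Nat.not_odd_iff_even] at hev
      obtain ⟨m, hm⟩ := hev
      refine h4 ⟨m, ?_⟩
      rw [← Subgroup.card_mul_index Z, hZcard, hm]; ring
    obtain ⟨H, hH⟩ := Subgroup.exists_right_complement'_of_coprime (N := Z)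
      (by rw [hZcard]; exact Nat.coprime_two_left.mpr hidx)
    have hdec : ∀ d : D, ∃ a ∈ Z, ∃ b ∈ H, a * b = d := fun d => by
      obtain ⟨⟨a, b⟩, hab⟩ := (Subgroup.isComplement_iff_existsUnique.mp hH d).exists
      exact ⟨a, a.2, b, b.2, hab⟩
    haveI hHn : H.Normal := ⟨fun h hh d => by
      obtain ⟨a, ha, b, hb, rfl⟩ := hdec d
      have e : b * h * b⁻¹ ∈ H := mul_mem (mul_mem hb hh) (inv_mem hb)
      rwa [show a * b * h * (a * b)⁻¹ = b * h * b⁻¹ by
        rw [show a * b * h * (a * b)⁻¹ = a * (b * h * b⁻¹) * a⁻¹ by group,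
          ← Subgroup.mem_center_iff.mp (hZc ha) (b * h * b⁻¹), mul_inv_cancel_right]]⟩
    have hHcard : (Nat.card H).Coprime 2 := by
      rw [← hH.symm.index_eq_card]; exact Nat.coprime_two_right.mpr hidx
    intro d hd
    obtain ⟨a, ha, b, hb, hab⟩ := hdec ⟨d, hd⟩
    have hbA : (b : G) ∈ A := hO ⟨b, CfsgLib.Transfer.le_pPrimeCore hHn hHcard hb, rfl⟩
    obtain ⟨n, rfl⟩ := Subgroup.mem_zpowers_iff.mp ha
    rw [show d = ((⟨z, hzD⟩ : D) ^ n : D) * (b : G) from (congrArg Subtype.val hab).symm]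
    exact mul_mem (Subgroup.mem_sup_right (by simp)) (Subgroup.mem_sup_left hbA)
  have hCA : Subgroup.centralizer (A : Set G) ≤ M := hM ▸ le_sup_left
  refine ⟨?_, ?_⟩
  · rw [s.center, sup_comm R A]
    refine le_antisymm (sup_le (le_trans inf_le_right hDsplit) le_sup_left) (sup_le le_sup_right ?_)
    exact Subgroup.zpowers_le.mpr (Subgroup.mem_sup_left ⟨hCA hzA, hzD⟩)
  -- the movers
  obtain ⟨u, hu, huz⟩ : ∃ u ∈ R, u * (g * z * g⁻¹) * u⁻¹ = z * (g * z * g⁻¹) := by
    by_contra h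
    push Not at h
    rcases hcR _ hgR (fun r hr => mul_inv_eq_iff_eq_mul.mp
      ((s.comm_cases (hRQ hr) (hRQ hgR)).resolve_right (h r hr))) with e | e
    exacts [c.ne_one' e, hne e]
  obtain ⟨x, hxQ, hxA, hxz⟩ : ∃ x ∈ Q.map (MulAut.conj g).toMonoidHom,
      x ∈ Subgroup.centralizer (A : Set G) ∧ x * z * x⁻¹ = g * z * g⁻¹ * z := by
    by_contra h
    push Not at h
    rcases key _ _ c.s' c.symm.odd_eq_bot hAQ' z c.mem' hzA (fun r h1 h2 => mul_inv_eq_iff_eq_mul.mp
      ((c.s'.comm_cases h1 c.mem').resolve_right (h r h1 h2))) with e | e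
    exacts [s.ne_one e, hne e.symm]
  have hmove : x⁻¹ * u * (g * z * g⁻¹) * (x⁻¹ * u)⁻¹ = z := by
    calc x⁻¹ * u * (g * z * g⁻¹) * (x⁻¹ * u)⁻¹ = x⁻¹ * (u * (g * z * g⁻¹) * u⁻¹) * x := by group
      _ = x⁻¹ * (g * z * g⁻¹ * z) * x := by rw [huz, c.comm]
      _ = x⁻¹ * (x * z * x⁻¹) * x := by rw [hxz]
      _ = z := by group
  refine ⟨?_, x⁻¹ * u, mul_mem (inv_mem (Subgroup.mem_sup_right ⟨hxQ, hxA⟩)) (Subgroup.mem_sup_left hu), hmove⟩
  -- the quotient
  set π := QuotientGroup.mk' (A.subgroupOf M) with hπ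
  have hπ1 : ∀ v : M, π v = 1 ↔ (v : G) ∈ A := fun v => by
    rw [← MonoidHom.mem_ker, hπ, QuotientGroup.ker_mk', Subgroup.mem_subgroupOf]
  have hπ2 : ∀ v w : M, π v = π w ↔ (v : G) * (w : G)⁻¹ ∈ A := fun v w => by
    rw [← mul_inv_eq_one, ← map_inv, ← map_mul, hπ1]; rfl
  let zM : M := ⟨z, hCA hzA⟩
  set E := (R.subgroupOf M).map π with hE
  have hRM : R ≤ M := hRA.trans hCA
  have hmemE : ∀ r (hr : r ∈ R), π ⟨r, hRM hr⟩ ∈ E := fun r hr =>
    ⟨_, Subgroup.mem_subgroupOf.mpr hr, rfl⟩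
  -- representatives centralizing `A`, and their action on `R`
  have hrep : ∀ m : M, ∃ c0 : M, (c0 : G) ∈ Subgroup.centralizer (A : Set G) ∧ π c0 = π m := by
    intro m
    have hAM : A ≤ M := hM ▸ le_sup_right
    have hle : M ≤ ((((Subgroup.centralizer (A : Set G)).subgroupOf M).map π).comap π).map M.subtype := by
      have h := sup_le (a := Subgroup.centralizer (A : Set G)) (b := A)
        (c := ((((Subgroup.centralizer (A : Set G)).subgroupOf M).map π).comap π).map M.subtype)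
        (fun v hv => ⟨⟨v, hCA hv⟩, ⟨_, Subgroup.mem_subgroupOf.mpr hv, rfl⟩, rfl⟩)
        (fun v hv => ⟨⟨v, hAM hv⟩, Subgroup.mem_comap.mpr (by
          rw [(hπ1 _).mpr hv]
          exact one_mem _), rfl⟩)
      exact hM.le.trans h
    obtain ⟨y, hy, hym⟩ := hle m.2
    rw [show y = m from Subtype.ext hym] at hy
    obtain ⟨c0, hc0, he⟩ := hy
    exact ⟨c0, hc0, he⟩
  have hfix : ∀ c0 ∈ Subgroup.centralizer (A : Set G), ∀ r ∈ R, c0 * r * c0⁻¹ * r⁻¹ ∈ A →
      c0 * r = r * c0 := by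
    intro c0 hc0 r hr h
    set a := c0 * r * c0⁻¹ * r⁻¹ with ha
    obtain ⟨n, hn'⟩ := hR2 r hr
    have e : c0 * r * c0⁻¹ = a * r := by rw [ha, inv_mul_cancel_right]
    have hcom : Commute a r := Subgroup.mem_centralizer_iff.mp (hRA hr) a h
    have h1 : (a * r) ^ 2 ^ n = 1 := by rw [← e, conj_pow, hn', mul_one, mul_inv_cancel]
    rw [hcom.mul_pow, hn', mul_one] at h1
    rw [← commutatorElement_eq_one_iff_mul_comm, commutatorElement_def]
    exact hA2 a h n h1
  have hinj : ∀ r ∈ R, r ∈ A → r = 1 := fun r hr hra => by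
    obtain ⟨n, hn'⟩ := hR2 r hr
    exact hA2 r hra n hn'
  let e : R.subgroupOf M ≃* E := MulEquiv.ofBijective (π.subgroupMap (R.subgroupOf M))
    ⟨(injective_iff_map_eq_one _).mpr fun r hr => Subtype.ext (Subtype.ext (hinj _
      (Subgroup.mem_subgroupOf.mp r.2) ((hπ1 _).mp (congrArg Subtype.val hr)))),
      π.subgroupMap_surjective _⟩
  have hRex : Cfsg.IsExtraspecial 2 R := by
    rcases eq_or_ne A ⊥ with hA1 | hA1
    · rwa [show R = Q by
        rw [hR, inf_eq_left, hA1]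
        exact fun q _ => Subgroup.mem_centralizer_iff.mpr fun a ha => by
          rw [Subgroup.mem_bot.mp ha, one_mul, mul_one]]
    obtain ⟨-, -, -, h | h⟩ :=
      Cfsg.Agent.S5434.result Q (s.isLargeExtraspecial c.odd_eq_bot) A hAQ hAodd hA1
    · exfalso
      rw [← hR, s.center] at h
      rw [h, Nat.card_zpowers, hz] at hR32
      omega
    · rwa [← hR] at h
  have hEex : Cfsg.IsExtraspecial 2 E :=
    CfsgLib.Extraspecial.isExtraspecial_congr ((Subgroup.subgroupOfEquivOfLe hRM).symm.trans e) hRex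
  have hEz : ∀ r (hr : r ∈ R), (r = 1 ∨ r = z) → π ⟨r, hRM hr⟩ ∈ Subgroup.zpowers (π zM) := by
    rintro r hr (rfl | rfl)
    · rw [show (⟨1, hRM hr⟩ : M) = 1 from rfl, map_one]; exact one_mem _
    · exact Subgroup.mem_zpowers _
  have hcomE : ∀ r (hr : r ∈ R), π zM * π ⟨r, hRM hr⟩ = π ⟨r, hRM hr⟩ * π zM := fun r hr => by
    rw [← map_mul, ← map_mul]; exact congrArg π (Subtype.ext (s.z_comm (hRQ hr)).symm)
  have sE : CfsgLib.Extraspecial.Setting E (π zM) := by
    refine ⟨hEex, ?_, orderOf_eq_prime ?_ (fun h => hzA' ((hπ1 _).mp h)), ?_, ?_⟩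
    · refine le_antisymm ?_ (Subgroup.zpowers_le.mpr ⟨⟨_, hmemE z hzR⟩, ?_, rfl⟩)
      · rintro _ ⟨⟨_, ⟨r, hr, rfl⟩⟩, hrc, rfl⟩
        refine hEz r (Subgroup.mem_subgroupOf.mp hr) (hcR _ (Subgroup.mem_subgroupOf.mp hr) fun r' hr' => ?_)
        refine hfix r' (hRA hr') _ (Subgroup.mem_subgroupOf.mp hr) ((hπ2 (⟨r', hRM hr'⟩ * r * ⟨r', hRM hr'⟩⁻¹) r).mp ?_)
        have h' := congrArg Subtype.val (Subgroup.mem_center_iff.mp hrc ⟨_, hmemE r' hr'⟩)
        rw [map_mul, map_mul, map_inv, mul_inv_eq_iff_eq_mul]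
        exact h'
      · refine Subgroup.mem_center_iff.mpr ?_
        rintro ⟨_, r, hr, rfl⟩
        exact Subtype.ext (hcomE r (Subgroup.mem_subgroupOf.mp hr)).symm
    · rw [pow_two, ← map_mul, show zM * zM = 1 from Subtype.ext s.zz, map_one]
    · refine le_antisymm ?_ (Subgroup.zpowers_le.mpr (Subgroup.mem_centralizer_iff.mpr ?_))
      · intro v hv
        obtain ⟨m, rfl⟩ := QuotientGroup.mk'_surjective _ v
        obtain ⟨c0, hc0, he⟩ := hrep m
        rw [← he] at hv ⊢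
        have hcD : (c0 : G) ∈ D := by
          rw [hD, Subgroup.mem_centralizer_iff]
          intro v' hv'
          have hle : A ⊔ R ≤ Subgroup.centralizer ({(c0 : G)} : Set G) := sup_le
            (fun a ha => Subgroup.mem_centralizer_singleton_iff.mpr (Subgroup.mem_centralizer_iff.mp hc0 a ha))
            (fun r hr => Subgroup.mem_centralizer_singleton_iff.mpr (hfix _ hc0 r hr
              ((hπ2 (c0 * ⟨r, hRM hr⟩ * c0⁻¹) ⟨r, hRM hr⟩).mp (by
                rw [map_mul, map_mul, map_inv, ← Subgroup.mem_centralizer_iff.mp hv _ (hmemE r hr),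
                  mul_inv_cancel_right]))).symm)
          exact Subgroup.mem_centralizer_singleton_iff.mp (hle hv')
        have hAM : A ≤ M := hM ▸ le_sup_right
        have hle : A ⊔ Subgroup.zpowers z ≤ ((Subgroup.zpowers (π zM)).comap π).map M.subtype :=
          sup_le (fun v hv => ⟨⟨v, hAM hv⟩, Subgroup.mem_comap.mpr (by
            rw [(hπ1 ⟨v, hAM hv⟩).mpr hv]
            exact one_mem _), rfl⟩)
            (Subgroup.zpowers_le.mpr ⟨zM, Subgroup.mem_zpowers _, rfl⟩)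
        obtain ⟨y, hy, hym⟩ := hle (hDsplit hcD)
        rwa [show y = c0 from Subtype.ext hym] at hy
      · rintro _ ⟨r, hr, rfl⟩
        exact (hcomE r (Subgroup.mem_subgroupOf.mp hr)).symm
    · intro v hv
      rw [Subgroup.mem_centralizer_singleton_iff] at hv
      obtain ⟨m, rfl⟩ := QuotientGroup.mk'_surjective _ v
      obtain ⟨c0, hc0, he⟩ := hrep m
      rw [← he] at hv ⊢
      have hcz : (c0 : G) ∈ Subgroup.normalizer (Q : Set G) := s.cz (Subgroup.mem_centralizer_singleton_iff.mpr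
        (hfix _ hc0 z hzR ((hπ2 (c0 * zM * c0⁻¹) zM).mp (by
          rw [map_mul, map_mul, map_inv, hv, mul_inv_cancel_right]))))
      refine Subgroup.le_normalizer_map π ⟨c0, ?_, rfl⟩
      rw [SetLike.mem_coe, Subgroup.mem_normalizer_iff]
      intro r
      rw [Subgroup.mem_subgroupOf, Subgroup.mem_subgroupOf, hR, Subgroup.mem_inf, Subgroup.mem_inf,
        Subgroup.coe_mul, Subgroup.coe_mul, Subgroup.coe_inv, Subgroup.mem_normalizer_iff.mp hcz (r : G)]
      refine and_congr_right fun _ => ⟨fun h => mul_mem (mul_mem hc0 h) (inv_mem hc0), fun h => ?_⟩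
      have h' := mul_mem (mul_mem (inv_mem hc0) h) hc0
      rwa [show (c0 : G)⁻¹ * ((c0 : G) * (r : G) * (c0 : G)⁻¹) * (c0 : G) = (r : G) by group] at h'
  have hgbar : π ⟨u⁻¹ * x, mul_mem (inv_mem (hRM hu)) (hCA hxA)⟩ * π zM *
      (π ⟨u⁻¹ * x, mul_mem (inv_mem (hRM hu)) (hCA hxA)⟩)⁻¹ = π ⟨g * z * g⁻¹, hRM hgR⟩ := by
    rw [← map_inv, ← map_mul, ← map_mul]
    refine congrArg π (Subtype.ext ?_)
    show u⁻¹ * x * z * (u⁻¹ * x)⁻¹ = g * z * g⁻¹
    conv_lhs => rw [← hmove]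
    group
  refine sE.isLargeExtraspecial (CfsgLib.Extraspecial.Pair.odd_eq_bot
    (g := π ⟨u⁻¹ * x, mul_mem (inv_mem (hRM hu)) (hCA hxA)⟩) ⟨sE, hgbar ▸ hmemE _ hgR, ?_, ?_⟩)
  · rw [hgbar, Ne, hπ2]
    intro h
    exact hne (mul_inv_eq_one.mp (hinj _ (mul_mem hgR (inv_mem hzR)) h))
  · rw [← Nat.card_congr e.toEquiv, Nat.card_congr (Subgroup.subgroupOfEquivOfLe hRM).toEquiv]
    omega

end Cfsg.Agent.S5428
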