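import Cfsg.Statements.S5429
import Cfsg.Agent.Lib.Extraspecial.FStarSetting

set_option autoImplicit false
set_option linter.style.haveILetI false
open Cfsg

namespace Cfsg.Agent.S5429

/-- Let z be an involution of the finite group G with centralizer C whose generalized Fitting subgroup Q is extraspecial of width at least 3 (order 2^(2w+1), w ≥ 3); let g be an element of G with g z g⁻¹ in Q but outside the centre Z of Q, and t an involution lying in both Q and g Q g⁻¹ that is not conjugate to z; write P for the centralizer of t in Q and suppose that the elements of C acting trivially by conjugation on P modulo the subgroup generated by t and z are exactly the elements of Q. Then the image of P in the centralizer of t modulo the subgroup generated by t is a large extraspecial 2-subgroup there, and g z g⁻¹ is conjugate to z inside the subgroup generated by P and the centralizer of t in g Q g⁻¹. -/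
theorem result {G : Type*} [Group G] [Finite G] (z : G) (hz : orderOf z = 2) (Q : Subgroup G) (hQC : Q ≤ Subgroup.centralizer ({z} : Set G)) (hF : (Cfsg.generalizedFittingSubgroup ↥(Subgroup.centralizer ({z} : Set G))).map (Subgroup.centralizer ({z} : Set G)).subtype = Q) (hQ : Cfsg.IsExtraspecial 2 ↥Q) (w : ℕ) (hw : 3 ≤ w) (hcard : Nat.card ↥Q = 2 ^ (2 * w + 1)) (g : G) (hgQ : g * z * g⁻¹ ∈ Q) (hgZ : g * z * g⁻¹ ∉ ((Subgroup.center ↥Q).map Q.subtype)) (t : G) (ht : orderOf t = 2) (htQ : t ∈ Q ⊓ (Q).map (MulAut.conj g).toMonoidHom) (htz : ¬ IsConj z t) (P : Subgroup G) (hP : P = Q ⊓ Subgroup.centralizer ({t} : Set G)) (hCP : ∀ c ∈ Subgroup.centralizer ({z} : Set G), (∀ x ∈ P, ∃ y ∈ Subgroup.closure ({t, z} : Set G), c * x * c⁻¹ = x * y) ↔ c ∈ Q) [hn : ((Subgroup.zpowers t).subgroupOf (Subgroup.centralizer ({t} : Set G))).Normal] : Cfsg.IsLargeExtraspecial ((P.subgroupOf (Subgroup.centralizer ({t} : Set G))).map (QuotientGroup.mk' ((Subgroup.zpowers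 t).subgroupOf (Subgroup.centralizer ({t} : Set G))))) ∧ ∃ x ∈ P ⊔ ((Q).map (MulAut.conj g).toMonoidHom ⊓ Subgroup.centralizer ({t} : Set G)), x * (g * z * g⁻¹) * x⁻¹ = z := by
  classical
  haveI := Fact.mk Nat.prime_two
  have s := CfsgLib.Extraspecial.Setting.of_fStar hz Q hF hQ
  have hne : g * z * g⁻¹ ≠ z := fun h => hgZ (by rw [s.center, h]; exact Subgroup.mem_zpowers z)
  have hbig : 128 ≤ Nat.card Q := by
    rw [hcard]
    calc 128 = 2 ^ 7 := by norm_num
      _ ≤ _ := Nat.pow_le_pow_right (by norm_num) (by omega)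
  have c : CfsgLib.Extraspecial.Pair Q z g := ⟨s, hgQ, hne, by omega⟩
  obtain ⟨htQ, htQ'⟩ := htQ
  have ht1 : t ≠ 1 := fun h => by rw [h, orderOf_one] at ht; norm_num at ht
  have htt : t * t = 1 := by rw [← pow_two, ← ht, pow_orderOf_eq_one]
  have htz1 : t ≠ z := fun h => htz (h ▸ IsConj.refl z)
  have htz' : t ≠ g * z * g⁻¹ := fun h => htz (isConj_iff.mpr ⟨g, h.symm⟩)
  have hzt : ¬ IsConj z (z * t) := fun h => by
    obtain ⟨v, -, hvt⟩ := s.exists_move htQ ht1 htz1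
    exact htz (h.trans (isConj_iff.mpr ⟨v, hvt⟩).symm)
  have hz't : ¬ IsConj (g * z * g⁻¹) (g * z * g⁻¹ * t) := fun h => by
    obtain ⟨v, -, hvt⟩ := c.s'.exists_move htQ' ht1 htz'
    exact htz (((isConj_iff.mpr ⟨g, rfl⟩).trans h).trans (isConj_iff.mpr ⟨v, hvt⟩).symm)
  obtain ⟨u, huQ, hut, huz⟩ := s.exists_move_in htQ ht1 htz1 hgQ c.ne_one' hne htz'.symm
    (fun h => hzt (h ▸ isConj_iff.mpr ⟨g, rfl⟩))
  obtain ⟨x, hxQ, hxt, hxz⟩ := c.s'.exists_move_in htQ' ht1 htz' c.mem' s.ne_one hne.symm htz1.symm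
    (fun h => hz't (h ▸ (isConj_iff.mpr ⟨g, rfl⟩).symm))
  have hmove : x⁻¹ * u * (g * z * g⁻¹) * (x⁻¹ * u)⁻¹ = z := by
    calc x⁻¹ * u * (g * z * g⁻¹) * (x⁻¹ * u)⁻¹ = x⁻¹ * (u * (g * z * g⁻¹) * u⁻¹) * x := by group
      _ = x⁻¹ * (g * z * g⁻¹ * z) * x := by rw [huz, c.comm]
      _ = x⁻¹ * (x * z * x⁻¹) * x := by rw [hxz]
      _ = z := by group
  set C := Subgroup.centralizer ({t} : Set G) with hC
  have hmemP : ∀ r, r ∈ P ↔ r ∈ Q ∧ r * t = t * r := fun r => by
    rw [hP, Subgroup.mem_inf, Subgroup.mem_centralizer_singleton_iff]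
  have huP : u ∈ P := (hmemP u).mpr ⟨huQ, hut⟩
  have hxC : x ∈ C := Subgroup.mem_centralizer_singleton_iff.mpr hxt
  refine ⟨?_, x⁻¹ * u, mul_mem (inv_mem (Subgroup.mem_sup_right ⟨hxQ, hxC⟩)) (Subgroup.mem_sup_left huP), hmove⟩
  -- the quotient
  set π := QuotientGroup.mk' ((Subgroup.zpowers t).subgroupOf C) with hπ
  have hT : ∀ y, y ∈ Subgroup.zpowers t ↔ y = 1 ∨ y = t := by
    intro y
    refine ⟨fun hy => ?_, ?_⟩
    · obtain ⟨n, rfl⟩ := Subgroup.mem_zpowers_iff.mp hy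
      rcases Int.even_or_odd' n with ⟨m, rfl | rfl⟩
      · exact Or.inl (by rw [zpow_mul, zpow_two, htt, one_zpow])
      · exact Or.inr (by rw [zpow_add, zpow_mul, zpow_two, htt, one_zpow, one_mul, zpow_one])
    · rintro (rfl | rfl)
      exacts [one_mem _, Subgroup.mem_zpowers _]
  have hπ1 : ∀ v : C, π v = 1 ↔ (v : G) = 1 ∨ (v : G) = t := fun v => by
    rw [← MonoidHom.mem_ker, hπ, QuotientGroup.ker_mk', Subgroup.mem_subgroupOf, hT]
  have hπ2 : ∀ v w : C, π v = π w ↔ (v : G) * (w : G)⁻¹ = 1 ∨ (v : G) * (w : G)⁻¹ = t := fun v w => by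
    rw [← mul_inv_eq_one, ← map_inv, ← map_mul, hπ1]; rfl
  have hPC : P ≤ C := hP ▸ inf_le_right
  have hPQ : P ≤ Q := hP ▸ inf_le_left
  have hzP : z ∈ P := (hmemP z).mpr ⟨s.z_mem, (s.z_comm htQ).symm⟩
  let zC : C := ⟨z, hPC hzP⟩
  set E := (P.subgroupOf C).map π with hE
  have hmemE : ∀ r (hr : r ∈ P), π ⟨r, hPC hr⟩ ∈ E := fun r hr =>
    ⟨_, Subgroup.mem_subgroupOf.mpr hr, rfl⟩
  have hzπ : π zC ≠ 1 := fun h => by
    rcases (hπ1 _).mp h with e | e
    exacts [s.ne_one e, htz1 e.symm]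
  have hzcom : ∀ r (hr : r ∈ P), π zC * π ⟨r, hPC hr⟩ = π ⟨r, hPC hr⟩ * π zC := fun r hr => by
    rw [← map_mul, ← map_mul]; exact congrArg π (Subtype.ext (s.z_comm (hPQ hr)).symm)
  -- elements of `P` commuting with `E`
  have hcent : ∀ r (hr : r ∈ P), (∀ v ∈ E, v * π ⟨r, hPC hr⟩ = π ⟨r, hPC hr⟩ * v) →
      π ⟨r, hPC hr⟩ ∈ Subgroup.zpowers (π zC) := by
    intro r hr h
    have hcom : ∀ q ∈ P, q * r = r * q := by
      intro q hq
      have h1 := (hπ2 (⟨q, hPC hq⟩ * ⟨r, hPC hr⟩) (⟨r, hPC hr⟩ * ⟨q, hPC hq⟩)).mp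
        (by rw [map_mul, map_mul]; exact h _ (hmemE q hq))
      rcases s.comm_cases (hPQ hq) (hPQ hr) with e | e
      · exact mul_inv_eq_iff_eq_mul.mp e
      · exfalso
        have e2 : q * r * (r * q)⁻¹ = z := by
          rw [mul_inv_rev, ← mul_assoc, e, mul_inv_cancel_right]
        rcases h1 with e1 | e1
        · exact s.ne_one (e2.symm.trans e1)
        · exact htz1 (e1.symm.trans e2)
    by_cases hr1 : r = 1
    · subst hr1
      rw [show (⟨1, hPC hr⟩ : C) = 1 from rfl, map_one]; exact one_mem _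
    by_cases hrz : r = z
    · subst hrz; exact Subgroup.mem_zpowers _
    by_cases hrt : r = t
    · rw [(hπ1 ⟨r, hPC hr⟩).mpr (Or.inr hrt)]; exact one_mem _
    by_cases hrzt : r = z * t
    · rw [show π ⟨r, hPC hr⟩ = π zC from (hπ2 _ _).mpr (Or.inr (by
        show r * z⁻¹ = t
        rw [hrzt, ← s.z_comm htQ, mul_inv_cancel_right]))]
      exact Subgroup.mem_zpowers _
    obtain ⟨q, hq, hqt, hqr⟩ := s.exists_move_in htQ ht1 htz1 (hPQ hr) hr1 hrz hrt hrzt
    rw [hcom q ((hmemP q).mpr ⟨hq, hqt⟩), mul_inv_cancel_right] at hqr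
    exact absurd (right_eq_mul.mp hqr) s.ne_one
  have hzc : ∀ (h : π zC ∈ E), (⟨π zC, h⟩ : E) ∈ Subgroup.center E := fun h => by
    refine Subgroup.mem_center_iff.mpr ?_
    rintro ⟨_, r, hr, rfl⟩
    exact Subtype.ext (hzcom r (Subgroup.mem_subgroupOf.mp hr)).symm
  have hcenE : (Subgroup.center E).map E.subtype = Subgroup.zpowers (π zC) := by
    refine le_antisymm ?_ (Subgroup.zpowers_le.mpr ⟨⟨_, hmemE z hzP⟩, hzc _, rfl⟩)
    rintro _ ⟨⟨_, ⟨r, hr, rfl⟩⟩, hrc, rfl⟩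
    exact hcent r (Subgroup.mem_subgroupOf.mp hr) fun v hv =>
      congrArg Subtype.val (Subgroup.mem_center_iff.mp hrc ⟨v, hv⟩)
  have hoz : orderOf (π zC) = 2 := orderOf_eq_prime
    (by rw [pow_two, ← map_mul, show zC * zC = 1 from Subtype.ext s.zz, map_one]) hzπ
  have hcmem : ∀ a : E, ((a : C ⧸ (Subgroup.zpowers t).subgroupOf C) = 1 ∨ (a : C ⧸ (Subgroup.zpowers t).subgroupOf C) = π zC) →
      a ∈ Subgroup.center E := by
    rintro ⟨a, ha⟩ (rfl | rfl)
    exacts [one_mem _, hzc _]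
  have hEex : Cfsg.IsExtraspecial 2 E := by
    refine CfsgLib.Extraspecial.isExtraspecial_of ((hQ.1.1.to_le hPQ).of_equiv
      (Subgroup.subgroupOfEquivOfLe hPC).symm |>.map π) ?_ ?_ ?_ ?_
    · rw [← Subgroup.card_map_of_injective E.subtype_injective, hcenE, Nat.card_zpowers, hoz]
    · rintro ⟨_, a, ha, rfl⟩ ⟨_, b, hb, rfl⟩
      refine hcmem _ ?_
      show π a * π b * (π a)⁻¹ * (π b)⁻¹ = 1 ∨ π a * π b * (π a)⁻¹ * (π b)⁻¹ = π zC
      rcases s.comm_cases (hPQ (Subgroup.mem_subgroupOf.mp ha)) (hPQ (Subgroup.mem_subgroupOf.mp hb)) with e | e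
      · left
        rw [← map_mul, ← map_inv, ← map_mul, ← map_inv, ← map_mul, show a * b * a⁻¹ = b from Subtype.ext e,
          mul_inv_cancel, map_one]
      · right
        rw [← map_mul, ← map_inv, ← map_mul, ← map_inv, ← map_mul, show a * b * a⁻¹ = zC * b from Subtype.ext e,
          mul_inv_cancel_right]
    · rintro ⟨_, a, ha, rfl⟩
      refine hcmem _ ?_
      show π a ^ 2 = 1 ∨ π a ^ 2 = π zC
      rcases s.sq_cases (hPQ (Subgroup.mem_subgroupOf.mp ha)) with e | e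
      · left; rw [pow_two, ← map_mul, show a * a = 1 from Subtype.ext e, map_one]
      · right; rw [pow_two, ← map_mul, show a * a = zC from Subtype.ext e]
    · obtain ⟨a, ha, b, hb, hat, hbt, hab⟩ := s.exists_pair htQ ht1 htz1 (by omega)
      have haP := (hmemP a).mpr ⟨ha, hat⟩
      have hbP := (hmemP b).mpr ⟨hb, hbt⟩
      refine ⟨⟨_, hmemE a haP⟩, ⟨_, hmemE b hbP⟩, fun h => hzπ ?_⟩
      have h' : π ⟨a, hPC haP⟩ * π ⟨b, hPC hbP⟩ * (π ⟨a, hPC haP⟩)⁻¹ * (π ⟨b, hPC hbP⟩)⁻¹ = 1 :=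
        congrArg Subtype.val h
      rw [← h', ← map_mul, ← map_inv, ← map_mul, ← map_inv, ← map_mul]
      refine congrArg π (Subtype.ext ?_)
      show z = a * b * a⁻¹ * b⁻¹
      rw [hab, mul_inv_cancel_right]
  have hrz : ∀ c0 : C, π c0 * π zC = π zC * π c0 → (c0 : G) * z = z * c0 := by
    intro c0 h
    rcases (hπ2 (c0 * zC * c0⁻¹) zC).mp (by rw [map_mul, map_mul, map_inv, h, mul_inv_cancel_right]) with e | e
    · exact mul_inv_eq_iff_eq_mul.mp (mul_inv_eq_one.mp e)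
    · refine absurd ?_ hzt
      rw [s.z_comm htQ |>.symm]
      exact isConj_iff.mpr ⟨c0, mul_inv_eq_iff_eq_mul.mp e⟩
  have sE : CfsgLib.Extraspecial.Setting E (π zC) := by
    refine ⟨hEex, hcenE, hoz, le_antisymm ?_ (Subgroup.zpowers_le.mpr (Subgroup.mem_centralizer_iff.mpr ?_)), ?_⟩
    · intro v hv
      obtain ⟨c0, rfl⟩ := QuotientGroup.mk'_surjective _ v
      rw [Subgroup.mem_centralizer_iff] at hv
      have hc0z : (c0 : G) ∈ Subgroup.centralizer ({z} : Set G) :=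
        Subgroup.mem_centralizer_singleton_iff.mpr (hrz c0 (hv _ (hmemE z hzP)).symm)
      have hc0Q : (c0 : G) ∈ Q := by
        refine (hCP _ hc0z).mp fun r hr => ⟨r⁻¹ * ((c0 : G) * r * (c0 : G)⁻¹), ?_, by group⟩
        have htr : r * t = t * r := ((hmemP r).mp hr).2
        rcases (hπ2 (c0 * ⟨r, hPC hr⟩ * c0⁻¹) ⟨r, hPC hr⟩).mp
          (by rw [map_mul, map_mul, map_inv, ← hv _ (hmemE r hr), mul_inv_cancel_right]) with e | e
        · rw [show (c0 : G) * r * (c0 : G)⁻¹ = r from mul_inv_eq_one.mp e, inv_mul_cancel]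
          exact one_mem _
        · rw [show (c0 : G) * r * (c0 : G)⁻¹ = t * r from mul_inv_eq_iff_eq_mul.mp e, ← htr, inv_mul_cancel_left]
          exact Subgroup.subset_closure (by simp)
      exact hcent c0 ((hmemP _).mpr ⟨hc0Q, Subgroup.mem_centralizer_singleton_iff.mp c0.2⟩) hv
    · rintro _ ⟨r, hr, rfl⟩
      exact (hzcom r (Subgroup.mem_subgroupOf.mp hr)).symm
    · intro v hv
      rw [Subgroup.mem_centralizer_singleton_iff] at hv
      obtain ⟨c0, rfl⟩ := QuotientGroup.mk'_surjective _ v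
      have hcQ : (c0 : G) ∈ Subgroup.normalizer (Q : Set G) :=
        s.cz (Subgroup.mem_centralizer_singleton_iff.mpr (hrz c0 hv))
      refine Subgroup.le_normalizer_map π ⟨c0, ?_, rfl⟩
      rw [SetLike.mem_coe, Subgroup.mem_normalizer_iff]
      intro r
      rw [Subgroup.mem_subgroupOf, Subgroup.mem_subgroupOf, hP, Subgroup.mem_inf, Subgroup.mem_inf,
        Subgroup.coe_mul, Subgroup.coe_mul, Subgroup.coe_inv, Subgroup.mem_normalizer_iff.mp hcQ (r : G)]
      exact and_congr_right fun _ =>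
        ⟨fun h => mul_mem (mul_mem c0.2 h) (inv_mem c0.2), fun _ => r.2⟩
  have hgbar : π ⟨u⁻¹ * x, mul_mem (inv_mem (hPC huP)) hxC⟩ * π zC *
      (π ⟨u⁻¹ * x, mul_mem (inv_mem (hPC huP)) hxC⟩)⁻¹ =
      π ⟨g * z * g⁻¹, hPC ((hmemP _).mpr ⟨hgQ, (c.s'.z_comm htQ').symm⟩)⟩ := by
    rw [← map_inv, ← map_mul, ← map_mul]
    refine congrArg π (Subtype.ext ?_)
    show u⁻¹ * x * z * (u⁻¹ * x)⁻¹ = g * z * g⁻¹
    conv_lhs => rw [← hmove]
    group
  refine sE.isLargeExtraspecial (CfsgLib.Extraspecial.Pair.odd_eq_bot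
    (g := π ⟨u⁻¹ * x, mul_mem (inv_mem (hPC huP)) hxC⟩) ⟨sE, hgbar ▸ hmemE _ ((hmemP _).mpr ⟨hgQ, (c.s'.z_comm htQ').symm⟩), ?_, ?_⟩)
  · rw [hgbar, Ne, hπ2]
    rintro (e | e)
    · exact hne (mul_inv_eq_one.mp e)
    · refine hzt ?_
      rw [← s.z_comm htQ]
      exact isConj_iff.mpr ⟨g, mul_inv_eq_iff_eq_mul.mp e⟩
  · -- `|Q| ≤ 2 |P| ≤ 4 |E|`
    obtain ⟨v, hv, hvt⟩ := s.exists_move htQ ht1 htz1
    have h1 : Nat.card Q ≤ 2 * Nat.card P := by
      have hsplit : ∀ q : Q, (q : G) ∈ P ∨ v⁻¹ * (q : G) ∈ P := by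
        intro q
        rcases s.comm_cases q.2 htQ with e | e
        · exact Or.inl ((hmemP _).mpr ⟨q.2, mul_inv_eq_iff_eq_mul.mp e⟩)
        · refine Or.inr ((hmemP _).mpr ⟨mul_mem (inv_mem hv) q.2, mul_inv_eq_iff_eq_mul.mp ?_⟩)
          calc v⁻¹ * (q : G) * t * (v⁻¹ * (q : G))⁻¹ = v⁻¹ * ((q : G) * t * (q : G)⁻¹) * v := by group
            _ = v⁻¹ * (v * t * v⁻¹) * v := by rw [e, hvt]
            _ = t := by group
      let f : Q → Bool × P := fun q => if h : (q : G) ∈ P then (true, ⟨q, h⟩)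
        else (false, ⟨v⁻¹ * (q : G), (hsplit q).resolve_left h⟩)
      refine (Nat.card_le_card_of_injective f ?_).trans (by simp [Nat.card_prod])
      intro q q' h
      by_cases a : (q : G) ∈ P <;> by_cases b : (q' : G) ∈ P
      · simp only [f, dif_pos a, dif_pos b, Prod.mk.injEq, Subtype.mk.injEq, true_and] at h
        exact Subtype.ext h
      · simp only [f, dif_pos a, dif_neg b, Prod.mk.injEq, Bool.true_eq_false, false_and] at h
      · simp only [f, dif_neg a, dif_pos b, Prod.mk.injEq, Bool.false_eq_true, false_and] at h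
      · simp only [f, dif_neg a, dif_neg b, Prod.mk.injEq, Subtype.mk.injEq, true_and, mul_right_inj] at h
        exact Subtype.ext h
    have h2 : Nat.card P ≤ 2 * Nat.card E := by
      let f := π.subgroupMap (P.subgroupOf C)
      have hf : Function.Surjective f := π.subgroupMap_surjective _
      have hk : Nat.card f.ker ≤ 2 := by
        refine le_trans (Nat.card_le_card_of_injective
          (fun r => (⟨((r : P.subgroupOf C) : C), (hT _).mpr ((hπ1 _).mp (congrArg Subtype.val r.2))⟩ :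
            Subgroup.zpowers t)) ?_) (by rw [Nat.card_zpowers, ht])
        intro a b h
        exact Subtype.ext (Subtype.ext (Subtype.ext (congrArg Subtype.val h :)))
      rw [← Nat.card_congr (Subgroup.subgroupOfEquivOfLe hPC).toEquiv, ← Subgroup.card_mul_index f.ker,
        Subgroup.index_ker, MonoidHom.range_eq_top.mpr hf, Subgroup.card_top]
      exact Nat.mul_le_mul_right _ hk
    omega

end Cfsg.Agent.S5429
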