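import Cfsg.Statements.S5430
import Cfsg.Agent.Lib.Extraspecial.LargePair
import Cfsg.Agent.Lib.Coprime.Action

set_option autoImplicit false
set_option linter.style.haveILetI false
open Cfsg

namespace Cfsg.Agent.S5430

/-- Let Q be a large extraspecial 2-subgroup of the finite group G (extraspecial; centralizer equal to its centre; normal in the centralizer of its centre; normalizing no non-trivial subgroup of odd order) with centre generated by z, an involution, of width w ≥ 2 (order 2^(2w+1)); let g be an element outside the centralizer H of z with g z g⁻¹ in Q; write V for the subgroup generated by z and g z g⁻¹, X for the subgroup generated by Q and g Q g⁻¹, R for the subgroup generated by the centralizer of z in g Q g⁻¹ and the centralizer of g z g⁻¹ in Q, and E for the intersection of Q and g Q g⁻¹. Then R is the centralizer of V in X and is the largest normal 2-subgroup of X, and X/R is isomorphic to the symmetric group of degree 3; moreover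 the normalizer of V is the product of X and the centralizer of V in H, X is normal in it, and modulo R it is the direct product of X/R and of the centralizer of V in H modulo R. -/
theorem result {G : Type*} [Group G] [Finite G] (Q : Subgroup G) (hQ : Cfsg.IsLargeExtraspecial Q) (z : G) (hz : ((Subgroup.center ↥Q).map Q.subtype) = Subgroup.zpowers z) (hz2 : orderOf z = 2) (w : ℕ) (hw : 2 ≤ w) (hcard : Nat.card ↥Q = 2 ^ (2 * w + 1)) (g : G) (hgH : g ∉ Subgroup.centralizer ({z} : Set G)) (hgQ : g * z * g⁻¹ ∈ Q) (V X R E : Subgroup G) (hV : V = Subgroup.closure ({z, g * z * g⁻¹} : Set G)) (hX : X = Q ⊔ (Q).map (MulAut.conj g).toMonoidHom) (hR : R = ((Q).map (MulAut.conj g).toMonoidHom ⊓ Subgroup.centralizer ({z} : Set G)) ⊔ (Q ⊓ Subgroup.centralizer ({g * z * g⁻¹} : Set G))) (hE : E = Q ⊓ (Q).map (MulAut.conj g).toMonoidHom) : R = X ⊓ Subgroup.centralizer (V : Set G) ∧ R = (Cfsg.pCore 2 ↥X).map X.subtype ∧ (∃ h : (R.subgroupOf X).Normal, Nonempty (↥X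 ⧸ R.subgroupOf X ≃* Equiv.Perm (Fin 3))) ∧ Subgroup.normalizer (V : Set G) = X ⊔ (Subgroup.centralizer ({z} : Set G) ⊓ Subgroup.centralizer (V : Set G)) ∧ (∀ y ∈ Subgroup.normalizer (V : Set G), ∀ x ∈ X, y * x * y⁻¹ ∈ X) ∧ R ≤ Subgroup.centralizer ({z} : Set G) ⊓ Subgroup.centralizer (V : Set G) ∧ (∀ x ∈ X, ∀ c ∈ Subgroup.centralizer ({z} : Set G) ⊓ Subgroup.centralizer (V : Set G), x * c * x⁻¹ * c⁻¹ ∈ R) ∧ X ⊓ (Subgroup.centralizer ({z} : Set G) ⊓ Subgroup.centralizer (V : Set G)) = R := by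
  haveI := Fact.mk Nat.prime_two
  have s := CfsgLib.Extraspecial.Setting.of_large hQ hz hz2
  have hne : g * z * g⁻¹ ≠ z := fun h => hgH (Subgroup.mem_centralizer_singleton_iff.mpr
    (mul_inv_eq_iff_eq_mul.mp h))
  have c : CfsgLib.Extraspecial.Pair Q z g :=
    ⟨s, hgQ, hne, by rw [hcard]; exact (show 16 = 2 ^ 4 by norm_num) ▸ Nat.pow_le_pow_right (by norm_num) (by omega)⟩
  subst hV hX hR hE
  show CfsgLib.Extraspecial.Pair.R Q z g = CfsgLib.Extraspecial.Pair.X Q g ⊓
      Subgroup.centralizer (CfsgLib.Extraspecial.Pair.V z g : Set G) ∧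
    CfsgLib.Extraspecial.Pair.R Q z g = (Cfsg.pCore 2 ↥(CfsgLib.Extraspecial.Pair.X Q g)).map
      (CfsgLib.Extraspecial.Pair.X Q g).subtype ∧
    (∃ h : ((CfsgLib.Extraspecial.Pair.R Q z g).subgroupOf (CfsgLib.Extraspecial.Pair.X Q g)).Normal,
      Nonempty (↥(CfsgLib.Extraspecial.Pair.X Q g) ⧸
        (CfsgLib.Extraspecial.Pair.R Q z g).subgroupOf (CfsgLib.Extraspecial.Pair.X Q g) ≃* Equiv.Perm (Fin 3))) ∧ _
  set R := CfsgLib.Extraspecial.Pair.R Q z g with hR
  set X := CfsgLib.Extraspecial.Pair.X Q g with hX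
  have hRX : R ≤ X := c.R_le_X
  have hRn : (R.subgroupOf X).Normal :=
    (Subgroup.normal_subgroupOf_iff_le_normalizer hRX).mpr c.X_le_normalizer_R
  let f : X →* Equiv.Perm (Fin 3) := c.permHom.comp (Subgroup.inclusion c.X_le_normalizer)
  have hfs : Function.Surjective f := fun σ => by
    obtain ⟨x, hx, h⟩ := c.exists_perm σ
    exact ⟨⟨x, hx⟩, h⟩
  have hker : R.subgroupOf X = f.ker := by
    ext x
    rw [Subgroup.mem_subgroupOf, hR, c.R_eq, MonoidHom.mem_ker]
    exact ⟨fun h => (c.permHom_eq_one_iff _).mpr h.2, fun h => ⟨x.2, (c.permHom_eq_one_iff _).mp h⟩⟩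
  have hR2 : IsPGroup 2 ↥R := IsPGroup.to_sup_of_normal_right'
    (c.s'.ex.1.1.to_le inf_le_left) (c.s.ex.1.1.to_le inf_le_left) (fun x hx => by
      have hxC := c.P'_le_centralizer hx
      have hxN := (Subgroup.mem_inf.mp (c.centralizer_V_le hxC)).1
      have hxz' : x ∈ Subgroup.centralizer ({g * z * g⁻¹} : Set G) :=
        Subgroup.mem_centralizer_singleton_iff.mpr (c.mem_centralizer_V.mp hxC).2
      exact CfsgLib.Coprime.le_normalizer_inf_of_le (A := Subgroup.zpowers x)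
        (Subgroup.zpowers_le.mpr hxN)
        (Subgroup.zpowers_le.mpr (Subgroup.le_normalizer hxz')) (Subgroup.mem_zpowers x))
  have hcore : R = (Cfsg.pCore 2 ↥X).map X.subtype := by
    refine le_antisymm (fun x hx => ⟨⟨x, hRX hx⟩, CfsgLib.Fitting.le_pCore hRn
      (hR2.comap_subtype) (Subgroup.mem_subgroupOf.mpr hx), rfl⟩) ?_
    rintro _ ⟨x, hx, rfl⟩
    suffices x ∈ R.subgroupOf X from Subgroup.mem_subgroupOf.mp this
    rw [hker, MonoidHom.mem_ker]
    haveI := CfsgLib.Fitting.pCore_normal (G := X) 2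
    by_contra hne1
    have key : ∀ σ : Equiv.Perm (Fin 3), σ ≠ 1 → σ ^ 3 ≠ 1 →
        ∃ τ : Equiv.Perm (Fin 3), τ * σ * τ⁻¹ * σ⁻¹ ≠ 1 ∧ (τ * σ * τ⁻¹ * σ⁻¹) ^ 3 = 1 := by decide +kernel
    have hP := CfsgLib.Fitting.pCore_isPGroup (G := X) 2
    have hkill : ∀ σ : Equiv.Perm (Fin 3), σ ^ 3 = 1 → (∃ y ∈ Cfsg.pCore 2 ↥X, f y = σ) → σ = 1 := by
      rintro σ h3 ⟨y, hy, rfl⟩
      obtain ⟨k, hk⟩ := hP ⟨y, hy⟩
      have h1 : f y ^ 2 ^ k = 1 := by
        rw [← map_pow, show y ^ 2 ^ k = 1 from congrArg Subtype.val hk, map_one]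
      have h2 := pow_gcd_eq_one.mpr ⟨h3, h1⟩
      rwa [Nat.Coprime.gcd_eq_one (Nat.Coprime.pow_right k (by norm_num)), pow_one] at h2
    rcases em ((f x) ^ 3 = 1) with h | h
    · exact hne1 (hkill _ h ⟨x, hx, rfl⟩)
    obtain ⟨τ, hτ1, hτ3⟩ := key _ hne1 h
    obtain ⟨t, rfl⟩ := hfs τ
    refine hτ1 (hkill _ hτ3 ⟨t * x * t⁻¹ * x⁻¹, mul_mem ((inferInstance : (Cfsg.pCore 2 ↥X).Normal).conj_mem x hx t)
      (inv_mem hx), by simp only [map_mul, map_inv]⟩)
  have hCV : Subgroup.centralizer ({z} : Set G) ⊓ Subgroup.centralizer (CfsgLib.Extraspecial.Pair.V z g : Set G) =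
      Subgroup.centralizer (CfsgLib.Extraspecial.Pair.V z g : Set G) :=
    inf_eq_right.mpr (c.centralizer_V_eq.le.trans inf_le_left)
  refine ⟨c.R_eq, hcore, ⟨hRn, ⟨?_⟩⟩, ?_, ?_, ?_, ?_, ?_⟩
  · exact (QuotientGroup.quotientMulEquivOfEq hker).trans (QuotientGroup.quotientKerEquivOfSurjective f hfs)
  · exact c.normalizer_V_eq.trans (by rw [← hCV]; rfl)
  · exact fun y hy x hx => (Subgroup.mem_normalizer_iff.mp (c.normalizer_V_le_normalizer_X hy) x).mp hx
  · exact fun x hx => hCV.ge (c.R_le_centralizer hx)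
  · intro x hx k hk
    have hk' := hCV.le hk
    show x * k * x⁻¹ * k⁻¹ ∈ R
    rw [hR, c.R_eq]
    refine ⟨?_, ?_⟩
    · have := mul_mem hx ((Subgroup.mem_normalizer_iff.mp (c.centralizer_le_normalizer_X hk') x⁻¹).mp
        (inv_mem hx))
      rw [show x * k * x⁻¹ * k⁻¹ = x * (k * x⁻¹ * k⁻¹) by group]
      exact this
    · refine (Subgroup.centralizer (CfsgLib.Extraspecial.Pair.V z g : Set G)).mul_mem ?_
        ((Subgroup.centralizer (CfsgLib.Extraspecial.Pair.V z g : Set G)).inv_mem hk')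
      have hxN := c.X_le_normalizer hx
      have := CfsgLib.Coprime.le_normalizer_centralizer (A := Subgroup.zpowers x)
        (H := CfsgLib.Extraspecial.Pair.V z g) (Subgroup.zpowers_le.mpr hxN) (Subgroup.mem_zpowers x)
      exact (Subgroup.mem_normalizer_iff.mp this k).mp hk'
  · show X ⊓ _ = R
    rw [hR, c.R_eq, ← hCV]
    rfl

end Cfsg.Agent.S5430
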