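import Cfsg.Statements.S5431
import Cfsg.Agent.Lib.Extraspecial.LargePair
import Cfsg.Agent.Lib.Coprime.Action

set_option autoImplicit false
set_option linter.style.haveILetI false
open Cfsg

namespace Cfsg.Agent.S5431

/-- Let Q be a large extraspecial 2-subgroup of the finite group G (extraspecial; centralizer equal to its centre; normal in the centralizer of its centre; normalizing no non-trivial subgroup of odd order) with centre generated by z, an involution, of width w ≥ 2 (order 2^(2w+1)); let g be an element outside the centralizer H of z with g z g⁻¹ in Q; write V for the subgroup generated by z and g z g⁻¹, X for the subgroup generated by Q and g Q g⁻¹, R for the subgroup generated by the centralizer of z in g Q g⁻¹ and the centralizer of g z g⁻¹ in Q, and E for the intersection of Q and g Q g⁻¹. Then V is the centre of R, E lies in the second centre of R, R is nilpotent of class at most 3, E and R/E are elementary abelian, R/E is the direct product of the images of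 the centralizer of g z g⁻¹ in Q and of the centralizer of z in g Q g⁻¹ (R is their product and they meet in E), and the commutator subgroup of X and E lies in V. -/
theorem result {G : Type*} [Group G] [Finite G] (Q : Subgroup G) (hQ : Cfsg.IsLargeExtraspecial Q) (z : G) (hz : ((Subgroup.center ↥Q).map Q.subtype) = Subgroup.zpowers z) (hz2 : orderOf z = 2) (w : ℕ) (hw : 2 ≤ w) (hcard : Nat.card ↥Q = 2 ^ (2 * w + 1)) (g : G) (hgH : g ∉ Subgroup.centralizer ({z} : Set G)) (hgQ : g * z * g⁻¹ ∈ Q) (V X R E : Subgroup G) (hV : V = Subgroup.closure ({z, g * z * g⁻¹} : Set G)) (hX : X = Q ⊔ (Q).map (MulAut.conj g).toMonoidHom) (hR : R = ((Q).map (MulAut.conj g).toMonoidHom ⊓ Subgroup.centralizer ({z} : Set G)) ⊔ (Q ⊓ Subgroup.centralizer ({g * z * g⁻¹} : Set G))) (hE : E = Q ⊓ (Q).map (MulAut.conj g).toMonoidHom) : (Subgroup.center ↥R).map R.subtype = V ∧ E ≤ (Subgroup.upperCentralSeries ↥R 2).map R.subtype ∧ Subgroup.upperCentralSeries ↥R 3 = ⊤ ∧ Cfsg.IsElementaryAbelian 2 E ∧ (∀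 x ∈ R, ∀ y ∈ R, x * y * x⁻¹ * y⁻¹ ∈ E ∧ x ^ 2 ∈ E) ∧ ((Q).map (MulAut.conj g).toMonoidHom ⊓ Subgroup.centralizer ({z} : Set G)) ⊓ (Q ⊓ Subgroup.centralizer ({g * z * g⁻¹} : Set G)) = E ∧ ⁅X, E⁆ ≤ V := by
  haveI := Fact.mk Nat.prime_two
  have s := CfsgLib.Extraspecial.Setting.of_large hQ hz hz2
  have hne : g * z * g⁻¹ ≠ z := fun h => hgH (Subgroup.mem_centralizer_singleton_iff.mpr
    (mul_inv_eq_iff_eq_mul.mp h))
  have c : CfsgLib.Extraspecial.Pair Q z g :=
    ⟨s, hgQ, hne, by rw [hcard]; exact (show 16 = 2 ^ 4 by norm_num) ▸ Nat.pow_le_pow_right (by norm_num) (by omega)⟩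
  subst hV hX hR hE
  set z' := g * z * g⁻¹ with hz'
  set Q' := Q.map (MulAut.conj g).toMonoidHom with hQ'
  set P := Q ⊓ Subgroup.centralizer ({z'} : Set G) with hP
  set P' := Q' ⊓ Subgroup.centralizer ({z} : Set G) with hP'
  set R := P' ⊔ P with hR
  set E := Q ⊓ Q' with hE
  set V := Subgroup.closure ({z, z'} : Set G) with hVdef
  have hmemV : ∀ {x : G}, x ∈ V ↔ x = 1 ∨ x = z ∨ x = z' ∨ x = z * z' := fun {x} => c.mem_V
  have hRC : ∀ x ∈ R, x ∈ Subgroup.centralizer (V : Set G) := fun x hx => c.R_le_centralizer hx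
  have hEP : E ≤ P := fun x hx => ⟨hx.1, Subgroup.mem_centralizer_singleton_iff.mpr (c.s'.z_comm hx.2)⟩
  have hEP' : E ≤ P' := fun x hx => ⟨hx.2, Subgroup.mem_centralizer_singleton_iff.mpr (s.z_comm hx.1)⟩
  have hzE : z ∈ E := ⟨s.z_mem, c.mem'⟩
  have hzE' : z' ∈ E := ⟨c.mem, c.s'.z_mem⟩
  have hVE : V ≤ E := (Subgroup.closure_le E).mpr (by
    rintro x (rfl | rfl)
    · exact hzE
    · exact hzE')
  have hz'V : z' ∈ V := hmemV.mpr (Or.inr (Or.inr (Or.inl rfl)))
  have hzV : z ∈ V := hmemV.mpr (Or.inr (Or.inl rfl))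
  -- commutators
  have hcQ : ∀ a ∈ Q, ∀ b ∈ Q, a * b * a⁻¹ * b⁻¹ = 1 ∨ a * b * a⁻¹ * b⁻¹ = z := fun a ha b hb => by
    rcases s.comm_cases ha hb with h | h
    · exact Or.inl (by rw [h, mul_inv_cancel])
    · exact Or.inr (by rw [h, mul_inv_cancel_right])
  have hcQ' : ∀ a ∈ Q', ∀ b ∈ Q', a * b * a⁻¹ * b⁻¹ = 1 ∨ a * b * a⁻¹ * b⁻¹ = z' := fun a ha b hb => by
    rcases c.s'.comm_cases ha hb with h | h
    · exact Or.inl (by rw [h, mul_inv_cancel])
    · exact Or.inr (by rw [h, mul_inv_cancel_right])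
  have hV1 : ∀ x : G, (x = 1 ∨ x = z) → x ∈ V := by
    rintro x (rfl | rfl)
    exacts [one_mem _, hzV]
  have hV2 : ∀ x : G, (x = 1 ∨ x = z') → x ∈ V := by
    rintro x (rfl | rfl)
    exacts [one_mem _, hz'V]
  have hEel : Cfsg.IsElementaryAbelian 2 E := by
    refine ⟨⟨⟨fun a b => Subtype.ext ?_⟩⟩, fun a ha => ?_⟩
    · show (a : G) * b = b * a
      rcases hcQ _ a.2.1 _ b.2.1 with h | h
      · exact mul_inv_eq_iff_eq_mul.mp (mul_inv_eq_one.mp h)
      · rcases hcQ' _ a.2.2 _ b.2.2 with h' | h'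
        · exact absurd (h.symm.trans h') s.ne_one
        · exact absurd (h'.symm.trans h) hne
    · rw [pow_two]
      rcases s.sq_cases ha.1 with h | h
      · exact h
      · rcases c.s'.sq_cases ha.2 with h' | h'
        · exact absurd (h.symm.trans h') s.ne_one
        · exact absurd (h'.symm.trans h) hne
  have hPN : ∀ p ∈ P, ∀ w ∈ Q', p * w * p⁻¹ ∈ Q' := fun p hp w hw =>
    (Subgroup.mem_normalizer_iff.mp (Subgroup.mem_inf.mp (c.centralizer_V_le (c.P_le_centralizer hp))).2 w).mp hw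
  have hP'N : ∀ r ∈ P', ∀ w ∈ Q, r * w * r⁻¹ ∈ Q := fun r hr w hw =>
    (Subgroup.mem_normalizer_iff.mp (Subgroup.mem_inf.mp (c.centralizer_V_le (c.P'_le_centralizer hr))).1 w).mp hw
  have hcPP' : ∀ p ∈ P, ∀ r ∈ P', p * r * p⁻¹ * r⁻¹ ∈ E := fun p hp r hr => by
    refine ⟨?_, ?_⟩
    · have := Q.mul_mem hp.1 (hP'N r hr p⁻¹ (Q.inv_mem hp.1))
      simpa [mul_assoc] using this
    · exact Q'.mul_mem (hPN p hp r hr.1) (Q'.inv_mem hr.1)
  -- `X` normalizes and nearly centralizes `E`
  have hXE : ∀ x ∈ Q ⊔ Q', ∀ e ∈ E, x * e * x⁻¹ * e⁻¹ ∈ V := by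
    have hgen : ∀ q, q ∈ Q ∨ q ∈ Q' → ∀ e ∈ E, q * e * q⁻¹ * e⁻¹ ∈ V := by
      rintro q (hq | hq) e he
      · exact hV1 _ (hcQ q hq e he.1)
      · exact hV2 _ (hcQ' q hq e he.2)
    intro x hx
    rw [Subgroup.sup_eq_closure] at hx
    induction hx using Subgroup.closure_induction with
    | mem x hx => exact hgen x hx
    | one => intro e _; simp
    | mul x y _ _ ihx ihy =>
      intro e he
      have h1 := ihy e he
      have h2 : y * e * y⁻¹ ∈ E := by
        have := E.mul_mem (hVE h1) he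
        rwa [inv_mul_cancel_right] at this
      have h3 := mul_mem (ihx _ h2) h1
      simpa [mul_assoc] using h3
    | inv x hx ihx =>
      intro e he
      have hxN : x ∈ Subgroup.normalizer (V : Set G) :=
        c.X_le_normalizer (show x ∈ Q ⊔ Q' by rw [Subgroup.sup_eq_closure]; exact hx)
      have h0 := ihx e he
      have h1 := (Subgroup.mem_normalizer_iff.mp (inv_mem hxN) _).mp (inv_mem h0)
      rw [show x⁻¹ * (x * e * x⁻¹ * e⁻¹)⁻¹ * x⁻¹⁻¹ = x⁻¹ * e * x * e⁻¹ by group] at h1
      rwa [inv_inv]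
  have hRX : R ≤ Q ⊔ Q' := sup_le (inf_le_left.trans le_sup_right) (inf_le_left.trans le_sup_left)
  have hEn : ∀ x ∈ Q ⊔ Q', ∀ e ∈ E, x * e * x⁻¹ ∈ E := fun x hx e he => by
    have := E.mul_mem (hVE (hXE x hx e he)) he
    rwa [inv_mul_cancel_right] at this
  -- `R / E` is elementary abelian
  have hPn : ∀ r ∈ P', r ∈ Subgroup.normalizer (P : Set G) := fun r hr => by
    have hrC := c.P'_le_centralizer hr
    exact CfsgLib.Coprime.le_normalizer_inf_of_le (A := Subgroup.zpowers r)
      (Subgroup.zpowers_le.mpr (Subgroup.mem_inf.mp (c.centralizer_V_le hrC)).1)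
      (Subgroup.zpowers_le.mpr (Subgroup.le_normalizer (Subgroup.mem_centralizer_singleton_iff.mpr
        (c.mem_centralizer_V.mp hrC).2))) (Subgroup.mem_zpowers r)
  have hprod : ∀ x ∈ R, ∃ r ∈ P', ∃ p ∈ P, x = r * p := by
    intro x hx
    have h := Subgroup.coe_mul_of_left_le_normalizer_right P' P hPn
    have hx' : x ∈ (↑(P' ⊔ P) : Set G) := hx
    rw [h] at hx'
    obtain ⟨r, hr, p, hp, rfl⟩ := Set.mem_mul.mp hx'
    exact ⟨r, hr, p, hp, rfl⟩
  have hcomm : ∀ x ∈ R, ∀ y ∈ R, x * y * x⁻¹ * y⁻¹ ∈ E := by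
    have hgen : ∀ a b, (a ∈ P' ∨ a ∈ P) → (b ∈ P' ∨ b ∈ P) → a * b * a⁻¹ * b⁻¹ ∈ E := by
      rintro a b (ha | ha) (hb | hb)
      · exact hVE (hV2 _ (hcQ' a ha.1 b hb.1))
      · have := E.inv_mem (hcPP' b hb a ha)
        simpa [mul_assoc] using this
      · exact hcPP' a ha b hb
      · exact hVE (hV1 _ (hcQ a ha.1 b hb.1))
    have h1 : ∀ a ∈ R, ∀ b, (b ∈ P' ∨ b ∈ P) → a * b * a⁻¹ * b⁻¹ ∈ E := by
      intro a ha b hb
      obtain ⟨r, hr, p, hp, rfl⟩ := hprod a ha
      have hrX := hRX (Subgroup.mem_sup_left hr)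
      have := E.mul_mem (hEn r hrX _ (hgen p b (Or.inr hp) hb)) (hgen r b (Or.inl hr) hb)
      simpa [mul_assoc] using this
    intro x hx y hy
    obtain ⟨r, hr, p, hp, rfl⟩ := hprod y hy
    have hrX := hRX (Subgroup.mem_sup_left hr)
    have := E.mul_mem (h1 x hx r (Or.inl hr)) (hEn r hrX _ (h1 x hx p (Or.inr hp)))
    simpa [mul_assoc] using this
  have hsq : ∀ x ∈ R, x ^ 2 ∈ E := by
    intro x hx
    obtain ⟨r, hr, p, hp, rfl⟩ := hprod x hx
    have h1 : r * r ∈ E := by
      rcases c.s'.sq_cases hr.1 with h | h <;> rw [h]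
      exacts [one_mem _, hzE']
    have h2 : p * p ∈ E := by
      rcases s.sq_cases hp.1 with h | h <;> rw [h]
      exacts [one_mem _, hzE]
    have := E.mul_mem (hEn r (hRX (Subgroup.mem_sup_left hr)) _ (hcPP' p hp r hr)) (E.mul_mem h1 h2)
    rw [pow_two]
    simpa [mul_assoc] using this
  -- the centre of `R`
  have hZR : (Subgroup.center ↥R).map R.subtype = V := by
    refine le_antisymm ?_ ?_
    · rintro _ ⟨⟨x, hx⟩, hxc, rfl⟩
      have hxR : ∀ y ∈ R, y * x = x * y := fun y hy =>
        congrArg Subtype.val (Subgroup.mem_center_iff.mp hxc ⟨y, hy⟩)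
      have hxC := hRC x hx
      have hxN := (Subgroup.mem_inf.mp (c.centralizer_V_le hxC)).1
      obtain ⟨u, hu, hu1, hu2, -⟩ := c.exists_swap
      have hxP : ∀ q ∈ P, x * q * x⁻¹ = q := fun q hq => by
        rw [← hxR q (Subgroup.mem_sup_right hq), mul_inv_cancel_right]
      set v := u⁻¹ * (x * u * x⁻¹) with hv
      have hvQ : v ∈ Q := Q.mul_mem (Q.inv_mem hu) ((Subgroup.mem_normalizer_iff.mp hxN u).mp hu)
      have hvP : ∀ q ∈ P, v * q * v⁻¹ = q := by
        intro q hq
        have h1 : u⁻¹ * q * u ∈ P := by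
          have := c.P_conj (Q.inv_mem hu) hq
          rwa [inv_inv] at this
        have hq' : x⁻¹ * q * x = q := by
          rw [mul_assoc, hxR q (Subgroup.mem_sup_right hq), inv_mul_cancel_left]
        have h2 : x * u * x⁻¹ * q * (x * u * x⁻¹)⁻¹ = u * q * u⁻¹ := by
          calc x * u * x⁻¹ * q * (x * u * x⁻¹)⁻¹ = x * (u * (x⁻¹ * q * x) * u⁻¹) * x⁻¹ := by group
            _ = x * (u * q * u⁻¹) * x⁻¹ := by rw [hq']
            _ = _ := hxP _ (c.P_conj hu hq)
        calc v * q * v⁻¹ = u⁻¹ * (x * u * x⁻¹ * q * (x * u * x⁻¹)⁻¹) * u := by rw [hv]; group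
          _ = _ := by rw [h2]; group
      have hmod : ∀ w ∈ Q, (∀ q ∈ P, w * q * w⁻¹ = q) → w = 1 ∨ w = z ∨ w = z' ∨ w = z * z' := by
        intro w hw hwq
        obtain ⟨e, he, hew⟩ : ∃ e, (e = 1 ∨ e = z') ∧ u * (w * e) * u⁻¹ = w * e := by
          rcases s.comm_cases hu hw with h | h
          · exact ⟨1, Or.inl rfl, by rw [mul_one]; exact h⟩
          · refine ⟨z', Or.inr rfl, ?_⟩
            calc u * (w * z') * u⁻¹ = (u * w * u⁻¹) * (u * z' * u⁻¹) := by group
              _ = z * w * (z * z') := by rw [h, hu2]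
              _ = _ := by rw [← mul_assoc, mul_assoc z w z, s.z_comm hw, ← mul_assoc z, s.zz, one_mul]
        have heQ : e ∈ Q ∧ ∀ q ∈ P, e * q * e⁻¹ = q := by
          rcases he with rfl | rfl
          · exact ⟨one_mem _, fun q _ => by simp⟩
          · refine ⟨c.mem, fun q hq => ?_⟩
            rw [← Subgroup.mem_centralizer_singleton_iff.mp hq.2, mul_inv_cancel_right]
        have hall : ∀ q ∈ Q, q * (w * e) = w * e * q := by
          intro q hq
          have hP0 : ∀ p ∈ P, p * (w * e) = w * e * p := fun p hp => by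
            rw [← mul_assoc, ← (mul_inv_eq_iff_eq_mul.mp (hwq p hp)), mul_assoc w p e,
              ← (mul_inv_eq_iff_eq_mul.mp (heQ.2 p hp)), mul_assoc]
          rcases c.Q_split hu hu2 hq with h | h
          · exact hP0 q h
          · have h1 := hP0 _ h
            calc q * (w * e) = u * (u⁻¹ * q * (w * e)) := by group
              _ = u * (w * e * (u⁻¹ * q)) := by rw [h1]
              _ = (u * (w * e) * u⁻¹) * q := by group
              _ = _ := by rw [hew]
        rcases s.eq_of_forall (Q.mul_mem hw heQ.1) hall with h | h <;> rcases he with rfl | rfl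
        · exact Or.inl (by rwa [mul_one] at h)
        · exact Or.inr (Or.inr (Or.inl (by rw [eq_inv_of_mul_eq_one_left h, c.s'.inv_z])))
        · exact Or.inr (Or.inl (by rwa [mul_one] at h))
        · exact Or.inr (Or.inr (Or.inr (by rw [← h, mul_assoc, c.s'.zz, mul_one])))
      have hvV : v ∈ V := hmemV.mpr (hmod v hvQ hvP)
      have hvC : x * v * x⁻¹ = v := by
        rw [← Subgroup.mem_centralizer_iff.mp hxC v hvV, mul_inv_cancel_right]
      -- `v` is `1` or `z`
      have hv1 : v = 1 ∨ v = z := by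
        have hxu : x * u * x⁻¹ = u * v := by rw [hv, mul_inv_cancel_left]
        have h1 : u * v * (u * v) = u * u := by
          rw [← hxu]
          calc x * u * x⁻¹ * (x * u * x⁻¹) = x * (u * u) * x⁻¹ := by group
            _ = u * u := by
                rcases s.sq_cases hu with h | h <;> rw [h]
                · group
                · rw [(c.mem_centralizer_V.mp hxC).1, mul_inv_cancel_right]
        have h2 : v * u * v = u := by
          calc v * u * v = u⁻¹ * (u * v * (u * v)) := by group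
            _ = _ := by rw [h1]; group
        rcases hmemV.mp hvV with h | h | h | h
        · exact Or.inl h
        · exact Or.inr h
        · exfalso
          rw [h] at h2
          have h3 : u * z' * u⁻¹ = z' := by
            have h4 : u * z' = z' * u := by
              calc u * z' = z' * u * z' * z' := by rw [h2]
                _ = z' * u := by rw [mul_assoc, c.s'.zz, mul_one]
            rw [h4, mul_inv_cancel_right]
          exact c.mul_ne_right (hu2.symm.trans h3)
        · exfalso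
          rw [h] at h2
          have hw2 : z * z' * (z * z') = 1 := by
            rw [mul_assoc, ← mul_assoc z' z, ← c.comm, mul_assoc z z', c.s'.zz, mul_one, s.zz]
          have h3 : u * (z * z') * u⁻¹ = z * z' := by
            have h4 : u * (z * z') = (z * z') * u := by
              calc u * (z * z') = z * z' * u * (z * z') * (z * z') := by rw [h2]
                _ = z * z' * u := by rw [mul_assoc, hw2, mul_one]
            rw [h4, mul_inv_cancel_right]
          obtain ⟨-, -, -, hu3⟩ := (show u ∈ Q ∧ u * z * u⁻¹ = z ∧ u * z' * u⁻¹ = z * z' ∧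
            u * (z * z') * u⁻¹ = z' from ⟨hu, hu1, hu2, by
              calc u * (z * z') * u⁻¹ = (u * z * u⁻¹) * (u * z' * u⁻¹) := by group
                _ = _ := by rw [hu1, hu2, ← mul_assoc, s.zz, one_mul]⟩)
          exact c.mul_ne_right (h3.symm.trans hu3)
      obtain ⟨e, he, hxe⟩ : ∃ e, (e = 1 ∨ e = z') ∧ (e * x) * u * (e * x)⁻¹ = u := by
        have hxu : x * u * x⁻¹ = u * v := by rw [hv, mul_inv_cancel_left]
        rcases hv1 with h | h
        · refine ⟨1, Or.inl rfl, ?_⟩
          rw [one_mul, hxu, h, mul_one]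
        · refine ⟨z', Or.inr rfl, ?_⟩
          have h1 : z' * u * z'⁻¹ = z * u := by
            rcases s.comm_cases c.mem hu with h1 | h1
            · exfalso
              refine c.mul_ne_right (hu2.symm.trans ?_)
              rw [← mul_inv_eq_iff_eq_mul.mp h1, mul_inv_cancel_right]
            · exact h1
          calc z' * x * u * (z' * x)⁻¹ = z' * (x * u * x⁻¹) * z'⁻¹ := by group
            _ = (z' * u * z'⁻¹) * (z' * z * z'⁻¹) := by rw [hxu, h]; group
            _ = _ := by
                rw [h1, ← c.comm, mul_inv_cancel_right, mul_assoc, s.z_comm hu, ← mul_assoc, s.zz, one_mul]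
      have heV : e ∈ V := hV2 e he
      have heP : ∀ q ∈ P, e * x * q * (e * x)⁻¹ = q := fun q hq => by
        calc e * x * q * (e * x)⁻¹ = e * (x * q * x⁻¹) * e⁻¹ := by group
          _ = e * q * e⁻¹ := by rw [hxP q hq]
          _ = _ := by rw [Subgroup.mem_centralizer_iff.mp (c.P_le_centralizer hq) e heV, mul_inv_cancel_right]
      have hexC : e * x ∈ Subgroup.centralizer (Q : Set G) := Subgroup.mem_centralizer_iff.mpr fun q hq => by
        symm
        rw [← mul_inv_eq_iff_eq_mul]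
        rcases c.Q_split hu hu2 hq with h | h
        · exact heP q h
        · calc e * x * q * (e * x)⁻¹ = (e * x * u * (e * x)⁻¹) * (e * x * (u⁻¹ * q) * (e * x)⁻¹) := by group
            _ = _ := by rw [hxe, heP _ h]; group
      rw [s.cQ] at hexC
      show x ∈ V
      have := mul_mem (inv_mem heV) (hV1 _ (s.mem_zpowers hexC))
      rwa [inv_mul_cancel_left] at this
    · intro x hx
      refine ⟨⟨x, Subgroup.mem_sup_right (hEP (hVE hx))⟩, Subgroup.mem_center_iff.mpr fun y => Subtype.ext ?_, rfl⟩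
      exact (Subgroup.mem_centralizer_iff.mp (hRC y y.2) x hx).symm
  have hcenter : ∀ v : ↥R, (v : G) ∈ V → v ∈ Subgroup.center ↥R := fun v hv => by
    rw [← hZR] at hv
    obtain ⟨w, hw, hwv⟩ := hv
    rwa [← show w = v from Subtype.ext hwv]
  have hZ2 : ∀ e : ↥R, (e : G) ∈ E → e ∈ Subgroup.upperCentralSeries ↥R 2 := by
    intro e he
    rw [show (2 : ℕ) = 1 + 1 from rfl, Subgroup.mem_upperCentralSeries_succ_iff, Subgroup.upperCentralSeries_one]
    intro y
    refine hcenter _ ?_
    show (e : G) * y * (e : G)⁻¹ * (y : G)⁻¹ ∈ V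
    have := inv_mem (hXE y (hRX y.2) e he)
    simpa [mul_assoc] using this
  have hinf : P' ⊓ P = E := le_antisymm (fun x hx => ⟨hx.2.1, hx.1.1⟩) (le_inf hEP' hEP)
  refine ⟨hZR, fun e he => ⟨⟨e, Subgroup.mem_sup_right (hEP he)⟩, hZ2 _ he, rfl⟩, ?_, hEel,
    fun x hx y hy => ⟨hcomm x hx y hy, hsq x hx⟩, hinf, ?_⟩
  · rw [eq_top_iff]
    intro x _
    rw [show (3 : ℕ) = 2 + 1 from rfl, Subgroup.mem_upperCentralSeries_succ_iff]
    exact fun y => hZ2 _ (hcomm x x.2 y y.2)
  · rw [Subgroup.commutator_le]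
    intro x hx e he
    exact hXE x hx e he

end Cfsg.Agent.S5431
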