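import Cfsg.Statements.S5432
import Cfsg.Agent.Lib.Extraspecial.OuterAut
-- import your own Cfsg.Agent.* helpers here

set_option autoImplicit false
open Cfsg

namespace Cfsg.Agent.S5432

/-- Let E be an extraspecial 2-group of order 2^(2n+1), n ≥ 1. If E contains an elementary abelian subgroup of order 2^(n+1) (plus type), then its outer automorphism group is isomorphic to the full isometry group of the hyperbolic quadratic form in dimension 2n over the field with two elements; otherwise (minus type) it is isomorphic to the full isometry group of the elliptic quadratic form in dimension 2n over that field. -/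
theorem result {E : Type*} [Group E] [Finite E] (hE : Cfsg.IsExtraspecial 2 E) (n : ℕ) (hn : 1 ≤ n) (hcard : Nat.card E = 2 ^ (2 * n + 1)) : ((∃ A : Subgroup E, Cfsg.IsElementaryAbelian 2 A ∧ Nat.card ↥A = 2 ^ (n + 1)) → Nonempty (Cfsg.Out E ≃* Cfsg.isometryGroup (ZMod 2) (Cfsg.quadFormPlus n (ZMod 2)))) ∧ ((¬ ∃ A : Subgroup E, Cfsg.IsElementaryAbelian 2 A ∧ Nat.card ↥A = 2 ^ (n + 1)) → Nonempty (Cfsg.Out E ≃* Cfsg.isometryGroup (ZMod 2) (Cfsg.quadFormMinus (n - 1) (ZMod 2) 1 1))) := by
  classical
  constructor
  · intro h
    obtain ⟨ψ⟩ := CfsgLib.Extraspecial.equiv_model (0 : Fin n → ZMod 2) hE hn hcard true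
      (iff_of_true rfl h) (by rw [CfsgLib.Extraspecial.prod_zero, if_pos rfl])
    let L : CfsgLib.Extraspecial.Coord n ≃ₗ[ZMod 2] (Fin n ⊕ Fin n → ZMod 2) :=
      { toFun := fun v => Sum.elim (fun i => (v i).1) (fun i => (v i).2)
        invFun := fun u i => (u (.inl i), u (.inr i))
        map_add' := fun v w => by funext i; rcases i with i | i <;> rfl
        map_smul' := fun c v => by funext i; rcases i with i | i <;> rfl
        left_inv := fun v => rfl
        right_inv := fun u => by funext i; rcases i with i | i <;> rfl }
    exact ⟨(CfsgLib.Extraspecial.outCongr ψ).trans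
      (CfsgLib.Extraspecial.Model.outEquiv.trans
        (CfsgLib.Extraspecial.isoGrpEquiv _ _ L fun v => by
          show ∑ i, (v i).1 * (v i).2 = _
          simp [CfsgLib.Extraspecial.sqForm, CfsgLib.Extraspecial.cocycle,
            CfsgLib.Extraspecial.planeForm]))⟩
  · intro h
    obtain ⟨m, rfl⟩ : ∃ m, n = m + 1 := ⟨n - 1, by omega⟩
    obtain ⟨ψ⟩ := CfsgLib.Extraspecial.equiv_model
      (Pi.single (Fin.last m) 1 : Fin (m + 1) → ZMod 2) hE hn hcard false
      (iff_of_false Bool.false_ne_true h) (by rw [CfsgLib.Extraspecial.prod_last]; simp)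
    let L : CfsgLib.Extraspecial.Coord (m + 1) ≃ₗ[ZMod 2] ((Fin m ⊕ Fin m) ⊕ Fin 2 → ZMod 2) :=
      { toFun := fun v => Sum.elim
          (Sum.elim (fun i => (v i.castSucc).1) (fun i => (v i.castSucc).2))
          ![(v (Fin.last m)).1, (v (Fin.last m)).2]
        invFun := fun u => Fin.lastCases (u (.inr 0), u (.inr 1))
          (fun i => (u (.inl (.inl i)), u (.inl (.inr i))))
        map_add' := fun v w => by
          funext i; rcases i with (i | i) | i
          · rfl
          · rfl
          · fin_cases i <;> rfl
        map_smul' := fun c v => by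
          funext i; rcases i with (i | i) | i
          · rfl
          · rfl
          · fin_cases i <;> rfl
        left_inv := fun v => by
          funext i
          induction i using Fin.lastCases with
          | last => simp
          | cast i => simp
        right_inv := fun u => by
          funext i; rcases i with (i | i) | i
          · simp
          · simp
          · fin_cases i <;> simp }
    exact ⟨(CfsgLib.Extraspecial.outCongr ψ).trans
      (CfsgLib.Extraspecial.Model.outEquiv.trans
        (CfsgLib.Extraspecial.isoGrpEquiv _ _ L fun v => by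
          simp only [L, Nat.add_sub_cancel, quadFormMinus, CfsgLib.Extraspecial.sqForm,
            CfsgLib.Extraspecial.cocycle, CfsgLib.Extraspecial.planeForm, Fin.sum_univ_castSucc]
          simp [Pi.single_eq_of_ne, (Fin.castSucc_lt_last _).ne]
          have hsq : ∀ a : ZMod 2, a * a = a := by decide
          simp only [hsq]
          ring))⟩

end Cfsg.Agent.S5432
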