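import Cfsg.Statements.S5436
import Cfsg.Agent.Lib.Extraspecial.FStarSetting

set_option autoImplicit false
set_option linter.style.haveILetI false
open Cfsg

namespace Cfsg.Agent.S5436

/-- Let z be an involution of the finite group G with centralizer H whose generalized Fitting subgroup Q is extraspecial of width at least 2 (order 2^(2w+1), w ≥ 2); suppose some conjugate of z other than z lies in Q, H/Q is a non-abelian simple group, H acts irreducibly by conjugation on Q modulo the subgroup generated by z (the only H-invariant subgroups of Q containing z are that subgroup and Q), and Q is not the subgroup generated by the conjugates of z lying in H. Then G is simple. -/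
theorem result {G : Type*} [Group G] [Finite G] (z : G) (hz : orderOf z = 2) (Q : Subgroup (Subgroup.centralizer ({z} : Set G))) [Q.Normal] (hF : Cfsg.generalizedFittingSubgroup ↥(Subgroup.centralizer ({z} : Set G)) = Q) (hQ : Cfsg.IsExtraspecial 2 ↥Q) (w : ℕ) (hw : 2 ≤ w) (hcard : Nat.card ↥Q = 2 ^ (2 * w + 1)) (hnwc : ∃ g : G, (∃ hq : g * z * g⁻¹ ∈ Subgroup.centralizer ({z} : Set G), (⟨g * z * g⁻¹, hq⟩ : Subgroup.centralizer ({z} : Set G)) ∈ Q) ∧ g * z * g⁻¹ ≠ z) (hsimp : IsSimpleGroup (↥(Subgroup.centralizer ({z} : Set G)) ⧸ Q)) (hna : ¬ IsMulCommutative (↥(Subgroup.centralizer ({z} : Set G)) ⧸ Q)) (hirr : ∀ W : Subgroup (Subgroup.centralizer ({z} : Set G)), W.Normal → W ≤ Q → (W = Q ∨ ∀ x ∈ W, (x : G) ∈ Subgroup.zpowers z)) (hwcl : Subgroup.closure {x : Subgroup.centralizer ({z} : Set G) | IsConj z (x : G)} ≠ Q) : IsSimpleGroup G := by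
  classical
  let Q' : Subgroup G := Q.map (Subgroup.centralizer ({z} : Set G)).subtype
  have s : CfsgLib.Extraspecial.Setting Q' z := CfsgLib.Extraspecial.Setting.of_fStar hz Q' (by rw [hF])
    (haveI := Fact.mk Nat.prime_two
     CfsgLib.Extraspecial.isExtraspecial_congr (Q.equivMapOfInjective _ (Subgroup.subtype_injective (Subgroup.centralizer ({z} : Set G)))) hQ)
  obtain ⟨g, ⟨hg, hgQ⟩, hgne⟩ := hnwc
  have hcard' : Nat.card Q' = 2 ^ (2 * w + 1) :=
    (Subgroup.card_map_of_injective (Subgroup.subtype_injective (Subgroup.centralizer ({z} : Set G)))).trans hcard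
  have c : CfsgLib.Extraspecial.Pair Q' z g := ⟨s, ⟨_, hgQ, rfl⟩, hgne, by
    rw [hcard']
    calc 16 = 2 ^ 4 := by norm_num
      _ ≤ _ := Nat.pow_le_pow_right (by norm_num) (by omega)⟩
  haveI : Nontrivial G := ⟨⟨z, 1, s.ne_one⟩⟩
  refine ⟨fun N hN => or_iff_not_imp_left.mpr fun hN1 => ?_⟩
  have hzN : z ∈ N := s.z_mem_normal c.odd_eq_bot N hN1
  set S := {x : ↥(Subgroup.centralizer ({z} : Set G)) | IsConj z (x : G)} with hS
  set W := Subgroup.closure S with hW
  haveI hWn : W.Normal := ⟨fun x hx n => by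
    induction hx using Subgroup.closure_induction with
    | mem x hx => exact Subgroup.subset_closure (IsConj.trans hx (isConj_iff.mpr ⟨(n : G), rfl⟩))
    | one => rw [mul_one, mul_inv_cancel]; exact one_mem _
    | mul x y _ _ hx hy =>
      rw [show n * (x * y) * n⁻¹ = n * x * n⁻¹ * (n * y * n⁻¹) by group]
      exact mul_mem hx hy
    | inv x _ hx => rw [← conj_inv]; exact inv_mem hx⟩
  have hWN : W ≤ N.comap (Subgroup.centralizer ({z} : Set G)).subtype := (Subgroup.closure_le _).mpr fun x hx => by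
    obtain ⟨b, hb⟩ := isConj_iff.mp hx
    refine Subgroup.mem_comap.mpr ?_
    show (x : G) ∈ N
    rw [← hb]
    exact hN.conj_mem z hzN b
  have hQW : Q ≤ W := by
    rcases hirr (W ⊓ Q) inferInstance inf_le_right with h | h
    · exact inf_eq_right.mp h
    · exfalso
      rcases s.mem_zpowers (h ⟨g * z * g⁻¹, hg⟩
        ⟨Subgroup.subset_closure (isConj_iff.mpr ⟨g, rfl⟩), hgQ⟩) with e | e
      · exact s.ne_one (conj_eq_one_iff.mp e)
      · exact hgne e
  have hWtop : W = ⊤ := by
    haveI := hsimp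
    haveI : (W.map (QuotientGroup.mk' Q)).Normal := hWn.map _ (QuotientGroup.mk'_surjective Q)
    rcases IsSimpleGroup.eq_bot_or_eq_top_of_normal (W.map (QuotientGroup.mk' Q)) inferInstance with h | h
    · rw [Subgroup.map_eq_bot_iff, QuotientGroup.ker_mk'] at h
      exact absurd (le_antisymm h hQW) hwcl
    · have h1 := congrArg (Subgroup.comap (QuotientGroup.mk' Q)) h
      rwa [Subgroup.comap_map_eq, QuotientGroup.ker_mk', sup_eq_left.mpr hQW, Subgroup.comap_top] at h1
  refine s.eq_top_of_centralizer_le N fun x hx => ?_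
  have h := hWN (hWtop.ge (Subgroup.mem_top (⟨x, hx⟩ : ↥(Subgroup.centralizer ({z} : Set G)))))
  exact h

end Cfsg.Agent.S5436
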