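import Cfsg.Statements.S5437
import Mathlib

set_option autoImplicit false
set_option linter.style.haveILetI false
open Cfsg

namespace Cfsg.Agent.S5437

/-- Let I be a set of involutions of the finite group G closed under conjugation, and H a subgroup of G. The following are equivalent: (1) for every member x of I lying in H, the conjugates of x lying in H form a single H-class and the centralizer of x lies in H; (2) for every g outside H, no member of I lies in both H and g H g⁻¹; (3) every member of I lying in H fixes exactly one coset in the action of G on the cosets of H. -/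
theorem result {G : Type*} [Group G] [Finite G] (I : Set G) (hI : ∀ x ∈ I, orderOf x = 2) (hIc : ∀ g : G, ∀ x ∈ I, g * x * g⁻¹ ∈ I) (H : Subgroup G) : ((∀ x ∈ I, x ∈ H → (∀ g : G, g * x * g⁻¹ ∈ H → ∃ h ∈ H, h * x * h⁻¹ = g * x * g⁻¹) ∧ Subgroup.centralizer ({x} : Set G) ≤ H) ↔ (∀ g : G, g ∉ H → ∀ x ∈ I, ¬ (x ∈ H ∧ x ∈ (H : Subgroup G).map (MulAut.conj g).toMonoidHom))) ∧ ((∀ g : G, g ∉ H → ∀ x ∈ I, ¬ (x ∈ H ∧ x ∈ (H : Subgroup G).map (MulAut.conj g).toMonoidHom)) ↔ ∀ x ∈ I, x ∈ H → ∃! c : G ⧸ H, x • c = c) := by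
  classical
  have hmap : ∀ (g x : G), x ∈ (H : Subgroup G).map (MulAut.conj g).toMonoidHom ↔ g⁻¹ * x * g ∈ H := by
    intro g x
    constructor
    · rintro ⟨y, hy, rfl⟩
      show g⁻¹ * (g * y * g⁻¹) * g ∈ H
      rwa [show g⁻¹ * (g * y * g⁻¹) * g = y by group]
    · intro h
      exact ⟨_, h, show g * (g⁻¹ * x * g) * g⁻¹ = x by group⟩
  refine ⟨⟨fun h g hg x hx hxx => hg ?_, fun h x hx hxH => ⟨fun g hgx => ?_, fun g hg => ?_⟩⟩, ?_⟩
  · obtain ⟨hxH, hxg⟩ := hxx
    rw [hmap] at hxg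
    obtain ⟨h1, hC⟩ := h x hx hxH
    obtain ⟨k, hk, hkx⟩ := h1 g⁻¹ (by rwa [inv_inv])
    rw [inv_inv] at hkx
    have hm : g * k ∈ H := hC (Subgroup.mem_centralizer_singleton_iff.mpr (by
      calc g * k * x = g * (k * x * k⁻¹) * k := by group
        _ = g * (g⁻¹ * x * g) * k := by rw [hkx]
        _ = x * (g * k) := by group))
    have := H.mul_mem hm (H.inv_mem hk)
    rwa [mul_inv_cancel_right] at this
  · refine ⟨g, ?_, rfl⟩
    by_contra hg
    exact h g⁻¹ (fun e => hg (inv_inv g ▸ H.inv_mem e)) x hx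
      ⟨hxH, (hmap _ _).mpr (by rwa [inv_inv])⟩
  · by_contra hgH
    refine h g hgH x hx ⟨hxH, (hmap _ _).mpr ?_⟩
    rw [show g⁻¹ * x * g = x by
      rw [mul_assoc, ← Subgroup.mem_centralizer_singleton_iff.mp hg, inv_mul_cancel_left]]
    exact hxH
  · have hfix : ∀ (x g : G), x • (g : G ⧸ H) = (g : G ⧸ H) ↔ g⁻¹ * x * g ∈ H := fun x g => by
      rw [MulAction.Quotient.smul_coe, eq_comm, QuotientGroup.eq, smul_eq_mul, mul_assoc]
    constructor
    · intro h x hx hxH
      refine ⟨((1 : G) : G ⧸ H), (hfix x 1).mpr (by simpa using hxH), fun c hc => ?_⟩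
      obtain ⟨g, rfl⟩ := QuotientGroup.mk_surjective c
      rw [QuotientGroup.eq]
      by_contra hg
      exact h g (fun e => hg (by simpa using H.inv_mem e)) x hx
        ⟨hxH, (hmap _ _).mpr ((hfix x g).mp hc)⟩
    · intro h g hg x hx hxx
      obtain ⟨hxH, hxg⟩ := hxx
      have h1 := (h x hx hxH).unique ((hfix x 1).mpr (by simpa using hxH))
        ((hfix x g).mpr ((hmap _ _).mp hxg))
      exact hg (by simpa using QuotientGroup.eq.mp h1)

end Cfsg.Agent.S5437
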