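import Cfsg.Statements.S5438
import Mathlib

set_option autoImplicit false
set_option linter.style.haveILetI false
open Cfsg

namespace Cfsg.Agent.S5438

/-- Let z be a 2-central involution of the finite group G (an involution central in some Sylow 2-subgroup) and H a subgroup containing z such that the coset H is the only coset of H fixed by z (in the action of G on the cosets of H). Then H has odd index in G, and for every 2-element x of H the conjugates of x lying in H form a single H-class. -/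
theorem result {G : Type*} [Group G] [Finite G] (z : G) (hz : Cfsg.IsTwoCentralInvolution z) (H : Subgroup G) (hzH : z ∈ H) (hfix : ∀ g : G, g⁻¹ * z * g ∈ H → g ∈ H) : Odd H.index ∧ ∀ x ∈ H, (∃ k : ℕ, orderOf x = 2 ^ k) → ∀ g : G, g * x * g⁻¹ ∈ H → ∃ h ∈ H, h * x * h⁻¹ = g * x * g⁻¹ := by
  obtain ⟨hz2, P, hzP, hPc⟩ := hz
  have hC : ∀ g : G, g * z = z * g → g ∈ H := fun g hg => hfix g (by
    rw [mul_assoc, ← hg, inv_mul_cancel_left]; exact hzH)
  have hPH : (P : Subgroup G) ≤ H := fun x hx => hC x (hPc x hx)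
  refine ⟨?_, ?_⟩
  · rw [← Nat.not_even_iff_odd, even_iff_two_dvd]
    exact fun h => P.not_dvd_index (h.trans (Subgroup.index_dvd_of_le hPH))
  intro x hx hx2 g hg
  obtain ⟨k, hk⟩ := hx2
  have two : ∀ u : G, u ∈ H → orderOf u = 2 ^ k → ∃ h ∈ H, h * u * h⁻¹ ∈ (P : Subgroup G) := by
    intro u hu hu2
    let PH : Sylow 2 H := P.subtype hPH
    obtain ⟨S, hS⟩ := (IsPGroup.of_card (p := 2) (n := k) (G := Subgroup.zpowers (⟨u, hu⟩ : H))
      (by rw [Nat.card_zpowers, Subgroup.orderOf_mk, hu2])).exists_le_sylow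
    obtain ⟨h, hh⟩ := MulAction.exists_smul_eq H S PH
    refine ⟨h, h.2, ?_⟩
    have h1 : h * (⟨u, hu⟩ : H) * h⁻¹ ∈ ((h • S : Sylow 2 H) : Subgroup H) :=
      Subgroup.smul_mem_pointwise_smul _ (MulAut.conj h) _ (hS (Subgroup.mem_zpowers _))
    rw [hh] at h1
    exact h1
  obtain ⟨h1, h1H, hx'⟩ := two x hx hk
  obtain ⟨h2, h2H, hy'⟩ := two _ hg (by rw [← MulAut.conj_apply, MulEquiv.orderOf_eq, hk])
  set x' := h1 * x * h1⁻¹
  set q := h2 * g * h1⁻¹ with hq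
  have hqx : q * x' * q⁻¹ = h2 * (g * x * g⁻¹) * h2⁻¹ := by rw [hq]; simp only [x']; group
  set C := Subgroup.centralizer ({x'} : Set G)
  have hzC : z ∈ C := Subgroup.mem_centralizer_singleton_iff.mpr (hPc _ hx').symm
  have hzC' : q⁻¹ * z * q ∈ C := by
    rw [Subgroup.mem_centralizer_singleton_iff]
    have e := hPc _ hy'
    rw [← hqx] at e
    calc q⁻¹ * z * q * x' = q⁻¹ * (z * (q * x' * q⁻¹)) * q := by group
      _ = q⁻¹ * ((q * x' * q⁻¹) * z) * q := by rw [e]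
      _ = x' * (q⁻¹ * z * q) := by group
  obtain ⟨S, hS⟩ := (IsPGroup.of_card (p := 2) (n := 1) (G := Subgroup.zpowers (⟨z, hzC⟩ : C))
    (by rw [Nat.card_zpowers, Subgroup.orderOf_mk, hz2]; norm_num)).exists_le_sylow
  have hzS : (⟨z, hzC⟩ : C) ∈ (S : Subgroup C) := hS (Subgroup.mem_zpowers _)
  have hSH : ∀ s ∈ (S : Subgroup C), (s : G) ∈ H := by
    haveI : Group.IsNilpotent (S : Subgroup C) := S.2.isNilpotent
    set K := (H.comap C.subtype).subgroupOf (S : Subgroup C) with hK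
    have htop : K = ⊤ := by
      by_contra hne
      obtain ⟨n, hn, hnK⟩ := SetLike.exists_of_lt
        (normalizerCondition_of_isNilpotent (G := (S : Subgroup C)) K (lt_top_iff_ne_top.mpr hne))
      refine hnK (show ((n : C) : G) ∈ H from hfix _ ?_)
      have hm := (Subgroup.mem_normalizer_iff''.mp hn ⟨⟨z, hzC⟩, hzS⟩).mp (show z ∈ H from hzH)
      exact hm
    intro s hs
    exact (htop ▸ Subgroup.mem_top (⟨s, hs⟩ : (S : Subgroup C)) : _ ∈ K)
  obtain ⟨S', hS'⟩ := (IsPGroup.of_card (p := 2) (n := 1)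
    (G := Subgroup.zpowers (⟨q⁻¹ * z * q, hzC'⟩ : C)) (by
      rw [Nat.card_zpowers, Subgroup.orderOf_mk,
        show q⁻¹ * z * q = MulAut.conj q⁻¹ z by rw [MulAut.conj_apply, inv_inv],
        MulEquiv.orderOf_eq, hz2]; norm_num)).exists_le_sylow
  obtain ⟨c, hc⟩ := MulAction.exists_smul_eq C S' S
  have hm : c * (⟨q⁻¹ * z * q, hzC'⟩ : C) * c⁻¹ ∈ ((c • S' : Sylow 2 C) : Subgroup C) :=
    Subgroup.smul_mem_pointwise_smul _ (MulAut.conj c) _ (hS' (Subgroup.mem_zpowers _))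
  rw [hc] at hm
  have hm' : (c : G) * (q⁻¹ * z * q) * (c : G)⁻¹ ∈ H := hSH _ hm
  have hqc : q * (c : G)⁻¹ ∈ H := hfix _ (by
    rwa [show (q * (c : G)⁻¹)⁻¹ * z * (q * (c : G)⁻¹) = (c : G) * (q⁻¹ * z * q) * (c : G)⁻¹ by group])
  refine ⟨h2⁻¹ * (q * (c : G)⁻¹) * h1, H.mul_mem (H.mul_mem (H.inv_mem h2H) hqc) h1H, ?_⟩
  have hcx : (c : G) * x' = x' * c := Subgroup.mem_centralizer_singleton_iff.mp c.2
  calc h2⁻¹ * (q * (c : G)⁻¹) * h1 * x * (h2⁻¹ * (q * (c : G)⁻¹) * h1)⁻¹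
      = h2⁻¹ * (q * ((c : G)⁻¹ * (x' * c)) * q⁻¹) * h2 := by simp only [x']; group
    _ = h2⁻¹ * (q * x' * q⁻¹) * h2 := by rw [← hcx, inv_mul_cancel_left]
    _ = g * x * g⁻¹ := by rw [hqx]; group

end Cfsg.Agent.S5438
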