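import Cfsg.Statements.S5439
import Mathlib

set_option autoImplicit false
set_option linter.style.haveILetI false
open Cfsg

namespace Cfsg.Agent.S5439

/-- In the dihedral group of two involutions with product of order `2 m`, `a (a b) ^ m` is
conjugate to `a` or to `b`. -/
theorem isConj_or_of_invol {G : Type*} [Group G] {a b : G} (ha : a * a = 1) (hb : b * b = 1) :
    ∀ m : ℕ, IsConj a (a * (a * b) ^ m) ∨ IsConj b (a * (a * b) ^ m) := by
  have hai : a⁻¹ = a := inv_eq_of_mul_eq_one_right ha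
  have hbi : b⁻¹ = b := inv_eq_of_mul_eq_one_right hb
  intro m
  induction m using Nat.twoStepInduction with
  | zero => left; rw [pow_zero, mul_one]
  | one =>
    right
    rw [pow_one, ← mul_assoc, ha, one_mul]
  | more m ih _ =>
    have e : a * (a * b) ^ (m + 2) = (a * b)⁻¹ * (a * (a * b) ^ m) * (a * b) := by
      rw [pow_succ, pow_succ', mul_inv_rev, hai, hbi]
      simp only [← mul_assoc]
      rw [ha, one_mul, mul_assoc b a a, ha, mul_one]
    have hc : IsConj (a * (a * b) ^ m) (a * (a * b) ^ (m + 2)) :=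
      isConj_iff.mpr ⟨(a * b)⁻¹, by rw [inv_inv, e]⟩
    exact ih.imp (fun h => h.trans hc) (fun h => h.trans hc)

/-- Let I and J be two different conjugacy classes of involutions of the finite group G and H a subgroup such that every member of I ∪ J fixes exactly one coset in the action on the cosets of H, and such that for every a in I ∩ H and every b in (I ∪ J) ∩ H different from a and commuting with it, the centralizer of a b lies in H. Then H = G. -/
theorem result {G : Type*} [Group G] [Finite G] (I J : Set G) (a₀ b₀ : G) (ha₀ : orderOf a₀ = 2) (hb₀ : orderOf b₀ = 2) (hI : I = {x | IsConj a₀ x}) (hJ : J = {x | IsConj b₀ x}) (hIJ : I ≠ J) (H : Subgroup G) (hfix : ∀ x ∈ I ∪ J, ∃! c : G ⧸ H, x • c = c) (hcent : ∀ a ∈ I, a ∈ H → ∀ b ∈ I ∪ J, b ∈ H → a ≠ b → a * b = b * a → Subgroup.centralizer ({a * b} : Set G) ≤ H) : H = ⊤ := by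
  classical
  have hfixH : ∀ (x g : G), x • (g : G ⧸ H) = (g : G ⧸ H) ↔ g⁻¹ * x * g ∈ H := fun x g => by
    rw [MulAction.Quotient.smul_coe, eq_comm, QuotientGroup.eq, smul_eq_mul, mul_assoc]
  have hI1 : ∀ x ∈ I, ∀ g : G, g * x * g⁻¹ ∈ I := by
    intro x hx g
    rw [hI] at hx ⊢
    exact (show IsConj a₀ x from hx).trans (isConj_iff.mpr ⟨g, rfl⟩)
  have hsq : ∀ x ∈ I ∪ J, x * x = 1 := by
    intro x hx
    have : orderOf x = 2 := by
      rcases hx with hx | hx
      · rw [hI] at hx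
        obtain ⟨c, rfl⟩ := isConj_iff.mp (hx : IsConj a₀ x)
        rw [← MulAut.conj_apply, MulEquiv.orderOf_eq, ha₀]
      · rw [hJ] at hx
        obtain ⟨c, rfl⟩ := isConj_iff.mp (hx : IsConj b₀ x)
        rw [← MulAut.conj_apply, MulEquiv.orderOf_eq, hb₀]
    rw [← pow_two, ← this, pow_orderOf_eq_one]
  have hCH : ∀ x ∈ I ∪ J, x ∈ H → ∀ g : G, g⁻¹ * x * g ∈ H → g ∈ H := by
    intro x hx hxH g hg
    have h1 := (hfix x hx).unique ((hfixH x 1).mpr (by simpa using hxH)) ((hfixH x g).mpr hg)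
    simpa using QuotientGroup.eq.mp h1
  obtain ⟨a, haI, haH⟩ : ∃ a ∈ I, a ∈ H := by
    obtain ⟨c, hc, -⟩ := hfix a₀ (Or.inl (hI ▸ IsConj.refl a₀))
    obtain ⟨g, rfl⟩ := QuotientGroup.mk_surjective c
    refine ⟨_, ?_, (hfixH a₀ g).mp hc⟩
    have := hI1 a₀ (hI ▸ IsConj.refl a₀) g⁻¹
    rwa [inv_inv] at this
  have hall : ∀ b ∈ J, b ∈ H := by
    intro b hb
    have ha2 := hsq a (Or.inl haI)
    have hb2 := hsq b (Or.inr hb)
    have hai : a⁻¹ = a := inv_eq_of_mul_eq_one_right ha2
    have hbi : b⁻¹ = b := inv_eq_of_mul_eq_one_right hb2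
    obtain ⟨m, hm⟩ : Even (orderOf (a * b)) := by
      rw [← Nat.not_odd_iff_even]
      rintro ⟨m, hm⟩
      apply hIJ
      have hab : IsConj a b := by
        have key : ∀ i : ℕ, (a * b) ^ i * a * ((a * b) ^ i)⁻¹ = (a * b) ^ (2 * i) * a := by
          intro i
          have h1 : a * (a * b)⁻¹ * a⁻¹ = a * b := by
            rw [mul_inv_rev, hai, hbi, mul_assoc, mul_assoc b a a, ha2, mul_one]
          have h2 : a * ((a * b) ^ i)⁻¹ * a⁻¹ = (a * b) ^ i := by
            rw [← inv_pow, ← conj_pow, h1]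
          rw [mul_assoc, show a * ((a * b) ^ i)⁻¹ = (a * b) ^ i * a by
            conv_rhs => rw [← h2]
            group, ← mul_assoc, ← pow_add, two_mul]
        refine isConj_iff.mpr ⟨(a * b) ^ m, ?_⟩
        rw [key]
        have h3 : (a * b) ^ (2 * m) * (a * b) = 1 := by rw [← pow_succ, ← hm, pow_orderOf_eq_one]
        calc (a * b) ^ (2 * m) * a = ((a * b) ^ (2 * m) * (a * b)) * b⁻¹ := by group
          _ = b := by rw [h3, one_mul, hbi]
      rw [hI] at haI
      rw [hJ] at hb
      rw [hI, hJ]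
      ext x
      have h4 : IsConj a₀ b₀ := (haI : IsConj a₀ a).trans (hab.trans (hb : IsConj b₀ b).symm)
      exact ⟨fun h => h4.symm.trans h, fun h => h4.trans h⟩
    set z := (a * b) ^ m with hz
    have hz2 : z * z = 1 := by rw [hz, ← pow_add, ← hm, pow_orderOf_eq_one]
    have hzne : z ≠ 1 := fun e => by
      have h := orderOf_dvd_of_pow_eq_one (e : (a * b) ^ m = 1)
      have hpos := orderOf_pos (a * b)
      rw [hm] at h hpos
      have := Nat.le_of_dvd (by omega) h
      omega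
    have hzi : z⁻¹ = z := inv_eq_of_mul_eq_one_right hz2
    have hconjz : ∀ c : G, c * (a * b) * c⁻¹ = (a * b)⁻¹ → c * z = z * c := fun c hc => by
      have : c * z * c⁻¹ = z := by rw [hz, ← conj_pow, hc, inv_pow, ← hz, hzi]
      exact mul_inv_eq_iff_eq_mul.mp this
    have haz : a * z = z * a := hconjz a (by
      rw [mul_inv_rev, hai, hbi, ← mul_assoc, ha2, one_mul])
    have hbz : b * z = z * b := hconjz b (by
      rw [mul_inv_rev, hai, hbi, mul_assoc b, mul_assoc a b b, hb2, mul_one])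
    have hazIJ : a * z ∈ I ∪ J := by
      rcases isConj_or_of_invol ha2 hb2 m with h | h
      · left; rw [hI] at haI ⊢; exact (haI : IsConj a₀ a).trans h
      · right; rw [hJ] at hb ⊢; exact (hb : IsConj b₀ b).trans h
    have hcomm : a * (a * z) = (a * z) * a := by rw [mul_assoc a z a, ← haz]
    have hazH : a * z ∈ H := hCH a (Or.inl haI) haH _ (by
      rw [mul_assoc, hcomm, inv_mul_cancel_left]; exact haH)
    have hne : a ≠ a * z := fun e => hzne (mul_eq_left.mp e.symm)
    refine hcent a haI haH (a * z) hazIJ hazH hne hcomm (Subgroup.mem_centralizer_singleton_iff.mpr ?_)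
    rw [← mul_assoc a a z, ha2, one_mul, hbz]
  refine eq_top_iff.mpr fun g _ => ?_
  obtain ⟨b, hb⟩ : ∃ b, b ∈ J := ⟨b₀, hJ ▸ IsConj.refl b₀⟩
  refine hCH b (Or.inr hb) (hall b hb) g (hall _ ?_)
  rw [hJ] at hb ⊢
  exact (hb : IsConj b₀ b).trans (isConj_iff.mpr ⟨g⁻¹, by rw [inv_inv]⟩)

end Cfsg.Agent.S5439
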