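import Cfsg.Statements.S5444
import Cfsg.Agent.Lib.LargeFischer.Finish
import Cfsg.Agent.Lib.LargeFischer.SylowMax

set_option autoImplicit false
open Cfsg

namespace Cfsg.Agent.S5444

/-- Let G be a finite group of large Fischer type at the involution z: the generalized Fitting subgroup Q of H = C_G(z) is extraspecial of order 2^13, H has normal subgroups Q ≤ H₁ ≤ H₂ with H₁/Q of order 3, H₂/H₁ the projective special unitary group of dimension 4 over the field with nine elements and H₂ of index 2 in H, and some conjugate of z other than z lies in Q. Let T be a Sylow 2-subgroup of H. Then T has exactly one elementary abelian subgroup A of largest order; A has order 2^11, it meets Q in a subgroup of order 2^7, and its image in H/Q has order 16. -/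
theorem result {G : Type*} [Group G] [Finite G] (z : G) (Q : Subgroup (Subgroup.centralizer ({z} : Set G))) [Q.Normal] (hF : Cfsg.IsOfLargeFischerTypeAt z Q) (T : Sylow 2 ↥(Subgroup.centralizer ({z} : Set G))) : ∃ A : Subgroup ↥(T : Subgroup (Subgroup.centralizer ({z} : Set G))), Cfsg.maxElementaryAbelianSubgroups 2 ↥(T : Subgroup (Subgroup.centralizer ({z} : Set G))) = {A} ∧ Nat.card A = 2 ^ 11 ∧ Nat.card ↥(A.map (T : Subgroup (Subgroup.centralizer ({z} : Set G))).subtype ⊓ Q) = 2 ^ 7 ∧ Nat.card ↥((A.map (T : Subgroup (Subgroup.centralizer ({z} : Set G))).subtype).map (QuotientGroup.mk' Q)) = 16 := by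
  classical
  obtain ⟨v, ρ, o, C⟩ := CfsgLib.LargeFischer.exists_coords hF
  obtain rfl := C.outer_two (CfsgLib.LargeFischer.exists_conjugate hF)
  obtain ⟨v', ρ', C', hT⟩ := C.sylow_coords rfl T
  obtain ⟨A, -, hAT, hA2, hA11, hA7, hA16, hmax⟩ := C'.exists_largest rfl hT
  obtain ⟨r, hr, hrρ⟩ := C'.exists_lift
  set T0 := (T : Subgroup (Subgroup.centralizer ({z} : Set G)))
  have hmap : (A.subgroupOf T0).map T0.subtype = A := Subgroup.map_subgroupOf_eq_of_le hAT
  have hcard : Nat.card ↥(A.subgroupOf T0) = 2 ^ 11 := by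
    rw [← hA11]; exact Nat.card_congr (Subgroup.subgroupOfEquivOfLe hAT).toEquiv
  have helem : Cfsg.IsElementaryAbelian 2 (A.subgroupOf T0) := by
    have h2 : ∀ a : ↥(A.subgroupOf T0), a * a = 1 := fun a => Subtype.ext (Subtype.ext (hA2 _ a.2))
    refine ⟨⟨⟨fun a b => ?_⟩⟩, fun a ha => by rw [pow_two]; exact Subtype.ext (hA2 _ ha)⟩
    have hinv : ∀ c : ↥(A.subgroupOf T0), c⁻¹ = c := fun c => inv_eq_of_mul_eq_one_right (h2 c)
    calc a * b = (a * b)⁻¹ := (hinv _).symm
      _ = b * a := by rw [mul_inv_rev, hinv, hinv]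
  have hbound : ∀ B : Subgroup ↥T0, Cfsg.IsElementaryAbelian 2 B →
      Nat.card B ≤ 2 ^ 11 ∧ (Nat.card B = 2 ^ 11 → B = A.subgroupOf T0) := by
    intro B hB
    have hc : Nat.card ↥(B.map T0.subtype) = Nat.card B := Subgroup.card_map_of_injective T0.subtype_injective
    obtain ⟨h1, h2⟩ := hmax (B.map T0.subtype) (by rintro _ ⟨b, -, rfl⟩; exact b.2) (by
      rintro _ ⟨b, hb, rfl⟩
      rw [← map_mul, ← pow_two, hB.2 b hb, map_one])
    rw [hc] at h1 h2
    exact ⟨h1, fun e => Subgroup.map_injective T0.subtype_injective ((h2 e).trans hmap.symm)⟩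
  refine ⟨A.subgroupOf T0, ?_, hcard, by rw [hmap]; exact hA7, ?_⟩
  · ext B
    rw [Set.mem_singleton_iff]
    refine ⟨fun ⟨hB, hBmax⟩ => (hbound B hB).2 (le_antisymm (hbound B hB).1 (hcard ▸ hBmax _ helem)), ?_⟩
    rintro rfl
    exact ⟨helem, fun B hB => hcard.symm ▸ (hbound B hB).1⟩
  · rw [hmap, ← Subgroup.card_map_of_injective hr, Subgroup.map_map,
      show r.comp (QuotientGroup.mk' Q) = ρ' from MonoidHom.ext hrρ]
    exact hA16

end Cfsg.Agent.S5444
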