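import Cfsg.Statements.S5447
import Cfsg.Agent.Lib.LargeFischer.FusionClasses
import Cfsg.Agent.Lib.LargeFischer.FusionThompson

set_option autoImplicit false
open Cfsg

namespace Cfsg.Agent.S5447

/-- Let G be a finite group of large Fischer type at the involution z: the generalized Fitting subgroup Q of H = C_G(z) is extraspecial of order 2^13, H has normal subgroups Q ≤ H₁ ≤ H₂ with H₁/Q of order 3, H₂/H₁ the projective special unitary group of dimension 4 over the field with nine elements and H₂ of index 2 in H, and some conjugate of z other than z lies in Q. Let T be a Sylow 2-subgroup of G, A its Thompson subgroup and M = N_G(A) its normalizer. Then M controls fusion in A (elements of A conjugate in G are conjugate in M), and M has exactly two orbits on the non-identity elements of A: those conjugate to z in G and those not. -/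
theorem result {G : Type*} [Group G] [Finite G] (z : G) (Q : Subgroup (Subgroup.centralizer ({z} : Set G))) [Q.Normal] (hF : Cfsg.IsOfLargeFischerTypeAt z Q) (T : Sylow 2 G) (A M : Subgroup G) (hA : A = Cfsg.thompsonSubgroupOf 2 (T : Subgroup G)) (hM : M = Subgroup.normalizer (A : Set G)) : (∀ a ∈ A, ∀ g : G, g * a * g⁻¹ ∈ A → ∃ m ∈ M, m * a * m⁻¹ = g * a * g⁻¹) ∧ (∃ a ∈ A, a ≠ 1 ∧ IsConj z a) ∧ (∃ a ∈ A, a ≠ 1 ∧ ¬ IsConj z a) ∧ ∀ a ∈ A, ∀ b ∈ A, a ≠ 1 → b ≠ 1 → (IsConj z a ↔ IsConj z b) → ∃ m ∈ M, m * a * m⁻¹ = b := by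
  classical
  haveI := Fact.mk Nat.prime_two
  have hex := CfsgLib.LargeFischer.exists_conjugate hF
  obtain ⟨v, ρ, o, C⟩ := CfsgLib.LargeFischer.exists_coords hF
  obtain rfl := C.outer_two hex
  obtain ⟨TH⟩ : Nonempty (Sylow 2 ↥(Subgroup.centralizer ({z} : Set G))) := inferInstance
  obtain ⟨v', ρ', C', hTH⟩ := C.sylow_coords rfl TH
  obtain ⟨A0, rfl, hAT, hA2, hA11, -, -, hmax⟩ := C'.exists_largest rfl hTH
  obtain ⟨p0, hp0A, hp0Q, hp0P, hp0z, hp01⟩ := C'.exists_other
  have hQT : Q ≤ TH := fun q hq => by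
    rw [hTH, Subgroup.mem_comap, (C'.ker q).mpr hq]; exact one_mem _
  obtain ⟨S, hS⟩ := C'.sylow_top TH hQT
  obtain ⟨g, hg⟩ := MulAction.exists_smul_eq G S T
  let e : ↥(Subgroup.centralizer ({z} : Set G)) →* G :=
    (MulAut.conj g).toMonoidHom.comp (Subgroup.centralizer ({z} : Set G)).subtype
  have he : Function.Injective e := (MulAut.conj g).injective.comp Subtype.val_injective
  have hTe : (T : Subgroup G) = (TH : Subgroup ↥(Subgroup.centralizer ({z} : Set G))).map e := by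
    rw [← hg, Sylow.coe_subgroup_smul, hS, Subgroup.pointwise_smul_def]
    exact Subgroup.map_map _ _ _
  have hbound := CfsgLib.LargeFischer.largest_map e he hmax
  have hAe2 : ∀ a ∈ C'.aSub.map e, a * a = 1 := by
    rintro _ ⟨a, ha, rfl⟩
    rw [← map_mul, hA2 a ha, map_one]
  have hcard : Nat.card ↥(C'.aSub.map e) = 2 ^ 11 := (Subgroup.card_map_of_injective he).trans hA11
  have hle : C'.aSub.map e ≤ (T : Subgroup G) := hTe ▸ Subgroup.map_mono hAT
  have hAeq : A = C'.aSub.map e := by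
    rw [hA]
    exact CfsgLib.LargeFischer.thompson_eq hle hAe2 fun B hB hB2 => by
      rw [hcard]; exact hbound B (hTe ▸ hB) hB2
  subst hM
  clear hA
  subst hAeq
  have hfus : ∀ a ∈ C'.aSub.map e, ∀ x : G, x * a * x⁻¹ ∈ C'.aSub.map e →
      ∃ m ∈ Subgroup.normalizer ((C'.aSub.map e : Subgroup G) : Set G), m * a * m⁻¹ = x * a * x⁻¹ :=
    fun a ha x hx => CfsgLib.LargeFischer.normalizer_fusion T hAe2
      (fun B hB hB2 hBc => (hbound B (hTe ▸ hB) hB2).2 (hBc.trans hcard)) ha x hx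
  have hconj : ∀ a : ↥(Subgroup.centralizer ({z} : Set G)), IsConj (a : G) (e a) := fun a =>
    isConj_iff.mpr ⟨g, rfl⟩
  obtain ⟨zc, hzc, ezc⟩ : ∃ w ∈ Q, (w : G) = z := C'.st.z_mem
  have hzA : zc ∈ C'.aSub := C'.uSub_le_aSub ⟨hzc, by
    rw [(C'.vzero _ hzc).mpr (Or.inr ezc)]; exact CfsgLib.LargeFischer.uList_zero⟩
  have hne : ∀ a : ↥(Subgroup.centralizer ({z} : Set G)), (a : G) ≠ 1 → e a ≠ 1 := fun a h1 h2 =>
    h1 (congrArg Subtype.val (he (h2.trans (map_one e).symm)))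
  refine ⟨hfus, ⟨e zc, ⟨zc, hzA, rfl⟩, hne zc (by rw [ezc]; exact C'.st.ne_one), ?_⟩,
    ⟨e p0, ⟨p0, hp0A, rfl⟩, hne p0 hp01, fun h => hp0z (h.trans (hconj p0).symm)⟩, ?_⟩
  · have h := hconj zc
    rwa [ezc] at h
  · rintro a ⟨a', ha', rfl⟩ b ⟨b', hb', rfl⟩ ha1 hb1 hiff
    have hcls : ∀ c ∈ C'.aSub, e c ≠ 1 → IsConj z (e c) ∨ IsConj (p0 : G) (e c) := fun c hc hc1 =>
      (C'.aSub_class hex hp0Q hp0P hc (congrArg Subtype.val (hA2 c hc)) fun h =>
        hc1 (by rw [show c = 1 from Subtype.ext h, map_one])).imp (·.trans (hconj c)) (·.trans (hconj c))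
    obtain ⟨x, hx⟩ : ∃ x : G, x * e a' * x⁻¹ = e b' := by
      refine isConj_iff.mp ?_
      rcases hcls a' ha' ha1 with h | h
      · exact h.symm.trans (hiff.mp h)
      · rcases hcls b' hb' hb1 with h' | h'
        · exact (hiff.mpr h').symm.trans h'
        · exact h.symm.trans h'
    obtain ⟨m, hm, em⟩ := hfus (e a') ⟨a', ha', rfl⟩ x (hx ▸ ⟨b', hb', rfl⟩)
    exact ⟨m, hm, em.trans hx⟩

end Cfsg.Agent.S5447
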