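import Cfsg.Statements.S5448
import Cfsg.Agent.Lib.LargeFischer.ToddSetup

set_option autoImplicit false
open scoped Pointwise
open Cfsg

namespace Cfsg.Agent.S5448

/-- Let G be a finite group of large Fischer type at the involution z: the generalized Fitting subgroup Q of H = C_G(z) is extraspecial of order 2^13, H has normal subgroups Q ≤ H₁ ≤ H₂ with H₁/Q of order 3, H₂/H₁ the projective special unitary group of dimension 4 over the field with nine elements and H₂ of index 2 in H, and some conjugate of z other than z lies in Q. Let T be a Sylow 2-subgroup of G, A its Thompson subgroup, M = N_G(A) its normalizer, and t an involution of A not conjugate to z in G. Then the centralizer of t in M, modulo A, is isomorphic to the setwise stabilizer of a two-element subset of the 24 points in the Mathieu group of degree 24 (the automorphism group of the smaller Mathieu group on 22 points). -/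
theorem result {G : Type*} [Group G] [Finite G] (z : G) (Q : Subgroup (Subgroup.centralizer ({z} : Set G))) [Q.Normal] (hF : Cfsg.IsOfLargeFischerTypeAt z Q) (T : Sylow 2 G) (A M : Subgroup G) (hA : A = Cfsg.thompsonSubgroupOf 2 (T : Subgroup G)) (hM : M = Subgroup.normalizer (A : Set G)) (t : G) (htA : t ∈ A) (ht2 : orderOf t = 2) (ht : ¬ IsConj z t) : ∃ _ : (A.subgroupOf (M ⊓ Subgroup.centralizer ({t} : Set G))).Normal, Nonempty (↥(M ⊓ Subgroup.centralizer ({t} : Set G)) ⧸ A.subgroupOf (M ⊓ Subgroup.centralizer ({t} : Set G)) ≃* ↥(Cfsg.M24 ⊓ MulAction.stabilizer (Equiv.Perm Cfsg.GolayPt) ({none, some 0} : Set Cfsg.GolayPt))) := by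
  classical
  obtain ⟨hA2, -, φ, hker, hsurj, hpair⟩ := CfsgLib.LargeFischer.exists_todd z Q hF T A hA
  subst hM
  obtain ⟨p, q, hpq, hpq'⟩ := hpair t htA (fun e => by rw [e, orderOf_one] at ht2; omega) ht
  obtain ⟨g, hg, hgp, hgq⟩ := CfsgLib.Golay.exists_map_pair hpq
  rw [show CfsgLib.Golay.pt 23 = (none : GolayPt) from rfl] at hgp
  rw [show CfsgLib.Golay.pt 0 = (some 0 : GolayPt) from rfl] at hgq
  -- the conjugate of the stabiliser
  have key : ∀ σ : Equiv.Perm GolayPt,
      g⁻¹ * σ * g ∈ MulAction.stabilizer (Equiv.Perm GolayPt) ({none, some 0} : Set GolayPt) ↔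
        (σ p = p ∧ σ q = q) ∨ (σ p = q ∧ σ q = p) := by
    intro σ
    rw [MulAction.mem_stabilizer_iff, mul_smul, mul_smul, inv_smul_eq_iff]
    simp only [Set.smul_set_insert, Set.smul_set_singleton, Equiv.Perm.smul_def, hgp, hgq]
    exact Set.pair_eq_pair_iff
  let K := Subgroup.normalizer (A : Set G) ⊓ Subgroup.centralizer ({t} : Set G)
  let c : ↥M24 := ⟨g, hg⟩
  let ψ0 : ↥K →* ↥M24 := ((MulAut.conj c⁻¹).toMonoidHom.comp φ).comp
    (Subgroup.inclusion (inf_le_left : K ≤ Subgroup.normalizer (A : Set G)))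
  have hψ0 : ∀ m : ↥K, (ψ0 m : Equiv.Perm GolayPt) =
      g⁻¹ * (φ ⟨m.1, m.2.1⟩ : Equiv.Perm GolayPt) * g := fun m => by
    show ((c⁻¹ * φ ⟨m.1, m.2.1⟩ * c⁻¹⁻¹ : ↥M24) : Equiv.Perm GolayPt) = _
    rw [inv_inv]
    rfl
  let ψ : ↥K →* ↥(M24 ⊓ MulAction.stabilizer (Equiv.Perm GolayPt) ({none, some 0} : Set GolayPt)) :=
    ((M24.subtype).comp ψ0).codRestrict _ fun m => ⟨(ψ0 m).2, by
      show (ψ0 m : Equiv.Perm GolayPt) ∈ MulAction.stabilizer (Equiv.Perm GolayPt) ({none, some 0} : Set GolayPt)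
      rw [hψ0]
      refine (key _).mpr ?_
      exact (hpq' ⟨m.1, m.2.1⟩).mp (Subgroup.mem_centralizer_singleton_iff.mp m.2.2)⟩
  have hψker : ψ.ker = A.subgroupOf K := by
    ext m
    rw [MonoidHom.mem_ker, Subgroup.mem_subgroupOf]
    have h1 : φ ⟨m.1, m.2.1⟩ = 1 ↔ (m : G) ∈ A := by
      rw [← MonoidHom.mem_ker, hker, Subgroup.mem_subgroupOf]
    rw [← h1]
    constructor
    · intro h
      have h2 : ψ0 m = 1 := Subtype.ext ((congrArg Subtype.val h : ((ψ m) : Equiv.Perm GolayPt) = 1))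
      exact (MulAut.conj c⁻¹).injective (h2.trans (map_one _).symm)
    · intro h
      refine Subtype.ext ?_
      show (ψ0 m : Equiv.Perm GolayPt) = 1
      rw [hψ0, h]
      simp
  have hψsurj : Function.Surjective ψ := by
    rintro ⟨τ, hτ, hτs⟩
    obtain ⟨m, hm⟩ := hsurj ⟨g * τ * g⁻¹, mul_mem (mul_mem hg hτ) (inv_mem hg)⟩
    have hm' : (φ m : Equiv.Perm GolayPt) = g * τ * g⁻¹ := congrArg Subtype.val hm
    have hcomm : (m : G) * t = t * (m : G) := (hpq' m).mpr ((key _).mp (by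
      rw [hm', show g⁻¹ * (g * τ * g⁻¹) * g = τ by group]; exact hτs))
    refine ⟨⟨m.1, m.2, Subgroup.mem_centralizer_singleton_iff.mpr hcomm⟩, Subtype.ext ?_⟩
    show (ψ0 ⟨m.1, _⟩ : Equiv.Perm GolayPt) = τ
    rw [hψ0, show φ ⟨m.1, m.2⟩ = φ m from rfl, hm']
    group
  haveI hn : (A.subgroupOf K).Normal := hψker ▸ ψ.normal_ker
  exact ⟨hn, ⟨(QuotientGroup.quotientMulEquivOfEq hψker.symm).trans
    (QuotientGroup.quotientKerEquivOfSurjective ψ hψsurj)⟩⟩

end Cfsg.Agent.S5448
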