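import Cfsg.Statements.S5452
import Cfsg.Agent.Lib.Classical.USixTwoLift

set_option autoImplicit false
open Cfsg

namespace Cfsg.Agent.S5452

/-- Let G be a finite group with an involution d whose centralizer C is quasisimple with C modulo the subgroup generated by d isomorphic to the projective special unitary group of dimension 6 over the field with four elements, and suppose some conjugate of d other than d commutes with d. Then every involution of C modulo the subgroup generated by d is the image of an involution of C, and d is not a square in G. -/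
theorem result {G : Type*} [Group G] [Finite G] (d : G) (hd : orderOf d = 2) (hq : Cfsg.IsQuasisimple ↥(Subgroup.centralizer ({d} : Set G))) [hzn : ((Subgroup.zpowers d).subgroupOf (Subgroup.centralizer ({d} : Set G))).Normal] (K : Type) [Field K] [Fintype K] (hK : Fintype.card K = 4) (e : ↥(Subgroup.centralizer ({d} : Set G)) ⧸ (Subgroup.zpowers d).subgroupOf (Subgroup.centralizer ({d} : Set G)) ≃* Cfsg.PSU 6 K 2) (hnwc : ∃ g : G, g * d * g⁻¹ ∈ Subgroup.centralizer ({d} : Set G) ∧ g * d * g⁻¹ ≠ d) : (∀ x : ↥(Subgroup.centralizer ({d} : Set G)) ⧸ (Subgroup.zpowers d).subgroupOf (Subgroup.centralizer ({d} : Set G)), orderOf x = 2 → ∃ y : ↥(Subgroup.centralizer ({d} : Set G)), orderOf y = 2 ∧ (QuotientGroup.mk y : ↥(Subgroup.centralizer ({d} : Set G)) ⧸ (Subgroup.zpowers d).subgroupOf (Subgroup.centralizer ({d} : Set G))) = x) ∧ ¬ ∃ g : G, g ^ 2 = d := by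
  set C := Subgroup.centralizer ({d} : Set G)
  set Z := (Subgroup.zpowers d).subgroupOf C
  have hd2 : d * d = 1 := by rw [← pow_two, ← hd, pow_orderOf_eq_one]
  let π : ↥C →* Cfsg.PSU 6 K 2 := e.toMonoidHom.comp (QuotientGroup.mk' Z)
  have hs : Function.Surjective π := e.surjective.comp (QuotientGroup.mk'_surjective Z)
  have hker : ∀ z : ↥C, π z = 1 → (z : G) ∈ Subgroup.zpowers d := fun z hz => by
    have h : (QuotientGroup.mk z : ↥C ⧸ Z) = 1 := e.injective (hz.trans (map_one e).symm)
    exact Subgroup.mem_subgroupOf.1 ((QuotientGroup.eq_one_iff z).1 h)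
  have hc : ∀ z : ↥C, π z = 1 → ∀ y, Commute z y := fun z hz y => by
    obtain ⟨k, hk⟩ := hker z hz
    refine Subtype.ext ?_
    show (z : G) * (y : G) = (y : G) * (z : G)
    rw [← hk]
    have hy : (y : G) * d = d * (y : G) := Subgroup.mem_centralizer_singleton_iff.1 y.2
    exact ((show Commute d (y : G) from hy.symm).zpow_left k).eq
  have h2k : ∀ z : ↥C, π z = 1 → z * z = 1 := fun z hz => by
    obtain ⟨k, hk⟩ := hker z hz
    refine Subtype.ext ?_
    show (z : G) * (z : G) = 1
    rw [← hk, ← zpow_add, ← two_mul, zpow_mul, zpow_two, hd2, one_zpow]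
  have main : ∀ x : ↥C ⧸ Z, orderOf x = 2 → ∃ y : ↥C, orderOf y = 2 ∧ (QuotientGroup.mk y : ↥C ⧸ Z) = x := by
    intro x hx
    have hxx : x * x = 1 := by rw [← pow_two, ← hx, pow_orderOf_eq_one]
    obtain ⟨y, hy, hy2⟩ := CfsgLib.Classical.USixTwoLift.exists_sq_one_lift hs hc h2k hK (e x)
      (by rw [← map_mul, hxx, map_one])
    have hyx : (QuotientGroup.mk y : ↥C ⧸ Z) = x := e.injective hy
    refine ⟨y, orderOf_eq_prime (by rw [pow_two, hy2]) fun h1 => ?_, hyx⟩
    have : x = 1 := by rw [← hyx, h1]; rfl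
    rw [this, orderOf_one] at hx
    exact absurd hx (by norm_num)
  refine ⟨main, ?_⟩
  rintro ⟨g, hg⟩
  have hd1 : d ≠ 1 := fun h => by rw [h, orderOf_one] at hd; exact absurd hd (by norm_num)
  have hgC : g ∈ C := Subgroup.mem_centralizer_singleton_iff.2 (by rw [← hg, ← pow_succ, ← pow_succ'])
  let g' : ↥C := ⟨g, hgC⟩
  have hg2 : (g' : G) * (g' : G) = d := by rw [← pow_two]; exact hg
  have hmem : ∀ z : ↥C, (z : G) ∈ Subgroup.zpowers d → (QuotientGroup.mk z : ↥C ⧸ Z) = 1 := fun z hz =>
    (QuotientGroup.eq_one_iff z).2 (Subgroup.mem_subgroupOf.2 hz)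
  by_cases h1 : (QuotientGroup.mk g' : ↥C ⧸ Z) = 1
  · have h := h2k g' (by show e (QuotientGroup.mk g') = 1; rw [h1, map_one])
    exact hd1 (hg2.symm.trans (congrArg Subtype.val h))
  · have h2 : orderOf (QuotientGroup.mk g' : ↥C ⧸ Z) = 2 := orderOf_eq_prime
      (by rw [pow_two, ← QuotientGroup.mk_mul]; exact hmem _ (hg2 ▸ Subgroup.mem_zpowers d)) h1
    obtain ⟨y, hy, hyg⟩ := main _ h2
    have hyy : y * y = 1 := by rw [← pow_two, ← hy, pow_orderOf_eq_one]
    have hz : π (y⁻¹ * g') = 1 := by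
      show e (QuotientGroup.mk (y⁻¹ * g')) = 1
      rw [QuotientGroup.mk_mul, QuotientGroup.mk_inv, hyg, inv_mul_cancel, map_one]
    have h : g' * g' = 1 := by
      have e2 : g' = y⁻¹ * g' * y := by
        rw [show y⁻¹ * g' * y = y * (y⁻¹ * g') from hc _ hz y, mul_inv_cancel_left]
      calc g' * g' = (y⁻¹ * g' * y) * (y⁻¹ * g' * y) := by rw [← e2]
        _ = (y⁻¹ * g') * (y⁻¹ * g') * (y * y) := by
            rw [(hc _ hz y).symm.mul_mul_mul_comm (y⁻¹ * g') y]
        _ = 1 := by rw [h2k _ hz, hyy, one_mul]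
    exact hd1 (hg2.symm.trans (congrArg Subtype.val h))

end Cfsg.Agent.S5452
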