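import Cfsg.Statements.S5453
import Cfsg.Agent.Lib.TypeM22.Main
import Cfsg.Agent.Lib.TypeM22.Invol
import Cfsg.Agent.Lib.M23.Fi23Facts
import Cfsg.Agent.Lib.Fi22Mult.Main
import Cfsg.Agent.Lib.ThreeTransp.Main
import Cfsg.Agent.Lib.ThreeTransp.Transitive
import Cfsg.Agent.Lib.Schur.StemTwoUnique

set_option autoImplicit false
open Cfsg

namespace Cfsg.Agent.S5453

open Cfsg.Spor CfsgLib CfsgLib.ThreeTransp CfsgLib.ThreeTransp.Relations

theorem gen23_zero_two : Commute (Fi23Pres.gen 0) (Fi23Pres.gen 2) := by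
  have hn : ∀ x : Fi23.Gen, x ∈ coxNodes Fi23.edges := by intro x; cases x <;> decide
  have h : (Fi23Pres.gen 0 * Fi23Pres.gen 2) ^ CfsgLib.M23.lab 0 2 = 1 := by
    rw [CfsgLib.M23.lab, Fi23Pres.gen, CfsgLib.CosetEnum.presGen,
      CfsgLib.CosetEnum.genOf_of_lt (show 0 < Fi23Pres.letters.length by decide),
      CfsgLib.CosetEnum.genOf_of_lt (show 2 < Fi23Pres.letters.length by decide),
      List.getD_eq_getElem _ _ (show 0 < Fi23Pres.letters.length by decide),
      List.getD_eq_getElem _ _ (show 2 < Fi23Pres.letters.length by decide)]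
    exact CfsgLib.CosetEnum.of_pair (extra := Fi23.extra) (hn _) (hn _)
  rw [show CfsgLib.M23.lab 0 2 = 2 by decide +kernel, pow_two] at h
  have := inv_eq_of_mul_eq_one_right h
  rw [_root_.mul_inv_rev, inv_eq_of_mul_eq_one_right (Fi23Pres.gen_sq 0),
    inv_eq_of_mul_eq_one_right (Fi23Pres.gen_sq 2)] at this
  exact this.symm

theorem main {C Q : Type*} [Group C] [Finite C] [Group Q] [Finite Q] (π : C →* Q) (hπ : Function.Surjective π)
    (hC : Cfsg.IsQuasisimple C) (hk : π.ker ≤ Subgroup.center C) (hk2 : Nat.card π.ker = 2) {E : Set Q}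
    (hE : Cfsg.IsThreeTranspositionClass E) (ht : Cfsg.IsOfTypeM22 Q E) :
    (∀ x : Q, orderOf x = 2 → ∃ y : C, orderOf y = 2 ∧ π y = x) ∧ ∀ g : C, g ^ 2 ∈ π.ker → g ^ 2 = 1 := by
  -- the quotient is simple
  have hz : Subgroup.center C ≤ π.ker := fun z hz => by
    have : π z ∈ Subgroup.center Q := Subgroup.mem_center_iff.mpr fun q => by
      obtain ⟨c, rfl⟩ := hπ q
      rw [← map_mul, ← map_mul, Subgroup.mem_center_iff.mp hz c]
    rwa [ht.1, Subgroup.mem_bot] at this
  have hker : π.ker = Subgroup.center C := le_antisymm hk hz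
  haveI := hC.2
  haveI hQs : IsSimpleGroup Q := by
    let eq : C ⧸ Subgroup.center C ≃* Q :=
      (QuotientGroup.quotientMulEquivOfEq hker.symm).trans (QuotientGroup.quotientKerEquivOfSurjective π hπ)
    haveI : Nontrivial Q := eq.symm.toEquiv.nontrivial
    exact IsSimpleGroup.isSimpleGroup_of_surjective eq.toMonoidHom eq.surjective
  have hCp : commutator C = ⊤ := hC.1.1
  have hQp : commutator Q = ⊤ := by
    have h := congrArg (Subgroup.map π) hCp
    rwa [commutator_def, Subgroup.map_commutator, Subgroup.map_top_of_surjective π hπ, ← commutator_def] at h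
  haveI : IsSimpleGroup (commutator Q) := by
    haveI : Nontrivial (commutator Q) :=
      ((MulEquiv.subgroupCongr hQp).trans Subgroup.topEquiv).toEquiv.nontrivial
    exact IsSimpleGroup.isSimpleGroup_of_surjective
      ((MulEquiv.subgroupCongr hQp).trans Subgroup.topEquiv).symm.toMonoidHom
      ((MulEquiv.subgroupCongr hQp).trans Subgroup.topEquiv).symm.surjective
  have hnonab : ∃ x y : commutator Q, x * y ≠ y * x := by
    by_contra! hall
    have htop : Subgroup.center Q = ⊤ := eq_top_iff.mpr fun x _ => Subgroup.mem_center_iff.mpr fun y =>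
      congrArg Subtype.val (hall ⟨y, hQp ▸ Subgroup.mem_top y⟩ ⟨x, hQp ▸ Subgroup.mem_top x⟩)
    exact bot_ne_top (ht.1.symm.trans htop)
  have hprim : Cfsg.IsPrimitiveUnderConj E := primitive_of_simple_derived hnonab hE
  obtain ⟨d₀, hd₀, hEd⟩ := hE.2.1
  have hD : Cfsg.IsThreeTranspositionGroup E := ⟨hE.1, fun g d hd => class_conjClosed hE g d hd, hE.2.2⟩
  have X : CfsgLib.TypeM22.Ctx E := ⟨hD, hprim, ht⟩
  obtain ⟨e, he⟩ := CfsgLib.TypeM22.recognition hD hprim ht
  -- the map from the double cover inside Fi23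
  have hA : IsStemExtension CfsgLib.M23.toFi22 ∧ Nat.card CfsgLib.M23.toFi22.ker = 2 := by
    have hk' : CfsgLib.M23.toFi22.ker = Fi23Pres.zKer := by
      ext x; simp [CfsgLib.M23.toFi22, MonoidHom.mem_ker]
    have h2 : Nat.card CfsgLib.M23.toFi22.ker = 2 := by
      rw [hk', Fi23Pres.zKer, Nat.card_zpowers, Fi23Pres.zSub_order]
    refine ⟨⟨CfsgLib.M23.toFi22_surjective, by rw [hk', Fi23Pres.center_eq], ?_⟩, h2⟩
    obtain ⟨σ, hσ, -⟩ := Fi22Mult.stem_of_double Fi23Pres.subA_cover
    have hσk : Fi23Pres.zKer ≤ commutator Fi23Pres.subA := by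
      have hc := hσ.2.1
      have hs : σ.ker = Subgroup.center Fi23Pres.subA := by
        refine le_antisymm hc fun z hz => ?_
        haveI : IsSimpleGroup Fi22 := Fi22Pres.isFi22.1
        have hcen : σ z ∈ Subgroup.center Fi22 := Subgroup.mem_center_iff.mpr fun q => by
          obtain ⟨c, rfl⟩ := hσ.1 q
          rw [← map_mul, ← map_mul, Subgroup.mem_center_iff.mp hz c]
        rcases Subgroup.Normal.eq_bot_or_eq_top (H := Subgroup.center Fi22) inferInstance with h | h
        · rwa [h, Subgroup.mem_bot] at hcen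
        · exfalso
          have := (MulEquiv.symm e).toEquiv.injective
          refine bot_ne_top (ht.1.symm.trans (eq_top_iff.mpr fun x _ => Subgroup.mem_center_iff.mpr fun y => ?_))
          have hh := Subgroup.mem_center_iff.mp (h ▸ Subgroup.mem_top (e.symm x) : e.symm x ∈ Subgroup.center Fi22)
            (e.symm y)
          rw [← map_mul, ← map_mul] at hh
          exact e.symm.injective hh
      rw [← Fi23Pres.center_eq, ← hs]
      exact hσ.2.2
    rw [hk']; exact hσk
  let τ : C →* Fi22 := e.symm.toMonoidHom.comp π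
  have hτk : τ.ker = π.ker := by ext x; simp [τ, MonoidHom.mem_ker]
  have hτ : IsStemExtension τ := ⟨e.symm.surjective.comp hπ, hτk ▸ hk, by rw [hCp]; exact le_top⟩
  obtain ⟨θ, hθ⟩ := CfsgLib.Schur.StemTwoUnique.exists_hom CfsgLib.Fi22Mult.fi22_perfect
    CfsgLib.Fi22Mult.hasSchurMultiplier hA.1 hA.2 hτ (by rw [hτk, hk2])
  have hlift : ∀ z : Fi23Pres.subA, π (θ z) = e (CfsgLib.M23.toFi22 z) := fun z => by
    rw [← hθ]
    exact (e.apply_symm_apply _).symm
  -- a commuting pair of involutions over a commuting pair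
  have hg : ∀ {k}, k < 9 → ∃ u : C, u * u = 1 ∧ π u = e (Fi22Pres.gen k) ∧
      u = θ (if h : k < 9 then ⟨Fi23Pres.gen k, Fi23Pres.gen_mem h⟩ else 1) := fun {k} hk => by
    refine ⟨_, ?_, ?_, rfl⟩ <;> rw [dif_pos hk]
    · rw [← map_mul, show (⟨Fi23Pres.gen k, Fi23Pres.gen_mem hk⟩ : Fi23Pres.subA) * ⟨_, Fi23Pres.gen_mem hk⟩ = 1 from
        Subtype.ext (Fi23Pres.gen_sq k), map_one]
    · rw [hlift, CfsgLib.M23.toFi22_gen hk]
  obtain ⟨u, hu, hπu, hue⟩ := hg (k := 0) (by norm_num)
  obtain ⟨v, hv, hπv, hve⟩ := hg (k := 2) (by norm_num)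
  have huv : Commute u v := by
    rw [hue, hve, dif_pos (by norm_num), dif_pos (by norm_num)]
    exact (show Commute (⟨_, Fi23Pres.gen_mem (show 0 < 9 by norm_num)⟩ : Fi23Pres.subA)
      ⟨_, Fi23Pres.gen_mem (show 2 < 9 by norm_num)⟩ from Subtype.ext gen23_zero_two).map θ
  have ha : e (Fi22Pres.gen 0) ∈ E := he ▸ ⟨_, mem_conjugatesOf_self, rfl⟩
  have hb : e (Fi22Pres.gen 2) ∈ E := he ▸ ⟨_, CfsgLib.M23.gen22_conj 2 (by norm_num), rfl⟩
  have hne : e (Fi22Pres.gen 2) ≠ e (Fi22Pres.gen 0) := fun h =>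
    CfsgLib.M23.gen22_ne (by norm_num) (by norm_num) (by norm_num) (e.injective h)
  have hab : Commute (e (Fi22Pres.gen 0)) (e (Fi22Pres.gen 2)) :=
    hπu ▸ hπv ▸ huv.map π
  have hconj : ∀ a ∈ E, ∃ g : C, π (g * u * g⁻¹) = a := fun a ha' => by
    obtain ⟨g, rfl⟩ := hprim.1 _ ha a ha'
    obtain ⟨g', rfl⟩ := hπ g
    exact ⟨g', by rw [map_mul, map_mul, map_inv, hπu]⟩
  choose g hg using hconj
  classical
  let ℓ : Q → C := fun a => if h : a ∈ E then g a h * u * (g a h)⁻¹ else 1
  have hℓπ : ∀ a ∈ E, π (ℓ a) = a := fun a h => by simp only [ℓ, dif_pos h]; exact hg a h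
  have hℓsq : ∀ a ∈ E, ℓ a * ℓ a = 1 := fun a h => by
    simp only [ℓ, dif_pos h]
    rw [show g a h * u * (g a h)⁻¹ * (g a h * u * (g a h)⁻¹) = g a h * (u * u) * (g a h)⁻¹ by group, hu, mul_one,
      mul_inv_cancel]
  -- every lift of a commuting pair commutes
  have hcomm : ∀ a ∈ E, ∀ b ∈ E, Commute a b → Commute (ℓ a) (ℓ b) := by
    intro a ha' b hb' hc
    by_cases hab' : a = b
    · rw [hab']
    obtain ⟨x, rfl⟩ := hprim.1 _ ha a ha'
    obtain ⟨y, hym, hy⟩ := transitive_commute hD hprim ⟨_, ha, _, hb, hne.symm, hab⟩ ha hb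
      (show x⁻¹ * b * x ∈ E by simpa using hD.2.1 x⁻¹ b hb') hne
      (fun h => hab' (by rw [← h]; group))
      hab
      (by
        have := hc.map (MulAut.conj x⁻¹)
        simpa [mul_assoc] using this)
    obtain ⟨w, hw⟩ := hπ (x * y)
    have hy0 : y * e (Fi22Pres.gen 0) * y⁻¹ = e (Fi22Pres.gen 0) := by
      have : ∀ z ∈ Subgroup.closure {z : Q | z ∈ E ∧ z ≠ e (Fi22Pres.gen 0) ∧ Commute (e (Fi22Pres.gen 0)) z},
          Commute (e (Fi22Pres.gen 0)) z := fun z hz => by
        induction hz using Subgroup.closure_induction with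
        | mem z hz => exact hz.2.2
        | one => exact Commute.one_right _
        | mul _ _ _ _ h1 h2 => exact h1.mul_right h2
        | inv _ _ h1 => exact h1.inv_right
      rw [← (this y hym).eq, mul_inv_cancel_right]
    -- both lifts differ from the conjugated pair by central elements
    have hdiff : ∀ p q : C, π p = π q → ∃ n ∈ Subgroup.center C, p = n * q := fun p q h =>
      ⟨p * q⁻¹, hk (by rw [MonoidHom.mem_ker, map_mul, map_inv, h, mul_inv_cancel]), by group⟩
    obtain ⟨n₁, hn₁, e₁⟩ := hdiff (ℓ (x * e (Fi22Pres.gen 0) * x⁻¹)) (w * u * w⁻¹) (by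
      rw [hℓπ _ ha', map_mul, map_mul, map_inv, hw, hπu]
      conv_lhs => rw [← hy0]
      group)
    obtain ⟨n₂, hn₂, e₂⟩ := hdiff (ℓ b) (w * v * w⁻¹) (by
      rw [hℓπ _ hb', map_mul, map_mul, map_inv, hw, hπv,
        show b = x * (x⁻¹ * b * x) * x⁻¹ by group, ← hy]
      group)
    rw [e₁, e₂]
    have hc₁ : ∀ t, Commute n₁ t := fun t => (Subgroup.mem_center_iff.mp hn₁ t).symm
    have hc₂ : ∀ t, Commute t n₂ := fun t => Subgroup.mem_center_iff.mp hn₂ t
    exact (hc₁ _).mul_left ((hc₂ _).mul_right (huv.map (MulAut.conj w)))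
  have hinvl : ∀ x : Q, x * x = 1 → x ≠ 1 → ∃ y : C, y * y = 1 ∧ π y = x := fun x hx hx1 => by
    obtain ⟨m, -, -, l, -, -, hmem, hc, rfl⟩ := CfsgLib.TypeM22.decomp X hx hx1
    refine ⟨(l.map ℓ).prod, ?_, ?_⟩
    · clear hx hx1
      induction l with
      | nil => simp
      | cons a l ih =>
        have hih := ih (fun b hb => hmem b (List.mem_cons_of_mem _ hb))
          fun b hb b' hb' => hc b (List.mem_cons_of_mem _ hb) b' (List.mem_cons_of_mem _ hb')
        have hc' : Commute (ℓ a) (l.map ℓ).prod := by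
          refine Commute.list_prod_right _ _ fun z hz => ?_
          obtain ⟨b, hb, rfl⟩ := List.mem_map.1 hz
          exact hcomm a (hmem a (List.mem_cons_self ..)) b (hmem b (List.mem_cons_of_mem _ hb))
            (hc a (List.mem_cons_self ..) b (List.mem_cons_of_mem _ hb))
        rw [List.map_cons, List.prod_cons, hc'.symm.mul_mul_mul_comm, hℓsq a (hmem a (List.mem_cons_self ..)), hih,
          one_mul]
    · rw [map_list_prod, List.map_map]
      exact congrArg List.prod ((List.map_congr_left fun a h => hℓπ a (hmem a h)).trans (List.map_id l))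
  refine ⟨fun x hx => ?_, fun c hc => ?_⟩
  · have hx1 : x ≠ 1 := fun h => by rw [h, orderOf_one] at hx; exact absurd hx (by norm_num)
    obtain ⟨y, hy, hπy⟩ := hinvl x (by rw [← pow_two, ← hx, pow_orderOf_eq_one]) hx1
    haveI : Fact (Nat.Prime 2) := ⟨Nat.prime_two⟩
    refine ⟨y, orderOf_eq_prime (by rw [pow_two, hy]) ?_, hπy⟩
    rintro rfl
    exact hx1 (by rw [← hπy, map_one])
  · have hk1 : ∀ n ∈ π.ker, n * n = 1 := fun n hn => by
      have := congrArg Subtype.val (pow_card_eq_one' (x := (⟨n, hn⟩ : π.ker)))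
      rw [hk2] at this
      simpa [pow_two] using this
    have hsq : π c * π c = 1 := by rw [← map_mul, ← pow_two]; exact hc
    by_cases h1 : π c = 1
    · rw [pow_two]; exact hk1 c h1
    obtain ⟨y, hy, hπy⟩ := hinvl _ hsq h1
    obtain ⟨n, hn, rfl⟩ : ∃ n ∈ π.ker, c = n * y :=
      ⟨c * y⁻¹, by rw [MonoidHom.mem_ker, map_mul, map_inv, hπy, mul_inv_cancel], by group⟩
    have hcn : Commute y n := Subgroup.mem_center_iff.mp (hk hn) y
    rw [pow_two, hcn.mul_mul_mul_comm, hk1 n hn, hy, one_mul]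

/-- Let G be a finite group with an involution d whose centralizer C is quasisimple, such that C modulo the subgroup generated by d is of type M(22) with respect to some conjugacy class of 3-transpositions generating it and also has an involution whose own centralizer is quasisimple with quotient by it isomorphic to the projective special unitary group of dimension 6 over the field with four elements and which is not weakly closed in that centralizer; and suppose some conjugate of d other than d commutes with d. Then every involution of C modulo the subgroup generated by d is the image of an involution of C, and d is not a square in G. -/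
theorem result {G : Type*} [Group G] [Finite G] (d : G) (hd : orderOf d = 2) (hq : Cfsg.IsQuasisimple ↥(Subgroup.centralizer ({d} : Set G))) [hzn : ((Subgroup.zpowers d).subgroupOf (Subgroup.centralizer ({d} : Set G))).Normal] (htype : ∃ E : Set (↥(Subgroup.centralizer ({d} : Set G)) ⧸ (Subgroup.zpowers d).subgroupOf (Subgroup.centralizer ({d} : Set G))), Cfsg.IsThreeTranspositionClass E ∧ Cfsg.IsOfTypeM22 _ E) (hinvol : ∃ d' : ↥(Subgroup.centralizer ({d} : Set G)) ⧸ (Subgroup.zpowers d).subgroupOf (Subgroup.centralizer ({d} : Set G)), orderOf d' = 2 ∧ Cfsg.IsQuasisimple ↥(Subgroup.centralizer ({d'} : Set _)) ∧ (∃ (K : Type) (_ : Field K) (_ : Fintype K), Fintype.card K = 4 ∧ ∃ _ : ((Subgroup.zpowers d').subgroupOf (Subgroup.centralizer ({d'} : Set _))).Normal, Nonempty (↥(Subgroup.centralizer ({d'} : Set _)) ⧸ (Subgroup.zpowers d').subgroupOf (Subgroup.centralizer ({d'} : Set _)) ≃* Cfsg.PSU 6 K 2)) ∧ ∃ g, g * d' * g⁻¹ ∈ Subgroup.centralizer ({d'} : Set _) ∧ g * d' * g⁻¹ ≠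 d') (hnwc : ∃ g : G, g * d * g⁻¹ ∈ Subgroup.centralizer ({d} : Set G) ∧ g * d * g⁻¹ ≠ d) : (∀ x : ↥(Subgroup.centralizer ({d} : Set G)) ⧸ (Subgroup.zpowers d).subgroupOf (Subgroup.centralizer ({d} : Set G)), orderOf x = 2 → ∃ y : ↥(Subgroup.centralizer ({d} : Set G)), orderOf y = 2 ∧ (QuotientGroup.mk y : ↥(Subgroup.centralizer ({d} : Set G)) ⧸ (Subgroup.zpowers d).subgroupOf (Subgroup.centralizer ({d} : Set G))) = x) ∧ ¬ ∃ g : G, g ^ 2 = d := by
  obtain ⟨E, hE, ht⟩ := htype
  have hdC : d ∈ Subgroup.centralizer ({d} : Set G) := Subgroup.mem_centralizer_singleton_iff.2 rfl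
  have hle : Subgroup.zpowers d ≤ Subgroup.centralizer ({d} : Set G) := Subgroup.zpowers_le.2 hdC
  set N := (Subgroup.zpowers d).subgroupOf (Subgroup.centralizer ({d} : Set G)) with hN
  have hker : (QuotientGroup.mk' N).ker = N := QuotientGroup.ker_mk' N
  have hcen : N ≤ Subgroup.center _ := fun n hn => Subgroup.mem_center_iff.2 fun c => Subtype.ext (by
    obtain ⟨k, hk⟩ := Subgroup.mem_subgroupOf.1 hn
    show (c : G) * (n : G) = (n : G) * (c : G)
    rw [← hk]
    exact ((show Commute (c : G) d from Subgroup.mem_centralizer_singleton_iff.1 c.2).zpow_right k).eq)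
  have hcard : Nat.card N = 2 := by
    rw [Nat.card_congr (Subgroup.subgroupOfEquivOfLe hle).toEquiv, Nat.card_zpowers, hd]
  obtain ⟨h1, h2⟩ := main (QuotientGroup.mk' N) (QuotientGroup.mk'_surjective N) hq (hker.symm ▸ hcen)
    (by rw [hker, hcard]) hE ht
  refine ⟨h1, ?_⟩
  rintro ⟨g, hg⟩
  have hgc : g ∈ Subgroup.centralizer ({d} : Set G) := by
    rw [Subgroup.mem_centralizer_singleton_iff, ← hg]
    group
  have h := h2 ⟨g, hgc⟩ (by
    rw [hker, Subgroup.mem_subgroupOf]
    show g ^ 2 ∈ _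
    rw [hg]
    exact Subgroup.mem_zpowers d)
  have : d = 1 := hg ▸ congrArg Subtype.val h
  rw [this, orderOf_one] at hd
  exact absurd hd (by norm_num)

end Cfsg.Agent.S5453
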