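import Cfsg.Statements.S5455
import Cfsg.Agent.Lib.Fi22Fusion.Main

set_option autoImplicit false
open Cfsg

namespace Cfsg.Agent.S5455

/-- Let G be a finite group with an involution d whose centralizer C is quasisimple, such that C modulo the subgroup generated by d is of type M(22) with respect to some conjugacy class of 3-transpositions generating it and also has an involution whose own centralizer is quasisimple with quotient by it isomorphic to the projective special unitary group of dimension 6 over the field with four elements and which is not weakly closed in that centralizer; and suppose some conjugate of d other than d commutes with d. Let S be a Sylow 2-subgroup of C and A the Thompson subgroup of S, regarded as a subgroup of G. Then A is elementary abelian of order 2^11, exactly 23 conjugates of d lie in A, and the normalizer of A permutes them transitively. -/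
theorem result {G : Type*} [Group G] [Finite G] (d : G) (hd : orderOf d = 2) (hq : Cfsg.IsQuasisimple ↥(Subgroup.centralizer ({d} : Set G))) [hzn : ((Subgroup.zpowers d).subgroupOf (Subgroup.centralizer ({d} : Set G))).Normal] (htype : ∃ E : Set (↥(Subgroup.centralizer ({d} : Set G)) ⧸ (Subgroup.zpowers d).subgroupOf (Subgroup.centralizer ({d} : Set G))), Cfsg.IsThreeTranspositionClass E ∧ Cfsg.IsOfTypeM22 _ E) (hinvol : ∃ d' : ↥(Subgroup.centralizer ({d} : Set G)) ⧸ (Subgroup.zpowers d).subgroupOf (Subgroup.centralizer ({d} : Set G)), orderOf d' = 2 ∧ Cfsg.IsQuasisimple ↥(Subgroup.centralizer ({d'} : Set _)) ∧ (∃ (K : Type) (_ : Field K) (_ : Fintype K), Fintype.card K = 4 ∧ ∃ _ : ((Subgroup.zpowers d').subgroupOf (Subgroup.centralizer ({d'} : Set _))).Normal, Nonempty (↥(Subgroup.centralizer ({d'} : Set _)) ⧸ (Subgroup.zpowers d').subgroupOf (Subgroup.centralizer ({d'} : Set _)) ≃* Cfsg.PSU 6 K 2)) ∧ ∃ g, g * d' * g⁻¹ ∈ Subgroup.centralizer ({d'} : Set _) ∧ g * d' * g⁻¹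 ≠ d') (hnwc : ∃ g : G, g * d * g⁻¹ ∈ Subgroup.centralizer ({d} : Set G) ∧ g * d * g⁻¹ ≠ d) (S : Sylow 2 ↥(Subgroup.centralizer ({d} : Set G))) (A : Subgroup G) (hA : A = (Cfsg.thompsonSubgroupOf 2 (S : Subgroup ↥(Subgroup.centralizer ({d} : Set G)))).map (Subgroup.centralizer ({d} : Set G)).subtype) : Cfsg.IsElementaryAbelian 2 A ∧ Nat.card A = 2 ^ 11 ∧ Set.ncard {x : G | x ∈ A ∧ IsConj d x} = 23 ∧ ∀ x ∈ A, ∀ y ∈ A, IsConj d x → IsConj d y → ∃ n ∈ Subgroup.normalizer (A : Set G), n * x * n⁻¹ = y := by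
  obtain ⟨E, hE, ht⟩ := htype
  have hC : ∀ c, c ∈ (Subgroup.centralizer ({d} : Set G)) ↔ Commute c d := fun c => Subgroup.mem_centralizer_singleton_iff
  have hdC : d ∈ (Subgroup.centralizer ({d} : Set G)) := (hC d).mpr (Commute.refl d)
  set N := (Subgroup.zpowers d).subgroupOf (Subgroup.centralizer ({d} : Set G)) with hN
  have hker : (QuotientGroup.mk' N).ker = N := QuotientGroup.ker_mk' N
  have hcen : N ≤ Subgroup.center _ := fun n hn => Subgroup.mem_center_iff.2 fun c => Subtype.ext (by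
    obtain ⟨k, hk⟩ := Subgroup.mem_subgroupOf.1 hn
    show (c : G) * (n : G) = (n : G) * (c : G)
    rw [← hk]
    exact (((hC c).1 c.2).zpow_right k).eq)
  have hcard : Nat.card N = 2 := by
    rw [Nat.card_congr (Subgroup.subgroupOfEquivOfLe (Subgroup.zpowers_le.2 hdC)).toEquiv, Nat.card_zpowers, hd]
  obtain ⟨θ, hθ, hinv⟩ := CfsgLib.Fi22Fusion.exists_cover (QuotientGroup.mk' N) (QuotientGroup.mk'_surjective N) hq
    (hker.symm ▸ hcen) (by rw [hker, hcard]) hE ht
  have hθd : (θ CfsgLib.Fi23Pres.zSub : G) = d := by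
    rw [hker, hN, Subgroup.mem_subgroupOf] at hθ
    obtain ⟨k, hk⟩ := hθ
    replace hk : d ^ k = (θ CfsgLib.Fi23Pres.zSub : G) := hk
    have h2 : d ^ (2 : ℤ) = 1 := by
      rw [show (2 : ℤ) = ((2 : ℕ) : ℤ) from rfl, zpow_natCast, ← hd, pow_orderOf_eq_one]
    rcases Int.even_or_odd' k with ⟨m, rfl | rfl⟩
    · rw [zpow_mul, h2, one_zpow] at hk
      exact absurd (θ.injective (show θ CfsgLib.Fi23Pres.zSub = θ 1 from Subtype.ext (by rw [← hk, map_one]; rfl)))
        CfsgLib.Fi23Pres.zSub_ne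
    · rw [zpow_add, zpow_mul, h2, one_zpow, one_mul, zpow_one] at hk
      exact hk.symm
  obtain ⟨ι, hι, hr, hz, hS⟩ := CfsgLib.Fi22Fusion.exists_embedding hd (fun c hc => (hC c).1 hc) θ hθd S
  obtain ⟨hJ, hmax⟩ := CfsgLib.Fi22Fusion.thompson_eq hι hS
  refine CfsgLib.Fi22Fusion.fusion hd hC ι hι hr hz hinv (fun B hB hBe hBc => ?_) hnwc A (hA.trans hJ)
  have hBp : IsPGroup 2 (B.subgroupOf (Subgroup.centralizer ({d} : Set G))) :=
    (IsPGroup.of_card (n := 11) (hBc.trans (by norm_num))).comap_of_injective _ (Subgroup.centralizer ({d} : Set G)).subtype_injective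
  obtain ⟨S', hS'⟩ := hBp.exists_le_sylow
  obtain ⟨c, hc⟩ := MulAction.exists_smul_eq (Subgroup.centralizer ({d} : Set G)) S' S
  refine ⟨c, c.2, (hmax (B.map (MulAut.conj (c : G)).toMonoidHom) ?_ (CfsgLib.Fi22Fusion.elem_map _ hBe)).2 ?_⟩
  · rw [← hc]
    rintro - ⟨b, hb, rfl⟩
    exact ⟨c * ⟨b, hB hb⟩ * c⁻¹, Subgroup.mem_map_of_mem (MulAut.conj c).toMonoidHom
      (hS' (Subgroup.mem_subgroupOf.2 (hb : ((⟨b, hB hb⟩ : (Subgroup.centralizer ({d} : Set G))) : G) ∈ B))), rfl⟩
  · rw [← hBc]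
    exact (Nat.card_congr (B.equivMapOfInjective _ (MulAut.conj _).injective).toEquiv).symm

end Cfsg.Agent.S5455
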