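import Cfsg.Statements.S5458
import Cfsg.Agent.Lib.TypeM22.Main
import Cfsg.Agent.Lib.Fi22Syl.Quot

set_option autoImplicit false
open Cfsg

namespace Cfsg.Agent.S5458

/-- Let G be a finite group with trivial centre generated by a conjugation-invariant set D of 3-transpositions on which it acts primitively, of type M(22), and suppose G also has an involution whose centralizer is quasisimple with quotient by it the projective special unitary group of dimension 6 over the field with four elements and which is not weakly closed in that centralizer. Let T be a Sylow 2-subgroup of G. Then the subgroup generated by the members of D lying in T is the Thompson subgroup of T (generated by the elementary abelian subgroups of T of largest order). -/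
theorem result {G : Type*} [Group G] [Finite G] {D : Set G} (hD : Cfsg.IsThreeTranspositionGroup D) (hprim : Cfsg.IsPrimitiveUnderConj D) (h22 : Cfsg.IsOfTypeM22 G D) (hM : ∃ d : G, orderOf d = 2 ∧ Cfsg.IsQuasisimple ↥(Subgroup.centralizer ({d} : Set G)) ∧ (∃ (_ : ((Subgroup.zpowers d).subgroupOf (Subgroup.centralizer ({d} : Set G))).Normal) (K : Type) (_ : Field K) (_ : Fintype K), Fintype.card K = 4 ∧ Nonempty (↥(Subgroup.centralizer ({d} : Set G)) ⧸ (Subgroup.zpowers d).subgroupOf (Subgroup.centralizer ({d} : Set G)) ≃* Cfsg.PSU 6 K 2)) ∧ ∃ g : G, g * d * g⁻¹ ∈ Subgroup.centralizer ({d} : Set G) ∧ g * d * g⁻¹ ≠ d) (T : Sylow 2 G) : Subgroup.closure {x : G | x ∈ D ∧ x ∈ (T : Subgroup G)} = Cfsg.thompsonSubgroupOf 2 (T : Subgroup G) := by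
  obtain ⟨e, he⟩ := CfsgLib.TypeM22.recognition hD hprim h22
  let P : Subgroup G := (CfsgLib.Fi22Syl.sylowTwo22 : Subgroup Cfsg.Spor.Fi22).map e.toMonoidHom
  have hP : IsPGroup 2 P := CfsgLib.Fi22Syl.sylowTwo22.2.map _
  have hodd : ¬ 2 ∣ P.index := by
    show ¬ 2 ∣ Subgroup.index (Subgroup.map (e : Cfsg.Spor.Fi22 →* G) _)
    rw [Subgroup.index_map_equiv]
    exact CfsgLib.Fi22Syl.sylowTwo22.not_dvd_index
  obtain ⟨g, hg⟩ := MulAction.exists_smul_eq G (hP.toSylow hodd) T
  let φ : Cfsg.Spor.Fi22 ≃* G := e.trans (MulAut.conj g)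
  have hT : (T : Subgroup G) = (CfsgLib.Fi22Syl.img CfsgLib.Fi23Syl.sylowSub).map φ.toMonoidHom := by
    rw [← hg]
    show P.map (MulAut.conj g).toMonoidHom = _
    rw [Subgroup.map_map]
    rfl
  have hφ : φ '' CfsgLib.Fi22USix.transClass = D := by
    refine Set.Subset.antisymm ?_ fun y hy => ?_
    · rintro - ⟨x, hx, rfl⟩
      exact hD.2.1 g _ (he ▸ ⟨x, hx, rfl⟩)
    · obtain ⟨x, hx, ex⟩ := he.symm ▸ hD.2.1 g⁻¹ y hy
      refine ⟨x, hx, ?_⟩
      show g * e x * g⁻¹ = y
      rw [ex]; group
  rw [hT]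
  exact CfsgLib.Fi22Syl.thompson_of_iso φ hD.1 hφ

end Cfsg.Agent.S5458
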