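import Cfsg.Statements.S5459
import Cfsg.Agent.Lib.Layer.Basic
-- import your own Cfsg.Agent.* helpers here

set_option autoImplicit false
open Cfsg CfsgLib
open scoped commutatorElement

namespace Cfsg.Agent.S5459

/-- Let G be a finite group with a quasisimple normal subgroup L and an involution d such that G is generated by L and d, the centre of L has odd order, and d inverts every element of the centre of L. If the commuting graph on the conjugacy class of the image of d in G modulo the centre of L is connected, then the commuting graph on the conjugacy class of d is connected. -/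
theorem result {G : Type*} [Group G] [Finite G] (L : Subgroup G) [L.Normal] (hL : Cfsg.IsQuasisimple ↥L) (d : G) (hd : orderOf d = 2) (hgen : L ⊔ Subgroup.zpowers d = ⊤) (hodd : Odd (Nat.card ↥(Subgroup.center ↥L))) (hinv : ∀ c ∈ (Subgroup.center ↥L).map L.subtype, d * c * d⁻¹ = c⁻¹) [hn : ((Subgroup.center ↥L).map L.subtype).Normal] (hconn : (Cfsg.commutingGraph (conjugatesOf (QuotientGroup.mk d : G ⧸ (Subgroup.center ↥L).map L.subtype))).Connected) : (Cfsg.commutingGraph (conjugatesOf d)).Connected := by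
  classical
  set Z := (Subgroup.center ↥L).map L.subtype with hZdef
  have hZL : Z ≤ L := Subgroup.map_subtype_le _
  have hZc : ∀ z ∈ Z, ∀ l ∈ L, z * l = l * z := by
    rintro _ ⟨c, hc, rfl⟩ l hl
    exact (congrArg Subtype.val (Subgroup.mem_center_iff.mp hc ⟨l, hl⟩)).symm
  have : Group.IsPerfect L := hL.1
  have hLL : ⁅L, L⁆ = L := Subgroup.isPerfect_iff.mp hL.1
  let D := conjugatesOf d
  have hd2 : d * d = 1 := by
    have := orderOf_dvd_iff_pow_eq_one.mp (dvd_of_eq hd); rwa [pow_two] at this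
  have hDe : ∀ e ∈ D, e * e = 1 ∧ ∀ z ∈ Z, e * z * e⁻¹ = z⁻¹ := by
    intro e he
    obtain ⟨g, rfl⟩ := isConj_iff.mp he
    refine ⟨by rw [show g * d * g⁻¹ * (g * d * g⁻¹) = g * (d * d) * g⁻¹ by group, hd2]; group, fun z hz => ?_⟩
    have h := hinv _ (show g⁻¹ * z * g ∈ Z by simpa using hn.conj_mem z hz g⁻¹)
    calc g * d * g⁻¹ * z * (g * d * g⁻¹)⁻¹ = g * (d * (g⁻¹ * z * g) * d⁻¹) * g⁻¹ := by group
      _ = g * (g⁻¹ * z * g)⁻¹ * g⁻¹ := by rw [h]
      _ = z⁻¹ := by group
  have hDconj : ∀ g e, e ∈ D → g * e * g⁻¹ ∈ D := fun g e he =>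
    IsConj.trans he (isConj_iff.mpr ⟨g, rfl⟩)
  have hDz : ∀ e ∈ D, ∀ z ∈ Z, e * (z * z) ∈ D := fun e he z hz => by
    have h := hDconj z⁻¹ e he
    have h1 : e⁻¹ = e := inv_eq_of_mul_eq_one_left (hDe e he).1
    rwa [inv_inv, show z⁻¹ * e * z = e * (z * z) by
      calc z⁻¹ * e * z = (e * z * e⁻¹) * e * z := by rw [(hDe e he).2 z hz]
        _ = e * (z * z) := by group] at h
  have hsqrt : ∀ z ∈ Z, ∃ w ∈ Z, w * w = z := by
    rintro _ ⟨c, hc, rfl⟩
    obtain ⟨t, ht⟩ := hodd
    refine ⟨L.subtype (c ^ (t + 1)), Subgroup.mem_map_of_mem _ (pow_mem hc _), ?_⟩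
    rw [← map_mul, ← pow_add]
    have h := congrArg Subtype.val (pow_card_eq_one' (x := (⟨c, hc⟩ : Subgroup.center L)))
    rw [Subgroup.coe_pow, ht] at h
    rw [show t + 1 + (t + 1) = 2 * t + 1 + 1 by ring, pow_succ, h, Subgroup.coe_one, one_mul]
  let Gr := commutingGraph D
  let f : G →* G ⧸ Z := QuotientGroup.mk' Z
  have hd0 : d ∈ D := mem_conjugatesOf_self
  have hadj : ∀ a b : D, Commute (a : G) b → Gr.Reachable a b := fun a b h => by
    by_cases hab : a = b
    · exact hab ▸ SimpleGraph.Reachable.refl a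
    · exact SimpleGraph.Adj.reachable ((SimpleGraph.fromRel_adj _ a b).mpr ⟨hab, Or.inl h⟩)
  let cj : G → D → D := fun g a => ⟨g * a * g⁻¹, hDconj g a a.2⟩
  have hcj : ∀ g a b, Gr.Reachable a b → Gr.Reachable (cj g a) (cj g b) := by
    intro g a b h
    obtain ⟨w⟩ := h
    induction w with
    | nil => exact SimpleGraph.Reachable.refl _
    | @cons u v x huv _ ih =>
      refine SimpleGraph.Reachable.trans (hadj _ _ ?_) ih
      have : Commute (u : G) v := ((SimpleGraph.fromRel_adj _ u v).mp huv).2.elim id Commute.symm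
      show g * u * g⁻¹ * (g * v * g⁻¹) = g * v * g⁻¹ * (g * u * g⁻¹)
      calc g * (u : G) * g⁻¹ * (g * v * g⁻¹) = g * ((u : G) * v) * g⁻¹ := by group
        _ = g * ((v : G) * u) * g⁻¹ := by rw [this.eq]
        _ = _ := by group
  let d₀ : D := ⟨d, hd0⟩
  let H : Subgroup G :=
    { carrier := {g | Gr.Reachable d₀ (cj g d₀)}
      one_mem' := by
        show Gr.Reachable d₀ (cj 1 d₀)
        rw [show cj 1 d₀ = d₀ from Subtype.ext (by simp [cj])]
      mul_mem' := fun {g k} hg hk => by
        show Gr.Reachable d₀ (cj (g * k) d₀)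
        rw [show cj (g * k) d₀ = cj g (cj k d₀) from Subtype.ext (by simp [cj]; group)]
        exact SimpleGraph.Reachable.trans hg (hcj g _ _ hk)
      inv_mem' := fun {g} hg => by
        have h := hcj g⁻¹ _ _ hg
        rw [show cj g⁻¹ (cj g d₀) = d₀ from Subtype.ext (by simp [cj]; group)] at h
        exact h.symm }
  have hCH : ∀ b : D, Gr.Reachable d₀ b → (b : G) ∈ H := fun b hb => by
    show Gr.Reachable d₀ (cj b d₀)
    have h := hcj b _ _ hb
    rw [show cj (b : G) b = b from Subtype.ext (by simp [cj])] at h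
    exact hb.trans h.symm
  -- lifting of the quotient graph
  have hlift : ∀ ebar : conjugatesOf (QuotientGroup.mk d : G ⧸ Z), ∃ b : D, Gr.Reachable d₀ b ∧ f b = ebar := by
    intro ebar
    obtain ⟨w⟩ := hconn.preconnected ⟨_, mem_conjugatesOf_self⟩ ebar
    suffices H' : ∀ (u v : conjugatesOf (QuotientGroup.mk d : G ⧸ Z)),
        (commutingGraph (conjugatesOf (QuotientGroup.mk d : G ⧸ Z))).Walk u v →
        ∀ a : D, Gr.Reachable d₀ a → f a = u → ∃ b : D, Gr.Reachable d₀ b ∧ f b = v from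
      H' _ _ w d₀ (SimpleGraph.Reachable.refl _) rfl
    intro u v w
    induction w with
    | nil => exact fun a ha hu => ⟨a, ha, hu⟩
    | @cons u v x huv _ ih =>
      intro a ha hu
      obtain ⟨g, hg⟩ := isConj_iff.mp v.2
      obtain ⟨g, rfl⟩ := QuotientGroup.mk_surjective g
      let b : G := g * d * g⁻¹
      have hbD : b ∈ D := hDconj g d hd0
      have hfb : f b = v := hg
      have hcomm : Commute (f a) (f b) := by
        rw [hu, hfb]; exact ((SimpleGraph.fromRel_adj _ u v).mp huv).2.elim id Commute.symm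
      have hz : (a : G) * b * ((a : G) * b) ∈ Z := by
        rw [← QuotientGroup.eq_one_iff]
        show f ((a : G) * b * ((a : G) * b)) = 1
        rw [map_mul, map_mul]
        nth_rewrite 2 [hcomm.eq]
        rw [mul_assoc, ← mul_assoc (f b), ← map_mul f b b, (hDe b hbD).1, map_one, one_mul, ← map_mul,
          (hDe a a.2).1, map_one]
      obtain ⟨w₁, hw₁, hw₁'⟩ := hsqrt _ (inv_mem hz)
      obtain ⟨w₂, hw₂, hw₂'⟩ := hsqrt _ hw₁
      let b' : D := ⟨b * (w₂ * w₂), hDz b hbD w₂ hw₂⟩
      refine ih b' (ha.trans (hadj _ _ ?_)) ?_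
      · show (a : G) * (b * (w₂ * w₂)) = b * (w₂ * w₂) * a
        rw [hw₂']
        have hfix : (a : G) * b * w₁ = w₁ * ((a : G) * b) := by
          have h1 := (hDe b hbD).2 w₁ hw₁
          have h2 := (hDe a a.2).2 w₁⁻¹ (inv_mem hw₁)
          rw [inv_inv] at h2
          calc (a : G) * b * w₁ = a * (b * w₁ * b⁻¹) * (a : G)⁻¹ * (a * b) := by group
            _ = w₁ * (a * b) := by rw [h1, h2]
        have hone : (a : G) * (b * w₁) * ((a : G) * (b * w₁)) = 1 := by
          calc (a : G) * (b * w₁) * ((a : G) * (b * w₁)) = (a : G) * b * (w₁ * (a * b)) * w₁ := by group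
            _ = (a : G) * b * ((a : G) * b * w₁) * w₁ := by rw [hfix]
            _ = ((a : G) * b * (a * b)) * (w₁ * w₁) := by group
            _ = 1 := by rw [hw₁']; group
        have hb'2 : b * w₁ * (b * w₁) = 1 := by rw [← hw₂']; exact (hDe _ b'.2).1
        have e := inv_eq_of_mul_eq_one_right hone
        calc (a : G) * (b * w₁) = ((a : G) * (b * w₁))⁻¹ := e.symm
          _ = (b * w₁)⁻¹ * (a : G)⁻¹ := mul_inv_rev _ _
          _ = b * w₁ * a := by rw [inv_eq_of_mul_eq_one_left hb'2, inv_eq_of_mul_eq_one_left (hDe a a.2).1]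
      · show f (b * (w₂ * w₂)) = v
        rw [map_mul, show f (w₂ * w₂) = 1 from (QuotientGroup.eq_one_iff _).mpr (mul_mem hw₂ hw₂), mul_one, hfb]
  let K := Subgroup.normalClosure ({d} : Set G)
  have hK : K ≤ H ⊔ Z := by
    refine (Subgroup.closure_le _).mpr fun e he => ?_
    obtain ⟨a, rfl, he'⟩ := Group.mem_conjugatesOfSet_iff.mp he
    obtain ⟨b, hb, hfb⟩ := hlift ⟨f e, by
      obtain ⟨g, rfl⟩ := isConj_iff.mp he'
      exact isConj_iff.mpr ⟨f g, by simp [f]⟩⟩
    have hze : (b : G)⁻¹ * e ∈ Z := QuotientGroup.eq.mp hfb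
    have := Subgroup.mul_mem_sup (hCH b hb) hze
    rwa [mul_inv_cancel_left] at this
  have hKL : L ≤ H ∨ ∀ g, g * d = d * g := by
    rcases Layer.eq_top_or_le_center_of_normal hL (K.subgroupOf L) with h | h
    · left
      have hLK : L ≤ H ⊔ Z := (Subgroup.subgroupOf_eq_top.mp h).trans hK
      rw [← hLL, Subgroup.commutator_le]
      have hsplit : ∀ l ∈ L, ∃ k ∈ H, k ∈ L ∧ ∃ z ∈ Z, l = k * z := fun l hl => by
        obtain ⟨k, hk, z, hz, e⟩ := Subgroup.mem_sup_of_normal_right.mp (hLK hl)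
        exact ⟨k, hk, by rw [eq_mul_inv_of_mul_eq e]; exact mul_mem hl (inv_mem (hZL hz)), z, hz, e.symm⟩
      intro a ha b hb
      obtain ⟨a', ha', haL, x, hx, rfl⟩ := hsplit a ha
      obtain ⟨b', hb', hbL, y, hy, rfl⟩ := hsplit b hb
      rw [show ⁅a' * x, b' * y⁆ = ⁅a', b'⁆ by
        rw [commutatorElement_mul_left_eq_conj_mul,
          commutatorElement_eq_one_iff_mul_comm.mpr (hZc x hx _ hb), mul_one, mul_inv_cancel, one_mul,
          commutatorElement_mul_right_eq_mul_conj,
          commutatorElement_eq_one_iff_mul_comm.mpr (hZc y hy a' haL).symm, mul_one, mul_assoc, mul_inv_cancel, mul_one]]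
      exact mul_mem (mul_mem (mul_mem ha' hb') (inv_mem ha')) (inv_mem hb')
    · right
      have hmove : ∀ l ∈ L, ∃ z ∈ Z, d * l * d⁻¹ = l * z := fun l hl => by
        refine ⟨l⁻¹ * (d * l * d⁻¹), ?_, by group⟩
        have hmem : l⁻¹ * (d * l * d⁻¹) ∈ L := mul_mem (inv_mem hl) (‹L.Normal›.conj_mem l hl d)
        have hmemK : l⁻¹ * (d * l * d⁻¹) ∈ K := by
          have hdK : d ∈ K := Subgroup.subset_normalClosure rfl
          have hd' : l⁻¹ * d * l ∈ K := by
            have := Subgroup.normalClosure_normal.conj_mem d hdK l⁻¹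
            rwa [inv_inv] at this
          have := mul_mem hd' (inv_mem hdK)
          rwa [show l⁻¹ * d * l * d⁻¹ = l⁻¹ * (d * l * d⁻¹) by group] at this
        exact Subgroup.mem_map.mpr ⟨⟨_, hmem⟩, h (Subgroup.mem_subgroupOf.mpr hmemK), rfl⟩
      have hcen : L ≤ Subgroup.centralizer {d} := by
        conv_lhs => rw [← hLL]
        rw [Subgroup.commutator_le]
        intro a ha b hb
        rw [Subgroup.mem_centralizer_singleton_iff]
        obtain ⟨x, hx, hxa⟩ := hmove a ha
        obtain ⟨y, hy, hyb⟩ := hmove b hb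
        have e : d * ⁅a, b⁆ * d⁻¹ = ⁅a, b⁆ := by
          rw [show d * ⁅a, b⁆ * d⁻¹ = ⁅d * a * d⁻¹, d * b * d⁻¹⁆ by simp only [commutatorElement_def]; group,
            hxa, hyb, commutatorElement_mul_left_eq_conj_mul,
            commutatorElement_eq_one_iff_mul_comm.mpr (hZc x hx _ (mul_mem hb (hZL hy))), mul_one, mul_inv_cancel, one_mul,
            commutatorElement_mul_right_eq_mul_conj,
            commutatorElement_eq_one_iff_mul_comm.mpr (hZc y hy a ha).symm, mul_one, mul_assoc, mul_inv_cancel, mul_one]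
        calc ⁅a, b⁆ * d = (d * ⁅a, b⁆ * d⁻¹) * d := by rw [e]
          _ = _ := by group
      intro g
      have hall : L ⊔ Subgroup.zpowers d ≤ Subgroup.centralizer {d} :=
        sup_le hcen (Subgroup.zpowers_le.mpr (Subgroup.mem_centralizer_singleton_iff.mpr rfl))
      exact Subgroup.mem_centralizer_singleton_iff.mp (hall (hgen ▸ Subgroup.mem_top g))
  have : Nonempty D := ⟨d₀⟩
  have hreach : ∀ e : D, Gr.Reachable d₀ e := by
    intro e
    obtain ⟨g, hg⟩ := isConj_iff.mp e.2
    rcases hKL with h | h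
    · have hdH : d ∈ H := hCH d₀ (SimpleGraph.Reachable.refl _)
      have hgH : g ∈ H := (sup_le h (Subgroup.zpowers_le.mpr hdH)) (hgen ▸ Subgroup.mem_top g)
      have hr : Gr.Reachable d₀ (cj g d₀) := hgH
      rwa [show cj g d₀ = e from Subtype.ext hg] at hr
    · rw [show e = d₀ from Subtype.ext (by show (e : G) = d; rw [← hg, h g, mul_inv_cancel_right])]
  exact SimpleGraph.Connected.mk fun a b => (hreach a).symm.trans (hreach b)

end Cfsg.Agent.S5459
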