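import Cfsg.Statements.S5464
import Cfsg.Agent.Lib.ThreeTransp.RelationsType

set_option autoImplicit false
open Cfsg

namespace Cfsg.Agent.S5464

open CfsgLib.ThreeTransp CfsgLib.ThreeTransp.Relations

theorem six {G : Type*} [Group G] [Finite G] {D : Set G} (hD : Cfsg.IsThreeTranspositionGroup D)
    (hprim : Cfsg.IsPrimitiveUnderConj D) {d₀ : G} (hd₀ : d₀ ∈ D)
    (h3 : Cfsg.pCore 3 ↥(perpGroup D d₀) ≤ Subgroup.center ↥(perpGroup D d₀))
    (h2 : Cfsg.pCore 2 ↥(perpGroup D d₀) ≤ Subgroup.center ↥(perpGroup D d₀))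
    (h : Cfsg.IsOfTypeM23 G D ∨ Cfsg.IsOfTypeM24 G D) :
    Sep D ∧ ∀ l : List G, l.length = 6 → (∀ y ∈ l, y ∈ D) → l.Nodup →
      (∀ x ∈ l, ∀ y ∈ l, Commute x y) → l.prod ≠ 1 := by
  haveI : Fact (Nat.Prime 2) := ⟨Nat.prime_two⟩
  obtain ⟨hcl, hD2⟩ := class_of_primitive hD hprim
  have hZ : Subgroup.center G = ⊥ := h.elim (fun h => h.1) (fun h => h.1)
  have hO : Cfsg.pCore 2 G = ⊥ := le_bot_iff.mp (hZ ▸ pCore_two_le_center hD hprim)
  have hsep : Sep D := sep_of_pCore hD.1 hD.2.1 hO
  refine ⟨hsep, ?_⟩
  rcases h with ⟨-, d, hd, c, -, -, hX, -⟩ | ⟨-, d, hd, c, -, -, hX, -⟩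
  · obtain ⟨hZX, d', hd', c', -, hdc, ⟨F, iF, iFt, hF, ⟨e⟩⟩, -⟩ := id hX
    have hne : ∃ x y : ↥(perpGroup D d), ¬ Commute x y := by
      obtain ⟨x, hx⟩ := QuotientGroup.mk_surjective d'
      obtain ⟨y, hy⟩ := QuotientGroup.mk_surjective c'
      exact ⟨x, y, fun hxy => hdc (hx ▸ hy ▸ hxy.map (proj D d))⟩
    have hXc := perpImage_isClass hcl hprim hsep hd hne
    have hXsep : Sep (perpImage D d) := sep_of_pCore hXc.1 (class_conjClosed hXc)
      (pCore_perpQuot hcl (pCore_perp_transport hcl hd₀ hd h2) (pCore_perp_transport hcl hd₀ hd h3) 2)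
    obtain ⟨K⟩ := CfsgLib.Classical.Herm.exists_conj_of_card (F := F) (q := 2) (by rw [hF]; norm_num)
    haveI : IsSimpleGroup (Cfsg.PSU 6 F 2) := by
      obtain ⟨p, _⟩ := CharP.exists F
      obtain ⟨k, hp, -⟩ := FiniteField.card F p
      have := Fact.mk hp
      exact CfsgLib.Classical.Herm.isSimpleGroup K p (by norm_num) (by norm_num)
    haveI : Nontrivial (PerpQuot (perpImage D d) d') := e.toEquiv.nontrivial
    haveI : IsSimpleGroup (PerpQuot (perpImage D d) d') :=
      IsSimpleGroup.isSimpleGroup_of_surjective e.symm.toMonoidHom e.symm.surjective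
    have hne' : ∃ x y : ↥(perpGroup (perpImage D d) d'), ¬ Commute x y :=
      not_commutative_of_simple_quotient
    have hgrp := perpImage_isGroup hXc hXsep hd'
    have hX' : Sep (perpImage (perpImage D d) d') := by
      refine sep_of_pCore hgrp.1 hgrp.2.1 (pCore_two_eq_bot_of_simple ?_)
      by_contra! hcomm
      obtain ⟨x, y, hxy⟩ := hne'
      have hcyc : IsCyclic (PerpQuot (perpImage D d) d') :=
        letI : CommGroup (PerpQuot (perpImage D d) d') :=
          { (inferInstance : Group (PerpQuot (perpImage D d) d')) with mul_comm := fun a b => (hcomm a b).eq }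
        IsSimpleGroup.isCyclic
      exact hxy (commutative_of_cyclic_center_quotient (QuotientGroup.mk' _)
        (le_of_eq (QuotientGroup.ker_mk' _)) x y)
    exact no_six hcl hsep hd hXc hXsep hd' hX'
  · obtain ⟨hZX, d', hd', c', -, hdc, hX22, -⟩ := id hX
    have hne : ∃ x y : ↥(perpGroup D d), ¬ Commute x y := by
      obtain ⟨x, hx⟩ := QuotientGroup.mk_surjective d'
      obtain ⟨y, hy⟩ := QuotientGroup.mk_surjective c'
      exact ⟨x, y, fun hxy => hdc (hx ▸ hy ▸ hxy.map (proj D d))⟩
    have hXc := perpImage_isClass hcl hprim hsep hd hne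
    have h2d := pCore_perp_transport hcl hd₀ hd h2
    have h3d := pCore_perp_transport hcl hd₀ hd h3
    have hXsep : Sep (perpImage D d) :=
      sep_of_pCore hXc.1 (class_conjClosed hXc) (pCore_perpQuot hcl h2d h3d 2)
    obtain ⟨-, d'', -, c'', -, hdc', -, -⟩ := id hX22
    have hne' : ∃ x y : ↥(perpGroup (perpImage D d) d'), ¬ Commute x y := by
      obtain ⟨x, hx⟩ := QuotientGroup.mk_surjective d''
      obtain ⟨y, hy⟩ := QuotientGroup.mk_surjective c''
      exact ⟨x, y, fun hxy => hdc' (hx ▸ hy ▸ hxy.map (proj (perpImage D d) d'))⟩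
    have hXprim := perpQuot_primitive hcl hprim hsep hd hne h2d h3d hd' hne'
    have hXc' := perpImage_isClass hXc hXprim hXsep hd' hne'
    have hX' : Sep (perpImage (perpImage D d) d') :=
      sep_of_pCore hXc'.1 (class_conjClosed hXc') (pCore_two_of_typeM22 hXc' hX22)
    exact no_six hcl hsep hd hXc hXsep hd' hX'

/-- Let G be a finite group with trivial centre generated by a conjugation-invariant set D of 3-transpositions on which it acts primitively, such that for some d in D the subgroup generated by the members of D other than d commuting with d has central largest normal 2- and 3-subgroups, and suppose G with D is of type M(23) or of type M(24). Then for m ≤ 3, a product of m distinct pairwise commuting members of D determines the set of factors: any two m-element sets of pairwise commuting members of D with the same product coincide. -/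
theorem result {G : Type*} [Group G] [Finite G] {D : Set G} (hD : Cfsg.IsThreeTranspositionGroup D) (hprim : Cfsg.IsPrimitiveUnderConj D) (d₀ : G) (hd₀ : d₀ ∈ D) (h3 : Cfsg.pCore 3 ↥(Subgroup.closure {y : G | y ∈ D ∧ y ≠ d₀ ∧ Commute d₀ y}) ≤ Subgroup.center ↥(Subgroup.closure {y : G | y ∈ D ∧ y ≠ d₀ ∧ Commute d₀ y})) (h2 : Cfsg.pCore 2 ↥(Subgroup.closure {y : G | y ∈ D ∧ y ≠ d₀ ∧ Commute d₀ y}) ≤ Subgroup.center ↥(Subgroup.closure {y : G | y ∈ D ∧ y ≠ d₀ ∧ Commute d₀ y})) (h : Cfsg.IsOfTypeM23 G D ∨ Cfsg.IsOfTypeM24 G D) (m : ℕ) (hm : m ≤ 3) (j : G) (l l' : List G) (hl : (l.Nodup ∧ l.length = m ∧ (∀ a ∈ l, a ∈ D) ∧ (∀ a ∈ l, ∀ b ∈ l, Commute a b) ∧ l.prod = j)) (hl' : (l'.Nodup ∧ l'.length = m ∧ (∀ a ∈ l', a ∈ D) ∧ (∀ a ∈ l', ∀ b ∈ l', Commute a b) ∧ l'.prod = j)) : (∀ x : G, x ∈ l ↔ x ∈ l') := by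
  classical
  obtain ⟨hsep, hsix⟩ := six hD hprim hd₀ h3 h2 h
  have hS := hD.1
  -- peel a common member
  have peel : ∀ {l : List G} {x : G}, x ∈ l → (∀ a ∈ l, ∀ b ∈ l, Commute a b) →
      x * (l.erase x).prod = l.prod := fun {l x} hx hc => by
    rw [← List.prod_cons]
    refine (List.Perm.prod_eq' (List.perm_cons_erase hx) ?_).symm
    exact List.pairwise_of_forall_mem_list (fun a ha b hb => hc a ha b hb)
  induction m generalizing j l l' with
  | zero =>
    intro x
    rw [List.length_eq_zero_iff.mp hl.2.1, List.length_eq_zero_iff.mp hl'.2.1]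
  | succ m ih =>
    by_cases hcommon : ∃ x ∈ l, x ∈ l'
    · obtain ⟨x, hx, hx'⟩ := hcommon
      have hrec := ih (by omega) ((l.erase x).prod) (l.erase x) (l'.erase x)
        ⟨hl.1.erase x, by rw [List.length_erase_of_mem hx, hl.2.1]; rfl,
          fun a ha => hl.2.2.1 a (List.mem_of_mem_erase ha),
          fun a ha b hb => hl.2.2.2.1 a (List.mem_of_mem_erase ha) b (List.mem_of_mem_erase hb), rfl⟩
        ⟨hl'.1.erase x, by rw [List.length_erase_of_mem hx', hl'.2.1]; rfl,
          fun a ha => hl'.2.2.1 a (List.mem_of_mem_erase ha),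
          fun a ha b hb => hl'.2.2.2.1 a (List.mem_of_mem_erase ha) b (List.mem_of_mem_erase hb),
          mul_left_cancel (a := x) (by
            rw [peel hx' hl'.2.2.2.1, peel hx hl.2.2.2.1, hl.2.2.2.2, hl'.2.2.2.2])⟩
      intro y
      by_cases hy : y = x
      · subst hy; exact iff_of_true hx hx'
      · have := hrec y
        rwa [List.mem_erase_of_ne hy, List.mem_erase_of_ne hy] at this
    · exfalso
      push Not at hcommon
      obtain ⟨hnd, hlen, hmem, hcomm, hprod⟩ := hl
      obtain ⟨hnd', hlen', hmem', hcomm', hprod'⟩ := hl'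
      have hj' : ∀ y ∈ l', Commute y j := fun y hy => by
        rw [← hprod']
        exact Commute.list_prod_right _ _ fun z hz => hcomm' y hy z hz
      rcases m with _ | _ | _ | m
      · -- one factor
        obtain ⟨a, rfl⟩ := List.length_eq_one_iff.mp hlen
        obtain ⟨b, rfl⟩ := List.length_eq_one_iff.mp hlen'
        simp only [List.prod_singleton] at hprod hprod'
        exact hcommon a (by simp) (by simp [hprod, hprod'])
      · obtain ⟨a, b, rfl⟩ := List.length_eq_two.mp hlen
        obtain ⟨e, f, rfl⟩ := List.length_eq_two.mp hlen'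
        simp only [List.prod_cons, List.prod_nil, mul_one] at hprod hprod'
        simp only [List.nodup_cons, List.mem_cons, List.not_mem_nil, or_false, not_false_eq_true,
          List.nodup_nil, and_true] at hnd hnd'
        simp only [List.mem_cons, List.not_mem_nil, or_false, forall_eq_or_imp, forall_eq, not_or] at hmem hmem' hcomm hcomm' hcommon hj'
        have hev : ∀ y, y ∈ D → Commute y j → Commute a y ∧ Commute b y := fun y hy h => by
          obtain ⟨p, q⟩ := (commute_mul_iff hS hmem.1 hmem.2 hy hnd).mp (hprod ▸ h)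
          exact ⟨p.symm, q.symm⟩
        refine mul_four_ne_one hS hsep hmem.1 hmem.2 hmem'.1 hmem'.2 hnd hcommon.1.1 hcommon.1.2
          hcommon.2.1 hcommon.2.2 hnd' hcomm.1.2 (hev e hmem'.1 hj'.1).1 (hev f hmem'.2 hj'.2).1
          (hev e hmem'.1 hj'.1).2 (hev f hmem'.2 hj'.2).2 hcomm'.1.2 ?_
        rw [mul_assoc, hprod', ← hprod, hcomm.1.2.symm.mul_mul_mul_comm,
          mul_self_eq_one hS hmem.1, mul_self_eq_one hS hmem.2, mul_one]
      · obtain ⟨a, b, c, rfl⟩ := List.length_eq_three.mp hlen
        obtain ⟨e, f, g, rfl⟩ := List.length_eq_three.mp hlen'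
        simp only [List.prod_cons, List.prod_nil, mul_one] at hprod hprod'
        simp only [List.nodup_cons, List.mem_cons, List.not_mem_nil, or_false, not_false_eq_true,
          List.nodup_nil, and_true, not_or] at hnd
        have hcm : ∀ x ∈ [a, b, c], ∀ y ∈ [e, f, g], Commute x y := by
          intro x hx y hy
          have := (commute_mul_three_iff hS (hmem a (by simp)) (hmem b (by simp)) (hmem c (by simp))
            (hmem' y hy) hnd.1.1 hnd.1.2 hnd.2 (hcomm a (by simp) b (by simp))
            (hcomm a (by simp) c (by simp)) (hcomm b (by simp) c (by simp))).mp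
            (by rw [mul_assoc, hprod]; exact hj' y hy)
          simp only [List.mem_cons, List.not_mem_nil, or_false] at hx
          rcases hx with rfl | rfl | rfl
          exacts [this.1.symm, this.2.1.symm, this.2.2.symm]
        have hnd2 : ([a, b, c] ++ [e, f, g]).Nodup := List.nodup_append.mpr
          ⟨by simp [hnd.1.1, hnd.1.2, hnd.2], hnd', fun x hx y hy hxy => hcommon x hx (hxy ▸ hy)⟩
        refine hsix ([a, b, c] ++ [e, f, g]) rfl ?_ hnd2 ?_ ?_
        · intro y hy
          rcases List.mem_append.mp hy with hy | hy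
          exacts [hmem y hy, hmem' y hy]
        · intro x hx y hy
          rcases List.mem_append.mp hx with hx | hx <;> rcases List.mem_append.mp hy with hy | hy
          exacts [hcomm x hx y hy, hcm x hx y hy, (hcm y hy x hx).symm, hcomm' x hx y hy]
        · have ha := hmem a (by simp)
          have hb := hmem b (by simp)
          have hc' := hmem c (by simp)
          have hab : Commute a (b * c) := (hcomm a (by simp) b (by simp)).mul_right (hcomm a (by simp) c (by simp))
          have hbc : Commute b c := hcomm b (by simp) c (by simp)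
          rw [List.prod_append]
          simp only [List.prod_cons, List.prod_nil, mul_one]
          rw [hprod', ← hprod, hab.symm.mul_mul_mul_comm, hbc.symm.mul_mul_mul_comm,
            mul_self_eq_one hS ha, mul_self_eq_one hS hb, mul_self_eq_one hS hc', mul_one, mul_one]
      · omega

end Cfsg.Agent.S5464
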