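import Cfsg.Statements.S5468
import Cfsg.Agent.Lib.Fi23Cent.OfType
import Cfsg.Agent.Lib.Fi23Inv.Transport
import Cfsg.Agent.Lib.Fi23Inv.PairCent
-- import your own Cfsg.Agent.* helpers here

set_option autoImplicit false
open Cfsg

namespace Cfsg.Agent.S5468

/-- Let G be a finite group with trivial centre generated by a conjugation-invariant set D of 3-transpositions on which it acts primitively, such that for some d in D the subgroup generated by the members of D other than d commuting with d has central largest normal 2- and 3-subgroups, and suppose G with D is of type M(23). Let d₁, d₂ be distinct commuting members of D, j = d₁ d₂, K the joint centralizer of d₁ and d₂ and C the centralizer of j. Then K has index 2 in C, the centre of K is the subgroup generated by d₁ and d₂, K is quasisimple with K modulo its centre isomorphic to the projective special unitary group of dimension 6 over the field with four elements, and C modulo the subgroup generated by d₁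 and d₂ has trivial centre (so it is that unitary group extended by an outer involution). -/
theorem result {G : Type*} [Group G] [Finite G] {D : Set G} (hD : Cfsg.IsThreeTranspositionGroup D) (hprim : Cfsg.IsPrimitiveUnderConj D) (d₀ : G) (hd₀ : d₀ ∈ D) (h3 : Cfsg.pCore 3 ↥(Subgroup.closure {y : G | y ∈ D ∧ y ≠ d₀ ∧ Commute d₀ y}) ≤ Subgroup.center ↥(Subgroup.closure {y : G | y ∈ D ∧ y ≠ d₀ ∧ Commute d₀ y})) (h2 : Cfsg.pCore 2 ↥(Subgroup.closure {y : G | y ∈ D ∧ y ≠ d₀ ∧ Commute d₀ y}) ≤ Subgroup.center ↥(Subgroup.closure {y : G | y ∈ D ∧ y ≠ d₀ ∧ Commute d₀ y})) (h23 : Cfsg.IsOfTypeM23 G D) (d₁ d₂ : G) (h₁ : d₁ ∈ D) (h₂ : d₂ ∈ D) (hne : d₁ ≠ d₂) (hc : Commute d₁ d₂) (K C V : Subgroup G) (hK : K = Subgroup.centralizer ({d₁, d₂} : Set G)) (hC : C = Subgroup.centralizer ({d₁ * d₂} : Set G)) (hV : V = Subgroup.closure ({d₁, d₂} : Set G)) [hn : (V.subgroupOf C).Normal] : K ≤ C ∧ (K.subgroupOf C).index = 2 ∧ (Subgroup.center ↥K).map K.subtype = V ∧ Cfsg.IsQuasisimple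 ↥K ∧ (∃ (F : Type) (_ : Field F) (_ : Fintype F), Fintype.card F = 4 ∧ Nonempty (↥K ⧸ Subgroup.center ↥K ≃* Cfsg.PSU 6 F 2)) ∧ Subgroup.center (↥C ⧸ V.subgroupOf C) = ⊥ := by
  classical
  obtain ⟨Φ, hΦ⟩ := CfsgLib.Fi23Cent.fi23_of_type hD hprim h23
  have hf : CfsgLib.Fi23Inv.Frame D [d₁, d₂] := by
    refine ⟨by simp [hne], by simp, by simp, ?_, ?_⟩
    · simp only [List.mem_cons, List.not_mem_nil, or_false]
      rintro a (rfl | rfl) <;> assumption
    · simp only [List.mem_cons, List.not_mem_nil, or_false]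
      rintro a (rfl | rfl) b (rfl | rfl)
      exacts [Commute.refl _, hc, hc.symm, Commute.refl _]
  have hf' : CfsgLib.Fi23Inv.Frame D [d₂, d₁] := by
    refine ⟨by simp [hne.symm], by simp, by simp, fun a ha => hf.mem a ?_,
      fun a ha b hb => hf.comm a ?_ b ?_⟩ <;> simp only [List.mem_cons] at * <;> tauto
  have h0 := CfsgLib.Fi23Inv.pair_frame.map Φ
  rw [hΦ] at h0
  obtain ⟨g, hg⟩ := CfsgLib.Fi23Inv.type_frame_conj Φ hΦ h0 hf rfl
  simp only [List.map_cons, List.map_nil, List.cons.injEq, and_true] at hg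
  let e : Cfsg.Spor.Fi23 ≃* G := Φ.trans (MulAut.conj g)
  have e1 : e CfsgLib.Fi23Pres.central = d₁ := hg.1
  have e2 : e (CfsgLib.Fi23Pres.gen 0) = d₂ := hg.2
  have hKmem : ∀ x : G, x ∈ K ↔ Commute x d₁ ∧ Commute x d₂ := fun x => by
    rw [hK, Subgroup.mem_centralizer_iff]
    refine ⟨fun h => ⟨(h _ (by simp)).symm, (h _ (by simp)).symm⟩, ?_⟩
    rintro ⟨a, b⟩ y (rfl | rfl)
    exacts [a.eq.symm, b.eq.symm]
  have hKmap : CfsgLib.Fi23Inv.pairK.map e.toMonoidHom = K := by
    ext x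
    rw [Subgroup.mem_map_equiv, CfsgLib.Fi23Inv.mem_pairK, hKmem, ← e1, ← e2]
    constructor
    · rintro ⟨a, b⟩
      exact ⟨by simpa using (show Commute _ _ from a).map e,
        by simpa using (show Commute _ _ from b).map e⟩
    · rintro ⟨a, b⟩
      exact ⟨(by simpa using a.map e.symm : Commute _ _).eq, (by simpa using b.map e.symm : Commute _ _).eq⟩
  let eK : CfsgLib.Fi23Inv.pairK ≃* K :=
    (CfsgLib.Fi23Inv.pairK.equivMapOfInjective e.toMonoidHom e.injective).trans (MulEquiv.subgroupCongr hKmap)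
  obtain ⟨hperf, hcen0, ⟨ψ⟩⟩ := CfsgLib.Fi23Inv.pairK_facts
  have hperfK : commutator K = ⊤ := by
    rw [commutator_def, ← Subgroup.map_top_of_surjective eK.toMonoidHom eK.surjective,
      ← Subgroup.map_commutator, ← commutator_def, hperf.commutator_eq_top]
  have hcK : (Subgroup.center CfsgLib.Fi23Inv.pairK).map eK.toMonoidHom = Subgroup.center K := by
    ext x
    rw [Subgroup.mem_map_equiv, Subgroup.mem_center_iff, Subgroup.mem_center_iff]
    constructor
    · intro hx y; apply eK.symm.injective; rw [map_mul, map_mul]; exact hx _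
    · intro hx y; apply eK.injective; rw [map_mul, map_mul, MulEquiv.apply_symm_apply]; exact hx _
  have hcV : (Subgroup.center K).map K.subtype = V := by
    rw [← hcK, Subgroup.map_map, show K.subtype.comp eK.toMonoidHom =
      e.toMonoidHom.comp CfsgLib.Fi23Inv.pairK.subtype from MonoidHom.ext fun x => rfl,
      ← Subgroup.map_map, hcen0, MonoidHom.map_closure, Set.image_pair, hV]
    change Subgroup.closure ({e _, e _} : Set G) = _
    rw [e1, e2]
  let ψK := (QuotientGroup.congr _ _ eK hcK).symm.trans ψ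
  haveI : IsSimpleGroup (Cfsg.PSU 6 CfsgLib.HePres.K4 2) := CfsgLib.Fi22USix.psu_simple
  have hVK : V ≤ K := hcV ▸ Subgroup.map_subtype_le _
  have hd₁ : d₁ ∈ K := hVK (hV ▸ Subgroup.subset_closure (by simp))
  have hKC : K ≤ C := fun x hx => by
    rw [hC, Subgroup.mem_centralizer_singleton_iff]
    exact (((hKmem x).mp hx).1.mul_right ((hKmem x).mp hx).2).eq
  -- an element of `C` fixes or exchanges the two transpositions
  have hperm : ∀ x ∈ C, (x * d₁ * x⁻¹ = d₁ ∧ x * d₂ * x⁻¹ = d₂) ∨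
      (x * d₁ * x⁻¹ = d₂ ∧ x * d₂ * x⁻¹ = d₁) := by
    intro x hx
    have hx' : x * (d₁ * d₂) = d₁ * d₂ * x :=
      Subgroup.mem_centralizer_singleton_iff.mp ((SetLike.ext_iff.mp hC _).mp hx)
    have hp : [d₁, d₂].prod = d₁ * d₂ := by simp
    have himg : MulAut.conj x '' D = D := by
      conv_rhs => rw [← hΦ, ← CfsgLib.Fi23Cent.conj_class (Φ.symm x), Set.image_image]
      rw [← hΦ, Set.image_image]
      exact Set.image_congr fun y _ => by simp
    have key : ∀ d ∈ [d₁, d₂], x * d * x⁻¹ ∈ [d₁, d₂] := by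
      intro d hd
      have hu := ((CfsgLib.Fi23Inv.type_frame_universal Φ hΦ hf d).mpr hd).map (MulAut.conj x)
      rw [himg, hp, MulAut.conj_apply, MulAut.conj_apply, hx', mul_inv_cancel_right, ← hp] at hu
      exact (CfsgLib.Fi23Inv.type_frame_universal Φ hΦ hf _).mp hu
    have k1 := key d₁ (by simp)
    have k2 := key d₂ (by simp)
    simp only [List.mem_cons, List.not_mem_nil, or_false] at k1 k2
    have hinj : x * d₁ * x⁻¹ ≠ x * d₂ * x⁻¹ := fun h => hne (by simpa using h)
    rcases k1 with a | a <;> rcases k2 with b | b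
    · exact absurd (a.trans b.symm) hinj
    · exact Or.inl ⟨a, b⟩
    · exact Or.inr ⟨a, b⟩
    · exact absurd (a.trans b.symm) hinj
  have hfix : ∀ x ∈ C, (x ∈ K ↔ x * d₁ * x⁻¹ = d₁) := by
    intro x hx
    rw [hKmem, mul_inv_eq_iff_eq_mul]
    refine ⟨fun h => h.1, fun h => ⟨h, ?_⟩⟩
    rcases hperm x hx with ⟨-, b⟩ | ⟨a, -⟩
    · exact mul_inv_eq_iff_eq_mul.mp b
    · exact absurd ((mul_inv_eq_iff_eq_mul.mpr h).symm.trans a) hne
  -- an element exchanging them
  obtain ⟨τ, hτ⟩ := CfsgLib.Fi23Inv.type_frame_conj Φ hΦ hf hf' rfl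
  simp only [List.map_cons, List.map_nil, List.cons.injEq, and_true, MulAut.conj_apply] at hτ
  have hτC : τ ∈ C := by
    rw [hC, Subgroup.mem_centralizer_singleton_iff, ← mul_inv_eq_iff_eq_mul]
    calc τ * (d₁ * d₂) * τ⁻¹ = (τ * d₁ * τ⁻¹) * (τ * d₂ * τ⁻¹) := by group
      _ = d₁ * d₂ := by rw [hτ.1, hτ.2]; exact hc.eq.symm
  refine ⟨hKC, ?_, hcV, ⟨⟨hperfK⟩, ψK.isSimpleGroup⟩,
    ⟨CfsgLib.HePres.K4, inferInstance, inferInstance, CfsgLib.HePres.K4.card_eq, ⟨ψK⟩⟩, ?_⟩
  · refine Subgroup.index_eq_two_iff.mpr ⟨⟨τ, hτC⟩, fun b => ?_⟩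
    simp only [Subgroup.mem_subgroupOf, Subgroup.coe_mul]
    rw [hfix _ b.2, hfix _ (mul_mem b.2 hτC)]
    have hb : (b : G) * τ * d₁ * ((b : G) * τ)⁻¹ = (b : G) * d₂ * (b : G)⁻¹ := by
      rw [← hτ.1]; group
    rw [hb]
    rcases hperm b b.2 with ⟨p, q⟩ | ⟨p, q⟩
    · exact Or.inr ⟨p, fun h => hne (h.symm.trans q)⟩
    · exact Or.inl ⟨q, fun h => hne (h.symm.trans p)⟩
  · rw [eq_bot_iff]
    intro q hq
    obtain ⟨x, rfl⟩ := QuotientGroup.mk_surjective q
    rw [Subgroup.mem_bot, QuotientGroup.eq_one_iff, Subgroup.mem_subgroupOf]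
    have hcomm : ∀ k : K, (x : G) * k * (x : G)⁻¹ * (k : G)⁻¹ ∈ V := by
      intro k
      have h := Subgroup.mem_center_iff.mp hq (QuotientGroup.mk ⟨k, hKC k.2⟩)
      rw [← QuotientGroup.mk_mul, ← QuotientGroup.mk_mul, eq_comm, ← mul_inv_eq_one,
        ← QuotientGroup.mk_inv, ← QuotientGroup.mk_mul, QuotientGroup.eq_one_iff,
        Subgroup.mem_subgroupOf] at h
      simpa [mul_assoc] using h
    -- the map `k ↦ [x, k]` into the centre of the perfect group `K` is trivial
    have hcent : ∀ k : K, ∀ v ∈ V, v * (k : G) = k * v := by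
      intro k v hv
      rw [← hcV] at hv
      obtain ⟨u, hu, rfl⟩ := hv
      exact (congrArg Subtype.val (Subgroup.mem_center_iff.mp hu k)).symm
    let χ : K →* V := MonoidHom.mk' (fun k => ⟨_, hcomm k⟩) fun a b => Subtype.ext (by
      simp only [Subgroup.coe_mul]
      calc (x : G) * (a * b) * (x : G)⁻¹ * ((a : G) * b)⁻¹
          = ((x : G) * a * (x : G)⁻¹ * (a : G)⁻¹) *
              (a * ((x : G) * b * (x : G)⁻¹ * (b : G)⁻¹) * (a : G)⁻¹) := by group
        _ = _ := by rw [← hcent a _ (hcomm b), mul_inv_cancel_right])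
    have hχ : ∀ k : K, (x : G) * k = k * x := by
      intro k
      have hle : commutator K ≤ χ.ker := by
        rw [commutator_def, Subgroup.commutator_le]
        intro a _ b _
        have hab : Commute (χ a) (χ b) := Subtype.ext (hcent ⟨χ b, hVK (χ b).2⟩ _ (χ a).2)
        rw [MonoidHom.mem_ker, map_commutatorElement, commutatorElement_eq_one_iff_commute]
        exact hab
      have h1 : χ k = 1 := hle (hperfK ▸ Subgroup.mem_top k)
      have h2 : (x : G) * k * (x : G)⁻¹ * (k : G)⁻¹ = 1 := congrArg Subtype.val h1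
      exact mul_inv_eq_iff_eq_mul.mp (mul_inv_eq_one.mp h2)
    have hxK : (x : G) ∈ K :=
      (hfix x x.2).mpr (mul_inv_eq_iff_eq_mul.mpr (hχ ⟨d₁, hd₁⟩))
    rw [← hcV]
    exact ⟨⟨x, hxK⟩, Subgroup.mem_center_iff.mpr fun k => Subtype.ext (hχ k).symm, rfl⟩

end Cfsg.Agent.S5468
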