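import Cfsg.Statements.S5471
import Cfsg.Agent.Lib.Fi23Cent.OfType
import Cfsg.Agent.Lib.Fi23Inv.Transport

set_option autoImplicit false
open Cfsg

namespace Cfsg.Agent.S5471

/-- Let G be a finite group with trivial centre generated by a conjugation-invariant set D of 3-transpositions on which it acts primitively, such that for some d in D the subgroup generated by the members of D other than d commuting with d has central largest normal 2- and 3-subgroups, and suppose G with D is of type M(23). Let d₁, d₂, d₃ be distinct pairwise commuting members of D and j their product. Then the joint centralizer of d₁, d₂, d₃ is normal in the centralizer of j with quotient isomorphic to the symmetric group of degree 3. -/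
theorem result {G : Type*} [Group G] [Finite G] {D : Set G} (hD : Cfsg.IsThreeTranspositionGroup D) (hprim : Cfsg.IsPrimitiveUnderConj D) (d₀ : G) (hd₀ : d₀ ∈ D) (h3 : Cfsg.pCore 3 ↥(Subgroup.closure {y : G | y ∈ D ∧ y ≠ d₀ ∧ Commute d₀ y}) ≤ Subgroup.center ↥(Subgroup.closure {y : G | y ∈ D ∧ y ≠ d₀ ∧ Commute d₀ y})) (h2 : Cfsg.pCore 2 ↥(Subgroup.closure {y : G | y ∈ D ∧ y ≠ d₀ ∧ Commute d₀ y}) ≤ Subgroup.center ↥(Subgroup.closure {y : G | y ∈ D ∧ y ≠ d₀ ∧ Commute d₀ y})) (h23 : Cfsg.IsOfTypeM23 G D) (d₁ d₂ d₃ : G) (h₁ : d₁ ∈ D) (h₂ : d₂ ∈ D) (h₃ : d₃ ∈ D) (h12 : d₁ ≠ d₂) (h13 : d₁ ≠ d₃) (h23 : d₂ ≠ d₃) (c12 : Commute d₁ d₂) (c13 : Commute d₁ d₃) (c23 : Commute d₂ d₃) (K C : Subgroup G) (hK : K = Subgroup.centralizer ({d₁, d₂, d₃} : Set G)) (hC : C = Subgroup.centralizer ({d₁ * d₂ * d₃} : Set G)) : K ≤ C ∧ ∃ _ : (K.subgroupOf C).Normal, Nonempty (↥C ⧸ K.subgroupOf C ≃* Equiv.Perm (Fin 3)) := by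
  classical
  obtain ⟨Φ, hΦ⟩ := CfsgLib.Fi23Cent.fi23_of_type hD hprim ‹Cfsg.IsOfTypeM23 G D›
  let d : Fin 3 → G := ![d₁, d₂, d₃]
  have hdinj : Function.Injective d := by
    intro i j
    fin_cases i <;> fin_cases j <;> simp [d, h12, h13, h23, h12.symm, h13.symm, h23.symm]
  have hfr : ∀ σ : Equiv.Perm (Fin 3), CfsgLib.Fi23Inv.Frame D [d (σ 0), d (σ 1), d (σ 2)] := by
    intro σ
    have hdc : ∀ i j, Commute (d i) (d j) := by
      intro i j
      fin_cases i <;> fin_cases j <;> simp [d, c12, c13, c23, c12.symm, c13.symm, c23.symm]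
    refine ⟨?_, by simp, by simp, ?_, ?_⟩
    · simp [hdinj.eq_iff, σ.injective.eq_iff]
    · intro a ha
      simp only [List.mem_cons, List.not_mem_nil, or_false] at ha
      have : ∀ i, d i ∈ D := by intro i; fin_cases i <;> simp [d, h₁, h₂, h₃]
      rcases ha with rfl | rfl | rfl <;> exact this _
    · intro a ha b hb
      simp only [List.mem_cons, List.not_mem_nil, or_false] at ha hb
      rcases ha with rfl | rfl | rfl <;> rcases hb with rfl | rfl | rfl <;> exact hdc _ _
  have hprod : [d ((1 : Equiv.Perm (Fin 3)) 0), d ((1 : Equiv.Perm (Fin 3)) 1), d ((1 : Equiv.Perm (Fin 3)) 2)].prod =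
      d₁ * d₂ * d₃ := by simp [d, mul_assoc]
  have hmemC : ∀ g : C, ∀ i, ∃ j, (g : G) * d i * (g : G)⁻¹ = d j := by
    intro g i
    have hg : (g : G) * (d₁ * d₂ * d₃) = d₁ * d₂ * d₃ * g :=
      Subgroup.mem_centralizer_singleton_iff.mp ((SetLike.ext_iff.mp hC _).mp g.2)
    have hu := (CfsgLib.Fi23Inv.type_frame_universal Φ hΦ (hfr 1) (d i)).mpr
      (by fin_cases i <;> simp)
    rw [hprod] at hu
    have hu' := hu.map (MulAut.conj (g : G))
    have himg : MulAut.conj (g : G) '' D = D := by
      conv_rhs => rw [← hΦ, ← CfsgLib.Fi23Cent.conj_class (Φ.symm g), Set.image_image]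
      rw [← hΦ, Set.image_image]
      exact Set.image_congr fun x _ => by simp
    have hfix : MulAut.conj (g : G) (d₁ * d₂ * d₃) = d₁ * d₂ * d₃ := by
      rw [MulAut.conj_apply, hg, mul_inv_cancel_right]
    rw [himg, hfix, ← hprod] at hu'
    have := (CfsgLib.Fi23Inv.type_frame_universal Φ hΦ (hfr 1) _).mp hu'
    simp only [List.mem_cons, List.not_mem_nil, or_false] at this
    rcases this with h | h | h <;> exact ⟨_, h⟩
  choose σ hσ using hmemC
  have hσinj : ∀ g, Function.Injective (σ g) := fun g i j h => hdinj (by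
    have h' : (g : G) * d i * (g : G)⁻¹ = (g : G) * d j * (g : G)⁻¹ := by rw [hσ, hσ, h]
    simpa using h')
  let f : C →* Equiv.Perm (Fin 3) := MonoidHom.mk' (fun g => Equiv.ofBijective (σ g)
    ((hσinj g).bijective_of_finite)) (fun g h => Equiv.ext fun i => hdinj (by
      simp only [Equiv.ofBijective_apply, Equiv.Perm.mul_apply]
      rw [← hσ, ← hσ, ← hσ, Subgroup.coe_mul]
      group))
  have hker : f.ker = K.subgroupOf C := by
    ext g
    have e : ∀ i, ((g : G) * d i * (g : G)⁻¹ = d i) ↔ Commute (g : G) (d i) := fun i =>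
      mul_inv_eq_iff_eq_mul
    rw [MonoidHom.mem_ker, Subgroup.mem_subgroupOf, hK, Subgroup.mem_centralizer_iff]
    constructor
    · intro h x hx
      have hh : ∀ i, σ g i = i := fun i => Equiv.ext_iff.mp h i
      have hc : ∀ i, Commute (g : G) (d i) := fun i => (e i).mp (by rw [hσ, hh])
      rcases hx with rfl | rfl | rfl
      · exact (hc 0).eq.symm
      · exact (hc 1).eq.symm
      · exact (hc 2).eq.symm
    · intro h
      refine Equiv.ext fun i => hdinj ?_
      change d (σ g i) = d i
      rw [← hσ, (e i)]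
      fin_cases i
      · exact (h d₁ (by simp)).symm
      · exact (h d₂ (by simp)).symm
      · exact (h d₃ (by simp)).symm
  have hsurj : Function.Surjective f := by
    intro τ
    obtain ⟨g, hg⟩ := CfsgLib.Fi23Inv.type_frame_conj Φ hΦ (hfr 1) (hfr τ) rfl
    simp only [List.map_cons, List.map_nil, List.cons.injEq, and_true, Equiv.Perm.one_apply] at hg
    have hgC : g ∈ C := by
      rw [hC, Subgroup.mem_centralizer_singleton_iff]
      have hcomm : ∀ τ : Equiv.Perm (Fin 3), d (τ 0) * d (τ 1) * d (τ 2) = d₁ * d₂ * d₃ := by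
        intro τ
        have hp : [d (τ 0), d (τ 1), d (τ 2)].Perm [d 0, d 1, d 2] :=
          (List.perm_ext_iff_of_nodup (hfr τ).nodup (hfr 1).nodup).mpr fun a => by
            simp only [List.mem_cons, List.not_mem_nil, or_false]
            constructor
            · rintro (rfl | rfl | rfl) <;> generalize τ _ = k <;> fin_cases k <;> simp
            · have : ∀ k, k = τ 0 ∨ k = τ 1 ∨ k = τ 2 := by
                intro k
                obtain ⟨i, rfl⟩ := τ.surjective k
                fin_cases i <;> simp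
              rintro (e | e | e)
              · rcases this 0 with h | h | h <;> simp [e, ← h]
              · rcases this 1 with h | h | h <;> simp [e, ← h]
              · rcases this 2 with h | h | h <;> simp [e, ← h]
        have := hp.prod_eq' (List.Pairwise.imp_of_mem (R := fun _ _ => True)
          (fun ha hb _ => (hfr τ).comm _ ha _ hb) (List.pairwise_of_forall (by simp)))
        simpa [d, mul_assoc] using this
      have hp : MulAut.conj g (d₁ * d₂ * d₃) = d₁ * d₂ * d₃ := by
        conv_lhs => rw [← hcomm 1]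
        rw [← hcomm τ, ← hg.1, ← hg.2.1, ← hg.2.2]
        simp [mul_assoc]
      rw [MulAut.conj_apply] at hp
      exact mul_inv_eq_iff_eq_mul.mp hp
    refine ⟨⟨g, hgC⟩, Equiv.ext fun i => hdinj ?_⟩
    change d (σ ⟨g, hgC⟩ i) = d (τ i)
    rw [← hσ]
    fin_cases i
    · exact hg.1
    · exact hg.2.1
    · exact hg.2.2
  have hKC : K ≤ C := by
    intro g hg
    rw [hK, Subgroup.mem_centralizer_iff] at hg
    rw [hC, Subgroup.mem_centralizer_singleton_iff]
    have a : Commute g d₁ := (hg d₁ (by simp)).symm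
    have b : Commute g d₂ := (hg d₂ (by simp)).symm
    have c : Commute g d₃ := (hg d₃ (by simp)).symm
    exact ((a.mul_right b).mul_right c).eq
  haveI hn : (K.subgroupOf C).Normal := hker ▸ f.normal_ker
  exact ⟨hKC, hn, ⟨(QuotientGroup.quotientMulEquivOfEq hker.symm).trans
    (QuotientGroup.quotientKerEquivOfSurjective f hsurj)⟩⟩

end Cfsg.Agent.S5471
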