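import Cfsg.Statements.S5515
import Cfsg.Agent.Lib.ChevAut.D4OutOrth
import Cfsg.Agent.Lib.Layer.Basic
import Cfsg.Agent.S0296

set_option autoImplicit false
open Cfsg

namespace Cfsg.Agent.S5515

/-- A subgroup of order 6 of `S₄` is a point stabiliser. -/
theorem order_six_is_stab (H : Subgroup (Equiv.Perm (Fin 4))) (hH : Nat.card H = 6) :
    ∃ i : Fin 4, H = MulAction.stabilizer (Equiv.Perm (Fin 4)) i := by
  classical
  haveI : Fact (Nat.Prime 3) := ⟨Nat.prime_three⟩
  obtain ⟨⟨c, hc⟩, hco⟩ := exists_prime_orderOf_dvd_card' (G := ↥H) 3 (by rw [hH]; norm_num)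
  have hco' : orderOf c = 3 := by simpa using hco
  have hcpow : c ^ 3 = 1 := by rw [← hco']; exact pow_orderOf_eq_one c
  have hc1 : c ≠ 1 := fun h => by simp [h] at hco'
  have key : ∀ c : Equiv.Perm (Fin 4), c ^ 3 = 1 → c ≠ 1 →
      ∃ i, c i = i ∧ ∀ j, c j = j → j = i := by decide +kernel
  obtain ⟨i, hi, hiu⟩ := key c hcpow hc1
  have hidx : (Subgroup.zpowers (⟨c, hc⟩ : ↥H)).index = 2 := by
    have := Subgroup.card_mul_index (Subgroup.zpowers (⟨c, hc⟩ : ↥H))
    rw [Nat.card_zpowers, hco, hH] at this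
    omega
  haveI := Subgroup.normal_of_index_eq_two hidx
  refine ⟨i, Subgroup.eq_of_le_of_card_ge (fun h hh => ?_) ?_⟩
  · rw [MulAction.mem_stabilizer_iff, Equiv.Perm.smul_def]
    apply hiu
    obtain ⟨k, hk⟩ := Subgroup.mem_zpowers_iff.mp
      (‹(Subgroup.zpowers (⟨c, hc⟩ : ↥H)).Normal›.conj_mem _ (Subgroup.mem_zpowers _) (⟨h, hh⟩ : ↥H)⁻¹)
    have hk' : c ^ k = h⁻¹ * c * h := by
      have := congrArg (fun x : ↥H => (x : Equiv.Perm (Fin 4))) hk
      simpa using this
    have h1 : (c ^ k) i = i := Equiv.Perm.zpow_apply_eq_self_of_apply_eq_self hi k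
    rw [hk'] at h1
    simp only [Equiv.Perm.mul_apply, Equiv.Perm.inv_eq_iff_eq] at h1
    exact h1
  · rw [hH]
    have h2 : ∀ i : Fin 4, Fintype.card {x : Equiv.Perm (Fin 4) // x i = i} = 6 := by decide +kernel
    have h3 : Nat.card (MulAction.stabilizer (Equiv.Perm (Fin 4)) i) =
        Fintype.card {x : Equiv.Perm (Fin 4) // x i = i} := by
      rw [← Nat.card_eq_fintype_card]
      exact Nat.card_congr (Equiv.subtypeEquivRight fun x => Iff.rfl)
    rw [h3, h2 i]

theorem order_six_conj (H H' : Subgroup (Equiv.Perm (Fin 4))) (hH : Nat.card H = 6)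
    (hH' : Nat.card H' = 6) : ∃ x : Equiv.Perm (Fin 4), H.map (MulAut.conj x).toMonoidHom = H' := by
  obtain ⟨i, rfl⟩ := order_six_is_stab H hH
  obtain ⟨j, rfl⟩ := order_six_is_stab H' hH'
  refine ⟨Equiv.swap i j, ?_⟩
  have := MulAction.stabilizer_smul_eq_stabilizer_map_conj (Equiv.swap i j) i
  rw [Equiv.Perm.smul_def, Equiv.swap_apply_left] at this
  exact this.symm

/-- A group with simple `F*` is the automorphism group determined by its outer image. -/
theorem to_mulAut {G K : Type*} [Group G] [Finite G] [Group K] [IsSimpleGroup K]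
    (hK : ¬ IsMulCommutative K) [hn : (Cfsg.generalizedFittingSubgroup G).Normal]
    (e : ↥(Cfsg.generalizedFittingSubgroup G) ≃* K) :
    ∃ A : Subgroup (MulAut K), Inn K ≤ A ∧ Nonempty (G ≃* A) ∧
      Nat.card (A.map (QuotientGroup.mk' (Inn K))) =
        Nat.card (G ⧸ Cfsg.generalizedFittingSubgroup G) := by
  let φ : G →* MulAut K := (MulAut.congr e).toMonoidHom.comp MulAut.conjNormal
  have happ : ∀ g k, φ g k = e (MulAut.conjNormal g (e.symm k)) := fun g k => rfl
  have hF : (Cfsg.generalizedFittingSubgroup G).map φ = Inn K := by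
    apply SetLike.ext
    intro α
    constructor
    · rintro ⟨g, hg, rfl⟩
      refine ⟨e ⟨g, hg⟩, MulEquiv.ext fun k => ?_⟩
      rw [happ, MulAut.conj_apply]
      obtain ⟨f, rfl⟩ := e.surjective k
      rw [MulEquiv.symm_apply_apply, ← map_inv, ← map_mul, ← map_mul]
      congr 1
    · rintro ⟨k, rfl⟩
      refine ⟨(e.symm k : G), (e.symm k).2, MulEquiv.ext fun l => ?_⟩
      rw [happ, MulAut.conj_apply]
      obtain ⟨f, rfl⟩ := e.surjective l
      obtain ⟨g, rfl⟩ := e.surjective k
      rw [MulEquiv.symm_apply_apply, MulEquiv.symm_apply_apply, ← map_inv, ← map_mul, ← map_mul]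
      congr 1
  have hinj : Function.Injective φ := by
    rw [← MonoidHom.ker_eq_bot_iff, eq_bot_iff]
    intro g hg
    rw [MonoidHom.mem_ker] at hg
    have hcom : ∀ f : ↥(Cfsg.generalizedFittingSubgroup G), MulAut.conjNormal g f = f := fun f => by
      have := happ g (e f)
      rw [hg, MulAut.one_apply, MulEquiv.symm_apply_apply] at this
      exact (e.injective this).symm
    have hmem : g ∈ Cfsg.generalizedFittingSubgroup G := by
      apply CfsgLib.Layer.centralizer_generalizedFitting_le
      rw [Subgroup.mem_centralizer_iff]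
      intro f hf
      have := congrArg Subtype.val (hcom ⟨f, hf⟩)
      rw [MulAut.conjNormal_apply] at this
      calc f * g = g * f * g⁻¹ * g := by rw [this]
        _ = g * f := by group
    have hz : e ⟨g, hmem⟩ ∈ Subgroup.center K := by
      rw [Subgroup.mem_center_iff]
      intro k
      obtain ⟨f, rfl⟩ := e.surjective k
      rw [← map_mul, ← map_mul]
      congr 1
      have := congrArg Subtype.val (hcom f)
      rw [MulAut.conjNormal_apply] at this
      apply Subtype.ext
      show (f : G) * g = g * f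
      calc (f : G) * g = g * f * g⁻¹ * g := by rw [this]
        _ = g * f := by group
    rcases (Subgroup.center K).normal_of_characteristic.eq_bot_or_eq_top with h | h
    · rw [h, Subgroup.mem_bot, EmbeddingLike.map_eq_one_iff] at hz
      simpa using congrArg Subtype.val hz
    · exact absurd ⟨⟨fun a b => (Subgroup.mem_center_iff.mp (h ▸ Subgroup.mem_top b) a)⟩⟩ hK
  refine ⟨φ.range, hF ▸ Subgroup.map_le_range φ _, ⟨MonoidHom.ofInjective hinj⟩, ?_⟩
  have hker : ((QuotientGroup.mk' (Inn K)).comp φ).ker = Cfsg.generalizedFittingSubgroup G := by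
    rw [← MonoidHom.comap_ker, QuotientGroup.ker_mk', ← hF,
      Subgroup.comap_map_eq_self_of_injective hinj]
  rw [MonoidHom.map_range, ← Nat.card_congr (QuotientGroup.quotientKerEquivRange _).toEquiv]
  exact Nat.card_congr (QuotientGroup.quotientMulEquivOfEq hker).toEquiv

/-- Conjugacy of subgroups above the kernel is detected in the quotient. -/
theorem conj_of_map {M Q : Type*} [Group M] [Group Q] (π : M →* Q) (hπ : Function.Surjective π)
    (A A' : Subgroup M) (hA : π.ker ≤ A) (hA' : π.ker ≤ A') (x : Q)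
    (hx : (A.map π).map (MulAut.conj x).toMonoidHom = A'.map π) :
    ∃ α : M, A.map (MulAut.conj α).toMonoidHom = A' := by
  obtain ⟨α, rfl⟩ := hπ x
  refine ⟨α, ?_⟩
  have hc : π.comp (MulAut.conj α).toMonoidHom = (MulAut.conj (π α)).toMonoidHom.comp π := by
    ext y
    simp
  have h1 : π.ker ≤ A.map (MulAut.conj α).toMonoidHom := by
    intro y hy
    refine ⟨α⁻¹ * y * α, hA ?_, by simp [mul_assoc]⟩
    have := π.normal_ker.conj_mem y hy α⁻¹
    simpa using this
  calc A.map (MulAut.conj α).toMonoidHom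
      = ((A.map (MulAut.conj α).toMonoidHom).map π).comap π := by
        rw [Subgroup.comap_map_eq, sup_eq_left.mpr h1]
    _ = (A'.map π).comap π := by rw [Subgroup.map_map, hc, ← Subgroup.map_map, hx]
    _ = A' := by rw [Subgroup.comap_map_eq, sup_eq_left.mpr hA']

/-- A simple group whose outer automorphism group is non-abelian is non-abelian. -/
theorem not_comm {K : Type*} [Group K] [IsSimpleGroup K] (h : ∃ a b : Cfsg.Out K, a * b ≠ b * a) :
    ¬ IsMulCommutative K := by
  intro hc
  haveI := hc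
  obtain ⟨a, b, hab⟩ := h
  obtain ⟨g, hg⟩ := exists_ne (1 : K)
  haveI : (Subgroup.zpowers g).Normal := ⟨fun y hy x => by
    rw [mul_comm' x y, mul_inv_cancel_right]; exact hy⟩
  have htop : Subgroup.zpowers g = ⊤ := by
    rcases (inferInstance : (Subgroup.zpowers g).Normal).eq_bot_or_eq_top with h | h
    · exact absurd (Subgroup.zpowers_eq_bot.mp h) hg
    · exact h
  apply hab
  induction a using QuotientGroup.induction_on with
  | _ a =>
    induction b using QuotientGroup.induction_on with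
    | _ b =>
      have e : a * b = b * a := by
        ext x
        obtain ⟨i, hi⟩ := Subgroup.mem_zpowers_iff.mp (htop ▸ Subgroup.mem_top (a g))
        obtain ⟨j, hj⟩ := Subgroup.mem_zpowers_iff.mp (htop ▸ Subgroup.mem_top (b g))
        obtain ⟨k, rfl⟩ := Subgroup.mem_zpowers_iff.mp (htop ▸ Subgroup.mem_top x)
        simp only [MulAut.mul_apply, map_zpow, ← hi, ← hj, ← zpow_mul]
        congr 1
        ring
      exact (QuotientGroup.mk_mul _ a b).symm.trans ((congrArg _ e).trans (QuotientGroup.mk_mul _ b a))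

/-- Extensions of a simple group with outer automorphism group `S₄` by `S₃` are unique. -/
theorem unique_ext {G G' K : Type*} [Group G] [Finite G] [Group G'] [Finite G'] [Group K]
    [IsSimpleGroup K] [hn : (Cfsg.generalizedFittingSubgroup G).Normal]
    [hn' : (Cfsg.generalizedFittingSubgroup G').Normal]
    (e : ↥(Cfsg.generalizedFittingSubgroup G) ≃* K) (e' : ↥(Cfsg.generalizedFittingSubgroup G') ≃* K)
    (q : G ⧸ Cfsg.generalizedFittingSubgroup G ≃* Equiv.Perm (Fin 3))
    (q' : G' ⧸ Cfsg.generalizedFittingSubgroup G' ≃* Equiv.Perm (Fin 3))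
    (o' : Cfsg.Out K ≃* Equiv.Perm (Fin 4)) : Nonempty (G ≃* G') := by
  have hK : ¬ IsMulCommutative K := by
    refine not_comm ⟨o'.symm (Equiv.swap 0 1), o'.symm (Equiv.swap 1 2), fun this => ?_⟩
    rw [← map_mul, ← map_mul] at this
    exact absurd (o'.symm.injective this) (by decide +kernel)
  obtain ⟨A, hA, ⟨eA⟩, hAc⟩ := to_mulAut (K := K) hK e
  obtain ⟨A', hA', ⟨eA'⟩, hA'c⟩ := to_mulAut (K := K) hK e'
  have h6 : ∀ B : Subgroup (MulAut K), Nat.card (B.map (QuotientGroup.mk' (Inn K))) = 6 →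
      Nat.card ((B.map (QuotientGroup.mk' (Inn K))).map o'.toMonoidHom) = 6 := fun B hB => by
    rw [← Nat.card_congr ((B.map (QuotientGroup.mk' (Inn K))).equivMapOfInjective _
      o'.injective).toEquiv, hB]
  have hS3 : Nat.card (Equiv.Perm (Fin 3)) = 6 := by
    rw [Nat.card_eq_fintype_card]; rfl
  have hc1 : Nat.card (A.map (QuotientGroup.mk' (Inn K))) = 6 := by
    rw [hAc, Nat.card_congr q.toEquiv, hS3]
  have hc2 : Nat.card (A'.map (QuotientGroup.mk' (Inn K))) = 6 := by
    rw [hA'c, Nat.card_congr q'.toEquiv, hS3]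
  obtain ⟨x, hx⟩ := order_six_conj _ _ (h6 A hc1) (h6 A' hc2)
  obtain ⟨α, hAA⟩ := conj_of_map (QuotientGroup.mk' (Inn K)) (QuotientGroup.mk'_surjective _) A A'
    ((QuotientGroup.ker_mk' (Inn K)).le.trans hA) ((QuotientGroup.ker_mk' (Inn K)).le.trans hA')
    (o'.symm x) (by
      apply Subgroup.map_injective (f := o'.toMonoidHom) o'.injective
      have hc : o'.toMonoidHom.comp (MulAut.conj (o'.symm x)).toMonoidHom =
          (MulAut.conj x).toMonoidHom.comp o'.toMonoidHom := by
        apply MonoidHom.ext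
        intro y
        simp
      rw [← hx, Subgroup.map_map _ o'.toMonoidHom (MulAut.conj (o'.symm x)).toMonoidHom, hc,
        ← Subgroup.map_map])
  exact ⟨eA.trans (((MulAut.conj α).subgroupMap A).trans
    ((MulEquiv.subgroupCongr hAA).trans eA'.symm))⟩


/-- Let G and G′ be finite groups whose generalized Fitting subgroups are isomorphic to PΩ⁺(8, 3) (the commutator subgroup of the isometry group of the hyperbolic quadratic form in dimension 8 over the field with three elements, modulo its centre) with quotients isomorphic to the symmetric group of degree 3. Then G and G′ are isomorphic. -/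
theorem result {G G' : Type*} [Group G] [Finite G] [Group G'] [Finite G'] (hF : Nonempty (↥(Cfsg.generalizedFittingSubgroup G) ≃* Cfsg.POmega (ZMod 3) (Cfsg.quadFormPlus 4 (ZMod 3)))) (hF' : Nonempty (↥(Cfsg.generalizedFittingSubgroup G') ≃* Cfsg.POmega (ZMod 3) (Cfsg.quadFormPlus 4 (ZMod 3)))) [hn : (Cfsg.generalizedFittingSubgroup G).Normal] [hn' : (Cfsg.generalizedFittingSubgroup G').Normal] (hq : Nonempty (G ⧸ Cfsg.generalizedFittingSubgroup G ≃* Equiv.Perm (Fin 3))) (hq' : Nonempty (G' ⧸ Cfsg.generalizedFittingSubgroup G' ≃* Equiv.Perm (Fin 3))) : Nonempty (G ≃* G') := by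
  haveI : Fact (Nat.Prime 3) := ⟨Nat.prime_three⟩
  let K := Cfsg.POmega (ZMod 3) (Cfsg.quadFormPlus 4 (ZMod 3))
  obtain ⟨e⟩ := hF
  obtain ⟨e'⟩ := hF'
  obtain ⟨q⟩ := hq
  obtain ⟨q'⟩ := hq'
  haveI : IsSimpleGroup K := Cfsg.Agent.S0296.result 4 le_rfl
  have hF3 : Fintype.card (ZMod 3) = 3 ^ 1 := by simp
  obtain ⟨o⟩ := CfsgLib.ChevAut.D4.out_orth_odd (F := ZMod 3) (p := 3) le_rfl hF3 (by norm_num)
  haveI : Subsingleton (Multiplicative (ZMod 1)) :=
    inferInstanceAs (Subsingleton (ZMod 1))
  exact unique_ext e e' q q' (o.trans MulEquiv.prodUnique)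

end Cfsg.Agent.S5515
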