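import Cfsg.Statements.S5520
import Cfsg.Agent.Lib.USixUFour.Unique
import Cfsg.Agent.Lib.GTwoTwo.FieldCongr
-- import your own Cfsg.Agent.* helpers here

set_option autoImplicit false
open Cfsg

namespace Cfsg.Agent.S5520

/-- In the special unitary group of dimension 6 over the field with four elements (determinant-one matrices preserving the standard Hermitian form), the subgroups K whose centre has order 3 with K modulo its centre isomorphic to the projective special unitary group of dimension 4 over the field with nine elements fall into exactly three conjugacy classes. -/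
theorem result (F : Type) [Field F] [Fintype F] (hF : Fintype.card F = 4) (F9 : Type) [Field F9] [Fintype F9] (hF9 : Fintype.card F9 = 9) : ∃ K₁ K₂ K₃ : Subgroup ↥(Cfsg.SU 6 F 2), (∀ K ∈ [K₁, K₂, K₃], Nat.card ↥(Subgroup.center ↥K) = 3 ∧ Nonempty (↥K ⧸ Subgroup.center ↥K ≃* Cfsg.PSU 4 F9 3)) ∧ (¬ ∃ g : ↥(Cfsg.SU 6 F 2), K₁.map (MulAut.conj g).toMonoidHom = K₂) ∧ (¬ ∃ g : ↥(Cfsg.SU 6 F 2), K₁.map (MulAut.conj g).toMonoidHom = K₃) ∧ (¬ ∃ g : ↥(Cfsg.SU 6 F 2), K₂.map (MulAut.conj g).toMonoidHom = K₃) ∧ ∀ K : Subgroup ↥(Cfsg.SU 6 F 2), Nat.card ↥(Subgroup.center ↥K) = 3 → Nonempty (↥K ⧸ Subgroup.center ↥K ≃* Cfsg.PSU 4 F9 3) → ∃ g : ↥(Cfsg.SU 6 F 2), K.map (MulAut.conj g).toMonoidHom = K₁ ∨ K.map (MulAut.conj g).toMonoidHom = K₂ ∨ K.map (MulAut.conj g).toMonoidHom = K₃ := by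
  classical
  obtain ⟨ε⟩ : Nonempty (↥(Cfsg.SU 6 CfsgLib.HePres.K4 2) ≃* ↥(Cfsg.SU 6 F 2)) :=
    ⟨((CfsgLib.GTwoTwo.slEquiv (FiniteField.ringEquivOfCardEq (K := CfsgLib.HePres.K4) (K' := F)
      (by rw [CfsgLib.HePres.K4.card_eq, hF])) 6).subgroupMap _).trans
      (MulEquiv.subgroupCongr (CfsgLib.GTwoTwo.map_SU _ 6 2))⟩
  let Y : Fin 3 → Subgroup ↥(Cfsg.SU 6 F 2) := fun j =>
    (CfsgLib.USixUFour.subK j).map ε.toMonoidHom
  have hconj : ∀ (g : ↥(Cfsg.SU 6 CfsgLib.HePres.K4 2)) (H : Subgroup ↥(Cfsg.SU 6 CfsgLib.HePres.K4 2)),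
      (H.map ε.toMonoidHom).map (MulAut.conj (ε g)).toMonoidHom =
        (H.map (MulAut.conj g).toMonoidHom).map ε.toMonoidHom := fun g H => by
    rw [Subgroup.map_map, Subgroup.map_map]
    congr 1
    ext x
    simp [MonoidHom.comp_apply]
  have hY : ∀ j, CfsgLib.USixUFour.Triple F9 (Y j) := fun j =>
    CfsgLib.USixUFour.triple_congr (ε.subgroupMap _) (CfsgLib.USixUFour.subK_triple hF9 j)
  have hne : ∀ i j, i ≠ j → ¬ ∃ g, (Y i).map (MulAut.conj g).toMonoidHom = Y j := by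
    rintro i j hij ⟨g, hg⟩
    obtain ⟨g, rfl⟩ := ε.surjective g
    rw [hconj] at hg
    exact hij (CfsgLib.USixUFour.subK_distinct (Subgroup.map_injective ε.injective hg))
  refine ⟨Y 0, Y 1, Y 2, ?_, hne 0 1 (by decide), hne 0 2 (by decide), hne 1 2 (by decide), ?_⟩
  · intro K hK
    simp only [List.mem_cons, List.not_mem_nil, or_false] at hK
    rcases hK with rfl | rfl | rfl
    exacts [hY 0, hY 1, hY 2]
  · intro K h3 hq
    have hK : CfsgLib.USixUFour.Triple F9 (K.map ε.symm.toMonoidHom) :=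
      CfsgLib.USixUFour.triple_congr (ε.symm.subgroupMap K) ⟨h3, hq⟩
    obtain ⟨g, j, hj⟩ := CfsgLib.USixUFour.exists_class hF9 hK
    refine ⟨ε g, ?_⟩
    have e : K.map (MulAut.conj (ε g)).toMonoidHom = Y j := by
      show _ = (CfsgLib.USixUFour.subK j).map ε.toMonoidHom
      rw [← hj, ← hconj, Subgroup.map_map K]
      congr 2
      ext x
      simp
    fin_cases j
    exacts [Or.inl e, Or.inr (Or.inl e), Or.inr (Or.inr e)]

end Cfsg.Agent.S5520
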