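import Cfsg.Statements.S5521
import Cfsg.Agent.Lib.Golay.MathieuFacts
-- import your own Cfsg.Agent.* helpers here

set_option autoImplicit false
open Cfsg

namespace Cfsg.Agent.S5521

/-- The Mathieu group M₂₄ in its natural action on the 24 coordinate positions of the binary Golay code has minimal base size exactly 7: every set of at most 6 positions is fixed pointwise by some non-identity element of M₂₄, while some set of 7 positions is fixed pointwise only by the identity. -/
theorem result :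
    (∀ B : Finset Cfsg.GolayPt, B.card ≤ 6 → ∃ g ∈ Cfsg.M24, g ≠ 1 ∧ ∀ b ∈ B, g b = b) ∧
    (∃ B : Finset Cfsg.GolayPt, B.card = 7 ∧ ∀ g ∈ Cfsg.M24, (∀ b ∈ B, g b = b) → g = 1) := by
  classical
  refine ⟨fun B hB => ?_, ?_⟩
  · by_contra hcon
    push Not at hcon
    have hinj : Function.Injective (fun (g : ↥Cfsg.M24) (b : ↥B) => (g : Equiv.Perm Cfsg.GolayPt) b) := by
      intro g h e
      by_contra hne
      obtain ⟨b, hb, hb'⟩ := hcon ((h : Equiv.Perm Cfsg.GolayPt)⁻¹ * g) (mul_mem (inv_mem h.2) g.2)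
        fun e1 => hne (Subtype.ext (inv_mul_eq_one.1 e1).symm)
      exact hb' (by rw [Equiv.Perm.mul_apply, Equiv.Perm.inv_eq_iff_eq]; exact congrFun e ⟨b, hb⟩)
    let F : ↥Cfsg.M24 → (↥B ↪ Cfsg.GolayPt) := fun g => ⟨fun b => (g : Equiv.Perm Cfsg.GolayPt) b,
      fun a b e => Subtype.ext ((g : Equiv.Perm Cfsg.GolayPt).injective e)⟩
    have h := Nat.card_le_card_of_injective F fun g h e => hinj (congrArg (fun f : ↥B ↪ Cfsg.GolayPt => ⇑f) e)
    rw [CfsgLib.Golay.natCard_M24, Nat.card_eq_fintype_card, Fintype.card_embedding_eq,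
      Fintype.card_coe] at h
    have h24 : Fintype.card Cfsg.GolayPt = 24 := by simp
    rw [h24] at h
    have hmono : Nat.descFactorial 24 B.card ≤ 96909120 := by
      have : ∀ k ≤ 6, Nat.descFactorial 24 k ≤ 96909120 := by decide +kernel
      exact this _ hB
    omega
  · refine ⟨CfsgLib.Golay.dec (CfsgLib.Golay.chainBot 0 CfsgLib.Golay.levs24), ?_, fun g hg hfix => ?_⟩
    · rw [CfsgLib.Golay.card_dec_eq_pop]; decide +kernel
    · have h := CfsgLib.Golay.fixH_eq_bot_of_stages (H := Cfsg.M24) le_rfl CfsgLib.Golay.stages24_ok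
      exact (Subgroup.eq_bot_iff_forall _).1 h g (CfsgLib.Golay.mem_fixH.2 ⟨hg, hfix⟩)

end Cfsg.Agent.S5521
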