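import Cfsg.Statements.S5522
import Cfsg.Agent.S5166
import Cfsg.Agent.Lib.Golay.SylowList

set_option autoImplicit false
open Cfsg

namespace Cfsg.Agent.S5522

open CfsgLib.Golay CfsgLib.Golay.SylowTwo CfsgLib.Golay.SylowList
open scoped Pointwise

/-- the check that a packed permutation fixes a point outside the dodecad -/
def hasFix (P : ℕ) : Bool := (List.range 24).any fun i => !(340831 : ℕ).testBit i && ap P i == i

theorem two_chk : pcOK Cfsg.Agent.S5166.data.gens Cfsg.Agent.S5166.data.cs = true ∧
    Cfsg.Agent.S5166.data.gens.all Cfsg.Agent.S5166.inG = true ∧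
    ((els Cfsg.Agent.S5166.data.gens).all fun P => !eqP (mulP P P) idP || hasFix P) = true := by
  decide +kernel

/-- a Sylow 3-subgroup -/
def l3 : List ℕ := [984818244535754528103549039458486304,
  652065179429036659602969087028906176,
  818258918491435741952397828169311616,
  633042818583988401060721231979419776,
  798749774632051270773201207162089888,
  964944003105871756720595991810606176,
  816051939686222052545393932729988384,
  981759386190175716564125263593507904,
  649493121777157639226931964547371584]

theorem l3_chk : closedOK l3 = true ∧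
    l3.all (fun P => Cfsg.Agent.S5166.inG P && hasFix P) = true := by
  decide +kernel

/-- a Sylow 5-subgroup -/
def l5 : List ℕ := [984818244535754528103549039458486304,
  435639819299269912316142131737829952,
  932328664588097675523552661991534688,
  653767155556570338580786858992648480,
  594973910674378227549131799483977920]

theorem l5_chk : closedOK l5 = true ∧
    l5.all (fun P => Cfsg.Agent.S5166.inG P && hasFix P) = true := by
  decide +kernel

/-- a Sylow 11-subgroup -/
def l11 : List ℕ := [984818244535754528103549039458486304,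
  235787742087635228267678619969815744,
  442145339236642960034315849948207680,
  482525264640573374806566748807383456,
  653147270815701490152591474112411136,
  713062942285566272497170696693137536,
  304215278230394906766447106128547936,
  928753378160785719741811108824550688,
  892476335314065416418060277750605056,
  853147434643345124281966291337093504,
  799235488990593791833693455764303936]

theorem l11_chk : closedOK l11 = true ∧
    l11.all (fun P => Cfsg.Agent.S5166.inG P && hasFix P) = true := by
  decide +kernel

/-- The Mathieu group M₁₁, realised as the stabiliser of one point of the dodecad of squares inside the stabiliser M₁₂ of that dodecad in M₂₄, acts on the twelve coordinate positions outside the dodecad of squares (its 3-transitive action of degree 12); in this action every element of prime order fixes a point, i.e. the action is elusive. -/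
theorem result (g : Equiv.Perm Cfsg.GolayPt) (hg : g ∈ Cfsg.Spor.M11) (hord : (orderOf g).Prime) :
    ∃ x : Cfsg.GolayPt, x ∉ Cfsg.Spor.squareDodecad ∧ g x = x := by
  have hord' : (g ^ orderOf g = 1) := pow_orderOf_eq_one g
  have hdvd : orderOf g ∣ 7920 := by
    have h := Subgroup.orderOf_dvd_natCard _ hg
    rw [Cfsg.Agent.S5166.hcard] at h
    simpa using h
  have key : ∀ a ∈ Cfsg.Spor.M11, ∀ P : ℕ, validP P = true → hasFix P = true →
      a * g * a⁻¹ = toPerm P → ∃ x : Cfsg.GolayPt, x ∉ Cfsg.Spor.squareDodecad ∧ g x = x := by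
    intro a ha P hv hP he
    simp only [hasFix, List.any_eq_true, List.mem_range, Bool.and_eq_true, Bool.not_eq_true', beq_iff_eq] at hP
    obtain ⟨i, hi, hD, hPi⟩ := hP
    refine ⟨a⁻¹ (pt i), fun hx => ?_, ?_⟩
    · have haD : a • Cfsg.Spor.squareDodecad = Cfsg.Spor.squareDodecad := (Subgroup.mem_inf.1 (Subgroup.mem_inf.1 ha).1).2
      have : a • a⁻¹ (pt i) ∈ a • Cfsg.Spor.squareDodecad := Finset.smul_mem_smul_finset hx
      rw [haD, Cfsg.Agent.S5166.squareDodecad_eq, Equiv.Perm.smul_def,
        show a (a⁻¹ (pt i)) = pt i by simp, mem_dec, idx_pt i hi, hD] at this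
      exact Bool.noConfusion this
    · have h1 : (a * g * a⁻¹) (pt i) = pt i := by
        rw [he, toPerm_apply hv, idx_pt i hi, hPi]
      rw [Equiv.Perm.mul_apply, Equiv.Perm.mul_apply] at h1
      exact a.injective (h1.trans (by simp))
  have hodd : ∀ (p n m : ℕ) (l : List ℕ), p.Prime → 7920 = p ^ n * m → ¬ p ∣ m →
      closedOK l = true → l.length = p ^ n → l.all (fun P => Cfsg.Agent.S5166.inG P && hasFix P) = true →
      orderOf g = p → ∃ x : Cfsg.GolayPt, x ∉ Cfsg.Spor.squareDodecad ∧ g x = x := by
    intro p n m l hp he hm hl hlen hall hgp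
    haveI := Fact.mk hp
    have hall' : ∀ P ∈ l, Cfsg.Agent.S5166.inG P = true ∧ hasFix P = true := fun P hP => by
      simpa using List.all_eq_true.1 hall P hP
    obtain ⟨a, ha, P, hP, hPe⟩ := exists_conj_list (n := n) (m := m)
      (show Nat.card Cfsg.Spor.M11 = p ^ n * m by rw [Cfsg.Agent.S5166.hcard, ← he]; norm_num)
      hm hl hlen (fun P hP => (Cfsg.Agent.S5166.hin P (hall' P hP).1).2) hg (k := 1)
      (by rw [pow_one, ← hgp]; exact hord')
    exact key a ha P (Cfsg.Agent.S5166.hin P (hall' P hP).1).1 (hall' P hP).2 hPe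
  have hle : orderOf g ≤ 7920 := Nat.le_of_dvd (by norm_num) hdvd
  rcases (show orderOf g = 2 ∨ orderOf g = 3 ∨ orderOf g = 5 ∨ orderOf g = 11 by
      have h4 : orderOf g ∣ 2 ^ 4 * (3 ^ 2 * (5 * 11)) := by simpa using hdvd
      have hp := hord.prime
      rcases hp.dvd_mul.1 h4 with h | h
      · exact Or.inl ((Nat.prime_dvd_prime_iff_eq hord Nat.prime_two).1 (hp.dvd_of_dvd_pow h))
      rcases hp.dvd_mul.1 h with h | h
      · exact Or.inr (Or.inl ((Nat.prime_dvd_prime_iff_eq hord Nat.prime_three).1 (hp.dvd_of_dvd_pow h)))
      rcases hp.dvd_mul.1 h with h | h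
      · exact Or.inr (Or.inr (Or.inl ((Nat.prime_dvd_prime_iff_eq hord Nat.prime_five).1 h)))
      · exact Or.inr (Or.inr (Or.inr ((Nat.prime_dvd_prime_iff_eq hord (by norm_num)).1 h)))) with h | h | h | h
  · obtain ⟨hpc, hgs, hinv⟩ := two_chk
    obtain ⟨a, ha, P, hP, hv, -, hPe⟩ := exists_conj_els (n := 4) (m := 495) Cfsg.Agent.S5166.hcard (by norm_num)
      hpc rfl (fun P hP => (Cfsg.Agent.S5166.hin P (List.all_eq_true.1 hgs P hP)).2) hg (k := 1)
      (by rw [pow_one, ← h]; exact hord')
    refine key a ha P hv ?_ hPe
    have h2 := List.all_eq_true.1 hinv P hP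
    rw [Bool.or_eq_true, Bool.not_eq_true'] at h2
    refine h2.resolve_left ?_
    have hsq : toPerm (mulP P P) = toPerm idP := by
      rw [toPerm_mulP hv hv, toPerm_idP, ← hPe, ← pow_two, conj_pow, show g ^ 2 = 1 by rw [← h]; exact hord']
      group
    simp [eqP_of_toPerm_eq (validP_mulP hv hv) validP_idP hsq]
  · exact hodd 3 2 880 l3 Nat.prime_three (by norm_num) (by norm_num) l3_chk.1 rfl l3_chk.2 h
  · exact hodd 5 1 1584 l5 Nat.prime_five (by norm_num) (by norm_num) l5_chk.1 rfl l5_chk.2 h
  · exact hodd 11 1 720 l11 (by norm_num) (by norm_num) (by norm_num) l11_chk.1 rfl l11_chk.2 h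

end Cfsg.Agent.S5522
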