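import Cfsg.Statements.S5529
import Cfsg.Agent.Lib.Golay.TripleGen.Main

set_option autoImplicit false
open Cfsg

namespace Cfsg.Agent.S5529

/-- Generation of the Mathieu group M₂₃ (the stabiliser of a point in the Mathieu group M₂₄ acting on 24 points) by triples of prime orders. Let p ≤ q ≤ r be primes dividing |M₂₃| = 10200960 = 2⁷·3²·5·7·11·23, not both p and q equal to 2. Then M₂₃ contains elements x, y, z of orders p, q, r with xyz = 1 and ⟨x, y⟩ = M₂₃ if and only if (p, q, r) is none of: (2, 3, r) for any r, (2, 5, 5), (2, 5, 7), (3, 3, 3), (3, 3, 5), (3, 3, 7). -/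
theorem result (p q r : ℕ) (hp : p.Prime) (hq : q.Prime)
    (hr : r.Prime) (hpq : p ≤ q) (hqr : q ≤ r) (hp2 : ¬ (p = 2 ∧ q = 2))
    (hdvd : p ∣ 10200960 ∧ q ∣ 10200960 ∧ r ∣ 10200960) :
    (∃ x y z : Cfsg.Spor.M23, orderOf x = p ∧ orderOf y = q ∧ orderOf z = r ∧ x * y * z = 1 ∧
        Subgroup.closure {x, y} = ⊤) ↔
      ¬ ((p = 2 ∧ q = 3) ∨ (p = 2 ∧ q = 5 ∧ r = 5) ∨ (p = 2 ∧ q = 5 ∧ r = 7) ∨ (p = 3 ∧ q = 3 ∧ r ≤ 7)) := by
  classical
  open CfsgLib.Golay.TripleGen in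
  have hmem : ∀ n : ℕ, n.Prime → n ∣ 10200960 → n ∈ primes := by
    intro n hn hd
    have h : n ∈ Nat.primeFactorsList 10200960 := (Nat.mem_primeFactorsList (by norm_num)).2 ⟨hn, hd⟩
    have e : (10200960 : ℕ) = [2, 2, 2, 2, 2, 2, 2, 3, 3, 5, 7, 11, 23].prod := by norm_num
    have hperm := Nat.primeFactorsList_unique e.symm (by
      intro m hm
      simp only [List.mem_cons, List.not_mem_nil, or_false] at hm
      rcases hm with rfl | rfl | rfl | rfl | rfl | rfl | rfl | rfl | rfl | rfl | rfl | rfl | rfl <;>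
        norm_num)
    have := hperm.mem_iff.2 h
    simp only [primes, List.mem_cons, List.not_mem_nil, or_false] at this ⊢
    omega
  have hP := hmem p hp hdvd.1
  have hQ := hmem q hq hdvd.2.1
  have hR := hmem r hr hdvd.2.2
  have hiff : CfsgLib.Golay.TripleGen.excluded p q r = true ↔
      ((p = 2 ∧ q = 3) ∨ (p = 2 ∧ q = 5 ∧ r = 5) ∨ (p = 2 ∧ q = 5 ∧ r = 7) ∨ (p = 3 ∧ q = 3 ∧ r ≤ 7)) := by
    simp [CfsgLib.Golay.TripleGen.excluded, or_assoc, and_assoc]
  constructor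
  · rintro ⟨x, y, z, hx, hy, hz, hxyz, hgen⟩ hex
    exact CfsgLib.Golay.TripleGen.no_triple hP hQ hR (hiff.2 hex) hpq hqr hx hy hz hxyz hgen
  · intro hex
    have h := CfsgLib.Golay.TripleGen.cover_ok
    simp only [CfsgLib.Golay.TripleGen.coverOK, List.all_eq_true, Bool.or_eq_true, List.any_eq_true,
      Bool.not_eq_true', Bool.and_eq_true, beq_iff_eq, Bool.and_eq_false_iff, decide_eq_false_iff_not,
      Bool.not_eq_false'] at h
    rcases h p hP q hQ r hR with h1 | ⟨W, hW, ⟨e1, e2⟩, e3⟩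
    · rcases h1 with ((h1 | h1) | h1) | h1
      · exact absurd hpq h1
      · exact absurd hqr h1
      · exact absurd (by simpa using h1) hp2
      · exact absurd (hiff.1 h1) hex
    · exact CfsgLib.Golay.TripleGen.exists_triple hp hq hr hW e1 e2 e3

end Cfsg.Agent.S5529
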