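import Cfsg.Statements.S5541
import Mathlib
-- import your own Cfsg.Agent.* helpers here

set_option autoImplicit false
open Cfsg

namespace Cfsg.Agent.S5541

/-- Let ρ be a representation of a group H on a finite-dimensional real vector space U whose only ρ-invariant subspaces are the zero subspace and U, and suppose U carries a non-zero ρ-invariant symmetric bilinear form. Then the following are equivalent: (1) there is a non-zero ρ-equivariant commutative bilinear product on U of which every ρ-equivariant bilinear product is a scalar multiple; (2) there is a non-zero ρ-invariant trilinear form on U that is symmetric under all permutations of its arguments and of which every ρ-invariant trilinear form is a scalar multiple. -/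
theorem result {H : Type*} [Group H] {U : Type*} [AddCommGroup U] [Module ℝ U] [FiniteDimensional ℝ U] (ρ : Representation ℝ H U) (hirr : ∀ W : Submodule ℝ U, (∀ g : H, W.map (ρ g) ≤ W) → W = ⊥ ∨ W = ⊤) (B : LinearMap.BilinForm ℝ U) (hB0 : B ≠ 0) (hBs : ∀ u v, B u v = B v u) (hBi : ∀ (g : H) (u v : U), B (ρ g u) (ρ g v) = B u v) : (∃ m : U →ₗ[ℝ] U →ₗ[ℝ] U, m ≠ 0 ∧ (∀ u v, m u v = m v u) ∧ (∀ (g : H) (u v : U), m (ρ g u) (ρ g v) = ρ g (m u v)) ∧ ∀ m' : U →ₗ[ℝ] U →ₗ[ℝ] U, (∀ (g : H) (u v : U), m' (ρ g u) (ρ g v) = ρ g (m' u v)) → ∃ c : ℝ, m' = c • m) ↔ (∃ t : U →ₗ[ℝ] U →ₗ[ℝ] U →ₗ[ℝ] ℝ, t ≠ 0 ∧ (∀ u v w, t u v w = t v u w ∧ t u v w = t u w v) ∧ (∀ (g : H) (u v w : U), t (ρ g u) (ρ g v) (ρ g w) = t u v w) ∧ ∀ t' : U →ₗ[ℝ] U →ₗ[ℝ] U →ₗ[ℝ] ℝ, (∀ (g : H) (u v w : U), t' (ρ g u) (ρ g v) (ρ g w) = t' u v w) → ∃ c : ℝ, t' = c • t) := by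
  classical
  have hnd : Function.Injective (fun u => B u) := by
    intro u u' he
    have hinv : ∀ g : H, (LinearMap.ker B).map (ρ g) ≤ LinearMap.ker B := by
      rintro g _ ⟨w, hw, rfl⟩
      rw [LinearMap.mem_ker]
      ext v
      have := hBi g w (ρ g⁻¹ v)
      rw [← Module.End.mul_apply, ← map_mul, mul_inv_cancel, map_one, Module.End.one_apply] at this
      rw [this, LinearMap.mem_ker.mp hw]; rfl
    rcases hirr _ hinv with h | h
    · exact LinearMap.ker_eq_bot.mp h he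
    · exact absurd (LinearMap.ker_eq_top.mp h) hB0
  let e : U ≃ₗ[ℝ] (U →ₗ[ℝ] ℝ) := LinearEquiv.ofInjectiveOfFinrankEq B hnd (Subspace.dual_finrank_eq).symm
  have he : ∀ u, e u = B u := fun u => rfl
  have inv_of : ∀ (g : H) (z w : U), (∀ x, B z (ρ g x) = B (ρ g w) (ρ g x)) → z = ρ g w := fun g z w h => by
    refine hnd (LinearMap.ext fun x => ?_)
    have := h (ρ g⁻¹ x)
    rwa [← Module.End.mul_apply, ← map_mul, mul_inv_cancel, map_one, Module.End.one_apply] at this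
  let T : (U →ₗ[ℝ] U →ₗ[ℝ] U) → (U →ₗ[ℝ] U →ₗ[ℝ] U →ₗ[ℝ] ℝ) := fun m => m.compr₂ e.toLinearMap
  let Mm : (U →ₗ[ℝ] U →ₗ[ℝ] U →ₗ[ℝ] ℝ) → (U →ₗ[ℝ] U →ₗ[ℝ] U) := fun t => t.compr₂ e.symm.toLinearMap
  have hT : ∀ m u v w, T m u v w = B (m u v) w := fun m u v w => rfl
  have hM : ∀ t u v w, B (Mm t u v) w = t u v w := fun t u v w => by
    show e (e.symm (t u v)) w = _
    rw [LinearEquiv.apply_symm_apply]
  have hTM : ∀ m, Mm (T m) = m := fun m => LinearMap.ext fun u => LinearMap.ext fun v =>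
    hnd (LinearMap.ext fun w => by rw [hM, hT])
  have hMT : ∀ t, T (Mm t) = t := fun t => by ext u v w; rw [hT, hM]
  have hinvT : ∀ m, (∀ (g : H) (u v : U), m (ρ g u) (ρ g v) = ρ g (m u v)) →
      ∀ (g : H) (u v w : U), T m (ρ g u) (ρ g v) (ρ g w) = T m u v w := fun m hm g u v w => by
    rw [hT, hT, hm, hBi]
  have hinvM : ∀ t, (∀ (g : H) (u v w : U), t (ρ g u) (ρ g v) (ρ g w) = t u v w) →
      ∀ (g : H) (u v : U), Mm t (ρ g u) (ρ g v) = ρ g (Mm t u v) := fun t ht g u v =>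
    inv_of g _ _ fun x => by rw [hM, ht, hBi, hM]
  constructor
  · rintro ⟨m, hm0, hms, hmi, huniq⟩
    have hs1 : ∀ u v w, T m u v w = T m v u w := fun u v w => by rw [hT, hT, hms]
    have huT : ∀ t', (∀ (g : H) (u v w : U), t' (ρ g u) (ρ g v) (ρ g w) = t' u v w) →
        ∃ c : ℝ, t' = c • T m := fun t' ht' => by
      obtain ⟨c, hc⟩ := huniq (Mm t') (hinvM t' ht')
      exact ⟨c, by rw [← hMT t', hc]; ext u v w; simp [hT]⟩
    have hne : T m ≠ 0 := fun h => hm0 (by rw [← hTM m, h]; ext u v; simp [Mm])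
    let t₂ : U →ₗ[ℝ] U →ₗ[ℝ] U →ₗ[ℝ] ℝ :=
      ((LinearMap.lflip (R₀ := ℝ) : (U →ₗ[ℝ] U →ₗ[ℝ] ℝ) ≃ₗ[ℝ] (U →ₗ[ℝ] U →ₗ[ℝ] ℝ)).toLinearMap).comp (T m)
    have ht₂ : ∀ u v w, t₂ u v w = T m u w v := fun u v w => rfl
    obtain ⟨c, hc⟩ := huT t₂ fun g u v w => by rw [ht₂, ht₂, hinvT m hmi]
    have hc' : ∀ u v w, T m u w v = c * T m u v w := fun u v w => by rw [← ht₂, hc]; rfl
    refine ⟨T m, hne, fun u v w => ⟨hs1 u v w, ?_⟩, hinvT m hmi, huT⟩
    obtain ⟨a, b, d, habd⟩ : ∃ a b d, T m a b d ≠ 0 := by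
      by_contra! h
      exact hne (by ext a b d; exact h a b d)
    have hc2 : c * c = 1 := by
      have h := hc' a d b
      rw [hc' a b d, ← mul_assoc] at h
      exact (mul_eq_right₀ habd).mp h.symm
    rcases mul_self_eq_one_iff.mp hc2 with rfl | rfl
    · rw [hc' u v w, one_mul]
    · exfalso
      refine habd ?_
      have h1 := hc' a b d; have h2 := hs1 a d b; have h3 := hc' d a b
      have h4 := hs1 d b a; have h5 := hc' b a d; have h6 := hs1 b a d
      linarith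
  · rintro ⟨t, ht0, hts, hti, huniq⟩
    refine ⟨Mm t, fun h => ht0 (by rw [← hMT t, h]; ext u v w; simp [hT]), fun u v =>
      hnd (LinearMap.ext fun w => by rw [hM, hM, (hts u v w).1]), hinvM t hti, fun m' hm' => ?_⟩
    obtain ⟨c, hc⟩ := huniq (T m') (hinvT m' hm')
    exact ⟨c, by rw [← hTM m', hc]; ext u v; simp [Mm]⟩

end Cfsg.Agent.S5541
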