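import Cfsg.Statements.S5543
import Mathlib
-- import your own Cfsg.Agent.* helpers here

set_option autoImplicit false
open Cfsg

namespace Cfsg.Agent.S5543

/-- Let V be a finite-dimensional real vector space with a commutative bilinear product and a positive-definite symmetric bilinear form that associates with the product and satisfies the Norton inequality (the Majorana setting of the definitions). Let X be a group of linear automorphisms of V in which every element squares to the identity, and suppose every non-identity element x of X is a Majorana involution with an axial vector a(x) of squared length 1, such that for any two distinct non-identity x, y the product a(x) ∘ a(y) equals (1/8)(a(x) + a(y) − a(xy)) (the dihedral subalgebra of type 2A whose third axis belongs to the involution xy). Then X has order at most 4. -/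
theorem result {V : Type*} [AddCommGroup V] [Module ℝ V] [FiniteDimensional ℝ V] (mul : V →ₗ[ℝ] V →ₗ[ℝ] V) (B : LinearMap.BilinForm ℝ V) (hV : Cfsg.Axial.IsMajoranaAmbient mul B) (X : Subgroup (V ≃ₗ[ℝ] V)) (hX : ∀ x ∈ X, x * x = 1) (ax : (V ≃ₗ[ℝ] V) → V) (hax : ∀ x ∈ X, x ≠ 1 → Cfsg.Axial.IsMajoranaPair mul B x (ax x)) (h1 : ∀ x ∈ X, x ≠ 1 → B (ax x) (ax x) = 1) (h2A : ∀ x ∈ X, ∀ y ∈ X, x ≠ 1 → y ≠ 1 → x ≠ y → mul (ax x) (ax y) = (1 / 8 : ℝ) • (ax x + ax y - ax (x * y))) : Nat.card ↥X ≤ 4 := by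
  by_contra hc
  push Not at hc
  classical
  haveI : Finite X := Nat.finite_of_card_ne_zero (by omega)
  haveI : Fintype X := Fintype.ofFinite _
  have hpick : ∀ S : Finset X, S.card ≤ 4 → ∃ u : X, u ∉ S := fun S hS => by
    by_contra hall
    push Not at hall
    have := Finset.card_le_card (show (Finset.univ : Finset X) ⊆ S from fun u _ => hall u)
    rw [Finset.card_univ, ← Nat.card_eq_fintype_card] at this
    omega
  obtain ⟨x, hx1⟩ := hpick {1} (by simp)
  obtain ⟨y, hy⟩ := hpick {1, x} (Finset.card_le_two.trans (by norm_num))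
  obtain ⟨z, hz⟩ := hpick {1, x, y, x * y} Finset.card_le_four
  simp only [Finset.mem_insert, Finset.mem_singleton, not_or] at hx1 hy hz
  obtain ⟨hy1, hyx⟩ := hy
  obtain ⟨hz1, hzx, hzy, hzxy⟩ := hz
  have hinv : ∀ u : X, u * u = 1 := fun u => Subtype.ext (hX u u.2)
  have hself : ∀ u : X, u⁻¹ = u := fun u => inv_eq_of_mul_eq_one_right (hinv u)
  have hcom : ∀ u v : X, u * v = v * u := fun u v => by
    rw [← hself (u * v), mul_inv_rev, hself, hself]
  have hcan : ∀ u v : X, u * (u * v) = v := fun u v => by rw [← mul_assoc, hinv, one_mul]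
  have hne : ∀ u v : X, u ≠ v → u * v ≠ 1 := fun u v h e =>
    h (by have := congrArg (u * ·) e; simp only [hcan, mul_one] at this; exact this.symm)
  let A : X → V := fun u => ax (u : V ≃ₗ[ℝ] V)
  have hcoe : ∀ u : X, u ≠ 1 → (u : V ≃ₗ[ℝ] V) ≠ 1 := fun u h e => h (Subtype.ext e)
  have hmul : ∀ u v : X, u ≠ 1 → v ≠ 1 → u ≠ v → mul (A u) (A v) = (1 / 8 : ℝ) • (A u + A v - A (u * v)) :=
    fun u v hu hv huv => h2A u u.2 v v.2 (hcoe u hu) (hcoe v hv) fun e => huv (Subtype.ext e)
  obtain ⟨-, -, ⟨⟨-, haa, -, hlaw⟩, -⟩, -⟩ := hax x x.2 (hcoe x hx1)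
  have hxy1 := hne x y (Ne.symm hyx)
  have hxz1 := hne x z (Ne.symm hzx)
  have hyz1 := hne y z (Ne.symm hzy)
  have hxyz1 : x * (y * z) ≠ 1 := by
    rw [← mul_assoc]; exact hne _ z (Ne.symm hzxy)
  have hyzx : y * z ≠ x := fun e => hzxy (by rw [← hcan y z, e, hcom])
  have hxzy : x * z ≠ y := fun e => hzxy (by rw [← hcan x z, e])
  have e14 : ∀ v : X, v ≠ 1 → v ≠ x → A v - A (x * v) ∈ Cfsg.Axial.eigen mul (A x) (1 / 4) := by
    intro v hv hvx
    rw [Cfsg.Axial.eigen, Module.End.mem_eigenspace_iff, map_sub, hmul x v hx1 hv (Ne.symm hvx),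
      hmul x (x * v) hx1 (hne x v (Ne.symm hvx)) (fun e => hv (by simpa using e)), hcan]
    module
  have hw := hlaw (1 / 4) (by simp [Cfsg.Axial.majoranaSpectrum]) (1 / 4) (by simp [Cfsg.Axial.majoranaSpectrum])
    _ (e14 y hy1 hyx) _ (e14 z hz1 hzx)
  rw [show Cfsg.Axial.monsterLaw (1 / 4 : ℝ) (1 / 32) (1 / 4) (1 / 4) = ({1, 0} : Set ℝ) by
    norm_num [Cfsg.Axial.monsterLaw]] at hw
  set w := mul (A y - A (x * y)) (A z - A (x * z)) with hwdef
  have hprod : w = (1 / 4 : ℝ) • (A (x * (y * z)) - A (y * z)) := by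
    have k1 : y * (x * z) = x * (y * z) := by rw [← mul_assoc, hcom y x, mul_assoc]
    have k2 : x * y * (x * z) = y * z := by rw [mul_assoc, k1, hcan]
    rw [hwdef]
    simp only [map_sub, LinearMap.sub_apply]
    rw [      hmul y z hy1 hz1 (Ne.symm hzy),
      hmul y (x * z) hy1 hxz1 (Ne.symm hxzy),
      hmul (x * y) z hxy1 hz1 (Ne.symm hzxy),
      hmul (x * y) (x * z) hxy1 hxz1 (fun e => hzy (mul_left_cancel e).symm), k1, k2, mul_assoc x y z]
    module
  have hw4 : mul (A x) w = (1 / 4 : ℝ) • w := by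
    have := Module.End.mem_eigenspace_iff.1 (e14 (y * z) hyz1 hyzx)
    rw [hprod, map_smul, ← neg_sub (A (y * z)) (A (x * (y * z))), map_neg, this]
    module
  rw [Cfsg.Axial.eigenSum, iSup_pair, Submodule.mem_sup] at hw
  obtain ⟨p, hp, q, hq, hpq⟩ := hw
  rw [Cfsg.Axial.eigen, Module.End.mem_eigenspace_iff, one_smul] at hp
  rw [Cfsg.Axial.eigen, Module.End.mem_eigenspace_iff, zero_smul] at hq
  have hp' : p = (1 / 4 : ℝ) • w := by
    rw [← hw4, ← hpq, map_add, hp, hq, add_zero]
  have hw0 : w = 0 := by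
    have h := hp
    rw [hp', map_smul, hw4, smul_smul] at h
    have h' : ((1 / 4 * (1 / 4) : ℝ) - 1 / 4) • w = 0 := by rw [sub_smul, h, sub_self]
    exact (smul_eq_zero.1 h').resolve_left (by norm_num)
  rw [hprod, smul_eq_zero, sub_eq_zero] at hw0
  have hfg : A (x * (y * z)) = A (y * z) := hw0.resolve_left (by norm_num)
  obtain ⟨-, -, ⟨⟨-, hff, -, -⟩, -⟩, -⟩ := hax (y * z : X) (y * z).2 (hcoe _ hyz1)
  have h8 := hmul (y * z) (x * (y * z)) hyz1 hxyz1 (fun e => hx1 (by simpa using e))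
  rw [hfg, show y * z * (x * (y * z)) = x by rw [hcom x, hcan]] at h8
  have hff' : mul (A (y * z)) (A (y * z)) = A (y * z) := hff
  rw [hff'] at h8
  have ha : A x = (-6 : ℝ) • A (y * z) := by
    linear_combination (norm := module) (8 : ℝ) • h8
  have n1 : B (A x) (A x) = 1 := h1 x x.2 (hcoe x hx1)
  have n2 : B (A (y * z)) (A (y * z)) = 1 := h1 _ (y * z).2 (hcoe _ hyz1)
  simp only [ha, map_smul, LinearMap.smul_apply, n2, smul_eq_mul] at n1
  norm_num at n1

end Cfsg.Agent.S5543
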