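import Cfsg.Statements.S5550
import Cfsg.Agent.Lib.Golay.Invariant

set_option autoImplicit false
open Cfsg

namespace Cfsg.Agent.S5550

open CfsgLib.Golay CfsgLib.Golay.Invariant
open scoped Pointwise

/-- generators of the stabilizer of `rep` move every nonzero coset -/
def fixChk (gens : List ℕ) (rep : ℕ) : Bool :=
  gens.all (fun P => inM24 P && mimg P rep == rep) &&
    (List.range 4096).all fun j => inC (j <<< 12) ||
      gens.any fun P => !inC (mimg P (j <<< 12) ^^^ j <<< 12)

theorem chk : fixChk [shiftP, invP, twistP] 0 = true ∧ fixChk [shiftP, invP, twistP] fullMask = true ∧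
    fixChk gensOct oct0 = true ∧ fixChk gensDod dod0 = true ∧
    fixChk gensOct (oct0 ^^^ fullMask) = true := by
  decide +kernel

theorem valid_of_inM24 {P : ℕ} (h : inM24 P = true) : validP P = true := by
  simp only [inM24, Bool.and_eq_true] at h; exact h.1

theorem exists_rep (u : GolayPt → ZMod 2) (hu : u ∈ golayCode) :
    ∃ gens rep, fixChk gens rep = true ∧ ∃ k ∈ M24, act k (wd rep) = u := by
  obtain ⟨c1, c2, c3, c4, c5⟩ := chk
  have hs : support₂ u ∈ supports (golayCode : Set (GolayPt → ZMod 2)) := ⟨u, hu, rfl⟩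
  rcases card_supports hs with h | h | h | h | h
  · refine ⟨_, _, c1, 1, one_mem _, ?_⟩
    rw [← ind_support u, Finset.card_eq_zero.1 h, wd_zero]
    funext p; simp [ind, act]
  · obtain ⟨g, hg, he⟩ := exists_smul_oct0 (o := support₂ u) ⟨hs, h⟩
    exact ⟨_, _, c3, g, hg, by rw [← ind_dec, act_ind, he, ind_support]⟩
  · obtain ⟨g, hg, he⟩ := exists_smul_dod0 (d := support₂ u) ⟨hs, h⟩
    exact ⟨_, _, c4, g, hg, by rw [← ind_dec, act_ind, he, ind_support]⟩
  · obtain ⟨g, hg, he⟩ := exists_smul_oct0 (o := (support₂ u)ᶜ)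
      ⟨compl_mem_supports hs, by rw [Finset.card_compl, h]; rfl⟩
    refine ⟨_, _, c5, g, hg, ?_⟩
    rw [wd_xor, act_add, ← ind_dec, act_ind, he, wd_full]
    funext p
    show ind (support₂ u)ᶜ p + 1 = u p
    conv_rhs => rw [← ind_support u]
    simp only [ind, Finset.mem_compl]
    by_cases hp : p ∈ support₂ u <;> simp [hp, CharTwo.add_self_eq_zero]
  · refine ⟨_, _, c2, 1, one_mem _, ?_⟩
    rw [← ind_support u, Finset.eq_univ_of_card _ (show (support₂ u).card = Fintype.card GolayPt from h),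
      wd_full]
    funext p; simp [ind, act]

theorem split_low {m : ℕ} (hm : m < 2 ^ 24) :
    m = comb rows (m % 4096) ^^^ ((comb rows (m % 4096) ^^^ m) >>> 12) <<< 12 ∧
      inC (comb rows (m % 4096)) = true ∧ (comb rows (m % 4096) ^^^ m) >>> 12 < 4096 := by
  have hlo : m % 4096 ∈ List.range 4096 := List.mem_range.2 (Nat.mod_lt _ (by norm_num))
  have hmem : comb rows (m % 4096) ∈ codeList := List.mem_map_of_mem hlo
  have hc := comb_low _ hlo
  refine ⟨?_, inC_iff_mem_codeList.2 hmem, ?_⟩
  · have h1 : (comb rows (m % 4096) ^^^ m) % 2 ^ 12 = 0 := by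
      rw [Nat.xor_mod_two_pow, show (2 : ℕ) ^ 12 = 4096 from rfl, hc, Nat.xor_self]
    have h2 : ((comb rows (m % 4096) ^^^ m) >>> 12) <<< 12 = comb rows (m % 4096) ^^^ m := by
      rw [Nat.shiftLeft_eq, Nat.shiftRight_eq_div_pow, Nat.div_mul_cancel (Nat.dvd_of_mod_eq_zero h1)]
    rw [h2, ← Nat.xor_assoc, Nat.xor_self, Nat.zero_xor]
  · rw [Nat.shiftRight_eq_div_pow, Nat.div_lt_iff_lt_mul (by norm_num)]
    exact Nat.xor_lt_two_pow (n := 24) (codeList_lt hmem) hm

/-- Let u be a word of the length-24 binary Golay code of the definitions (possibly zero or all-ones) and w any binary word of length 24 outside the code. Then some automorphism of the code (a coordinate permutation preserving it) fixes u but moves w to a word not congruent to w modulo the code: the stabilizer of a codeword fixes no non-zero element of the quotient of the space of all words by the code. -/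
theorem result (u : (Cfsg.GolayPt → ZMod 2)) (hu : u ∈ Cfsg.golayCode) (w : (Cfsg.GolayPt → ZMod 2)) (hw : w ∉ Cfsg.golayCode) : ∃ σ ∈ Cfsg.M24, (fun p => u (σ.symm p)) = u ∧ (fun p => w (σ.symm p)) - w ∉ Cfsg.golayCode := by
  obtain ⟨gens, rep, hchk, k, hk, hku⟩ := exists_rep u hu
  obtain ⟨m, hm, hmw⟩ := exists_mask_word (act k⁻¹ w)
  simp only [fixChk, Bool.and_eq_true, List.all_eq_true, List.any_eq_true, Bool.not_eq_true', beq_iff_eq, List.mem_range] at hchk
  obtain ⟨hgens, hall⟩ := hchk
  set j := (comb rows (m % 4096) ^^^ m) >>> 12 with hj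
  obtain ⟨hsplit, hc12, hj12⟩ := split_low hm
  have hwn : act k⁻¹ w ∉ Cfsg.golayCode := fun h => hw (by
    have := act_mem_code hk h
    rwa [← act_mul, mul_inv_cancel] at this)
  have hr : inC (j <<< 12) = false := by
    rw [Bool.eq_false_iff]
    intro h
    refine hwn ?_
    rw [← hmw, hsplit]
    exact wd_mem_of_inC (inC_xor hc12 h)
  have hj2 := hall j hj12
  simp only [hr, Bool.false_or, List.any_eq_true, Bool.not_eq_true'] at hj2
  obtain ⟨P, hP, hne⟩ := hj2
  obtain ⟨hPM, hPrep⟩ := hgens P hP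
  have hv : validP P = true := valid_of_inM24 hPM
  refine ⟨k * toPerm P * k⁻¹, mul_mem (mul_mem hk (toPerm_mem_M24 hPM)) (inv_mem hk), ?_, ?_⟩
  · show act (k * toPerm P * k⁻¹) u = u
    rw [← hku, ← act_mul, inv_mul_cancel_right, act_mul, act_wd hv, hPrep]
  · intro h
    change act (k * toPerm P * k⁻¹) w - w ∈ Cfsg.golayCode at h
    have h2 := act_mem_code (inv_mem hk) h
    have h3 : act (toPerm P) (wd m) + wd m ∈ Cfsg.golayCode := by
      have e : act k⁻¹ (act (k * toPerm P * k⁻¹) w - w) = act (toPerm P) (wd m) + wd m := by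
        rw [hmw, ← act_mul]
        funext p
        show act (k⁻¹) (act (k * toPerm P * k⁻¹) w) p - act k⁻¹ w p = act (toPerm P * k⁻¹) w p + act k⁻¹ w p
        rw [← act_mul, show k⁻¹ * (k * toPerm P * k⁻¹) = toPerm P * k⁻¹ by group, sub_eq_add_neg, ZMod.neg_eq_self_mod_two]
      rwa [e] at h2
    rw [act_wd hv] at h3
    obtain ⟨n, hn, hnC, hne'⟩ := mem_golayCode.1 h3
    rw [← wd_xor] at hne'
    have h4 : inC (mimg P m ^^^ m) = true :=
      wd_eq_of hn (Nat.xor_lt_two_pow (mimg_lt hv m) hm) hne' ▸ hnC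
    have h5 : wd (mimg P (j <<< 12) ^^^ j <<< 12) = wd (mimg P m ^^^ m) +
        (act (toPerm P) (wd (comb rows (m % 4096))) + wd (comb rows (m % 4096))) := by
      rw [wd_xor, wd_xor, ← act_wd hv, ← act_wd hv, ← show wd (comb rows (m % 4096)) + wd (j <<< 12) = wd m by rw [← wd_xor, ← hsplit], act_add]
      have := add_self (act (toPerm P) (wd (comb rows (m % 4096))))
      have := add_self (wd (comb rows (m % 4096)))
      calc act (toPerm P) (wd (j <<< 12)) + wd (j <<< 12)
          = act (toPerm P) (wd (j <<< 12)) + wd (j <<< 12) + ((act (toPerm P) (wd (comb rows (m % 4096))) + act (toPerm P) (wd (comb rows (m % 4096)))) + (wd (comb rows (m % 4096)) + wd (comb rows (m % 4096)))) := by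
            rw [add_self, add_self, add_zero, add_zero]
        _ = _ := by abel
    have h6 : wd (mimg P (j <<< 12) ^^^ j <<< 12) ∈ Cfsg.golayCode := by
      rw [h5]
      exact add_mem (wd_mem_of_inC h4) (add_mem (act_mem_code (toPerm_mem_M24 hPM) (wd_mem_of_inC hc12)) (wd_mem_of_inC hc12))
    obtain ⟨n', hn', hnC', he'⟩ := mem_golayCode.1 h6
    have hj24 : j <<< 12 < 2 ^ 24 := by rw [Nat.shiftLeft_eq]; omega
    have h7 : n' = mimg P (j <<< 12) ^^^ j <<< 12 :=
      wd_eq_of hn' (Nat.xor_lt_two_pow (mimg_lt hv _) hj24) he'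
    rw [h7, hne] at hnC'
    exact Bool.noConfusion hnC'

end Cfsg.Agent.S5550
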