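import Cfsg.Statements.S5555
import Cfsg.Agent.Lib.ThreeTrans.TriangleSplit
import Cfsg.Agent.Lib.Classical.SUThreeTwoDerived

set_option autoImplicit false
open Cfsg

namespace Cfsg.Agent.S5555

/-- Let G be a finite group generated by a conjugacy class D of 3-transpositions, with trivial centre and with generalized Fitting subgroup F*(G) = O₂(G) (so the Fitting subgroup is O₂(G) too). If G/O₂(G) is isomorphic to the derived group of SU₃(2) (the group of order 54 generated by nine 3-transpositions), then O₂(G) has a complement in G. -/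
theorem result {G : Type*} [Group G] [Finite G] {D : Set G} (hD : Cfsg.IsThreeTranspositionClass D)
    (hZ : Subgroup.center G = ⊥) (hF : Cfsg.generalizedFittingSubgroup G = Cfsg.pCore 2 G)
    (hq : ∃ (F : Type) (_ : Field F) (_ : Fintype F), Fintype.card F = 4 ∧ Nonempty (G ⧸ Cfsg.pCore 2 G ≃* ↥(commutator ↥(Cfsg.SU 3 F 2)))) :
    ∃ K : Subgroup G, (Cfsg.pCore 2 G).IsComplement' K := by
  obtain ⟨F, _, _, hF, ⟨e⟩⟩ := hq
  obtain ⟨⟨hinv, h3⟩, ⟨d, hd, hDd⟩, hgen⟩ := hD
  obtain ⟨hcard, z, hz3, hzc, hzd⟩ := CfsgLib.Classical.SUThreeTwoDerived.derived_SU (F := F) hF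
  refine CfsgLib.ThreeTrans.TriangleSplit.exists_complement (D := D)
    (fun x hx => by rw [← sq, ← hinv x hx]; exact pow_orderOf_eq_one x) h3 ?_ hgen (Cfsg.pCore 2 G)
    (by rw [Nat.card_congr e.toEquiv]; exact hcard) (e.symm z)
    (by rw [e.symm.orderOf_eq]; exact hz3) ?_ ?_
  · intro g x hx
    rw [hDd] at hx ⊢
    exact (show IsConj d x from hx).trans (isConj_iff.2 ⟨g, rfl⟩)
  · rw [Subgroup.mem_center_iff]
    intro y
    apply e.injective
    rw [map_mul, map_mul, e.apply_symm_apply]
    exact Subgroup.mem_center_iff.1 hzc (e y)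
  · have key : ∀ {A B : Type _} [Group A] [Group B] (f : A →* B) (x : A), x ∈ commutator A →
        f x ∈ commutator B := by
      intro A B _ _ f x hx
      have h := Subgroup.mem_map_of_mem f hx
      rw [commutator_def, Subgroup.map_commutator] at h
      exact Subgroup.commutator_mono le_top le_top h
    exact key e.symm.toMonoidHom z hzd

end Cfsg.Agent.S5555
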