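import Cfsg.Statements.S5559
import Cfsg.Agent.Lib.ThreeTransp.StringHom
import Cfsg.Agent.Lib.ThreeTransp.Classes
import Cfsg.Agent.Lib.ThreeTrans.TriangleSplit
import Cfsg.Agent.Lib.Classical.SUThreeTwoDerived
import Cfsg.Agent.Lib.Coprime.Action
import Cfsg.Agent.Lib.Layer.Basic
import Cfsg.Agent.Lib.SectRank.CenterPair

set_option autoImplicit false
set_option linter.unusedSectionVars false
set_option linter.style.haveILetI false
open Cfsg CfsgLib
open scoped commutatorElement

namespace Cfsg.Agent.S5559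

/-! ### Elementary lemmas -/

theorem comm_pow_left {G : Type*} [Group G] {x y z : G} (hyx : y * x = z * (x * y)) (hzx : Commute z x)
    (hzy : Commute z y) (hx : x ^ 3 = 1) : z ^ 3 = 1 := by
  have h1 : ∀ n : ℕ, y * x ^ n = z ^ n * (x ^ n * y) := by
    intro n
    induction n with
    | zero => simp
    | succ n ih =>
      calc y * x ^ (n + 1) = y * x ^ n * x := by rw [pow_succ, mul_assoc]
        _ = z ^ n * (x ^ n * (y * x)) := by rw [ih]; simp only [mul_assoc]
        _ = z ^ n * (x ^ n * z * (x * y)) := by rw [hyx]; simp only [mul_assoc]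
        _ = z ^ n * (z * x ^ n * (x * y)) := by rw [(hzx.pow_right n).eq]
        _ = z ^ (n + 1) * (x ^ (n + 1) * y) := by simp only [pow_succ, mul_assoc]
  have h2 := h1 3
  rw [hx, mul_one, one_mul] at h2
  exact mul_right_cancel (b := y) (by rw [one_mul]; exact h2.symm)

theorem cube_mul {G : Type*} [Group G] {x y z : G} (hyx : y * x = z * (x * y)) (hzx : Commute z x)
    (hzy : Commute z y) (hx : x ^ 3 = 1) (hy : y ^ 3 = 1) : (x * y) ^ 3 = 1 := by
  have hz := comm_pow_left hyx hzx hzy hx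
  have hc : Commute z (x * y) := hzx.mul_right hzy
  calc (x * y) ^ 3 = x * (y * x) * (y * x) * y := by simp only [pow_succ, pow_zero, one_mul, mul_assoc]
    _ = z * (z * (x * (x * y) * (x * y) * y)) := by
      rw [hyx]
      simp only [mul_assoc, hzx.symm.left_comm, hzy.symm.left_comm]
    _ = z * (z * (x * x * (y * x) * (y * y))) := by simp only [mul_assoc]
    _ = z * (z * (z * (x ^ 3 * y ^ 3))) := by
      rw [hyx]
      simp only [pow_succ, pow_zero, one_mul, mul_assoc, hzx.symm.left_comm]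
    _ = z ^ 3 := by rw [hx, hy]; simp [pow_succ, mul_assoc]
    _ = 1 := hz

/-- A pair of elements of order three inverted by an involution, with central commutator. -/
structure Triple {G : Type*} [Group G] (a b d : G) : Prop where
  ha : a ^ 3 = 1
  hb : b ^ 3 = 1
  hd : d * d = 1
  da : d * a * d = a⁻¹
  db : d * b * d = b⁻¹
  ca : Commute (a * b * a⁻¹ * b⁻¹) a
  cb : Commute (a * b * a⁻¹ * b⁻¹) b

theorem Triple.card_le {G : Type*} [Group G] [Finite G] {a b d : G} (T : Triple a b d) :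
    Nat.card (Subgroup.closure ({d, a * d, b * d} : Set G)) ≤ 54 := by
  obtain ⟨ha, hb, hd, da, db, ca, cb⟩ := T
  set z := a * b * a⁻¹ * b⁻¹ with hz
  have hab : a * b = z * (b * a) := by rw [hz]; group
  have hd' : d⁻¹ = d := inv_eq_of_mul_eq_one_right hd
  have cdd : ∀ w : G, d * (d * w) = w := fun w => by rw [← mul_assoc, hd, one_mul]
  have da' : d * a = a⁻¹ * d := by rw [← da, mul_assoc, hd, mul_one]
  have db' : d * b = b⁻¹ * d := by rw [← db, mul_assoc, hd, mul_one]
  have hcz : z ^ 3 = 1 := comm_pow_left hab cb ca hb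
  have hai : a⁻¹ = a * a := inv_eq_of_mul_eq_one_right (by rw [← ha]; simp [pow_succ, mul_assoc])
  have hbi : b⁻¹ = b * b := inv_eq_of_mul_eq_one_right (by rw [← hb]; simp [pow_succ, mul_assoc])
  have hbi3 : (b⁻¹) ^ 3 = 1 := by rw [inv_pow, hb, inv_one]
  -- commutators with powers of `a`
  have hzi : z⁻¹ ^ 3 = 1 := by rw [inv_pow, hcz, inv_one]
  have hba : b⁻¹ * a = z * (a * b⁻¹) := by
    calc b⁻¹ * a = b⁻¹ * (a * b) * b⁻¹ := by group
      _ = b⁻¹ * z * (b * a) * b⁻¹ := by rw [hab]; group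
      _ = z * b⁻¹ * (b * a) * b⁻¹ := by rw [cb.inv_right.eq]
      _ = z * (a * b⁻¹) := by group
  have h1 : (a * b⁻¹) ^ 3 = 1 := cube_mul hba ca cb.inv_right ha hbi3
  have ha2 : (a * a) ^ 3 = 1 := by rw [← sq, ← pow_mul, show 2 * 3 = 3 * 2 from rfl, pow_mul, ha, one_pow]
  have hbaa : b⁻¹ * (a * a) = z * z * (a * a * b⁻¹) := by
    rw [← mul_assoc, hba]
    simp only [mul_assoc]
    rw [show b⁻¹ * a = z * (a * b⁻¹) from hba]
    simp only [mul_assoc, ca.symm.left_comm]
  have h2 : (a * a * b⁻¹) ^ 3 = 1 :=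
    cube_mul hbaa ((ca.mul_left ca).mul_right (ca.mul_left ca))
      (cb.inv_right.mul_left cb.inv_right) ha2 hbi3
  refine ThreeTrans.TriangleSplit.card_closure_le hd ?_ ?_ ?_ ?_ ?_ ?_
  · rw [← mul_assoc, mul_assoc a d a, da', ← mul_assoc a, mul_inv_cancel, one_mul, hd]
  · rw [← mul_assoc, mul_assoc b d b, db', ← mul_assoc b, mul_inv_cancel, one_mul, hd]
  · rw [← mul_assoc, da, inv_pow, ha, inv_one]
  · rw [← mul_assoc, db, inv_pow, hb, inv_one]
  · rw [show a * d * (b * d) = a * (d * b * d) by group, db]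
    exact h1
  · rw [show a * d * d * (a * d) * (b * d) = a * (d * d) * a * (d * b * d) by group, hd, mul_one, db]
    exact h2

theorem Triple.exists_hom {K H : Type*} [Group K] [Finite K] [Group H] [Finite H] {a b d : K}
    {a' b' d' : H} (T : Triple a b d) (T' : Triple a' b' d')
    (hgen : Subgroup.closure ({d, a * d, b * d} : Set K) = ⊤) (hK : Nat.card K = 54) :
    ∃ φ : K →* H, φ a = a' ∧ φ b = b' ∧ φ d = d' := by
  have Tp : Triple ((a, a') : K × H) (b, b') (d, d') :=
    ⟨Prod.ext T.ha T'.ha, Prod.ext T.hb T'.hb, Prod.ext T.hd T'.hd, Prod.ext T.da T'.da,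
      Prod.ext T.db T'.db, Prod.ext T.ca.eq T'.ca.eq, Prod.ext T.cb.eq T'.cb.eq⟩
  have hrange : ∀ {X : Type _} (x y z : X), Set.range ![x, y, z] = {x, y, z} := by
    intro X x y z
    ext w
    simp [Fin.exists_fin_succ, eq_comm]
    tauto
  have hr : (Set.range fun i : Fin 3 => (![d, a * d, b * d] i, ![d', a' * d', b' * d'] i))
      = {((d, d') : K × H), (a, a') * (d, d'), (b, b') * (d, d')} := by
    ext w
    simp [Fin.exists_fin_succ, eq_comm]
  obtain ⟨φ, hφ⟩ := ThreeTransp.exists_hom_of_ncard_le ![d, a * d, b * d] ![d', a' * d', b' * d']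
    (by rw [hrange]; exact hgen)
    (by rw [hr]; exact Set.toFinite _)
    (by rw [hr, hK, ← Nat.card_coe_set_eq]; exact Tp.card_le)
  have hd0 : φ d = d' := hφ 0
  have ha0 : φ (a * d) = a' * d' := hφ 1
  have hb0 : φ (b * d) = b' * d' := hφ 2
  rw [map_mul, hd0] at ha0 hb0
  exact ⟨φ, mul_right_cancel ha0, mul_right_cancel hb0, hd0⟩

theorem perm_three_cases (p : Equiv.Perm (Fin 3)) : p = 1 ∨ p = Equiv.swap 0 1 ∨ p = Equiv.swap 1 2
    ∨ p = Equiv.swap 0 1 * Equiv.swap 1 2 ∨ p = Equiv.swap 1 2 * Equiv.swap 0 1 ∨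
    p = Equiv.swap 0 1 * Equiv.swap 1 2 * Equiv.swap 0 1 := by
  revert p
  decide

/-! ### The derived group of `SU₃(2)` -/

/-- Generators of a group of order `54` with a central commutator of order three and no central
involution. -/
theorem gens_of_card {K : Type*} [Group K] [Finite K] (hcard : Nat.card K = 54) {z : K}
    (hz3 : orderOf z = 3) (hzc : z ∈ Subgroup.center K) (hzd : z ∈ commutator K)
    (hc2 : ∀ c ∈ Subgroup.center K, c * c = 1 → c = 1) :
    ∃ a b d : K, Triple a b d ∧ a * b ≠ b * a ∧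
      Subgroup.closure ({d, a * d, b * d} : Set K) = ⊤ := by
  -- Sylow subgroups
  haveI : Fact (Nat.Prime 3) := ⟨Nat.prime_three⟩
  haveI : Fact (Nat.Prime 2) := ⟨Nat.prime_two⟩
  obtain ⟨P⟩ : Nonempty (Sylow 3 K) := inferInstance
  have hP : Nat.card P = 27 := by
    rw [Sylow.card_eq_multiplicity, hcard, show (54 : ℕ) = 2 * 3 ^ 3 from rfl,
      Nat.factorization_mul (by norm_num) (by norm_num), Nat.prime_two.factorization,
      Nat.prime_three.factorization_pow]
    simp
  have hidx : (P : Subgroup K).index = 2 := by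
    have h1 := (P : Subgroup K).card_mul_index
    rw [hcard] at h1
    have h2 : Nat.card (P : Subgroup K) = 27 := hP
    rw [h2] at h1
    omega
  haveI : (P : Subgroup K).Normal := Subgroup.normal_of_index_eq_two hidx
  obtain ⟨d, hd⟩ := exists_prime_orderOf_dvd_card' (G := K) 2 (by rw [hcard]; norm_num)
  have hdd : d * d = 1 := by rw [← sq, ← hd]; exact pow_orderOf_eq_one d
  have hd' : d⁻¹ = d := inv_eq_of_mul_eq_one_right hdd
  have hdP : d ∉ (P : Subgroup K) := fun h => by
    have := Subgroup.orderOf_dvd_natCard _ h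
    rw [hd, hP] at this
    norm_num at this
  have hcov : ∀ g : K, g ∈ (P : Subgroup K) ∨ g * d ∈ (P : Subgroup K) := by
    intro g
    by_contra! h
    exact h.2 ((Subgroup.mul_mem_iff_of_index_two hidx).mpr ⟨fun e => absurd e h.1, fun e => absurd e hdP⟩)
  have odd : ∀ x ∈ (P : Subgroup K), x * x = 1 → x = 1 := by
    intro x hx hxx
    have h1 := Subgroup.orderOf_dvd_natCard _ hx
    have h2 : orderOf x ∣ 2 := orderOf_dvd_of_pow_eq_one (by rw [sq, hxx])
    have h3 : orderOf x ∣ 1 := by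
      have := Nat.dvd_gcd (hP ▸ h1) h2
      simpa using this
    exact orderOf_eq_one_iff.mp (Nat.dvd_one.mp h3)
  -- `P` is nonabelian
  have hzP : z ∈ (P : Subgroup K) := by
    rcases hcov z with h | h
    · exact h
    · exfalso
      have h1 : (z * d) ^ 2 = z ^ 2 := by
        rw [sq, sq, show z * d * (z * d) = z * (d * z) * d by group,
          Subgroup.mem_center_iff.mp hzc d, show z * (z * d) * d = z * z * (d * d) by group, hdd, mul_one]
      have h2 : z ^ 2 ∈ (P : Subgroup K) := h1 ▸ pow_mem h 2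
      have h3 : z ∈ (P : Subgroup K) := by
        have e : z = (z ^ 2) ^ 2 * (z ^ 3)⁻¹ := by group
        rw [show z ^ 3 = 1 from hz3 ▸ pow_orderOf_eq_one z, inv_one, mul_one] at e
        exact e ▸ pow_mem h2 2
      exact hdP (by simpa using mul_mem (inv_mem h3) h)
  have hzne : z ≠ 1 := fun h => by rw [h, orderOf_one] at hz3; norm_num at hz3
  have hnab : ¬ ∀ x ∈ (P : Subgroup K), ∀ y ∈ (P : Subgroup K), x * y = y * x := by
    intro hab
    -- then the inverted elements contain every commutator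
    have hPd : ∀ x ∈ (P : Subgroup K), d * x * d ∈ (P : Subgroup K) := fun x hx => by
      have := Subgroup.Normal.conj_mem inferInstance x hx d
      rwa [hd'] at this
    have dinv : ∀ x : K, d * x⁻¹ * d = (d * x * d)⁻¹ := fun x => by
      rw [mul_inv_rev, mul_inv_rev, hd', mul_assoc]
    have dcon : ∀ x : K, d * (d * x * d) * d = x := fun x => by
      rw [show d * (d * x * d) * d = (d * d) * x * (d * d) by group, hdd, one_mul, mul_one]
    let I : Subgroup K :=
      { carrier := {x | x ∈ (P : Subgroup K) ∧ d * x * d = x⁻¹}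
        one_mem' := ⟨one_mem _, by simp [hdd]⟩
        mul_mem' := fun {x y} hx hy => ⟨mul_mem hx.1 hy.1, by
          rw [show d * (x * y) * d = d * x * (1 : K) * y * d by group, ← hdd,
            show d * x * (d * d) * y * d = (d * x * d) * (d * y * d) by group, hx.2, hy.2,
            hab _ (inv_mem hx.1) _ (inv_mem hy.1), ← mul_inv_rev]⟩
        inv_mem' := fun {x} hx => ⟨inv_mem hx.1, by rw [dinv, hx.2]⟩ }
    haveI : I.Normal := by
      refine ⟨fun x hx g => ?_⟩
      have hP' : ∀ q ∈ (P : Subgroup K), q * x * q⁻¹ = x := fun q hq => by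
        rw [hab q hq x hx.1, mul_inv_cancel_right]
      rcases hcov g with h | h
      · rw [hP' g h]; exact hx
      · have hxd : d * x * d ∈ I := ⟨hPd x hx.1, by rw [dcon, hx.2, inv_inv]⟩
        have e : g * x * g⁻¹ = (g * d) * (d * x * d) * (g * d)⁻¹ := by
          rw [mul_inv_rev, hd', show g * d * (d * x * d) * (d * g⁻¹) = g * (d * d) * x * (d * d) * g⁻¹ by group,
            hdd]
          group
        rw [e, hab (g * d) h _ hxd.1, mul_inv_cancel_right]
        exact hxd
    have hcd : ∀ q ∈ (P : Subgroup K), (QuotientGroup.mk (d * q) : K ⧸ I) = QuotientGroup.mk (q * d) := by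
      intro q hq
      refine QuotientGroup.eq.mpr ?_
      have e : (d * q)⁻¹ * (q * d) = q⁻¹ * (d * q * d) := by rw [mul_inv_rev, hd']; group
      rw [e]
      refine ⟨mul_mem (inv_mem hq) (hPd q hq), ?_⟩
      calc d * (q⁻¹ * (d * q * d)) * d = (d * q⁻¹ * d) * q * (d * d) := by group
        _ = (d * q * d)⁻¹ * q := by rw [hdd, mul_one, dinv]
        _ = (q⁻¹ * (d * q * d))⁻¹ := by group
    have hcomm : ∀ u v : K ⧸ I, u * v = v * u := by
      have hform : ∀ u : K ⧸ I, ∃ q ∈ (P : Subgroup K), u = QuotientGroup.mk q ∨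
          u = QuotientGroup.mk q * QuotientGroup.mk d := by
        intro u
        induction u using QuotientGroup.induction_on with | _ g => ?_
        rcases hcov g with h | h
        · exact ⟨g, h, Or.inl rfl⟩
        · exact ⟨g * d, h, Or.inr (by rw [← QuotientGroup.mk_mul, mul_assoc, hdd, mul_one])⟩
      have hcd' : ∀ q ∈ (P : Subgroup K), Commute (QuotientGroup.mk d : K ⧸ I) (QuotientGroup.mk q) :=
        fun q hq => hcd q hq
      intro u v
      obtain ⟨q, hq, hu⟩ := hform u
      obtain ⟨r, hr, hv⟩ := hform v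
      have hqr : Commute (QuotientGroup.mk q : K ⧸ I) (QuotientGroup.mk r) := by
        show (QuotientGroup.mk q : K ⧸ I) * _ = _
        rw [← QuotientGroup.mk_mul, hab q hq r hr, QuotientGroup.mk_mul]
      rcases hu with rfl | rfl <;> rcases hv with rfl | rfl
      · exact hqr.eq
      · exact (hqr.mul_right (hcd' q hq).symm).eq
      · exact (hqr.mul_left (hcd' r hr)).eq
      · exact ((hqr.mul_right (hcd' q hq).symm).mul_left ((hcd' r hr).mul_right (Commute.refl _))).eq
    have hle : commutator K ≤ I := by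
      rw [commutator_eq_closure, Subgroup.closure_le]
      rintro _ ⟨x, y, rfl⟩
      rw [SetLike.mem_coe, ← QuotientGroup.eq_one_iff, ← QuotientGroup.mk'_apply,
        map_commutatorElement, commutatorElement_eq_one_iff_mul_comm]
      exact hcomm _ _
    obtain ⟨hzP', hz'⟩ := hle hzd
    rw [Subgroup.mem_center_iff.mp hzc d, mul_assoc z, hdd, mul_one] at hz'
    exact hzne (odd z hzP' (by nth_rw 1 [hz']; exact inv_mul_cancel z))
  -- the centre of `P`
  set Q := (P : Subgroup K)
  have hQc : Nat.card Q = 27 := hP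
  haveI : Nontrivial Q := Finite.one_lt_card_iff_nontrivial.mp (by rw [hQc]; norm_num)
  have hZ3 : Nat.card (Subgroup.center Q) = 3 := by
    have hdvd : Nat.card (Subgroup.center Q) ∣ 3 ^ 3 := by
      rw [show (3 : ℕ) ^ 3 = 27 from rfl, ← hQc]; exact Subgroup.card_subgroup_dvd_card _
    obtain ⟨k, hk, hk'⟩ := (Nat.dvd_prime_pow Nat.prime_three).mp hdvd
    haveI := P.isPGroup'.center_nontrivial
    have h1 : 1 < Nat.card (Subgroup.center Q) := Finite.one_lt_card
    have hq := Subgroup.card_eq_card_quotient_mul_card_subgroup (Subgroup.center Q)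
    rw [hQc, hk'] at hq
    interval_cases k
    · simp [hk'] at h1
    · simpa using hk'
    · exfalso
      haveI : IsCyclic (Q ⧸ Subgroup.center Q) := isCyclic_of_prime_card (p := 3) (by norm_num at hq; omega)
      refine hnab fun x hx y hy => congrArg Subtype.val
        (commutative_of_cyclic_center_quotient (QuotientGroup.mk' (Subgroup.center Q)) (by simp)
          ⟨x, hx⟩ ⟨y, hy⟩)
    · exfalso
      have htop : Subgroup.center Q = ⊤ := Subgroup.eq_top_of_card_eq _ (by rw [hk', hQc]; rfl)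
      refine hnab fun x hx y hy => ?_
      exact congrArg Subtype.val
        (Subgroup.mem_center_iff.mp (htop ▸ Subgroup.mem_top (⟨y, hy⟩ : Q)) ⟨x, hx⟩)
  have hq9 : Nat.card (Q ⧸ Subgroup.center Q) = 3 ^ 2 := by
    have hq := Subgroup.card_eq_card_quotient_mul_card_subgroup (Subgroup.center Q)
    rw [hQc, hZ3] at hq
    omega
  have cQ : ∀ {x y w : K}, x ∈ Q → y ∈ Q → w ∈ Q → Commute (x * y * x⁻¹ * y⁻¹) w := by
    intro x y w hx hy hw
    have h1 : (⁅(⟨x, hx⟩ : Q), ⟨y, hy⟩⁆ : Q) ∈ Subgroup.center Q := by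
      rw [← QuotientGroup.eq_one_iff, ← QuotientGroup.mk'_apply, map_commutatorElement,
        commutatorElement_eq_one_iff_mul_comm]
      exact IsPGroup.commutative_of_card_eq_prime_sq hq9 _ _
    exact (congrArg Subtype.val (Subgroup.mem_center_iff.mp h1 ⟨w, hw⟩)).symm
  have zQ : (⟨z, hzP⟩ : Q) ∈ Subgroup.center Q :=
    Subgroup.mem_center_iff.mpr fun w => Subtype.ext (Subgroup.mem_center_iff.mp hzc w)
  have cfix : ∀ w : Q, w ∈ Subgroup.center Q → d * (w : K) * d = w := by
    intro w hw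
    have hle : Subgroup.zpowers (⟨z, hzP⟩ : Q) = Subgroup.center Q := by
      refine Subgroup.eq_of_le_of_card_ge (Subgroup.zpowers_le.mpr zQ) (le_of_eq ?_)
      rw [hZ3, Nat.card_zpowers, ← Subgroup.orderOf_coe]
      exact hz3.symm
    rw [← hle] at hw
    obtain ⟨n, rfl⟩ := hw
    simp only [SubgroupClass.coe_zpow]
    rw [← ((show Commute z d from (Subgroup.mem_center_iff.mp hzc d).symm).zpow_left n).eq,
      mul_assoc, hdd, mul_one]
  have cube : ∀ {x}, x ∈ Q → d * x * d = x⁻¹ → x ^ 3 = 1 := by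
    intro x hx hinv
    have h1 : ((⟨x, hx⟩ : Q) : Q ⧸ Subgroup.center Q) ^ 3 = 1 := by
      set w := ((⟨x, hx⟩ : Q) : Q ⧸ Subgroup.center Q)
      obtain ⟨j, hj, hj'⟩ := (Nat.dvd_prime_pow Nat.prime_three).mp (hq9 ▸ orderOf_dvd_natCard w)
      refine orderOf_dvd_iff_pow_eq_one.mp ?_
      rw [hj']
      interval_cases j <;> norm_num
      exfalso
      haveI : IsCyclic (Q ⧸ Subgroup.center Q) := isCyclic_of_orderOf_eq_card w (by rw [hj', hq9])
      exact hnab fun u hu v hv => congrArg Subtype.val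
        (commutative_of_cyclic_center_quotient (QuotientGroup.mk' (Subgroup.center Q)) (by simp)
          ⟨u, hu⟩ ⟨v, hv⟩)
    rw [← QuotientGroup.mk_pow, QuotientGroup.eq_one_iff] at h1
    have h2 := cfix _ h1
    simp only [SubgroupClass.coe_pow] at h2
    have h3 : d * x ^ 3 * d = (x ^ 3)⁻¹ := by
      calc d * x ^ 3 * d = d * x * (d * d) * x * (d * d) * x * d := by
            rw [hdd, mul_one, mul_one]; simp [pow_succ, mul_assoc]
        _ = (d * x * d) * (d * x * d) * (d * x * d) := by simp only [mul_assoc]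
        _ = _ := by rw [hinv]; group
    refine odd _ (pow_mem hx 3) ?_
    rw [h2] at h3
    nth_rw 1 [h3]
    exact inv_mul_cancel _
  have hPd : ∀ x ∈ Q, d * x * d ∈ Q := fun x hx => by
    have := Subgroup.Normal.conj_mem inferInstance x hx d
    rwa [hd'] at this
  have dinvK : ∀ x : K, d * x⁻¹ * d = (d * x * d)⁻¹ := fun x => by
    rw [mul_inv_rev, mul_inv_rev, hd', mul_assoc]
  have ψinv : ∀ x : K, d * (x * (d * x * d)⁻¹) * d = (x * (d * x * d)⁻¹)⁻¹ := fun x => by
    rw [← dinvK, show d * (x * (d * x⁻¹ * d)) * d = d * x * d * x⁻¹ * (d * d) by group, hdd, mul_one,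
      dinvK, mul_inv_rev, inv_inv]
  have hgenQ : ∀ a b, a ∈ Q → b ∈ Q → a * b ≠ b * a →
      Subgroup.closure ({d, a * d, b * d} : Set K) = ⊤ := by
    intro a b ha hb hne
    set H := Subgroup.closure ({d, a * d, b * d} : Set K)
    have hdH : d ∈ H := Subgroup.subset_closure (by simp)
    have haH : a ∈ H := by
      have := mul_mem (Subgroup.subset_closure (by simp) : a * d ∈ H) hdH
      rwa [mul_assoc, hdd, mul_one] at this
    have hbH : b ∈ H := by
      have := mul_mem (Subgroup.subset_closure (by simp) : b * d ∈ H) hdH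
      rwa [mul_assoc, hdd, mul_one] at this
    set H' := H.subgroupOf Q
    have hH' : H' = ⊤ := by
      obtain ⟨k, hk, hk'⟩ := (Nat.dvd_prime_pow Nat.prime_three).mp
        (show Nat.card H' ∣ 3 ^ 3 by
          rw [show (3 : ℕ) ^ 3 = 27 from rfl, ← hQc]; exact Subgroup.card_subgroup_dvd_card _)
      have hcm : (∀ u v : H', u * v = v * u) → False := fun hh =>
        hne (congrArg (fun w : H' => ((w : Q) : K)) (hh ⟨⟨a, ha⟩, haH⟩ ⟨⟨b, hb⟩, hbH⟩))
      interval_cases k
      · haveI : Subsingleton H' := (Nat.card_eq_one_iff_unique.mp hk').1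
        exact (hcm fun u v => Subsingleton.elim _ _).elim
      · haveI := isCyclic_of_prime_card (p := 3) (α := H') (by simpa using hk')
        exact (hcm fun u v => IsCyclic.commutative.is_comm.comm u v).elim
      · exact (hcm (IsPGroup.commutative_of_card_eq_prime_sq hk')).elim
      · exact Subgroup.eq_top_of_card_eq _ (by rw [hk', hQc]; rfl)
    have hQH : Q ≤ H := Subgroup.subgroupOf_eq_top.mp hH'
    rw [eq_top_iff]
    intro g _
    rcases hcov g with h | h
    · exact hQH h
    · have := mul_mem (hQH h) hdH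
      rwa [mul_assoc, hdd, mul_one] at this
  have mψ : ∀ {x}, x ∈ Q → x * (d * x * d)⁻¹ ∈ Q := fun hx => mul_mem hx (inv_mem (hPd _ hx))
  -- some element is inverted and not central
  by_cases hall : ∀ x (hx : x ∈ Q), (⟨x * (d * x * d)⁻¹, mψ hx⟩ : Q) ∈ Subgroup.center Q
  · exfalso
    have hfix : ∀ x ∈ Q, d * x * d = x := by
      intro x hx
      have h1 := cfix _ (hall x hx)
      rw [ψinv] at h1
      have h2 := odd _ (mψ hx) (mul_eq_one_iff_eq_inv.mpr h1.symm)
      exact (mul_inv_eq_one.mp h2).symm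
    refine (orderOf_eq_one_iff.mpr (hc2 d ?_ hdd)).symm.trans hd |> absurd <| by norm_num
    rw [Subgroup.mem_center_iff]
    intro g
    have hq : ∀ q ∈ Q, Commute q d := fun q hq => by
      show q * d = d * q
      nth_rw 1 [← hfix q hq]
      rw [mul_assoc, hdd, mul_one]
    rcases hcov g with h | h
    · exact (hq g h).eq
    · have h1 := (hq _ h).mul_left (Commute.refl d)
      rwa [mul_assoc, hdd, mul_one] at h1
  · simp only [not_forall] at hall
    obtain ⟨x, hx, hxZ⟩ := hall
    set a := x * (d * x * d)⁻¹ with ha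
    have haQ : a ∈ Q := mψ hx
    have hainv : d * a * d = a⁻¹ := ψinv x
    by_cases hb : ∃ y ∈ Q, a * (y * (d * y * d)⁻¹) ≠ (y * (d * y * d)⁻¹) * a
    · obtain ⟨y, hy, hne⟩ := hb
      exact ⟨a, _, d, ⟨cube haQ hainv, cube (mψ hy) (ψinv y), hdd, hainv, ψinv y,
        cQ haQ (mψ hy) haQ, cQ haQ (mψ hy) (mψ hy)⟩, hne, hgenQ _ _ haQ (mψ hy) hne⟩
    · exfalso
      push Not at hb
      refine hxZ (Subgroup.mem_center_iff.mpr fun w => Subtype.ext ?_)
      obtain ⟨w, hw⟩ := w
      show w * a = a * w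
      -- the commutator of `a` and `w` is fixed and inverted by `d`
      set c := a * w * a⁻¹ * w⁻¹ with hc
      have hcm : c ∈ Q := mul_mem (mul_mem (mul_mem haQ hw) (inv_mem haQ)) (inv_mem hw)
      have hcc : (⟨c, hcm⟩ : Q) ∈ Subgroup.center Q :=
        Subgroup.mem_center_iff.mpr fun v => Subtype.ext (cQ haQ hw v.2).eq.symm
      have h1 := cfix _ hcc
      have hd1 : d * c * d = a⁻¹ * (d * w * d) * a * (d * w * d)⁻¹ := by
        have e : ∀ u v : K, d * (u * v) * d = (d * u * d) * (d * v * d) := fun u v => by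
          rw [show d * u * d * (d * v * d) = d * u * (d * d) * v * d by group, hdd]; group
        have ei : ∀ u : K, d * u⁻¹ * d = (d * u * d)⁻¹ := fun u => by
          rw [mul_inv_rev, mul_inv_rev, hd', mul_assoc]
        rw [hc, e, e, e, ei, ei, hainv, inv_inv]
      set w' := d * w * d
      have hu : Commute (w'⁻¹) (1 : K) := Commute.one_right _
      have hcomm : Commute a (w * w'⁻¹) := hb w hw
      -- `w'` and `w` have the same commutator with `a`
      have h2 : a * w' * a⁻¹ * w'⁻¹ = c := by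
        have e1 : w = (w * w'⁻¹) * w' := by group
        have hq : Commute (w * w'⁻¹) c := ((cQ haQ hw (mψ hw)).symm)
        rw [hc]
        calc a * w' * a⁻¹ * w'⁻¹
            = (w * w'⁻¹)⁻¹ * (a * w * a⁻¹ * w⁻¹) * (w * w'⁻¹) := by
              rw [show a * w * a⁻¹ * w⁻¹ = (a * (w * w'⁻¹)) * w' * a⁻¹ * w⁻¹ by group, hcomm.eq]
              group
          _ = a * w * a⁻¹ * w⁻¹ := by rw [← hc, mul_assoc, ← hq.eq, inv_mul_cancel_left]
      have h3 : d * c * d = a⁻¹ * c⁻¹ * a := by rw [hd1, ← h2]; group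
      rw [h1, mul_assoc, ((cQ haQ hw haQ).inv_left).eq, inv_mul_cancel_left] at h3
      have h4 : c = 1 := odd c hcm (mul_eq_one_iff_eq_inv.mpr h3)
      rw [hc] at h4
      calc w * a = (a * w * a⁻¹ * w⁻¹) * (w * a) := by rw [h4, one_mul]
        _ = a * w := by group

theorem su_gens {F : Type*} [Field F] [Fintype F] (hF : Fintype.card F = 4) :
    Nat.card ↥(commutator (Cfsg.SU 3 F 2)) = 54 ∧
      (∀ c ∈ Subgroup.center ↥(commutator (Cfsg.SU 3 F 2)), c * c = 1 → c = 1) ∧
    ∃ a b d : ↥(commutator (Cfsg.SU 3 F 2)), Triple a b d ∧ a * b ≠ b * a ∧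
      Subgroup.closure ({d, a * d, b * d} : Set ↥(commutator (Cfsg.SU 3 F 2))) = ⊤ := by
  classical
  obtain ⟨hcard, z, hz3, hzc, hzd⟩ := CfsgLib.Classical.SUThreeTwoDerived.derived_SU (F := F) hF
  have hc2 : ∀ c ∈ Subgroup.center ↥(commutator (Cfsg.SU 3 F 2)), c * c = 1 → c = 1 := by
    intro c hc hcc
    -- an involution of the centre of the derived group is unique, so central in the whole group
    by_contra hc1
    set Z := Subgroup.center ↥(commutator (Cfsg.SU 3 F 2))
    have hnot4 : ¬ 4 ∣ Nat.card ↥(commutator (Cfsg.SU 3 F 2)) := by rw [hcard]; norm_num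
    have huniq : ∀ y ∈ Z, y * y = 1 → y = 1 ∨ y = c := by
      intro y hy hyy
      by_contra! h
      let V : Subgroup ↥(commutator (Cfsg.SU 3 F 2)) :=
        { carrier := {1, c, y, c * y}
          one_mem' := by simp
          mul_mem' := by
            have e1 : y * c = c * y := Subgroup.mem_center_iff.mp hc y
            have e2 : c * (c * y) = y := by rw [← mul_assoc, hcc, one_mul]
            have e3 : y * (c * y) = c := by rw [← mul_assoc, e1, mul_assoc, hyy, mul_one]
            rintro u v (rfl | rfl | rfl | rfl) (rfl | rfl | rfl | rfl) <;>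
              simp [hcc, hyy, e1, e2, e3, mul_assoc]
          inv_mem' := by
            have i1 : c⁻¹ = c := inv_eq_of_mul_eq_one_right hcc
            have i2 : y⁻¹ = y := inv_eq_of_mul_eq_one_right hyy
            have e1 : y * c = c * y := Subgroup.mem_center_iff.mp hc y
            rintro u (rfl | rfl | rfl | rfl) <;> simp [i1, i2, e1] }
      have hV : Nat.card V = 4 := by
        show Nat.card ({1, c, y, c * y} : Set ↥(commutator (Cfsg.SU 3 F 2))) = 4
        rw [Nat.card_coe_set_eq, Set.ncard_insert_of_notMem, Set.ncard_insert_of_notMem,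
          Set.ncard_pair]
        · intro e; exact hc1 (mul_eq_right.mp e.symm)
        · simp only [Set.mem_insert_iff, Set.mem_singleton_iff, not_or]
          exact ⟨fun e => h.2 e.symm, fun e => h.1 (mul_eq_left.mp e.symm)⟩
        · simp only [Set.mem_insert_iff, Set.mem_singleton_iff, not_or]
          refine ⟨fun e => hc1 e.symm, fun e => h.1 e.symm, fun e => h.2 ?_⟩
          rw [← one_mul y, ← hcc, mul_assoc, ← e, mul_one]
      exact hnot4 (hV ▸ Subgroup.card_subgroup_dvd_card V)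
    have hcen : (c : Cfsg.SU 3 F 2) ∈ Subgroup.center (Cfsg.SU 3 F 2) := by
      rw [Subgroup.mem_center_iff]
      intro g
      set c' : ↥(commutator (Cfsg.SU 3 F 2)) := ⟨g * c * g⁻¹, Subgroup.Normal.conj_mem inferInstance _ c.2 g⟩
      have h1 : c' ∈ Z := by
        rw [Subgroup.mem_center_iff]
        intro w
        have := Subgroup.mem_center_iff.mp hc
          ⟨g⁻¹ * w * g, by
            simpa using Subgroup.Normal.conj_mem inferInstance _ w.2 g⁻¹⟩
        have h2 := congrArg (fun u : ↥(commutator (Cfsg.SU 3 F 2)) => g * (u : Cfsg.SU 3 F 2) * g⁻¹) this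
        refine Subtype.ext ?_
        simpa [c', mul_assoc] using h2
      have hcc' : (c : Cfsg.SU 3 F 2) * c = 1 := congrArg Subtype.val hcc
      have h2 : c' * c' = 1 := by
        refine Subtype.ext ?_
        show g * c * g⁻¹ * (g * c * g⁻¹) = 1
        rw [show g * c * g⁻¹ * (g * c * g⁻¹) = g * ((c : Cfsg.SU 3 F 2) * c) * g⁻¹ by group, hcc']
        group
      rcases huniq c' h1 h2 with h3 | h3
      · exact absurd (Subtype.ext (conj_eq_one_iff.mp (congrArg Subtype.val h3)) : c = 1) hc1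
      · exact mul_inv_eq_iff_eq_mul.mp (congrArg Subtype.val h3)
    have hdvd : orderOf (c : Cfsg.SU 3 F 2) ∣ 3 := by
      have := Subgroup.orderOf_dvd_natCard _ hcen
      rwa [CfsgLib.Classical.SUThreeTwoDerived.card_center_SU hF] at this
    rw [Subgroup.orderOf_coe, show orderOf c = 2 from orderOf_eq_prime (by rw [sq, hcc]) hc1] at hdvd
    norm_num at hdvd
  exact ⟨hcard, hc2, gens_of_card hcard hz3 hzc hzd hc2⟩

/-! ### The module -/

section Lines

variable {W : Type*} [CommGroup W] {X : Subgroup W}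

/-- The four-lines identity for two commuting automorphisms of order three of an elementary abelian
2-group. -/
theorem four_lines (hW : ∀ w : W, w * w = 1) (r s : W →* W) {w : W} (hw : w ∈ X)
    (mr : ∀ u ∈ X, r u ∈ X) (ms : ∀ u ∈ X, s u ∈ X)
    (r3 : ∀ u ∈ X, r (r (r u)) = u) (s3 : ∀ u ∈ X, s (s (s u)) = u)
    (hc : ∀ u ∈ X, r (s u) = s (r u))
    (h1 : ∀ u ∈ X, r u = u → s u = u) (h2 : ∀ u ∈ X, r (s u) = u → s u = u)
    (h3 : ∀ u ∈ X, r (s (s u)) = u → s u = u) : s w = w := by
  have mq : ∀ u ∈ X, r (s u) ∈ X := fun u hu => mr _ (ms _ hu)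
  have mk3 : ∀ (f : W →* W), (∀ u ∈ X, f u ∈ X) → w * f w * f (f w) ∈ X := fun f hf =>
    mul_mem (mul_mem hw (hf _ hw)) (hf _ (hf _ hw))
  have cyc : ∀ a b c : W, a * b * c = b * c * a := fun a b c => by
    rw [mul_comm (b * c) a, mul_assoc]
  set A := w * r w * r (r w) with hA
  set B := w * r (s w) * r (s (r (s w))) with hB
  set C := w * r (s (s w)) * r (s (s (r (s (s w))))) with hC
  set E := w * s w * s (s w) with hE
  have hAs : s A = A := h1 _ (mk3 r mr) (by
    rw [hA, map_mul, map_mul, r3 w hw, ← cyc])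
  have cube_comp : ∀ t : W → W, (∀ u ∈ X, t u ∈ X) → (∀ u ∈ X, r (t u) = t (r u)) →
      (∀ u ∈ X, t (t (t u)) = u) → r (t (r (t (r (t w))))) = w := by
    intro t mt ct t3
    have m1 := mt w hw
    rw [← ct _ m1, ← ct _ (mr _ (mt _ m1)), ← ct _ (mt _ m1), r3 _ (mt _ (mt _ m1)), t3 w hw]
  have hBs : s B = B := h2 _ (mk3 (r.comp s) mq) (by
    rw [hB]
    simp only [map_mul]
    rw [cube_comp s ms hc s3, ← cyc])
  have hct : ∀ u ∈ X, r (s (s u)) = s (s (r u)) := fun u hu => by
    rw [hc _ (ms u hu), hc u hu]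
  have ms2 : ∀ u ∈ X, s (s u) ∈ X := fun u hu => ms _ (ms _ hu)
  have hCs : s C = C := h3 _ (mk3 (r.comp (s.comp s)) fun u hu => mr _ (ms2 u hu)) (by
    show r (s (s C)) = C
    rw [hC]
    simp only [map_mul]
    have := cube_comp (fun u => s (s u)) ms2 hct (fun u hu => by rw [s3 _ hu, s3 _ hu])
    rw [show r (s (s (r (s (s (r (s (s w)))))))) = w from this, ← cyc])
  have hEs : s E = E := by rw [hE, map_mul, map_mul, s3 w hw, ← cyc]
  have m1 := ms _ hw
  have m2 := ms _ m1
  set N := w * r w * r (r w) * (s w * r (s w) * r (r (s w))) * (s (s w) * r (s (s w)) * r (r (s (s w))))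
    with hN
  have hNs : s N = N := by
    have c1 : ∀ u ∈ X, s (r (r u)) = r (r (s u)) := fun u hu => by
      rw [← hc _ (mr _ hu), ← hc _ hu]
    rw [hN]
    simp only [map_mul, ← hc _ hw, ← hc _ m1, ← hc _ m2, c1 _ hw, c1 _ m1, c1 _ m2, s3 _ hw]
    exact (cyc _ _ _).symm
  have hBe : r (s (r (s w))) = r (r (s (s w))) := by rw [← hc _ m1]
  have hCe : r (s (s (r (s (s w))))) = r (r (s w)) := by
    rw [← hct _ m2, s3 _ m1]
  have key : w = N * (A * B * C * E) := by
    rw [hN, hA, hB, hC, hE, hBe, hCe]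
    generalize r w = e1, r (r w) = e2, s w = e3, r (s w) = e4, r (r (s w)) = e5, s (s w) = e6,
      r (s (s w)) = e7, r (r (s (s w))) = e8
    calc w = (w * w) * (w * w) * (e1 * e1) * (e2 * e2) * (e3 * e3) * (e4 * e4) * (e5 * e5) *
          (e6 * e6) * (e7 * e7) * (e8 * e8) * w := by simp only [hW, one_mul]
      _ = _ := by ac_rfl
  rw [key]
  simp only [map_mul, hNs, hAs, hBs, hCs, hEs]

end Lines

/-- The two possibilities for a group of odd order acting on an elementary abelian 2-group, generated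
by elements inverted by `d` whose fixed vectors `d` fixes. -/
theorem structure_aux {X W : Type*} [Group X] [Finite X] [CommGroup W] (hW : ∀ w : W, w * w = 1)
    (ρ : X → W →* W) (ρmul : ∀ x y w, ρ (x * y) w = ρ x (ρ y w)) (ρone : ∀ w, ρ 1 w = w)
    (P : Subgroup X) [P.Normal] (hP : IsPGroup 3 P) (hP1 : P ≠ ⊥)
    (faith : ∀ x ∈ P, (∀ w, ρ x w = w) → x = 1) {d : X} (hd : d * d = 1)
    (hgen : P ≤ Subgroup.closure {y | y ∈ P ∧ d * y * d = y⁻¹})
    (hcube : ∀ y ∈ P, d * y * d = y⁻¹ → y ^ 3 = 1)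
    (key : ∀ y ∈ P, d * y * d = y⁻¹ → y ≠ 1 → ∀ w, ρ y w = w → ρ d w = w) :
    Nat.card P = 3 ∨ ∃ a b : X, Triple a b d ∧ a ∈ P ∧ b ∈ P ∧ a * b ≠ b * a ∧
      P ≤ Subgroup.closure {a, b} := by
  classical
  haveI : Fact (Nat.Prime 3) := ⟨Nat.prime_three⟩
  have hd' : d⁻¹ = d := inv_eq_of_mul_eq_one_right hd
  have dmul : ∀ u v : X, d * (u * v) * d = (d * u * d) * (d * v * d) := fun u v => by
    rw [show d * u * d * (d * v * d) = d * u * (d * d) * v * d by group, hd]; group
  have dinv : ∀ u : X, d * u⁻¹ * d = (d * u * d)⁻¹ := fun u => by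
    rw [mul_inv_rev, mul_inv_rev, hd', mul_assoc]
  have dcon : ∀ u : X, d * (d * u * d) * d = u := fun u => by
    rw [show d * (d * u * d) * d = (d * d) * u * (d * d) by group, hd, one_mul, mul_one]
  have hPd : ∀ u ∈ P, d * u * d ∈ P := fun u hu => by
    have := Subgroup.Normal.conj_mem inferInstance u hu d
    rwa [hd'] at this
  have ρcan : ∀ (x : X) (w : W), ρ x⁻¹ (ρ x w) = w := fun x w => by
    rw [← ρmul, inv_mul_cancel, ρone]
  -- conjugation by powers of an inverted element
  have inv3 : ∀ y : X, y ^ 3 = 1 → y * y = y⁻¹ := fun y hy =>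
    (inv_eq_of_mul_eq_one_right (by rw [← hy]; simp [pow_succ, mul_assoc])).symm
  have inv_sym : ∀ y q : X, d * y * d = y⁻¹ → d * q * d = q⁻¹ →
      d * (q * y * q) * d = (q * y * q)⁻¹ := fun y q hy hq => by
    rw [dmul, dmul, hy, hq]; group
  -- two inverted elements commuting on an invariant subgroup
  have lineX : ∀ (V : Subgroup W) (y t : X), y ∈ P → t ∈ P → d * y * d = y⁻¹ → d * t * d = t⁻¹ →
      y ≠ 1 → t ∉ Subgroup.zpowers y → (∀ u ∈ V, ρ y u ∈ V) → (∀ u ∈ V, ρ t u ∈ V) →
      (∀ u ∈ V, ρ y (ρ t u) = ρ t (ρ y u)) → ∀ u ∈ V, ρ t u = u := by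
    intro V y t hyP htP hy ht hy1 hty my mt hc u hu
    have hy3 := hcube y hyP hy
    have ht3 := hcube t htP ht
    have c3 : ∀ {x : X}, x ^ 3 = 1 → ∀ w, ρ x (ρ x (ρ x w)) = w := fun {x} hx w => by
      rw [← ρmul, ← ρmul, show x * x * x = x ^ 3 by simp [pow_succ, mul_assoc], hx, ρone]
    have fix : ∀ q ∈ P, d * q * d = q⁻¹ → q ≠ 1 → ∀ v ∈ V, ρ q v = v → ρ q (ρ t v) = ρ t v →
        ρ t v = v := by
      intro q hqP hq hq1 v hv h h'
      have e1 : ρ d v = v := key q hqP hq hq1 v h
      have e2 : ρ d (ρ t v) = ρ t v := key q hqP hq hq1 _ h'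
      have e3 : ρ t⁻¹ v = ρ t v := by
        rw [← ht, ρmul, ρmul, e1, e2]
      have e4 : ρ t (ρ t v) = v := by
        rw [← e3, ← ρmul, mul_inv_cancel, ρone]
      calc ρ t v = ρ t (ρ t (ρ t v)) := by rw [e4]
        _ = v := c3 ht3 v
    have htt : t⁻¹ = t * t := (inv3 t ht3).symm
    have q1P : (t * t) * y * (t * t) ∈ P := mul_mem (mul_mem (mul_mem htP htP) hyP) (mul_mem htP htP)
    have q1inv : d * ((t * t) * y * (t * t)) * d = ((t * t) * y * (t * t))⁻¹ := by
      refine inv_sym y _ hy ?_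
      rw [dmul, ht, mul_inv_rev]
    have q1 : ∀ v ∈ V, ρ ((t * t) * y * (t * t)) v = ρ y (ρ t v) := fun v hv => by
      rw [ρmul, ρmul, ρmul, ρmul, ← hc _ (mt _ (mt _ hv)), ← hc _ (mt _ (mt _ (mt _ hv))), c3 ht3]
    have q2P : t * y * t ∈ P := mul_mem (mul_mem htP hyP) htP
    have q2 : ∀ v ∈ V, ρ (t * y * t) v = ρ y (ρ t (ρ t v)) := fun v hv => by
      rw [ρmul, ρmul, ← hc _ (mt _ hv)]
    have q1ne : (t * t) * y * (t * t) ≠ 1 := fun h => hty (by
      have h1 : y = t⁻¹ := by
        calc y = (t * t)⁻¹ * ((t * t) * y * (t * t)) * (t * t)⁻¹ := by group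
          _ = t ^ (-4 : ℤ) := by rw [h]; group
          _ = t⁻¹ * (t ^ 3)⁻¹ := by group
          _ = t⁻¹ := by rw [ht3, inv_one, mul_one]
      exact ⟨-1, by rw [h1]; simp⟩)
    have q2ne : t * y * t ≠ 1 := fun h => hty (by
      have h1 : y = t := by
        calc y = t⁻¹ * (t * y * t) * t⁻¹ := by group
          _ = t * (t ^ 3)⁻¹ := by rw [h]; group
          _ = t := by rw [ht3, inv_one, mul_one]
      exact ⟨1, by rw [h1]; simp⟩)
    refine four_lines (X := V) hW (ρ y) (ρ t) hu my mt (fun v _ => c3 hy3 v) (fun v _ => c3 ht3 v) hc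
      ?_ ?_ ?_
    · intro v hv h
      exact fix y hyP hy hy1 v hv h (by rw [hc v hv, h])
    · intro v hv h
      refine fix _ q1P q1inv q1ne v hv (by rw [q1 v hv, h]) ?_
      rw [q1 _ (mt v hv), hc _ (mt v hv), h]
    · intro v hv h
      refine fix _ q2P (inv_sym y t hy ht) q2ne v hv (by rw [q2 v hv, h]) ?_
      rw [q2 _ (mt v hv), hc _ (mt _ (mt v hv)), h]
  -- inverted elements commuting with `y` are its powers
  have abel : ∀ y t : X, y ∈ P → t ∈ P → d * y * d = y⁻¹ → d * t * d = t⁻¹ → y ≠ 1 →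
      Commute y t → t ∈ Subgroup.zpowers y := by
    intro y t hyP htP hy ht hy1 hc
    by_contra h
    refine h ?_
    rw [faith t htP fun w => lineX ⊤ y t hyP htP hy ht hy1 h (fun _ _ => Subgroup.mem_top _)
      (fun _ _ => Subgroup.mem_top _) (fun u _ => by rw [← ρmul, ← ρmul, hc.eq]) w (Subgroup.mem_top w)]
    exact one_mem _
  have central : ∀ u : X, (∀ t ∈ P, d * t * d = t⁻¹ → Commute u t) → ∀ p ∈ P, Commute u p := by
    intro u h p hp
    have := hgen hp
    induction this using Subgroup.closure_induction with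
    | mem t ht => exact h t ht.1 ht.2
    | one => exact Commute.one_right u
    | mul a b ha' hb' iha ihb =>
      exact (iha ((Subgroup.closure_le _).mpr (fun x hx => hx.1) ha')).mul_right
        (ihb ((Subgroup.closure_le _).mpr (fun x hx => hx.1) hb'))
    | inv a ha' iha => exact (iha ((Subgroup.closure_le _).mpr (fun x hx => hx.1) ha')).inv_right
  by_cases hA : ∃ y ∈ P, d * y * d = y⁻¹ ∧ y ≠ 1 ∧ ∀ p ∈ P, Commute y p
  · left
    obtain ⟨y, hyP, hy, hy1, hyc⟩ := hA
    have : P = Subgroup.zpowers y := le_antisymm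
      (hgen.trans ((Subgroup.closure_le _).mpr fun t ht => abel y t hyP ht.1 hy ht.2 hy1 (hyc t ht.1)))
      (Subgroup.zpowers_le.mpr hyP)
    rw [this, Nat.card_zpowers]
    exact orderOf_eq_prime (hcube y hyP hy) hy1
  right
  push Not at hA
  have pfix : ∀ u ∈ P, u * u = 1 → u = 1 := by
    intro u hu huu
    obtain ⟨k, hk⟩ := hP ⟨u, hu⟩
    have h1 : orderOf u ∣ 3 ^ k := orderOf_dvd_of_pow_eq_one (by simpa using congrArg Subtype.val hk)
    have h2 : orderOf u ∣ 2 := orderOf_dvd_of_pow_eq_one (by rw [sq, huu])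
    have h3 := Nat.dvd_gcd h1 h2
    rw [(Nat.Coprime.pow_left k (by norm_num : Nat.Coprime 3 2)).gcd_eq_one] at h3
    exact orderOf_eq_one_iff.mp (Nat.dvd_one.mp h3)
  set Z : Set X := {c | c ∈ P ∧ ∀ p ∈ P, Commute c p} with hZ
  have Zd : ∀ c ∈ Z, d * c * d ∈ Z := fun c hc => ⟨hPd c hc.1, fun p hp => by
    have h := hc.2 _ (hPd p hp)
    show d * c * d * p = p * (d * c * d)
    calc d * c * d * p = d * (c * (d * p * d)) * d := by
          rw [show d * (c * (d * p * d)) * d = d * c * d * p * (d * d) by group, hd, mul_one]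
      _ = d * ((d * p * d) * c) * d := by rw [h.eq]
      _ = p * (d * c * d) := by rw [dmul, dcon]⟩
  have Zmul : ∀ a b, a ∈ Z → b ∈ Z → a * b ∈ Z := fun a b ha hb =>
    ⟨mul_mem ha.1 hb.1, fun p hp => (ha.2 p hp).mul_left (hb.2 p hp)⟩
  have Zinv : ∀ a, a ∈ Z → a⁻¹ ∈ Z := fun a ha => ⟨inv_mem ha.1, fun p hp => (ha.2 p hp).inv_left⟩
  have Zfix : ∀ c ∈ Z, d * c * d = c := by
    intro c hc
    have hψ : d * (c * (d * c * d)⁻¹) * d = (c * (d * c * d)⁻¹)⁻¹ := by
      rw [dmul, dinv, dcon, mul_inv_rev, inv_inv]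
    have hmem := Zmul _ _ hc (Zinv _ (Zd c hc))
    have h1 : c * (d * c * d)⁻¹ = 1 := by
      by_contra h1
      obtain ⟨p, hp, hnp⟩ := hA _ hmem.1 hψ h1
      exact hnp (hmem.2 p hp)
    exact (mul_inv_eq_one.mp h1).symm
  haveI : Nontrivial P := (Subgroup.nontrivial_iff_ne_bot P).mpr hP1
  set Z' := Subgroup.center P
  have memZ : ∀ u : P, u ∈ Z' ↔ (u : X) ∈ Z := fun u => by
    rw [Subgroup.mem_center_iff]
    exact ⟨fun h => ⟨u.2, fun p hp => (congrArg Subtype.val (h ⟨p, hp⟩)).symm⟩,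
      fun h g => Subtype.ext (h.2 g g.2).eq.symm⟩
  haveI : Nontrivial (P ⧸ Z') := by
    rw [QuotientGroup.nontrivial_iff]
    intro htop
    obtain ⟨u, hu, hu1⟩ : ∃ u ∈ P, u ≠ 1 := by simpa [Subgroup.eq_bot_iff_forall] using hP1
    have hfix : ∀ t ∈ P, d * t * d = t⁻¹ → t = 1 := fun t ht hti => pfix t ht (by
      have := Zfix t ((memZ ⟨t, ht⟩).mp (htop ▸ Subgroup.mem_top _))
      rw [hti] at this
      exact mul_eq_one_iff_eq_inv.mpr this.symm)
    refine hu1 ?_
    have h2 := hgen hu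
    have h3 : Subgroup.closure {y | y ∈ P ∧ d * y * d = y⁻¹} ≤ ⊥ := (Subgroup.closure_le _).mpr
      fun t ht => by rw [SetLike.mem_coe, Subgroup.mem_bot]; exact hfix t ht.1 ht.2
    simpa using h3 h2
  haveI : Finite (P ⧸ Z') := inferInstance
  haveI := (hP.to_quotient Z').center_nontrivial
  obtain ⟨⟨q, hq⟩, hq1⟩ := exists_ne (1 : Subgroup.center (P ⧸ Z'))
  obtain ⟨⟨x, hxP⟩, rfl⟩ := QuotientGroup.mk_surjective q
  have hxZ : x ∉ Z := fun h => hq1 (Subtype.ext ((QuotientGroup.eq_one_iff _).mpr ((memZ _).mpr h)))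
  set Z2 : Set X := {u | u ∈ P ∧ ∀ p ∈ P, u * p * u⁻¹ * p⁻¹ ∈ Z} with hZ2
  have hx2 : x ∈ Z2 := ⟨hxP, fun p hp => by
    have h1 : ⁅(⟨x, hxP⟩ : P), ⟨p, hp⟩⁆ ∈ Z' := by
      rw [← QuotientGroup.eq_one_iff, ← QuotientGroup.mk'_apply, map_commutatorElement,
        commutatorElement_eq_one_iff_mul_comm]
      exact (Subgroup.mem_center_iff.mp hq _).symm
    exact (memZ _).mp h1⟩
  have hcomm_inv : ∀ {u t : X}, u ∈ Z2 → t ∈ P →
      u * t⁻¹ * u⁻¹ * t⁻¹⁻¹ = (u * t * u⁻¹ * t⁻¹)⁻¹ := by
    intro u t hu ht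
    have h := (hu.2 t ht).2 t ht
    calc u * t⁻¹ * u⁻¹ * t⁻¹⁻¹ = t⁻¹ * (u * t * u⁻¹ * t⁻¹)⁻¹ * t := by group
      _ = _ := by rw [mul_assoc, h.inv_left.eq, inv_mul_cancel_left]
  have dcomm : ∀ u v : X, d * (u * v * u⁻¹ * v⁻¹) * d
      = (d * u * d) * (d * v * d) * (d * u * d)⁻¹ * (d * v * d)⁻¹ := fun u v => by
    rw [dmul, dmul, dmul, dinv, dinv]
  set y := x * (d * x * d)⁻¹ with hydef
  have hy : d * y * d = y⁻¹ := by rw [hydef, dmul, dinv, dcon, mul_inv_rev, inv_inv]
  have hx2' : d * x * d ∈ Z2 := ⟨hPd x hxP, fun p hp => by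
    have h := Zd _ (hx2.2 _ (hPd p hp))
    rwa [dcomm, dcon] at h⟩
  have hyP : y ∈ P := mul_mem hxP (inv_mem (hPd x hxP))
  have hy2 : y ∈ Z2 := ⟨hyP, fun p hp => by
    set x' := d * x * d
    have h1 := hx2.2 p hp
    have h2 := hx2'.2 p hp
    have e : x * x'⁻¹ * p * (x * x'⁻¹)⁻¹ * p⁻¹
        = x * (x'⁻¹ * (x' * p * x'⁻¹ * p⁻¹)⁻¹ * x') * x⁻¹ * (x * p * x⁻¹ * p⁻¹) := by group
    rw [hydef, e]
    refine Zmul _ _ ?_ h1
    have c1 := (Zinv _ h2).2 _ hx2'.1
    rw [mul_assoc x'⁻¹, c1.eq, inv_mul_cancel_left, ← ((Zinv _ h2).2 x hxP).eq, mul_inv_cancel_right]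
    exact Zinv _ h2⟩
  have hy1 : y ≠ 1 := by
    intro h
    have hxf : d * x * d = x := (mul_inv_eq_one.mp h).symm
    refine hxZ ⟨hxP, central x fun t ht hti => ?_⟩
    have hc := hx2.2 t ht
    have h1 := Zfix _ hc
    rw [dcomm, hxf, hti, hcomm_inv hx2 ht] at h1
    exact commutatorElement_eq_one_iff_mul_comm.mp
      (pfix _ hc.1 (mul_eq_one_iff_eq_inv.mpr h1.symm))
  set f : X → X := fun p => y * p * y⁻¹ * p⁻¹ with hf
  have fZ : ∀ p ∈ P, f p ∈ Z := fun p hp => hy2.2 p hp
  have fmul : ∀ p q, p ∈ P → q ∈ P → f (p * q) = f p * f q := by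
    intro p q hp hq
    calc y * (p * q) * y⁻¹ * (p * q)⁻¹ = f p * (p * f q * p⁻¹) := by simp only [hf]; group
      _ = f p * f q := by rw [← ((fZ q hq).2 p hp).eq, mul_inv_cancel_right]
  have f3 : ∀ p ∈ P, f p ^ 3 = 1 := fun p hp =>
    comm_pow_left (x := y) (y := p) (z := (f p)⁻¹) (by simp only [hf]; group)
      ((fZ p hp).2 y hyP).inv_left ((fZ p hp).2 p hp).inv_left (hcube y hyP hy)
      |> fun h => by rwa [inv_pow, inv_eq_one] at h
  obtain ⟨t, htP, ht, hyt⟩ : ∃ t ∈ P, d * t * d = t⁻¹ ∧ ¬ Commute y t := by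
    by_contra! h
    obtain ⟨p, hp, hnp⟩ := hA y hyP hy hy1
    exact hnp (central y h p hp)
  have hne_z : ∀ {q : X}, f q ≠ 1 ↔ ¬ Commute y q := fun {q} =>
    not_congr (commutatorElement_eq_one_iff_mul_comm (g₁ := y) (g₂ := q))
  have fixall : ∀ q ∈ P, d * q * d = q⁻¹ → f q ≠ 1 → ∀ w, ρ (f q) w = w →
      ∀ p ∈ P, ρ (f p) w = w := by
    intro q hqP hq hfq w hw p hp
    let V : Subgroup W :=
      { carrier := {w | ρ (f q) w = w}
        one_mem' := map_one _
        mul_mem' := fun {a b} ha hb => by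
          show ρ (f q) (a * b) = a * b
          rw [map_mul, show ρ (f q) a = a from ha, show ρ (f q) b = b from hb]
        inv_mem' := fun {a} ha => by
          show ρ (f q) a⁻¹ = a⁻¹
          rw [map_inv, show ρ (f q) a = a from ha] }
    have hV : ∀ r ∈ P, ∀ u ∈ V, ρ r u ∈ V := fun r hr u hu => by
      show ρ (f q) (ρ r u) = ρ r u
      rw [← ρmul, ((fZ q hqP).2 r hr).eq, ρmul, show ρ (f q) u = u from hu]
    have hc : ∀ u ∈ V, ρ y (ρ q u) = ρ q (ρ y u) := fun u hu => by
      rw [← ρmul, show y * q = f q * (q * y) by simp only [hf]; group, ρmul (f q), ρmul q]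
      exact hV q hqP _ (hV y hyP u hu)
    have hqy : q ∉ Subgroup.zpowers y := fun h => hne_z.mp hfq (by
      obtain ⟨n, rfl⟩ := h; exact Commute.self_zpow y n)
    have hq1 : q ≠ 1 := fun h => hqy (h ▸ one_mem _)
    have hyq : y ∉ Subgroup.zpowers q := fun h => hne_z.mp hfq (by
      obtain ⟨n, hn⟩ := h; rw [← hn]; exact (Commute.self_zpow q n).symm)
    have fy : ∀ u ∈ V, ρ y u = u := lineX V q y hqP hyP hq hy hq1 hyq (hV q hqP) (hV y hyP)
      (fun u hu => (hc u hu).symm)
    have fy' : ∀ u ∈ V, ρ y⁻¹ u = u := fun u hu => by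
      conv_lhs => rw [← fy u hu]
      exact ρcan y u
    have m1 : ρ p⁻¹ w ∈ V := hV _ (inv_mem hp) w hw
    show ρ (y * p * y⁻¹ * p⁻¹) w = w
    rw [ρmul, ρmul, ρmul, fy' _ m1, ← ρmul p, mul_inv_cancel, ρone, fy w hw]
  have hz : f t ≠ 1 := hne_z.mpr hyt
  have ft3 := f3 t htP
  have line : ∀ t' ∈ P, d * t' * d = t'⁻¹ → f t' ∈ Subgroup.zpowers (f t) := by
    intro t' ht'P ht'
    by_contra hmem
    refine hmem ?_
    rw [faith _ (fZ t' ht'P).1 fun w => ?_]
    · exact one_mem _
    have c3 : ∀ {u : X}, u ^ 3 = 1 → ∀ w, ρ u (ρ u (ρ u w)) = w := fun {u} hu w => by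
      rw [← ρmul, ← ρmul, show u * u * u = u ^ 3 by simp [pow_succ, mul_assoc], hu, ρone]
    have t2 : t' * t' ∈ P := mul_mem ht'P ht'P
    have q1P : t' * t' * t * (t' * t') ∈ P := mul_mem (mul_mem t2 htP) t2
    have q2P : t' * t * t' ∈ P := mul_mem (mul_mem ht'P htP) ht'P
    have hcm : Commute (f t') (f t) := (fZ t' ht'P).2 _ (fZ t htP).1
    have e1 : f (t' * t' * t * (t' * t')) = f t * f t' := by
      rw [fmul _ _ (mul_mem t2 htP) t2, fmul _ _ t2 htP, fmul _ _ ht'P ht'P]
      calc f t' * f t' * f t * (f t' * f t') = f t * (f t' * (f t') ^ 3) := by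
            rw [show f t' * f t' * f t = f t * (f t' * f t') from (hcm.mul_left hcm).eq]
            simp [pow_succ, mul_assoc]
        _ = _ := by rw [f3 t' ht'P, mul_one]
    have e2 : f (t' * t * t') = f t * (f t' * f t') := by
      rw [fmul _ _ (mul_mem ht'P htP) ht'P, fmul _ _ ht'P htP, hcm.eq, mul_assoc]
    have n1 : f t * f t' ≠ 1 := fun h => hmem ⟨-1, by
      show (f t) ^ (-1 : ℤ) = _
      rw [zpow_neg_one]; exact inv_eq_of_mul_eq_one_right h⟩
    have n2 : f t * (f t' * f t') ≠ 1 := fun h => hmem ⟨1, by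
      show (f t) ^ (1 : ℤ) = _
      rw [zpow_one, eq_inv_of_mul_eq_one_left h, inv3 _ (f3 t' ht'P), inv_inv]⟩
    refine four_lines (X := (⊤ : Subgroup W)) hW (ρ (f t)) (ρ (f t')) (Subgroup.mem_top w)
      (fun _ _ => Subgroup.mem_top _) (fun _ _ => Subgroup.mem_top _) (fun v _ => c3 ft3 v)
      (fun v _ => c3 (f3 t' ht'P) v) (fun v _ => by rw [← ρmul, ← ρmul, hcm.symm.eq]) ?_ ?_ ?_
    · exact fun v _ h => fixall t htP ht hz v h t' ht'P
    · intro v _ h
      rw [← ρmul, ← e1] at h
      exact fixall _ q1P (inv_sym t _ ht (by rw [dmul, ht', mul_inv_rev])) (e1 ▸ n1) v h t' ht'P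
    · intro v _ h
      rw [← ρmul, ← ρmul, mul_assoc, ← e2] at h
      exact fixall _ q2P (inv_sym t t' ht ht') (e2 ▸ n2) v h t' ht'P
  refine ⟨y, t, ⟨hcube y hyP hy, hcube t htP ht, hd, hy, ht, (fZ t htP).2 y hyP, (fZ t htP).2 t htP⟩,
    hyP, htP, fun h => hyt h, hgen.trans ((Subgroup.closure_le _).mpr ?_)⟩
  rintro t' ⟨ht'P, ht'⟩
  have hyC : y ∈ Subgroup.closure ({y, t} : Set X) := Subgroup.subset_closure (by simp)
  have htC : t ∈ Subgroup.closure ({y, t} : Set X) := Subgroup.subset_closure (by simp)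
  have small : ∀ q ∈ P, d * q * d = q⁻¹ → f q = 1 → q ∈ Subgroup.closure ({y, t} : Set X) :=
    fun q hqP hq h => (Subgroup.zpowers_le.mpr hyC)
      (abel y q hyP hqP hy hq hy1 (commutatorElement_eq_one_iff_mul_comm.mp h))
  obtain ⟨n, hn⟩ := line t' ht'P ht'
  replace hn : f t ^ n = f t' := hn
  have hn' : f t' = f t ^ (n % 3) := by
    rw [← hn]
    conv_lhs => rw [← Int.emod_add_mul_ediv n 3]
    rw [zpow_add, zpow_mul, show f t ^ (3 : ℤ) = 1 by exact_mod_cast ft3, one_zpow, mul_one]
  have t2 : t * t ∈ P := mul_mem htP htP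
  have hcm : Commute (f t') (f t) := (fZ t' ht'P).2 _ (fZ t htP).1
  have hm : n % 3 = 0 ∨ n % 3 = 1 ∨ n % 3 = 2 := by omega
  rcases hm with hm | hm | hm <;> rw [hm] at hn'
  · exact small t' ht'P ht' (by rw [hn', zpow_zero])
  · rw [zpow_one] at hn'
    have h1 := small (t * t' * t) (mul_mem (mul_mem htP ht'P) htP) (inv_sym t' t ht' ht) (by
      rw [fmul _ _ (mul_mem htP ht'P) htP, fmul _ _ htP ht'P, hn', ← ft3]; simp [pow_succ])
    rw [show t' = t⁻¹ * (t * t' * t) * t⁻¹ by group]
    exact mul_mem (mul_mem (inv_mem htC) h1) (inv_mem htC)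
  · have h1 := small (t * t * t' * (t * t)) (mul_mem (mul_mem t2 ht'P) t2)
      (inv_sym t' _ ht' (by rw [dmul, ht, mul_inv_rev])) (by
      rw [fmul _ _ (mul_mem t2 ht'P) t2, fmul _ _ t2 ht'P, fmul _ _ htP htP, hn',
        show f t * f t * f t ^ (2 : ℤ) * (f t * f t) = f t ^ 3 * f t ^ 3 by group, ft3, one_mul])
    rw [show t' = (t * t)⁻¹ * (t * t * t' * (t * t)) * (t * t)⁻¹ by group]
    exact mul_mem (mul_mem (inv_mem (mul_mem htC htC)) h1) (inv_mem (mul_mem htC htC))

theorem closure_eq_of_nonabelian {K : Type*} [Group K] [Finite K] {P : Subgroup K}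
    (hP : Nat.card P = 27) {a b : K} (ha : a ∈ P) (hb : b ∈ P) (hne : a * b ≠ b * a) :
    Subgroup.closure ({a, b} : Set K) = P := by
  haveI : Fact (Nat.Prime 3) := ⟨Nat.prime_three⟩
  set A := Subgroup.closure ({a, b} : Set K)
  have hAP : A ≤ P := (Subgroup.closure_le _).mpr (by rintro x (rfl | rfl) <;> assumption)
  obtain ⟨k, hk, hk'⟩ := (Nat.dvd_prime_pow Nat.prime_three).mp
    (show Nat.card A ∣ 3 ^ 3 by
      rw [show (3 : ℕ) ^ 3 = 27 from rfl, ← hP]; exact Subgroup.card_dvd_of_le hAP)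
  have hcm : (∀ u v : A, u * v = v * u) → False := fun hh =>
    hne (congrArg Subtype.val (hh ⟨a, Subgroup.subset_closure (by simp)⟩
      ⟨b, Subgroup.subset_closure (by simp)⟩))
  interval_cases k
  · haveI : Subsingleton A := (Nat.card_eq_one_iff_unique.mp hk').1
    exact (hcm fun u v => Subsingleton.elim _ _).elim
  · haveI := isCyclic_of_prime_card (p := 3) (α := A) (by simpa using hk')
    exact (hcm fun u v => IsCyclic.commutative.is_comm.comm u v).elim
  · exact (hcm (IsPGroup.commutative_of_card_eq_prime_sq hk')).elim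
  · exact Subgroup.eq_of_le_of_card_ge hAP (by rw [hk', hP]; norm_num)

/-- A homomorphism from a group of order `54` without central involutions is injective when its image
is nonabelian on the two generators. -/
theorem inj_of_gens {K H : Type*} [Group K] [Finite K] [Group H] {a b d : K} (T : Triple a b d)
    (hc2 : ∀ c ∈ Subgroup.center K, c * c = 1 → c = 1) (hcard : Nat.card K = 54)
    (φ : K →* H) (hne : φ a * φ b ≠ φ b * φ a) : Function.Injective φ := by
  classical
  rw [← MonoidHom.ker_eq_bot_iff]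
  by_contra hN
  set N := φ.ker
  haveI : Fact (Nat.Prime 3) := ⟨Nat.prime_three⟩
  haveI : Fact (Nat.Prime 2) := ⟨Nat.prime_two⟩
  obtain ⟨P⟩ : Nonempty (Sylow 3 K) := inferInstance
  have hP : Nat.card P = 27 := by
    rw [Sylow.card_eq_multiplicity, hcard, show (54 : ℕ) = 2 * 3 ^ 3 from rfl,
      Nat.factorization_mul (by norm_num) (by norm_num), Nat.prime_two.factorization,
      Nat.prime_three.factorization_pow]
    simp
  have hidx : (P : Subgroup K).index = 2 := by
    have h1 := (P : Subgroup K).card_mul_index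
    rw [hcard, show Nat.card (P : Subgroup K) = 27 from hP] at h1
    omega
  haveI : (P : Subgroup K).Normal := Subgroup.normal_of_index_eq_two hidx
  have mem3 : ∀ x : K, x ^ 3 = 1 → x ∈ (P : Subgroup K) := fun x hx => by
    have h2 : x ^ 2 ∈ (P : Subgroup K) := hidx ▸ (P : Subgroup K).pow_index_mem x
    have e : x = (x ^ 2) ^ 2 * (x ^ 3)⁻¹ := by group
    rw [e, hx, inv_one, mul_one]
    exact pow_mem h2 2
  have hab : a * b ≠ b * a := fun h => hne (by rw [← map_mul, h, map_mul])
  have hA := closure_eq_of_nonabelian hP (mem3 a T.ha) (mem3 b T.hb) hab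
  by_cases h3 : 3 ∣ Nat.card N
  · obtain ⟨⟨n, hn⟩, hn3⟩ := exists_prime_orderOf_dvd_card' (G := N) 3 h3
    rw [Subgroup.orderOf_mk] at hn3
    have hnP : n ∈ (P : Subgroup K) := mem3 n (by rw [← hn3]; exact pow_orderOf_eq_one n)
    set NP : Subgroup (P : Subgroup K) := N.subgroupOf (P : Subgroup K)
    haveI : Nontrivial NP := ⟨⟨⟨⟨n, hnP⟩, hn⟩, 1, fun h => by
      have h1 : n = 1 := congrArg (fun w : NP => ((w : (P : Subgroup K)) : K)) h
      rw [h1, orderOf_one] at hn3
      norm_num at hn3⟩⟩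
    -- an element of the kernel central in `P`
    obtain ⟨c, hcN, hcZ, hc1⟩ : ∃ c : (P : Subgroup K), c ∈ NP ∧ c ∈ Subgroup.center (P : Subgroup K) ∧ c ≠ 1 := by
      letI act : MulAction (P : Subgroup K) NP := MulAction.compHom NP (MulAut.conjNormal : (P : Subgroup K) →* MulAut NP)
      have hdvd : 3 ∣ Nat.card NP := by
        obtain ⟨j, hj⟩ := IsPGroup.iff_card.mp (P.isPGroup'.to_subgroup NP)
        rw [hj]
        refine dvd_pow_self 3 fun h0 => ?_
        rw [h0, pow_zero] at hj
        exact absurd hj (Finite.one_lt_card.ne')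
      obtain ⟨c, hc, hc1⟩ := P.isPGroup'.exists_fixed_point_of_prime_dvd_card_of_fixed_point NP hdvd
        (a := (1 : NP)) (fun g => map_one (MulAut.conjNormal g : MulAut NP))
      refine ⟨c, c.2, Subgroup.mem_center_iff.mpr fun g => ?_, fun h => hc1 (Subtype.ext h.symm)⟩
      have h5 := congrArg Subtype.val (show MulAut.conjNormal g c = c from hc g)
      rw [MulAut.conjNormal_apply] at h5
      exact mul_inv_eq_iff_eq_mul.mp h5
    -- the centre has order three
    set z := a * b * a⁻¹ * b⁻¹ with hz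
    have hzP : z ∈ (P : Subgroup K) := mul_mem (mul_mem (mul_mem (mem3 a T.ha) (mem3 b T.hb))
      (inv_mem (mem3 a T.ha))) (inv_mem (mem3 b T.hb))
    have hzZ : (⟨z, hzP⟩ : (P : Subgroup K)) ∈ Subgroup.center (P : Subgroup K) := by
      refine Subgroup.mem_center_iff.mpr fun g => Subtype.ext ?_
      show (g : K) * z = z * g
      have hle : Subgroup.closure ({a, b} : Set K) ≤ Subgroup.centralizer ({z} : Set K) := by
        rw [Subgroup.closure_le]
        rintro x (rfl | rfl) <;> rw [SetLike.mem_coe, Subgroup.mem_centralizer_singleton_iff]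
        · exact T.ca.eq.symm
        · exact T.cb.eq.symm
      exact Subgroup.mem_centralizer_singleton_iff.mp (hle (hA.symm ▸ g.2))
    have hZ3 : Nat.card (Subgroup.center (P : Subgroup K)) = 3 := by
      have hdvd : Nat.card (Subgroup.center (P : Subgroup K)) ∣ 3 ^ 3 := by
        rw [show (3 : ℕ) ^ 3 = 27 from rfl, ← hP]; exact Subgroup.card_subgroup_dvd_card _
      obtain ⟨k, hk, hk'⟩ := (Nat.dvd_prime_pow Nat.prime_three).mp hdvd
      have hq := Subgroup.card_eq_card_quotient_mul_card_subgroup (Subgroup.center (P : Subgroup K))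
      rw [show Nat.card (P : Subgroup K) = 27 from hP, hk'] at hq
      have hnab : ¬ ∀ u v : (P : Subgroup K), u * v = v * u := fun h => hab
        (congrArg Subtype.val (h ⟨a, mem3 a T.ha⟩ ⟨b, mem3 b T.hb⟩))
      interval_cases k
      · exfalso
        haveI : Subsingleton (Subgroup.center (P : Subgroup K)) := (Nat.card_eq_one_iff_unique.mp hk').1
        exact hc1 (congrArg Subtype.val (Subsingleton.elim (⟨c, hcZ⟩ : Subgroup.center (P : Subgroup K)) 1))
      · simpa using hk'
      · exfalso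
        haveI : IsCyclic (P ⧸ Subgroup.center (P : Subgroup K)) := isCyclic_of_prime_card (p := 3) (by norm_num at hq; omega)
        exact hnab (commutative_of_cyclic_center_quotient (QuotientGroup.mk' (Subgroup.center (P : Subgroup K))) (by simp))
      · exfalso
        have htop : Subgroup.center (P : Subgroup K) = ⊤ := Subgroup.eq_top_of_card_eq _ (by
          rw [hk', show Nat.card (P : Subgroup K) = 27 from hP]; rfl)
        exact hnab fun u v => Subgroup.mem_center_iff.mp (htop ▸ Subgroup.mem_top v) u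
    have hle : Subgroup.zpowers c = Subgroup.center (P : Subgroup K) := by
      refine Subgroup.eq_of_le_of_card_ge (Subgroup.zpowers_le.mpr hcZ) ?_
      have h1 : orderOf c ∣ 3 := by
        have h0 := Subgroup.orderOf_dvd_natCard _ hcZ
        rwa [hZ3] at h0
      rcases (Nat.dvd_prime Nat.prime_three).mp h1 with h | h
      · exact absurd (orderOf_eq_one_iff.mp h) hc1
      · rw [Nat.card_zpowers, h, hZ3]
    obtain ⟨j, hj⟩ := hle.symm ▸ hzZ
    have hzN : z ∈ N := by
      rw [show z = ((c : K)) ^ j by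
        have := congrArg Subtype.val (show c ^ j = (⟨z, hzP⟩ : (P : Subgroup K)) from hj)
        simpa using this.symm]
      exact zpow_mem hcN j
    refine hne ?_
    have h1 : φ z = 1 := hzN
    rw [hz, map_mul, map_mul, map_mul, map_inv, map_inv] at h1
    exact commutatorElement_eq_one_iff_mul_comm.mp h1
  · have hN2 : Nat.card N = 2 := by
      have h1 : Nat.card N ∣ 54 := hcard ▸ Subgroup.card_subgroup_dvd_card N
      have h2 : Nat.card N ≠ 1 := fun h => hN (Subgroup.eq_bot_of_card_eq _ h)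
      have h5 : Nat.card N ∈ Nat.divisors 54 := Nat.mem_divisors.mpr ⟨h1, by norm_num⟩
      rw [show Nat.divisors 54 = {1, 2, 3, 6, 9, 18, 27, 54} by decide] at h5
      simp only [Finset.mem_insert, Finset.mem_singleton] at h5
      omega
    obtain ⟨⟨n, hn⟩, hn2⟩ := exists_prime_orderOf_dvd_card' (G := N) 2 hN2.symm.dvd
    rw [Subgroup.orderOf_mk] at hn2
    have hn1 : n ≠ 1 := fun h => by rw [h, orderOf_one] at hn2; norm_num at hn2
    refine hn1 (hc2 n (Subgroup.mem_center_iff.mpr fun g => ?_) (by rw [← sq, ← hn2]; exact pow_orderOf_eq_one n))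
    have hconj : g * n * g⁻¹ ∈ N := Subgroup.Normal.conj_mem inferInstance n hn g
    obtain ⟨x, y, hxy, huniv⟩ := Nat.card_eq_two_iff.mp hN2
    have two : ∀ m : N, m ≠ 1 → m = ⟨n, hn⟩ := fun m hm => by
      have hn' : (⟨n, hn⟩ : N) ≠ 1 := fun h => hn1 (congrArg Subtype.val h)
      have h1 : ∀ u : N, u = x ∨ u = y := fun u => by
        have := huniv ▸ Set.mem_univ u
        simpa using this
      rcases h1 m with rfl | rfl <;> rcases h1 ⟨n, hn⟩ with h | h <;> rcases h1 1 with h' | h'
      all_goals first | exact h.symm | exact absurd h'.symm hm | exact absurd (h.trans h'.symm) hn'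
    have := congrArg Subtype.val (two ⟨_, hconj⟩ fun h => hn1 (conj_eq_one_iff.mp (congrArg Subtype.val h)))
    exact mul_inv_eq_iff_eq_mul.mp this

/-- Let H be a finite group generated by a conjugacy class E of 3-transpositions with at least two members, with F*(H) = O₂(H), and such that H/O₂(H) has a normal Sylow 3-subgroup of 2-power index (that is, H = O_{2,3,2}(H)). Then H/O₂(H) is isomorphic to the symmetric group of degree 3 or to the derived group of SU₃(2) (of order 54). -/
theorem result {H : Type*} [Group H] [Finite H] {E : Set H} (hE : Cfsg.IsThreeTranspositionClass E)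
    (hE2 : ∃ a ∈ E, ∃ b ∈ E, a ≠ b) (hF : Cfsg.generalizedFittingSubgroup H = Cfsg.pCore 2 H)
    (h232 : ∃ P : Sylow 3 (H ⧸ Cfsg.pCore 2 H), (P : Subgroup (H ⧸ Cfsg.pCore 2 H)).Normal ∧
      ∃ k : ℕ, (P : Subgroup (H ⧸ Cfsg.pCore 2 H)).index = 2 ^ k) :
    Nonempty (H ⧸ Cfsg.pCore 2 H ≃* Equiv.Perm (Fin 3)) ∨
      ∃ (F : Type) (_ : Field F) (_ : Fintype F), Fintype.card F = 4 ∧
        Nonempty (H ⧸ Cfsg.pCore 2 H ≃* ↥(commutator ↥(Cfsg.SU 3 F 2))) := by
  classical
  haveI : Fact (Nat.Prime 2) := ⟨Nat.prime_two⟩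
  haveI : Fact (Nat.Prime 3) := ⟨Nat.prime_three⟩
  obtain ⟨hS, ⟨d, hd, hEd⟩, hgenE⟩ := hE
  have hc : CfsgLib.ThreeTransp.IsConjClosed E := fun g x hx => by
    rw [hEd] at hx ⊢
    exact (show IsConj d x from hx).trans (isConj_iff.2 ⟨g, rfl⟩)
  set O := Cfsg.pCore 2 H with hO
  haveI : O.Normal := Fitting.pCore_normal 2
  have hO2 : IsPGroup 2 O := Fitting.pCore_isPGroup 2
  have mem_conj : ∀ e ∈ E, ∃ g : H, e = g * d * g⁻¹ := fun e he => by
    rw [hEd] at he
    obtain ⟨g, hg⟩ := isConj_iff.mp (show IsConj d e from he)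
    exact ⟨g, hg.symm⟩
  have hdd := ThreeTransp.mul_self_eq_one hS hd
  -- `d` lies outside the 2-core
  have hdO : d ∉ O := by
    intro h
    have hEO : E ⊆ (O : Set H) := fun e he => by
      obtain ⟨g, rfl⟩ := mem_conj e he
      exact Subgroup.Normal.conj_mem inferInstance d h g
    obtain ⟨a, ha, b, hb, hab⟩ := hE2
    have hcm : ∀ x ∈ E, ∀ y ∈ E, Commute x y := by
      intro x hx y hy
      by_contra h'
      obtain ⟨k, hk⟩ := hO2 ⟨x * y, mul_mem (hEO hx) (hEO hy)⟩
      exact h' (ThreeTransp.commute_of_mul_pow_two_pow hS hx hy (by simpa using congrArg Subtype.val hk))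
    have hcen : ∀ g : H, Commute g d := by
      intro g
      have hg : g ∈ Subgroup.closure E := hgenE ▸ Subgroup.mem_top g
      induction hg using Subgroup.closure_induction with
      | mem x hx => exact hcm x hx d hd
      | one => exact Commute.one_left d
      | mul u v _ _ h1 h2 => exact h1.mul_left h2
      | inv u _ h1 => exact h1.inv_left
    have single : ∀ e ∈ E, e = d := fun e he => by
      obtain ⟨g, rfl⟩ := mem_conj e he
      rw [(hcen g).eq, mul_inv_cancel_right]
    exact hab ((single a ha).trans (single b hb).symm)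
  set π : H →* H ⧸ O := QuotientGroup.mk' O with hπ
  set D := π d with hD
  have hD1 : D ≠ 1 := fun h => hdO ((QuotientGroup.eq_one_iff d).mp h)
  have hDD : D * D = 1 := by rw [hD, ← map_mul, hdd, map_one]
  obtain ⟨P, hPn, k, hk⟩ := h232
  haveI := hPn
  set Q := (P : Subgroup (H ⧸ O)) with hQdef
  have hQ : IsPGroup 3 Q := P.isPGroup'
  have hDQ : D ∉ Q := fun h => by
    obtain ⟨j, hj⟩ := hQ ⟨D, h⟩
    have h1 : orderOf D ∣ 3 ^ j := orderOf_dvd_of_pow_eq_one (by simpa using congrArg Subtype.val hj)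
    have h2 : orderOf D = 2 := orderOf_eq_prime (by rw [sq, hDD]) hD1
    rw [h2] at h1
    exact absurd (Nat.prime_two.dvd_of_dvd_pow h1) (by norm_num)
  have hX2 : IsPGroup 2 ((H ⧸ O) ⧸ Q) := IsPGroup.of_card (n := k) (by rw [← Subgroup.index_eq_card, hk])
  have hX : Subgroup.zpowers (QuotientGroup.mk' Q D) = ⊤ := by
    by_contra h
    obtain ⟨M, hM, hle⟩ := (eq_top_or_exists_le_coatom _).resolve_left h
    haveI := hX2.isNilpotent
    haveI : M.Normal := Subgroup.NormalizerCondition.normal_of_coatom M Group.normalizerCondition_of_isNilpotent hM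
    refine hM.1 ?_
    rw [eq_top_iff]
    intro w _
    obtain ⟨w, rfl⟩ := (QuotientGroup.mk'_surjective Q).comp (QuotientGroup.mk'_surjective O) w
    have hw : w ∈ Subgroup.closure E := hgenE ▸ Subgroup.mem_top w
    have hsub : Subgroup.closure E ≤ M.comap ((QuotientGroup.mk' Q).comp π) := by
      rw [Subgroup.closure_le]
      intro e he
      obtain ⟨g, rfl⟩ := mem_conj e he
      simp only [SetLike.mem_coe, Subgroup.mem_comap, map_mul, map_inv]
      exact Subgroup.Normal.conj_mem inferInstance _ (hle (Subgroup.mem_zpowers _)) _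
    exact hsub hw
  have hcov : ∀ x : H ⧸ O, x ∈ Q ∨ x * D ∈ Q := by
    intro x
    obtain ⟨n, hn⟩ := Subgroup.mem_zpowers_iff.mp (hX ▸ Subgroup.mem_top (QuotientGroup.mk' Q x))
    have h2 : (QuotientGroup.mk' Q D) ^ (2 : ℤ) = 1 := by
      rw [zpow_two, ← map_mul, hDD, map_one]
    rcases Int.even_or_odd n with ⟨m, hm⟩ | ⟨m, hm⟩
    · left
      rw [← QuotientGroup.eq_one_iff, ← QuotientGroup.mk'_apply, ← hn, hm, ← two_mul, zpow_mul, h2,
        one_zpow]
    · right
      rw [← QuotientGroup.eq_one_iff, ← QuotientGroup.mk'_apply, map_mul, ← hn, hm, zpow_add,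
        zpow_mul, h2, one_zpow, one_mul, zpow_one, ← map_mul, hDD, map_one]
  have hDinv : D⁻¹ = D := inv_eq_of_mul_eq_one_right hDD
  set T : Set (H ⧸ O) := {y | y ∈ Q ∧ D * y * D = y⁻¹}
  have hgenQ : Q ≤ Subgroup.closure T := by
    set U := Subgroup.closure T
    have hUD : ∀ u ∈ U, D * u * D ∈ U := by
      intro u hu
      induction hu using Subgroup.closure_induction with
      | mem y hy => rw [hy.2]; exact inv_mem (Subgroup.subset_closure hy)
      | one => rw [mul_one, hDD]; exact one_mem _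
      | mul u v _ _ h1 h2 =>
        have := mul_mem h1 h2
        rwa [show D * u * D * (D * v * D) = D * u * (D * D) * v * D by group, hDD,
          show D * u * 1 * v * D = D * (u * v) * D by group] at this
      | inv u _ h1 =>
        have := inv_mem h1
        rwa [mul_inv_rev, mul_inv_rev, hDinv, ← mul_assoc] at this
    have hall : ∀ h : H, π h ∈ U ∨ π h * D ∈ U := by
      intro h
      have hh : h ∈ Subgroup.closure E := hgenE ▸ Subgroup.mem_top h
      induction hh using Subgroup.closure_induction with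
      | mem e he =>
        right
        refine Subgroup.subset_closure ⟨?_, ?_⟩
        · refine (hcov (π e)).resolve_left fun h => hDQ ?_
          obtain ⟨g, rfl⟩ := mem_conj e he
          have := Subgroup.Normal.conj_mem inferInstance _ h (π g)⁻¹
          simpa [map_mul, map_inv, mul_assoc] using this
        · rw [mul_inv_rev, hDinv, ← map_inv, ThreeTransp.inv_eq_self hS he]
          rw [show D * (π e * D) * D = D * π e * (D * D) by group, hDD, mul_one]
      | one => left; rw [map_one]; exact one_mem _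
      | mul u v _ _ h1 h2 =>
        rw [map_mul]
        rcases h1 with h1 | h1 <;> rcases h2 with h2 | h2
        · exact Or.inl (mul_mem h1 h2)
        · exact Or.inr (by rw [mul_assoc]; exact mul_mem h1 h2)
        · right
          have e : π u * π v * D = π u * D * (D * π v * D) := by
            rw [show π u * D * (D * π v * D) = π u * (D * D) * π v * D by group, hDD, mul_one]
          rw [e]; exact mul_mem h1 (hUD _ h2)
        · left
          have e : π u * π v = π u * D * (D * (π v * D) * D) := by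
            rw [show π u * D * (D * (π v * D) * D) = π u * (D * D) * π v * (D * D) by group, hDD,
              mul_one, mul_one]
          rw [e]; exact mul_mem h1 (hUD _ h2)
      | inv u _ h1 =>
        rw [map_inv]
        rcases h1 with h1 | h1
        · exact Or.inl (inv_mem h1)
        · right
          have := hUD _ (inv_mem h1)
          rwa [mul_inv_rev, hDinv, show D * (D * (π u)⁻¹) * D = (D * D) * (π u)⁻¹ * D by group, hDD,
            one_mul] at this
    intro q hq
    obtain ⟨h, rfl⟩ := QuotientGroup.mk'_surjective O q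
    rcases hall h with h1 | h1
    · exact h1
    · have h2 : π h * D ∈ Q := (Subgroup.closure_le _).mpr (fun y hy => hy.1) h1
      have h3 := mul_mem (inv_mem hq) h2
      rw [inv_mul_cancel_left] at h3
      exact absurd h3 hDQ
  have hQ1 : Q ≠ ⊥ := by
    intro hbot
    have hall : ∀ x : H ⧸ O, x = 1 ∨ x = D := fun x => by
      rcases hcov x with h | h <;> rw [hbot, Subgroup.mem_bot] at h
      · exact Or.inl h
      · exact Or.inr (by rw [eq_inv_of_mul_eq_one_left h, hDinv])
    have hpg : IsPGroup 2 (H ⧸ O) := fun x => ⟨1, by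
      rcases hall x with rfl | rfl
      · exact one_pow _
      · rw [pow_one, sq]; exact hDD⟩
    have htop : IsPGroup 2 (⊤ : Subgroup H) := by
      intro g
      obtain ⟨i, hi⟩ := hpg (π (g : H))
      rw [← map_pow] at hi
      obtain ⟨j, hj⟩ := hO2 ⟨(g : H) ^ 2 ^ i, (QuotientGroup.eq_one_iff _).mp hi⟩
      refine ⟨i + j, Subtype.ext ?_⟩
      rw [pow_add, pow_mul, SubgroupClass.coe_pow, SubgroupClass.coe_pow]
      simpa using congrArg Subtype.val hj
    exact hdO (Fitting.le_pCore inferInstance htop (Subgroup.mem_top d))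
  -- the members above the products
  have lift : ∀ y ∈ Q, D * y * D = y⁻¹ → ∃ e ∈ E, π e = y * D := by
    intro y hyQ hy
    obtain ⟨j, hj⟩ := hQ ⟨y, hyQ⟩
    have hj' : y ^ 3 ^ j = 1 := by simpa using congrArg Subtype.val hj
    obtain ⟨m, hm⟩ := (Odd.pow (by decide : Odd 3) : Odd (3 ^ j))
    set s := y ^ (m + 1) with hs
    have hs2 : s * s = y := by
      rw [hs, ← pow_add, show m + 1 + (m + 1) = 3 ^ j + 1 by omega, pow_add, hj', one_mul, pow_one]
    obtain ⟨g, hg⟩ := QuotientGroup.mk'_surjective O s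
    refine ⟨g * d * g⁻¹, hc g d hd, ?_⟩
    rw [map_mul, map_mul, map_inv]
    change π g * D * (π g)⁻¹ = _
    rw [show π g = s from hg]
    have hs' : D * s * D = s⁻¹ := by
      have e1 : ∀ n : ℕ, D * y ^ n * D = (D * y * D) ^ n := fun n => by
        simpa [MulAut.conj_apply, hDinv] using map_pow (MulAut.conj D) y n
      rw [hs, e1, hy, inv_pow]
    calc s * D * s⁻¹ = s * D * (D * s * D) := by rw [hs']
      _ = s * (D * D) * s * D := by group
      _ = y * D := by rw [hDD, mul_one, hs2]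
  have hcube : ∀ y ∈ Q, D * y * D = y⁻¹ → y ^ 3 = 1 := by
    intro y hyQ hy
    obtain ⟨e, he, hπe⟩ := lift y hyQ hy
    have hy' : π (e * d) = y := by rw [map_mul, hπe, ← hD, mul_assoc, hDD, mul_one]
    rcases hS.2 e he d hd with h | h
    · have h1 : y ^ 2 = 1 := by rw [← hy', ← map_pow, h, map_one]
      obtain ⟨j, hj⟩ := hQ ⟨y, hyQ⟩
      obtain ⟨m, hm⟩ := (Odd.pow (by decide : Odd 3) : Odd (3 ^ j))
      have hj' : y ^ 3 ^ j = 1 := by simpa using congrArg Subtype.val hj
      rw [hm, pow_add, pow_mul, h1, one_pow, one_mul, pow_one] at hj'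
      rw [hj', one_pow]
    · rw [← hy', ← map_pow, h, map_one]
  -- the module
  haveI : (frattini O).Normal := inferInstance
  set W := ↥O ⧸ frattini O
  have hsq : ∀ u : O, u * u ∈ frattini O := fun u => by
    rw [← sq]; exact CenterPair.pow_two_mem_frattini hO2 u
  have hW : ∀ w : W, w * w = 1 := by
    intro w
    induction w using QuotientGroup.induction_on with | _ u => ?_
    rw [← QuotientGroup.mk_mul, QuotientGroup.eq_one_iff]
    exact hsq u
  letI : CommGroup W := { (inferInstance : Group W) with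
    mul_comm := fun a b => by
      have ia : a⁻¹ = a := inv_eq_of_mul_eq_one_right (hW a)
      have ib : b⁻¹ = b := inv_eq_of_mul_eq_one_right (hW b)
      rw [← inv_eq_of_mul_eq_one_right (hW (a * b)), mul_inv_rev, ia, ib] }
  have hfix : ∀ h : H, ∀ u ∈ frattini O, (MulAut.conjNormal h : MulAut O) u ∈ frattini O := by
    intro h u hu
    have := Subgroup.Characteristic.fixed (H := frattini O) inferInstance (MulAut.conjNormal h)
    rw [← this] at hu
    exact hu
  let ρ : H → W →* W := fun h =>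
    QuotientGroup.map (frattini O) (frattini O) (MulAut.conjNormal h : MulAut O).toMonoidHom (hfix h)
  have ρmk : ∀ (h : H) (u : O), ρ h (QuotientGroup.mk u) = QuotientGroup.mk (MulAut.conjNormal h u) :=
    fun h u => rfl
  have ρmul : ∀ g h w, ρ (g * h) w = ρ g (ρ h w) := by
    intro g h w
    induction w using QuotientGroup.induction_on with | _ u => ?_
    rw [ρmk, ρmk, ρmk, map_mul, MulAut.mul_apply]
  have ρO : ∀ o ∈ O, ∀ w, ρ o w = w := by
    intro o ho w
    induction w using QuotientGroup.induction_on with | _ u => ?_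
    have e : MulAut.conjNormal o u = (⟨o, ho⟩ : O) * u * (⟨o, ho⟩ : O)⁻¹ := Subtype.ext (by simp)
    rw [ρmk, e]
    show (QuotientGroup.mk (_ * _ * _) : W) = _
    rw [QuotientGroup.mk_mul, QuotientGroup.mk_mul, QuotientGroup.mk_inv, mul_comm (QuotientGroup.mk _ : W),
      mul_inv_cancel_right]
  let ρ' : H ⧸ O → W →* W := fun q => ρ (Quotient.out q)
  have ρ'π : ∀ h w, ρ' (π h) w = ρ h w := by
    intro h w
    have h1 : h⁻¹ * Quotient.out (π h) ∈ O := by
      rw [← QuotientGroup.eq_one_iff, QuotientGroup.mk_mul, QuotientGroup.mk_inv, QuotientGroup.out_eq',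
        hπ, QuotientGroup.mk'_apply, inv_mul_cancel]
    show ρ (Quotient.out (π h)) w = _
    rw [show Quotient.out (π h) = h * (h⁻¹ * Quotient.out (π h)) by group, ρmul, ρO _ h1]
  have ρ'mul : ∀ x y w, ρ' (x * y) w = ρ' x (ρ' y w) := by
    intro x y w
    obtain ⟨g, rfl⟩ := QuotientGroup.mk'_surjective O x
    obtain ⟨h, rfl⟩ := QuotientGroup.mk'_surjective O y
    rw [← map_mul, ρ'π, ρ'π, ρ'π, ρmul]
  have ρ'one : ∀ w, ρ' 1 w = w := fun w => by rw [← map_one π, ρ'π]; exact ρO 1 (one_mem O) w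
  have faith : ∀ x ∈ Q, (∀ w, ρ' x w = w) → x = 1 := by
    intro x hx hfx
    obtain ⟨h, rfl⟩ := QuotientGroup.mk'_surjective O x
    obtain ⟨i, hi⟩ := hQ ⟨_, hx⟩
    have hi' : h ^ 3 ^ i ∈ O := by
      rw [← QuotientGroup.eq_one_iff, QuotientGroup.mk_pow]
      simpa using congrArg Subtype.val hi
    obtain ⟨l, hl⟩ := hO2 ⟨_, hi'⟩
    have hl' : (h ^ 3 ^ i) ^ 2 ^ l = 1 := by simpa using congrArg Subtype.val hl
    obtain ⟨j, -, hj⟩ := Nat.exists_mul_mod_eq_of_coprime (n := 2 ^ l) (k := 3 ^ i) 1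
      ((by norm_num : Nat.Coprime 2 3).pow l i) (by positivity)
    set g := h ^ (2 ^ l * j) with hg
    have hg3 : g ^ 3 ^ i = 1 := by
      rw [hg, ← pow_mul, show 2 ^ l * j * 3 ^ i = 3 ^ i * 2 ^ l * j by ring, pow_mul, pow_mul, hl', one_pow]
    have hgx : π g = π h := by
      have h3 : π h ^ 3 ^ i = 1 := by
        rw [← map_pow]; exact (QuotientGroup.eq_one_iff _).mpr hi'
      rw [hg, map_pow, ← Nat.mod_add_div (2 ^ l * j) (3 ^ i), hj, pow_add, pow_mul, h3, one_pow, mul_one]
      rcases eq_or_ne (3 ^ i) 1 with h1 | h1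
      · rw [h1] at h3 ⊢; simpa using h3.symm
      · rw [Nat.one_mod_eq_one.mpr h1, pow_one]
    have hA : Subgroup.zpowers g ≤ Subgroup.centralizer (O : Set H) := by
      refine Coprime.le_centralizer_of_frattini ?_ ?_ ?_
      · rw [Subgroup.normalizer_eq_top]; exact le_top
      · rw [Nat.card_zpowers]
        obtain ⟨m, hm⟩ := IsPGroup.iff_card.mp (hO2.to_subgroup (frattini O))
        rw [hm]
        exact (((by norm_num : Nat.Coprime 3 2).pow i m)).coprime_dvd_left (orderOf_dvd_of_pow_eq_one hg3)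
      · intro a ha u hu
        have hρ : ∀ w, ρ a w = w := by
          let St : Subgroup H :=
            { carrier := {a | ∀ w, ρ a w = w}
              one_mem' := ρO 1 (one_mem O)
              mul_mem' := fun {a b} ha hb w => by rw [ρmul, hb, ha]
              inv_mem' := fun {a} ha w => by
                conv_lhs => rw [← ha w]
                rw [← ρmul, inv_mul_cancel, ρO 1 (one_mem O)] }
          have hgS : g ∈ St := fun w => by rw [← ρ'π, hgx, hfx]
          exact (Subgroup.zpowers_le.mpr hgS) ha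
        have h1 := hρ (QuotientGroup.mk ⟨u, hu⟩)
        rw [ρmk] at h1
        refine ⟨MulAut.conjNormal a ⟨u, hu⟩ * (⟨u, hu⟩ : O)⁻¹, ?_, by simp⟩
        rw [SetLike.mem_coe, ← QuotientGroup.eq_one_iff]
        show (QuotientGroup.mk (_ * _) : W) = 1
        rw [QuotientGroup.mk_mul, QuotientGroup.mk_inv, h1, mul_inv_cancel]
    have hgO : g ∈ O := by
      have h1 := hA (Subgroup.mem_zpowers g)
      have hFO : Cfsg.generalizedFittingSubgroup H = O := hF
      have h2 : Subgroup.centralizer (Cfsg.generalizedFittingSubgroup H : Set H) ≤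
          Cfsg.generalizedFittingSubgroup H := Layer.centralizer_generalizedFitting_le
      rw [hFO] at h2
      exact h2 h1
    rw [← hgx]
    exact (QuotientGroup.eq_one_iff g).mpr hgO
  have key : ∀ y ∈ Q, D * y * D = y⁻¹ → y ≠ 1 → ∀ w, ρ' y w = w → ρ' D w = w := by
    intro y hyQ hy hy1 w hw
    obtain ⟨e, he, hπe⟩ := lift y hyQ hy
    induction w using QuotientGroup.induction_on with | _ u => ?_
    set d1 := (u : H) * d * (u : H)⁻¹ with hd1
    have hd1E : d1 ∈ E := hc _ d hd
    set v : O := u * (MulAut.conjNormal d u)⁻¹ with hv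
    have hdi : d⁻¹ = d := ThreeTransp.inv_eq_self hS hd
    have hvd : (v : H) * d = d1 := by
      have e0 : ((MulAut.conjNormal d u : O) : H) = d * u * d⁻¹ := MulAut.conjNormal_apply _ _
      rw [hv, Subgroup.coe_mul, Subgroup.coe_inv, e0, hd1]
      calc (u : H) * (d * u * d⁻¹)⁻¹ * d = (u : H) * d * (u : H)⁻¹ * (d⁻¹ * d) := by group
        _ = _ := by rw [inv_mul_cancel, mul_one]
    set r := d * e with hr
    have hπr : π r = y⁻¹ := by rw [hr, map_mul, ← hD, hπe, ← hy, mul_assoc]
    have hnc : ∀ a ∈ E, π a = D → (a * e) ^ 3 = 1 := by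
      intro a ha hπa
      refine (hS.2 a ha e he).resolve_left fun h => hy1 ?_
      have h1 : (y⁻¹) ^ 2 = 1 := by
        rw [show y⁻¹ = π (a * e) by rw [map_mul, hπa, hπe, ← hy, mul_assoc], ← map_pow, h, map_one]
      have h3 := hcube y hyQ hy
      rw [inv_pow, inv_eq_one] at h1
      calc y = y ^ 3 * (y ^ 2)⁻¹ := by group
        _ = 1 := by rw [h1, h3]; group
    have hr3 : r ^ 3 = 1 := hnc d hd rfl
    have hv3 : ((v : H) * r) ^ 3 = 1 := by
      rw [hr, ← mul_assoc, hvd]
      refine hnc d1 hd1E ?_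
      rw [hd1, map_mul, map_mul, map_inv, show π (u : H) = 1 from (QuotientGroup.eq_one_iff _).mpr u.2]
      simp [hD]
    have hprod : v * MulAut.conjNormal r v * MulAut.conjNormal r (MulAut.conjNormal r v) = 1 := by
      refine Subtype.ext ?_
      simp only [Subgroup.coe_mul, Subgroup.coe_one, MulAut.conjNormal_apply]
      calc (v : H) * (r * v * r⁻¹) * (r * (r * v * r⁻¹) * r⁻¹) = ((v : H) * r) ^ 3 * (r ^ 3)⁻¹ := by
            simp only [pow_succ, pow_zero, one_mul, mul_assoc, mul_inv_rev, inv_mul_cancel_left]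
            group
        _ = 1 := by rw [hv3, hr3]; group
    have hwv : (QuotientGroup.mk v : W) = QuotientGroup.mk u * ρ' D (QuotientGroup.mk u) := by
      rw [hD, ρ'π, ρmk, hv]
      show (QuotientGroup.mk (_ * _) : W) = _
      rw [QuotientGroup.mk_mul, QuotientGroup.mk_inv, inv_eq_of_mul_eq_one_right (hW _)]
    have hy' : ρ' y⁻¹ (QuotientGroup.mk u) = QuotientGroup.mk u := by
      conv_lhs => rw [← hw]
      rw [← ρ'mul, inv_mul_cancel, ρ'one]
    have hfix : ρ r (QuotientGroup.mk v) = QuotientGroup.mk v := by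
      rw [← ρ'π, hπr, hwv, map_mul, hy', ← ρ'mul]
      congr 1
      rw [show y⁻¹ * D = D * y by rw [← hy, mul_assoc, hDD, mul_one], ρ'mul, hw]
    have h1 := congrArg (fun z : O => (QuotientGroup.mk z : W)) hprod
    simp only [QuotientGroup.mk_mul, QuotientGroup.mk_one] at h1
    rw [← ρmk, ← ρmk, ← ρmk, hfix, hfix, hW, one_mul, hwv] at h1
    rw [eq_inv_of_mul_eq_one_right h1, inv_eq_of_mul_eq_one_right (hW _)]
  rcases structure_aux hW ρ' ρ'mul ρ'one Q hQ hQ1 faith hDD hgenQ hcube key with h3 | ⟨a, b, hT, haQ, hbQ, hab, hQab⟩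
  · left
    obtain ⟨y, hyQ, hy, hy1⟩ : ∃ y ∈ Q, D * y * D = y⁻¹ ∧ y ≠ 1 := by
      by_contra! h
      refine hQ1 (eq_bot_iff.mpr (hgenQ.trans ((Subgroup.closure_le _).mpr fun y hy => ?_)))
      exact h y hy.1 hy.2
    have hy3 := hcube y hyQ hy
    have hyy : y * y = y⁻¹ := (inv_eq_of_mul_eq_one_right (by rw [← hy3]; simp [pow_succ, mul_assoc])).symm
    have hDy : D * y = y⁻¹ * D := by rw [← hy, mul_assoc, hDD, mul_one]
    have hb2 : y * D * (y * D) = 1 := by
      rw [show y * D * (y * D) = y * (D * y * D) by group, hy, mul_inv_cancel]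
    have hbraid : D * (y * D) * D = y * D * D * (y * D) := by
      rw [show D * (y * D) * D = D * y * (D * D) by group,
        show y * D * D * (y * D) = y * (D * D) * y * D by group, hDD, mul_one, mul_one, hDy, hyy]
    obtain ⟨φ, p0, p1⟩ := ThreeTransp.exists_hom_perm_three hDD hb2 hbraid
    have hQy : Q = Subgroup.zpowers y := by
      refine (Subgroup.eq_of_le_of_card_ge (Subgroup.zpowers_le.mpr hyQ) ?_).symm
      rw [h3, Nat.card_zpowers, orderOf_eq_prime hy3 hy1]
    have hsurj : Function.Surjective φ := by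
      have hDr : D ∈ φ.range := ⟨_, p0⟩
      have hyr : y ∈ φ.range := by
        have := mul_mem (show y * D ∈ φ.range from ⟨_, p1⟩) hDr
        rwa [mul_assoc, hDD, mul_one] at this
      intro x
      rcases hcov x with h | h <;> rw [hQy] at h
      · exact (Subgroup.zpowers_le.mpr hyr) h
      · have := mul_mem ((Subgroup.zpowers_le.mpr hyr) h) hDr
        rwa [mul_assoc, hDD, mul_one] at this
    have hyD : y * D ≠ 1 := fun h => hDQ (by
      rw [← inv_eq_of_mul_eq_one_right h]; exact inv_mem hyQ)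
    have hinj : Function.Injective φ := by
      rw [injective_iff_map_eq_one]
      intro p hp
      rcases perm_three_cases p with rfl | rfl | rfl | rfl | rfl | rfl
      · rfl
      all_goals simp only [map_mul, p0, p1] at hp
      · exact absurd hp hD1
      · exact absurd hp hyD
      · rw [← mul_assoc, hy, inv_eq_one] at hp
        exact absurd hp hy1
      · rw [mul_assoc, hDD, mul_one] at hp
        exact absurd hp hy1
      · rw [← mul_assoc, mul_assoc (D * y), hDD, mul_one, hDy] at hp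
        refine absurd ?_ hDQ
        rw [← inv_eq_of_mul_eq_one_right hp, inv_inv]
        exact hyQ
    exact ⟨(MulEquiv.ofBijective φ ⟨hinj, hsurj⟩).symm⟩
  · right
    letI : Fintype (GaloisField 2 2) := Fintype.ofFinite _
    have hF4 : Fintype.card (GaloisField 2 2) = 4 := by
      rw [Fintype.card_eq_nat_card, GaloisField.card 2 2 (by norm_num)]; norm_num
    refine ⟨GaloisField 2 2, inferInstance, inferInstance, hF4, ?_⟩
    obtain ⟨hcardK, hc2, a₀, b₀, d₀, hT₀, -, hgen₀⟩ := su_gens hF4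
    obtain ⟨φ, pa, pb, pd⟩ := hT₀.exists_hom hT hgen₀ hcardK
    have hsurj : Function.Surjective φ := by
      have hDr : D ∈ φ.range := ⟨_, pd⟩
      have hQr : Q ≤ φ.range := hQab.trans ((Subgroup.closure_le _).mpr (by
        rintro x (rfl | rfl)
        exacts [⟨_, pa⟩, ⟨_, pb⟩]))
      intro x
      rcases hcov x with h | h
      · exact hQr h
      · have := mul_mem (hQr h) hDr
        rwa [mul_assoc, hDD, mul_one] at this
    have hinj := inj_of_gens hT₀ hc2 hcardK φ (by rw [pa, pb]; exact hab)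
    exact ⟨(MulEquiv.ofBijective φ ⟨hinj, hsurj⟩).symm⟩

end Cfsg.Agent.S5559
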