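import Cfsg.Statements.S5562
-- import your own Cfsg.Agent.* helpers here

set_option autoImplicit false
open Cfsg

namespace Cfsg.Agent.S5562

/-- Let G be a finite group, d an involution of G whose conjugates pairwise have products of odd order, and x any involution of G. Then the conjugacy class of d is the disjoint union, over the conjugates a of d commuting with x, of the sets of conjugates of d commuting with ax: every conjugate of d commutes with ax for exactly one conjugate a of d that commutes with x. -/
theorem result {G : Type*} [Group G] [Finite G] (d : G) (hd : orderOf d = 2)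
    (hodd : ∀ a ∈ conjugatesOf d, ∀ b ∈ conjugatesOf d, Odd (orderOf (a * b)))
    (x : G) (hx : orderOf x = 2) :
    ∀ e ∈ conjugatesOf d,
      ∃! a : G, a ∈ conjugatesOf d ∧ Commute a x ∧ Commute e (a * x) := by
  intro e he
  have hd2 : d * d = 1 := by rw [← pow_two, ← hd, pow_orderOf_eq_one]
  have hx2 : x * x = 1 := by rw [← pow_two, ← hx, pow_orderOf_eq_one]
  have hxinv : x⁻¹ = x := inv_eq_of_mul_eq_one_right hx2
  have hsq : ∀ a ∈ conjugatesOf d, a * a = 1 := by
    intro a ha
    obtain ⟨g, rfl⟩ := isConj_iff.mp ha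
    rw [show g * d * g⁻¹ * (g * d * g⁻¹) = g * (d * d) * g⁻¹ by group, hd2, mul_one, mul_inv_cancel]
  have hcl : ∀ a ∈ conjugatesOf d, ∀ g : G, g * a * g⁻¹ ∈ conjugatesOf d := fun a ha g =>
    IsConj.trans ha (isConj_iff.mpr ⟨g, rfl⟩)
  have hinv : ∀ a ∈ conjugatesOf d, a⁻¹ = a := fun a ha => inv_eq_of_mul_eq_one_right (hsq a ha)
  let f : conjugatesOf d → conjugatesOf d := fun a =>
    ⟨(a : G) * e * a, by
      have h := hcl e he (a : G)
      rwa [hinv _ a.2] at h⟩
  have hsurj : Function.Surjective f := by
    rintro ⟨e', he'⟩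
    obtain ⟨r, hr⟩ := hodd e he e' he'
    set m := e * e' with hmdef
    have hm : m ^ (2 * r + 1) = 1 := by rw [← hr, pow_orderOf_eq_one]
    have hem : e * m * e⁻¹ = m⁻¹ := by
      rw [hmdef, mul_inv_rev, hinv e he, hinv e' he', ← mul_assoc e e, hsq e he, one_mul]
    set n := m ^ (r * (r + 1)) with hn
    have hen : e * n⁻¹ = n * e := by
      have h : e * n * e⁻¹ = n⁻¹ := by rw [hn, ← inv_pow, ← hem, conj_pow]
      rw [hinv e he] at h
      rw [← h, show e * (e * n * e) = (e * e) * n * e by group, hsq e he, one_mul]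
    have hn4 : n * n * (n * n) = m⁻¹ := by
      refine eq_inv_of_mul_eq_one_left ?_
      have hi : r * (r + 1) + r * (r + 1) + (r * (r + 1) + r * (r + 1)) + 1
          = (2 * r + 1) * (2 * r + 1) := by ring
      rw [hn, ← pow_add, ← pow_add, ← pow_succ, hi, pow_mul, hm, one_pow]
    refine ⟨⟨n * e * n⁻¹, hcl e he n⟩, Subtype.ext ?_⟩
    show n * e * n⁻¹ * e * (n * e * n⁻¹) = e'
    have h1 : n * e * n⁻¹ = n * n * e := by rw [mul_assoc, hen, ← mul_assoc]
    rw [h1, show n * n * e * e * (n * n * e) = n * n * (e * e) * (n * n) * e by group, hsq e he,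
      mul_one, hn4, hmdef, mul_inv_rev, hinv e he, hinv e' he', mul_assoc, hsq e he, mul_one]
  have hinj : Function.Injective f := Finite.injective_iff_surjective.mpr hsurj
  have hxex : x * e * x ∈ conjugatesOf d := by
    have h := hcl e he x
    rwa [hxinv] at h
  obtain ⟨⟨a, ha⟩, hfa⟩ := hsurj ⟨x * e * x, hxex⟩
  have hfa' : a * e * a = x * e * x := congrArg Subtype.val hfa
  have hxa' : x * a * x ∈ conjugatesOf d := by
    have h := hcl a ha x
    rwa [hxinv] at h
  have hxa : x * a * x = a := by
    have h : f ⟨x * a * x, hxa'⟩ = f ⟨a, ha⟩ := by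
      refine Subtype.ext ?_
      show x * a * x * e * (x * a * x) = a * e * a
      rw [show x * a * x * e * (x * a * x) = x * (a * (x * e * x) * a) * x by group, ← hfa',
        show a * (a * e * a) * a = (a * a) * e * (a * a) by group, hsq a ha, one_mul, mul_one]
      exact hfa'.symm
    exact congrArg Subtype.val (hinj h)
  have hax : Commute a x := by
    show a * x = x * a
    calc a * x = x * a * x * x := by rw [hxa]
      _ = x * a * (x * x) := by group
      _ = x * a := by rw [hx2, mul_one]
  have hrev : ∀ b ∈ conjugatesOf d, Commute b x → (Commute e (b * x) ↔ b * e * b = x * e * x) := by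
    intro b hb hbx
    constructor
    · intro h
      calc b * e * b = b * (e * (b * x)) * x := by
            rw [show b * (e * (b * x)) * x = b * e * b * (x * x) by group, hx2, mul_one]
        _ = x * e * x := by
            rw [h.eq, show b * (b * x * e) * x = (b * b) * (x * e * x) by group, hsq b hb, one_mul]
    · intro h
      show e * (b * x) = b * x * e
      calc e * (b * x) = b * (b * e * b) * x := by
            rw [show b * (b * e * b) * x = (b * b) * (e * (b * x)) by group, hsq b hb, one_mul]
        _ = b * x * e := by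
            rw [h, show b * (x * e * x) * x = b * x * e * (x * x) by group, hx2, mul_one]
  refine ⟨a, ⟨ha, hax, (hrev a ha hax).mpr hfa'⟩, ?_⟩
  rintro b ⟨hb, hbx, hbe⟩
  exact congrArg Subtype.val (hinj (a₁ := ⟨b, hb⟩) (a₂ := ⟨a, ha⟩)
    (Subtype.ext (((hrev b hb hbx).mp hbe).trans hfa'.symm)))

end Cfsg.Agent.S5562
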