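import Cfsg.Statements.S5588
import Cfsg.Agent.Lib.SpiderRel.Eleven

set_option autoImplicit false
open Cfsg Cfsg.Spor

namespace Cfsg.Agent.S5588

/-- In the group presented by the sixteen involutions of the Y₅₅₅ Coxeter diagram subject only to the Coxeter relations and the single spider relation (a b₁ c₁ a b₂ c₂ a b₃ c₃)^10 = 1, each of the further relators used in the definitions' presentation of the Bimonster (each end node equals the ninth power of the Coxeter element of a sub-diagram of type E₇) already holds. Equivalently, the Y₅₅₅ diagram with the spider relation alone presents the Bimonster. -/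
theorem result :
    ∀ r ∈ Cfsg.Spor.Bimonster.extra,
      (PresentedGroup.mk (Cfsg.Spor.coxRelators Cfsg.Spor.Bimonster.edges ∪ {r' | r' ∈ [(Cfsg.Spor.Bimonster.a * Cfsg.Spor.Bimonster.b1 * Cfsg.Spor.Bimonster.c1 * Cfsg.Spor.Bimonster.a * Cfsg.Spor.Bimonster.b2 * Cfsg.Spor.Bimonster.c2 * Cfsg.Spor.Bimonster.a * Cfsg.Spor.Bimonster.b3 * Cfsg.Spor.Bimonster.c3) ^ 10]}) r) = 1 := by
  intro r hr
  set R := coxRelators Bimonster.edges ∪ {r' | r' ∈ [(Bimonster.a * Bimonster.b1 * Bimonster.c1 *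
    Bimonster.a * Bimonster.b2 * Bimonster.c2 * Bimonster.a * Bimonster.b3 * Bimonster.c3) ^ 10]}
  let g : Bimonster.Gen → PresentedGroup R := fun x => PresentedGroup.of x
  have hn : ∀ x : Bimonster.Gen, x ∈ coxNodes Bimonster.edges := by intro x; cases x <;> decide
  have hp : ∀ x y, (g x * g y) ^ coxLabel Bimonster.edges x y = 1 := fun x y => by
    have h := PresentedGroup.one_of_mem (rels := R)
      (x := (FreeGroup.of x * FreeGroup.of y) ^ coxLabel Bimonster.edges x y)
      (Or.inl ⟨x, hn x, y, hn y, rfl⟩)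
    rw [map_pow, map_mul] at h
    exact h
  have rot : ∀ x y : PresentedGroup R, (x * y) ^ 10 = 1 → (y * x) ^ 10 = 1 := fun x y h => by
    rw [show y * x = x⁻¹ * (x * y) * x⁻¹⁻¹ by group, conj_pow, h]
    group
  have s123 : (g .a * g .b1 * g .c1 * g .a * g .b2 * g .c2 * g .a * g .b3 * g .c3) ^ 10 = 1 := by
    have h := PresentedGroup.one_of_mem (rels := R)
      (x := (Bimonster.a * Bimonster.b1 * Bimonster.c1 * Bimonster.a * Bimonster.b2 * Bimonster.c2 *
        Bimonster.a * Bimonster.b3 * Bimonster.c3) ^ 10) (Or.inr (by simp))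
    rw [map_pow, map_mul, map_mul, map_mul, map_mul, map_mul, map_mul, map_mul, map_mul] at h
    exact h
  have s231 : (g .a * g .b2 * g .c2 * g .a * g .b3 * g .c3 * g .a * g .b1 * g .c1) ^ 10 = 1 := by
    have h := rot (g .a * g .b1 * g .c1) (g .a * g .b2 * g .c2 * g .a * g .b3 * g .c3)
      (by simpa [mul_assoc] using s123)
    simpa [mul_assoc] using h
  have s312 : (g .a * g .b3 * g .c3 * g .a * g .b1 * g .c1 * g .a * g .b2 * g .c2) ^ 10 = 1 := by
    have h := rot (g .a * g .b2 * g .c2) (g .a * g .b3 * g .c3 * g .a * g .b1 * g .c1)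
      (by simpa [mul_assoc] using s231)
    simpa [mul_assoc] using h
  let k9 : Fin 9 → Bimonster.Gen := fun i =>
    [Bimonster.Gen.b3, .a, .b1, .c1, .b2, .c2, .c3, .d1, .d2].getD i .a
  have l9 : ∀ x y, coxLabel Bimonster.edges (k9 x) (k9 y) =
      coxLabel CfsgLib.SpiderRel.edges9 x y := by decide +kernel
  have s213 : (g .a * g .b2 * g .c2 * g .a * g .b1 * g .c1 * g .a * g .b3 * g .c3) ^ 10 = 1 :=
    CfsgLib.SpiderRel.swap_of (fun i => g (k9 i)) (fun x y => by rw [← l9]; exact hp _ _) s123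
  have s132 : (g .a * g .b1 * g .c1 * g .a * g .b3 * g .c3 * g .a * g .b2 * g .c2) ^ 10 = 1 := by
    have h := rot (g .a * g .b2 * g .c2) (g .a * g .b1 * g .c1 * g .a * g .b3 * g .c3)
      (by simpa [mul_assoc] using s213)
    simpa [mul_assoc] using h
  have s321 : (g .a * g .b3 * g .c3 * g .a * g .b2 * g .c2 * g .a * g .b1 * g .c1) ^ 10 = 1 := by
    have h := rot (g .a * g .b1 * g .c1) (g .a * g .b3 * g .c3 * g .a * g .b2 * g .c2)
      (by simpa [mul_assoc] using s132)
    simpa [mul_assoc] using h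
  have key : ∀ l : List Bimonster.Gen,
      (∀ x y : Fin 11, coxLabel Bimonster.edges (l.getD x .a) (l.getD y .a) =
        coxLabel CfsgLib.SpiderRel.edges11 x y) →
      (g (l.getD 1 .a) * g (l.getD 2 .a) * g (l.getD 3 .a) * g (l.getD 1 .a) * g (l.getD 4 .a) *
        g (l.getD 5 .a) * g (l.getD 1 .a) * g (l.getD 0 .a) * g (l.getD 6 .a)) ^ 10 = 1 →
      g (l.getD 10 .a) * ((g (l.getD 1 .a) * g (l.getD 2 .a) * g (l.getD 4 .a) * g (l.getD 0 .a) *
        g (l.getD 3 .a) * g (l.getD 5 .a) * g (l.getD 7 .a)) ^ 9)⁻¹ = 1 := by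
    intro l hl hs
    rw [mul_inv_eq_one]
    exact CfsgLib.SpiderRel.arm_of (fun i => g (l.getD i .a)) (fun x y => by rw [← hl]; exact hp _ _) hs
  simp only [Bimonster.extra, List.mem_cons, List.not_mem_nil, or_false] at hr
  rcases hr with rfl | rfl | rfl | rfl | rfl | rfl | rfl
  · exact PresentedGroup.one_of_mem (Or.inr (by simp))
  all_goals simp only [map_pow, map_mul, map_inv]
  · exact key [.b3, .a, .b1, .c1, .b2, .c2, .c3, .d1, .d2, .e1, .f1] (by decide +kernel) s123
  · exact key [.b2, .a, .b1, .c1, .b3, .c3, .c2, .d1, .d3, .e1, .f1] (by decide +kernel) s132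
  · exact key [.b3, .a, .b2, .c2, .b1, .c1, .c3, .d2, .d1, .e2, .f2] (by decide +kernel) s213
  · exact key [.b1, .a, .b2, .c2, .b3, .c3, .c1, .d2, .d3, .e2, .f2] (by decide +kernel) s231
  · exact key [.b2, .a, .b3, .c3, .b1, .c1, .c2, .d3, .d1, .e3, .f3] (by decide +kernel) s312
  · exact key [.b1, .a, .b3, .c3, .b2, .c2, .c1, .d3, .d2, .e3, .f3] (by decide +kernel) s321

end Cfsg.Agent.S5588
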