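import Cfsg.Statements.S5601
import Cfsg.Agent.Lib.Golay.Classes.FixCounts
-- import your own Cfsg.Agent.* helpers here

set_option autoImplicit false
open scoped Pointwise
open Cfsg

namespace Cfsg.Agent.S5601

/-- The group of the length-24 code has exactly two conjugacy classes of subgroups of order 3: a subgroup of order 3 fixes either exactly 6 of the 24 points or none of them, both cases occur, and two subgroups of order 3 with the same number of fixed points are conjugate. -/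
theorem result : (∀ X : Subgroup ↥Cfsg.M24, Nat.card X = 3 → {p : Cfsg.GolayPt | ∀ x ∈ X, ((x : ↥Cfsg.M24) : Equiv.Perm Cfsg.GolayPt) p = p}.ncard = 6 ∨ {p : Cfsg.GolayPt | ∀ x ∈ X, ((x : ↥Cfsg.M24) : Equiv.Perm Cfsg.GolayPt) p = p}.ncard = 0) ∧ (∃ X : Subgroup ↥Cfsg.M24, Nat.card X = 3 ∧ {p : Cfsg.GolayPt | ∀ x ∈ X, ((x : ↥Cfsg.M24) : Equiv.Perm Cfsg.GolayPt) p = p}.ncard = 6) ∧ (∃ X : Subgroup ↥Cfsg.M24, Nat.card X = 3 ∧ {p : Cfsg.GolayPt | ∀ x ∈ X, ((x : ↥Cfsg.M24) : Equiv.Perm Cfsg.GolayPt) p = p}.ncard = 0) ∧ ∀ X Y : Subgroup ↥Cfsg.M24, Nat.card X = 3 → Nat.card Y = 3 → {p : Cfsg.GolayPt | ∀ x ∈ X, ((x : ↥Cfsg.M24) : Equiv.Perm Cfsg.GolayPt) p = p}.ncard = {p : Cfsg.GolayPt | ∀ x ∈ Y, ((x : ↥Cfsg.M24) : Equiv.Perm Cfsg.GolayPt) p = p}.ncard → ∃ k : ↥Cfsg.M24, MulAut.conj k • X = Y := by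
  classical
  have key : ∀ X : Subgroup ↥Cfsg.M24, Nat.card X = 3 → ∃ x : ↥Cfsg.M24, X = Subgroup.zpowers x ∧
      orderOf (x : Equiv.Perm Cfsg.GolayPt) = 3 ∧
      {p : Cfsg.GolayPt | ∀ y ∈ X, ((y : ↥Cfsg.M24) : Equiv.Perm Cfsg.GolayPt) p = p} =
        ↑(CfsgLib.Golay.Classes.fixSet (x : Equiv.Perm Cfsg.GolayPt)) := by
    intro X hX
    haveI : Fact (Nat.Prime 3) := ⟨Nat.prime_three⟩
    haveI : IsCyclic X := isCyclic_of_prime_card hX
    obtain ⟨⟨x, hx⟩, hgen⟩ := IsCyclic.exists_zpow_surjective (G := X)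
    have hXz : X = Subgroup.zpowers x := by
      refine le_antisymm (fun y hy => ?_) (Subgroup.zpowers_le.2 hx)
      obtain ⟨n, hn⟩ := hgen ⟨y, hy⟩
      exact ⟨n, congrArg Subtype.val hn⟩
    refine ⟨x, hXz, ?_, ?_⟩
    · rw [Subgroup.orderOf_coe, ← Nat.card_zpowers, ← hXz, hX]
    · ext p
      simp only [Set.mem_setOf_eq, Finset.mem_coe, CfsgLib.Golay.Classes.mem_fixSet]
      refine ⟨fun h => h x hx, fun h y hy => ?_⟩
      rw [hXz] at hy
      obtain ⟨n, rfl⟩ := hy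
      rw [Subgroup.coe_zpow]
      exact Function.IsFixedPt.perm_zpow h n
  refine ⟨fun X hX => ?_, ?_, ?_, fun X Y hX hY he => ?_⟩
  · obtain ⟨x, -, ho, hf⟩ := key X hX
    rw [hf, Set.ncard_coe_finset]
    exact CfsgLib.Golay.Classes.fixSet_three x.2 ho
  · let x : ↥Cfsg.M24 := ⟨CfsgLib.Golay.toPerm CfsgLib.Golay.Classes.threeSix,
      CfsgLib.Golay.toPerm_mem_M24 CfsgLib.Golay.Classes.rep_checks.1⟩
    refine ⟨Subgroup.zpowers x, ?_, ?_⟩
    · rw [Nat.card_zpowers, ← Subgroup.orderOf_coe]; exact CfsgLib.Golay.Classes.orderOf_six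
    · have : {p : Cfsg.GolayPt | ∀ y ∈ Subgroup.zpowers x, ((y : ↥Cfsg.M24) : Equiv.Perm Cfsg.GolayPt) p = p} =
          ↑(CfsgLib.Golay.Classes.fixSet (x : Equiv.Perm Cfsg.GolayPt)) := by
        ext p
        simp only [Set.mem_setOf_eq, Finset.mem_coe, CfsgLib.Golay.Classes.mem_fixSet]
        refine ⟨fun h => h x (Subgroup.mem_zpowers x), fun h y hy => ?_⟩
        obtain ⟨n, rfl⟩ := hy
        rw [Subgroup.coe_zpow]
        exact Function.IsFixedPt.perm_zpow h n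
      rw [this, Set.ncard_coe_finset, CfsgLib.Golay.Classes.fixSet_six, CfsgLib.Golay.Classes.card_sixSet]
  · let x : ↥Cfsg.M24 := ⟨CfsgLib.Golay.toPerm CfsgLib.Golay.Classes.threeFree,
      CfsgLib.Golay.toPerm_mem_M24 CfsgLib.Golay.Classes.rep_checks.2.1⟩
    refine ⟨Subgroup.zpowers x, ?_, ?_⟩
    · rw [Nat.card_zpowers, ← Subgroup.orderOf_coe]; exact CfsgLib.Golay.Classes.orderOf_free
    · have : {p : Cfsg.GolayPt | ∀ y ∈ Subgroup.zpowers x, ((y : ↥Cfsg.M24) : Equiv.Perm Cfsg.GolayPt) p = p} =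
          ↑(CfsgLib.Golay.Classes.fixSet (x : Equiv.Perm Cfsg.GolayPt)) := by
        ext p
        simp only [Set.mem_setOf_eq, Finset.mem_coe, CfsgLib.Golay.Classes.mem_fixSet]
        refine ⟨fun h => h x (Subgroup.mem_zpowers x), fun h y hy => ?_⟩
        obtain ⟨n, rfl⟩ := hy
        rw [Subgroup.coe_zpow]
        exact Function.IsFixedPt.perm_zpow h n
      rw [this, Set.ncard_coe_finset, CfsgLib.Golay.Classes.fixSet_free, Finset.card_empty]
  · obtain ⟨x, rfl, hox, hfx⟩ := key X hX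
    obtain ⟨y, rfl, hoy, hfy⟩ := key Y hY
    rw [hfx, hfy, Set.ncard_coe_finset, Set.ncard_coe_finset] at he
    have conj : ∀ k : Equiv.Perm Cfsg.GolayPt, k ∈ Cfsg.M24 → k * x * k⁻¹ = (y : Equiv.Perm Cfsg.GolayPt) →
        ∃ k : ↥Cfsg.M24, MulAut.conj k • Subgroup.zpowers x = Subgroup.zpowers y := by
      intro k hk hkx
      refine ⟨⟨k, hk⟩, ?_⟩
      have h1 : (MulAut.conj (⟨k, hk⟩ : ↥Cfsg.M24)) x = y := Subtype.ext hkx
      rw [← h1]
      exact MonoidHom.map_zpowers _ x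
    rcases CfsgLib.Golay.Classes.fixSet_three x.2 hox with h | h
    · obtain ⟨a, ha, hax⟩ := CfsgLib.Golay.Classes.conj_six x.2 hox h
      obtain ⟨b, hb, hby⟩ := CfsgLib.Golay.Classes.conj_six y.2 hoy (he ▸ h)
      exact conj (b * a⁻¹) (mul_mem hb (inv_mem ha)) (by rw [← hax, ← hby]; group)
    · obtain ⟨a, ha, hax⟩ := CfsgLib.Golay.Classes.conj_free x.2 hox h
      obtain ⟨b, hb, hby⟩ := CfsgLib.Golay.Classes.conj_free y.2 hoy (he ▸ h)
      exact conj (b * a⁻¹) (mul_mem hb (inv_mem ha)) (by rw [← hax, ← hby]; group)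

end Cfsg.Agent.S5601
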