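import Cfsg.Statements.S5618
import Cfsg.Agent.Lib.Golay.MathieuFacts
-- import your own Cfsg.Agent.* helpers here

set_option autoImplicit false
open scoped Pointwise
open Cfsg

namespace Cfsg.Agent.S5618

open CfsgLib.Golay
open scoped Pointwise

theorem faithful {d s : Finset GolayPt} (hd : d ∈ dodecads) (hs : s ⊆ d) (h5 : 5 ≤ s.card)
    {g : M24} (hg : g • d = d) (hfix : ∀ p ∈ s, (g : Equiv.Perm GolayPt) p = p) : g = 1 := by
  obtain ⟨x⟩ : Nonempty (Fin 5 ↪ {p // p ∈ s}) :=
    Function.Embedding.nonempty_of_card_le (by rw [Fintype.card_fin, Fintype.card_coe]; exact h5)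
  let x' : Fin 5 ↪ GolayPt := x.trans (Function.Embedding.subtype _)
  have hx : ∀ i, x' i ∈ d := fun i => hs (x i).2
  obtain ⟨_, -, huniq⟩ := sharply_five hd x' x' hx hx
  have h1 := huniq ⟨g, hg⟩ fun i => hfix _ (x i).2
  have h2 := huniq 1 fun i => rfl
  exact congrArg Subtype.val (h1.trans h2.symm)

theorem hexad_sub {d C : Finset GolayPt} (hC : C ∈ hexadsOn d) : C ⊆ d := by
  obtain ⟨-, o, -, rfl⟩ := hC
  exact Finset.inter_subset_right

/-- For a dodecad d of the length-24 code and a hexad C on it (a 6-point intersection of d with an octad): the joint stabiliser of d and C in the code's group is isomorphic to the symmetric group of degree 6, and it acts faithfully both on the six points of C and on the six points of d outside C. -/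
theorem result (d : Finset Cfsg.GolayPt) (hd : d ∈ Cfsg.dodecads) (C : Finset Cfsg.GolayPt) (hC : C ∈ Cfsg.hexadsOn d) : Nonempty (↥(MulAction.stabilizer Cfsg.M24 d ⊓ MulAction.stabilizer Cfsg.M24 C) ≃* Equiv.Perm (Fin 6)) ∧ (∀ g ∈ MulAction.stabilizer Cfsg.M24 d ⊓ MulAction.stabilizer Cfsg.M24 C, (∀ p ∈ C, ((g : ↥Cfsg.M24) : Equiv.Perm Cfsg.GolayPt) p = p) → g = 1) ∧ ∀ g ∈ MulAction.stabilizer Cfsg.M24 d ⊓ MulAction.stabilizer Cfsg.M24 C, (∀ p ∈ d \ C, ((g : ↥Cfsg.M24) : Equiv.Perm Cfsg.GolayPt) p = p) → g = 1 := by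
  classical
  have hsub := hexad_sub hC
  have f1 : ∀ g ∈ MulAction.stabilizer M24 d ⊓ MulAction.stabilizer M24 C,
      (∀ p ∈ C, ((g : ↥M24) : Equiv.Perm GolayPt) p = p) → g = 1 := fun g hg hfix =>
    faithful hd hsub (by rw [hC.1]; norm_num) (Subgroup.mem_inf.1 hg).1 hfix
  refine ⟨?_, f1, fun g hg hfix => faithful hd Finset.sdiff_subset (by
    rw [Finset.card_sdiff_of_subset hsub, hd.2, hC.1]; norm_num) (Subgroup.mem_inf.1 hg).1 hfix⟩
  set K := MulAction.stabilizer M24 d ⊓ MulAction.stabilizer M24 C with hKdef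
  have hst : ∀ k ∈ K, ∀ x, ((k : M24) : Equiv.Perm GolayPt) x ∈ C ↔ x ∈ C := fun k hk x => by
    have hs : ((k : M24) : Equiv.Perm GolayPt) • C = C := (Subgroup.mem_inf.1 hk).2
    conv_lhs => rw [← hs, ← Equiv.Perm.smul_def, Finset.smul_mem_smul_finset_iff]
  let φ : K →* Equiv.Perm {x // x ∈ C} :=
    MonoidHom.mk' (fun k => ((k : M24) : Equiv.Perm GolayPt).subtypePerm fun x => hst k k.2 x)
      (fun a b => Equiv.ext fun x => rfl)
  have hinj : Function.Injective φ := by
    rw [injective_iff_map_eq_one]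
    intro k hk
    exact Subtype.ext (f1 k k.2 fun q hq => congrArg Subtype.val (Equiv.ext_iff.1 hk ⟨q, hq⟩))
  have hsurj : Function.Surjective φ := by
    intro e
    obtain ⟨x⟩ : Nonempty (Fin 5 ↪ {p // p ∈ C}) :=
      Function.Embedding.nonempty_of_card_le (by rw [Fintype.card_fin, Fintype.card_coe, hC.1]; norm_num)
    obtain ⟨g, hg, -⟩ := sharply_five hd (x.trans (Function.Embedding.subtype _))
      ((x.trans e.toEmbedding).trans (Function.Embedding.subtype _)) (fun i => hsub (x i).2)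
      (fun i => hsub (e (x i)).2)
    have hgd : ((g : M24) : Equiv.Perm GolayPt) • d = d := g.2
    obtain ⟨h6, o, ho, hoC⟩ := hC
    set σ := ((g : M24) : Equiv.Perm GolayPt) with hσ
    have hmem : ∀ i, ((e (x i) : {p // p ∈ C}) : GolayPt) ∈ σ • C := fun i => by
      have : σ (x i : GolayPt) = (e (x i) : GolayPt) := hg i
      rw [← this]
      exact Finset.smul_mem_smul_finset (a := σ) (x i).2
    have hCC : σ • C = C := by
      have heq : σ • o = o := octad_eq_of_five (smul_mem_octads (g : M24).2 ho) ho (by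
        refine le_trans ?_ (Finset.card_le_card (s := Finset.univ.map
          ((x.trans e.toEmbedding).trans (Function.Embedding.subtype _))) ?_)
        · rw [Finset.card_map, Finset.card_univ, Fintype.card_fin]
        · intro p hp
          obtain ⟨i, -, rfl⟩ := Finset.mem_map.1 hp
          have h1 := hmem i
          have h2 : ((e (x i) : {p // p ∈ C}) : GolayPt) ∈ C := (e (x i)).2
          show ((e (x i) : {p // p ∈ C}) : GolayPt) ∈ σ • o ∩ o
          generalize ((e (x i) : {p // p ∈ C}) : GolayPt) = z at h1 h2 ⊢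
          rw [← hoC] at h1 h2
          rw [Finset.smul_finset_inter, Finset.mem_inter] at h1
          exact Finset.mem_inter.2 ⟨h1.1, (Finset.mem_inter.1 h2).1⟩)
      rw [← hoC, Finset.smul_finset_inter, heq, hgd]
    have hgK : (g : M24) ∈ K := Subgroup.mem_inf.2 ⟨g.2, hCC⟩
    refine ⟨⟨g, hgK⟩, ?_⟩
    have hag : ∀ i, φ ⟨g, hgK⟩ (x i) = e (x i) := fun i => Subtype.ext (hg i)
    set a := (φ ⟨g, hgK⟩)⁻¹ * e with ha
    have hfix : ∀ i, a (x i) = x i := fun i => by
      rw [ha, Equiv.Perm.mul_apply, ← hag i, Equiv.Perm.inv_def, Equiv.symm_apply_apply]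
    have ha1 : a = 1 := by
      rw [← Equiv.Perm.card_support_le_one]
      refine le_trans (Finset.card_le_card (t := (Finset.univ.map x)ᶜ) fun p hp => ?_) ?_
      · rw [Finset.mem_compl, Finset.mem_map]
        rintro ⟨i, -, rfl⟩
        exact Equiv.Perm.mem_support.1 hp (hfix i)
      · rw [Finset.card_compl, Finset.card_map, Finset.card_univ, Fintype.card_fin, Fintype.card_coe, h6]
    exact inv_mul_eq_one.1 ha1
  exact ⟨(MulEquiv.ofBijective φ ⟨hinj, hsurj⟩).trans
    (Equiv.permCongrHom (Fintype.equivFinOfCardEq (by rw [Fintype.card_coe, hC.1])))⟩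

end Cfsg.Agent.S5618
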