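import Cfsg.Statements.S5619
import Cfsg.Agent.Lib.Golay.MathieuFacts
import Cfsg.Agent.Lib.Golay.SylowList
-- import your own Cfsg.Agent.* helpers here

set_option autoImplicit false
open scoped Pointwise
open Cfsg

namespace Cfsg.Agent.S5619

open CfsgLib.Golay CfsgLib.Golay.SylowTwo CfsgLib.Golay.SylowList
open scoped Pointwise

def N9 : List ℕ := [984818244535754528103549039458486304,
  973174517120982838123284411792763936,
  983183014433909528179272068273319968,
  973176127366590679753136578212537376,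
  984805593895806290317237551324708896,
  983194013971430707138330014630710304,
  973163492145930487177230470492525600,
  983195639266933625048718326044671008,
  984816607536105940698298397869084704]

def P8 : List ℕ := [984818244535754528103549039458486304,
  978040910435652814969644301612593184,
  983559493361839570066624664967418912,
  974254875132865220944336962405383200,
  965221440864122757676350864589164576,
  980886066675212415756851219265601568,
  979050358901638357066390190107503648,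
  982142351319048730971287835217339424]

/-- three base points -/
def F3 : ℕ := chainBot 0 (levs12x.take 3)

/-- the model group -/
noncomputable abbrev K0 : Subgroup (Equiv.Perm GolayPt) := fixH H12 F3

theorem card_K0 : Nat.card K0 = 72 := by
  have h := card_chain (levs12x.drop 3) F3 (carries_sub (List.drop_subset _ _) carries12)
    (by decide +kernel)
  rw [show chainBot F3 (levs12x.drop 3) = F6 by decide +kernel, fixH12_F6, Subgroup.card_bot,
    mul_one, show chainProd F3 (levs12x.drop 3) = 72 by decide +kernel] at h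
  exact h

theorem data_ok : (N9 ++ P8).all (fun P => inM24 P && mimg P dod0 == dod0 && fixes P F3) = true ∧
    closedOK N9 = true ∧ closedOK P8 = true ∧ N9.all (fun P => eqP (powP P 3) idP) = true ∧
    (P8.all fun P => N9.all fun Q => N9.any fun R => eqP (mulP P Q) (mulP R P)) = true := by
  decide +kernel

/-- the code of a quaternion -/
def qc : QuaternionGroup 2 → ℕ
  | .a i => P8.getD i.val 0
  | .xa i => P8.getD (4 + i.val) 0

theorem qc_ok : ∀ s t : Fin 8,
    eqP (mulP (P8.getD s.val 0) (P8.getD t.val 0))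
      (qc ((if s.val < 4 then QuaternionGroup.a (s.val : ZMod 4) else QuaternionGroup.xa ((s.val - 4 : ℕ) : ZMod 4)) *
        (if t.val < 4 then QuaternionGroup.a (t.val : ZMod 4) else QuaternionGroup.xa ((t.val - 4 : ℕ) : ZMod 4)))) = true := by
  decide +kernel

theorem qc_index (x : QuaternionGroup 2) : ∃ s : Fin 8,
    x = (if s.val < 4 then QuaternionGroup.a (s.val : ZMod 4) else QuaternionGroup.xa ((s.val - 4 : ℕ) : ZMod 4)) ∧
    qc x = P8.getD s.val 0 := by
  cases x with
  | a i =>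
    refine ⟨⟨i.val, lt_trans (ZMod.val_lt i) (by norm_num)⟩, ?_, rfl⟩
    rw [if_pos (ZMod.val_lt i)]
    exact congrArg _ (ZMod.natCast_rightInverse i).symm
  | xa i =>
    refine ⟨⟨4 + i.val, by have := ZMod.val_lt i; omega⟩, ?_, rfl⟩
    rw [if_neg (by simp)]
    simp only [Nat.add_sub_cancel_left]
    exact congrArg _ (ZMod.natCast_rightInverse i).symm

theorem mem_K0 {P : ℕ} (h : P ∈ N9 ++ P8) : validP P = true ∧ toPerm P ∈ K0 := by
  have h1 := List.all_eq_true.1 data_ok.1 P h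
  simp only [Bool.and_eq_true, beq_iff_eq] at h1
  have hv : validP P = true := by
    have := h1.1.1
    simp only [inM24, Bool.and_eq_true] at this
    exact this.1
  exact ⟨hv, mem_fixH.2 ⟨toPerm_mem_H12 h1.1.1 h1.1.2, fun p hp => fixes_apply hv h1.2 hp⟩⟩

theorem model : ∃ N P : Subgroup K0, N.Normal ∧ Nat.card N = 9 ∧ (∀ x ∈ N, x ^ 3 = 1) ∧
    Nat.card P = 8 ∧ Nonempty (P ≃* QuaternionGroup 2) := by
  obtain ⟨-, hN, hP, hexp, hnorm⟩ := data_ok
  obtain ⟨N, hNc, hNi⟩ := exists_subgroup hN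
  obtain ⟨P, hPc, hPi⟩ := exists_subgroup hP
  have hNle : N ≤ K0 := fun σ hσ => by
    obtain ⟨A, hA, rfl⟩ := (hNi σ).1 hσ
    exact (mem_K0 (List.mem_append_left _ hA)).2
  have hPle : P ≤ K0 := fun σ hσ => by
    obtain ⟨A, hA, rfl⟩ := (hPi σ).1 hσ
    exact (mem_K0 (List.mem_append_right _ hA)).2
  have hN9 : Nat.card (N.subgroupOf K0) = 9 := by
    rw [Nat.card_congr (Subgroup.subgroupOfEquivOfLe hNle).toEquiv, hNc]; rfl
  have hP8 : Nat.card (P.subgroupOf K0) = 8 := by
    rw [Nat.card_congr (Subgroup.subgroupOfEquivOfLe hPle).toEquiv, hPc]; rfl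
  haveI : Finite K0 := inferInstance
  have hsup : N.subgroupOf K0 ⊔ P.subgroupOf K0 = ⊤ :=
    (Subgroup.isComplement'_of_coprime (by rw [hN9, hP8, card_K0])
      (by rw [hN9, hP8]; norm_num)).sup_eq_top
  refine ⟨N.subgroupOf K0, P.subgroupOf K0, ?_, hN9, ?_, hP8, ?_⟩
  · rw [← Subgroup.normalizer_eq_top_iff, eq_top_iff, ← hsup, sup_le_iff]
    refine ⟨Subgroup.le_normalizer, fun g hg => Subgroup.mem_normalizer_fintype fun n hn => ?_⟩
    obtain ⟨A, hA, hAe⟩ := (hPi _).1 (Subgroup.mem_subgroupOf.1 hg)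
    obtain ⟨B, hB, hBe⟩ := (hNi _).1 (Subgroup.mem_subgroupOf.1 hn)
    obtain ⟨R, hR, hAB⟩ := List.any_eq_true.1 (List.all_eq_true.1 (List.all_eq_true.1 hnorm A hA) B hB)
    have hvA := (mem_K0 (List.mem_append_right _ hA)).1
    have hvB := (mem_K0 (List.mem_append_left P8 hB)).1
    have hvR := (mem_K0 (List.mem_append_left P8 hR)).1
    refine Subgroup.mem_subgroupOf.2 ((hNi _).2 ⟨R, hR, ?_⟩)
    push_cast
    rw [hAe, hBe, ← toPerm_mulP hvA hvB, toPerm_eq_of_eqP (validP_mulP hvA hvB) (validP_mulP hvR hvA) hAB,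
      toPerm_mulP hvR hvA, mul_inv_cancel_right]
  · intro x hx
    obtain ⟨B, hB, hBe⟩ := (hNi _).1 (Subgroup.mem_subgroupOf.1 hx)
    have hvB := (mem_K0 (List.mem_append_left P8 hB)).1
    apply Subtype.ext
    push_cast
    rw [hBe, ← (toPerm_powP hvB 3).2, toPerm_eq_of_eqP (toPerm_powP hvB 3).1 validP_idP
      (List.all_eq_true.1 hexp B hB), toPerm_idP]
  · have hmemq : ∀ x, qc x ∈ P8 := fun x => by
      obtain ⟨s, -, hs⟩ := qc_index x
      rw [hs, List.getD_eq_getElem _ _ (by exact s.2)]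
      exact List.getElem_mem _
    let f : QuaternionGroup 2 →* P := MonoidHom.mk'
      (fun x => ⟨toPerm (qc x), (hPi _).2 ⟨qc x, hmemq x, rfl⟩⟩) fun x y => by
        obtain ⟨s, hs, hs'⟩ := qc_index x
        obtain ⟨t, ht, ht'⟩ := qc_index y
        have h := qc_ok s t
        rw [← hs, ← ht, ← hs', ← ht'] at h
        have hvx := (mem_K0 (List.mem_append_right N9 (hmemq x))).1
        have hvy := (mem_K0 (List.mem_append_right N9 (hmemq y))).1
        apply Subtype.ext
        push_cast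
        rw [← toPerm_mulP hvx hvy]
        exact (toPerm_eq_of_eqP (validP_mulP hvx hvy) (mem_K0 (List.mem_append_right N9 (hmemq _))).1 h).symm
    have hsurj : Function.Surjective f := by
      rintro ⟨σ, hσ⟩
      obtain ⟨A, hA, rfl⟩ := (hPi σ).1 hσ
      obtain ⟨k, hk, rfl⟩ := List.getElem_of_mem hA
      have hk8 : k < 8 := hk
      by_cases h4 : k < 4
      · refine ⟨.a ((k : ℕ) : ZMod 4), Subtype.ext (congrArg toPerm ?_)⟩
        show P8.getD (ZMod.val ((k : ℕ) : ZMod 4)) 0 = _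
        rw [ZMod.val_natCast, Nat.mod_eq_of_lt h4, List.getD_eq_getElem _ _ hk]
      · refine ⟨.xa ((k - 4 : ℕ) : ZMod 4), Subtype.ext (congrArg toPerm ?_)⟩
        show P8.getD (4 + ZMod.val ((k - 4 : ℕ) : ZMod 4)) 0 = _
        rw [ZMod.val_natCast, Nat.mod_eq_of_lt (by omega), List.getD_eq_getElem _ _ (by omega)]
        congr 1; omega
    have hb : Function.Bijective f := (Nat.bijective_iff_surjective_and_card f).2 ⟨hsurj, by
      rw [hPc, Nat.card_eq_fintype_card, QuaternionGroup.card]; rfl⟩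
    exact ⟨(Subgroup.subgroupOfEquivOfLe hPle).trans (MulEquiv.ofBijective f hb).symm⟩

theorem abstract_sylow {G : Type*} [Group G] [Finite G] (hG : Nat.card G = 72) {N P : Subgroup G}
    (hn : N.Normal) (hN : Nat.card N = 9) (hexp : ∀ x ∈ N, x ^ 3 = 1) (hP : Nat.card P = 8)
    (e : P ≃* QuaternionGroup 2) :
    (∀ Q : Sylow 3 G, (Q : Subgroup G).Normal ∧ Nat.card Q = 9 ∧ ∀ x ∈ (Q : Subgroup G), x ^ 3 = 1) ∧
      ∀ R : Sylow 2 G, Nonempty (R ≃* QuaternionGroup 2) := by
  have hf : (Nat.card G).factorization 3 = 2 ∧ (Nat.card G).factorization 2 = 3 := by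
    rw [hG, show (72 : ℕ) = 2 ^ 3 * 3 ^ 2 by norm_num, Nat.factorization_mul (by norm_num) (by norm_num),
      Finsupp.add_apply, Finsupp.add_apply, Nat.factorization_pow, Nat.factorization_pow]
    simp [Nat.prime_two.factorization, Nat.prime_three.factorization]
  haveI : Fact (Nat.Prime 3) := ⟨Nat.prime_three⟩
  haveI : Fact (Nat.Prime 2) := ⟨Nat.prime_two⟩
  let QN : Sylow 3 G := Sylow.ofCard N (by rw [hN, hf.1]; norm_num)
  haveI hu : Subsingleton (Sylow 3 G) := by
    rw [← Finite.card_le_one_iff_subsingleton]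
    haveI : Unique (Sylow 3 G) := Sylow.unique_of_normal QN (by exact hn)
    exact (Nat.card_unique).le
  refine ⟨fun Q => ?_, fun R => ?_⟩
  · rw [Subsingleton.elim Q QN]
    exact ⟨hn, hN, hexp⟩
  · exact ⟨(R.equiv (Sylow.ofCard P (by rw [hP, hf.2]; norm_num))).trans e⟩

/-- In the group of the length-24 code, the subgroup fixing a dodecad setwise and three of its points individually (a group of order 72) has a normal Sylow 3-subgroup that is elementary abelian of order 9, and its Sylow 2-subgroups are quaternion of order 8. -/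
theorem result (d : Finset Cfsg.GolayPt) (hd : d ∈ Cfsg.dodecads) (p q r : Cfsg.GolayPt) (hp : p ∈ d) (hq : q ∈ d) (hr : r ∈ d) (hpq : p ≠ q) (hpr : p ≠ r) (hqr : q ≠ r) : (∀ Q : Sylow 3 ↥(MulAction.stabilizer Cfsg.M24 d ⊓ MulAction.stabilizer Cfsg.M24 p ⊓ MulAction.stabilizer Cfsg.M24 q ⊓ MulAction.stabilizer Cfsg.M24 r), (Q : Subgroup ↥(MulAction.stabilizer Cfsg.M24 d ⊓ MulAction.stabilizer Cfsg.M24 p ⊓ MulAction.stabilizer Cfsg.M24 q ⊓ MulAction.stabilizer Cfsg.M24 r)).Normal ∧ Nat.card ↥Q = 9 ∧ ∀ x ∈ (Q : Subgroup ↥(MulAction.stabilizer Cfsg.M24 d ⊓ MulAction.stabilizer Cfsg.M24 p ⊓ MulAction.stabilizer Cfsg.M24 q ⊓ MulAction.stabilizer Cfsg.M24 r)), x ^ 3 = 1) ∧ ∀ P : Sylow 2 ↥(MulAction.stabilizer Cfsg.M24 d ⊓ MulAction.stabilizer Cfsg.M24 p ⊓ MulAction.stabilizer Cfsg.M24 q ⊓ MulAction.stabilizer Cfsg.M24 r), Nonempty (↥P ≃* QuaternionGroup 2) := by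
  classical
  obtain ⟨g₀, hg₀, rfl⟩ := exists_smul_dod0 hd
  obtain ⟨s, hs, hs2⟩ : ∃ s ⊆ (g₀ • dec dod0) \ {p, q, r}, s.card = 2 := by
    refine Finset.exists_subset_card_eq ?_
    have h := Finset.le_card_sdiff {p, q, r} (g₀ • dec dod0)
    have h3 : ({p, q, r} : Finset GolayPt).card ≤ 3 := Finset.card_le_three
    rw [hd.2] at h
    omega
  obtain ⟨u, v, huv, rfl⟩ := Finset.card_eq_two.1 hs2
  simp only [Finset.insert_subset_iff, Finset.singleton_subset_iff, Finset.mem_sdiff,
    Finset.mem_insert, Finset.mem_singleton, not_or] at hs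
  obtain ⟨⟨hu, hup, huq, hur⟩, hv, hvp, hvq, hvr⟩ := hs
  obtain ⟨k, hk, hmap⟩ := exists_map12 ([p, q, r, u, v].map g₀.symm) rfl
    (List.Nodup.map g₀.symm.injective (by
      simp [hpq, hpr, hqr, huv, Ne.symm hup, Ne.symm huq, Ne.symm hur, Ne.symm hvp, Ne.symm hvq, Ne.symm hvr]))
    (fun x hx => by
      obtain ⟨y, hy, rfl⟩ := List.mem_map.1 hx
      have : y ∈ g₀ • dec dod0 := by
        simp only [List.mem_cons, List.not_mem_nil, or_false] at hy
        rcases hy with rfl | rfl | rfl | rfl | rfl <;> assumption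
      exact Finset.inv_smul_mem_iff.2 this)
  simp only [base5, List.map_cons, List.map_nil, List.cons.injEq] at hmap
  obtain ⟨h23, h0, h1, -⟩ := hmap
  obtain ⟨hkM, hkd⟩ := mem_H12_iff.1 hk
  set c := g₀ * k with hc
  have hcM : c ∈ M24 := mul_mem hg₀ hkM
  have hcp : c (pt 23) = p ∧ c (pt 0) = q ∧ c (pt 1) = r := by
    simp only [hc, Equiv.Perm.mul_apply, h23, h0, h1, Equiv.apply_symm_apply, and_self]
  have hcd : c • dec dod0 = g₀ • dec dod0 := by rw [hc, mul_smul, hkd]
  have hF : ∀ {h : Equiv.Perm GolayPt}, (∀ x ∈ dec F3, h x = x) ↔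
      h (pt 23) = pt 23 ∧ h (pt 0) = pt 0 ∧ h (pt 1) = pt 1 := by
    intro h
    rw [show dec F3 = {pt 23, pt 0, pt 1} by decide +kernel]
    simp
  let e := conjEquiv (K := K0) (fun x hx => (mem_H12_iff.1 (mem_fixH.1 hx).1).1)
    (MulAction.stabilizer M24 (g₀ • dec dod0) ⊓ MulAction.stabilizer M24 p ⊓ MulAction.stabilizer M24 q ⊓
      MulAction.stabilizer M24 r) hcM (fun x => by
      rw [mem_fixH, mem_H12_iff, hF, Subgroup.mem_inf, Subgroup.mem_inf, Subgroup.mem_inf,
        mem_stab_set, mem_stab_point, mem_stab_point, mem_stab_point]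
      have hM : c⁻¹ * (x : Equiv.Perm GolayPt) * c ∈ M24 := mul_mem (mul_mem (inv_mem hcM) x.2) hcM
      rw [conj_apply_eq_iff hcp.1, conj_apply_eq_iff hcp.2.1, conj_apply_eq_iff hcp.2.2,
        conj_smul_eq_iff hcd]
      exact ⟨fun h => ⟨⟨hM, h.1.1.1⟩, h.1.1.2, h.1.2, h.2⟩,
        fun h => ⟨⟨⟨h.1.2, h.2.1⟩, h.2.2.1⟩, h.2.2.2⟩⟩)
  obtain ⟨N, P, hn, hN, hexp, hP, ⟨eP⟩⟩ := model
  have inj : Function.Injective (e.symm.toMonoidHom : K0 →* _) := e.symm.injective
  refine abstract_sylow (by rw [Nat.card_congr e.toEquiv, card_K0])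
    (hn.map e.symm.toMonoidHom e.symm.surjective) ?_ ?_ ?_
    ((P.equivMapOfInjective _ inj).symm.trans eP)
  · rw [← Nat.card_congr (N.equivMapOfInjective _ inj).toEquiv, hN]
  · rintro _ ⟨x, hx, rfl⟩
    rw [← map_pow, hexp x hx, map_one]
  · rw [← Nat.card_congr (P.equivMapOfInjective _ inj).toEquiv, hP]

end Cfsg.Agent.S5619
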