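import Cfsg.Statements.S5620
import Cfsg.Agent.S5166

set_option autoImplicit false
open scoped Pointwise
open Cfsg

namespace Cfsg.Agent.S5620

open CfsgLib.Golay
open scoped Pointwise

/-- a permutation exchanging the dodecad with its complement -/
def gP : ℕ := 764941034815342207010520124743176375

theorem chk : inM24 gP = true ∧ mimg gP 340831 = 340831 ^^^ fullMask ∧ ap gP 0 = 23 ∧
    ((List.range 24).all fun i => (340831 : ℕ).testBit i ||
      [235787742087635228267678619969815744, 318869311285434353680993701458349248].any fun T =>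
        Cfsg.Agent.S5166.inG T && ap T i != i) = true := by
  decide +kernel

theorem valid_of_inM24 {P : ℕ} (h : inM24 P = true) : validP P = true := by
  simp only [inM24, Bool.and_eq_true] at h; exact h.1

theorem smul_compl (g : Equiv.Perm GolayPt) (s : Finset GolayPt) : g • sᶜ = (g • s)ᶜ := by
  ext q
  obtain ⟨r, rfl⟩ := g.surjective q
  rw [show g r = g • r from rfl, Finset.smul_mem_smul_finset_iff, Finset.mem_compl, Finset.mem_compl,
    Finset.smul_mem_smul_finset_iff]

/-- Inside the stabiliser of the dodecad of squares (a Mathieu group of degree 12), the stabiliser of the residue 0 (a point of the dodecad) and the stabiliser of the extra point (a point outside the dodecad) are isomorphic but not conjugate; conjugation by a suitable element of the code's group that maps the dodecad of squares onto its complement carries the first onto the second. -/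
theorem result : Nonempty (↥(Cfsg.Spor.M12 ⊓ MulAction.stabilizer (Equiv.Perm Cfsg.GolayPt) (none : Cfsg.GolayPt)) ≃* ↥Cfsg.Spor.M11) ∧ (¬ ∃ k ∈ Cfsg.Spor.M12, MulAut.conj k • Cfsg.Spor.M11 = Cfsg.Spor.M12 ⊓ MulAction.stabilizer (Equiv.Perm Cfsg.GolayPt) (none : Cfsg.GolayPt)) ∧ ∃ g ∈ Cfsg.M24, g • Cfsg.Spor.squareDodecad = Finset.univ \ Cfsg.Spor.squareDodecad ∧ MulAut.conj g • Cfsg.Spor.M11 = Cfsg.Spor.M12 ⊓ MulAction.stabilizer (Equiv.Perm Cfsg.GolayPt) (none : Cfsg.GolayPt) := by
  obtain ⟨hgM, hgD, hg0, hmoves⟩ := chk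
  have hvg : validP gP = true := valid_of_inM24 hgM
  have hsq := Cfsg.Agent.S5166.squareDodecad_eq
  have hD : toPerm gP • Cfsg.Spor.squareDodecad = (Cfsg.Spor.squareDodecad)ᶜ := by
    rw [hsq, smul_dec hvg, hgD]
    ext q
    rw [Finset.mem_compl, mem_dec, mem_dec, Nat.testBit_xor, testBit_fullMask]
    cases h : (340831 : ℕ).testBit (idx q) <;> simp [idx_lt q]
  have hg0' : toPerm gP (some 0) = none := by
    rw [toPerm_apply hvg, show idx (some 0) = 0 from rfl, hg0]; rfl
  have hM : toPerm gP ∈ Cfsg.M24 := toPerm_mem_M24 hgM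
  have hconj : MulAut.conj (toPerm gP) • Cfsg.Spor.M11 =
      Cfsg.Spor.M12 ⊓ MulAction.stabilizer (Equiv.Perm Cfsg.GolayPt) (none : Cfsg.GolayPt) := by
    ext x
    rw [Subgroup.mem_pointwise_smul_iff_inv_smul_mem, ← map_inv, MulAut.smul_def, MulAut.conj_apply, inv_inv]
    simp only [Cfsg.Spor.M11, Cfsg.Spor.M12, Subgroup.mem_inf, MulAction.mem_stabilizer_iff]
    have h12 : ((toPerm gP)⁻¹ * x * toPerm gP) • Cfsg.Spor.squareDodecad = Cfsg.Spor.squareDodecad ↔
        x • Cfsg.Spor.squareDodecad = Cfsg.Spor.squareDodecad := by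
      rw [mul_smul, mul_smul, inv_smul_eq_iff, hD, smul_compl]
      exact compl_inj_iff
    have h0 : ((toPerm gP)⁻¹ * x * toPerm gP) • (some 0 : Cfsg.GolayPt) = some 0 ↔
        x • (none : Cfsg.GolayPt) = none := conj_apply_eq_iff hg0'
    rw [h12, h0]
    constructor
    · rintro ⟨⟨h1, h2⟩, h3⟩
      refine ⟨⟨?_, h2⟩, h3⟩
      simpa [mul_assoc] using mul_mem (mul_mem hM h1) (inv_mem hM)
    · rintro ⟨⟨h1, h2⟩, h3⟩
      exact ⟨⟨mul_mem (mul_mem (inv_mem hM) h1) hM, h2⟩, h3⟩
  refine ⟨?_, ?_, ⟨toPerm gP, hM, by rw [hD, Finset.compl_eq_univ_sdiff], hconj⟩⟩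
  · rw [← hconj]
    exact ⟨(Subgroup.equivSMul (MulAut.conj (toPerm gP)) Cfsg.Spor.M11).symm⟩
  · rintro ⟨k, hk, he⟩
    have hfix : ∀ x ∈ Cfsg.Spor.M11, x (k⁻¹ (none : Cfsg.GolayPt)) = k⁻¹ none := by
      intro x hx
      have h1 : MulAut.conj k • x ∈ MulAut.conj k • Cfsg.Spor.M11 := Subgroup.smul_mem_pointwise_smul x _ _ hx
      rw [he] at h1
      have h2 : (k * x * k⁻¹) (none : Cfsg.GolayPt) = none := h1.2
      rw [Equiv.Perm.mul_apply, Equiv.Perm.mul_apply] at h2
      exact k.injective (h2.trans (by simp))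
    have hnD : k⁻¹ (none : Cfsg.GolayPt) ∉ Cfsg.Spor.squareDodecad := by
      intro h
      have h1 : k • k⁻¹ (none : Cfsg.GolayPt) ∈ k • Cfsg.Spor.squareDodecad := Finset.smul_mem_smul_finset h
      rw [show k • Cfsg.Spor.squareDodecad = Cfsg.Spor.squareDodecad from (Subgroup.mem_inf.1 hk).2, hsq,
        Equiv.Perm.smul_def, show k (k⁻¹ none) = (none : Cfsg.GolayPt) by simp, mem_dec] at h1
      exact absurd h1 (by decide +kernel)
    simp only [List.all_eq_true, List.mem_range, Bool.or_eq_true, List.any_eq_true, Bool.and_eq_true, bne_iff_ne] at hmoves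
    rcases hmoves _ (idx_lt (k⁻¹ (none : Cfsg.GolayPt))) with h | ⟨T, -, hT, hne⟩
    · exact hnD (by rw [hsq, mem_dec]; exact h)
    · obtain ⟨hvT, hTM⟩ := Cfsg.Agent.S5166.hin T hT
      exact hne (by rw [← idx_toPerm hvT, hfix _ hTM])

end Cfsg.Agent.S5620
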