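import Cfsg.Statements.S5622
import Mathlib
import Cfsg.Prelude.Def_Sporadic_a
import Cfsg.Agent.Lib.SelfDual24.Basic

set_option autoImplicit false
set_option linter.style.haveILetI false
open Cfsg

namespace Cfsg.Agent.S5622

/-- Let C be a self-dual binary code of length 24 with minimum weight at least 8 (a 12-dimensional subspace of the 24-dimensional space over the field with two elements, any two of whose words have dot product zero, with no non-zero word of weight below 8 — an abstract extended binary Golay code). Then the minimum weight of C is exactly 8, and the supports of the words of weight 8 (the octads) form a Steiner system S(5, 8, 24) on the 24 coordinates: every 5 coordinates lie in the support of exactly one word of weight 8. -/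
theorem result (C : Submodule (ZMod 2) (Fin 24 → ZMod 2)) (hdim : Module.finrank (ZMod 2) C = 12) (horth : ∀ v ∈ C, ∀ w ∈ C, ∑ i, v i * w i = 0) (hmin : ∀ w ∈ C, w ≠ 0 → 8 ≤ hammingNorm w) : (∃ w ∈ C, hammingNorm w = 8) ∧ Cfsg.IsSteinerSystem 5 8 (Cfsg.wordsOfWeight (C : Set (Fin 24 → ZMod 2)) 8) := by
  have hC := CfsgLib.SelfDual24.Data.mk hdim horth hmin
  have hsupp : ∀ v : Fin 24 → ZMod 2, Cfsg.support₂ v = CfsgLib.SelfDual24.supp v := fun v => by
    ext i; simp [Cfsg.support₂, CfsgLib.SelfDual24.supp]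
  refine ⟨?_, fun b hb => hb.2, fun s hs => ?_⟩
  · obtain ⟨T, ⟨⟨hT, hT8⟩, -⟩, -⟩ := hC.octad ({0, 1, 2, 3, 4} : Finset (Fin 24)) (by decide)
    exact ⟨_, hT, by rw [CfsgLib.SelfDual24.norm_eq, CfsgLib.SelfDual24.supp_word, hT8]⟩
  · obtain ⟨T, ⟨⟨hT, hT8⟩, hsT⟩, huniq⟩ := hC.octad s hs
    refine ⟨T, ⟨⟨⟨_, hT, by rw [hsupp, CfsgLib.SelfDual24.supp_word]⟩, hT8⟩, hsT⟩, ?_⟩
    rintro b ⟨⟨⟨v, hv, rfl⟩, hb⟩, hsb⟩
    exact huniq _ ⟨⟨by rw [hsupp, CfsgLib.SelfDual24.word_supp]; exact hv, hb⟩, hsb⟩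

end Cfsg.Agent.S5622
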