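import Cfsg.Statements.S5625
import Cfsg.Agent.Lib.Design.Steiner
-- import your own Cfsg.Agent.* helpers here

set_option autoImplicit false
open Cfsg

namespace Cfsg.Agent.S5625

/-- In any Steiner system S(5, 8, 24) and for any set Y of three points, the blocks meeting Y in exactly 3, 2, 1 and 0 points number 21, 168, 360 and 210 respectively (so there are 759 blocks in all). -/
theorem result (α : Type*) [Fintype α] [DecidableEq α] (hα : Fintype.card α = 24) (B : Set (Finset α)) (hB : Cfsg.IsSteinerSystem 5 8 B) (Y : Finset α) (hY : Y.card = 3) : {b : Finset α | b ∈ B ∧ (b ∩ Y).card = 3}.ncard = 21 ∧ {b : Finset α | b ∈ B ∧ (b ∩ Y).card = 2}.ncard = 168 ∧ {b : Finset α | b ∈ B ∧ (b ∩ Y).card = 1}.ncard = 360 ∧ {b : Finset α | b ∈ B ∧ (b ∩ Y).card = 0}.ncard = 210 := by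
  classical
  obtain ⟨B', hB', hS⟩ := CfsgLib.Design.exists_finset hB
  subst hB'
  set n : ℕ → ℕ := fun j => (B'.filter fun b => (Y ∩ b).card = j).card with hn
  have hmom : ∀ i L : ℕ, i ≤ 3 → (∀ S : Finset α, S.card = i → (B'.filter (S ⊆ ·)).card = L) →
      n 0 * Nat.choose 0 i + n 1 * Nat.choose 1 i + n 2 * Nat.choose 2 i + n 3 * Nat.choose 3 i =
        Nat.choose 3 i * L := by
    intro i L _ hL
    have h := CfsgLib.Design.moment Y B' i L fun S _ hS' => hL S hS'
    rw [hY] at h
    rw [← h, ← Finset.sum_fiberwise_of_maps_to (t := Finset.range 4) (g := fun b => (Y ∩ b).card)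
      (fun b _ => Finset.mem_range.2 (Nat.lt_succ_of_le (hY ▸ Finset.card_le_card Finset.inter_subset_left)))]
    have e : ∀ j, ∑ b ∈ B'.filter (fun b => (Y ∩ b).card = j), ((Y ∩ b).card).choose i = n j * j.choose i := fun j => by
      rw [Finset.sum_congr rfl fun b hb => by rw [(Finset.mem_filter.1 hb).2], Finset.sum_const, smul_eq_mul]
    simp only [Finset.sum_range_succ, Finset.sum_range_zero, zero_add, e]
  have hth : ∀ i L : ℕ, i ≤ 3 → L * Nat.choose (8 - i) (5 - i) = Nat.choose (24 - i) (5 - i) →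
      ∀ S : Finset α, S.card = i → (B'.filter (S ⊆ ·)).card = L := by
    intro i L hi hL S hS'
    have h := CfsgLib.Design.blocks_through hS S (by omega)
    rw [hS', hα, ← hL] at h
    exact Nat.eq_of_mul_eq_mul_right (Nat.choose_pos (by omega)) h
  have m0 := hmom 0 759 (by norm_num) (hth 0 759 (by norm_num) (by decide +kernel))
  have m1 := hmom 1 253 (by norm_num) (hth 1 253 (by norm_num) (by decide +kernel))
  have m2 := hmom 2 77 (by norm_num) (hth 2 77 (by norm_num) (by decide +kernel))
  have m3 := hmom 3 21 (by norm_num) (hth 3 21 (by norm_num) (by decide +kernel))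
  norm_num [Nat.choose] at m0 m1 m2 m3
  have hset : ∀ j, {b : Finset α | b ∈ (B' : Set (Finset α)) ∧ (b ∩ Y).card = j}.ncard = n j := fun j => by
    simp only [hn]
    rw [← Set.ncard_coe_finset]
    congr 1
    ext b
    simp [Finset.inter_comm b Y]
  simp only [hset]
  omega

end Cfsg.Agent.S5625
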