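import Cfsg.Statements.S5632
import Cfsg.Agent.Lib.Classical.SubspaceStab

set_option autoImplicit false
open Cfsg

namespace Cfsg.Agent.S5632

/-- For a finite field F and subspaces 0 < W < U of F^n with dim W + dim U = n, the elements of SL_n(F) stabilising both W and U form a subgroup that is not maximal in SL_n(F): some subgroup lies strictly between it and SL_n(F). -/
theorem result {F : Type*} [Field F] [Fintype F] (n : ℕ) (W U : Submodule F (Fin n → F)) (hW0 : W ≠ ⊥) (hWU : W < U) (hdim : Module.finrank F W + Module.finrank F U = n) : ∃ K : Subgroup (Matrix.GeneralLinearGroup (Fin n) F), Cfsg.Geo.subspaceStabilizer W ⊓ Cfsg.Geo.subspaceStabilizer U ⊓ Cfsg.Geo.specialLinear (Fin n) F < K ∧ K < Cfsg.Geo.specialLinear (Fin n) F := by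
  obtain ⟨u, huU, huW⟩ := SetLike.exists_of_lt hWU
  have hW1 : W ≠ ⊤ := fun h => (h ▸ hWU).not_ge le_top
  have h1 : 1 ≤ Module.finrank F W := Submodule.one_le_finrank_iff.2 hW0
  have hU1 : U ≠ ⊤ := fun h => by rw [h, finrank_top, Module.finrank_fin_fun] at hdim; omega
  obtain ⟨a, ha⟩ := SetLike.exists_not_mem_of_ne_top U hU1 rfl
  refine CfsgLib.Classical.MinIndex.exists_between hW0 hW1
    (CfsgLib.Classical.MinIndex.exists_move huU huW ha fun hm => ha ?_)
  obtain ⟨w, hw, z, hz, hwz⟩ := Submodule.mem_sup.1 hm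
  obtain ⟨c, rfl⟩ := Submodule.mem_span_singleton.1 hz
  have hc : c ≠ 0 := fun h0 => huW (by rw [← hwz, h0, zero_smul, add_zero]; exact hw)
  have : a = c⁻¹ • (u - w) := by rw [← hwz, add_sub_cancel_left, smul_smul, inv_mul_cancel₀ hc, one_smul]
  rw [this]
  exact U.smul_mem _ (U.sub_mem huU (hWU.le hw))

end Cfsg.Agent.S5632
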