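import Cfsg.Statements.S5633
import Cfsg.Agent.Lib.Classical.SubspaceStab

set_option autoImplicit false
open Cfsg

namespace Cfsg.Agent.S5633

/-- For a finite field F and complementary non-zero subspaces W ⊕ U = F^n with dim W < dim U, the elements of SL_n(F) stabilising both W and U form a subgroup that is not maximal in SL_n(F): some subgroup lies strictly between it and SL_n(F). -/
theorem result {F : Type*} [Field F] [Fintype F] (n : ℕ) (W U : Submodule F (Fin n → F)) (hW0 : W ≠ ⊥) (hWU : W ⊓ U = ⊥) (hWU' : W ⊔ U = ⊤) (hdim : Module.finrank F W < Module.finrank F U) : ∃ K : Subgroup (Matrix.GeneralLinearGroup (Fin n) F), Cfsg.Geo.subspaceStabilizer W ⊓ Cfsg.Geo.subspaceStabilizer U ⊓ Cfsg.Geo.specialLinear (Fin n) F < K ∧ K < Cfsg.Geo.specialLinear (Fin n) F := by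
  have hU0 : U ≠ ⊥ := fun h => by rw [h, finrank_bot] at hdim; omega
  have hW1 : W ≠ ⊤ := fun h => hU0 (by rwa [h, top_inf_eq] at hWU)
  obtain ⟨u, hu, hu0⟩ := Submodule.exists_mem_ne_zero_of_ne_bot hU0
  obtain ⟨a, ha, ha0⟩ := Submodule.exists_mem_ne_zero_of_ne_bot hW0
  have key : ∀ x, x ∈ W → x ∈ U → x = 0 := fun x h1 h2 => by
    have := Submodule.mem_inf.2 ⟨h1, h2⟩; rwa [hWU, Submodule.mem_bot] at this
  refine CfsgLib.Classical.MinIndex.exists_between hW0 hW1
    (CfsgLib.Classical.MinIndex.exists_move hu (fun h => hu0 (key u h hu)) (fun h => ha0 (key a ha h))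
      fun hm => hu0 (key u ?_ hu))
  rwa [sup_eq_left.2 ((Submodule.span_singleton_le_iff_mem _ _).2 ha)] at hm

end Cfsg.Agent.S5633
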