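import Cfsg.Statements.S5652
import Cfsg.Agent.Lib.Classical.SympQuadMax

set_option autoImplicit false
open Cfsg

namespace Cfsg.Agent.S5652

/-- For a finite field F of characteristic two and m ≥ 7, let Q be a non-degenerate quadratic form on F^(2m) whose polar form is the standard alternating form. Then the elements of Sp_2m(F) that are similarities of Q (they are exactly the isometries of Q) form a maximal subgroup of Sp_2m(F). -/
theorem result {F : Type*} [Field F] [Fintype F] (m : ℕ) (hm : 7 ≤ m) (heven : ¬ Odd (Fintype.card F)) (Q : (Fin m ⊕ Fin m → F) → F) (hQ : Cfsg.Geo.IsNondegenerateQuadraticForm Q) (hpol : ∀ u v, QuadraticMap.polar Q u v = Cfsg.sympForm m F u v) : Cfsg.Geo.IsMaximalIn (Cfsg.spGL m F) (Cfsg.Geo.quadSimilarityGroup Q ⊓ Cfsg.spGL m F) := by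
  have h2 : (2 : F) = 0 := by
    have hev : Even (Fintype.card F) := Nat.not_odd_iff_even.1 heven
    have : ((2 : ℕ) : F) = 0 := by
      obtain ⟨p, hp⟩ := CharP.exists F
      haveI : Fact p.Prime := ⟨CharP.char_is_prime F p⟩
      obtain ⟨n, hp', hn⟩ := FiniteField.card F p
      have : p = 2 := (Nat.prime_dvd_prime_iff_eq Nat.prime_two hp').1
        (Nat.prime_two.dvd_of_dvd_pow (n := n) (hn ▸ hev.two_dvd)) |>.symm
      subst this
      exact CharP.cast_eq_zero F 2
    exact_mod_cast this
  have D : CfsgLib.Classical.SympQuad.Data Q := ⟨h2, hQ.smul, fun u v => by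
    have := hpol u v
    rw [QuadraticMap.polar] at this
    linear_combination this, by omega, Or.inl (by omega)⟩
  exact CfsgLib.Classical.SympQuad.isMaximalIn D

end Cfsg.Agent.S5652
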