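import Cfsg.Statements.S5662
import Cfsg.Agent.Lib.Classical.AschSympStd
-- import your own Cfsg.Agent.* helpers here

set_option autoImplicit false
open Cfsg

namespace Cfsg.Agent.S5662

/-- Subgroup structure of the finite symplectic groups. Let F be a finite field and m ≥ 2 with (m, |F|) ≠ (2, 2), and let Sp_2m(F) be the group of invertible matrices preserving the standard alternating form on F^(2m). Let H be a subgroup of Sp_2m(F) whose product with the scalar matrices ±1 is not all of Sp_2m(F) (H does not cover PSp_2m(F)). Then either H is contained in a member of one of the eight geometric classes of subgroups of Sp_2m(F) (with the conditions built into InSymplecticClass), or H is in the residual class: modulo scalars it is almost simple, and the perfect preimage of its socle acts absolutely irreducibly, is realisable over no proper subfield, and fixes no non-degenerate quadratic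 form and no non-degenerate unitary form on F^(2m). -/
theorem result {F : Type*} [Field F] [Fintype F] (m : ℕ) (hm : 2 ≤ m) (hex : ¬ (m = 2 ∧ Fintype.card F = 2)) (H : Subgroup (Matrix.GeneralLinearGroup (Fin m ⊕ Fin m) F)) (hH : H ≤ Cfsg.spGL m F) (hproper : H ⊔ (Cfsg.Geo.scalars (Fin m ⊕ Fin m) F ⊓ Cfsg.spGL m F) ≠ Cfsg.spGL m F) : (∃ M : Subgroup (Matrix.GeneralLinearGroup (Fin m ⊕ Fin m) F), Cfsg.Geo.InSymplecticClass m F M ∧ H ≤ M) ∨ Cfsg.Geo.InSymplecticResidualClass H := by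
  have key := CfsgLib.Asch.symp_std_cases hm hH
  rcases key with ⟨W, h0, hW, hle⟩ | ⟨W, h0, hW, hd, hle⟩ | ⟨t, k, D, -, hD, hle⟩ | ⟨D, ho, hD, hts, hle⟩ |
    ⟨r, K, hr, -, hK, hsa, halt, hle⟩ | ⟨K, ho, hK, hcl, hn, hle⟩ |
    ⟨n₁, n₂, e, P, f₁, f₂, ho, -, -, h3, -, hf₁, hf₂, hs, hle⟩ | ⟨F₀, r, P, ζ, hr, hc, hζ, hrat, hle⟩ |
    ⟨R, p, k, hR, ha, hs, hp, hpo, hq, -, hc, hz, hmi, hle⟩ |
    ⟨k, t, e, P, f₁, ho, ht, ht3, he, -, -, hf₁, hs, hle⟩ | ⟨Q, he, hQ, hpol, hle⟩ | h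
  · exact Or.inl ⟨_, Or.inl (Or.inl ⟨W, h0, hW, rfl⟩), le_inf hle hH⟩
  · exact Or.inl ⟨_, Or.inl (Or.inr (Or.inl ⟨W, h0, hW, hd, rfl⟩)), le_inf hle hH⟩
  · exact Or.inl ⟨_, Or.inl (Or.inr (Or.inr (Or.inl ⟨t, k, D, hD, rfl⟩))), le_inf hle hH⟩
  · exact Or.inl ⟨_, Or.inl (Or.inr (Or.inr (Or.inr (Or.inl ⟨D, ho, hD, hts, rfl⟩)))), le_inf hle hH⟩
  · exact Or.inl ⟨_, Or.inr (Or.inl ⟨r, K, hr, hK, hsa, halt, rfl⟩), le_inf hle hH⟩
  · exact Or.inl ⟨_, Or.inr (Or.inr (Or.inl ⟨K, ho, hK, hcl, hn, rfl⟩)), le_inf hle hH⟩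
  · exact Or.inl ⟨_, Or.inr (Or.inr (Or.inr (Or.inl ⟨n₁, n₂, e, P, f₁, f₂, ho, h3, hf₁, hf₂, hs, rfl⟩))),
      le_inf hle hH⟩
  · exact Or.inl ⟨_, Or.inl (Or.inr (Or.inr (Or.inr (Or.inr (Or.inl ⟨F₀, r, P, ζ, hr, hc, hζ, hrat, rfl⟩))))),
      le_inf hle hH⟩
  · exact Or.inl ⟨_, Or.inl (Or.inr (Or.inr (Or.inr (Or.inr (Or.inr (Or.inl
      ⟨R, p, k, hR, ha, hs, hp, hpo, hq, hc, hz, hmi, rfl⟩)))))), le_inf hle hH⟩
  · exact Or.inl ⟨_, Or.inr (Or.inr (Or.inr (Or.inr ⟨k, t, e, P, f₁, ho, ht, ht3, he, hf₁, hs, rfl⟩))),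
      le_inf hle hH⟩
  · exact Or.inl ⟨_, Or.inl (Or.inr (Or.inr (Or.inr (Or.inr (Or.inr (Or.inr ⟨Q, he, hQ, hpol, rfl⟩)))))),
      le_inf hle hH⟩
  · exact Or.inr h

end Cfsg.Agent.S5662
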