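import Cfsg.Statements.S5663
import Cfsg.Agent.Lib.Classical.AschUnit

set_option autoImplicit false
open Cfsg Matrix
open scoped Kronecker

namespace Cfsg.Agent.S5663

/-- Subgroup structure of the finite unitary groups. Let F be the field with q² elements and n ≥ 3 with (n, q) ≠ (3, 2), and let SU_n(q) be the group of matrices of determinant one preserving the standard unitary form Σ u_i v_i^q on F^n. Let H be a subgroup of SU_n(q) whose product with the scalar matrices in SU_n(q) is not all of SU_n(q) (H does not cover PSU_n(q)). Then either H is contained in a member of one of the geometric classes of subgroups of the unitary group GU_n(q) (with the conditions built into InUnitaryClass), or H is in the residual class: modulo scalars it is almost simple, and the perfect preimage of its socle acts absolutely irreducibly, is realisable over no proper subfield of F, and fixes no non-degenerate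 quadratic form and no non-degenerate symplectic form on F^n. -/
theorem result {F : Type*} [Field F] [Fintype F] (n q : ℕ) (hF : Fintype.card F = q ^ 2) (hn : 3 ≤ n) (hex : ¬ (n = 3 ∧ q = 2)) (H : Subgroup (Matrix.GeneralLinearGroup (Fin n) F)) (hH : H ≤ (Cfsg.GU n F q ⊓ Cfsg.Geo.specialLinear (Fin n) F)) (hproper : H ⊔ (Cfsg.Geo.scalars (Fin n) F ⊓ (Cfsg.GU n F q ⊓ Cfsg.Geo.specialLinear (Fin n) F)) ≠ (Cfsg.GU n F q ⊓ Cfsg.Geo.specialLinear (Fin n) F)) : (∃ M : Subgroup (Matrix.GeneralLinearGroup (Fin n) F), Cfsg.Geo.InUnitaryClass n F q M ∧ H ≤ M) ∨ Cfsg.Geo.InUnitaryResidualClass H := by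
  obtain ⟨K⟩ := CfsgLib.Classical.Herm.exists_conj_of_card hF
  have hH' : ∀ g ∈ H, CfsgLib.Asch.Iso K.bar 1 g.val := fun g hg => CfsgLib.Asch.iso_of_gu K (hH hg).1
  have hgu : H ≤ Cfsg.GU n F q := hH.trans inf_le_left
  have hf := CfsgLib.Asch.herm_eq (n := n) K
  have hbar : (fun x : F => x ^ q) = ⇑K.bar := funext fun x => (K.bar_apply x).symm
  rcases CfsgLib.Asch.unit_structure K hn hH' with
    ⟨W, h0, hW, hle⟩ | ⟨W, h0, hW, hdim, hle⟩ | ⟨t, k, D, -, hD, hle⟩ | ⟨k, D, hk, hD, hts, hle⟩ |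
    ⟨r, L, hr, hro, -, hL, hcl, hle⟩ | ⟨n₁, n₂, e, P, J₁, J₂, hn₁, hn₂, -, hJ₁, hJ₂, hco, hle⟩ |
    h | ⟨r, R, p, e, k, hR, ha, hs, hrp, -, -, -, -, hmi, hc, hle⟩ |
    ⟨k, t, e, P, J₀, c, hk, ht, hex', -, hJ₀, hc, hco, hle⟩ | h
  · rw [← hf] at hW
    exact Or.inl ⟨_, Or.inl (Or.inl ⟨W, h0, hW, rfl⟩), le_inf hle hgu⟩
  · rw [← hf] at hW
    exact Or.inl ⟨_, Or.inl (Or.inr (Or.inl ⟨W, h0, hW, hdim, rfl⟩)), le_inf hle hgu⟩
  · rw [← hf] at hD
    exact Or.inl ⟨_, Or.inl (Or.inr (Or.inr (Or.inl ⟨t, k, D, hD, rfl⟩))), le_inf hle hgu⟩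
  · rw [← hf] at hts
    exact Or.inl ⟨_, Or.inl (Or.inr (Or.inr (Or.inr (Or.inl ⟨k, D, hk, hD, hts, rfl⟩)))), le_inf hle hgu⟩
  · exact Or.inl ⟨_, Or.inr (Or.inl ⟨r, L, hr, hro, hL, hcl, rfl⟩), le_inf hle hgu⟩
  · refine Or.inl ⟨_, Or.inr (Or.inr (Or.inl ⟨n₁, n₂, e, P, _, _, hn₁, hn₂, CfsgLib.Asch.unitaryPow K hJ₁,
      CfsgLib.Asch.unitaryPow K hJ₂, ⟨1, one_ne_zero, fun x y => ?_⟩, rfl⟩)), le_inf hle hgu⟩
    rw [hf, hbar, CfsgLib.Asch.sform_gram, CfsgLib.Asch.sform_gram, one_mul, CfsgLib.Asch.sform_fcoord, hco]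
    exact (CfsgLib.Asch.formOfGram_eq K.bar _ x y).symm
  · rcases h with ⟨F₀, r, P, hr, hro, hcard, hrat, hle⟩ | ⟨F₀, P, hq, hcard, hrat, hle⟩ |
      ⟨F₀, P, ζ, hev, hcard, hζ, hζ', hrat, hiso, hle⟩
    · exact Or.inl ⟨_, Or.inl (Or.inr (Or.inr (Or.inr (Or.inr (Or.inl ⟨F₀, r, P, hr, hro, hcard, hrat, rfl⟩))))),
        le_inf hle hgu⟩
    · exact Or.inl ⟨_, Or.inl (Or.inr (Or.inr (Or.inr (Or.inr (Or.inr (Or.inl ⟨F₀, P, hq, hcard, hrat, rfl⟩)))))),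
        le_inf hle hgu⟩
    · exact Or.inl ⟨_, Or.inl (Or.inr (Or.inr (Or.inr (Or.inr (Or.inr (Or.inr (Or.inl
        ⟨F₀, P, ζ, hev, hcard, hζ, hζ', hrat, hiso, rfl⟩))))))), le_inf hle hgu⟩
  · exact Or.inl ⟨_, Or.inl (Or.inr (Or.inr (Or.inr (Or.inr (Or.inr (Or.inr (Or.inr
      ⟨r, R, p, e, k, hR, ha, hs, hrp, hmi, hc, rfl⟩))))))), le_inf hle hgu⟩
  · refine Or.inl ⟨_, Or.inr (Or.inr (Or.inr ⟨k, t, e, P, _, hk, ht, hex', CfsgLib.Asch.unitaryPow K hJ₀,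
      ⟨c, hc, fun x y => ?_⟩, rfl⟩)), le_inf hle hgu⟩
    rw [hf, hbar, CfsgLib.Asch.sform_fcoord, hco, CfsgLib.Asch.sform_smul_matrix, CfsgLib.Asch.sform_gram,
      ← CfsgLib.Asch.formOfGram_eq]
    rfl
  · exact Or.inr h

end Cfsg.Agent.S5663
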