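import Cfsg.Statements.S5677
import Cfsg.Agent.Lib.Classical.OrthDecompMax.Apply
import Cfsg.Agent.Lib.Classical.OrthForms

set_option autoImplicit false
open Cfsg

namespace Cfsg.Agent.S5677

/-- Let F be a finite field of odd order q, m ≥ 6, Q the standard quadratic form on F^(2m+1) and Ω the commutator subgroup of its isometry group. Let D be a decomposition of F^(2m+1) into t ≥ 2 pairwise orthogonal, pairwise Q-isometric subspaces of equal dimension k > 1 on which the polar form is non-degenerate. Unless q = 3 and k = 3, the elements of Ω permuting the members of D form a maximal subgroup of Ω. -/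
theorem result {F : Type*} [Field F] [Fintype F] (hodd : Odd (Fintype.card F)) (m : ℕ) (hm : 6 ≤ m) {t : ℕ} (k : ℕ) (hk : 1 < k) (D : Fin t → Submodule F (Unit ⊕ (Fin m ⊕ Fin m) → F)) (hD : Cfsg.Geo.IsOrthogonalMDecomposition (Cfsg.quadFormOdd m F) k D) (hex : ¬ (Fintype.card F = 3 ∧ k = 3)) : Cfsg.Geo.IsMaximalIn (Cfsg.Geo.omegaGL (Cfsg.quadFormOdd m F)) (Cfsg.Geo.decompositionStabilizer D ⊓ Cfsg.Geo.omegaGL (Cfsg.quadFormOdd m F)) := by
  have h2 : (2 : F) ≠ 0 := Ring.two_ne_zero fun e => by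
    have := FiniteField.even_card_of_char_two e
    rw [Nat.odd_iff] at hodd
    omega
  obtain ⟨Q, hQ, hB⟩ := CfsgLib.Orth.exists_quadForm_odd (F := F) h2 m
  have hdim : Module.finrank F (Unit ⊕ (Fin m ⊕ Fin m) → F) = 2 * m + 1 := by
    rw [Module.finrank_pi, Fintype.card_sum, Fintype.card_sum, Fintype.card_fin, Fintype.card_unit]
    ring
  rw [← hQ] at hD ⊢
  have htk := CfsgLib.Orth.DecompMax.mul_eq_finrank hD
  rw [hdim] at htk
  have hoddtk : Odd (t * k) := ⟨m, htk⟩
  obtain ⟨hto, hko⟩ := Nat.odd_mul.1 hoddtk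
  rw [Nat.odd_iff] at hto hko
  have ht2 := hD.decomp.decomp.two_le
  have hd := CfsgLib.Orth.DecompMax.dec_of hB (by omega) (by omega) hD (fun h4 => by omega)
  refine hd.isMaximalIn ⟨by omega, ?_⟩ (by omega)
  rw [Nat.card_eq_fintype_card]
  rw [Nat.odd_iff] at hodd
  by_cases h3 : k = 3
  · refine Or.inl ⟨h2, ?_⟩
    have := Fintype.one_lt_card (α := F)
    have : Fintype.card F ≠ 3 := fun e => hex ⟨e, h3⟩
    omega
  · exact Or.inr (by omega)

end Cfsg.Agent.S5677
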