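import Cfsg.Statements.S5678
import Cfsg.Agent.Lib.Classical.OrthDecompNotMax
import Cfsg.Agent.Lib.Classical.OrthForms
-- import your own Cfsg.Agent.* helpers here

set_option autoImplicit false
open Cfsg

namespace Cfsg.Agent.S5678

/-- Let F be the field with 3 elements, m ≥ 6, Q the standard quadratic form on F^(2m+1) and Ω the commutator subgroup of its isometry group. Let D be a decomposition of F^(2m+1) into t pairwise orthogonal, pairwise Q-isometric 3-dimensional subspaces on which the polar form is non-degenerate. Then the elements of Ω permuting the members of D form a subgroup that is not maximal: some subgroup lies strictly between it and Ω. -/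
theorem result {F : Type*} [Field F] [Fintype F] (hq : Fintype.card F = 3) (m : ℕ) (hm : 6 ≤ m) {t : ℕ} (D : Fin t → Submodule F (Unit ⊕ (Fin m ⊕ Fin m) → F)) (hD : Cfsg.Geo.IsOrthogonalMDecomposition (Cfsg.quadFormOdd m F) 3 D) : ∃ K : Subgroup (Matrix.GeneralLinearGroup (Unit ⊕ (Fin m ⊕ Fin m)) F), Cfsg.Geo.decompositionStabilizer D ⊓ Cfsg.Geo.omegaGL (Cfsg.quadFormOdd m F) < K ∧ K < Cfsg.Geo.omegaGL (Cfsg.quadFormOdd m F) := by
  have h2 : (2 : F) ≠ 0 := Ring.two_ne_zero fun e => by
    have := FiniteField.even_card_of_char_two e
    omega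
  obtain ⟨Q, hQ, hB⟩ := CfsgLib.Orth.exists_quadForm_odd (F := F) h2 m
  have ht : 5 ≤ t := by
    by_contra h
    have h1 := hD.decomp.decomp.iSup_eq_top
    have h3 : Module.finrank F ↥(iSup D) ≤ ∑ i, Module.finrank F (D i) := by
      rw [show iSup D = Finset.univ.sup D from (Finset.sup_univ_eq_iSup D).symm]
      clear h1
      induction (Finset.univ : Finset (Fin t)) using Finset.induction_on with
      | empty => simp
      | @insert a s ha ih =>
        rw [Finset.sup_insert, Finset.sum_insert ha]
        exact (Submodule.finrank_add_le_finrank_add_finrank _ _).trans (Nat.add_le_add_left ih _)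
    rw [h1, finrank_top, Module.finrank_pi, Fintype.card_sum, Fintype.card_sum, Fintype.card_fin,
      Fintype.card_unit, Finset.sum_congr rfl fun i _ => hD.decomp.decomp.finrank_eq i,
      Finset.sum_const, Finset.card_univ, Fintype.card_fin, smul_eq_mul] at h3
    omega
  rw [← hQ] at hD ⊢
  exact CfsgLib.Orth.DecompNotMax.exists_between hB (by rw [Nat.card_eq_fintype_card]; exact hq) ht hD

end Cfsg.Agent.S5678
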