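import Cfsg.Statements.S5680
import Cfsg.Agent.Lib.Classical.OrthExtField.Maximal
import Cfsg.Agent.Lib.Classical.OrthForms

set_option autoImplicit false
open Cfsg

namespace Cfsg.Agent.S5680

/-- Let F be a finite field of odd order, m ≥ 6, Q the standard quadratic form on F^(2m+1) and Ω the commutator subgroup of its isometry group. Let K be a subfield of the algebra of (2m+1) × (2m+1) matrices over F containing the scalars, of prime degree r over F with r ≠ 2m + 1, whose elements are self-adjoint for the polar form of Q. Then the elements of Ω normalising K form a maximal subgroup of Ω. -/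
theorem result {F : Type*} [Field F] [Fintype F] (hodd : Odd (Fintype.card F)) (m : ℕ) (hm : 6 ≤ m) (r : ℕ) (hr : r.Prime) (hrn : 2 * m + 1 ≠ r) (K : Subalgebra F (Matrix (Unit ⊕ (Fin m ⊕ Fin m)) (Unit ⊕ (Fin m ⊕ Fin m)) F)) (hK : Cfsg.Geo.IsFieldSubalgebra r K) (hsa : Cfsg.Geo.IsSelfAdjointFor (QuadraticMap.polar (Cfsg.quadFormOdd m F)) K) : Cfsg.Geo.IsMaximalIn (Cfsg.Geo.omegaGL (Cfsg.quadFormOdd m F)) (Cfsg.Geo.subalgebraNormalizer K ⊓ Cfsg.Geo.omegaGL (Cfsg.quadFormOdd m F)) := by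
  have h2 : (2 : F) ≠ 0 := Ring.two_ne_zero fun e => by
    have := FiniteField.even_card_of_char_two e
    rw [Nat.odd_iff] at hodd
    omega
  obtain ⟨Q, hQ, hB⟩ := CfsgLib.Orth.exists_quadForm_odd (F := F) h2 m
  rw [← hQ] at hsa ⊢
  have hc : Fintype.card (Unit ⊕ (Fin m ⊕ Fin m)) = 2 * m + 1 := by
    rw [Fintype.card_sum, Fintype.card_sum, Fintype.card_fin, Fintype.card_unit]; omega
  have hdvd := CfsgLib.OrthExt.degree_dvd K hK
  rw [hc] at hdvd
  obtain ⟨j, hj⟩ := hdvd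
  have hodd' : Odd (r * j) := by rw [← hj]; exact ⟨m, rfl⟩
  obtain ⟨hr1, hj1⟩ := Nat.odd_mul.1 hodd'
  have hj1' : j ≠ 1 := fun e => hrn (by rw [hj, e, mul_one])
  have hj3 : 3 ≤ j := by
    obtain ⟨i, rfl⟩ := hj1
    omega
  refine CfsgLib.OrthExt.isMaximalIn hr hB h2 K hK hsa ?_
  rcases hj3.lt_or_eq with h | h
  · refine Or.inl ⟨?_, fun e => ?_⟩
    · rw [hc, hj, mul_comm 4 r]
      exact Nat.mul_le_mul_left r h
    · rw [e] at hr1
      exact absurd hr1 (by decide)
  · refine Or.inr ⟨by rw [hc, hj, ← h, mul_comm], ?_⟩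
    rw [← h] at hj
    omega

end Cfsg.Agent.S5680
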