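import Cfsg.Statements.S5689
import Cfsg.Agent.Lib.Classical.OrthNondegMax
import Cfsg.Agent.Lib.Classical.OrthForms

set_option autoImplicit false
open Cfsg

namespace Cfsg.Agent.S5689

/-- Let F be a finite field with q elements, n ≥ 13 even, Q a non-degenerate quadratic form on F^n of minus type (no subspace of dimension n/2 is totally singular), and Ω the commutator subgroup of the isometry group of Q, viewed inside GL_n(F). Let W be a non-zero proper subspace on which the polar form of Q is non-degenerate, not of odd dimension n/2. Exclude the case q ≤ 3 in which W, or its orthogonal complement, is a plane containing a line on which Q vanishes. Then the elements of Ω stabilising W form a maximal subgroup of Ω. -/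
theorem result {F : Type*} [Field F] [Fintype F] {n : ℕ} (hn : 13 ≤ n) (heven : Even n) (Q : (Fin n → F) → F) (hQ : Cfsg.Geo.IsNondegenerateQuadraticForm Q) (hminus : ¬ Cfsg.Geo.IsPlusTypeOn Q ⊤) (W : Submodule F (Fin n → F)) (hW0 : W ≠ ⊥) (hW1 : W ≠ ⊤) (hdim : ¬ (2 * Module.finrank F W = n ∧ Odd (Module.finrank F W))) (hW : Cfsg.Geo.IsNondegenerateOn (QuadraticMap.polar Q) W) (hex : ¬ (Fintype.card F ≤ 3 ∧ (∃ U : Submodule F (Fin n → F), Module.finrank F U = 2 ∧ Cfsg.Geo.IsNondegenerateOn (QuadraticMap.polar Q) U ∧ Cfsg.Geo.IsPlusTypeOn Q U ∧ (U = W ∨ (Cfsg.Geo.AreOrthogonalFor (QuadraticMap.polar Q) U W ∧ Module.finrank F U + Module.finrank F W = n))))) : Cfsg.Geo.IsMaximalIn (Cfsg.Geo.omegaGL Q) (Cfsg.Geo.subspaceStabilizer W ⊓ Cfsg.Geo.omegaGL Q) := by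
  classical
  obtain ⟨Q', rfl, hB⟩ := CfsgLib.Orth.exists_quadForm hQ
  have hWn := CfsgLib.Orth.nondegOn_of hW
  have hsum := CfsgLib.Orth.finrank_orth hB W
  rw [Module.finrank_fin_fun] at hsum
  refine CfsgLib.Orth.isMaximalIn_stab_nondeg hB (by rw [Module.finrank_fin_fun]; omega) hWn hW0
    (fun e => hW1 ?_) (fun X hX s hs hq h2 hs0 hqs => hex ⟨by rwa [← Nat.card_eq_fintype_card], X, h2, ?_,
      CfsgLib.Orth.isPlusTypeOn_of_singular h2 hs hs0 hqs, ?_⟩)
    (fun h => ⟨Nat.not_odd_iff_even.1 fun ho => hdim ⟨by rwa [Module.finrank_fin_fun] at h, ho⟩,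
      fun H hH => hminus ⟨H, le_top, hH.1, by rw [finrank_top]; exact hH.2⟩⟩)
  · refine Submodule.eq_top_of_finrank_eq ?_
    rw [e, finrank_bot] at hsum
    rw [Module.finrank_fin_fun]; omega
  · have hXn : CfsgLib.Orth.NondegOn Q' X := by
      rcases hX with rfl | rfl
      · exact hWn
      · exact CfsgLib.Orth.nondegOn_orth hB hWn
    intro w hw hw0
    obtain ⟨y, hy, hwy⟩ : ∃ y ∈ X, QuadraticMap.polar ⇑Q' w y ≠ 0 := by
      by_contra hc
      push Not at hc
      exact hw0 (hXn w hw hc)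
    exact ⟨⟨y, hy, by rwa [QuadraticMap.polar_comm]⟩, y, hy, hwy⟩
  · rcases hX with rfl | rfl
    · exact Or.inl rfl
    · exact Or.inr ⟨fun u hu v hv => (QuadraticMap.polar_comm ⇑Q' u v).trans (hu v hv), by omega⟩

end Cfsg.Agent.S5689
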