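import Cfsg.Statements.S5697
import Cfsg.Agent.Lib.Classical.OrthPair
import Cfsg.Agent.Lib.Classical.OrthForms

set_option autoImplicit false
open Cfsg

namespace Cfsg.Agent.S5697

/-- Let F be a finite field with q elements, n ≥ 13 even, Q a non-degenerate quadratic form on F^n of plus type (some subspace of dimension n/2 is totally singular), and Ω the commutator subgroup of the isometry group of Q, viewed inside GL_n(F). Suppose n/2 is even and let D be a decomposition of F^n into two complementary subspaces of dimension n/2 on each of which Q vanishes. Then the elements of Ω preserving or interchanging the two subspaces form a maximal subgroup of Ω. -/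
theorem result {F : Type*} [Field F] [Fintype F] {n : ℕ} (hn : 13 ≤ n) (heven : Even n) (Q : (Fin n → F) → F) (hQ : Cfsg.Geo.IsNondegenerateQuadraticForm Q) (hplus : Cfsg.Geo.IsPlusTypeOn Q ⊤) (k : ℕ) (hk : 2 * k = n) (hke : Even k) (D : Fin 2 → Submodule F (Fin n → F)) (hD : Cfsg.Geo.IsMDecomposition k D) (hts : ∀ i, Cfsg.Geo.IsTotallySingularQuad Q (D i)) : Cfsg.Geo.IsMaximalIn (Cfsg.Geo.omegaGL Q) (Cfsg.Geo.decompositionStabilizer D ⊓ Cfsg.Geo.omegaGL Q) := by
  classical
  obtain ⟨Q', rfl, hB⟩ := CfsgLib.Orth.exists_quadForm hQ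
  have hk0 : Module.finrank F (D 0) = k := hD.finrank_eq 0
  have hk1 : Module.finrank F (D 1) = k := hD.finrank_eq 1
  have hc : IsCompl (D 0) (D 1) := ⟨hD.indep.pairwiseDisjoint (by decide : (0 : Fin 2) ≠ 1),
    codisjoint_iff.2 (top_le_iff.1 (hD.iSup_eq_top ▸ iSup_le fun i => by
      fin_cases i
      · exact le_sup_left
      · exact le_sup_right))⟩
  have S : CfsgLib.Orth.Split Q' (D 0) (D 1) := ⟨hc, ⟨hts 0, by rw [hk0, Module.finrank_fin_fun, hk]⟩,
    ⟨hts 1, by rw [hk1, Module.finrank_fin_fun, hk]⟩⟩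
  have hmap : ∀ (g : CfsgLib.Orth.Grp Q') (A C : Submodule F (Fin n → F)),
      Module.finrank F A = Module.finrank F C → ((∀ x ∈ A, CfsgLib.Orth.ap g x ∈ C) ↔
        A.map (Matrix.toLin' ((g : GL (Fin n) F) : Matrix (Fin n) (Fin n) F)) = C) := by
    intro g A C hAC
    constructor
    · intro h
      refine Submodule.eq_of_le_of_finrank_eq ?_ ((CfsgLib.Orth.finrank_img g A).trans hAC)
      rintro _ ⟨x, hx, rfl⟩
      rw [Matrix.toLin'_apply]
      exact h x hx
    · intro h x hx
      exact h ▸ ⟨x, hx, Matrix.toLin'_apply _ x⟩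
  refine CfsgLib.Orth.isMaximalIn_omegaGL
    (H := (Cfsg.Geo.decompositionStabilizer D).comap (Cfsg.isometryGroup F ⇑Q').subtype)
    (fun g => Iff.rfl) ?_
  rw [CfsgLib.Orth.omega_eq_El hB (by rw [Module.finrank_fin_fun]; omega)]
  refine CfsgLib.Orth.stab_pair_maximal hB S (by omega) (hk0 ▸ hke) fun g => ?_
  have e01 : Module.finrank F (D 0) = Module.finrank F (D 1) := hk0.trans hk1.symm
  rw [hmap g _ _ rfl, hmap g _ _ rfl, hmap g _ _ e01, hmap g _ _ e01.symm]
  constructor
  · rintro ⟨σ, hσ⟩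
    rcases Fin.exists_fin_two.1 ⟨σ 0, rfl⟩ with e | e
    · have e1 : σ 1 = 1 := by
        rcases Fin.exists_fin_two.1 ⟨σ 1, rfl⟩ with h | h
        · exact absurd (σ.injective (h.trans e.symm)) (by decide)
        · exact h
      have h0 := hσ 0
      have h1 := hσ 1
      rw [e] at h0
      rw [e1] at h1
      exact Or.inl ⟨h0, h1⟩
    · have e1 : σ 1 = 0 := by
        rcases Fin.exists_fin_two.1 ⟨σ 1, rfl⟩ with h | h
        · exact h
        · exact absurd (σ.injective (h.trans e.symm)) (by decide)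
      have h0 := hσ 0
      have h1 := hσ 1
      rw [e] at h0
      rw [e1] at h1
      exact Or.inr ⟨h0, h1⟩
  · rintro (⟨h0, h1⟩ | ⟨h0, h1⟩)
    · exact ⟨1, fun i => by fin_cases i; exacts [h0, h1]⟩
    · exact ⟨Equiv.swap 0 1, fun i => by fin_cases i; exacts [h0, h1]⟩

end Cfsg.Agent.S5697
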