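import Cfsg.Statements.S5698
import Cfsg.Agent.Lib.Classical.OrthFamily

set_option autoImplicit false
open Cfsg

namespace Cfsg.Agent.S5698

/-- Let F be a finite field with q elements, n ≥ 13 even, Q a non-degenerate quadratic form on F^n of plus type (some subspace of dimension n/2 is totally singular), and Ω the commutator subgroup of the isometry group of Q, viewed inside GL_n(F). Suppose n/2 is odd and let D be a decomposition of F^n into two complementary subspaces of dimension n/2 on each of which Q vanishes. Then the elements of Ω preserving or interchanging the two subspaces form a subgroup that is not maximal: some subgroup lies strictly between it and Ω. -/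
theorem result {F : Type*} [Field F] [Fintype F] {n : ℕ} (hn : 13 ≤ n) (heven : Even n) (Q : (Fin n → F) → F) (hQ : Cfsg.Geo.IsNondegenerateQuadraticForm Q) (hplus : Cfsg.Geo.IsPlusTypeOn Q ⊤) (k : ℕ) (hk : 2 * k = n) (hko : Odd k) (D : Fin 2 → Submodule F (Fin n → F)) (hD : Cfsg.Geo.IsMDecomposition k D) (hts : ∀ i, Cfsg.Geo.IsTotallySingularQuad Q (D i)) : ∃ K : Subgroup (Matrix.GeneralLinearGroup (Fin n) F), Cfsg.Geo.decompositionStabilizer D ⊓ Cfsg.Geo.omegaGL Q < K ∧ K < Cfsg.Geo.omegaGL Q := by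
  classical
  obtain ⟨Q', rfl, hB⟩ := CfsgLib.Orth.exists_quadForm hQ
  have hn' : 5 ≤ Module.finrank F (Fin n → F) := by rw [Module.finrank_fin_fun]; omega
  have hhalf : ∀ i, CfsgLib.Orth.IsHalf Q' (D i) := fun i =>
    ⟨hts i, by rw [hD.finrank_eq i, Module.finrank_fin_fun]; exact hk⟩
  have hinf : D 0 ⊓ D 1 = ⊥ := disjoint_iff.1 (hD.indep.pairwiseDisjoint (by decide))
  have hinj := (Cfsg.isometryGroup F ⇑Q').subtype_injective
  obtain ⟨K, hK⟩ : ∃ K, K = (CfsgLib.Orth.stab Q' (D 0) ⊓ Cfsg.Omega F ⇑Q').map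
      (Cfsg.isometryGroup F ⇑Q').subtype := ⟨_, rfl⟩
  have hle : Cfsg.Geo.decompositionStabilizer D ⊓ Cfsg.Geo.omegaGL ⇑Q' ≤ K := by
    intro x hx
    obtain ⟨⟨σ, hσ⟩, g, hg, rfl⟩ := hx
    rw [hK]
    refine ⟨g, ⟨?_, hg⟩, rfl⟩
    have hg' : g ∈ CfsgLib.Orth.El Q' := by rwa [← CfsgLib.Orth.omega_eq_El hB hn']
    have h0 : CfsgLib.Orth.img g (D 0) = D (σ 0) := hσ 0
    have hs : σ 0 = 0 := by
      rcases (Fin.exists_fin_two (p := fun i => σ 0 = i)).1 ⟨σ 0, rfl⟩ with h | h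
      · exact h
      · exfalso
        rw [h] at h0
        exact CfsgLib.Orth.img_ne_of_odd hB (hhalf 0) (by rw [hD.finrank_eq]; exact hko) hinf hg' h0
    rw [hs] at h0
    exact CfsgLib.Orth.mem_stab_of_le fun v hv => h0 ▸ CfsgLib.Orth.ap_mem_img g hv
  have k2 : 2 ≤ k := by omega
  obtain ⟨u, hu, hu0⟩ := Submodule.exists_mem_ne_zero_of_ne_bot (p := D 0) fun e => by
    have := hD.finrank_eq 0
    rw [e, finrank_bot] at this
    omega
  obtain ⟨w, hw, huw⟩ : ∃ w ∈ D 1, QuadraticMap.polar ⇑Q' u w ≠ 0 := by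
    by_contra hc
    push Not at hc
    have h1 : u ∈ D 1 := by
      rw [← CfsgLib.Orth.orth_half hB (hhalf 1)]
      exact fun z hz => (QuadraticMap.polar_comm ⇑Q' z u).trans (hc z hz)
    exact hu0 ((Submodule.eq_bot_iff _).1 hinf u ⟨hu, h1⟩)
  obtain ⟨v, hv, hv0⟩ := Submodule.exists_mem_ne_zero_of_ne_bot
    (p := D 0 ⊓ LinearMap.ker (QuadraticMap.polarBilin Q' w)) fun e => by
    have h1 := LinearMap.finrank_range_add_finrank_ker
      ((QuadraticMap.polarBilin Q' w).comp (D 0).subtype)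
    have h2 := Submodule.finrank_le (LinearMap.range ((QuadraticMap.polarBilin Q' w).comp (D 0).subtype))
    rw [Module.finrank_self] at h2
    rw [LinearMap.ker_comp, ← Submodule.finrank_map_subtype_eq, Submodule.map_comap_subtype, e,
      finrank_bot, hD.finrank_eq] at h1
    omega
  have hself : ∀ a ∈ D 0, ∀ b ∈ D 0, QuadraticMap.polar ⇑Q' a b = 0 := fun a ha b hb =>
    CfsgLib.Orth.mem_orth.1 (CfsgLib.Orth.le_orth_of_singular (hts 0) hb) a ha
  obtain ⟨e, he⟩ := CfsgLib.Orth.exists_siegel hB (hts 0 u hu) (hself u hu v hv.1)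
  have he0 : e ∈ CfsgLib.Orth.stab Q' (D 0) :=
    CfsgLib.Orth.siegel_mem_stab he hu fun a ha => hself a ha u hu
  have heO : e ∈ Cfsg.Omega F ⇑Q' := by
    rw [CfsgLib.Orth.omega_eq_El hB hn']; exact CfsgLib.Orth.siegel_mem_El he
  refine ⟨K, lt_of_le_of_ne hle fun h => ?_, ?_⟩
  · have hmem : (e : Matrix.GeneralLinearGroup (Fin n) F) ∈
        Cfsg.Geo.decompositionStabilizer D ⊓ Cfsg.Geo.omegaGL ⇑Q' := by
      rw [h, hK]; exact ⟨e, ⟨he0, heO⟩, rfl⟩
    obtain ⟨σ, hσ⟩ := hmem.1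
    have h1 : CfsgLib.Orth.img e (D 1) = D (σ 1) := hσ 1
    have h0 : CfsgLib.Orth.img e (D 0) = D (σ 0) := hσ 0
    rw [CfsgLib.Orth.img_eq_of_mem_stab he0] at h0
    have hne : D 0 ≠ D 1 := fun e' => hu0 ((Submodule.eq_bot_iff _).1 hinf u ⟨hu, e' ▸ hu⟩)
    have hs : σ 1 = 1 := by
      rcases (Fin.exists_fin_two (p := fun i => σ 1 = i)).1 ⟨σ 1, rfl⟩ with h' | h'
      · exfalso
        rcases (Fin.exists_fin_two (p := fun i => σ 0 = i)).1 ⟨σ 0, rfl⟩ with h'' | h''
        · exact absurd (σ.injective (h'.trans h''.symm)) (by decide)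
        · exact hne (h'' ▸ h0)
      · exact h'
    rw [hs] at h1
    have h2 := h1 ▸ CfsgLib.Orth.ap_mem_img e hw
    have hwv : QuadraticMap.polar ⇑Q' w v = 0 := hv.2
    rw [he.2.2, hwv, hts 0 v hv.1, zero_mul, zero_smul, sub_zero, sub_zero] at h2
    have h3 := (Submodule.add_mem_iff_right _ hw).1 h2
    rw [Submodule.smul_mem_iff _ (by rwa [QuadraticMap.polar_comm])] at h3
    exact hv0 ((Submodule.eq_bot_iff _).1 hinf v ⟨hv.1, h3⟩)
  · rw [hK, Cfsg.Geo.omegaGL, Subgroup.map_lt_map_iff_of_injective hinj]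
    refine lt_of_le_of_ne inf_le_right fun h => ?_
    obtain ⟨f, hf, huf⟩ := CfsgLib.Orth.exists_partner hB (hts 0 u hu) hu0
    obtain ⟨g, hg, hgu⟩ := CfsgLib.Orth.exists_move_singular hB hn' (hts 0 u hu) hf hu0
      (CfsgLib.Orth.ne_zero_of_b (y := u) (by rw [QuadraticMap.polar_comm, huf]; exact one_ne_zero))
    rw [← CfsgLib.Orth.omega_eq_El hB hn', ← h] at hg
    have h3 := (CfsgLib.Orth.mem_stab.1 hg.1 u).1 hu
    rw [hgu] at h3
    exact one_ne_zero (huf.symm.trans (hself u hu f h3))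

end Cfsg.Agent.S5698
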