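import Cfsg.Statements.S5699
import Cfsg.Agent.Lib.Classical.OrthNondegMax
import Cfsg.Agent.Lib.Classical.OrthForms

set_option autoImplicit false
open Cfsg

namespace Cfsg.Agent.S5699

/-- Let F be a finite field with q elements, n ≥ 13 even, Q a non-degenerate quadratic form on F^n (of either type), and Ω the commutator subgroup of the isometry group of Q, viewed inside GL_n(F). Let D be a decomposition of F^n into two orthogonal subspaces of odd dimension n/2 on which the polar form is non-degenerate and which are not Q-isometric to each other. Then the elements of Ω permuting (necessarily fixing) the two subspaces form a maximal subgroup of Ω. -/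
theorem result {F : Type*} [Field F] [Fintype F] {n : ℕ} (hn : 13 ≤ n) (heven : Even n) (Q : (Fin n → F) → F) (hQ : Cfsg.Geo.IsNondegenerateQuadraticForm Q) (k : ℕ) (hk : 2 * k = n) (hko : Odd k) (D : Fin 2 → Submodule F (Fin n → F)) (hD : Cfsg.Geo.IsNondegenerateMDecomposition (QuadraticMap.polar Q) k D) (hni : ¬ Cfsg.Geo.AreIsometricFor Q (D 0) (D 1)) : Cfsg.Geo.IsMaximalIn (Cfsg.Geo.omegaGL Q) (Cfsg.Geo.decompositionStabilizer D ⊓ Cfsg.Geo.omegaGL Q) := by
  classical
  obtain ⟨Q', rfl, hB⟩ := CfsgLib.Orth.exists_quadForm hQ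
  have hU := CfsgLib.Orth.nondegOn_of (hD.nondegenerate 0)
  have hsum := CfsgLib.Orth.finrank_orth hB (D 0)
  rw [Module.finrank_fin_fun, hD.decomp.finrank_eq 0] at hsum
  have horth : CfsgLib.Orth.orth Q' (D 0) = D 1 := by
    refine (Submodule.eq_of_le_of_finrank_eq (fun x hx => CfsgLib.Orth.mem_orth.2 fun w hw => ?_) ?_).symm
    · exact hD.orthogonal 0 1 (by decide) w hw x hx
    · rw [hD.decomp.finrank_eq 1]; omega
  have hswap : ∀ g : CfsgLib.Orth.Grp Q', CfsgLib.Orth.img g (D 0) ≠ D 1 := fun g hg => hni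
    ⟨(Submodule.equivMapOfInjective _ (fun x y e => CfsgLib.Orth.ap_inj g
      ((Matrix.toLin'_apply _ x).symm.trans (e.trans (Matrix.toLin'_apply _ y)))) (D 0)).trans
        (LinearEquiv.ofEq _ _ hg), fun w => CfsgLib.Orth.ap_q g w⟩
  refine CfsgLib.Orth.isMaximalIn_omegaGL (H := CfsgLib.Orth.stab Q' (D 0)) (fun g => ⟨fun hg => ⟨1, ?_⟩, ?_⟩) ?_
  · intro i
    match i with
    | 0 => exact CfsgLib.Orth.img_eq_of_mem_stab hg
    | 1 =>
      have h1 := CfsgLib.Orth.img_eq_of_mem_stab (W := CfsgLib.Orth.orth Q' (D 0))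
        (by rw [CfsgLib.Orth.stab_orth_eq hB]; exact hg : g ∈ _)
      rw [horth] at h1
      exact h1
  · rintro ⟨σ, hσ⟩
    have h0 := hσ 0
    rcases Fin.exists_fin_two.1 ⟨σ 0, rfl⟩ with e | e <;> rw [e] at h0
    · exact CfsgLib.Orth.mem_stab_of_le fun v hv => h0 ▸ ⟨v, hv, Matrix.toLin'_apply _ v⟩
    · exact absurd h0 (hswap g)
  · rw [CfsgLib.Orth.omega_eq_El hB (by rw [Module.finrank_fin_fun]; omega)]
    refine CfsgLib.Orth.stab_nondeg_maximal hB hU (by rw [hD.decomp.finrank_eq 0]; omega)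
      (by rw [horth, hD.decomp.finrank_eq 0, hD.decomp.finrank_eq 1]) ?_ ?_ (by rw [horth]; exact hswap)
    · intro e
      have := hD.decomp.finrank_eq 1
      rw [← horth, e, finrank_bot] at this
      omega
    · rintro ⟨-, h2, -⟩
      rw [horth, hD.decomp.finrank_eq 1] at h2
      omega

end Cfsg.Agent.S5699
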