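import Cfsg.Statements.S5701
import Cfsg.Agent.Lib.Classical.OrthExtField.Maximal

set_option autoImplicit false
open Cfsg

namespace Cfsg.Agent.S5701

/-- Let F be a finite field with q elements, n ≥ 13 even, Q a non-degenerate quadratic form on F^n (of either type), and Ω the commutator subgroup of the isometry group of Q, viewed inside GL_n(F). Suppose q is odd. Let K be a subfield of the algebra of n × n matrices over F containing the scalars, of prime degree r over F with n/r ≥ 3, whose elements are self-adjoint for the polar form of Q. Then the elements of Ω normalising K form a maximal subgroup of Ω. -/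
theorem result {F : Type*} [Field F] [Fintype F] {n : ℕ} (hn : 13 ≤ n) (heven : Even n) (Q : (Fin n → F) → F) (hQ : Cfsg.Geo.IsNondegenerateQuadraticForm Q) (hodd : Odd (Fintype.card F)) (r : ℕ) (hr : r.Prime) (hnr : 3 * r ≤ n) (K : Subalgebra F (Matrix (Fin n) (Fin n) F)) (hK : Cfsg.Geo.IsFieldSubalgebra r K) (hsa : Cfsg.Geo.IsSelfAdjointFor (QuadraticMap.polar Q) K) : Cfsg.Geo.IsMaximalIn (Cfsg.Geo.omegaGL Q) (Cfsg.Geo.subalgebraNormalizer K ⊓ Cfsg.Geo.omegaGL Q) := by
  obtain ⟨Q, rfl, hB⟩ := CfsgLib.Orth.exists_quadForm hQ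
  haveI : Nonempty (Fin n) := ⟨⟨0, by omega⟩⟩
  have hdvd := CfsgLib.OrthExt.degree_dvd K hK
  rw [Fintype.card_fin] at hdvd
  obtain ⟨j, hj⟩ := hdvd
  have h3 : 3 ≤ j := by
    by_contra h
    have h2 : j ≤ 2 := by omega
    have := Nat.mul_le_mul_left r h2
    have := hr.two_le
    omega
  have h4 : 4 ≤ j := by
    by_contra h
    have e : j = 3 := by omega
    subst e
    obtain ⟨k, hk⟩ := heven
    rcases hr.eq_two_or_odd with h2 | h2 <;> omega
  refine CfsgLib.OrthExt.isMaximalIn hr hB ?_ K hK hsa (Or.inl ⟨?_, ?_⟩)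
  · refine Ring.two_ne_zero fun e => ?_
    have := FiniteField.even_card_of_char_two e
    rw [Nat.odd_iff] at hodd
    omega
  · rw [Fintype.card_fin, hj, mul_comm 4 r]
    exact Nat.mul_le_mul_left r h4
  · intro h2
    rw [Fintype.card_fin]
    obtain ⟨k, hk⟩ := heven
    omega

end Cfsg.Agent.S5701
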