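import Cfsg.Statements.S5706
import Cfsg.Agent.Lib.Classical.TensorWreathO.Main

set_option autoImplicit false
open Cfsg

namespace Cfsg.Agent.S5706

/-- Let F be a finite field with q elements, n ≥ 13 even, Q a non-degenerate quadratic form on F^n of plus type (some subspace of dimension n/2 is totally singular), and Ω the commutator subgroup of the isometry group of Q, viewed inside GL_n(F). Suppose that, through a change of basis P and a bijection of index sets e, the polar form of Q is similar to the t-fold tensor power (t ≥ 2) of a non-degenerate symplectic form f₁ on F^k, that Q vanishes on the images of all pure tensors, that t is even if q is odd, that (q, k) is neither (2, 2) nor (3, 2), and that k ≥ 6 if q is even. Then the elements of Ω in the stabiliser of this decomposition form a maximal subgroup of Ω. -/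
theorem result {F : Type*} [Field F] [Fintype F] {n : ℕ} (hn : 13 ≤ n) (heven : Even n) (Q : (Fin n → F) → F) (hQ : Cfsg.Geo.IsNondegenerateQuadraticForm Q) (hplus : Cfsg.Geo.IsPlusTypeOn Q ⊤) (k t : ℕ) (ht : 2 ≤ t) (hqt : Odd (Fintype.card F) → Even t) (hex1 : ¬ (Fintype.card F = 2 ∧ k = 2)) (hex2 : ¬ (Fintype.card F = 3 ∧ k = 2)) (hex3 : ¬ Odd (Fintype.card F) → 6 ≤ k) (e : (Fin n) ≃ (Fin t → Fin k)) (P : Matrix.GeneralLinearGroup (Fin n) F) (f₁ : (Fin k → F) → (Fin k → F) → F) (hf₁ : Cfsg.Geo.IsSymplecticForm f₁) (hT : Cfsg.Geo.IsTensorPowerFormStructure id (QuadraticMap.polar Q) f₁ e P) (hpure : (∀ xs : Fin t → (Fin k → F), Q (Matrix.mulVec (P : Matrix (Fin n) (Fin n) F) ((fun a : Fin t → Fin k => ∏ i, xs i (a i)) ∘ e)) = 0)) : Cfsg.Geo.IsMaximalIn (Cfsg.Geo.omegaGL Q) (Cfsg.Geo.tensorWreathSubgroup k t e P ⊓ Cfsg.Geo.omegaGL Q) := by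
  classical
  have hcard : n = k ^ t := by simpa using Fintype.card_congr e
  have hk : 2 ≤ k := by
    rcases Nat.lt_or_ge k 2 with h | h
    · interval_cases k
      · rw [zero_pow (by omega)] at hcard; omega
      · rw [one_pow] at hcard; omega
    · exact h
  have two_iff : (2 : F) = 0 ↔ ¬ Odd (Fintype.card F) := by
    rw [Nat.not_odd_iff_even, Nat.even_iff, ← FiniteField.even_card_iff_char_two]
    refine ⟨fun h => ?_, fun h => ?_⟩
    · by_contra hc
      exact Ring.two_ne_zero hc h
    · haveI : CharP F 2 := ringChar.of_eq h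
      exact CharTwo.two_eq_zero
  obtain ⟨QF, rfl, -⟩ := CfsgLib.Orth.exists_quadForm hQ
  refine CfsgLib.Classical.TensorWreathO.isMaximalIn hn hk ht (fun h => hqt (by_contra fun ho => h (two_iff.2 ho)))
    (fun h => hex3 (two_iff.1 h)) (fun h hk2 => ?_) e P hf₁ hT hpure
  by_contra hc
  push Not at hc
  have hsub : (Finset.univ : Finset F) ⊆ {0, 1, -1} := fun s _ => by
    by_cases h0 : s = 0
    · simp [h0]
    rcases mul_self_eq_one_iff.1 (hc s h0) with h | h <;> simp [h]
  have h3 := (Finset.card_le_card hsub).trans Finset.card_le_three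
  rw [Finset.card_univ] at h3
  have h1 : 1 < Fintype.card F := Fintype.one_lt_card
  rcases (show Fintype.card F = 2 ∨ Fintype.card F = 3 by omega) with h4 | h4
  · exact hex1 ⟨h4, hk2⟩
  · exact hex2 ⟨h4, hk2⟩

end Cfsg.Agent.S5706
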