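import Cfsg.Statements.S5712
import Cfsg.Agent.Lib.Classical.SympGraph.Main
import Cfsg.Agent.Lib.Fitting.Basic

set_option autoImplicit false
open Cfsg

namespace Cfsg.Agent.S5712

/-- Let F be a finite field of characteristic two, n ≥ 2, V = F^{2n} with the non-degenerate alternating form f(u, v) = Σ (u_i v_{n+i} + u_{n+i} v_i), and G the group of invertible matrices preserving f. Let a ≠ 0 be a vector, H its stabilizer in G, and X a subgroup of O₂(H) of order |F|^{2n−2} no element of which is a transvection (no element g has g − 1 of rank one). If L is a subgroup of G containing X that acts irreducibly on V (no proper non-zero L-invariant subspace), then L = G, or, for some quadratic form Q on V whose polar form is f, L is the isometry group of Q or its subgroup of the isometries g for which g − 1 has even rank, or |F| = 2, n = 2 and L is isomorphic to the alternating group of degree 6 or to the symmetric group of degree 5. -/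
theorem result {F : Type*} [Field F] [Fintype F] [CharP F 2] {n : ℕ} (hn : 2 ≤ n) (a : (Fin n ⊕ Fin n → F)) (ha : a ≠ 0)
    (X : Subgroup (GL (Fin n ⊕ Fin n) F)) (hXG : X ≤ Cfsg.preserving (Units.coeHom (Matrix (Fin n ⊕ Fin n) (Fin n ⊕ Fin n) F)) (fun u v : (Fin n ⊕ Fin n → F) => ∑ i : Fin n, (u (Sum.inl i) * v (Sum.inr i) + u (Sum.inr i) * v (Sum.inl i))))
    (hXO : ∀ H : Subgroup (GL (Fin n ⊕ Fin n) F),
      (∀ g : GL (Fin n ⊕ Fin n) F, g ∈ H ↔ (g ∈ Cfsg.preserving (Units.coeHom (Matrix (Fin n ⊕ Fin n) (Fin n ⊕ Fin n) F)) (fun u v : (Fin n ⊕ Fin n → F) => ∑ i : Fin n, (u (Sum.inl i) * v (Sum.inr i) + u (Sum.inr i) * v (Sum.inl i))) ∧ Matrix.mulVec (g : Matrix (Fin n ⊕ Fin n) (Fin n ⊕ Fin n) F) a = a)) →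
      X ≤ (Cfsg.pCore 2 ↥H).map H.subtype)
    (hcard : Nat.card ↥X = Fintype.card F ^ (2 * n - 2))
    (hntv : ∀ x ∈ X, ((x : Matrix (Fin n ⊕ Fin n) (Fin n ⊕ Fin n) F) - 1).rank ≠ 1)
    (L : Subgroup (GL (Fin n ⊕ Fin n) F)) (hXL : X ≤ L) (hLG : L ≤ Cfsg.preserving (Units.coeHom (Matrix (Fin n ⊕ Fin n) (Fin n ⊕ Fin n) F)) (fun u v : (Fin n ⊕ Fin n → F) => ∑ i : Fin n, (u (Sum.inl i) * v (Sum.inr i) + u (Sum.inr i) * v (Sum.inl i))))
    (hirr : ∀ W : Submodule F (Fin n ⊕ Fin n → F), (∀ g ∈ L, ∀ w ∈ W, Matrix.mulVec (g : Matrix (Fin n ⊕ Fin n) (Fin n ⊕ Fin n) F) w ∈ W) → W = ⊥ ∨ W = ⊤) :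
    L = Cfsg.preserving (Units.coeHom (Matrix (Fin n ⊕ Fin n) (Fin n ⊕ Fin n) F)) (fun u v : (Fin n ⊕ Fin n → F) => ∑ i : Fin n, (u (Sum.inl i) * v (Sum.inr i) + u (Sum.inr i) * v (Sum.inl i))) ∨
    (∃ Q : QuadraticForm F (Fin n ⊕ Fin n → F), (∀ u v, QuadraticMap.polar ⇑Q u v = (fun u v : (Fin n ⊕ Fin n → F) => ∑ i : Fin n, (u (Sum.inl i) * v (Sum.inr i) + u (Sum.inr i) * v (Sum.inl i))) u v) ∧
      (L = Cfsg.isometryGroup F ⇑Q ∨
        ∀ g : GL (Fin n ⊕ Fin n) F, g ∈ L ↔ (g ∈ Cfsg.isometryGroup F ⇑Q ∧ Even ((g : Matrix (Fin n ⊕ Fin n) (Fin n ⊕ Fin n) F) - 1).rank))) ∨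
    (Fintype.card F = 2 ∧ n = 2 ∧ (Nonempty (↥L ≃* ↥(alternatingGroup (Fin 6))) ∨ Nonempty (↥L ≃* Equiv.Perm (Fin 5)))) := by
  classical
  open CfsgLib.Classical.SympTrans CfsgLib.Classical.SympGraph in
  have hB : (fun u v : (Fin n ⊕ Fin n → F) => ∑ i : Fin n, (u (Sum.inl i) * v (Sum.inr i) + u (Sum.inr i) * v (Sum.inl i))) = Cfsg.sympForm n F := by
    funext u v
    rw [CfsgLib.Classical.SympTrans.f_apply]
    exact Finset.sum_congr rfl fun i _ => by rw [sub_eq_add_neg, CharTwo.neg_eq]; ring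
  open CfsgLib.Classical.SympTrans CfsgLib.Classical.SympGraph in
  obtain ⟨ι, hι, hιi, hιr⟩ : ∃ ι : Matrix.symplecticGroup (Fin n) F →* GL (Fin n ⊕ Fin n) F,
      (∀ g x, Matrix.mulVec (ι g : Matrix (Fin n ⊕ Fin n) (Fin n ⊕ Fin n) F) x = app g x) ∧
      Function.Injective ι ∧ ι.range = Cfsg.spGL n F :=
    ⟨(Cfsg.spGL n F).subtype.comp toSpGL, fun g x => rfl,
      Subtype.val_injective.comp toSpGL_injective, by
      rw [MonoidHom.range_comp, MonoidHom.range_eq_top.2 toSpGL_surjective,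
        ← MonoidHom.range_eq_map, Subgroup.range_subtype]⟩
  have hpr : Cfsg.preserving (Units.coeHom (Matrix (Fin n ⊕ Fin n) (Fin n ⊕ Fin n) F))
      (fun u v : (Fin n ⊕ Fin n → F) => ∑ i : Fin n, (u (Sum.inl i) * v (Sum.inr i) + u (Sum.inr i) * v (Sum.inl i))) = Cfsg.spGL n F := by
    rw [hB]; rfl
  have hval : ∀ g, ((ι g : GL (Fin n ⊕ Fin n) F) : Matrix (Fin n ⊕ Fin n) (Fin n ⊕ Fin n) F) =
      (g : Matrix (Fin n ⊕ Fin n) (Fin n ⊕ Fin n) F) := fun g =>
    Matrix.ext_iff_mulVec.mpr fun x => hι g x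
  -- the stabiliser and its radical
  let S : Subgroup (Matrix.symplecticGroup (Fin n) F) :=
    { carrier := {g | CfsgLib.Classical.SympTrans.app g a = a}
      one_mem' := CfsgLib.Classical.SympTrans.app_one a
      mul_mem' := fun {g h} (hg : _ = a) (hh : _ = a) => by
        show CfsgLib.Classical.SympTrans.app (g * h) a = a
        rw [CfsgLib.Classical.SympTrans.app_mul, hh, hg]
      inv_mem' := fun {g} (hg : _ = a) => by
        show CfsgLib.Classical.SympTrans.app g⁻¹ a = a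
        conv_lhs => rw [← hg, CfsgLib.Classical.SympTrans.app_inv] }
  have hH := hXO (S.map ι) (fun g => by
    rw [hpr]
    constructor
    · rintro ⟨s, hs, rfl⟩
      exact ⟨hιr ▸ ⟨s, rfl⟩, (hι s a).trans hs⟩
    · rintro ⟨h1, h2⟩
      rw [← hιr] at h1
      obtain ⟨s, rfl⟩ := h1
      exact ⟨s, (hι s a).symm.trans h2, rfl⟩)
  obtain ⟨N, hNdef⟩ : ∃ N, N = ((Cfsg.pCore 2 ↥(S.map ι)).map (S.map ι).subtype).comap ι := ⟨_, rfl⟩
  have hN : IsPGroup 2 N := hNdef ▸
    IsPGroup.comap_of_injective ((CfsgLib.Fitting.pCore_isPGroup 2).map _) ι hιi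
  have hNfix : ∀ g ∈ N, CfsgLib.Classical.SympTrans.app g a = a := by
    intro g hg
    rw [hNdef] at hg
    obtain ⟨⟨x, hx⟩, -, hxg⟩ := hg
    obtain ⟨s, hs, hsx⟩ := hx
    exact hιi (hsx.trans hxg) ▸ hs
  have hNnorm : ∀ h, CfsgLib.Classical.SympTrans.app h a = a → ∀ g ∈ N, h * g * h⁻¹ ∈ N := by
    intro h hh g hg
    rw [hNdef] at hg ⊢
    obtain ⟨x, hx, hxg⟩ := hg
    refine ⟨⟨ι h, ⟨h, hh, rfl⟩⟩ * x * ⟨ι h, ⟨h, hh, rfl⟩⟩⁻¹,
      (CfsgLib.Fitting.pCore_normal 2).conj_mem x hx _, ?_⟩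
    change ι h * _ * (ι h)⁻¹ = _
    rw [map_mul, map_mul, map_inv, ← hxg]
    rfl
  open CfsgLib.Classical.SympTrans CfsgLib.Classical.SympGraph in
  obtain ⟨e, hae⟩ : ∃ e, Cfsg.sympForm n F a e = 1 := by
    obtain ⟨z, hz⟩ : ∃ z, Cfsg.sympForm n F a z ≠ 0 := by
      by_contra hc
      push Not at hc
      exact ha (eq_zero_of_f a hc)
    exact ⟨_, (f_smul_right (Cfsg.sympForm n F a z)⁻¹ a z).trans (inv_mul_cancel₀ hz)⟩
  open CfsgLib.Classical.SympTrans CfsgLib.Classical.SympGraph in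
  have hmem : ∀ x : X.comap ι, ∃ b : {b : Fin n ⊕ Fin n → F // Cfsg.sympForm n F a b = 0 ∧ Cfsg.sympForm n F e b = 0},
      ∃ l, (x : Matrix.symplecticGroup (Fin n) F) = U a b.1 l := by
    rintro ⟨x, hx⟩
    obtain ⟨b, l, h1, h2, h3⟩ := exists_U_of_normal hn ha N hN hNfix hNnorm hae (g := x)
      (by rw [hNdef]; exact hH hx)
    exact ⟨⟨b, h1, h2⟩, l, h3⟩
  choose β lv hlv using hmem
  open CfsgLib.Classical.SympTrans CfsgLib.Classical.SympGraph in
  have hTfree : ∀ l : F, T a l ∈ X.comap ι → l = 0 := by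
    intro l hl
    by_contra hl0
    refine hntv _ hl ?_
    rw [hval, Matrix.rank]
    have happ : ∀ x, ((T a l : Matrix (Fin n ⊕ Fin n) (Fin n ⊕ Fin n) F) - 1).mulVec x =
        (l * Cfsg.sympForm n F x a) • a := fun x => by
      rw [Matrix.sub_mulVec, Matrix.one_mulVec]
      show app (T a l) x - x = _
      rw [app_T, add_sub_cancel_left]
    have hr : LinearMap.range (Matrix.mulVecLin
        ((T a l : Matrix (Fin n ⊕ Fin n) (Fin n ⊕ Fin n) F) - 1)) = Submodule.span F {a} := by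
      refine le_antisymm ?_ ((Submodule.span_singleton_le_iff_mem _ _).2 ⟨l⁻¹ • e, ?_⟩)
      · rintro _ ⟨x, rfl⟩
        rw [Matrix.mulVecLin_apply, happ]
        exact Submodule.smul_mem _ _ (Submodule.mem_span_singleton_self a)
      · rw [Matrix.mulVecLin_apply, happ, f_smul_left, w_comm a e, hae, mul_one,
          mul_inv_cancel₀ hl0, one_smul]
    rw [hr, finrank_span_singleton ha]
  open CfsgLib.Classical.SympTrans CfsgLib.Classical.SympGraph in
  have hinj : Function.Injective β := by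
    intro x y hxy
    have h1 := hlv x
    have h2 := hlv y
    rw [hxy] at h1
    have h3 := (X.comap ι).mul_mem x.2 y.2
    rw [h1, h2, U_mul (β y).2.1 (β y).2.1, vadd_self, U_zero_left, f_self, add_zero] at h3
    refine Subtype.ext ?_
    rw [h1, h2, CharTwo.add_eq_zero.1 (hTfree _ h3)]
  open CfsgLib.Classical.SympTrans CfsgLib.Classical.SympGraph in
  have hsurj : Function.Surjective β := by
    refine ((Nat.bijective_iff_injective_and_card β).2 ⟨hinj, ?_⟩).2
    have h1 : Nat.card (X.comap ι) = Fintype.card F ^ (2 * n - 2) := by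
      rw [Nat.card_congr ((X.comap ι).equivMapOfInjective ι hιi).toEquiv,
        Subgroup.map_comap_eq_self (by rw [hιr, ← hpr]; exact hXG), hcard]
    let K : Submodule F (Fin n ⊕ Fin n → F) := (perp a) ⊓ (perp e)
    have hK : Nat.card {b : Fin n ⊕ Fin n → F // Cfsg.sympForm n F a b = 0 ∧ Cfsg.sympForm n F e b = 0} = Nat.card K :=
      Nat.card_congr (Equiv.refl _)
    have hVK : Nat.card (Fin n ⊕ Fin n → F) = Nat.card F * Nat.card F * Nat.card K := by
      rw [← Nat.card_prod, ← Nat.card_prod]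
      refine Nat.card_congr
        { toFun := fun v => ((Cfsg.sympForm n F v e, Cfsg.sympForm n F v a),
            ⟨pr a e v, pr_left hae v, pr_right hae v⟩)
          invFun := fun p => p.1.1 • a + p.1.2 • e + (p.2 : Fin n ⊕ Fin n → F)
          left_inv := fun v => (decomp (a := a) (e := e) v).symm
          right_inv := fun p => ?_ }
      obtain ⟨⟨α, γ⟩, ⟨b, hb1, hb2⟩⟩ := p
      have k1 : Cfsg.sympForm n F a b = 0 := hb1
      have k2 : Cfsg.sympForm n F e b = 0 := hb2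
      refine Prod.ext (Prod.ext ?_ ?_) (Subtype.ext ?_)
      · simp [f_add_left, f_smul_left, f_self, hae, w_comm e b, k2]
      · simp [f_add_left, f_smul_left, f_self, w_comm a e, hae, w_comm a b, k1]
      · simp [pr_add, pr_smul, pr_self hae, pr_self' hae, pr_fix k1 k2]
    rw [Nat.card_pi, Finset.prod_const, Finset.card_univ, Fintype.card_sum, Fintype.card_fin] at hVK
    rw [h1, hK]
    rw [Nat.card_eq_fintype_card (α := F)] at hVK
    refine Nat.eq_of_mul_eq_mul_left (Nat.mul_pos (Fintype.card_pos (α := F)) (Fintype.card_pos (α := F))) ?_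
    rw [← hVK, ← pow_two, ← pow_add]
    congr 1
    omega
  open CfsgLib.Classical.SympTrans CfsgLib.Classical.SympGraph in
  have hG : Graph (L.comap ι) a := by
    intro b hb
    obtain ⟨x, hx⟩ := hsurj ⟨pr a e b, pr_left hae b, pr_right hae b⟩
    refine ⟨lv x, ?_⟩
    have h1 := hlv x
    rw [hx] at h1
    have h2 : b = pr a e b + Cfsg.sympForm n F b e • a := by
      conv_lhs => rw [decomp (a := a) (e := e) b, w_comm a b, hb, zero_smul, add_zero, add_comm]
    rw [h2, U_shift (pr_left hae b), ← h1]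
    exact hXL x.2
  have hLr : L ≤ ι.range := by rw [hιr, ← hpr]; exact hLG
  have hiso : ∀ Q : QuadraticForm F (Fin n ⊕ Fin n → F),
      (∀ u v, QuadraticMap.polar ⇑Q u v = Cfsg.sympForm n F u v) →
      Cfsg.isometryGroup F ⇑Q ≤ ι.range := by
    intro Q hQ g hg
    rw [hιr]
    intro u v
    show Cfsg.sympForm n F _ _ = Cfsg.sympForm n F u v
    rw [← hQ, ← hQ]
    simp only [QuadraticMap.polar, ← Matrix.mulVec_add]
    have e : ∀ x, Q (Matrix.mulVec (g : Matrix (Fin n ⊕ Fin n) (Fin n ⊕ Fin n) F) x) = Q x := fun x => hg x x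
    exact congrArg₂ (· - ·) (congrArg₂ (· - ·) (e _) (e _)) (e _)
  have hIso : ∀ (Q : QuadraticForm F (Fin n ⊕ Fin n → F)) g,
      g ∈ CfsgLib.Classical.SympGraph.Iso ⇑Q ↔ ι g ∈ Cfsg.isometryGroup F ⇑Q := fun Q g =>
    ⟨fun h u _ => by show Q _ = Q u; rw [Units.coeHom_apply, hι]; exact h u,
      fun h x => by rw [← hι]; exact h x x⟩
  rcases CfsgLib.Classical.SympGraph.classification hn hG ha (fun W hW => hirr W fun g hg w hw => by
      obtain ⟨s, rfl⟩ := hLr hg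
      rw [hι]; exact hW s hg w hw) with h | ⟨Q, hQ, h⟩ | ⟨hq, h2, h⟩
  · refine Or.inl (le_antisymm hLG ?_)
    rw [hpr, ← hιr]
    rintro _ ⟨s, rfl⟩
    exact (h.ge (Subgroup.mem_top s) :)
  · refine Or.inr (Or.inl ⟨Q, fun u v => (hQ u v).trans (congrFun (congrFun hB u) v).symm, ?_⟩)
    rcases h with h | h
    · refine Or.inl (le_antisymm (fun g hg => ?_) fun g hg => ?_)
      · obtain ⟨s, rfl⟩ := hLr hg
        exact (hIso Q s).1 (h.le hg)
      · obtain ⟨s, rfl⟩ := hiso Q hQ hg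
        exact (h.ge ((hIso Q s).2 hg) :)
    · refine Or.inr fun g => ⟨fun hg => ?_, fun hg => ?_⟩
      · obtain ⟨s, rfl⟩ := hLr hg
        obtain ⟨h1, h2⟩ := (h s).1 hg
        exact ⟨(hIso Q s).1 h1, hval s ▸ h2⟩
      · obtain ⟨s, rfl⟩ := hiso Q hQ hg.1
        exact ((h s).2 ⟨(hIso Q s).2 hg.1, hval s ▸ hg.2⟩ :)
  · refine Or.inr (Or.inr ⟨by rwa [← Nat.card_eq_fintype_card], h2, ?_⟩)
    have e : ↥(L.comap ι) ≃* ↥L := ((L.comap ι).equivMapOfInjective ι hιi).trans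
      (MulEquiv.subgroupCongr (Subgroup.map_comap_eq_self hLr))
    exact h.imp (fun ⟨f⟩ => ⟨e.symm.trans f⟩) fun ⟨f⟩ => ⟨e.symm.trans f⟩

end Cfsg.Agent.S5712
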