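import Cfsg.Statements.S5713
import Cfsg.Agent.Lib.Perm.MinDegBabai
import Cfsg.Agent.Lib.Perm.MinDegSmall

set_option autoImplicit false
open Cfsg

namespace Cfsg.Agent.S5713

/-- A classification-free minimal-degree bound. Let G be a finite group acting faithfully and primitively on a finite set Ω with n elements, and suppose that the image of G in the symmetric group on Ω does not contain the alternating group on Ω. Then every non-identity element of G moves at least (√n − 1)/2 points of Ω, that is, it fixes at most n − (√n − 1)/2 points. -/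
theorem result {G Ω : Type*} [Group G] [Finite G] [MulAction G Ω] [FaithfulSMul G Ω] [Fintype Ω] [DecidableEq Ω]
    (hprim : MulAction.IsPreprimitive G Ω)
    (hA : ¬ alternatingGroup Ω ≤ (MulAction.toPermHom G Ω).range)
    (g : G) (hg : g ≠ 1) :
    (Real.sqrt (Fintype.card Ω) - 1) / 2 ≤ (Fintype.card Ω : ℝ) - Nat.card (MulAction.fixedBy Ω g) := by
  classical
  set n := Fintype.card Ω with hn
  set T : Finset Ω := Finset.univ.filter fun x => g • x ≠ x with hT
  have hfix : Nat.card (MulAction.fixedBy Ω g) + T.card = n := by
    have h := Finset.card_filter_add_card_filter_not (s := (Finset.univ : Finset Ω))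
      (fun x => g • x = x)
    rw [Finset.card_univ] at h
    rw [hn, ← h]
    congr 1
    rw [Nat.card_eq_fintype_card, ← Set.toFinset_card]
    congr 1
    ext x
    simp
  suffices hmain : n ≤ (2 * T.card + 1) ^ 2 by
    have h1 : Real.sqrt (n : ℝ) ≤ 2 * (T.card : ℝ) + 1 := by
      rw [Real.sqrt_le_left (by positivity)]
      exact_mod_cast hmain
    have h2 : (Nat.card (MulAction.fixedBy Ω g) : ℝ) + T.card = (n : ℝ) := by exact_mod_cast hfix
    linarith
  obtain ⟨a, ha⟩ : ∃ a : Ω, g • a ≠ a := by
    by_contra h
    push Not at h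
    exact hg (FaithfulSMul.eq_of_smul_eq_smul fun x : Ω => by rw [one_smul]; exact h x)
  by_cases hall : ∀ u v x y : Ω, u ≠ v → x ≠ y → MinDegBabai.Rel G u v x y
  · by_contra hlt
    push Not at hlt
    have haT : a ∈ T := by simp [hT, ha]
    have hpos : 0 < T.card := Finset.card_pos.mpr ⟨a, haT⟩
    have hsmall : 2 * (T.card - 1) * (T.card - 1) < Fintype.card Ω - 1 := by
      obtain ⟨m, hm⟩ : ∃ m, T.card = m + 1 := ⟨T.card - 1, by omega⟩
      rw [hm] at hlt ⊢
      simp only [Nat.add_sub_cancel]
      ring_nf at hlt ⊢
      omega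
    obtain ⟨h, hha, hmeet⟩ :=
      MinDegBabai.exists_conj_meet_once hprim.toIsPretransitive hall T a haT hsmall
    set φ := MulAction.toPermHom G Ω with hφ
    have hcyc := MinDegBabai.commutator_isThreeCycle (φ g) (φ (h * g * h⁻¹)) a
      (by simpa [hφ] using ha) (by
        intro e
        apply ha
        have e' : h • g • h⁻¹ • a = a := by simpa [hφ, mul_smul] using e
        rw [inv_smul_eq_iff.mpr hha.symm] at e'
        exact MulAction.injective h (e'.trans hha.symm)) (by
        intro x hx1 hx2
        have hx1' : x ∈ T := by simpa [hφ, hT] using hx1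
        have hx2' : h⁻¹ • x ∈ T := by
          simp only [hT, Finset.mem_filter, Finset.mem_univ, true_and]
          intro e
          apply hx2
          simp [hφ, mul_smul, e]
        have := hmeet (h⁻¹ • x) hx2' (by rw [smul_inv_smul]; exact hx1')
        rw [inv_smul_eq_iff, hha] at this
        exact this)
    apply hA
    let f : Ω →ₑ[fun k : G => (⟨φ k, k, rfl⟩ : φ.range)] Ω := ⟨id, fun k x => rfl⟩
    have hp : MulAction.IsPreprimitive φ.range Ω := by
      have := hprim
      exact MulAction.IsPreprimitive.of_surjective (f := f) Function.surjective_id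
    refine Equiv.Perm.alternatingGroup_le_of_isPreprimitive_of_isThreeCycle_mem hp hcyc ?_
    exact ⟨g * (h * g * h⁻¹) * g⁻¹ * (h * g * h⁻¹)⁻¹, by simp only [map_mul, map_inv, hφ]⟩
  · push Not at hall
    obtain ⟨u, v, x, y, huv, hxy, hnot⟩ := hall
    have hb := MinDegBabai.babai hprim huv hxy hnot a (g • a) (Ne.symm ha)
    refine hb.trans (Nat.pow_le_pow_left ?_ 2)
    have : (MinDegBabai.D G a (g • a)).card ≤ T.card := by
      refine Finset.card_le_card fun z hz => ?_
      simp only [hT, Finset.mem_filter, Finset.mem_univ, true_and]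
      intro e
      apply MinDegBabai.mem_D.mp hz
      exact ⟨g, Or.inl ⟨rfl, e⟩⟩
    omega

end Cfsg.Agent.S5713
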