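import Cfsg.Statements.S5728
import Mathlib
-- import your own Cfsg.Agent.* helpers here

set_option autoImplicit false
open Cfsg

namespace Cfsg.Agent.S5728

/-- An elusive transitive action. Let p = 2^s − 1 be a prime and let F be the field with p² elements. Inside the group of affine maps x ↦ a·x + b of F (a ≠ 0), consider the subgroup of maps with both coefficients in the prime field. Then every element of prime order of the affine group is conjugate, within the affine group, to an element of that subgroup; equivalently, in the transitive action of the affine group on the cosets of that subgroup (of degree p(p + 1)) every element of prime order fixes a point. -/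
theorem result (p s : ℕ) [Fact p.Prime] (hs : p = 2 ^ s - 1)
    (g : Equiv.Perm (GaloisField p 2)) (hg : g ∈ Cfsg.affineGroup (GaloisField p 2)) (hord : (orderOf g).Prime) :
    ∃ x ∈ Cfsg.affineGroup (GaloisField p 2), ∃ a b : ZMod p, a ≠ 0 ∧
      ∀ y : GaloisField p 2, (x * g * x⁻¹) y = algebraMap (ZMod p) (GaloisField p 2) a * y + algebraMap (ZMod p) (GaloisField p 2) b := by
  classical
  let F := GaloisField p 2
  have hp : p.Prime := Fact.out
  obtain ⟨a, b, hgy⟩ := hg
  by_cases ha : (a : F) = 1
  · have hb : b ≠ 0 := by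
      intro hb
      refine hord.ne_one (orderOf_eq_one_iff.mpr (Equiv.ext fun y => ?_))
      rw [hgy, ha, hb, one_mul, add_zero]; rfl
    let x : Equiv.Perm F := Equiv.mulLeft₀ b⁻¹ (inv_ne_zero hb)
    refine ⟨x, ⟨Units.mk0 b⁻¹ (inv_ne_zero hb), 0, fun y => by simp [x]⟩, 1, 1, one_ne_zero, fun y => ?_⟩
    rw [Equiv.Perm.mul_apply, Equiv.Perm.mul_apply, map_one, one_mul, hgy, ha, one_mul]
    show b⁻¹ * (x.symm y + b) = y + 1
    rw [mul_add, inv_mul_cancel₀ hb]
    exact congrArg (· + 1) (x.apply_symm_apply y)
  · let r := orderOf g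
    have : Fact r.Prime := ⟨hord⟩
    have hne : (1 : F) - a ≠ 0 := sub_ne_zero.mpr (Ne.symm ha)
    let c := b / (1 - (a : F))
    have hc : (a : F) * c + b = c := by simp only [c]; field_simp; ring
    have hpow : ∀ n : ℕ, ∀ y, (g ^ n) y = (a : F) ^ n * (y - c) + c := by
      intro n
      induction n with
      | zero => intro y; simp
      | succ n ih =>
        intro y
        rw [pow_succ', Equiv.Perm.mul_apply, ih, hgy, pow_succ']
        linear_combination hc
    have har : (a : F) ^ r = 1 := by
      have h := hpow r (c + 1)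
      rw [pow_orderOf_eq_one, Equiv.Perm.one_apply, add_sub_cancel_left, mul_one] at h
      linear_combination -h
    have hora : orderOf (a : F) = r := orderOf_eq_prime har ha
    have hs2 : 2 ≤ s := by
      by_contra h
      interval_cases s <;> simp [hs] at hp <;> exact absurd hp (by norm_num)
    have hp2 : p ≠ 2 := by
      have : 4 ∣ 2 ^ s := ⟨2 ^ (s - 2), by rw [show (4 : ℕ) = 2 ^ 2 by norm_num, ← pow_add, Nat.add_sub_cancel' hs2]⟩
      omega
    have hrp : r ∣ p - 1 := by
      have h1 : r ∣ p ^ 2 - 1 := by
        rw [← hora]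
        refine orderOf_dvd_of_pow_eq_one ?_
        have hcard : Nat.card F = p ^ 2 := GaloisField.card p 2 (by norm_num)
        have : Fintype F := Fintype.ofFinite F
        rw [← hcard, Nat.card_eq_fintype_card]
        exact FiniteField.pow_card_sub_one_eq_one _ a.ne_zero
      rw [show p ^ 2 - 1 = (p + 1) * (p - 1) by simpa using Nat.sq_sub_sq p 1] at h1
      rcases hord.dvd_mul.mp h1 with h | h
      · have h2 : p + 1 = 2 ^ s := by
          have := Nat.one_le_two_pow (n := s); omega
        rw [h2] at h
        rw [show r = 2 from (Nat.prime_dvd_prime_iff_eq hord Nat.prime_two).mp (hord.dvd_of_dvd_pow h)]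
        have := hp.eq_two_or_odd.resolve_left hp2
        omega
      · exact h
    have hdvd : r ∣ Nat.card (ZMod p)ˣ := by
      rw [Nat.card_eq_fintype_card, ZMod.card_units]; exact hrp
    obtain ⟨z, hz⟩ := exists_prime_orderOf_dvd_card' (G := (ZMod p)ˣ) r hdvd
    have hprim : IsPrimitiveRoot (algebraMap (ZMod p) F ((z : ZMod p))) r := by
      refine IsPrimitiveRoot.map_of_injective ?_ (algebraMap (ZMod p) F).injective
      rw [IsPrimitiveRoot.coe_units_iff, ← hz]
      exact IsPrimitiveRoot.orderOf z
    have : NeZero r := ⟨hord.ne_zero⟩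
    obtain ⟨i, -, hi⟩ := hprim.eq_pow_of_pow_eq_one har
    let x : Equiv.Perm F := Equiv.addRight (-c)
    refine ⟨x, ⟨1, -c, fun y => by simp [x]⟩, (z : ZMod p) ^ i, 0, pow_ne_zero _ z.ne_zero, fun y => ?_⟩
    rw [map_pow, hi, map_zero, add_zero, Equiv.Perm.mul_apply, Equiv.Perm.mul_apply, hgy]
    show (a : F) * (x.symm y) + b + -c = _
    simp only [x, Equiv.addRight_symm, neg_neg, Equiv.coe_addRight]
    linear_combination hc

end Cfsg.Agent.S5728
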