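import Cfsg.Statements.S5729
import Cfsg.Agent.Lib.Perm.Derangement

set_option autoImplicit false
open Cfsg

namespace Cfsg.Agent.S5729

/-- Let a finite group G act faithfully and transitively on a set with n ≥ 3 points. Then either G is a Frobenius permutation group (Frobenius as a permutation group: transitive, some non-identity element fixes a point, and no non-identity element fixes two points) of order n(n − 1) and exactly |G|/n of its elements are derangements (fix no point), or the number of derangements is greater than |G|/n. -/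
theorem result {G Ω : Type*} [Group G] [Finite G] [MulAction G Ω] [FaithfulSMul G Ω] [Fintype Ω] (htr : MulAction.IsPretransitive G Ω) (hn : 3 ≤ Fintype.card Ω) :
    ((MulAction.IsPretransitive G Ω ∧ (∃ g : G, g ≠ 1 ∧ ∃ ω : Ω, g • ω = ω) ∧ ∀ g : G, g ≠ 1 → Nat.card (MulAction.fixedBy Ω g) ≤ 1) ∧ Nat.card G = Fintype.card Ω * (Fintype.card Ω - 1) ∧ Fintype.card Ω * Nat.card {g : G // ∀ ω : Ω, g • ω ≠ ω} = Nat.card G) ∨
    Nat.card G < Fintype.card Ω * Nat.card {g : G // ∀ ω : Ω, g • ω ≠ ω} := by
  classical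
  have : Fintype G := Fintype.ofFinite G
  have := htr
  have : Nonempty Ω := Fintype.card_pos_iff.mp (by omega)
  set n : ℕ := Fintype.card Ω with hn0
  set f : G → ℕ := fun g => Nat.card (MulAction.fixedBy Ω g) with hf
  have hsum : ∑ g : G, f g = Nat.card G := CfsgLib.Perm.sum_natCard_fixedBy_of_transitive
  have hsq : ∑ g : G, f g * f g = Nat.card (MulAction.orbitRel.Quotient G (Ω × Ω)) * Nat.card G := by
    rw [← CfsgLib.Perm.sum_natCard_fixedBy]
    refine Finset.sum_congr rfl fun g _ => ?_
    rw [hf, ← Nat.card_prod]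
    refine Nat.card_congr
      { toFun := fun x => ⟨(x.1.1, x.2.1), Prod.ext x.1.2 x.2.2⟩
        invFun := fun x => (⟨x.1.1, congrArg Prod.fst x.2⟩, ⟨x.1.2, congrArg Prod.snd x.2⟩)
        left_inv := fun x => rfl
        right_inv := fun x => rfl }
  have horb : 2 ≤ Nat.card (MulAction.orbitRel.Quotient G (Ω × Ω)) := by
    obtain ⟨a, b, hab⟩ := Fintype.exists_pair_of_one_lt_card (α := Ω) (by omega)
    rw [Nat.succ_le_iff, Finite.one_lt_card_iff_nontrivial]
    refine ⟨⟨Quotient.mk'' (a, a), Quotient.mk'' (a, b), fun h => ?_⟩⟩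
    have h' : (a, a) ∈ MulAction.orbit G (a, b) := Quotient.eq''.mp h
    obtain ⟨g, hg⟩ := h'
    have h1 : g • a = a := congrArg Prod.fst hg
    have h2 : g • b = a := congrArg Prod.snd hg
    exact hab (MulAction.injective g (h1.trans h2.symm))
  have hfle : ∀ g : G, f g ≤ n := fun g => by
    rw [hn0, ← Nat.card_eq_fintype_card]
    exact Nat.card_le_card_of_injective _ Subtype.val_injective
  have hf0 : ∀ g : G, f g = 0 ↔ ∀ ω : Ω, g • ω ≠ ω := fun g => by
    rw [hf]
    simp only [Nat.card_eq_zero, not_infinite_iff_finite.mpr inferInstance, or_false]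
    simp [Set.isEmpty_coe_sort, Set.eq_empty_iff_forall_notMem]
  have hfn : ∀ g : G, f g = n → g = 1 := by
    intro g hg
    have huniv : MulAction.fixedBy Ω g = Set.univ := by
      refine Set.eq_of_subset_of_ncard_le (Set.subset_univ _) ?_ (Set.toFinite _)
      rw [Set.ncard_univ, ← Nat.card_coe_set_eq, Nat.card_eq_fintype_card (α := Ω), ← hn0]
      exact hg.ge
    apply FaithfulSMul.eq_of_smul_eq_smul (α := Ω)
    intro ω
    rw [one_smul]
    exact (Set.eq_univ_iff_forall.mp huniv) ω
  have hf1 : f 1 = n := by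
    rw [hf, hn0, ← Nat.card_eq_fintype_card]
    simp [MulAction.fixedBy_one_eq_univ]
  -- the derangements
  set D : Finset G := Finset.univ.filter (fun g => f g = 0) with hD
  have hd : Nat.card {g : G // ∀ ω : Ω, g • ω ≠ ω} = D.card := by
    rw [Nat.card_eq_fintype_card, Fintype.card_subtype, hD]
    congr 1
    ext g
    simp [hf0]
  rw [hd]
  -- the polynomial (f - 1)(f - n)
  set t : G → ℤ := fun g => ((f g : ℤ) - 1) * ((f g : ℤ) - n) with ht
  have hT : ∑ g : G, t g = ((Nat.card (MulAction.orbitRel.Quotient G (Ω × Ω)) : ℤ) - 1) * Nat.card G := by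
    have e1 : ∀ g : G, t g = ((f g * f g : ℕ) : ℤ) - ((n : ℤ) + 1) * (f g : ℤ) + n := by
      intro g; simp only [ht]; push_cast; ring
    rw [Finset.sum_congr rfl (fun g _ => e1 g), Finset.sum_add_distrib, Finset.sum_sub_distrib,
      ← Finset.mul_sum, ← Nat.cast_sum, ← Nat.cast_sum, hsq, hsum]
    simp only [Finset.sum_const, Finset.card_univ, ← Nat.card_eq_fintype_card (α := G), nsmul_eq_mul]
    push_cast
    ring
  have hle : ∀ g ∈ Finset.univ.filter (fun g => ¬ f g = 0), t g ≤ 0 := by
    intro g hg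
    have h1 : 1 ≤ f g := Nat.one_le_iff_ne_zero.mpr (Finset.mem_filter.mp hg).2
    exact mul_nonpos_of_nonneg_of_nonpos (by omega) (by have := hfle g; omega)
  have hsplit : ∑ g : G, t g = (n : ℤ) * D.card + ∑ g ∈ Finset.univ.filter (fun g => ¬ f g = 0), t g := by
    rw [← Finset.sum_filter_add_sum_filter_not Finset.univ (fun g => f g = 0) t]
    congr 1
    rw [Finset.sum_congr rfl (g := fun _ => (n : ℤ)) (fun g hg => ?_)]
    · simp [hD, mul_comm]
    · simp only [Finset.mem_filter] at hg
      simp [ht, hg.2]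
  have hGpos : 0 < Nat.card G := Nat.card_pos
  have hR : (Nat.card G : ℤ) ≤ ∑ g : G, t g := by
    rw [hT]
    have h2 : (2 : ℤ) ≤ Nat.card (MulAction.orbitRel.Quotient G (Ω × Ω)) := by exact_mod_cast horb
    nlinarith
  have hN : ∑ g ∈ Finset.univ.filter (fun g => ¬ f g = 0), t g ≤ 0 := Finset.sum_nonpos hle
  by_cases hlt : Nat.card G < n * D.card
  · exact Or.inr hlt
  left
  have hlt' : (n : ℤ) * D.card ≤ Nat.card G := by exact_mod_cast (not_lt.mp hlt)
  have heq : n * D.card = Nat.card G := by
    have : (n : ℤ) * D.card = Nat.card G := by linarith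
    exact_mod_cast this
  have hN0 : ∑ g ∈ Finset.univ.filter (fun g => ¬ f g = 0), t g = 0 := by linarith
  have hzero := (Finset.sum_eq_zero_iff_of_nonpos hle).mp hN0
  have hle1 : ∀ g : G, g ≠ 1 → f g ≤ 1 := by
    intro g hg
    by_contra hc
    have h := hzero g (Finset.mem_filter.mpr ⟨Finset.mem_univ _, by omega⟩)
    rcases mul_eq_zero.mp h with h | h
    · omega
    · exact hg (hfn g (by omega))
  have hcount : n + (Nat.card G - 1) = Nat.card G + D.card := by
    have e : ∀ g ∈ (Finset.univ.erase (1 : G)), f g + (if f g = 0 then 1 else 0) = 1 := by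
      intro g hg
      have := hle1 g (Finset.mem_erase.mp hg).1
      split_ifs <;> omega
    have h1 := Finset.sum_congr rfl e
    rw [Finset.sum_add_distrib, Finset.sum_boole, Finset.sum_const, Finset.card_erase_of_mem (Finset.mem_univ _),
      Finset.card_univ, ← Nat.card_eq_fintype_card, smul_eq_mul, mul_one] at h1
    have h2 : (Finset.univ.erase (1 : G)).filter (fun g => f g = 0) = D := by
      rw [hD, Finset.filter_erase, Finset.erase_eq_of_notMem]
      simp [hf1]; omega
    rw [h2, Nat.cast_id] at h1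
    have h3 := Finset.add_sum_erase Finset.univ f (Finset.mem_univ (1 : G))
    rw [hsum, hf1] at h3
    omega
  have hDcard : D.card = n - 1 := by omega
  have hcardG : Nat.card G = n * (n - 1) := by rw [← hDcard, heq]
  refine ⟨⟨htr, ?_, hle1⟩, hcardG, heq⟩
  obtain ⟨ω⟩ := ‹Nonempty Ω›
  have hst : MulAction.stabilizer G ω ≠ ⊥ := by
    intro h
    have h1 := MulAction.index_stabilizer_of_transitive G ω
    rw [h, Subgroup.index_bot, Nat.card_eq_fintype_card (α := Ω), ← hn0, hcardG] at h1
    have h2 : 2 ≤ n - 1 := by omega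
    have h3 : n * 2 ≤ n * (n - 1) := Nat.mul_le_mul_left n h2
    omega
  obtain ⟨g, hg, hg1⟩ := (Subgroup.bot_or_exists_ne_one _).resolve_left hst
  exact ⟨g, hg1, ω, hg⟩

end Cfsg.Agent.S5729
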