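import Cfsg.Statements.S5738
import Mathlib
-- import your own Cfsg.Agent.* helpers here

set_option autoImplicit false
open Cfsg

namespace Cfsg.Agent.S5738

/-- Let F ⊆ K be finite fields with |F| = q and [K : F] = n ≥ 2, so |K| = q^n. Regard K as an n-dimensional F-vector space; the multiplications by non-zero elements of K form a cyclic subgroup of GL_F(K) of order q^n − 1 acting regularly on the non-zero vectors (a Singer group). Its normaliser in GL_F(K) has order n·(q^n − 1). -/
theorem result {F K : Type*} [Field F] [Fintype F] [Field K] [Fintype K] [Algebra F K] (n : ℕ) (hn : 2 ≤ n) (hdim : Module.finrank F K = n) :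
    Nat.card (Subgroup.normalizer (((Units.map ((Algebra.lmul F K : K →ₐ[F] Module.End F K) : K →* Module.End F K)).range : Subgroup (Module.End F K)ˣ) : Set (Module.End F K)ˣ)) = n * (Fintype.card K - 1) := by
  classical
  set ι : Kˣ →* (Module.End F K)ˣ := Units.map ((Algebra.lmul F K : K →ₐ[F] Module.End F K) : K →* Module.End F K) with hι
  have hιv : ∀ (k : Kˣ) (x : K), (ι k : Module.End F K) x = (k : K) * x := fun k x => rfl
  have hinj : Function.Injective ι := fun a b e => Units.ext (by
    simpa [hιv] using LinearMap.congr_fun (congrArg Units.val e) 1)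
  set N := Subgroup.normalizer ((ι.range : Subgroup (Module.End F K)ˣ) : Set (Module.End F K)ˣ) with hN
  have : FiniteDimensional F K := .of_finite
  -- semilinear elements
  let sl : Kˣ × (K ≃ₐ[F] K) → (Module.End F K)ˣ := fun p =>
    ι p.1 * ⟨p.2.toLinearMap, p.2.symm.toLinearMap, LinearMap.ext fun x => by simp,
      LinearMap.ext fun x => by simp⟩
  have hsl : ∀ p x, (sl p : Module.End F K) x = (p.1 : K) * p.2 x := fun p x => rfl
  have hmem : ∀ p, sl p ∈ N := by
    intro p
    rw [hN, Subgroup.mem_normalizer_iff]
    intro h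
    have hconj : ∀ k : Kˣ, sl p * ι k = ι (Units.map (p.2 : K →* K) k) * sl p := fun k =>
      Units.ext (LinearMap.ext fun x => by simp [hsl, hιv]; ring)
    constructor
    · rintro ⟨k, rfl⟩
      exact ⟨Units.map (p.2 : K →* K) k, eq_mul_inv_of_mul_eq (hconj k).symm⟩
    · rintro ⟨k, hk⟩
      refine ⟨Units.map (p.2.symm : K →* K) k, ?_⟩
      have e1 : Units.map (p.2 : K →* K) (Units.map (p.2.symm : K →* K) k) = k := Units.ext (p.2.apply_symm_apply k)
      have e2 := hconj (Units.map (p.2.symm : K →* K) k)
      rw [e1, hk] at e2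
      calc ι (Units.map (p.2.symm : K →* K) k) = (sl p)⁻¹ * (sl p * ι (Units.map (p.2.symm : K →* K) k)) := by group
        _ = h := by rw [e2]; group
  let f : Kˣ × (K ≃ₐ[F] K) → N := fun p => ⟨sl p, hmem p⟩
  have hf : Function.Bijective f := by
    constructor
    · rintro ⟨a, σ⟩ ⟨b, τ⟩ e
      have e' : ∀ x, (a : K) * σ x = (b : K) * τ x := fun x => by
        have := LinearMap.congr_fun (congrArg (fun z : N => (((z : (Module.End F K)ˣ)) : Module.End F K)) e) x
        simpa [f, hsl] using this
      have hab : (a : K) = b := by simpa using e' 1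
      refine Prod.ext (Units.ext hab) (AlgEquiv.ext fun x => ?_)
      have := e' x
      rw [hab] at this
      exact mul_left_cancel₀ b.ne_zero this
    · rintro ⟨h, hh⟩
      rw [hN, Subgroup.mem_normalizer_iff] at hh
      have hne : (h : Module.End F K) 1 ≠ 0 := fun e => one_ne_zero (α := K) (by
        have := congrArg ((h⁻¹ : (Module.End F K)ˣ) : Module.End F K) e
        rw [map_zero, ← Module.End.mul_apply, Units.inv_mul] at this
        exact this)
      set a := Units.mk0 _ hne with ha
      have key : ∀ k : K, ∃ k' : K, ∀ x, (h : Module.End F K) (k * x) = k' * (h : Module.End F K) x := by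
        intro k
        by_cases hk : k = 0
        · exact ⟨0, fun x => by simp [hk]⟩
        obtain ⟨k', hk'⟩ := (hh (ι (Units.mk0 k hk))).1 ⟨_, rfl⟩
        refine ⟨k', fun x => ?_⟩
        have := LinearMap.congr_fun (congrArg Units.val (eq_mul_inv_iff_mul_eq.1 hk')) x
        simpa [hιv] using this.symm
      choose s hs using key
      have hs1 : ∀ k, (h : Module.End F K) k = s k * (h : Module.End F K) 1 := fun k => by simpa using hs k 1
      have hmul : ∀ k l, s (k * l) = s k * s l := fun k l => mul_right_cancel₀ hne (by
        rw [← hs1, hs k l, hs1 l, mul_assoc])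
      have hadd : ∀ k l, s (k + l) = s k + s l := fun k l => mul_right_cancel₀ hne (by
        rw [← hs1, map_add, hs1 k, hs1 l, add_mul])
      have hone : s 1 = 1 := mul_right_cancel₀ hne (by rw [← hs1, one_mul])
      have halg : ∀ c : F, s (algebraMap F K c) = algebraMap F K c := fun c => mul_right_cancel₀ hne (by
        rw [← hs1, Algebra.algebraMap_eq_smul_one, map_smul, smul_mul_assoc, one_mul])
      have hzero : s 0 = 0 := mul_right_cancel₀ hne (by rw [← hs1, map_zero, zero_mul])
      let σ : K →ₐ[F] K :=
        { toFun := s, map_one' := hone, map_mul' := hmul, map_zero' := hzero, map_add' := hadd, commutes' := halg }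
      refine ⟨(a, AlgEquiv.ofBijective σ (Algebra.IsAlgebraic.algHom_bijective σ)), Subtype.ext (Units.ext (LinearMap.ext fun x => ?_))⟩
      show (sl (a, AlgEquiv.ofBijective σ _) : Module.End F K) x = (h : Module.End F K) x
      rw [hsl, hs1 x, mul_comm]
      rfl
  rw [← Nat.card_eq_of_bijective f hf, Nat.card_prod, Nat.card_units, IsGalois.card_aut_eq_finrank, hdim,
    Nat.card_eq_fintype_card, mul_comm]


end Cfsg.Agent.S5738
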