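import Cfsg.Statements.S5739
import Mathlib

set_option autoImplicit false
open Cfsg

namespace Cfsg.Agent.S5739

/-- Let F ⊆ K be finite fields with |F| = q and [K : F] = n ≥ 2, and let M ≤ GL_F(K) be the Singer group of multiplications by non-zero elements of K. If g ∈ GL_F(K) does not normalise M, then the order of M ∩ gMg⁻¹ divides q^r − 1 for some proper divisor r of n. In particular, when n is prime, that order divides q − 1. -/
theorem result {F K : Type*} [Field F] [Fintype F] [Field K] [Fintype K] [Algebra F K] (n : ℕ) (hn : 2 ≤ n) (hdim : Module.finrank F K = n)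
    (g : (Module.End F K)ˣ) (hg : ((Units.map ((Algebra.lmul F K : K →ₐ[F] Module.End F K) : K →* Module.End F K)).range).map (MulAut.conj g).toMonoidHom ≠ (Units.map ((Algebra.lmul F K : K →ₐ[F] Module.End F K) : K →* Module.End F K)).range) :
    ∃ r : ℕ, 1 ≤ r ∧ r ∣ n ∧ r < n ∧ Nat.card ↥(((Units.map ((Algebra.lmul F K : K →ₐ[F] Module.End F K) : K →* Module.End F K)).range).map (MulAut.conj g).toMonoidHom ⊓ (Units.map ((Algebra.lmul F K : K →ₐ[F] Module.End F K) : K →* Module.End F K)).range) ∣ Fintype.card F ^ r - 1 := by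
  classical
  have hQ : 2 < Fintype.card K := by
    have h : Nat.card K = Nat.card F ^ n := hdim ▸ Module.natCard_eq_pow_finrank
    rw [Nat.card_eq_fintype_card, Nat.card_eq_fintype_card] at h
    have h2 : 2 ≤ Fintype.card F := Fintype.one_lt_card
    have := Nat.pow_le_pow_left h2 n
    have := Nat.pow_le_pow_right (show 0 < 2 by norm_num) hn
    rw [h]; omega
  have : Finite (Module.End F K) := Finite.of_injective (fun f => (f : K → K)) DFunLike.coe_injective
  set L : K →ₐ[F] Module.End F K := Algebra.lmul F K with hL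
  set G : Module.End F K := (g : Module.End F K) with hG
  let A : Subalgebra F K :=
    { carrier := {k | ∃ k' : K, L k * G = G * L k'}
      mul_mem' := fun {a b} ⟨a', ha⟩ ⟨b', hb⟩ => ⟨a' * b', by
        rw [map_mul, map_mul, mul_assoc, hb, ← mul_assoc, ha, mul_assoc]⟩
      add_mem' := fun {a b} ⟨a', ha⟩ ⟨b', hb⟩ => ⟨a' + b', by
        rw [map_add, map_add, add_mul, mul_add, ha, hb]⟩
      algebraMap_mem' := fun c => ⟨algebraMap F K c, by
        rw [AlgHom.commutes]; exact (Algebra.commutes c G)⟩ }
  have hinv : ∀ x ∈ A, x⁻¹ ∈ A := by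
    intro x hx
    have he : x ^ (Fintype.card K - 2) = x⁻¹ := by
      rcases eq_or_ne x 0 with rfl | h0
      · rw [inv_zero, zero_pow (by omega)]
      · refine eq_inv_of_mul_eq_one_left ?_
        rw [← pow_succ, show Fintype.card K - 2 + 1 = Fintype.card K - 1 by omega]
        exact FiniteField.pow_card_sub_one_eq_one x h0
    exact he ▸ pow_mem hx _
  set C : IntermediateField F K := A.toIntermediateField hinv with hC
  have hmemC : ∀ k : K, k ∈ C ↔ ∃ k' : K, L k * G = G * L k' := fun k => Iff.rfl
  refine ⟨Module.finrank F C, Module.finrank_pos, ?_, ?_, ?_⟩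
  · exact ⟨Module.finrank C K, by rw [Module.finrank_mul_finrank, hdim]⟩
  · by_contra hlt
    have htop : C = ⊤ := by
      apply IntermediateField.toSubalgebra_injective
      rw [IntermediateField.top_toSubalgebra, ← Algebra.toSubmodule_eq_top]
      apply Submodule.eq_top_of_finrank_eq
      refine le_antisymm (Submodule.finrank_le _) ?_
      rw [hdim]; exact not_lt.mp hlt
    apply hg
    symm
    refine Subgroup.eq_of_le_of_card_ge ?_ (le_of_eq (Nat.card_congr
      (Subgroup.equivMapOfInjective _ _ (MulAut.conj g).injective).toEquiv.symm))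
    rintro _ ⟨u, rfl⟩
    have hu : (u : K) ∈ C := htop ▸ IntermediateField.mem_top
    obtain ⟨k', hk'⟩ := (hmemC _).mp hu
    have hk0 : k' ≠ 0 := by
      intro h0
      rw [h0, map_zero, mul_zero] at hk'
      have := (Units.mul_left_eq_zero g).mp hk'
      exact u.ne_zero (Algebra.lmul_injective (R := F) (this.trans (map_zero L).symm))
    refine ⟨_, ⟨Units.mk0 k' hk0, rfl⟩, ?_⟩
    apply Units.ext
    simp only [MulEquiv.coe_toMonoidHom, MulAut.conj_apply, Units.val_mul, Units.coe_map,
      MonoidHom.coe_coe, Units.val_mk0]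
    rw [← hG, ← hk', mul_assoc, hG, Units.mul_inv, mul_one]
  · let ψ : Cˣ →* (Module.End F K)ˣ :=
      Units.map ((L : K →* Module.End F K).comp (C.val : C →* K))
    refine (Subgroup.card_dvd_of_le (K := ψ.range) ?_).trans ?_
    · rintro x ⟨⟨_, ⟨v, rfl⟩, hx⟩, ⟨u, rfl⟩⟩
      have hu : (u : K) ∈ C := by
        refine (hmemC _).mpr ⟨v, ?_⟩
        have := congrArg Units.val hx
        simp only [MulEquiv.coe_toMonoidHom, MulAut.conj_apply, Units.val_mul, Units.coe_map,
          MonoidHom.coe_coe] at this
        rw [← this, mul_assoc, hG, Units.inv_mul, mul_one]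
      exact ⟨Units.mk0 (⟨(u : K), hu⟩ : C) (fun h => u.ne_zero (congrArg Subtype.val h)),
        Units.ext rfl⟩
    · refine (Subgroup.card_range_dvd ψ).trans ?_
      rw [Nat.card_units, Module.natCard_eq_pow_finrank (K := F), Nat.card_eq_fintype_card (α := F)]

end Cfsg.Agent.S5739
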