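import Cfsg.Statements.S5740
import Cfsg.Agent.S1066
import Cfsg.Agent.Lib.TwoE6Local.Main
-- import your own Cfsg.Agent.* helpers here

set_option autoImplicit false
open Cfsg

namespace Cfsg.Agent.S5740

/-- In the simple group ²E₆(2) (the twisted group of type E₆ over the field with 4 elements), for every prime p > 5 no p-local subgroup is maximal: the normaliser of a non-trivial p-subgroup is never a maximal subgroup. -/
theorem result {K : Type*} [Field K] [Fintype K] (hK : Fintype.card K = 4) (p : ℕ) (hp : p.Prime) (h5 : 5 < p)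
    (P : Subgroup (Cfsg.Lie.twistedE6 K 2)) (hP : IsPGroup p P) (hP1 : P ≠ ⊥) :
    ¬ IsCoatom (Subgroup.normalizer (P : Set (Cfsg.Lie.twistedE6 K 2))) := by
  have hK' : Nat.card K = 4 := by rw [Nat.card_eq_fintype_card, hK]
  haveI : CharP K 2 := charP_of_card_eq_prime_pow (f := 2) (by rw [hK]; rfl)
  obtain ⟨ω, hω⟩ := CfsgLib.Fi22E6.exists_omega hK'
  refine CfsgLib.TwoE6Local.main hω hK' ?_ p hp h5 P hP hP1
  have h := Cfsg.Agent.S1066.result (K := K) (q := 2) Nat.prime_two.isPrimePow hK
  refine Nat.eq_of_mul_eq_mul_left (show 0 < 3 by norm_num) ?_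
  norm_num at h ⊢
  exact h

end Cfsg.Agent.S5740
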