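import Cfsg.Statements.S5742
import Cfsg.Agent.Lib.Fi22E6.NotConj
import Cfsg.Agent.Lib.Fi22Pres.Out
-- import your own Cfsg.Agent.* helpers here

set_option autoImplicit false
open Cfsg

namespace Cfsg.Agent.S5742

/-- The simple group ²E₆(2) (the twisted group of type E₆ over the field with 4 elements) contains at least three pairwise non-conjugate subgroups isomorphic to the Fischer group Fi₂₂. -/
theorem result {K : Type*} [Field K] [Fintype K] (hK : Fintype.card K = 4) :
    ∃ H : Fin 3 → Subgroup (Cfsg.Lie.twistedE6 K 2),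
      (∀ i, Cfsg.Spor.IsoFi22 (H i)) ∧
      (∀ i j, i ≠ j → ∀ g : (Cfsg.Lie.twistedE6 K 2), (H i).map (MulAut.conj g).toMonoidHom ≠ H j) := by
  have hout : Nat.card (Cfsg.Out ↥(⊤ : Subgroup Cfsg.Spor.Fi22)) = 2 := by
    rw [← CfsgLib.Fi22Pres.out_card]
    exact Nat.card_congr (CfsgLib.Fi22E6.outCongr Subgroup.topEquiv).toEquiv
  obtain ⟨H, h1, h2⟩ := CfsgLib.Fi22E6.three_classes hK ⊤ (fun _ _ _ => Subgroup.mem_top _) hout
  exact ⟨H, fun i => ⟨(h1 i).some.trans Subgroup.topEquiv⟩, h2⟩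

end Cfsg.Agent.S5742
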