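import Cfsg.Statements.S5743
import Cfsg.Agent.Lib.Chev.TwistE6TwoF4

set_option autoImplicit false
open Cfsg

namespace Cfsg.Agent.S5743

/-- The simple group ²E₆(2) (the twisted group of type E₆ over the field with 4 elements) contains at least three pairwise non-conjugate subgroups isomorphic to the Chevalley group F₄(2). -/
theorem result {K : Type*} [Field K] [Fintype K] (hK : Fintype.card K = 4) :
    ∃ H : Fin 3 → Subgroup (Cfsg.Lie.twistedE6 K 2),
      (∀ i, Nonempty ((H i) ≃* Cfsg.Lie.chevF4.group (ZMod 2))) ∧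
      (∀ i j, i ≠ j → ∀ g : (Cfsg.Lie.twistedE6 K 2), (H i).map (MulAut.conj g).toMonoidHom ≠ H j) := by
  have hK' : Nat.card K = 4 := by rw [Nat.card_eq_fintype_card, hK]
  have : CharP K 2 := charP_of_card_eq_prime_pow (f := 2) (by rw [hK]; rfl)
  let e : ZMod 2 →+* K := ZMod.castHom dvd_rfl K
  let H₀ : Subgroup (GL Cfsg.Lie.chevE6.Idx K) :=
    (Cfsg.Lie.twistedE6 (ZMod 2) 1).map (CfsgLib.Chev.mapGL Cfsg.Lie.chevE6 e)
  have hH₀ : H₀ ≤ Cfsg.Lie.twistedE6 K 2 := by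
    refine Subgroup.map_le_iff_le_comap.2 (CfsgLib.Chev.certE6.genSubgroup_le ?_)
    rintro w (⟨t, ht, r, hr, rfl⟩ | ⟨t, rs, hrs, rfl⟩)
    · simp only [List.map_cons, List.map_nil, List.prod_cons, List.prod_nil, mul_one,
        Subgroup.mem_comap, CfsgLib.Chev.certE6.X_map]
      have he : e t ^ 2 = e t := by rw [← map_pow, ZMod.pow_card]
      have := CfsgLib.Chev.certE6.prod_mem_genSubgroup (F := K) (S := Cfsg.Lie.e6Words K 2)
        (w := [(r, e t)]) (Or.inl ⟨e t, he, r, hr, rfl⟩)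
      simp only [List.map_cons, List.map_nil, List.prod_cons, List.prod_nil, mul_one] at this
      exact this
    · rw [CfsgLib.Chev.chevE6_prod_pair, Subgroup.mem_comap, map_mul, CfsgLib.Chev.certE6.X_map,
        CfsgLib.Chev.certE6.X_map, pow_one,
        show CfsgLib.Chev.X Cfsg.Lie.chevE6 rs.2 (e t) =
          CfsgLib.Chev.X Cfsg.Lie.chevE6 rs.2 (e t ^ 2) by rw [← map_pow, ZMod.pow_card],
        ← CfsgLib.Chev.chevE6_prod_pair]
      exact CfsgLib.Chev.certE6.prod_mem_genSubgroup (Or.inr ⟨_, rs, hrs, rfl⟩)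
  have : Fact (Nat.card Kˣ = 3) := ⟨by rw [Nat.card_units, hK']⟩
  have hcard : Nat.card Kˣ = 3 := Fact.out
  let ψ : Fin 3 ≃ Kˣ := (Finite.equivFinOfCardEq hcard).symm
  let c : Fin 3 → (GL Cfsg.Lie.chevE6.Idx K →* GL Cfsg.Lie.chevE6.Idx K) := fun i =>
    (MulAut.conj (CfsgLib.Chev.F4Classes.dlt (ψ i))).toMonoidHom
  have hle : ∀ i, H₀.map (c i) ≤ Cfsg.Lie.twistedE6 K 2 := by
    rintro i _ ⟨x, hx, rfl⟩
    exact CfsgLib.Chev.F4Classes.dlt_conj_mem hK' (ψ i) (hH₀ hx)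
  refine ⟨fun i => (H₀.map (c i)).subgroupOf _, fun i => ?_, fun i j hij g hg => hij ?_⟩
  · obtain ⟨φ⟩ : Nonempty (↥(Cfsg.Lie.twistedE6 (ZMod 2) 1) ≃* ↥(Cfsg.Lie.chevF4.group (ZMod 2))) :=
      ⟨(MulEquiv.subgroupCongr CfsgLib.Chev.FoldF4.fix_eq.symm).trans CfsgLib.Chev.FoldF4.fixEquiv⟩
    exact ⟨(((Subgroup.subgroupOfEquivOfLe (hle i)).trans
      (Subgroup.equivMapOfInjective H₀ (c i) (MulAut.conj _).injective).symm).trans
      (Subgroup.equivMapOfInjective _ _ (CfsgLib.Chev.mapGL_injective _ e)).symm).trans φ⟩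
  · refine ψ.injective (CfsgLib.Chev.F4Classes.not_conj hK' e g.2 H₀ rfl fun x hx => ?_)
    have h1 : g * ⟨c i x, hle i ⟨x, hx, rfl⟩⟩ * g⁻¹ ∈ (H₀.map (c j)).subgroupOf _ := by
      simp only at hg
      rw [← hg]
      exact Subgroup.mem_map_of_mem _ (Subgroup.mem_subgroupOf.2 ⟨x, hx, rfl⟩)
    simpa [Subgroup.mem_subgroupOf, c] using h1

end Cfsg.Agent.S5743
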