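import Cfsg.Statements.S5744
import Cfsg.Agent.Lib.Fi22E6.NotConj
import Cfsg.Agent.Lib.Fi22OSeven.Main
import Cfsg.Agent.Lib.OmegaSevenMult.Action
import Cfsg.Agent.Lib.OrthAut.Out
-- import your own Cfsg.Agent.* helpers here

set_option autoImplicit false
open Cfsg

namespace Cfsg.Agent.S5744

/-- The simple group ²E₆(2) (the twisted group of type E₆ over the field with 4 elements) contains at least three pairwise non-conjugate subgroups isomorphic to the orthogonal group Ω₇(3) (the commutator subgroup of the isometry group of x₀² + x₁y₁ + x₂y₂ + x₃y₃ over the field with 3 elements). -/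
theorem result {K : Type*} [Field K] [Fintype K] (hK : Fintype.card K = 4) :
    ∃ H : Fin 3 → Subgroup (Cfsg.Lie.twistedE6 K 2),
      (∀ i, Nonempty ((H i) ≃* Cfsg.Omega (ZMod 3) (Cfsg.quadFormOdd 3 (ZMod 3)))) ∧
      (∀ i j, i ≠ j → ∀ g : (Cfsg.Lie.twistedE6 K 2), (H i).map (MulAut.conj g).toMonoidHom ≠ H j) := by
  haveI : Fact (Nat.Prime 3) := ⟨Nat.prime_three⟩
  obtain ⟨f⟩ := CfsgLib.OrthAut.out_pomega_odd (F := ZMod 3) (p := 3) (f := 1) (m := 3) le_rfl
    (by simp) (by norm_num) le_rfl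
  obtain ⟨e⟩ := CfsgLib.Fi22OSeven.subH_iso
  have hout : Nat.card (Cfsg.Out ↥CfsgLib.Fi22Pres.subH) = 2 := by
    rw [Nat.card_congr (CfsgLib.Fi22E6.outCongr e).toEquiv, Nat.card_congr f.toEquiv]
    simp
  obtain ⟨H, h1, h2⟩ := CfsgLib.Fi22E6.three_classes hK CfsgLib.Fi22Pres.subH
    (fun x h0 h9 => CfsgLib.Fi22E6.gen_mem_subH h0 h9) hout
  refine ⟨H, fun i => ⟨((h1 i).some.trans e).trans ?_⟩, h2⟩
  exact (QuotientGroup.quotientMulEquivOfEq CfsgLib.OmegaSevenMult.center_omega_seven).trans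
    QuotientGroup.quotientBot

end Cfsg.Agent.S5744
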