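import Cfsg.Statements.S5747
import Mathlib

set_option autoImplicit false
open Cfsg

namespace Cfsg.Agent.S5747

section
variable {G Ω : Type*} [Group G] [MulAction G Ω]

/-- An irredundant base, as a sequence of points. -/
def Irr {t : ℕ} (f : Fin t → Ω) : Prop :=
  (∀ g : G, (∀ i : Fin t, g • f i = f i) → g = 1) ∧
    ∀ i : Fin t, ∃ g : G, (∀ j : Fin t, j < i → g • f j = f j) ∧ g • f i ≠ f i

omit [MulAction G Ω] in
theorem exists_shorter [MulAction G Ω] :
    ∀ (t : ℕ) (f : Fin t → Ω), (∀ g : G, (∀ i, g • f i = f i) → g = 1) →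
      ∃ (s : ℕ) (f' : Fin s → Ω), Irr (G := G) f' ∧ (s = t → Irr (G := G) f) ∧ s ≤ t := by
  intro t
  induction t with
  | zero => exact fun f hf => ⟨0, f, ⟨hf, fun i => i.elim0⟩, fun _ => ⟨hf, fun i => i.elim0⟩, le_rfl⟩
  | succ t ih =>
    intro f hf
    by_cases h : ∀ i : Fin (t + 1), ∃ g : G, (∀ j, j < i → g • f j = f j) ∧ g • f i ≠ f i
    · exact ⟨t + 1, f, ⟨hf, h⟩, fun _ => ⟨hf, h⟩, le_rfl⟩
    · push_neg at h
      obtain ⟨i, hi⟩ := h
      obtain ⟨s, f', hI, -, hle⟩ := ih (f ∘ i.succAbove) fun g hg => hf g fun j => by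
        rcases eq_or_ne j i with rfl | hji
        · refine hi g fun k hk => ?_
          obtain ⟨k', rfl⟩ := Fin.exists_succAbove_eq hk.ne
          exact hg k'
        · obtain ⟨j', rfl⟩ := Fin.exists_succAbove_eq hji
          exact hg j'
      exact ⟨s, f', hI, fun e => absurd e (by omega), by omega⟩

/-- Exchange step. -/
theorem exchange {Ω' : Set Ω} {s : ℕ}
    (hre : ∀ (t : ℕ) (f : Fin t → Ω) (σ : Equiv.Perm (Fin t)),
      Irr (G := G) f → Irr (G := G) (f ∘ σ))
    (hΩ : ∀ g : G, (∀ x ∈ Ω', g • x = x) → g = 1)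
    (f : Fin (s + 1) → Ω) (hf : Irr (G := G) f) :
    ∃ y ∈ Ω', Irr (G := G) (Fin.snoc (Fin.init f) y) := by
  obtain ⟨g, hg, hgm⟩ := hf.2 (Fin.last s)
  have hg1 : g ≠ 1 := fun e => hgm (by rw [e, one_smul])
  obtain ⟨y, hy, hgy⟩ : ∃ y ∈ Ω', g • y ≠ y := by
    by_contra h
    push_neg at h
    exact hg1 (hΩ g h)
  refine ⟨y, hy, ⟨fun h hh => ?_, fun i => ?_⟩⟩
  · by_contra h1
    -- the sequence with the old last point appended is an irredundant base
    have hinit : ∀ j : Fin s, h • f j.castSucc = f j.castSucc := fun j => by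
      simpa [Fin.init] using hh j.castSucc
    have hlast : h • f (Fin.last s) ≠ f (Fin.last s) := fun e =>
      h1 (hf.1 h (Fin.lastCases e hinit))
    let f3 : Fin (s + 2) → Ω := Fin.snoc (Fin.snoc (Fin.init f) y) (f (Fin.last s))
    have h3 : Irr (G := G) f3 := by
      refine ⟨fun k hk => hf.1 k fun j => ?_, fun i => ?_⟩
      · induction j using Fin.lastCases with
        | last => simpa [f3] using hk (Fin.last _)
        | cast j => simpa [f3, Fin.init] using hk j.castSucc.castSucc
      · induction i using Fin.lastCases with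
        | last =>
          refine ⟨h, fun j hj => ?_, by simpa [f3] using hlast⟩
          obtain ⟨j', rfl⟩ := Fin.exists_castSucc_eq.mpr hj.ne
          simpa [f3] using hh j'
        | cast i =>
          induction i using Fin.lastCases with
          | last =>
            refine ⟨g, fun j hj => ?_, by simpa [f3] using hgy⟩
            obtain ⟨j', rfl⟩ := Fin.exists_castSucc_eq.mpr (hj.trans (Fin.castSucc_lt_last _)).ne
            have hj2 : j' < Fin.last s := Fin.castSucc_lt_castSucc_iff.mp hj
            obtain ⟨j'', rfl⟩ := Fin.exists_castSucc_eq.mpr hj2.ne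
            simpa [f3, Fin.init] using hg j''.castSucc (Fin.castSucc_lt_last _)
          | cast i =>
            obtain ⟨k, hk, hkm⟩ := hf.2 i.castSucc
            refine ⟨k, fun j hj => ?_, by simpa [f3, Fin.init] using hkm⟩
            obtain ⟨j', rfl⟩ := Fin.exists_castSucc_eq.mpr (hj.trans (Fin.castSucc_lt_last _)).ne
            have hj2 : j' < i.castSucc := Fin.castSucc_lt_castSucc_iff.mp hj
            obtain ⟨j'', rfl⟩ := Fin.exists_castSucc_eq.mpr (hj2.trans (Fin.castSucc_lt_last _)).ne
            simpa [f3, Fin.init] using hk j''.castSucc hj2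
    have h4 := hre _ f3 (Equiv.swap (Fin.last s).castSucc (Fin.last (s + 1))) h3
    obtain ⟨k, hk, hkm⟩ := h4.2 (Fin.last (s + 1))
    apply hkm
    have hk1 : k = 1 := hf.1 k fun j => by
      induction j using Fin.lastCases with
      | last =>
        have := hk (Fin.last s).castSucc (Fin.castSucc_lt_last _)
        simpa [f3, Equiv.swap_apply_left] using this
      | cast j =>
        have := hk j.castSucc.castSucc (Fin.castSucc_lt_last _)
        rw [Function.comp_apply, Equiv.swap_apply_of_ne_of_ne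
          (by simp [Fin.ext_iff]; omega) (by simp [Fin.ext_iff]; omega)] at this
        simpa [f3, Fin.init] using this
    rw [hk1, one_smul]
  · induction i using Fin.lastCases with
    | last =>
      refine ⟨g, fun j hj => ?_, by simpa using hgy⟩
      obtain ⟨j', rfl⟩ := Fin.exists_castSucc_eq.mpr hj.ne
      simpa [Fin.init] using hg j'.castSucc hj
    | cast i =>
      obtain ⟨k, hk, hkm⟩ := hf.2 i.castSucc
      refine ⟨k, fun j hj => ?_, by simpa [Fin.init] using hkm⟩
      obtain ⟨j', rfl⟩ := Fin.exists_castSucc_eq.mpr (hj.trans (Fin.castSucc_lt_last _)).ne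
      simpa [Fin.init] using hk j'.castSucc hj

theorem length_eq
    (hre : ∀ (t : ℕ) (f : Fin t → Ω) (σ : Equiv.Perm (Fin t)),
      Irr (G := G) f → Irr (G := G) (f ∘ σ))
    {t t' : ℕ} (f' : Fin t' → Ω) (hf' : Irr (G := G) f') :
    ∀ (m : ℕ) (f : Fin t → Ω), Irr (G := G) f → {i | f i ∉ Set.range f'}.ncard ≤ m → t = t' := by
  classical
  have hinj : ∀ {n : ℕ} (u : Fin n → Ω), Irr (G := G) u → Function.Injective u := by
    intro n u hu i j e
    by_contra hne
    rcases lt_or_gt_of_ne hne with hlt | hlt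
    · obtain ⟨g, hg, hgm⟩ := hu.2 j; exact hgm (e ▸ hg i hlt)
    · obtain ⟨g, hg, hgm⟩ := hu.2 i; exact hgm (e.symm ▸ hg j hlt)
  intro m
  induction m with
  | zero =>
    intro f hf hm
    have hsub : ∀ i, f i ∈ Set.range f' := fun i => by
      by_contra hi
      have := (Set.ncard_pos (Set.toFinite _)).mpr
        (⟨i, hi⟩ : Set.Nonempty {i | f i ∉ Set.range f'})
      omega
    choose e he using hsub
    refine (Fintype.card_fin t).symm.trans
      ((Fintype.card_of_bijective (f := e) ⟨?_, ?_⟩).trans (Fintype.card_fin t'))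
    · exact fun a b h => hinj f hf (by rw [← he a, ← he b, h])
    · intro k
      by_contra hk
      push_neg at hk
      rcases t' with _ | s'
      · exact k.elim0
      obtain ⟨g, hg, hgm⟩ := (hre _ f' (Equiv.swap k (Fin.last s')) hf').2 (Fin.last s')
      refine hgm ?_
      rw [hf.1 g fun i => ?_, one_smul]
      rw [← he i]
      have h' := hg (Equiv.swap k (Fin.last s') (e i)) (lt_of_le_of_ne (Fin.le_last _) fun h' => by
        refine hk i ?_
        have := congrArg (Equiv.swap k (Fin.last s')) h'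
        simpa using this)
      simpa using h'
  | succ m ih =>
    intro f hf hm
    by_cases h : {i | f i ∉ Set.range f'}.ncard ≤ m
    · exact ih f hf h
    obtain ⟨i, hi⟩ := Set.nonempty_of_ncard_ne_zero
      (show {i | f i ∉ Set.range f'}.ncard ≠ 0 by omega)
    rcases t with _ | s
    · exact i.elim0
    set σ := Equiv.swap i (Fin.last s)
    have hf1 : Irr (G := G) (f ∘ σ) := hre _ f σ hf
    obtain ⟨y, hy, hy2⟩ := exchange hre (Ω' := Set.range f')
      (fun g hg => hf'.1 g fun k => hg _ ⟨k, rfl⟩) (f ∘ σ) hf1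
    refine ih _ hy2 ?_
    have hsub : {j | (Fin.snoc (Fin.init (f ∘ σ)) y : Fin (s + 1) → Ω) j ∉ Set.range f'} ⊆
        σ '' ({i | f i ∉ Set.range f'} \ {i}) := by
      intro j hj
      induction j using Fin.lastCases with
      | last => simp only [Set.mem_ofPred_eq, Fin.snoc_last] at hj; exact absurd hy hj
      | cast j =>
        refine ⟨σ j.castSucc, ⟨by simpa [Fin.init] using hj, ?_⟩, Equiv.swap_apply_self _ _ _⟩
        intro e
        have e2 := congrArg σ (Set.mem_singleton_iff.mp e)
        simp only [σ, Equiv.swap_apply_self, Equiv.swap_apply_left] at e2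
        exact (Fin.castSucc_lt_last j).ne e2
    have := Set.ncard_le_ncard hsub
    rw [Set.ncard_image_of_injective _ σ.injective, Set.ncard_diff_singleton_of_mem hi] at this
    omega

end

/-- Let a finite group G act on a finite set Ω. An irredundant base is a sequence of points ω₁, …, ω_t whose pointwise stabiliser is trivial and in which each ω_i is moved by some element fixing ω₁, …, ω_{i−1}. Then all irredundant bases have the same length if and only if every reordering of an irredundant base is again an irredundant base. -/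
theorem result {G Ω : Type*} [Group G] [Finite G] [MulAction G Ω] [Fintype Ω] :
    (∀ (t t' : ℕ) (f : Fin t → Ω) (f' : Fin t' → Ω), ((∀ g : G, (∀ i : Fin t, g • f i = f i) → g = 1) ∧ ∀ i : Fin t, ∃ g : G, (∀ j : Fin t, j < i → g • f j = f j) ∧ g • f i ≠ f i) → ((∀ g : G, (∀ i : Fin t', g • f' i = f' i) → g = 1) ∧ ∀ i : Fin t', ∃ g : G, (∀ j : Fin t', j < i → g • f' j = f' j) ∧ g • f' i ≠ f' i) → t = t') ↔
    (∀ (t : ℕ) (f : Fin t → Ω) (σ : Equiv.Perm (Fin t)), ((∀ g : G, (∀ i : Fin t, g • f i = f i) → g = 1) ∧ ∀ i : Fin t, ∃ g : G, (∀ j : Fin t, j < i → g • f j = f j) ∧ g • f i ≠ f i) → ((∀ g : G, (∀ i : Fin t, g • (f ∘ σ) i = (f ∘ σ) i) → g = 1) ∧ ∀ i : Fin t, ∃ g : G, (∀ j : Fin t, j < i → g • (f ∘ σ) j = (f ∘ σ) j) ∧ g • (f ∘ σ) i ≠ (f ∘ σ) i)) := by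
  constructor
  · intro hall t f σ hf
    obtain ⟨s, f', hI, hs, -⟩ := exists_shorter (G := G) t (f ∘ σ) fun g hg => hf.1 g fun i => by
      simpa using hg (σ.symm i)
    exact hs (hall t s f f' hf hI).symm
  · intro hre t t' f f' hf hf'
    exact length_eq hre f' hf' _ f hf le_rfl

end Cfsg.Agent.S5747
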