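import Cfsg.Statements.S5752
import Cfsg.Agent.Lib.ThompsonWielandt.Primitive

set_option autoImplicit false
open Cfsg

namespace Cfsg.Agent.S5752

/-- A form of the Thompson–Wielandt Theorem on primitive permutation groups. Let G be a finite group and M₁, M₂ two distinct conjugate maximal subgroups of G with trivial core in G; define two descending sequences of subgroups by A₀ = M₁, B₀ = M₂ and, for every i, A_{i+1} = the core in M₁ of A_i ∩ B_i and B_{i+1} = the core in M₂ of A_i ∩ B_i (the core in M of a subgroup Y ≤ M is the largest normal subgroup of M contained in Y). If A₂ and B₂ are both non-trivial, then for some prime p the subgroup generated by A₂ and B₂ is a p-group, and for each j the generalized Fitting subgroups of M_j and of its first core (A₁, resp. B₁) are their largest normal p-subgroups. -/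
theorem result {G : Type*} [Group G] [Finite G] (M₁ M₂ : Subgroup G) (hmax : IsCoatom M₁) (g : G)
    (hconj : M₂ = M₁.map (MulAut.conj g).toMonoidHom) (hne : M₁ ≠ M₂) (hcore : M₁.normalCore = ⊥)
    (A B : ℕ → Subgroup G) (hA0 : A 0 = M₁) (hB0 : B 0 = M₂)
    (hA : ∀ i, A (i + 1) = ((A i ⊓ B i).subgroupOf M₁).normalCore.map M₁.subtype)
    (hB : ∀ i, B (i + 1) = ((A i ⊓ B i).subgroupOf M₂).normalCore.map M₂.subtype) (hA2 : A 2 ≠ ⊥) (hB2 : B 2 ≠ ⊥) :
    ∃ p : ℕ, p.Prime ∧ IsPGroup p ↥(A 2 ⊔ B 2) ∧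
      Cfsg.generalizedFittingSubgroup ↥M₁ = Cfsg.pCore p ↥M₁ ∧ Cfsg.generalizedFittingSubgroup ↥(A 1) = Cfsg.pCore p ↥(A 1) ∧
      Cfsg.generalizedFittingSubgroup ↥M₂ = Cfsg.pCore p ↥M₂ ∧ Cfsg.generalizedFittingSubgroup ↥(B 1) = Cfsg.pCore p ↥(B 1) := by
  classical
  set N : Subgroup G := M₁.map (MulAut.conj g).toMonoidHom with hN
  subst hconj
  have hmax2 : IsCoatom N := by
    have h := ((MulEquiv.mapSubgroup (MulAut.conj g)).isCoatom_iff M₁).2 hmax
    exact h
  have hcore2 : N.normalCore = ⊥ := by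
    rw [eq_bot_iff, ← hcore]
    refine Subgroup.normal_le_normalCore.2 fun x hx => ?_
    obtain ⟨y, hy, hyx⟩ := Subgroup.normalCore_le _ ((N.normalCore_normal).conj_mem x hx g)
    have hyx' : g * y * g⁻¹ = g * x * g⁻¹ := hyx
    exact mul_left_cancel (mul_right_cancel hyx') ▸ hy
  have hpair : CfsgLib.ThompsonWielandt.Pair M₁ N := ⟨hmax, hmax2, hcore, hcore2, hne⟩
  let e : M₁ ≃* N := M₁.equivMapOfInjective (MulAut.conj g).toMonoidHom (MulAut.conj g).injective
  have hA1 : A 1 = CfsgLib.ThompsonWielandt.A₁ M₁ N := by rw [hA, hA0, hB0]; rfl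
  have hB1 : B 1 = CfsgLib.ThompsonWielandt.A₁ N M₁ := by rw [hB, hA0, hB0, inf_comm]; rfl
  have hA2' : A 2 = CfsgLib.ThompsonWielandt.A₂ M₁ N := by rw [hA, hA1, hB1]; rfl
  have hB2' : B 2 = CfsgLib.ThompsonWielandt.A₂ N M₁ := by rw [hB, hA1, hB1, inf_comm]; rfl
  rw [hA2'] at hA2
  rw [hB2'] at hB2
  obtain ⟨p, hp, hpA, hpB⟩ := hpair.exists_prime hA2 hB2
  haveI := Fact.mk hp
  refine ⟨p, hp, ?_, hpair.generalizedFitting hA2 hB2 hpA hpB, ?_,
    hpair.symm.generalizedFitting hB2 hA2 hpB hpA, ?_⟩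
  · rw [hA2', hB2']
    refine IsPGroup.to_sup_of_normal_right' (hpair.isPGroup_A₂ e hpA)
      (hpair.symm.isPGroup_A₂ e.symm hpB) ?_
    exact (((CfsgLib.ThompsonWielandt.A₂_le_A₁ M₁ N).trans
      (CfsgLib.ThompsonWielandt.A₁_le_inf M₁ N)).trans inf_le_right).trans
      (CfsgLib.ThompsonWielandt.le_normalizer_coreIn _ _)
  · rw [hA1]
    exact hpair.generalizedFitting_A₁ hA2 hB2 hpA hpB
  · rw [hB1]
    exact hpair.symm.generalizedFitting_A₁ hB2 hA2 hpB hpA

end Cfsg.Agent.S5752
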