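import Cfsg.Statements.S5754
import Cfsg.Agent.Lib.Classical.AnisotropicWitt

set_option autoImplicit false
open Cfsg

namespace Cfsg.Agent.S5754

/-- Let V be a finite-dimensional vector space over a finite field F carrying an anisotropic quadratic form Q (Q(v) = 0 only for v = 0). Then the group of all maps v ↦ φ(v) + c, with φ an isometry of Q and c ∈ V, acts on V as a binary permutation group: given n ≥ 2 and two n-tuples u, u' of vectors such that every pair of corresponding entries of u is carried to that of u' by such a map, one such map carries u to u'. -/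
theorem result {F V : Type*} [Field F] [Finite F] [AddCommGroup V] [Module F V] [Module.Finite F V]
    (Q : QuadraticForm F V) (hQ : Q.Anisotropic) (n : ℕ) (hn : 2 ≤ n) (u u' : Fin n → V)
    (h2 : ∀ i j : Fin n, i ≠ j → ∃ (φ : Q.IsometryEquiv Q) (c : V), φ (u i) + c = u' i ∧ φ (u j) + c = u' j) :
    ∃ (φ : Q.IsometryEquiv Q) (c : V), ∀ i, φ (u i) + c = u' i := by
  let i₀ : Fin n := ⟨0, by omega⟩
  set x : Fin n → V := fun i => u i - u i₀ with hx
  set y : Fin n → V := fun i => u' i - u' i₀ with hy
  have hdiff : ∀ i j : Fin n, Q (u i - u j) = Q (u' i - u' j) := by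
    intro i j
    by_cases hij : i = j
    · simp [hij]
    obtain ⟨φ, c, hi, hj⟩ := h2 i j hij
    have hsub : φ (u i - u j) = φ (u i) - φ (u j) := φ.toLinearEquiv.map_sub _ _
    rw [← φ.map_app, hsub, ← hi, ← hj, add_sub_add_right_eq_sub]
  have h1 : ∀ i, Q (x i) = Q (y i) := fun i => hdiff i i₀
  have hp : ∀ i j, QuadraticMap.polar Q (x i) (x j) = QuadraticMap.polar Q (y i) (y j) := by
    have key : ∀ a b : V, QuadraticMap.polar Q a b = Q a + Q b - Q (a - b) := by
      intro a b
      rw [sub_eq_add_neg a b, QuadraticMap.map_add (⇑Q), QuadraticMap.map_neg, QuadraticMap.polar_neg_right]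
      ring
    intro i j
    rw [key, key, h1, h1]
    congr 1
    simp only [hx, hy, sub_sub_sub_cancel_right]
    exact hdiff i j
  obtain ⟨φ, hφ⟩ := CfsgLib.Classical.exists_isometry_of_anisotropic Q hQ Finset.univ x y h1 hp
  refine ⟨φ, u' i₀ - φ (u i₀), fun i => ?_⟩
  have h := hφ i (Finset.mem_univ i)
  have hsub : φ (x i) = φ (u i) - φ (u i₀) := φ.toLinearEquiv.map_sub _ _
  rw [hsub] at h
  rw [add_sub, add_comm, add_sub_assoc, h, hy, add_sub_cancel]

end Cfsg.Agent.S5754
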