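import Cfsg.Statements.S5763
import Mathlib
-- import your own Cfsg.Agent.* helpers here

set_option autoImplicit false
open Cfsg

namespace Cfsg.Agent.S5763

open Equiv

abbrev SwapList := List (Fin 8 × Fin 8)

/-- product of a list of transpositions -/
def ev (l : SwapList) : Perm (Fin 8) := (l.map fun p => Equiv.swap p.1 p.2).prod

def z0 : Perm (Fin 8) := ev [(0, 1), (2, 3), (4, 5), (6, 7)]

def table : List (SwapList × List SwapList) := [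
  ([(0, 1), (2, 3), (4, 5), (6, 7)], [[], [(6, 7)], [(4, 5)], [(2, 3)], [(0, 1)], [(4, 5), (6, 7)], [(4, 6), (5, 7)]]),
  ([(0, 1), (2, 3), (4, 6), (5, 7)], [[], [(2, 3)], [(0, 1)], [(4, 5), (6, 7)], [(4, 6), (5, 7)], [(4, 7), (5, 6)], [(0, 1), (2, 3)]]),
  ([(0, 1), (2, 3), (4, 7), (5, 6)], [[], [(2, 3)], [(0, 1)], [(4, 5), (6, 7)], [(4, 6), (5, 7)], [(4, 7), (5, 6)], [(0, 1), (2, 3)]]),
  ([(0, 1), (2, 4), (3, 5), (6, 7)], [[], [(6, 7)], [(0, 1)], [(2, 3), (4, 5)], [(2, 4), (3, 5)], [(2, 5), (3, 4)], [(0, 1), (6, 7)]]),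
  ([(0, 1), (2, 4), (3, 6), (5, 7)], [[], [(0, 1)], [(2, 3), (4, 6), (5, 7)], [(2, 4), (3, 5), (6, 7)], [(2, 7), (3, 6), (4, 5)], [(2, 5), (3, 4), (4, 7), (5, 6)], [(2, 6), (3, 7), (4, 7), (5, 6)]]),
  ([(0, 1), (2, 4), (3, 7), (5, 6)], [[], [(0, 1)], [(2, 3), (4, 7), (5, 6)], [(2, 4), (3, 5), (6, 7)], [(2, 6), (3, 7), (4, 5)], [(2, 5), (3, 4), (4, 6), (5, 7)], [(2, 7), (3, 6), (4, 6), (5, 7)]]),
  ([(0, 1), (2, 5), (3, 4), (6, 7)], [[], [(6, 7)], [(0, 1)], [(2, 3), (4, 5)], [(2, 4), (3, 5)], [(2, 5), (3, 4)], [(0, 1), (6, 7)]]),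
  ([(0, 1), (2, 5), (3, 6), (4, 7)], [[], [(0, 1)], [(2, 3), (4, 7), (5, 6)], [(2, 5), (3, 4), (6, 7)], [(2, 7), (3, 6), (4, 5)], [(2, 4), (3, 5), (4, 6), (5, 7)], [(2, 6), (3, 7), (4, 6), (5, 7)]]),
  ([(0, 1), (2, 5), (3, 7), (4, 6)], [[], [(0, 1)], [(2, 3), (4, 6), (5, 7)], [(2, 5), (3, 4), (6, 7)], [(2, 6), (3, 7), (4, 5)], [(2, 4), (3, 5), (4, 7), (5, 6)], [(2, 7), (3, 6), (4, 7), (5, 6)]]),
  ([(0, 1), (2, 6), (3, 4), (5, 7)], [[], [(0, 1)], [(2, 3), (4, 6), (5, 7)], [(2, 5), (3, 4), (6, 7)], [(2, 6), (3, 7), (4, 5)], [(2, 4), (3, 5), (4, 7), (5, 6)], [(2, 7), (3, 6), (4, 7), (5, 6)]]),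
  ([(0, 1), (2, 6), (3, 5), (4, 7)], [[], [(0, 1)], [(2, 3), (4, 7), (5, 6)], [(2, 4), (3, 5), (6, 7)], [(2, 6), (3, 7), (4, 5)], [(2, 5), (3, 4), (4, 6), (5, 7)], [(2, 7), (3, 6), (4, 6), (5, 7)]]),
  ([(0, 1), (2, 6), (3, 7), (4, 5)], [[], [(4, 5)], [(0, 1)], [(2, 3), (6, 7)], [(2, 6), (3, 7)], [(2, 7), (3, 6)], [(0, 1), (4, 5)]]),
  ([(0, 1), (2, 7), (3, 4), (5, 6)], [[], [(0, 1)], [(2, 3), (4, 7), (5, 6)], [(2, 5), (3, 4), (6, 7)], [(2, 7), (3, 6), (4, 5)], [(2, 4), (3, 5), (4, 6), (5, 7)], [(2, 6), (3, 7), (4, 6), (5, 7)]]),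
  ([(0, 1), (2, 7), (3, 5), (4, 6)], [[], [(0, 1)], [(2, 3), (4, 6), (5, 7)], [(2, 4), (3, 5), (6, 7)], [(2, 7), (3, 6), (4, 5)], [(2, 5), (3, 4), (4, 7), (5, 6)], [(2, 6), (3, 7), (4, 7), (5, 6)]]),
  ([(0, 1), (2, 7), (3, 6), (4, 5)], [[], [(4, 5)], [(0, 1)], [(2, 3), (6, 7)], [(2, 6), (3, 7)], [(2, 7), (3, 6)], [(0, 1), (4, 5)]]),
  ([(0, 2), (1, 3), (4, 5), (6, 7)], [[], [(6, 7)], [(4, 5)], [(4, 5), (6, 7)], [(4, 6), (5, 7)], [(4, 7), (5, 6)], [(0, 1), (2, 3)]]),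
  ([(0, 2), (1, 3), (4, 6), (5, 7)], [[], [(4, 5), (6, 7)], [(4, 6), (5, 7)], [(4, 7), (5, 6)], [(0, 1), (2, 3)], [(0, 2), (1, 3)], [(0, 3), (1, 2)]]),
  ([(0, 2), (1, 3), (4, 7), (5, 6)], [[], [(4, 5), (6, 7)], [(4, 6), (5, 7)], [(4, 7), (5, 6)], [(0, 1), (2, 3)], [(0, 2), (1, 3)], [(0, 3), (1, 2)]]),
  ([(0, 2), (1, 4), (3, 5), (6, 7)], [[], [(6, 7)], [(0, 1), (2, 4), (3, 5)], [(0, 2), (1, 3), (4, 5)], [(0, 5), (1, 4), (2, 3)], [(0, 1), (2, 4), (3, 5), (6, 7)], [(0, 2), (1, 3), (4, 5), (6, 7)]]),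
  ([(0, 2), (1, 4), (3, 6), (5, 7)], [[], [(0, 1), (2, 4), (3, 5), (6, 7)], [(0, 2), (1, 3), (4, 6), (5, 7)], [(0, 5), (1, 4), (2, 7), (3, 6)], [(0, 6), (1, 7), (2, 3), (4, 5)], [(0, 7), (1, 6), (2, 5), (3, 4)], [(0, 3), (1, 2), (2, 6), (3, 7), (4, 7), (5, 6)]]),
  ([(0, 2), (1, 4), (3, 7), (5, 6)], [[], [(0, 1), (2, 4), (3, 5), (6, 7)], [(0, 2), (1, 3), (4, 7), (5, 6)], [(0, 5), (1, 4), (2, 6), (3, 7)], [(0, 6), (1, 7), (2, 5), (3, 4)], [(0, 7), (1, 6), (2, 3), (4, 5)], [(0, 3), (1, 2), (2, 7), (3, 6), (4, 6), (5, 7)]]),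
  ([(0, 2), (1, 5), (3, 4), (6, 7)], [[], [(6, 7)], [(0, 1), (2, 5), (3, 4)], [(0, 2), (1, 3), (4, 5)], [(0, 4), (1, 5), (2, 3)], [(0, 1), (2, 5), (3, 4), (6, 7)], [(0, 2), (1, 3), (4, 5), (6, 7)]]),
  ([(0, 2), (1, 5), (3, 6), (4, 7)], [[], [(0, 1), (2, 5), (3, 4), (6, 7)], [(0, 2), (1, 3), (4, 7), (5, 6)], [(0, 4), (1, 5), (2, 7), (3, 6)], [(0, 6), (1, 7), (2, 3), (4, 5)], [(0, 7), (1, 6), (2, 4), (3, 5)], [(0, 3), (1, 2), (2, 6), (3, 7), (4, 6), (5, 7)]]),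
  ([(0, 2), (1, 5), (3, 7), (4, 6)], [[], [(0, 1), (2, 5), (3, 4), (6, 7)], [(0, 2), (1, 3), (4, 6), (5, 7)], [(0, 4), (1, 5), (2, 6), (3, 7)], [(0, 6), (1, 7), (2, 4), (3, 5)], [(0, 7), (1, 6), (2, 3), (4, 5)], [(0, 3), (1, 2), (2, 7), (3, 6), (4, 7), (5, 6)]]),
  ([(0, 2), (1, 6), (3, 4), (5, 7)], [[], [(0, 1), (2, 6), (3, 7), (4, 5)], [(0, 2), (1, 3), (4, 6), (5, 7)], [(0, 4), (1, 5), (2, 3), (6, 7)], [(0, 5), (1, 4), (2, 7), (3, 6)], [(0, 7), (1, 6), (2, 5), (3, 4)], [(0, 3), (1, 2), (2, 4), (3, 5), (4, 7), (5, 6)]]),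
  ([(0, 2), (1, 6), (3, 5), (4, 7)], [[], [(0, 1), (2, 6), (3, 7), (4, 5)], [(0, 2), (1, 3), (4, 7), (5, 6)], [(0, 4), (1, 5), (2, 7), (3, 6)], [(0, 5), (1, 4), (2, 3), (6, 7)], [(0, 7), (1, 6), (2, 4), (3, 5)], [(0, 3), (1, 2), (2, 5), (3, 4), (4, 6), (5, 7)]]),
  ([(0, 2), (1, 6), (3, 7), (4, 5)], [[], [(4, 5)], [(0, 1), (2, 6), (3, 7)], [(0, 2), (1, 3), (6, 7)], [(0, 7), (1, 6), (2, 3)], [(0, 1), (2, 6), (3, 7), (4, 5)], [(0, 2), (1, 3), (4, 5), (6, 7)]]),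
  ([(0, 2), (1, 7), (3, 4), (5, 6)], [[], [(0, 1), (2, 7), (3, 6), (4, 5)], [(0, 2), (1, 3), (4, 7), (5, 6)], [(0, 4), (1, 5), (2, 3), (6, 7)], [(0, 5), (1, 4), (2, 6), (3, 7)], [(0, 6), (1, 7), (2, 5), (3, 4)], [(0, 3), (1, 2), (2, 4), (3, 5), (4, 6), (5, 7)]]),
  ([(0, 2), (1, 7), (3, 5), (4, 6)], [[], [(0, 1), (2, 7), (3, 6), (4, 5)], [(0, 2), (1, 3), (4, 6), (5, 7)], [(0, 4), (1, 5), (2, 6), (3, 7)], [(0, 5), (1, 4), (2, 3), (6, 7)], [(0, 6), (1, 7), (2, 4), (3, 5)], [(0, 3), (1, 2), (2, 5), (3, 4), (4, 7), (5, 6)]]),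
  ([(0, 2), (1, 7), (3, 6), (4, 5)], [[], [(4, 5)], [(0, 1), (2, 7), (3, 6)], [(0, 2), (1, 3), (6, 7)], [(0, 6), (1, 7), (2, 3)], [(0, 1), (2, 7), (3, 6), (4, 5)], [(0, 2), (1, 3), (4, 5), (6, 7)]]),
  ([(0, 3), (1, 2), (4, 5), (6, 7)], [[], [(6, 7)], [(4, 5)], [(4, 5), (6, 7)], [(4, 6), (5, 7)], [(4, 7), (5, 6)], [(0, 1), (2, 3)]]),
  ([(0, 3), (1, 2), (4, 6), (5, 7)], [[], [(4, 5), (6, 7)], [(4, 6), (5, 7)], [(4, 7), (5, 6)], [(0, 1), (2, 3)], [(0, 2), (1, 3)], [(0, 3), (1, 2)]]),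
  ([(0, 3), (1, 2), (4, 7), (5, 6)], [[], [(4, 5), (6, 7)], [(4, 6), (5, 7)], [(4, 7), (5, 6)], [(0, 1), (2, 3)], [(0, 2), (1, 3)], [(0, 3), (1, 2)]]),
  ([(0, 3), (1, 4), (2, 5), (6, 7)], [[], [(6, 7)], [(0, 1), (2, 5), (3, 4)], [(0, 3), (1, 2), (4, 5)], [(0, 5), (1, 4), (2, 3)], [(0, 1), (2, 5), (3, 4), (6, 7)], [(0, 2), (1, 3), (2, 4), (3, 5)]]),
  ([(0, 3), (1, 4), (2, 6), (5, 7)], [[], [(0, 1), (2, 5), (3, 4), (6, 7)], [(0, 3), (1, 2), (4, 6), (5, 7)], [(0, 5), (1, 4), (2, 6), (3, 7)], [(0, 6), (1, 7), (2, 3), (4, 5)], [(0, 7), (1, 6), (2, 4), (3, 5)], [(0, 2), (1, 3), (2, 7), (3, 6), (4, 7), (5, 6)]]),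
  ([(0, 3), (1, 4), (2, 7), (5, 6)], [[], [(0, 1), (2, 5), (3, 4), (6, 7)], [(0, 3), (1, 2), (4, 7), (5, 6)], [(0, 5), (1, 4), (2, 7), (3, 6)], [(0, 6), (1, 7), (2, 4), (3, 5)], [(0, 7), (1, 6), (2, 3), (4, 5)], [(0, 2), (1, 3), (2, 6), (3, 7), (4, 6), (5, 7)]]),
  ([(0, 3), (1, 5), (2, 4), (6, 7)], [[], [(6, 7)], [(0, 1), (2, 4), (3, 5)], [(0, 3), (1, 2), (4, 5)], [(0, 4), (1, 5), (2, 3)], [(0, 1), (2, 4), (3, 5), (6, 7)], [(0, 2), (1, 3), (2, 5), (3, 4)]]),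
  ([(0, 3), (1, 5), (2, 6), (4, 7)], [[], [(0, 1), (2, 4), (3, 5), (6, 7)], [(0, 3), (1, 2), (4, 7), (5, 6)], [(0, 4), (1, 5), (2, 6), (3, 7)], [(0, 6), (1, 7), (2, 3), (4, 5)], [(0, 7), (1, 6), (2, 5), (3, 4)], [(0, 2), (1, 3), (2, 7), (3, 6), (4, 6), (5, 7)]]),
  ([(0, 3), (1, 5), (2, 7), (4, 6)], [[], [(0, 1), (2, 4), (3, 5), (6, 7)], [(0, 3), (1, 2), (4, 6), (5, 7)], [(0, 4), (1, 5), (2, 7), (3, 6)], [(0, 6), (1, 7), (2, 5), (3, 4)], [(0, 7), (1, 6), (2, 3), (4, 5)], [(0, 2), (1, 3), (2, 6), (3, 7), (4, 7), (5, 6)]]),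
  ([(0, 3), (1, 6), (2, 4), (5, 7)], [[], [(0, 1), (2, 7), (3, 6), (4, 5)], [(0, 3), (1, 2), (4, 6), (5, 7)], [(0, 4), (1, 5), (2, 3), (6, 7)], [(0, 5), (1, 4), (2, 6), (3, 7)], [(0, 7), (1, 6), (2, 4), (3, 5)], [(0, 2), (1, 3), (2, 5), (3, 4), (4, 7), (5, 6)]]),
  ([(0, 3), (1, 6), (2, 5), (4, 7)], [[], [(0, 1), (2, 7), (3, 6), (4, 5)], [(0, 3), (1, 2), (4, 7), (5, 6)], [(0, 4), (1, 5), (2, 6), (3, 7)], [(0, 5), (1, 4), (2, 3), (6, 7)], [(0, 7), (1, 6), (2, 5), (3, 4)], [(0, 2), (1, 3), (2, 4), (3, 5), (4, 6), (5, 7)]]),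
  ([(0, 3), (1, 6), (2, 7), (4, 5)], [[], [(4, 5)], [(0, 1), (2, 7), (3, 6)], [(0, 3), (1, 2), (6, 7)], [(0, 7), (1, 6), (2, 3)], [(0, 1), (2, 7), (3, 6), (4, 5)], [(0, 2), (1, 3), (2, 6), (3, 7)]]),
  ([(0, 3), (1, 7), (2, 4), (5, 6)], [[], [(0, 1), (2, 6), (3, 7), (4, 5)], [(0, 3), (1, 2), (4, 7), (5, 6)], [(0, 4), (1, 5), (2, 3), (6, 7)], [(0, 5), (1, 4), (2, 7), (3, 6)], [(0, 6), (1, 7), (2, 4), (3, 5)], [(0, 2), (1, 3), (2, 5), (3, 4), (4, 6), (5, 7)]]),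
  ([(0, 3), (1, 7), (2, 5), (4, 6)], [[], [(0, 1), (2, 6), (3, 7), (4, 5)], [(0, 3), (1, 2), (4, 6), (5, 7)], [(0, 4), (1, 5), (2, 7), (3, 6)], [(0, 5), (1, 4), (2, 3), (6, 7)], [(0, 6), (1, 7), (2, 5), (3, 4)], [(0, 2), (1, 3), (2, 4), (3, 5), (4, 7), (5, 6)]]),
  ([(0, 3), (1, 7), (2, 6), (4, 5)], [[], [(4, 5)], [(0, 1), (2, 6), (3, 7)], [(0, 3), (1, 2), (6, 7)], [(0, 6), (1, 7), (2, 3)], [(0, 1), (2, 6), (3, 7), (4, 5)], [(0, 2), (1, 3), (2, 7), (3, 6)]]),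
  ([(0, 4), (1, 2), (3, 5), (6, 7)], [[], [(6, 7)], [(0, 1), (2, 4), (3, 5)], [(0, 3), (1, 2), (4, 5)], [(0, 4), (1, 5), (2, 3)], [(0, 1), (2, 4), (3, 5), (6, 7)], [(0, 2), (1, 3), (2, 5), (3, 4)]]),
  ([(0, 4), (1, 2), (3, 6), (5, 7)], [[], [(0, 1), (2, 4), (3, 5), (6, 7)], [(0, 3), (1, 2), (4, 6), (5, 7)], [(0, 4), (1, 5), (2, 7), (3, 6)], [(0, 6), (1, 7), (2, 5), (3, 4)], [(0, 7), (1, 6), (2, 3), (4, 5)], [(0, 2), (1, 3), (2, 6), (3, 7), (4, 7), (5, 6)]]),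
  ([(0, 4), (1, 2), (3, 7), (5, 6)], [[], [(0, 1), (2, 4), (3, 5), (6, 7)], [(0, 3), (1, 2), (4, 7), (5, 6)], [(0, 4), (1, 5), (2, 6), (3, 7)], [(0, 6), (1, 7), (2, 3), (4, 5)], [(0, 7), (1, 6), (2, 5), (3, 4)], [(0, 2), (1, 3), (2, 7), (3, 6), (4, 6), (5, 7)]]),
  ([(0, 4), (1, 3), (2, 5), (6, 7)], [[], [(6, 7)], [(0, 1), (2, 5), (3, 4)], [(0, 2), (1, 3), (4, 5)], [(0, 4), (1, 5), (2, 3)], [(0, 1), (2, 5), (3, 4), (6, 7)], [(0, 2), (1, 3), (4, 5), (6, 7)]]),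
  ([(0, 4), (1, 3), (2, 6), (5, 7)], [[], [(0, 1), (2, 5), (3, 4), (6, 7)], [(0, 2), (1, 3), (4, 6), (5, 7)], [(0, 4), (1, 5), (2, 6), (3, 7)], [(0, 6), (1, 7), (2, 4), (3, 5)], [(0, 7), (1, 6), (2, 3), (4, 5)], [(0, 3), (1, 2), (2, 7), (3, 6), (4, 7), (5, 6)]]),
  ([(0, 4), (1, 3), (2, 7), (5, 6)], [[], [(0, 1), (2, 5), (3, 4), (6, 7)], [(0, 2), (1, 3), (4, 7), (5, 6)], [(0, 4), (1, 5), (2, 7), (3, 6)], [(0, 6), (1, 7), (2, 3), (4, 5)], [(0, 7), (1, 6), (2, 4), (3, 5)], [(0, 3), (1, 2), (2, 6), (3, 7), (4, 6), (5, 7)]]),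
  ([(0, 4), (1, 5), (2, 3), (6, 7)], [[], [(6, 7)], [(2, 3)], [(2, 3), (6, 7)], [(2, 6), (3, 7)], [(2, 7), (3, 6)], [(0, 1), (4, 5)]]),
  ([(0, 4), (1, 5), (2, 6), (3, 7)], [[], [(2, 3), (6, 7)], [(2, 6), (3, 7)], [(2, 7), (3, 6)], [(0, 1), (4, 5)], [(0, 4), (1, 5)], [(0, 5), (1, 4)]]),
  ([(0, 4), (1, 5), (2, 7), (3, 6)], [[], [(2, 3), (6, 7)], [(2, 6), (3, 7)], [(2, 7), (3, 6)], [(0, 1), (4, 5)], [(0, 4), (1, 5)], [(0, 5), (1, 4)]]),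
  ([(0, 4), (1, 6), (2, 3), (5, 7)], [[], [(2, 3)], [(0, 1), (4, 6), (5, 7)], [(0, 4), (1, 5), (6, 7)], [(0, 7), (1, 6), (4, 5)], [(0, 1), (2, 3), (4, 6), (5, 7)], [(0, 4), (1, 5), (2, 3), (6, 7)]]),
  ([(0, 4), (1, 6), (2, 5), (3, 7)], [[], [(0, 1), (2, 3), (4, 6), (5, 7)], [(0, 2), (1, 3), (4, 5), (6, 7)], [(0, 3), (1, 2), (4, 7), (5, 6)], [(0, 4), (1, 5), (2, 6), (3, 7)], [(0, 7), (1, 6), (2, 5), (3, 4)], [(0, 5), (1, 4), (2, 7), (3, 6), (4, 7), (5, 6)]]),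
  ([(0, 4), (1, 6), (2, 7), (3, 5)], [[], [(0, 1), (2, 3), (4, 6), (5, 7)], [(0, 2), (1, 3), (4, 7), (5, 6)], [(0, 3), (1, 2), (4, 5), (6, 7)], [(0, 4), (1, 5), (2, 7), (3, 6)], [(0, 7), (1, 6), (2, 4), (3, 5)], [(0, 5), (1, 4), (2, 6), (3, 7), (4, 7), (5, 6)]]),
  ([(0, 4), (1, 7), (2, 3), (5, 6)], [[], [(2, 3)], [(0, 1), (4, 7), (5, 6)], [(0, 4), (1, 5), (6, 7)], [(0, 6), (1, 7), (4, 5)], [(0, 1), (2, 3), (4, 7), (5, 6)], [(0, 4), (1, 5), (2, 3), (6, 7)]]),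
  ([(0, 4), (1, 7), (2, 5), (3, 6)], [[], [(0, 1), (2, 3), (4, 7), (5, 6)], [(0, 2), (1, 3), (4, 5), (6, 7)], [(0, 3), (1, 2), (4, 6), (5, 7)], [(0, 4), (1, 5), (2, 7), (3, 6)], [(0, 6), (1, 7), (2, 5), (3, 4)], [(0, 5), (1, 4), (2, 6), (3, 7), (4, 6), (5, 7)]]),
  ([(0, 4), (1, 7), (2, 6), (3, 5)], [[], [(0, 1), (2, 3), (4, 7), (5, 6)], [(0, 2), (1, 3), (4, 6), (5, 7)], [(0, 3), (1, 2), (4, 5), (6, 7)], [(0, 4), (1, 5), (2, 6), (3, 7)], [(0, 6), (1, 7), (2, 4), (3, 5)], [(0, 5), (1, 4), (2, 7), (3, 6), (4, 6), (5, 7)]]),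
  ([(0, 5), (1, 2), (3, 4), (6, 7)], [[], [(6, 7)], [(0, 1), (2, 5), (3, 4)], [(0, 3), (1, 2), (4, 5)], [(0, 5), (1, 4), (2, 3)], [(0, 1), (2, 5), (3, 4), (6, 7)], [(0, 2), (1, 3), (2, 4), (3, 5)]]),
  ([(0, 5), (1, 2), (3, 6), (4, 7)], [[], [(0, 1), (2, 5), (3, 4), (6, 7)], [(0, 3), (1, 2), (4, 7), (5, 6)], [(0, 5), (1, 4), (2, 7), (3, 6)], [(0, 6), (1, 7), (2, 4), (3, 5)], [(0, 7), (1, 6), (2, 3), (4, 5)], [(0, 2), (1, 3), (2, 6), (3, 7), (4, 6), (5, 7)]]),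
  ([(0, 5), (1, 2), (3, 7), (4, 6)], [[], [(0, 1), (2, 5), (3, 4), (6, 7)], [(0, 3), (1, 2), (4, 6), (5, 7)], [(0, 5), (1, 4), (2, 6), (3, 7)], [(0, 6), (1, 7), (2, 3), (4, 5)], [(0, 7), (1, 6), (2, 4), (3, 5)], [(0, 2), (1, 3), (2, 7), (3, 6), (4, 7), (5, 6)]]),
  ([(0, 5), (1, 3), (2, 4), (6, 7)], [[], [(6, 7)], [(0, 1), (2, 4), (3, 5)], [(0, 2), (1, 3), (4, 5)], [(0, 5), (1, 4), (2, 3)], [(0, 1), (2, 4), (3, 5), (6, 7)], [(0, 2), (1, 3), (4, 5), (6, 7)]]),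
  ([(0, 5), (1, 3), (2, 6), (4, 7)], [[], [(0, 1), (2, 4), (3, 5), (6, 7)], [(0, 2), (1, 3), (4, 7), (5, 6)], [(0, 5), (1, 4), (2, 6), (3, 7)], [(0, 6), (1, 7), (2, 5), (3, 4)], [(0, 7), (1, 6), (2, 3), (4, 5)], [(0, 3), (1, 2), (2, 7), (3, 6), (4, 6), (5, 7)]]),
  ([(0, 5), (1, 3), (2, 7), (4, 6)], [[], [(0, 1), (2, 4), (3, 5), (6, 7)], [(0, 2), (1, 3), (4, 6), (5, 7)], [(0, 5), (1, 4), (2, 7), (3, 6)], [(0, 6), (1, 7), (2, 3), (4, 5)], [(0, 7), (1, 6), (2, 5), (3, 4)], [(0, 3), (1, 2), (2, 6), (3, 7), (4, 7), (5, 6)]]),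
  ([(0, 5), (1, 4), (2, 3), (6, 7)], [[], [(6, 7)], [(2, 3)], [(2, 3), (6, 7)], [(2, 6), (3, 7)], [(2, 7), (3, 6)], [(0, 1), (4, 5)]]),
  ([(0, 5), (1, 4), (2, 6), (3, 7)], [[], [(2, 3), (6, 7)], [(2, 6), (3, 7)], [(2, 7), (3, 6)], [(0, 1), (4, 5)], [(0, 4), (1, 5)], [(0, 5), (1, 4)]]),
  ([(0, 5), (1, 4), (2, 7), (3, 6)], [[], [(2, 3), (6, 7)], [(2, 6), (3, 7)], [(2, 7), (3, 6)], [(0, 1), (4, 5)], [(0, 4), (1, 5)], [(0, 5), (1, 4)]]),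
  ([(0, 5), (1, 6), (2, 3), (4, 7)], [[], [(2, 3)], [(0, 1), (4, 7), (5, 6)], [(0, 5), (1, 4), (6, 7)], [(0, 7), (1, 6), (4, 5)], [(0, 1), (2, 3), (4, 7), (5, 6)], [(0, 4), (1, 5), (4, 6), (5, 7)]]),
  ([(0, 5), (1, 6), (2, 4), (3, 7)], [[], [(0, 1), (2, 3), (4, 7), (5, 6)], [(0, 2), (1, 3), (4, 5), (6, 7)], [(0, 3), (1, 2), (4, 6), (5, 7)], [(0, 5), (1, 4), (2, 6), (3, 7)], [(0, 7), (1, 6), (2, 4), (3, 5)], [(0, 4), (1, 5), (2, 7), (3, 6), (4, 6), (5, 7)]]),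
  ([(0, 5), (1, 6), (2, 7), (3, 4)], [[], [(0, 1), (2, 3), (4, 7), (5, 6)], [(0, 2), (1, 3), (4, 6), (5, 7)], [(0, 3), (1, 2), (4, 5), (6, 7)], [(0, 5), (1, 4), (2, 7), (3, 6)], [(0, 7), (1, 6), (2, 5), (3, 4)], [(0, 4), (1, 5), (2, 6), (3, 7), (4, 6), (5, 7)]]),
  ([(0, 5), (1, 7), (2, 3), (4, 6)], [[], [(2, 3)], [(0, 1), (4, 6), (5, 7)], [(0, 5), (1, 4), (6, 7)], [(0, 6), (1, 7), (4, 5)], [(0, 1), (2, 3), (4, 6), (5, 7)], [(0, 4), (1, 5), (4, 7), (5, 6)]]),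
  ([(0, 5), (1, 7), (2, 4), (3, 6)], [[], [(0, 1), (2, 3), (4, 6), (5, 7)], [(0, 2), (1, 3), (4, 5), (6, 7)], [(0, 3), (1, 2), (4, 7), (5, 6)], [(0, 5), (1, 4), (2, 7), (3, 6)], [(0, 6), (1, 7), (2, 4), (3, 5)], [(0, 4), (1, 5), (2, 6), (3, 7), (4, 7), (5, 6)]]),
  ([(0, 5), (1, 7), (2, 6), (3, 4)], [[], [(0, 1), (2, 3), (4, 6), (5, 7)], [(0, 2), (1, 3), (4, 7), (5, 6)], [(0, 3), (1, 2), (4, 5), (6, 7)], [(0, 5), (1, 4), (2, 6), (3, 7)], [(0, 6), (1, 7), (2, 5), (3, 4)], [(0, 4), (1, 5), (2, 7), (3, 6), (4, 7), (5, 6)]]),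
  ([(0, 6), (1, 2), (3, 4), (5, 7)], [[], [(0, 1), (2, 6), (3, 7), (4, 5)], [(0, 3), (1, 2), (4, 6), (5, 7)], [(0, 4), (1, 5), (2, 7), (3, 6)], [(0, 5), (1, 4), (2, 3), (6, 7)], [(0, 6), (1, 7), (2, 5), (3, 4)], [(0, 2), (1, 3), (2, 4), (3, 5), (4, 7), (5, 6)]]),
  ([(0, 6), (1, 2), (3, 5), (4, 7)], [[], [(0, 1), (2, 6), (3, 7), (4, 5)], [(0, 3), (1, 2), (4, 7), (5, 6)], [(0, 4), (1, 5), (2, 3), (6, 7)], [(0, 5), (1, 4), (2, 7), (3, 6)], [(0, 6), (1, 7), (2, 4), (3, 5)], [(0, 2), (1, 3), (2, 5), (3, 4), (4, 6), (5, 7)]]),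
  ([(0, 6), (1, 2), (3, 7), (4, 5)], [[], [(4, 5)], [(0, 1), (2, 6), (3, 7)], [(0, 3), (1, 2), (6, 7)], [(0, 6), (1, 7), (2, 3)], [(0, 1), (2, 6), (3, 7), (4, 5)], [(0, 2), (1, 3), (2, 7), (3, 6)]]),
  ([(0, 6), (1, 3), (2, 4), (5, 7)], [[], [(0, 1), (2, 7), (3, 6), (4, 5)], [(0, 2), (1, 3), (4, 6), (5, 7)], [(0, 4), (1, 5), (2, 6), (3, 7)], [(0, 5), (1, 4), (2, 3), (6, 7)], [(0, 6), (1, 7), (2, 4), (3, 5)], [(0, 3), (1, 2), (2, 5), (3, 4), (4, 7), (5, 6)]]),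
  ([(0, 6), (1, 3), (2, 5), (4, 7)], [[], [(0, 1), (2, 7), (3, 6), (4, 5)], [(0, 2), (1, 3), (4, 7), (5, 6)], [(0, 4), (1, 5), (2, 3), (6, 7)], [(0, 5), (1, 4), (2, 6), (3, 7)], [(0, 6), (1, 7), (2, 5), (3, 4)], [(0, 3), (1, 2), (2, 4), (3, 5), (4, 6), (5, 7)]]),
  ([(0, 6), (1, 3), (2, 7), (4, 5)], [[], [(4, 5)], [(0, 1), (2, 7), (3, 6)], [(0, 2), (1, 3), (6, 7)], [(0, 6), (1, 7), (2, 3)], [(0, 1), (2, 7), (3, 6), (4, 5)], [(0, 2), (1, 3), (4, 5), (6, 7)]]),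
  ([(0, 6), (1, 4), (2, 3), (5, 7)], [[], [(2, 3)], [(0, 1), (4, 6), (5, 7)], [(0, 5), (1, 4), (6, 7)], [(0, 6), (1, 7), (4, 5)], [(0, 1), (2, 3), (4, 6), (5, 7)], [(0, 4), (1, 5), (4, 7), (5, 6)]]),
  ([(0, 6), (1, 4), (2, 5), (3, 7)], [[], [(0, 1), (2, 3), (4, 6), (5, 7)], [(0, 2), (1, 3), (4, 7), (5, 6)], [(0, 3), (1, 2), (4, 5), (6, 7)], [(0, 5), (1, 4), (2, 6), (3, 7)], [(0, 6), (1, 7), (2, 5), (3, 4)], [(0, 4), (1, 5), (2, 7), (3, 6), (4, 7), (5, 6)]]),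
  ([(0, 6), (1, 4), (2, 7), (3, 5)], [[], [(0, 1), (2, 3), (4, 6), (5, 7)], [(0, 2), (1, 3), (4, 5), (6, 7)], [(0, 3), (1, 2), (4, 7), (5, 6)], [(0, 5), (1, 4), (2, 7), (3, 6)], [(0, 6), (1, 7), (2, 4), (3, 5)], [(0, 4), (1, 5), (2, 6), (3, 7), (4, 7), (5, 6)]]),
  ([(0, 6), (1, 5), (2, 3), (4, 7)], [[], [(2, 3)], [(0, 1), (4, 7), (5, 6)], [(0, 4), (1, 5), (6, 7)], [(0, 6), (1, 7), (4, 5)], [(0, 1), (2, 3), (4, 7), (5, 6)], [(0, 4), (1, 5), (2, 3), (6, 7)]]),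
  ([(0, 6), (1, 5), (2, 4), (3, 7)], [[], [(0, 1), (2, 3), (4, 7), (5, 6)], [(0, 2), (1, 3), (4, 6), (5, 7)], [(0, 3), (1, 2), (4, 5), (6, 7)], [(0, 4), (1, 5), (2, 6), (3, 7)], [(0, 6), (1, 7), (2, 4), (3, 5)], [(0, 5), (1, 4), (2, 7), (3, 6), (4, 6), (5, 7)]]),
  ([(0, 6), (1, 5), (2, 7), (3, 4)], [[], [(0, 1), (2, 3), (4, 7), (5, 6)], [(0, 2), (1, 3), (4, 5), (6, 7)], [(0, 3), (1, 2), (4, 6), (5, 7)], [(0, 4), (1, 5), (2, 7), (3, 6)], [(0, 6), (1, 7), (2, 5), (3, 4)], [(0, 5), (1, 4), (2, 6), (3, 7), (4, 6), (5, 7)]]),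
  ([(0, 6), (1, 7), (2, 3), (4, 5)], [[], [(4, 5)], [(2, 3)], [(2, 3), (4, 5)], [(2, 4), (3, 5)], [(2, 5), (3, 4)], [(0, 1), (6, 7)]]),
  ([(0, 6), (1, 7), (2, 4), (3, 5)], [[], [(2, 3), (4, 5)], [(2, 4), (3, 5)], [(2, 5), (3, 4)], [(0, 1), (6, 7)], [(0, 6), (1, 7)], [(0, 7), (1, 6)]]),
  ([(0, 6), (1, 7), (2, 5), (3, 4)], [[], [(2, 3), (4, 5)], [(2, 4), (3, 5)], [(2, 5), (3, 4)], [(0, 1), (6, 7)], [(0, 6), (1, 7)], [(0, 7), (1, 6)]]),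
  ([(0, 7), (1, 2), (3, 4), (5, 6)], [[], [(0, 1), (2, 7), (3, 6), (4, 5)], [(0, 3), (1, 2), (4, 7), (5, 6)], [(0, 4), (1, 5), (2, 6), (3, 7)], [(0, 5), (1, 4), (2, 3), (6, 7)], [(0, 7), (1, 6), (2, 5), (3, 4)], [(0, 2), (1, 3), (2, 4), (3, 5), (4, 6), (5, 7)]]),
  ([(0, 7), (1, 2), (3, 5), (4, 6)], [[], [(0, 1), (2, 7), (3, 6), (4, 5)], [(0, 3), (1, 2), (4, 6), (5, 7)], [(0, 4), (1, 5), (2, 3), (6, 7)], [(0, 5), (1, 4), (2, 6), (3, 7)], [(0, 7), (1, 6), (2, 4), (3, 5)], [(0, 2), (1, 3), (2, 5), (3, 4), (4, 7), (5, 6)]]),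
  ([(0, 7), (1, 2), (3, 6), (4, 5)], [[], [(4, 5)], [(0, 1), (2, 7), (3, 6)], [(0, 3), (1, 2), (6, 7)], [(0, 7), (1, 6), (2, 3)], [(0, 1), (2, 7), (3, 6), (4, 5)], [(0, 2), (1, 3), (2, 6), (3, 7)]]),
  ([(0, 7), (1, 3), (2, 4), (5, 6)], [[], [(0, 1), (2, 6), (3, 7), (4, 5)], [(0, 2), (1, 3), (4, 7), (5, 6)], [(0, 4), (1, 5), (2, 7), (3, 6)], [(0, 5), (1, 4), (2, 3), (6, 7)], [(0, 7), (1, 6), (2, 4), (3, 5)], [(0, 3), (1, 2), (2, 5), (3, 4), (4, 6), (5, 7)]]),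
  ([(0, 7), (1, 3), (2, 5), (4, 6)], [[], [(0, 1), (2, 6), (3, 7), (4, 5)], [(0, 2), (1, 3), (4, 6), (5, 7)], [(0, 4), (1, 5), (2, 3), (6, 7)], [(0, 5), (1, 4), (2, 7), (3, 6)], [(0, 7), (1, 6), (2, 5), (3, 4)], [(0, 3), (1, 2), (2, 4), (3, 5), (4, 7), (5, 6)]]),
  ([(0, 7), (1, 3), (2, 6), (4, 5)], [[], [(4, 5)], [(0, 1), (2, 6), (3, 7)], [(0, 2), (1, 3), (6, 7)], [(0, 7), (1, 6), (2, 3)], [(0, 1), (2, 6), (3, 7), (4, 5)], [(0, 2), (1, 3), (4, 5), (6, 7)]]),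
  ([(0, 7), (1, 4), (2, 3), (5, 6)], [[], [(2, 3)], [(0, 1), (4, 7), (5, 6)], [(0, 5), (1, 4), (6, 7)], [(0, 7), (1, 6), (4, 5)], [(0, 1), (2, 3), (4, 7), (5, 6)], [(0, 4), (1, 5), (4, 6), (5, 7)]]),
  ([(0, 7), (1, 4), (2, 5), (3, 6)], [[], [(0, 1), (2, 3), (4, 7), (5, 6)], [(0, 2), (1, 3), (4, 6), (5, 7)], [(0, 3), (1, 2), (4, 5), (6, 7)], [(0, 5), (1, 4), (2, 7), (3, 6)], [(0, 7), (1, 6), (2, 5), (3, 4)], [(0, 4), (1, 5), (2, 6), (3, 7), (4, 6), (5, 7)]]),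
  ([(0, 7), (1, 4), (2, 6), (3, 5)], [[], [(0, 1), (2, 3), (4, 7), (5, 6)], [(0, 2), (1, 3), (4, 5), (6, 7)], [(0, 3), (1, 2), (4, 6), (5, 7)], [(0, 5), (1, 4), (2, 6), (3, 7)], [(0, 7), (1, 6), (2, 4), (3, 5)], [(0, 4), (1, 5), (2, 7), (3, 6), (4, 6), (5, 7)]]),
  ([(0, 7), (1, 5), (2, 3), (4, 6)], [[], [(2, 3)], [(0, 1), (4, 6), (5, 7)], [(0, 4), (1, 5), (6, 7)], [(0, 7), (1, 6), (4, 5)], [(0, 1), (2, 3), (4, 6), (5, 7)], [(0, 4), (1, 5), (2, 3), (6, 7)]]),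
  ([(0, 7), (1, 5), (2, 4), (3, 6)], [[], [(0, 1), (2, 3), (4, 6), (5, 7)], [(0, 2), (1, 3), (4, 7), (5, 6)], [(0, 3), (1, 2), (4, 5), (6, 7)], [(0, 4), (1, 5), (2, 7), (3, 6)], [(0, 7), (1, 6), (2, 4), (3, 5)], [(0, 5), (1, 4), (2, 6), (3, 7), (4, 7), (5, 6)]]),
  ([(0, 7), (1, 5), (2, 6), (3, 4)], [[], [(0, 1), (2, 3), (4, 6), (5, 7)], [(0, 2), (1, 3), (4, 5), (6, 7)], [(0, 3), (1, 2), (4, 7), (5, 6)], [(0, 4), (1, 5), (2, 6), (3, 7)], [(0, 7), (1, 6), (2, 5), (3, 4)], [(0, 5), (1, 4), (2, 7), (3, 6), (4, 7), (5, 6)]]),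
  ([(0, 7), (1, 6), (2, 3), (4, 5)], [[], [(4, 5)], [(2, 3)], [(2, 3), (4, 5)], [(2, 4), (3, 5)], [(2, 5), (3, 4)], [(0, 1), (6, 7)]]),
  ([(0, 7), (1, 6), (2, 4), (3, 5)], [[], [(2, 3), (4, 5)], [(2, 4), (3, 5)], [(2, 5), (3, 4)], [(0, 1), (6, 7)], [(0, 6), (1, 7)], [(0, 7), (1, 6)]]),
  ([(0, 7), (1, 6), (2, 5), (3, 4)], [[], [(2, 3), (4, 5)], [(2, 4), (3, 5)], [(2, 5), (3, 4)], [(0, 1), (6, 7)], [(0, 6), (1, 7)], [(0, 7), (1, 6)]])]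

theorem table_check : ∀ e ∈ table,
    ((e.2.map ev).Nodup ∧ e.2.length = 7) ∧
      ∀ g ∈ e.2, ev g * z0 = z0 * ev g ∧ ev g * ev e.1 = ev e.1 * ev g := by
  decide +kernel

theorem table_nodup : (table.map fun e => ev e.1).Nodup ∧ table.length = 105 := by
  decide +kernel

theorem table_type : ∀ e ∈ table, ev e.1 * ev e.1 = 1 ∧ ∀ i : Fin 8, ev e.1 i ≠ i := by
  decide +kernel

theorem cycleType_of_fpf (g : Perm (Fin 8)) (h2 : g * g = 1) (hf : ∀ i, g i ≠ i) :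
    g.cycleType = Multiset.replicate 4 2 := by
  have hs : g.cycleType.sum = 8 := by
    rw [Equiv.Perm.sum_cycleType]
    rw [show g.support = Finset.univ by ext i; simp [hf i]]
    simp
  have hall : ∀ n ∈ g.cycleType, n = 2 := by
    intro n hn
    have h1 := Equiv.Perm.two_le_of_mem_cycleType hn
    have h3 := Equiv.Perm.dvd_of_mem_cycleType hn
    have h4 : orderOf g ∣ 2 := orderOf_dvd_of_pow_eq_one (by rw [pow_two, h2])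
    have := Nat.le_of_dvd (by norm_num) (h3.trans h4)
    omega
  have h := Multiset.eq_replicate_card.mpr hall
  rw [h] at hs ⊢
  simp at hs
  congr 1
  omega

theorem mem_table (w : Perm (Fin 8)) (hw : w.cycleType = Multiset.replicate 4 2) :
    ∃ e ∈ table, ev e.1 = w := by
  classical
  let L : Finset (Perm (Fin 8)) := ⟨↑(table.map fun (e : SwapList × List SwapList) => ev e.1), Multiset.coe_nodup.mpr table_nodup.1⟩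
  have hsub : L ⊆ ({g | g.cycleType = Multiset.replicate 4 2} : Finset (Perm (Fin 8))) := by
    intro g hg
    have hg' : g ∈ table.map fun e => ev e.1 := hg
    obtain ⟨e, he, rfl⟩ := List.mem_map.mp hg'
    simp only [Finset.mem_filter, Finset.mem_univ, true_and]
    exact cycleType_of_fpf _ (table_type e he).1 (table_type e he).2
  have hcard : ({g | g.cycleType = Multiset.replicate 4 2} : Finset (Perm (Fin 8))).card ≤ L.card := by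
    rw [Equiv.Perm.card_of_cycleType]
    have hL : L.card = 105 := by
      show (table.map fun e => ev e.1).length = 105
      rw [List.length_map, table_nodup.2]
    rw [hL]
    decide
  have := Finset.eq_of_subset_of_card_le hsub hcard
  have hwL : w ∈ L := by rw [this, Finset.mem_filter]; exact ⟨Finset.mem_univ _, hw⟩
  have hg' : w ∈ table.map fun e => ev e.1 := hwL
  simpa [List.mem_map] using hg'

theorem cycleType_z0 : z0.cycleType = Multiset.replicate 4 2 :=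
  cycleType_of_fpf _ (by decide +kernel) (by decide +kernel)

/-- the common centraliser of two fixed point free involutions has at least seven elements -/
theorem seven_le (z w : Perm (Fin 8)) (hz : z.cycleType = Multiset.replicate 4 2)
    (hw : w.cycleType = Multiset.replicate 4 2) :
    7 ≤ Nat.card ↥(Subgroup.centralizer {z} ⊓ Subgroup.centralizer {w}) := by
  classical
  have hconj : IsConj z0 z := Equiv.Perm.isConj_iff_cycleType_eq.mpr (cycleType_z0.trans hz.symm)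
  obtain ⟨c, hc⟩ := isConj_iff.mp hconj
  have hw' : (c⁻¹ * w * c).cycleType = Multiset.replicate 4 2 := by
    rw [← hw]
    exact Equiv.Perm.isConj_iff_cycleType_eq.mp (isConj_iff.mpr ⟨c, by group⟩)
  obtain ⟨e, he, hew⟩ := mem_table _ hw'
  obtain ⟨⟨hnd, hlen⟩, hall⟩ := table_check e he
  let S : Finset (Perm (Fin 8)) := (e.2.map ev).toFinset.image fun g => c * g * c⁻¹
  have hS : S.card = 7 := by
    rw [Finset.card_image_of_injective _ (fun a b h => by simpa using h),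
      List.toFinset_card_of_nodup hnd, List.length_map, hlen]
  have hsub : (S : Set (Perm (Fin 8))) ⊆
      ↑(Subgroup.centralizer {z} ⊓ Subgroup.centralizer {w}) := by
    intro g hg
    simp only [S, Finset.coe_image, Set.mem_image, Finset.mem_coe, List.mem_toFinset,
      List.mem_map] at hg
    obtain ⟨_, ⟨a, ha, rfl⟩, rfl⟩ := hg
    obtain ⟨h1, h2⟩ := hall a ha
    rw [hew] at h2
    refine ⟨Subgroup.mem_centralizer_singleton_iff.mpr ?_, Subgroup.mem_centralizer_singleton_iff.mpr ?_⟩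
    · rw [← hc]
      calc c * ev a * c⁻¹ * (c * z0 * c⁻¹) = c * (ev a * z0) * c⁻¹ := by group
        _ = c * z0 * c⁻¹ * (c * ev a * c⁻¹) := by rw [h1]; group
    · calc c * ev a * c⁻¹ * w = c * (ev a * (c⁻¹ * w * c)) * c⁻¹ := by group
        _ = w * (c * ev a * c⁻¹) := by rw [h2]; group
  rw [← hS, ← Set.ncard_coe_finset]
  exact Set.ncard_le_ncard hsub (Set.toFinite _)

theorem class_of_dvd (z : Perm (Fin 8)) (hz : orderOf z = 2)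
    (hd : 128 ∣ Nat.card (Subgroup.centralizer {z})) :
    z.cycleType = Multiset.replicate 4 2 ∧ Nat.card (Subgroup.centralizer {z}) = 384 := by
  have hall : ∀ n ∈ z.cycleType, n = 2 := by
    intro n hn
    have h1 := Equiv.Perm.two_le_of_mem_cycleType hn
    have h3 := Equiv.Perm.dvd_of_mem_cycleType hn
    rw [hz] at h3
    have := Nat.le_of_dvd (by norm_num) h3
    omega
  have h := Multiset.eq_replicate_card.mpr hall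
  have hs : z.cycleType.sum ≤ 8 := by
    rw [Equiv.Perm.sum_cycleType]
    simpa using Finset.card_le_univ z.support
  have hpos : z.cycleType ≠ 0 := by
    intro h0
    rw [Equiv.Perm.cycleType_eq_zero] at h0
    simp [h0] at hz
  obtain ⟨k, hk⟩ : ∃ k, z.cycleType = Multiset.replicate k 2 := ⟨_, h⟩
  rw [hk] at hs hpos
  simp at hs
  have hk0 : k ≠ 0 := by rintro rfl; exact hpos rfl
  clear hpos
  rw [Equiv.Perm.nat_card_centralizer, hk] at hd ⊢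
  have : k ≤ 4 := by omega
  interval_cases k <;> first | exact absurd rfl hk0 | (revert hd; decide)


/-- In the symmetric group on 8 letters any two Sylow 2-subgroups have non-trivial intersection: for a Sylow 2-subgroup H and every element x, H ∩ xHx⁻¹ ≠ 1. -/
theorem result (H : Sylow 2 (Equiv.Perm (Fin 8))) (x : Equiv.Perm (Fin 8)) :
    (H : Subgroup (Equiv.Perm (Fin 8))) ⊓ (H : Subgroup (Equiv.Perm (Fin 8))).map (MulAut.conj x).toMonoidHom ≠ ⊥ := by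
  classical
  haveI : Fact (Nat.Prime 2) := ⟨Nat.prime_two⟩
  let G := Perm (Fin 8)
  have hGc : Nat.card G = 40320 := by
    rw [Nat.card_perm, Nat.card_fin]; decide
  have hH : Nat.card (H : Subgroup G) = 128 := by
    rw [H.card_eq_multiplicity, hGc]
    decide +kernel
  haveI : Nontrivial (H : Subgroup G) := Finite.one_lt_card_iff_nontrivial.mp (by rw [hH]; norm_num)
  have hP := H.isPGroup'
  haveI := hP.center_nontrivial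
  obtain ⟨zc, hzc⟩ := exists_prime_orderOf_dvd_card' 2
    (show 2 ∣ Nat.card (Subgroup.center (H : Subgroup G)) by
      obtain ⟨n, hn⟩ := (hP.to_subgroup (Subgroup.center (H : Subgroup G))).exists_card_eq
      rcases n with _ | n
      · have := Finite.one_lt_card_iff_nontrivial.mpr
          (inferInstance : Nontrivial (Subgroup.center (H : Subgroup G)))
        omega
      · rw [hn]; exact dvd_pow_self 2 (Nat.succ_ne_zero n))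
  set z : G := ((zc : (H : Subgroup G)) : G) with hzdef
  have hz2 : orderOf z = 2 := by
    rw [hzdef, Subgroup.orderOf_coe, Subgroup.orderOf_coe, hzc]
  have hHC : (H : Subgroup G) ≤ Subgroup.centralizer {z} := by
    intro h hh
    rw [Subgroup.mem_centralizer_singleton_iff, hzdef]
    exact congrArg Subtype.val (Subgroup.mem_center_iff.mp zc.2 ⟨h, hh⟩)
  obtain ⟨hzt, hC⟩ := class_of_dvd z hz2 (hH ▸ Subgroup.card_dvd_of_le hHC)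
  have hrel : (H : Subgroup G).relIndex (Subgroup.centralizer {z}) = 3 := by
    have h := Subgroup.card_mul_index ((H : Subgroup G).subgroupOf (Subgroup.centralizer {z}))
    rw [Nat.card_congr (Subgroup.subgroupOfEquivOfLe hHC).toEquiv, hH, hC] at h
    rw [Subgroup.relIndex]
    omega
  have key : ∀ K : Subgroup G, K ≤ Subgroup.centralizer {z} →
      Nat.card K ≤ 3 * Nat.card ↥((H : Subgroup G) ⊓ K) := by
    intro K hK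
    have h := Subgroup.card_mul_index ((H : Subgroup G).subgroupOf K)
    have h' : Nat.card ((H : Subgroup G).subgroupOf K) = Nat.card ↥((H : Subgroup G) ⊓ K) := by
      rw [← Subgroup.inf_subgroupOf_right]
      exact Nat.card_congr (Subgroup.subgroupOfEquivOfLe inf_le_right).toEquiv
    have hle : (H : Subgroup G).relIndex K ≤ 3 :=
      hrel ▸ Subgroup.relIndex_le_of_le_right hK (by rw [hrel]; norm_num)
    rw [Subgroup.relIndex] at hle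
    rw [← h, h', mul_comm 3]
    exact Nat.mul_le_mul_left _ hle
  set f : G →* G := (MulAut.conj x).toMonoidHom with hf
  set w : G := x⁻¹ * z * x with hw
  have hwt : w.cycleType = Multiset.replicate 4 2 := by
    rw [← hzt]
    exact Equiv.Perm.isConj_iff_cycleType_eq.mp (isConj_iff.mpr ⟨x, by rw [hw]; group⟩)
  have h7 := seven_le z w hzt hwt
  have h1 := key (Subgroup.centralizer {z} ⊓ Subgroup.centralizer {w}) inf_le_left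
  set U : Subgroup G := (H : Subgroup G) ⊓ (Subgroup.centralizer {z} ⊓ Subgroup.centralizer {w}) with hU
  obtain ⟨n, hn⟩ := (hP.to_le (inf_le_left : U ≤ (H : Subgroup G))).exists_card_eq
  have h4 : 4 ≤ Nat.card U := by
    have h3 : 3 ≤ Nat.card U := by
      have h73 : 7 ≤ 3 * Nat.card U := le_trans h7 h1
      omega
    rw [hn] at h3 ⊢
    rcases n with _ | _ | n
    · norm_num at h3
    · norm_num at h3
    · calc 4 = 2 ^ 2 := by norm_num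
        _ ≤ 2 ^ (n + 2) := Nat.pow_le_pow_right (by norm_num) (by omega)
  have hDC : U.map f ≤ Subgroup.centralizer {z} := by
    rintro _ ⟨u, hu, rfl⟩
    have huw := Subgroup.mem_centralizer_singleton_iff.mp hu.2.2
    rw [Subgroup.mem_centralizer_singleton_iff, hf]
    simp only [MulEquiv.toMonoidHom_eq_coe, MonoidHom.coe_coe, MulAut.conj_apply]
    calc x * u * x⁻¹ * z = x * (u * w) * x⁻¹ := by rw [hw]; group
      _ = z * (x * u * x⁻¹) := by rw [huw, hw]; group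
  have h2 := key _ hDC
  rw [Subgroup.card_map_of_injective (MulAut.conj x).injective] at h2
  intro hbot
  have hz0 : (H : Subgroup G) ⊓ U.map f = ⊥ :=
    le_bot_iff.mp (hbot ▸ inf_le_inf_left _ (Subgroup.map_mono inf_le_left))
  rw [hz0, Subgroup.card_bot] at h2
  omega

end Cfsg.Agent.S5763
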