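import Cfsg.Statements.S5778
import Cfsg.Agent.Lib.Classical.PrimeDimUnitary
import Cfsg.Agent.Lib.Classical.AschUnitThreeFieldMax
import Cfsg.Agent.Lib.Classical.AschUnitThreeHeis

set_option autoImplicit false
open Cfsg

namespace Cfsg.Agent.S5778

/-- Every maximal subgroup of SU_3(q), q ≥ 3, is of one of the listed geometric types or lies in the residual class. Let F be the field with q² elements, f the standard unitary form Σ u_i v_i^q on F^3, and H a maximal subgroup of SU_3(q) (the determinant-one isometries of f, inside GL_3(F)). Then H is the intersection with SU_3(q) of one of: the stabiliser of a non-zero subspace on which f vanishes; the stabiliser of a non-degenerate 1-space; for q ≠ 5, the stabiliser of a decomposition into three mutually orthogonal non-degenerate 1-spaces; for q ≠ 3, 5, the normaliser of an adjoint-closed degree-3 subfield of the matrix algebra; a subfield group of odd prime index whose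 F₀-structure carries f; for q odd, q ≥ 7, a subfield group of index 2 whose F₀-structure carries f; for q = p ≡ 2 mod 3 prime with p ≥ 11, the normaliser of an absolutely irreducible subgroup of order 27 with centre of order 3, exponent 3 and all characteristic abelian subgroups cyclic, contained in the similarity group of f — or else H lies in the residual class of the unitary case. -/
theorem result {F : Type*} [Field F] [Fintype F] (q : ℕ) (hF : Fintype.card F = q ^ 2) (hq : 3 ≤ q) (H : Subgroup (Matrix.GeneralLinearGroup (Fin 3) F)) (hH : Cfsg.Geo.IsMaximalIn (Cfsg.GU 3 F q ⊓ Cfsg.Geo.specialLinear (Fin 3) F) H) :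
    (∃ W : Submodule F (Fin 3 → F), W ≠ ⊥ ∧ Cfsg.Geo.IsTotallySingularFor (Cfsg.hermForm 3 F q) W ∧ H = Cfsg.Geo.subspaceStabilizer W ⊓ (Cfsg.GU 3 F q ⊓ Cfsg.Geo.specialLinear (Fin 3) F)) ∨
    (∃ W : Submodule F (Fin 3 → F), W ≠ ⊥ ∧ Cfsg.Geo.IsNondegenerateOn (Cfsg.hermForm 3 F q) W ∧ 2 * Module.finrank F W < 3 ∧ H = Cfsg.Geo.subspaceStabilizer W ⊓ (Cfsg.GU 3 F q ⊓ Cfsg.Geo.specialLinear (Fin 3) F)) ∨
    (q ≠ 5 ∧ ∃ D : Fin 3 → Submodule F (Fin 3 → F), Cfsg.Geo.IsNondegenerateMDecomposition (Cfsg.hermForm 3 F q) 1 D ∧ H = Cfsg.Geo.decompositionStabilizer D ⊓ (Cfsg.GU 3 F q ⊓ Cfsg.Geo.specialLinear (Fin 3) F)) ∨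
    (q ≠ 3 ∧ q ≠ 5 ∧ ∃ K : Subalgebra F (Matrix (Fin 3) (Fin 3) F), Cfsg.Geo.IsFieldSubalgebra 3 K ∧ Cfsg.Geo.IsAdjointClosedFor (Cfsg.hermForm 3 F q) K ∧ H = Cfsg.Geo.subalgebraNormalizer K ⊓ (Cfsg.GU 3 F q ⊓ Cfsg.Geo.specialLinear (Fin 3) F)) ∨
    (∃ (F₀ : Subfield F) (r : ℕ) (P : Matrix.GeneralLinearGroup (Fin 3) F), r.Prime ∧ Odd r ∧ Fintype.card F = Nat.card F₀ ^ r ∧ Cfsg.Geo.IsFormRationalStructure (Cfsg.hermForm 3 F q) F₀ 1 P ∧ H = Cfsg.Geo.subfieldSubgroup F₀ P ⊓ (Cfsg.GU 3 F q ⊓ Cfsg.Geo.specialLinear (Fin 3) F)) ∨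
    (Odd q ∧ 7 ≤ q ∧ ∃ (F₀ : Subfield F) (P : Matrix.GeneralLinearGroup (Fin 3) F), Fintype.card F = Nat.card F₀ ^ 2 ∧ Cfsg.Geo.IsFormRationalStructure (Cfsg.hermForm 3 F q) F₀ 1 P ∧ H = Cfsg.Geo.subfieldSubgroup F₀ P ⊓ (Cfsg.GU 3 F q ⊓ Cfsg.Geo.specialLinear (Fin 3) F)) ∨
    (∃ (p : ℕ) (R : Subgroup (Matrix.GeneralLinearGroup (Fin 3) F)), p.Prime ∧ q = p ∧ p % 3 = 2 ∧ 11 ≤ p ∧ Cfsg.Geo.IsSymplecticTypeGroup 3 R ∧ Cfsg.Geo.ActsAbsolutelyIrreducibly (Cfsg.Geo.matrixSet R) ∧ R ≤ Cfsg.Geo.similarityGroup (Cfsg.hermForm 3 F q) ∧ Nat.card R = 27 ∧ Nat.card (Subgroup.center R) = 3 ∧ H = Cfsg.Geo.subgroupNormalizer R ⊓ (Cfsg.GU 3 F q ⊓ Cfsg.Geo.specialLinear (Fin 3) F)) ∨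
    Cfsg.Geo.InUnitaryResidualClass H := by
  obtain ⟨K⟩ := CfsgLib.Classical.Herm.exists_conj_of_card hF
  rcases CfsgLib.PrimeDim.unitary_cases K (by norm_num) (by norm_num) (Or.inl hq) hH with
    h | h | ⟨D, hD, hE⟩ | ⟨A, hA, hcl, hE⟩ | ⟨F₁, r, P, hr, hpar, hcard, hrat, hE⟩ |
      ⟨p, m, R, ⟨hp, hchar, hqm, hm, hlt, hmod, hmin⟩, hST, habs, hRU, hcardR, hcen, hE⟩ | h
  · exact Or.inl h
  · exact Or.inr (Or.inl h)
  · refine Or.inr (Or.inr (Or.inl ⟨fun h5 => ?_, D, hD, hE⟩))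
    subst h5
    exact CfsgLib.Asch.UnitThree.lines_not_maximal5 K hH hD (hE.le.trans inf_le_left)
  · refine Or.inr (Or.inr (Or.inr (Or.inl ⟨fun h3 => ?_, fun h5 => ?_, A, hA, hcl, hE⟩)))
    · subst h3
      exact CfsgLib.Asch.UnitThree.field_not_maximal3 K (Or.inl rfl) CfsgLib.Asch.UnitThree.overThree hH hA hcl
        (hE.le.trans inf_le_left)
    · subst h5
      exact CfsgLib.Asch.UnitThree.field_not_maximal3 K (Or.inr rfl) CfsgLib.Asch.UnitThree.overFive hH hA hcl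
        (hE.le.trans inf_le_left)
  · rcases hpar with ho | ⟨rfl, hodd⟩
    · exact Or.inr (Or.inr (Or.inr (Or.inr (Or.inl ⟨F₁, r, P, hr, ho, hcard, hrat, hE⟩))))
    · by_cases h7 : 7 ≤ q
      · exact Or.inr (Or.inr (Or.inr (Or.inr (Or.inr (Or.inl ⟨hodd, h7, F₁, P, hcard, hrat, hE⟩)))))
      · have hq35 : q = 3 ∨ q = 5 := by rcases hodd with ⟨k, hk⟩; omega
        rcases hq35 with rfl | rfl
        · obtain ⟨D, hD, hle⟩ := CfsgLib.Asch.UnitThree.rational_lines3 K hH.1.le hcard hrat (hE.le.trans inf_le_left)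
          exact Or.inr (Or.inr (Or.inl ⟨by norm_num, D, hD, CfsgLib.Asch.key_unit hH _ hle
            (CfsgLib.PrimeDim.sugl_not_le_decomposition K le_rfl (Or.inl le_rfl) hD)⟩))
        · exact (CfsgLib.Asch.UnitThree.rational_not_maximal5 K hH hcard hrat (hE.le.trans inf_le_left)).elim
  · obtain rfl : m = 1 := by omega
    have h1 := hmin 1 one_pos (by norm_num)
    rw [pow_one] at h1 hqm
    subst hqm
    have h2 : q % 3 = 2 := by
      have h0 : q % 3 ≠ 0 := fun h0 => by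
        rw [Nat.pow_mod, h0] at hmod
        norm_num at hmod
      omega
    by_cases h11 : 11 ≤ q
    · exact Or.inr (Or.inr (Or.inr (Or.inr (Or.inr (Or.inr (Or.inl
        ⟨q, R, hp, rfl, h2, h11, hST, habs, (fun g hg => ⟨1, fun u v => by rw [Units.val_one, one_mul]; exact hRU hg u v⟩),
          hcardR, hcen, hE⟩))))))
    · obtain rfl : q = 5 := by
        interval_cases q <;> first | rfl | omega | (norm_num at hp)
      exact (CfsgLib.Asch.UnitThree.heis_not_maximal5 K hH hST habs hRU hcardR hcen (hE.le.trans inf_le_left)).elim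
  · exact Or.inr (Or.inr (Or.inr (Or.inr (Or.inr (Or.inr (Or.inr h))))))

end Cfsg.Agent.S5778
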