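import Cfsg.Statements.S5784
import Cfsg.Agent.Lib.Classical.AschUnitLinesMax

set_option autoImplicit false
open Cfsg

namespace Cfsg.Agent.S5784

/-- Every maximal subgroup of SU_4(q) is of one of the listed geometric types or lies in the residual class. Let F be the field with q² elements, f the standard unitary form Σ u_i v_i^q on F^4, and H a maximal subgroup of SU_4(q) (inside GL_4(F)). Then H is the intersection with SU_4(q) of one of: the stabiliser of a non-zero subspace on which f vanishes; the stabiliser of a non-degenerate 1-space; for q ≠ 3, the stabiliser of a decomposition into four mutually orthogonal non-degenerate 1-spaces; for q ≥ 3, of a decomposition into two orthogonal non-degenerate 2-spaces; for q ≥ 4, of a decomposition into two totally isotropic 2-spaces; a subfield group of odd prime index whose F₀-structure carries f; a subfield group of index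 2 whose F₀-structure carries ζ f, vanishing on pairs (u, u), for some non-zero ζ with ζ + ζ^q = 0; for q odd, a subfield group of index 2 whose F₀-structure carries f; for q = p ≡ 3 mod 4 prime, the normaliser of an absolutely irreducible symplectic-type 2-group of exponent 4, order 64 and centre of order 4 inside the similarity group of f — or else H lies in the residual class of the unitary case. -/
theorem result {F : Type*} [Field F] [Fintype F] (q : ℕ) (hF : Fintype.card F = q ^ 2) (H : Subgroup (Matrix.GeneralLinearGroup (Fin 4) F)) (hH : Cfsg.Geo.IsMaximalIn (Cfsg.GU 4 F q ⊓ Cfsg.Geo.specialLinear (Fin 4) F) H) :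
    (∃ W : Submodule F (Fin 4 → F), W ≠ ⊥ ∧ Cfsg.Geo.IsTotallySingularFor (Cfsg.hermForm 4 F q) W ∧ H = Cfsg.Geo.subspaceStabilizer W ⊓ (Cfsg.GU 4 F q ⊓ Cfsg.Geo.specialLinear (Fin 4) F)) ∨
    (∃ W : Submodule F (Fin 4 → F), W ≠ ⊥ ∧ Cfsg.Geo.IsNondegenerateOn (Cfsg.hermForm 4 F q) W ∧ 2 * Module.finrank F W < 4 ∧ H = Cfsg.Geo.subspaceStabilizer W ⊓ (Cfsg.GU 4 F q ⊓ Cfsg.Geo.specialLinear (Fin 4) F)) ∨
    (q ≠ 3 ∧ ∃ D : Fin 4 → Submodule F (Fin 4 → F), Cfsg.Geo.IsNondegenerateMDecomposition (Cfsg.hermForm 4 F q) 1 D ∧ H = Cfsg.Geo.decompositionStabilizer D ⊓ (Cfsg.GU 4 F q ⊓ Cfsg.Geo.specialLinear (Fin 4) F)) ∨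
    (3 ≤ q ∧ ∃ D : Fin 2 → Submodule F (Fin 4 → F), Cfsg.Geo.IsNondegenerateMDecomposition (Cfsg.hermForm 4 F q) 2 D ∧ H = Cfsg.Geo.decompositionStabilizer D ⊓ (Cfsg.GU 4 F q ⊓ Cfsg.Geo.specialLinear (Fin 4) F)) ∨
    (4 ≤ q ∧ ∃ D : Fin 2 → Submodule F (Fin 4 → F), Cfsg.Geo.IsMDecomposition 2 D ∧ (∀ i, Cfsg.Geo.IsTotallySingularFor (Cfsg.hermForm 4 F q) (D i)) ∧ H = Cfsg.Geo.decompositionStabilizer D ⊓ (Cfsg.GU 4 F q ⊓ Cfsg.Geo.specialLinear (Fin 4) F)) ∨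
    (∃ (F₀ : Subfield F) (r : ℕ) (P : Matrix.GeneralLinearGroup (Fin 4) F), r.Prime ∧ Odd r ∧ Fintype.card F = Nat.card F₀ ^ r ∧ Cfsg.Geo.IsFormRationalStructure (Cfsg.hermForm 4 F q) F₀ 1 P ∧ H = Cfsg.Geo.subfieldSubgroup F₀ P ⊓ (Cfsg.GU 4 F q ⊓ Cfsg.Geo.specialLinear (Fin 4) F)) ∨
    (∃ (F₀ : Subfield F) (P : Matrix.GeneralLinearGroup (Fin 4) F) (ζ : F), Fintype.card F = Nat.card F₀ ^ 2 ∧ ζ ≠ 0 ∧ ζ + ζ ^ q = 0 ∧ Cfsg.Geo.IsFormRationalStructure (Cfsg.hermForm 4 F q) F₀ ζ P ∧ (∀ u : Fin 4 → F, (∀ i, u i ∈ F₀) → (Cfsg.hermForm 4 F q) (Matrix.mulVec (P : Matrix (Fin 4) (Fin 4) F) u) (Matrix.mulVec (P : Matrix (Fin 4) (Fin 4) F) u) = 0) ∧ H = Cfsg.Geo.subfieldSubgroup F₀ P ⊓ (Cfsg.GU 4 F q ⊓ Cfsg.Geo.specialLinear (Fin 4) F)) ∨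
    (Odd q ∧ ∃ (F₀ : Subfield F) (P : Matrix.GeneralLinearGroup (Fin 4) F), Fintype.card F = Nat.card F₀ ^ 2 ∧ Cfsg.Geo.IsFormRationalStructure (Cfsg.hermForm 4 F q) F₀ 1 P ∧ H = Cfsg.Geo.subfieldSubgroup F₀ P ⊓ (Cfsg.GU 4 F q ⊓ Cfsg.Geo.specialLinear (Fin 4) F)) ∨
    (∃ (p : ℕ) (R : Subgroup (Matrix.GeneralLinearGroup (Fin 4) F)), p.Prime ∧ q = p ∧ p % 4 = 3 ∧ Cfsg.Geo.IsSymplecticTypeGroup 2 R ∧ Cfsg.Geo.ActsAbsolutelyIrreducibly (Cfsg.Geo.matrixSet R) ∧ R ≤ Cfsg.Geo.similarityGroup (Cfsg.hermForm 4 F q) ∧ Nat.card R = 64 ∧ Nat.card (Subgroup.center R) = 4 ∧ H = Cfsg.Geo.subgroupNormalizer R ⊓ (Cfsg.GU 4 F q ⊓ Cfsg.Geo.specialLinear (Fin 4) F)) ∨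
    Cfsg.Geo.InUnitaryResidualClass H := by
  obtain ⟨K⟩ := CfsgLib.Classical.Herm.exists_conj_of_card hF
  rcases CfsgLib.Asch.unit_max_cases K (by norm_num) hH with ⟨W, h0, hW, hE⟩ | ⟨W, h0, hW, hd, hE⟩ |
    ⟨t, k, D, htk, ht, hq, hD, hE⟩ | ⟨k, D, hk, hq, hD, hts, hE⟩ | ⟨r, L, hr, hro, hrn, hL, hcl, hE⟩ |
    ⟨n₁, n₂, e, P, f₁, f₂, hn₁, hn₂, hnn, hq, hf₁, hf₂, hs, hE⟩ | ⟨F₀, r, P, hr, hro, hc, hrat, hE⟩ |
    ⟨F₀, P, ζ, hev, hc, hζ, hζ', hrat, hiso, hE⟩ | ⟨F₀, P, hq, hc, hrat, hE⟩ |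
    ⟨r, R, p, e, k, hR, ha, hs, hrp, hk, hk1, hp, hmi, hc, hE⟩ |
    ⟨k, t, e, P, f₁, hk, ht, hex, hkt, hf₁, hs, hE⟩ | h
  · exact Or.inl (⟨W, h0, hW, hE⟩)
  · exact Or.inr (Or.inl (⟨W, h0, hW, hd, hE⟩))
  · have hk1 : 1 ≤ k := hD.decomp.pos
    have hk2 : k ≤ 2 := by nlinarith
    interval_cases k
    all_goals first
    | omega
    | (obtain rfl : t = 4
       · omega
       by_cases hq3 : q = 3
       · subst hq3
         obtain ⟨p, R, hp, hqp, hp4, hR, ha, hs, hc, hz, hE'⟩ :=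
           CfsgLib.Asch.lines_three K hF hH hD (hE.le.trans inf_le_left)
         exact Or.inr (Or.inr (Or.inr (Or.inr (Or.inr (Or.inr (Or.inr (Or.inr (Or.inl (⟨p, R, hp, hqp, hp4, hR, ha, hs, hc, hz, hE'⟩)))))))))
       · exact Or.inr (Or.inr (Or.inl (⟨hq3, D, hD, hE⟩))))
    | (obtain rfl : t = 2
       · omega
       exact Or.inr (Or.inr (Or.inr (Or.inl (⟨hq rfl, D, hD, hE⟩)))))
  · obtain rfl : k = 2 := by omega
    exact Or.inr (Or.inr (Or.inr (Or.inr (Or.inl (⟨hq rfl, D, hD, hts, hE⟩)))))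
  · exfalso
    have h8 := Nat.le_of_dvd (by norm_num) hrn
    interval_cases r <;> revert hr hro hrn <;> decide
  · have hb : n₁ ≤ 3 := by nlinarith
    interval_cases n₁
    all_goals first
    | omega
  · exact Or.inr (Or.inr (Or.inr (Or.inr (Or.inr (Or.inl (⟨F₀, r, P, hr, hro, hc, hrat, hE⟩))))))
  · exact Or.inr (Or.inr (Or.inr (Or.inr (Or.inr (Or.inr (Or.inl (⟨F₀, P, ζ, hc, hζ, hζ', hrat, hiso, hE⟩)))))))
  · exact Or.inr (Or.inr (Or.inr (Or.inr (Or.inr (Or.inr (Or.inr (Or.inl (⟨hq, F₀, P, hc, hrat, hE⟩))))))))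
  · obtain ⟨rfl, rfl, hqp, hp4, hz, hcard⟩ := CfsgLib.Asch.UnitArith.two_group_data hF (m := 2) (by norm_num) (by norm_num) hR.prime hk hk1 hmi hc
    exact Or.inr (Or.inr (Or.inr (Or.inr (Or.inr (Or.inr (Or.inr (Or.inr (Or.inl (⟨p, R, hp, hqp, hp4, hR, ha, hs, hcard.trans (by norm_num), hz, hE⟩)))))))))
  · obtain ⟨rfl, rfl, hn9⟩ := CfsgLib.Asch.UnitArith.power_data hk ht hkt (by norm_num)
    omega
  · exact Or.inr (Or.inr (Or.inr (Or.inr (Or.inr (Or.inr (Or.inr (Or.inr (Or.inr ((h))))))))))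

end Cfsg.Agent.S5784
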