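import Cfsg.Statements.S5789
import Cfsg.Agent.Lib.Classical.SympStab
import Cfsg.Agent.Lib.Classical.SympDecomp
import Cfsg.Agent.Lib.Classical.SympExtFieldMax
import Cfsg.Agent.Lib.Classical.SympSubfield
import Cfsg.Agent.Lib.Classical.SympQuadMax

set_option autoImplicit false
open Cfsg

namespace Cfsg.Agent.S5789

/-- Maximal subgroups of Sp_4(q) of geometric type, q ≥ 4 even. Let F be a finite field of even order q ≥ 4, f the standard alternating form on F^4 (coordinates Fin 2 ⊕ Fin 2) and Sp_4(F) its isometry group inside GL_4(F). Each of the following, intersected with Sp_4(F), is a maximal subgroup of Sp_4(F): (1) the stabiliser of any non-zero totally isotropic subspace (totally isotropic 1-spaces and 2-spaces); (2) the stabiliser of any decomposition of F^4 into two mutually orthogonal non-degenerate 2-spaces; (3) the normaliser of any degree-2 subfield K of the matrix algebra whose elements are self-adjoint for f with f(k v, v) = 0 for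 all k in K and all v; (4) every subfield group for a subfield F₀ with |F| = |F₀|^r, r prime, whose F₀-structure carries a non-zero scalar multiple of f; (5) the similarity group of any non-degenerate quadratic form whose polar form is f (either Witt type); its intersection with Sp_4(F) is the orthogonal group of that form. -/
theorem result {F : Type*} [Field F] [Fintype F] (heven : ¬ Odd (Fintype.card F)) (h4 : 4 ≤ Fintype.card F) :
    (∀ W : Submodule F (Fin 2 ⊕ Fin 2 → F), W ≠ ⊥ → Cfsg.Geo.IsTotallySingularFor (Cfsg.sympForm 2 F) W → Cfsg.Geo.IsMaximalIn (Cfsg.spGL 2 F) (Cfsg.Geo.subspaceStabilizer W ⊓ Cfsg.spGL 2 F)) ∧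
    (∀ D : Fin 2 → Submodule F (Fin 2 ⊕ Fin 2 → F), Cfsg.Geo.IsNondegenerateMDecomposition (Cfsg.sympForm 2 F) 2 D → Cfsg.Geo.IsMaximalIn (Cfsg.spGL 2 F) (Cfsg.Geo.decompositionStabilizer D ⊓ Cfsg.spGL 2 F)) ∧
    (∀ K : Subalgebra F (Matrix (Fin 2 ⊕ Fin 2) (Fin 2 ⊕ Fin 2) F), Cfsg.Geo.IsFieldSubalgebra 2 K → Cfsg.Geo.IsSelfAdjointFor (Cfsg.sympForm 2 F) K → (∀ k ∈ K, ∀ v : (Fin 2 ⊕ Fin 2 → F), (Cfsg.sympForm 2 F) (Matrix.mulVec k v) v = 0) → Cfsg.Geo.IsMaximalIn (Cfsg.spGL 2 F) (Cfsg.Geo.subalgebraNormalizer K ⊓ Cfsg.spGL 2 F)) ∧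
    (∀ (F₀ : Subfield F) (r : ℕ) (P : Matrix.GeneralLinearGroup (Fin 2 ⊕ Fin 2) F) (ζ : F), r.Prime → Fintype.card F = Nat.card F₀ ^ r → ζ ≠ 0 → Cfsg.Geo.IsFormRationalStructure (Cfsg.sympForm 2 F) F₀ ζ P → Cfsg.Geo.IsMaximalIn (Cfsg.spGL 2 F) (Cfsg.Geo.subfieldSubgroup F₀ P ⊓ Cfsg.spGL 2 F)) ∧
    (∀ Q : (Fin 2 ⊕ Fin 2 → F) → F, Cfsg.Geo.IsNondegenerateQuadraticForm Q → (∀ u v : (Fin 2 ⊕ Fin 2 → F), QuadraticMap.polar Q u v = (Cfsg.sympForm 2 F) u v) → Cfsg.Geo.IsMaximalIn (Cfsg.spGL 2 F) (Cfsg.Geo.quadSimilarityGroup Q ⊓ Cfsg.spGL 2 F)) := by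
  have hq : 4 ≤ Nat.card F := by rwa [Nat.card_eq_fintype_card]
  refine ⟨fun W hW0 hW => ?_, fun D hD => ?_, fun K hK hsa halt => ?_,
    fun F₀ r P ζ hr hcard hζ hP => ?_, fun Q hQ hpol => ?_⟩
  · have h1 : W ≠ ⊤ := fun h => hW0 ((Submodule.eq_bot_iff W).2 fun x hx =>
      CfsgLib.Classical.SympTrans.eq_zero_of_f x fun v => hW x hx v (h ▸ Submodule.mem_top))
    exact CfsgLib.Classical.SympStab.isMaximalIn_of hW0 h1
      (CfsgLib.Classical.SympStab.singular_le_or_top hW)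
  · exact CfsgLib.Classical.SympDecomp.isMaximalIn hD (by omega)
  · exact CfsgLib.SympExt.isMaximalIn (by omega) (Or.inr (by omega)) Nat.prime_two K hK hsa halt
  · exact CfsgLib.Classical.SympSubfield.isMaximalIn_subfield hr
      (by rw [Nat.card_eq_fintype_card (α := F)]; exact hcard) (ζ := ζ) ⟨hζ, hP, le_rfl⟩
  · have h2 : (2 : F) = 0 := by
      obtain ⟨p, hp⟩ := CharP.exists F
      haveI : Fact p.Prime := ⟨CharP.char_is_prime F p⟩
      obtain ⟨n, hp', hn⟩ := FiniteField.card F p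
      have : p = 2 := ((Nat.prime_dvd_prime_iff_eq Nat.prime_two hp').1
        (Nat.prime_two.dvd_of_dvd_pow (n := n) (hn ▸ (Nat.not_odd_iff_even.1 heven).two_dvd))).symm
      subst this
      exact_mod_cast CharP.cast_eq_zero F 2
    exact CfsgLib.Classical.SympQuad.isMaximalIn ⟨h2, hQ.smul, fun u v => by
      have := hpol u v
      rw [QuadraticMap.polar] at this
      linear_combination this, le_rfl, Or.inr hq⟩

end Cfsg.Agent.S5789
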