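import Cfsg.Statements.S5790
import Cfsg.Agent.Lib.Classical.AschSympMaxExtra
-- import your own Cfsg.Agent.* helpers here

set_option autoImplicit false
open Cfsg

namespace Cfsg.Agent.S5790

/-- Every maximal subgroup of Sp_4(q), q ≥ 4 even, is of one of the listed geometric types or lies in the residual class. Let F be a finite field of even order q ≥ 4, f the standard alternating form on F^4 (coordinates Fin 2 ⊕ Fin 2), and H a maximal subgroup of Sp_4(F) (inside GL_4(F)). Then H is the intersection with Sp_4(F) of one of: the stabiliser of a non-zero totally isotropic subspace; the stabiliser of a decomposition into two orthogonal non-degenerate 2-spaces; the normaliser of a degree-2 subfield K of the matrix algebra, self-adjoint with f(k v, v) = 0; a subfield group whose F₀-structure carries a non-zero multiple of f, |F| = |F₀|^r with r prime; the similarity group of a non-degenerate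 quadratic form whose polar form is f — or else H lies in the residual class of the symplectic case. -/
theorem result {F : Type*} [Field F] [Fintype F] (heven : ¬ Odd (Fintype.card F)) (h4 : 4 ≤ Fintype.card F) (H : Subgroup (Matrix.GeneralLinearGroup (Fin 2 ⊕ Fin 2) F)) (hH : Cfsg.Geo.IsMaximalIn (Cfsg.spGL 2 F) H) :
    (∃ W : Submodule F (Fin 2 ⊕ Fin 2 → F), W ≠ ⊥ ∧ Cfsg.Geo.IsTotallySingularFor (Cfsg.sympForm 2 F) W ∧ H = Cfsg.Geo.subspaceStabilizer W ⊓ Cfsg.spGL 2 F) ∨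
    (∃ D : Fin 2 → Submodule F (Fin 2 ⊕ Fin 2 → F), Cfsg.Geo.IsNondegenerateMDecomposition (Cfsg.sympForm 2 F) 2 D ∧ H = Cfsg.Geo.decompositionStabilizer D ⊓ Cfsg.spGL 2 F) ∨
    (∃ K : Subalgebra F (Matrix (Fin 2 ⊕ Fin 2) (Fin 2 ⊕ Fin 2) F), Cfsg.Geo.IsFieldSubalgebra 2 K ∧ Cfsg.Geo.IsSelfAdjointFor (Cfsg.sympForm 2 F) K ∧ (∀ k ∈ K, ∀ v : (Fin 2 ⊕ Fin 2 → F), (Cfsg.sympForm 2 F) (Matrix.mulVec k v) v = 0) ∧ H = Cfsg.Geo.subalgebraNormalizer K ⊓ Cfsg.spGL 2 F) ∨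
    (∃ (F₀ : Subfield F) (r : ℕ) (P : Matrix.GeneralLinearGroup (Fin 2 ⊕ Fin 2) F) (ζ : F), r.Prime ∧ Fintype.card F = Nat.card F₀ ^ r ∧ ζ ≠ 0 ∧ Cfsg.Geo.IsFormRationalStructure (Cfsg.sympForm 2 F) F₀ ζ P ∧ H = Cfsg.Geo.subfieldSubgroup F₀ P ⊓ Cfsg.spGL 2 F) ∨
    (∃ Q : (Fin 2 ⊕ Fin 2 → F) → F, Cfsg.Geo.IsNondegenerateQuadraticForm Q ∧ (∀ u v : (Fin 2 ⊕ Fin 2 → F), QuadraticMap.polar Q u v = (Cfsg.sympForm 2 F) u v) ∧ H = Cfsg.Geo.quadSimilarityGroup Q ⊓ Cfsg.spGL 2 F) ∨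
    Cfsg.Geo.InSymplecticResidualClass H := by
  rcases CfsgLib.Asch.symp_max_cases (by norm_num) hH with ⟨W, h0, hW, hE⟩ | ⟨W, h0, hW, hd, hd2, hE⟩ |
    ⟨t, k, D, htk, ht, hev, hk, hq, hD, hE⟩ | ⟨D, ho, hq, hD, hts, hE⟩ | ⟨r, K, hr, hrm, hK, hsa, halt, hE⟩ |
    ⟨K, ho, hq, hK, hcl, hn, hE⟩ | ⟨n₁, n₂, e, P, f₁, f₂, ho, h1, he1, h3, hnn, hq, hpl, hf₁, hf₂, hs, hE⟩ |
    ⟨F₀, r, P, ζ, hr, hc, hζ, hrat, hE⟩ | ⟨R, p, k, hR, ha, hs, hp, hpo, hcard, hk, hc, hz, hmi, hE⟩ |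
    ⟨k, t, e, P, f₁, ho, ht, ht3, hq, hn, hev, hf₁, hs, hE⟩ | ⟨Q, he, hQ, hpol, hE⟩ | h
  · exact Or.inl (⟨W, h0, hW, hE⟩)
  · omega
  · have hkle : k ≤ 4 := by nlinarith
    interval_cases k
    all_goals first
    | omega
    | (exfalso; revert hev; decide)
    | (obtain rfl : t = 2
       · omega
       exact Or.inr (Or.inl (⟨D, hD, hE⟩)))
  · exact absurd ho heven
  · rcases CfsgLib.Asch.prime_dvd_cases hr hrm (by norm_num) (by norm_num) with ⟨h, hr'⟩ | ⟨h, hr'⟩ | ⟨h, hr'⟩ | ⟨h, hr'⟩ | ⟨h, hr' | hr'⟩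
    all_goals first
    | omega
    | (obtain rfl : r = 2
       · omega
       exact Or.inr (Or.inr (Or.inl (⟨K, hK, hsa, halt, hE⟩))))
  · exact absurd ho heven
  · have hle1 : n₁ ≤ 4 := by nlinarith
    interval_cases n₁
    all_goals first
    | omega
    | (exfalso; revert he1; decide)
  · exact Or.inr (Or.inr (Or.inr (Or.inl (⟨F₀, r, P, ζ, hr, hc, hζ, hrat, hE⟩))))
  · rcases CfsgLib.Asch.two_pow_eq hk (by norm_num) with ⟨rfl, h⟩ | ⟨rfl, h⟩ | ⟨rfl, h⟩ | ⟨rfl, h⟩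
    all_goals first
    | omega
    | exact absurd (hcard ▸ hpo) heven
  · rcases CfsgLib.Asch.no_power hev ht3 hn (by norm_num) with ⟨rfl, h⟩ | h
    · rcases CfsgLib.Asch.two_pow_eq h.symm (by norm_num) with ⟨rfl, h'⟩ | ⟨rfl, h'⟩ | ⟨rfl, h'⟩ | ⟨rfl, h'⟩ <;> omega
    · omega
  · exact Or.inr (Or.inr (Or.inr (Or.inr (Or.inl (⟨Q, hQ, hpol, hE⟩)))))
  · exact Or.inr (Or.inr (Or.inr (Or.inr (Or.inr (h)))))

end Cfsg.Agent.S5790
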