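import Cfsg.Statements.S5801
import Cfsg.Agent.Lib.Classical.UnitaryMaxTen
import Cfsg.Agent.Lib.Classical.UnitaryPair
import Cfsg.Agent.Lib.Classical.UnitaryDecompMax.Apply
import Cfsg.Agent.Lib.Classical.UnitExtField.Max
import Cfsg.Agent.Lib.Classical.TensorUnitary.SixPure
import Cfsg.Agent.Lib.Classical.UnitarySubfield
import Cfsg.Agent.Lib.Classical.UnitarySubfieldOdd
import Cfsg.Agent.Lib.Classical.UnitaryOrthSubfield

set_option autoImplicit false
open Cfsg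

namespace Cfsg.Agent.S5801

/-- Maximal subgroups of SU_6(q) of geometric type (any prime power q). Let F be the field with q² elements, f the standard unitary form Σ u_i v_i^q on F^6 and SU_6(q) its determinant-one isometry group inside GL_6(F). Each of the following, intersected with SU_6(q), is a maximal subgroup of SU_6(q): (1) the stabiliser of any non-zero subspace on which f vanishes identically (totally isotropic 1-, 2- and 3-spaces); (2) the stabiliser of any non-degenerate 1-space or 2-space; (3) for q ≥ 3, the stabiliser of any decomposition into six mutually orthogonal non-degenerate 1-spaces; (4) for q ≥ 3, the stabiliser of any decomposition into three mutually orthogonal non-degenerate 2-spaces; (5) the stabiliser of any decomposition into two mutually orthogonal non-degenerate 3-spaces; (6) the stabiliser of any decomposition into two totally isotropic 3-spaces; (7) for q ≥ 3, the normaliser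 of any degree-3 subfield of the matrix algebra closed under adjoints for f; (8) for q ≥ 3, the stabiliser of any tensor decomposition of f as (unitary form on F^2) ⊗ (unitary form on F^3) up to a scalar; (9) every subfield group for a subfield F₀ of odd prime index in F whose F₀-structure carries f; (10) every subfield group for the subfield F₀ of index 2 whose F₀-structure carries ζ f, vanishing on pairs (u, u), for a non-zero ζ with ζ + ζ^q = 0 (symplectic type); (11) for q odd, every subfield group for the subfield F₀ of index 2 whose F₀-structure carries f (orthogonal types, either sign). -/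
theorem result {F : Type*} [Field F] [Fintype F] (q : ℕ) (hF : Fintype.card F = q ^ 2) :
    (∀ W : Submodule F (Fin 6 → F), W ≠ ⊥ → Cfsg.Geo.IsTotallySingularFor (Cfsg.hermForm 6 F q) W → Cfsg.Geo.IsMaximalIn (Cfsg.GU 6 F q ⊓ Cfsg.Geo.specialLinear (Fin 6) F) (Cfsg.Geo.subspaceStabilizer W ⊓ (Cfsg.GU 6 F q ⊓ Cfsg.Geo.specialLinear (Fin 6) F))) ∧
    (∀ W : Submodule F (Fin 6 → F), W ≠ ⊥ → Cfsg.Geo.IsNondegenerateOn (Cfsg.hermForm 6 F q) W → 2 * Module.finrank F W < 6 → Cfsg.Geo.IsMaximalIn (Cfsg.GU 6 F q ⊓ Cfsg.Geo.specialLinear (Fin 6) F) (Cfsg.Geo.subspaceStabilizer W ⊓ (Cfsg.GU 6 F q ⊓ Cfsg.Geo.specialLinear (Fin 6) F))) ∧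
    (3 ≤ q → ∀ D : Fin 6 → Submodule F (Fin 6 → F), Cfsg.Geo.IsNondegenerateMDecomposition (Cfsg.hermForm 6 F q) 1 D → Cfsg.Geo.IsMaximalIn (Cfsg.GU 6 F q ⊓ Cfsg.Geo.specialLinear (Fin 6) F) (Cfsg.Geo.decompositionStabilizer D ⊓ (Cfsg.GU 6 F q ⊓ Cfsg.Geo.specialLinear (Fin 6) F))) ∧
    (3 ≤ q → ∀ D : Fin 3 → Submodule F (Fin 6 → F), Cfsg.Geo.IsNondegenerateMDecomposition (Cfsg.hermForm 6 F q) 2 D → Cfsg.Geo.IsMaximalIn (Cfsg.GU 6 F q ⊓ Cfsg.Geo.specialLinear (Fin 6) F) (Cfsg.Geo.decompositionStabilizer D ⊓ (Cfsg.GU 6 F q ⊓ Cfsg.Geo.specialLinear (Fin 6) F))) ∧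
    (∀ D : Fin 2 → Submodule F (Fin 6 → F), Cfsg.Geo.IsNondegenerateMDecomposition (Cfsg.hermForm 6 F q) 3 D → Cfsg.Geo.IsMaximalIn (Cfsg.GU 6 F q ⊓ Cfsg.Geo.specialLinear (Fin 6) F) (Cfsg.Geo.decompositionStabilizer D ⊓ (Cfsg.GU 6 F q ⊓ Cfsg.Geo.specialLinear (Fin 6) F))) ∧
    (∀ D : Fin 2 → Submodule F (Fin 6 → F), Cfsg.Geo.IsMDecomposition 3 D → (∀ i, Cfsg.Geo.IsTotallySingularFor (Cfsg.hermForm 6 F q) (D i)) → Cfsg.Geo.IsMaximalIn (Cfsg.GU 6 F q ⊓ Cfsg.Geo.specialLinear (Fin 6) F) (Cfsg.Geo.decompositionStabilizer D ⊓ (Cfsg.GU 6 F q ⊓ Cfsg.Geo.specialLinear (Fin 6) F))) ∧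
    (3 ≤ q → ∀ K : Subalgebra F (Matrix (Fin 6) (Fin 6) F), Cfsg.Geo.IsFieldSubalgebra 3 K → Cfsg.Geo.IsAdjointClosedFor (Cfsg.hermForm 6 F q) K → Cfsg.Geo.IsMaximalIn (Cfsg.GU 6 F q ⊓ Cfsg.Geo.specialLinear (Fin 6) F) (Cfsg.Geo.subalgebraNormalizer K ⊓ (Cfsg.GU 6 F q ⊓ Cfsg.Geo.specialLinear (Fin 6) F))) ∧
    (3 ≤ q → ∀ (e : Fin 6 ≃ Fin 2 × Fin 3) (P : Matrix.GeneralLinearGroup (Fin 6) F) (f₁ : (Fin 2 → F) → (Fin 2 → F) → F) (f₂ : (Fin 3 → F) → (Fin 3 → F) → F), Cfsg.Geo.IsUnitaryFormPow q f₁ → Cfsg.Geo.IsUnitaryFormPow q f₂ → Cfsg.Geo.IsTensorFormStructure (fun x : F => x ^ q) (Cfsg.hermForm 6 F q) f₁ f₂ e P → Cfsg.Geo.IsMaximalIn (Cfsg.GU 6 F q ⊓ Cfsg.Geo.specialLinear (Fin 6) F) (Cfsg.Geo.tensorProductSubgroup 2 3 e P ⊓ (Cfsg.GU 6 F q ⊓ Cfsg.Geo.specialLinear (Fin 6) F))) ∧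
    (∀ (F₀ : Subfield F) (r : ℕ) (P : Matrix.GeneralLinearGroup (Fin 6) F), r.Prime → Odd r → Fintype.card F = Nat.card F₀ ^ r → Cfsg.Geo.IsFormRationalStructure (Cfsg.hermForm 6 F q) F₀ 1 P → Cfsg.Geo.IsMaximalIn (Cfsg.GU 6 F q ⊓ Cfsg.Geo.specialLinear (Fin 6) F) (Cfsg.Geo.subfieldSubgroup F₀ P ⊓ (Cfsg.GU 6 F q ⊓ Cfsg.Geo.specialLinear (Fin 6) F))) ∧
    (∀ (F₀ : Subfield F) (P : Matrix.GeneralLinearGroup (Fin 6) F) (ζ : F), Fintype.card F = Nat.card F₀ ^ 2 → ζ ≠ 0 → ζ + ζ ^ q = 0 → Cfsg.Geo.IsFormRationalStructure (Cfsg.hermForm 6 F q) F₀ ζ P → (∀ u : Fin 6 → F, (∀ i, u i ∈ F₀) → (Cfsg.hermForm 6 F q) (Matrix.mulVec (P : Matrix (Fin 6) (Fin 6) F) u) (Matrix.mulVec (P : Matrix (Fin 6) (Fin 6) F) u) = 0) → Cfsg.Geo.IsMaximalIn (Cfsg.GU 6 F q ⊓ Cfsg.Geo.specialLinear (Fin 6) F) (Cfsg.Geo.subfieldSubgroup F₀ P ⊓ (Cfsg.GU 6 F q ⊓ Cfsg.Geo.specialLinear (Fin 6) F))) ∧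
    (Odd q → ∀ (F₀ : Subfield F) (P : Matrix.GeneralLinearGroup (Fin 6) F), Fintype.card F = Nat.card F₀ ^ 2 → Cfsg.Geo.IsFormRationalStructure (Cfsg.hermForm 6 F q) F₀ 1 P → Cfsg.Geo.IsMaximalIn (Cfsg.GU 6 F q ⊓ Cfsg.Geo.specialLinear (Fin 6) F) (Cfsg.Geo.subfieldSubgroup F₀ P ⊓ (Cfsg.GU 6 F q ⊓ Cfsg.Geo.specialLinear (Fin 6) F))) := by
  classical
  obtain ⟨K⟩ := CfsgLib.Classical.Herm.exists_conj_of_card hF
  refine ⟨fun W hW0 hW => ?_, fun W hW0 hW hdim => ?_, fun hq D hD => ?_, fun hq D hD => ?_,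
    fun D hD => ?_, fun D hD hts => ?_, fun hq S hS hac => ?_,
    fun hq e P f₁ f₂ hf₁ hf₂ hT => ?_, fun F₀ r P hr hro hcard hP => ?_,
    fun F₀ P ζ hcard hζ0 hζ hP halt => ?_, fun hodd F₀ P hcard hP => ?_⟩
  · exact CfsgLib.Classical.Herm.isMaximalIn_of
      (CfsgLib.Classical.Herm.exists_notMem_stab_singular K hW0 hW)
      (CfsgLib.Classical.Herm.singular_le_or_top K (by omega) hW)
  · have hW' : CfsgLib.Classical.Herm.Nondeg (q := q) W := fun w hw h0 => (hW w hw h0).2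
    have hd := CfsgLib.Classical.Herm.finrank_orth K hW'
    exact CfsgLib.Classical.Herm.isMaximalIn_of
      (CfsgLib.Classical.Herm.exists_notMem_stab_nondeg K hW0 hW' (by omega))
      (CfsgLib.Classical.Herm.nondegenerate_le_or_top' K hW' (by norm_num) hdim)
  · exact CfsgLib.Classical.HermDecompMax.decomposition_maximal_six K hD (fun _ => hq)
  · exact CfsgLib.Classical.HermDecompMax.decomposition_maximal_six K hD (fun _ => hq)
  · exact CfsgLib.Classical.HermDecompMax.decomposition_maximal_six K hD (by omega)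
  · exact CfsgLib.Classical.HermPair.isMaximalIn' K (k := 3) (by norm_num) (Or.inl rfl) hD hts
  · refine CfsgLib.UnitExt.isMaximalIn K Nat.prime_three (by decide) (by norm_num) (fun hdvd => ?_)
      (fun h => absurd h (by omega)) S hS hac
    obtain ⟨m, rfl⟩ : ∃ m, q = m + 3 := ⟨q - 3, by omega⟩
    have h4 : 1 ≤ (m + 3) ^ 2 := Nat.one_le_pow _ _ (by omega)
    have e : ((m + 3) ^ 2 - 1) ^ 2 + (2 * (m + 3) ^ 2 + (m + 3) - 1) = (m + 3) * ((m + 3) ^ 3 + 1) := by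
      obtain ⟨a, ha⟩ : ∃ a, (m + 3) ^ 2 = a + 1 := ⟨(m + 3) ^ 2 - 1, by omega⟩
      rw [show (m + 3) * ((m + 3) ^ 3 + 1) = ((m + 3) ^ 2) ^ 2 + (m + 3) by ring, ha, Nat.add_sub_cancel,
        show 2 * (a + 1) + (m + 3) - 1 = 2 * a + m + 4 by omega]
      ring
    have h1 := (Nat.dvd_add_right hdvd).1 (e ▸ dvd_mul_left _ _)
    have h2 := Nat.le_of_dvd (by omega) h1
    have h3 : 3 * (m + 3) ^ 2 ≤ (m + 3) ^ 3 := by
      rw [pow_succ' _ 2]; exact Nat.mul_le_mul_right _ (by omega)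
    have h5 : m + 3 ≤ (m + 3) ^ 2 := Nat.le_self_pow two_ne_zero _
    omega
  · exact CfsgLib.Classical.TensorUnitary.isMaximalIn_two_three K hq e P hf₁ hf₂ hT
  · have hcard' : Nat.card F = Nat.card F₀ ^ r := by rw [Nat.card_eq_fintype_card]; exact hcard
    exact CfsgLib.Classical.Herm.Rat.isMaximalIn_subfield K ⟨hP, le_rfl, hr, hro, hcard'⟩
  · have hcard' : Nat.card F = Nat.card F₀ ^ 2 := by rw [Nat.card_eq_fintype_card]; exact hcard
    have hζ' : ζ + K.bar ζ = 0 := by rw [K.bar_apply]; exact hζ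
    have halt' : ∀ a ∈ CfsgLib.Classical.Herm.rat F₀ P, Cfsg.hermForm 6 F q a a = 0 := fun a ha => by
      obtain ⟨u, hu, rfl⟩ := CfsgLib.Classical.Herm.exists_of_mem_rat ha
      exact halt u hu
    exact CfsgLib.Classical.Herm.isMaximalIn_subfield_of
      (CfsgLib.Classical.Herm.alt_exists_notMem K hcard' hζ0 hζ' hP halt' (by norm_num))
      (CfsgLib.Classical.Herm.alt_le_or_top K hcard' hζ0 hζ' hP halt' (by norm_num))
  · have hcard' : Nat.card F = Nat.card F₀ ^ 2 := by rw [Nat.card_eq_fintype_card]; exact hcard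
    have h2 : (2 : F) ≠ 0 := Ring.two_ne_zero fun e => by
      have h1 := FiniteField.even_card_of_char_two e
      rw [hF] at h1
      have h3 : Odd (q ^ 2) := hodd.pow
      rw [Nat.odd_iff] at h3
      omega
    obtain ⟨Q, hB, hQ, -⟩ := CfsgLib.Classical.Herm.OrthSubfield.exists_form K hcard' hP h2
    exact CfsgLib.Classical.Herm.isMaximalIn_subfield_of
      (CfsgLib.Classical.Herm.OrthSubfield.orth_exists_notMem K hcard' hP h2 hB hQ le_rfl)
      (fun M hM => CfsgLib.Classical.Herm.OrthSubfield.orth_le_or_top K hcard' hP h2 hM hB hQ le_rfl)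

end Cfsg.Agent.S5801
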