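import Cfsg.Statements.S5802
import Cfsg.Agent.Lib.Classical.AschUnitArith
import Cfsg.Agent.Lib.Classical.AschUnitSixLines

set_option autoImplicit false
open Cfsg

namespace Cfsg.Agent.S5802

/-- Every maximal subgroup of SU_6(q) is of one of the listed geometric types or lies in the residual class. Let F be the field with q² elements, f the standard unitary form Σ u_i v_i^q on F^6, and H a maximal subgroup of SU_6(q) (inside GL_6(F)). Then H is the intersection with SU_6(q) of one of: the stabiliser of a non-zero totally isotropic subspace; the stabiliser of a non-degenerate 1- or 2-space; for q ≥ 3, the stabiliser of a decomposition into six mutually orthogonal non-degenerate 1-spaces; for q ≥ 3, of a decomposition into three mutually orthogonal non-degenerate 2-spaces; of a decomposition into two orthogonal non-degenerate 3-spaces; of a decomposition into two totally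 isotropic 3-spaces; for q ≥ 3, the normaliser of an adjoint-closed degree-3 subfield of the matrix algebra; for q ≥ 3, the stabiliser of a tensor decomposition of f into unitary forms on F^2 and F^3; a subfield group of odd prime index whose F₀-structure carries f; a subfield group of index 2 and symplectic type; for q odd, a subfield group of index 2 and orthogonal type — or else H lies in the residual class of the unitary case. -/
theorem result {F : Type*} [Field F] [Fintype F] (q : ℕ) (hF : Fintype.card F = q ^ 2) (H : Subgroup (Matrix.GeneralLinearGroup (Fin 6) F)) (hH : Cfsg.Geo.IsMaximalIn (Cfsg.GU 6 F q ⊓ Cfsg.Geo.specialLinear (Fin 6) F) H) :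
    (∃ W : Submodule F (Fin 6 → F), W ≠ ⊥ ∧ Cfsg.Geo.IsTotallySingularFor (Cfsg.hermForm 6 F q) W ∧ H = Cfsg.Geo.subspaceStabilizer W ⊓ (Cfsg.GU 6 F q ⊓ Cfsg.Geo.specialLinear (Fin 6) F)) ∨
    (∃ W : Submodule F (Fin 6 → F), W ≠ ⊥ ∧ Cfsg.Geo.IsNondegenerateOn (Cfsg.hermForm 6 F q) W ∧ 2 * Module.finrank F W < 6 ∧ H = Cfsg.Geo.subspaceStabilizer W ⊓ (Cfsg.GU 6 F q ⊓ Cfsg.Geo.specialLinear (Fin 6) F)) ∨
    (3 ≤ q ∧ ∃ D : Fin 6 → Submodule F (Fin 6 → F), Cfsg.Geo.IsNondegenerateMDecomposition (Cfsg.hermForm 6 F q) 1 D ∧ H = Cfsg.Geo.decompositionStabilizer D ⊓ (Cfsg.GU 6 F q ⊓ Cfsg.Geo.specialLinear (Fin 6) F)) ∨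
    (3 ≤ q ∧ ∃ D : Fin 3 → Submodule F (Fin 6 → F), Cfsg.Geo.IsNondegenerateMDecomposition (Cfsg.hermForm 6 F q) 2 D ∧ H = Cfsg.Geo.decompositionStabilizer D ⊓ (Cfsg.GU 6 F q ⊓ Cfsg.Geo.specialLinear (Fin 6) F)) ∨
    (∃ D : Fin 2 → Submodule F (Fin 6 → F), Cfsg.Geo.IsNondegenerateMDecomposition (Cfsg.hermForm 6 F q) 3 D ∧ H = Cfsg.Geo.decompositionStabilizer D ⊓ (Cfsg.GU 6 F q ⊓ Cfsg.Geo.specialLinear (Fin 6) F)) ∨
    (∃ D : Fin 2 → Submodule F (Fin 6 → F), Cfsg.Geo.IsMDecomposition 3 D ∧ (∀ i, Cfsg.Geo.IsTotallySingularFor (Cfsg.hermForm 6 F q) (D i)) ∧ H = Cfsg.Geo.decompositionStabilizer D ⊓ (Cfsg.GU 6 F q ⊓ Cfsg.Geo.specialLinear (Fin 6) F)) ∨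
    (3 ≤ q ∧ ∃ K : Subalgebra F (Matrix (Fin 6) (Fin 6) F), Cfsg.Geo.IsFieldSubalgebra 3 K ∧ Cfsg.Geo.IsAdjointClosedFor (Cfsg.hermForm 6 F q) K ∧ H = Cfsg.Geo.subalgebraNormalizer K ⊓ (Cfsg.GU 6 F q ⊓ Cfsg.Geo.specialLinear (Fin 6) F)) ∨
    (3 ≤ q ∧ ∃ (e : Fin 6 ≃ Fin 2 × Fin 3) (P : Matrix.GeneralLinearGroup (Fin 6) F) (f₁ : (Fin 2 → F) → (Fin 2 → F) → F) (f₂ : (Fin 3 → F) → (Fin 3 → F) → F), Cfsg.Geo.IsUnitaryFormPow q f₁ ∧ Cfsg.Geo.IsUnitaryFormPow q f₂ ∧ Cfsg.Geo.IsTensorFormStructure (fun x : F => x ^ q) (Cfsg.hermForm 6 F q) f₁ f₂ e P ∧ H = Cfsg.Geo.tensorProductSubgroup 2 3 e P ⊓ (Cfsg.GU 6 F q ⊓ Cfsg.Geo.specialLinear (Fin 6) F)) ∨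
    (∃ (F₀ : Subfield F) (r : ℕ) (P : Matrix.GeneralLinearGroup (Fin 6) F), r.Prime ∧ Odd r ∧ Fintype.card F = Nat.card F₀ ^ r ∧ Cfsg.Geo.IsFormRationalStructure (Cfsg.hermForm 6 F q) F₀ 1 P ∧ H = Cfsg.Geo.subfieldSubgroup F₀ P ⊓ (Cfsg.GU 6 F q ⊓ Cfsg.Geo.specialLinear (Fin 6) F)) ∨
    (∃ (F₀ : Subfield F) (P : Matrix.GeneralLinearGroup (Fin 6) F) (ζ : F), Fintype.card F = Nat.card F₀ ^ 2 ∧ ζ ≠ 0 ∧ ζ + ζ ^ q = 0 ∧ Cfsg.Geo.IsFormRationalStructure (Cfsg.hermForm 6 F q) F₀ ζ P ∧ (∀ u : Fin 6 → F, (∀ i, u i ∈ F₀) → (Cfsg.hermForm 6 F q) (Matrix.mulVec (P : Matrix (Fin 6) (Fin 6) F) u) (Matrix.mulVec (P : Matrix (Fin 6) (Fin 6) F) u) = 0) ∧ H = Cfsg.Geo.subfieldSubgroup F₀ P ⊓ (Cfsg.GU 6 F q ⊓ Cfsg.Geo.specialLinear (Fin 6) F)) ∨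
    (Odd q ∧ ∃ (F₀ : Subfield F) (P : Matrix.GeneralLinearGroup (Fin 6) F), Fintype.card F = Nat.card F₀ ^ 2 ∧ Cfsg.Geo.IsFormRationalStructure (Cfsg.hermForm 6 F q) F₀ 1 P ∧ H = Cfsg.Geo.subfieldSubgroup F₀ P ⊓ (Cfsg.GU 6 F q ⊓ Cfsg.Geo.specialLinear (Fin 6) F)) ∨
    Cfsg.Geo.InUnitaryResidualClass H := by
  obtain ⟨K⟩ := CfsgLib.Classical.Herm.exists_conj_of_card hF
  rcases CfsgLib.Asch.unit_max_cases K (by norm_num) hH with ⟨W, h0, hW, hE⟩ | ⟨W, h0, hW, hd, hE⟩ |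
    ⟨t, k, D, htk, ht, hq, hD, hE⟩ | ⟨k, D, hk, hq, hD, hts, hE⟩ | ⟨r, L, hr, hro, hrn, hL, hcl, hE⟩ |
    ⟨n₁, n₂, e, P, f₁, f₂, hn₁, hn₂, hnn, hq, hf₁, hf₂, hs, hE⟩ | ⟨F₀, r, P, hr, hro, hc, hrat, hE⟩ |
    ⟨F₀, P, ζ, hev, hc, hζ, hζ', hrat, hiso, hE⟩ | ⟨F₀, P, hq, hc, hrat, hE⟩ |
    ⟨r, R, p, e, k, hR, ha, hs, hrp, hk, hk1, hp, hmi, hc, hE⟩ |
    ⟨k, t, e, P, f₁, hk, ht, hex, hkt, hf₁, hs, hE⟩ | h
  · exact Or.inl (⟨W, h0, hW, hE⟩)
  · exact Or.inr (Or.inl (⟨W, h0, hW, hd, hE⟩))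
  · have hk1 : 1 ≤ k := hD.decomp.pos
    have hk2 : k ≤ 3 := by nlinarith
    interval_cases k
    all_goals first
    | omega
    | (obtain rfl : t = 6
       · omega
       by_cases hq2 : 3 ≤ q
       · exact Or.inr (Or.inr (Or.inl (⟨hq2, D, hD, hE⟩)))
       · obtain rfl : q = 2 := by have := K.two_le; omega
         exact (CfsgLib.Asch.UnitSix.lines_not_maximal K hH hD (hE.le.trans inf_le_left)).elim)
    | (obtain rfl : t = 3
       · omega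
       exact Or.inr (Or.inr (Or.inr (Or.inl (⟨hq rfl, D, hD, hE⟩)))))
    | (obtain rfl : t = 2
       · omega
       exact Or.inr (Or.inr (Or.inr (Or.inr (Or.inl (⟨D, hD, hE⟩))))))
  · obtain rfl : k = 3 := by omega
    exact Or.inr (Or.inr (Or.inr (Or.inr (Or.inr (Or.inl (⟨D, hD, hts, hE⟩))))))
  · obtain rfl : r = 3 := by
      have h8 := Nat.le_of_dvd (by norm_num) hrn
      interval_cases r <;> revert hr hro hrn <;> decide
    by_cases hq2 : 3 ≤ q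
    · exact Or.inr (Or.inr (Or.inr (Or.inr (Or.inr (Or.inr (Or.inl (⟨hq2, L, hL, hcl, hE⟩)))))))
    obtain rfl : q = 2 := by have := K.two_le; omega
    have hu := CfsgLib.Asch.UnitSix.urational_of_field K (fun g hg => CfsgLib.Asch.iso_of_gu K (hH.1.le hg).1)
      (fun g hg => by
        have h4 : g ∈ Cfsg.Geo.specialLinear (Fin 6) F := (hH.1.le hg).2
        simpa [Cfsg.Geo.specialLinear, MonoidHom.mem_ker, Units.ext_iff] using h4)
      hL hcl (hE.le.trans inf_le_left)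
    rcases hu with ⟨F₀, r, P, hr, hro, hc, hrat, hle⟩ | ⟨F₀, P, hq', hc, hrat, hle⟩ |
      ⟨F₀, P, ζ, hev, hc, hζ, hζ', hrat, hiso, hle⟩
    · exact Or.inr (Or.inr (Or.inr (Or.inr (Or.inr (Or.inr (Or.inr (Or.inr (Or.inl (⟨F₀, r, P, hr, hro, hc, hrat, CfsgLib.Asch.key_unit hH _ hle (CfsgLib.PrimeDim.sugl_not_le_subfield K (by norm_num) (CfsgLib.Asch.subfield_ne_top hr.two_le hc) P)⟩)))))))))
    · exact Or.inr (Or.inr (Or.inr (Or.inr (Or.inr (Or.inr (Or.inr (Or.inr (Or.inr (Or.inr (Or.inl (⟨hq', F₀, P, hc, hrat, CfsgLib.Asch.key_unit hH _ hle (CfsgLib.PrimeDim.sugl_not_le_subfield K (by norm_num) (CfsgLib.Asch.subfield_ne_top le_rfl hc) P)⟩)))))))))))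
    · exact Or.inr (Or.inr (Or.inr (Or.inr (Or.inr (Or.inr (Or.inr (Or.inr (Or.inr (Or.inl (⟨F₀, P, ζ, hc, hζ, hζ', hrat, hiso, CfsgLib.Asch.key_unit hH _ hle (CfsgLib.PrimeDim.sugl_not_le_subfield K (by norm_num) (CfsgLib.Asch.subfield_ne_top le_rfl hc) P)⟩))))))))))
  · have hb : n₁ ≤ 3 := by nlinarith
    interval_cases n₁
    all_goals first
    | omega
    | (obtain rfl : n₂ = 3
       · omega
       exact Or.inr (Or.inr (Or.inr (Or.inr (Or.inr (Or.inr (Or.inr (Or.inl (⟨hq rfl, e, P, f₁, f₂, hf₁, hf₂, hs, hE⟩)))))))))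
  · exact Or.inr (Or.inr (Or.inr (Or.inr (Or.inr (Or.inr (Or.inr (Or.inr (Or.inl (⟨F₀, r, P, hr, hro, hc, hrat, hE⟩)))))))))
  · exact Or.inr (Or.inr (Or.inr (Or.inr (Or.inr (Or.inr (Or.inr (Or.inr (Or.inr (Or.inl (⟨F₀, P, ζ, hc, hζ, hζ', hrat, hiso, hE⟩))))))))))
  · exact Or.inr (Or.inr (Or.inr (Or.inr (Or.inr (Or.inr (Or.inr (Or.inr (Or.inr (Or.inr (Or.inl (⟨hq, F₀, P, hc, hrat, hE⟩)))))))))))
  · exfalso
    have h2 := (Nat.prime_dvd_prime_iff_eq Nat.prime_two hR.prime).1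
      (Nat.prime_two.dvd_of_dvd_pow (show 2 ∣ r ^ k by rw [← hk]; norm_num))
    have h3 := (Nat.prime_dvd_prime_iff_eq (by norm_num : Nat.Prime 3) hR.prime).1
      ((by norm_num : Nat.Prime 3).dvd_of_dvd_pow (show 3 ∣ r ^ k by rw [← hk]; norm_num))
    omega
  · obtain ⟨rfl, rfl, hn9⟩ := CfsgLib.Asch.UnitArith.power_data hk ht hkt (by norm_num)
    omega
  · exact Or.inr (Or.inr (Or.inr (Or.inr (Or.inr (Or.inr (Or.inr (Or.inr (Or.inr (Or.inr (Or.inr ((h))))))))))))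

end Cfsg.Agent.S5802
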