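import Cfsg.Statements.S5825
import Cfsg.Agent.Lib.Classical.OrthStab
import Cfsg.Agent.Lib.Classical.OrthPoint
import Cfsg.Agent.Lib.Classical.OrthPair
import Cfsg.Agent.Lib.Classical.OrthNondegFour
import Cfsg.Agent.Lib.Classical.OrthSubfield
import Cfsg.Agent.Lib.Classical.OrthForms
import Cfsg.Agent.Lib.Classical.OrthExtField.Maximal
-- import your own Cfsg.Agent.* helpers here

set_option autoImplicit false
open Cfsg

namespace Cfsg.Agent.S5825

/-- Maximal subgroups of Ω_8^-(q) of geometric type (any q). Let F be a finite field with q elements, Q a non-degenerate quadratic form on F^8 (non-degenerate polar form) of minus type (Witt index 3: no totally singular 4-space), and Ω = Ω_8^-(q) the commutator subgroup of the isometry group of Q, inside GL_8(F). Each of the following, intersected with Ω, is a maximal subgroup of Ω: (1) the stabiliser of any non-zero subspace on which Q vanishes identically (totally singular 1-, 2- and 3-spaces); (2) for q odd, the stabiliser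 of any proper subspace of odd dimension (1, 3, 5 or 7) on which the polar form of Q is non-degenerate; (3) the stabiliser of any non-degenerate 2-space of minus type (containing no non-zero singular vector); (4) for q ≥ 4, the stabiliser of any non-degenerate 2-space of plus type (containing a non-zero singular vector); (5) the stabiliser of any non-degenerate 4-space (its orthogonal complement is then a non-degenerate 4-space of the opposite type); (6) for q even, the stabiliser of the 1-space spanned by any non-singular vector v (Q(v) ≠ 0); (7) for q odd, the normaliser of any degree-2 subfield K of the matrix algebra whose elements are self-adjoint for the polar form of Q (Q is then the trace of a quadratic form over K); (8) every subfield group for a subfield F₀ of odd prime index r in F whose F₀-structure carries a non-zero scalar multiple of Q. -/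
theorem result {F : Type*} [Field F] [Fintype F] (Q : (Fin 8 → F) → F) (hQ : Cfsg.Geo.IsNondegenerateQuadraticForm Q) (hminus : ¬ Cfsg.Geo.IsPlusTypeOn Q ⊤) :
    (∀ W : Submodule F (Fin 8 → F), W ≠ ⊥ → Cfsg.Geo.IsTotallySingularQuad Q W → Cfsg.Geo.IsMaximalIn (Cfsg.Geo.omegaGL Q) (Cfsg.Geo.subspaceStabilizer W ⊓ Cfsg.Geo.omegaGL Q)) ∧
    (Odd (Fintype.card F) → ∀ W : Submodule F (Fin 8 → F), W ≠ ⊥ → W ≠ ⊤ → Odd (Module.finrank F W) → Cfsg.Geo.IsNondegenerateOn (QuadraticMap.polar Q) W → Cfsg.Geo.IsMaximalIn (Cfsg.Geo.omegaGL Q) (Cfsg.Geo.subspaceStabilizer W ⊓ Cfsg.Geo.omegaGL Q)) ∧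
    (∀ W : Submodule F (Fin 8 → F), Module.finrank F W = 2 → Cfsg.Geo.IsNondegenerateOn (QuadraticMap.polar Q) W → ¬ Cfsg.Geo.IsPlusTypeOn Q W → Cfsg.Geo.IsMaximalIn (Cfsg.Geo.omegaGL Q) (Cfsg.Geo.subspaceStabilizer W ⊓ Cfsg.Geo.omegaGL Q)) ∧
    (4 ≤ Fintype.card F → ∀ W : Submodule F (Fin 8 → F), Module.finrank F W = 2 → Cfsg.Geo.IsNondegenerateOn (QuadraticMap.polar Q) W → Cfsg.Geo.IsPlusTypeOn Q W → Cfsg.Geo.IsMaximalIn (Cfsg.Geo.omegaGL Q) (Cfsg.Geo.subspaceStabilizer W ⊓ Cfsg.Geo.omegaGL Q)) ∧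
    (∀ W : Submodule F (Fin 8 → F), Module.finrank F W = 4 → Cfsg.Geo.IsNondegenerateOn (QuadraticMap.polar Q) W → Cfsg.Geo.IsMaximalIn (Cfsg.Geo.omegaGL Q) (Cfsg.Geo.subspaceStabilizer W ⊓ Cfsg.Geo.omegaGL Q)) ∧
    (¬ Odd (Fintype.card F) → ∀ v : (Fin 8 → F), Q v ≠ 0 → Cfsg.Geo.IsMaximalIn (Cfsg.Geo.omegaGL Q) (Cfsg.Geo.subspaceStabilizer (Submodule.span F {v}) ⊓ Cfsg.Geo.omegaGL Q)) ∧
    (Odd (Fintype.card F) → ∀ K : Subalgebra F (Matrix (Fin 8) (Fin 8) F), Cfsg.Geo.IsFieldSubalgebra 2 K → Cfsg.Geo.IsSelfAdjointFor (QuadraticMap.polar Q) K → Cfsg.Geo.IsMaximalIn (Cfsg.Geo.omegaGL Q) (Cfsg.Geo.subalgebraNormalizer K ⊓ Cfsg.Geo.omegaGL Q)) ∧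
    (∀ (F₀ : Subfield F) (r : ℕ) (P : Matrix.GeneralLinearGroup (Fin 8) F) (ζ : F), r.Prime → Odd r → Fintype.card F = Nat.card F₀ ^ r → ζ ≠ 0 → Cfsg.Geo.IsQuadFormRationalStructure (fun v : Fin 8 → F => ζ * Q v) F₀ P → Cfsg.Geo.IsMaximalIn (Cfsg.Geo.omegaGL Q) (Cfsg.Geo.subfieldSubgroup F₀ P ⊓ Cfsg.Geo.omegaGL Q)) := by
  classical
  obtain ⟨Q, rfl, hB⟩ := CfsgLib.Orth.exists_quadForm hQ
  have hn : Module.finrank F (Fin 8 → F) = 8 := Module.finrank_fin_fun F
  have two : Odd (Fintype.card F) → (2 : F) ≠ 0 := fun hodd => Ring.two_ne_zero fun e =>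
    Nat.not_even_iff_odd.2 hodd (Nat.even_iff.2 (FiniteField.even_card_of_char_two e))
  have nd : ∀ W : Submodule F (Fin 8 → F),
      Cfsg.Geo.IsNondegenerateOn (QuadraticMap.polar ⇑Q) W → W ≠ ⊥ →
      2 * Module.finrank F W ≠ 8 → Module.finrank F W < 8 →
      (Fintype.card F ≤ 3 → Module.finrank F W ≠ 6) →
      (Fintype.card F ≤ 3 → Module.finrank F W = 2 → ¬ Cfsg.Geo.IsPlusTypeOn ⇑Q W) →
      Cfsg.Geo.IsMaximalIn (Cfsg.Geo.omegaGL ⇑Q)
        (Cfsg.Geo.subspaceStabilizer W ⊓ Cfsg.Geo.omegaGL ⇑Q) := by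
    intro W hW hW0 hne hlt hsix hbad
    have hsum := CfsgLib.Orth.finrank_orth hB W
    have hW0' : 1 ≤ Module.finrank F W := Submodule.one_le_finrank_iff.2 hW0
    refine CfsgLib.Orth.isMaximalIn_stab_nondeg' hB (by omega) (CfsgLib.Orth.nondegOn_of hW) hW0
      (fun e => ?_) (fun X hX s hs hq h2 hs0 hqs => ?_) (fun h => by omega)
    · rw [e, finrank_bot] at hsum; omega
    · rcases hX with rfl | rfl
      · exact hbad (by rwa [← Nat.card_eq_fintype_card]) h2
          (CfsgLib.Orth.isPlusTypeOn_of_singular h2 hs hs0 hqs)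
      · exact hsix (by rwa [← Nat.card_eq_fintype_card]) (by omega)
  refine ⟨?_, ?_, ?_, ?_, ?_, ?_, ?_, ?_⟩
  · intro W hW0 hW
    refine CfsgLib.Orth.isMaximalIn_stab_singular hB (by omega) hW0 hW fun U hU hUd h => ?_
    exact hminus ⟨U, le_top, hU, by rw [finrank_top]; exact h⟩
  · intro _ W hW0 hW1 hWodd hW
    rw [Nat.odd_iff] at hWodd
    have hlt := Submodule.finrank_lt hW1
    rw [hn] at hlt
    exact nd W hW hW0 (by omega) (by omega) (fun _ => by omega) fun _ h => by omega
  · intro W hd hW hnp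
    exact nd W hW (fun e => by rw [e, finrank_bot] at hd; omega) (by omega) (by omega)
      (fun _ => by omega) fun _ _ => hnp
  · intro hq W hd hW _
    exact nd W hW (fun e => by rw [e, finrank_bot] at hd; omega) (by omega) (by omega)
      (fun _ => by omega) fun h _ => by omega
  · intro W hd hW
    exact CfsgLib.Orth.Four.isMaximalIn_stab_four hB hminus (CfsgLib.Orth.nondegOn_of hW) hd
  · intro _ v hv
    refine CfsgLib.Orth.isMaximalIn_omegaGL (H := CfsgLib.Orth.stab Q (Submodule.span F {v}))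
      (fun _ => Iff.rfl) ?_
    rw [CfsgLib.Orth.omega_eq_El hB (by omega)]
    exact CfsgLib.Orth.stab_aniso_line_maximal hB (by omega) hv
  · intro hodd K hK hsa
    exact CfsgLib.OrthExt.isMaximalIn' Nat.prime_two hB (two hodd) K hK hsa
      (Or.inl ⟨by rw [Fintype.card_fin], fun _ => Or.inr ⟨by rw [Fintype.card_fin],
        fun H hH => hminus ⟨H, le_top, hH.1, by rw [finrank_top]; exact hH.2⟩⟩⟩)
  · intro F₀ r P ζ hr _ hcard hζ hP
    have hB' : CfsgLib.Orth.Nondeg (ζ • Q) := fun x hx => hB x fun y => by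
      have := hx y
      simp only [QuadraticMap.polar, FunLike.coe_smul, Pi.smul_apply, smul_eq_mul, ← mul_sub] at this
      exact (mul_eq_zero.1 this).resolve_left hζ
    have h := CfsgLib.Orth.Rat.isMaximalIn_subfield (F₀ := F₀) (P := P) hB'
      (by rw [Fintype.card_fin]; omega) hr (by rw [Nat.card_eq_fintype_card]; exact hcard)
      (fun u hu => hP u hu)
    rwa [show (⇑(ζ • Q) : (Fin 8 → F) → F) = fun v => ζ * Q v from rfl,
      CfsgLib.Orth.Rat.omegaGL_smul hζ] at h

end Cfsg.Agent.S5825
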