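import Cfsg.Statements.S5849
import Cfsg.Agent.Lib.Classical.OrthFrameMax.Apply
import Cfsg.Agent.Lib.Classical.OrthStab
import Cfsg.Agent.Lib.Classical.OrthPoint
import Cfsg.Agent.Lib.Classical.OrthPair
import Cfsg.Agent.Lib.Classical.OrthNondegMax
import Cfsg.Agent.Lib.Classical.OrthSubfield
import Cfsg.Agent.Lib.Classical.OrthForms
import Cfsg.Agent.Lib.Classical.OrthPlanesMax.Apply
import Cfsg.Agent.Lib.Classical.OrthOverfieldUMax
import Cfsg.Agent.Lib.Classical.OrthExtField.Maximal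
import Cfsg.Agent.Lib.Classical.OrthDecompMax.Two

set_option autoImplicit false
open Cfsg

namespace Cfsg.Agent.S5849

/-- Maximal subgroups of Ω_10^-(q) of geometric type (any q). Let F be a finite field with q elements (characteristic p), Q a non-degenerate quadratic form on F^10 (non-degenerate polar form) of minus type (Witt index 4: no totally singular 5-space), and Ω = Ω_10^-(q) the commutator subgroup of the isometry group of Q, inside GL_10(F). Each of the following, intersected with Ω, is a maximal subgroup of Ω: (1) the stabiliser of any non-zero subspace on which Q vanishes identically (totally singular subspaces, dimensions 1 to 4); (2) for q odd, the stabiliser of any proper subspace of odd dimension other than 5 on which the polar form of Q is non-degenerate; (3) the stabiliser of any non-degenerate 2-space of minus type (containing no non-zero singular vector); (4) for q ≥ 4, the stabiliser of any non-degenerate 2-space of plus type (containing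 a non-zero singular vector); (5) the stabiliser of any non-degenerate 4-space (either type); (6) for q even, the stabiliser of the 1-space spanned by any non-singular vector v (Q(v) ≠ 0); (7) for q = p prime with p ≡ 3 mod 4, the stabiliser of any decomposition of F^10 into 10 pairwise orthogonal, pairwise Q-isometric non-degenerate 1-spaces; (8) for q ≠ 3, the stabiliser of any decomposition of F^10 into 5 pairwise orthogonal, pairwise Q-isometric non-degenerate 2-spaces; (9) for q ≡ 3 mod 4, the stabiliser of any decomposition of F^10 into 2 pairwise orthogonal, pairwise Q-isometric non-degenerate 5-spaces; (10) for q ≡ 1 mod 4, the stabiliser of any decomposition of F^10 into two orthogonal non-degenerate 5-spaces that are not Q-isometric; (11) for q odd, the normaliser of any degree-2 subfield K of the matrix algebra whose elements are self-adjoint for the polar form of Q (Q is then the trace of a quadratic form over K); (12) the normaliser of any degree-2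 subfield K of the matrix algebra, closed under adjoints for the polar form but not self-adjoint, whose elements act as similarities of Q (so F^10 becomes a 5-dimensional space over K with a hermitian form, and the subgroup is of the type of the unitary group GU_5(q)); (13) every subfield group for a subfield F₀ with |F| = |F₀|^r, r an odd prime, whose F₀-structure carries a non-zero scalar multiple of Q. -/
theorem result {F : Type*} [Field F] [Fintype F] (Q : (Fin 10 → F) → F) (hQ : Cfsg.Geo.IsNondegenerateQuadraticForm Q) (hminus : ¬ Cfsg.Geo.IsPlusTypeOn Q ⊤) :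
    (∀ W : Submodule F (Fin 10 → F), W ≠ ⊥ → Cfsg.Geo.IsTotallySingularQuad Q W → Cfsg.Geo.IsMaximalIn (Cfsg.Geo.omegaGL Q) (Cfsg.Geo.subspaceStabilizer W ⊓ Cfsg.Geo.omegaGL Q)) ∧
    (Odd (Fintype.card F) → ∀ W : Submodule F (Fin 10 → F), W ≠ ⊥ → W ≠ ⊤ → Odd (Module.finrank F W) → 2 * Module.finrank F W ≠ 10 → Cfsg.Geo.IsNondegenerateOn (QuadraticMap.polar Q) W → Cfsg.Geo.IsMaximalIn (Cfsg.Geo.omegaGL Q) (Cfsg.Geo.subspaceStabilizer W ⊓ Cfsg.Geo.omegaGL Q)) ∧
    (∀ W : Submodule F (Fin 10 → F), Module.finrank F W = 2 → Cfsg.Geo.IsNondegenerateOn (QuadraticMap.polar Q) W → ¬ Cfsg.Geo.IsPlusTypeOn Q W → Cfsg.Geo.IsMaximalIn (Cfsg.Geo.omegaGL Q) (Cfsg.Geo.subspaceStabilizer W ⊓ Cfsg.Geo.omegaGL Q)) ∧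
    (4 ≤ Fintype.card F → ∀ W : Submodule F (Fin 10 → F), Module.finrank F W = 2 → Cfsg.Geo.IsNondegenerateOn (QuadraticMap.polar Q) W → Cfsg.Geo.IsPlusTypeOn Q W → Cfsg.Geo.IsMaximalIn (Cfsg.Geo.omegaGL Q) (Cfsg.Geo.subspaceStabilizer W ⊓ Cfsg.Geo.omegaGL Q)) ∧
    (∀ W : Submodule F (Fin 10 → F), Module.finrank F W = 4 → Cfsg.Geo.IsNondegenerateOn (QuadraticMap.polar Q) W → Cfsg.Geo.IsMaximalIn (Cfsg.Geo.omegaGL Q) (Cfsg.Geo.subspaceStabilizer W ⊓ Cfsg.Geo.omegaGL Q)) ∧
    (¬ Odd (Fintype.card F) → ∀ v : (Fin 10 → F), Q v ≠ 0 → Cfsg.Geo.IsMaximalIn (Cfsg.Geo.omegaGL Q) (Cfsg.Geo.subspaceStabilizer (Submodule.span F {v}) ⊓ Cfsg.Geo.omegaGL Q)) ∧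
    ((∃ p : ℕ, p.Prime ∧ Fintype.card F = p ∧ (p % 4 = 3)) → ∀ D : Fin 10 → Submodule F (Fin 10 → F), Cfsg.Geo.IsOrthogonalMDecomposition Q 1 D → Cfsg.Geo.IsMaximalIn (Cfsg.Geo.omegaGL Q) (Cfsg.Geo.decompositionStabilizer D ⊓ Cfsg.Geo.omegaGL Q)) ∧
    (Fintype.card F ≠ 3 → ∀ D : Fin 5 → Submodule F (Fin 10 → F), Cfsg.Geo.IsOrthogonalMDecomposition Q 2 D → Cfsg.Geo.IsMaximalIn (Cfsg.Geo.omegaGL Q) (Cfsg.Geo.decompositionStabilizer D ⊓ Cfsg.Geo.omegaGL Q)) ∧
    (Fintype.card F % 4 = 3 → ∀ D : Fin 2 → Submodule F (Fin 10 → F), Cfsg.Geo.IsOrthogonalMDecomposition Q 5 D → Cfsg.Geo.IsMaximalIn (Cfsg.Geo.omegaGL Q) (Cfsg.Geo.decompositionStabilizer D ⊓ Cfsg.Geo.omegaGL Q)) ∧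
    (Fintype.card F % 4 = 1 → ∀ D : Fin 2 → Submodule F (Fin 10 → F), Cfsg.Geo.IsNondegenerateMDecomposition (QuadraticMap.polar Q) 5 D → ¬ Cfsg.Geo.AreIsometricFor Q (D 0) (D 1) → Cfsg.Geo.IsMaximalIn (Cfsg.Geo.omegaGL Q) (Cfsg.Geo.decompositionStabilizer D ⊓ Cfsg.Geo.omegaGL Q)) ∧
    (Odd (Fintype.card F) → ∀ K : Subalgebra F (Matrix (Fin 10) (Fin 10) F), Cfsg.Geo.IsFieldSubalgebra 2 K → Cfsg.Geo.IsSelfAdjointFor (QuadraticMap.polar Q) K → Cfsg.Geo.IsMaximalIn (Cfsg.Geo.omegaGL Q) (Cfsg.Geo.subalgebraNormalizer K ⊓ Cfsg.Geo.omegaGL Q)) ∧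
    (∀ K : Subalgebra F (Matrix (Fin 10) (Fin 10) F), Cfsg.Geo.IsFieldSubalgebra 2 K → Cfsg.Geo.IsAdjointClosedFor (QuadraticMap.polar Q) K → ¬ Cfsg.Geo.IsSelfAdjointFor (QuadraticMap.polar Q) K → (∀ k ∈ K, ∃ c : F, ∀ v : (Fin 10 → F), Q (Matrix.mulVec k v) = c * Q v) → Cfsg.Geo.IsMaximalIn (Cfsg.Geo.omegaGL Q) (Cfsg.Geo.subalgebraNormalizer K ⊓ Cfsg.Geo.omegaGL Q)) ∧
    (∀ (F₀ : Subfield F) (r : ℕ) (P : Matrix.GeneralLinearGroup (Fin 10) F) (ζ : F), r.Prime → Odd r → Fintype.card F = Nat.card F₀ ^ r → ζ ≠ 0 → Cfsg.Geo.IsQuadFormRationalStructure (fun v : Fin 10 → F => ζ * Q v) F₀ P → Cfsg.Geo.IsMaximalIn (Cfsg.Geo.omegaGL Q) (Cfsg.Geo.subfieldSubgroup F₀ P ⊓ Cfsg.Geo.omegaGL Q)) := by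
  classical
  obtain ⟨Q, rfl, hB⟩ := CfsgLib.Orth.exists_quadForm hQ
  have hn : Module.finrank F (Fin 10 → F) = 10 := Module.finrank_fin_fun F
  have hq1 := Fintype.one_lt_card (α := F)
  have two : Odd (Fintype.card F) → (2 : F) ≠ 0 := fun hodd => Ring.two_ne_zero fun e =>
    Nat.not_even_iff_odd.2 hodd (Nat.even_iff.2 (FiniteField.even_card_of_char_two e))
  have nd : ∀ W : Submodule F (Fin 10 → F),
      Cfsg.Geo.IsNondegenerateOn (QuadraticMap.polar ⇑Q) W → W ≠ ⊥ →
      2 * Module.finrank F W ≠ 10 → Module.finrank F W ≠ 8 → Module.finrank F W < 10 →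
      (Fintype.card F ≤ 3 → Module.finrank F W = 2 → ¬ Cfsg.Geo.IsPlusTypeOn ⇑Q W) →
      Cfsg.Geo.IsMaximalIn (Cfsg.Geo.omegaGL ⇑Q)
        (Cfsg.Geo.subspaceStabilizer W ⊓ Cfsg.Geo.omegaGL ⇑Q) := by
    intro W hW hW0 hne h10 hlt hbad
    have hsum := CfsgLib.Orth.finrank_orth hB W
    refine CfsgLib.Orth.isMaximalIn_stab_nondeg hB (by omega) (CfsgLib.Orth.nondegOn_of hW) hW0
      (fun e => ?_) (fun X hX s hs hq h2 hs0 hqs => ?_) (fun h => by omega)
    · rw [e, finrank_bot] at hsum; omega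
    · rcases hX with rfl | rfl
      · exact hbad (by rwa [← Nat.card_eq_fintype_card]) h2
          (CfsgLib.Orth.isPlusTypeOn_of_singular h2 hs hs0 hqs)
      · omega
  have dec : ∀ {t k : ℕ} (D : Fin t → Submodule F (Fin 10 → F)),
      Cfsg.Geo.IsOrthogonalMDecomposition ⇑Q k D → 2 ≤ k → (Odd k → Odd (Fintype.card F)) →
      (k = 3 → Fintype.card F ≠ 3) → (k = 2 → Fintype.card F ≠ 3) →
      (k = 2 → (∀ i, Cfsg.Geo.IsPlusTypeOn ⇑Q (D i)) →
        Fintype.card F ≠ 2 ∧ Fintype.card F ≠ 4 ∧ Fintype.card F ≠ 5) →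
      (k = 4 → Fintype.card F = 2 → ¬ ∀ i, Cfsg.Geo.IsPlusTypeOn ⇑Q (D i)) →
      Cfsg.Geo.IsMaximalIn (Cfsg.Geo.omegaGL ⇑Q)
        (Cfsg.Geo.decompositionStabilizer D ⊓ Cfsg.Geo.omegaGL ⇑Q) :=
    fun D hD hk hko h3 h2q h2 h4 =>
      CfsgLib.Orth.PlanesMax.decomposition_maximal hB (by omega) (by rw [hn]; decide) hk hD hko h3
        h2q h2 h4
  have nodiag : ∀ {D : Fin 2 → Submodule F (Fin 10 → F)},
      Cfsg.Geo.IsNondegenerateMDecomposition (QuadraticMap.polar ⇑Q) 5 D →
      ¬ Cfsg.Geo.AreIsometricFor (⇑Q) (D 0) (D 1) →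
      Cfsg.Geo.IsMaximalIn (Cfsg.Geo.omegaGL ⇑Q)
        (Cfsg.Geo.decompositionStabilizer D ⊓ Cfsg.Geo.omegaGL ⇑Q) := by
    intro D hD hiso
    have hk : ∀ i, Module.finrank F (D i) = 5 := hD.decomp.finrank_eq
    have horth : D 1 = CfsgLib.Orth.orth Q (D 0) := by
      refine Submodule.eq_of_le_of_finrank_le (fun x hx y hy => hD.orthogonal 0 1 (by decide) y hy x hx) ?_
      have h := CfsgLib.Orth.finrank_orth hB (D 0)
      rw [hk 0] at h
      rw [hk 1]
      omega
    have hmap : ∀ (g : CfsgLib.Orth.Grp Q),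
        (D 0).map (Matrix.toLin' ((g : GL (Fin 10) F) : Matrix (Fin 10) (Fin 10) F)) ≠ D 1 := by
      intro g hg
      obtain ⟨e, he⟩ : ∃ e : D 0 ≃ₗ[F] D 1, ∀ w : D 0, ((e w : D 1) : Fin 10 → F) =
          CfsgLib.Orth.ap g (w : Fin 10 → F) := by
        refine ⟨(Submodule.equivMapOfInjective _ (fun x y e => CfsgLib.Orth.ap_inj g e) (D 0)).trans
          (LinearEquiv.ofEq _ _ hg), fun w => rfl⟩
      exact hiso ⟨e, fun w => by rw [he, CfsgLib.Orth.ap_q]⟩
    have hnd := CfsgLib.Orth.nondegOn_of (hD.nondegenerate 0)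
    have h := CfsgLib.Orth.isMaximalIn_stab_half hB (W := D 0) (by rw [hk 0]) hnd
      (by rw [← horth, hk 1, hk 0]) fun g e => hmap g (e.trans horth.symm)
    have e : Cfsg.Geo.decompositionStabilizer D ⊓ Cfsg.Geo.omegaGL ⇑Q =
        Cfsg.Geo.subspaceStabilizer (D 0) ⊓ Cfsg.Geo.omegaGL ⇑Q := by
      ext x
      refine and_congr_left fun hx => ?_
      obtain ⟨g, -, rfl⟩ := Subgroup.mem_map.1 hx
      constructor
      · rintro ⟨σ, hσ⟩
        have h0 : (D 0).map (Matrix.toLin' ((g : GL (Fin 10) F) : Matrix (Fin 10) (Fin 10) F)) =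
            D (σ 0) := hσ 0
        rcases Fin.exists_fin_two.1 ⟨σ 0, rfl⟩ with e | e <;> rw [e] at h0
        · exact (CfsgLib.Orth.mem_stab_of_le (g := g) fun v hv => h0 ▸ ⟨v, hv, rfl⟩ : g ∈ CfsgLib.Orth.stab Q (D 0))
        · exact absurd h0 (hmap g)
      · intro hg
        have hg' : (D 0).map (Matrix.toLin' ((g : GL (Fin 10) F) : Matrix (Fin 10) (Fin 10) F)) =
            D 0 := by
          refine Submodule.eq_of_le_of_finrank_eq ?_
            (Submodule.equivMapOfInjective _ (fun x y e => CfsgLib.Orth.ap_inj g e) (D 0)).finrank_eq.symm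
          rintro _ ⟨y, hy, rfl⟩
          exact (CfsgLib.Orth.mem_stab.1 (show g ∈ CfsgLib.Orth.stab Q (D 0) from hg) y).1 hy
        have hg1 : (D 1).map (Matrix.toLin' ((g : GL (Fin 10) F) : Matrix (Fin 10) (Fin 10) F)) =
            D 1 := by
          refine Submodule.eq_of_le_of_finrank_eq ?_
            (Submodule.equivMapOfInjective _ (fun x y e => CfsgLib.Orth.ap_inj g e) (D 1)).finrank_eq.symm
          rintro _ ⟨y, hy, rfl⟩
          rw [SetLike.mem_coe, horth] at hy
          rw [horth]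
          intro z hz
          obtain ⟨w, hw, rfl⟩ := hg'.ge hz
          show QuadraticMap.polar ⇑Q (CfsgLib.Orth.ap g w) (CfsgLib.Orth.ap g y) = 0
          rw [CfsgLib.Orth.ap_b]
          exact hy w hw
        refine ⟨1, fun i => ?_⟩
        fin_cases i
        · exact hg'
        · exact hg1
    rw [e]
    exact h
  refine ⟨?_, ?_, ?_, ?_, ?_, ?_, ?_, ?_, ?_, ?_, ?_, ?_, ?_⟩
  · intro W hW0 hW
    refine CfsgLib.Orth.isMaximalIn_stab_singular hB (by omega) hW0 hW fun U hU hUd h => ?_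
    exact hminus ⟨U, le_top, hU, by rw [finrank_top]; exact h⟩
  · intro hodd W hW0 hW1 hWodd hne hW
    rw [Nat.odd_iff] at hWodd
    have hle := Submodule.finrank_le W
    rw [hn] at hle
    exact nd W hW hW0 hne (by omega) (by omega) fun _ h => by omega
  · intro W hd hW hnp
    exact nd W hW (fun e => by rw [e, finrank_bot] at hd; omega) (by omega) (by omega) (by omega)
      fun _ _ => hnp
  · intro hq W hd hW _
    exact nd W hW (fun e => by rw [e, finrank_bot] at hd; omega) (by omega) (by omega) (by omega)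
      fun h _ => by omega
  · intro W hd hW
    exact nd W hW (fun e => by rw [e, finrank_bot] at hd; omega) (by omega) (by omega) (by omega)
      fun _ h => by omega
  · intro _ v hv
    refine CfsgLib.Orth.isMaximalIn_omegaGL (H := CfsgLib.Orth.stab Q (Submodule.span F {v}))
      (fun _ => Iff.rfl) ?_
    rw [CfsgLib.Orth.omega_eq_El hB (by omega)]
    exact CfsgLib.Orth.stab_aniso_line_maximal hB (by omega) hv
  · rintro ⟨p, hp, hq, hp4⟩ D hD
    exact CfsgLib.Orth.FrameMax.isMaximalIn_frame hB (by rw [Nat.card_eq_fintype_card, hq]; exact hp)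
      (two (Nat.odd_iff.2 (by omega))) (by omega) hD
  · intro hq D hD
    refine dec D hD le_rfl (fun h => absurd h (by decide)) (fun h => by omega) (fun _ => hq)
      (fun _ hp => ?_) (fun h => by omega)
    exfalso
    have h1 : ∀ i, ∃ u ∈ D i, u ≠ 0 ∧ Q u = 0 := fun i => by
      obtain ⟨U, hU, hUs, hUr⟩ := hp i
      rw [hD.decomp.decomp.finrank_eq i] at hUr
      obtain ⟨u, hu, hu0⟩ := U.exists_mem_ne_zero_of_ne_bot fun e => by rw [e, finrank_bot] at hUr; omega
      exact ⟨u, hU hu, hu0, hUs u hu⟩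
    choose u hu hu0 hQu using h1
    refine hminus ⟨Submodule.span F (Set.range u), le_top, ?_, ?_⟩
    · intro x hx
      obtain ⟨c, rfl⟩ := (Submodule.mem_span_range_iff_exists_fun F).1 hx
      suffices h : ∀ s : Finset (Fin 5), Q (∑ i ∈ s, c i • u i) = 0 from h _
      intro s
      induction s using Finset.induction_on with
      | empty => rw [Finset.sum_empty, QuadraticMap.map_zero]
      | insert a s ha ih =>
        rw [Finset.sum_insert ha, CfsgLib.Orth.q_add, ih, CfsgLib.Orth.q_smul, hQu,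
          ← QuadraticMap.polarBilin_apply_apply, map_sum, Finset.sum_eq_zero, mul_zero, zero_add, zero_add]
        intro l hl
        exact hD.decomp.orthogonal a l (fun e => ha (e ▸ hl)) _ ((D a).smul_mem _ (hu a)) _
          ((D l).smul_mem _ (hu l))
    · rw [finrank_top, finrank_span_eq_card (hD.decomp.decomp.indep.linearIndependent D hu hu0), hn,
        Fintype.card_fin]
  · intro hq D hD
    exact dec D hD (by omega) (fun _ => Nat.odd_iff.2 (by omega)) (fun h => by omega) (fun h => by omega)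
      (fun h => by omega) (fun h => by omega)
  · intro _ D hD hiso
    exact nodiag hD hiso
  · intro hodd K hK hsa
    exact CfsgLib.OrthExt.isMaximalIn Nat.prime_two hB (two hodd) K hK hsa
      (Or.inl ⟨by rw [Fintype.card_fin]; omega, fun _ => by rw [Fintype.card_fin]⟩)
  · intro K hK hac hnsa hsc
    exact CfsgLib.Orth.Overfield.isMaximalIn hB le_rfl hK hac hnsa hsc
  · intro F₀ r P ζ hr _ hcard hζ hP
    have hB' : CfsgLib.Orth.Nondeg (ζ • Q) := fun x hx => hB x fun y => by
      have := hx y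
      simp only [QuadraticMap.polar, FunLike.coe_smul, Pi.smul_apply, smul_eq_mul, ← mul_sub] at this
      exact (mul_eq_zero.1 this).resolve_left hζ
    have h := CfsgLib.Orth.Rat.isMaximalIn_subfield (F₀ := F₀) (P := P) hB'
      (by rw [Fintype.card_fin]; omega) hr (by rw [Nat.card_eq_fintype_card]; exact hcard)
      (fun u hu => hP u hu)
    rwa [show (⇑(ζ • Q) : (Fin 10 → F) → F) = fun v => ζ * Q v from rfl,
      CfsgLib.Orth.Rat.omegaGL_smul hζ] at h

end Cfsg.Agent.S5849
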