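import Cfsg.Statements.S5870
import Cfsg.Agent.Lib.Classical.OrthFrameMax.Apply
import Cfsg.Agent.Lib.Classical.OrthStab
import Cfsg.Agent.Lib.Classical.OrthPoint
import Cfsg.Agent.Lib.Classical.OrthPair
import Cfsg.Agent.Lib.Classical.OrthNondegMax
import Cfsg.Agent.Lib.Classical.OrthSubfield
import Cfsg.Agent.Lib.Classical.OrthForms
import Cfsg.Agent.Lib.Classical.OrthPlanesMax.Apply
import Cfsg.Agent.Lib.Classical.OrthOverfieldUMax
import Cfsg.Agent.Lib.Classical.OrthExtField.Maximal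
import Cfsg.Agent.Lib.Classical.TensorSymp.Main

set_option autoImplicit false
open Cfsg

namespace Cfsg.Agent.S5870

/-- Maximal subgroups of Ω_12^+(q) of geometric type (any q). Let F be a finite field with q elements (characteristic p), Q a non-degenerate quadratic form on F^12 (non-degenerate polar form) of plus type (Witt index 6: some totally singular 6-space), and Ω = Ω_12^+(q) the commutator subgroup of the isometry group of Q, inside GL_12(F). Each of the following, intersected with Ω, is a maximal subgroup of Ω: (1) the stabiliser of any non-zero subspace on which Q vanishes identically other than those of dimension 5 (totally singular subspaces, dimensions 1, 2, 3, 4 and 6); (2) for q odd, the stabiliser of any subspace of odd dimension on which the polar form of Q is non-degenerate; (3) the stabiliser of any non-degenerate 2-space of minus type (containing no non-zero singular vector); (4) for q ≥ 4, the stabiliser of any non-degenerate 2-space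 of plus type (containing a non-zero singular vector); (5) the stabiliser of any non-degenerate 4-space (either type); (6) for q even, the stabiliser of the 1-space spanned by any non-singular vector v (Q(v) ≠ 0); (7) for q = p an odd prime, the stabiliser of any decomposition of F^12 into 12 pairwise orthogonal, pairwise Q-isometric non-degenerate 1-spaces; (8) for q ≥ 7, the stabiliser of any decomposition of F^12 into 6 pairwise orthogonal, pairwise Q-isometric non-degenerate 2-spaces of plus type; (9) for q ≠ 3, the stabiliser of any decomposition of F^12 into 6 pairwise orthogonal, pairwise Q-isometric non-degenerate 2-spaces of minus type; (10) for q odd with q ≥ 5, the stabiliser of any decomposition of F^12 into 4 pairwise orthogonal, pairwise Q-isometric non-degenerate 3-spaces; (11) for q ≥ 3, the stabiliser of any decomposition of F^12 into 3 pairwise orthogonal, pairwise Q-isometric non-degenerate 4-spaces; (12) the stabiliser of any decomposition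 of F^12 into 2 pairwise orthogonal, pairwise Q-isometric non-degenerate 6-spaces; (13) the stabiliser of any decomposition into two totally singular 6-spaces; (14) for q odd, the normaliser of any degree-2 subfield K of the matrix algebra whose elements are self-adjoint for the polar form of Q (Q is then the trace of a quadratic form over K); (15) for q odd, the normaliser of any degree-3 subfield K of the matrix algebra whose elements are self-adjoint for the polar form of Q (Q is then the trace of a quadratic form over K); (16) the normaliser of any degree-2 subfield K of the matrix algebra, closed under adjoints for the polar form but not self-adjoint, whose elements act as similarities of Q (so F^12 becomes a 6-dimensional space over K with a hermitian form, and the subgroup is of the type of the unitary group GU_6(q)); (17) for q ≥ 3, the stabiliser of any tensor decomposition F^12 = F^2 ⊗ F^6 in which the polar form of Q is (alternating form) ⊗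 (alternating form) up to a scalar and Q vanishes on all pure tensors; (18) every subfield group for a subfield F₀ with |F| = |F₀|^r, r prime, whose F₀-structure carries a non-zero scalar multiple of Q. -/
theorem result {F : Type*} [Field F] [Fintype F] (Q : (Fin 12 → F) → F) (hQ : Cfsg.Geo.IsNondegenerateQuadraticForm Q) (hplus : Cfsg.Geo.IsPlusTypeOn Q ⊤) :
    (∀ W : Submodule F (Fin 12 → F), W ≠ ⊥ → Cfsg.Geo.IsTotallySingularQuad Q W → Module.finrank F W ≠ 5 → Cfsg.Geo.IsMaximalIn (Cfsg.Geo.omegaGL Q) (Cfsg.Geo.subspaceStabilizer W ⊓ Cfsg.Geo.omegaGL Q)) ∧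
    (Odd (Fintype.card F) → ∀ W : Submodule F (Fin 12 → F), W ≠ ⊥ → W ≠ ⊤ → Odd (Module.finrank F W) → 2 * Module.finrank F W ≠ 12 → Cfsg.Geo.IsNondegenerateOn (QuadraticMap.polar Q) W → Cfsg.Geo.IsMaximalIn (Cfsg.Geo.omegaGL Q) (Cfsg.Geo.subspaceStabilizer W ⊓ Cfsg.Geo.omegaGL Q)) ∧
    (∀ W : Submodule F (Fin 12 → F), Module.finrank F W = 2 → Cfsg.Geo.IsNondegenerateOn (QuadraticMap.polar Q) W → ¬ Cfsg.Geo.IsPlusTypeOn Q W → Cfsg.Geo.IsMaximalIn (Cfsg.Geo.omegaGL Q) (Cfsg.Geo.subspaceStabilizer W ⊓ Cfsg.Geo.omegaGL Q)) ∧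
    (4 ≤ Fintype.card F → ∀ W : Submodule F (Fin 12 → F), Module.finrank F W = 2 → Cfsg.Geo.IsNondegenerateOn (QuadraticMap.polar Q) W → Cfsg.Geo.IsPlusTypeOn Q W → Cfsg.Geo.IsMaximalIn (Cfsg.Geo.omegaGL Q) (Cfsg.Geo.subspaceStabilizer W ⊓ Cfsg.Geo.omegaGL Q)) ∧
    (∀ W : Submodule F (Fin 12 → F), Module.finrank F W = 4 → Cfsg.Geo.IsNondegenerateOn (QuadraticMap.polar Q) W → Cfsg.Geo.IsMaximalIn (Cfsg.Geo.omegaGL Q) (Cfsg.Geo.subspaceStabilizer W ⊓ Cfsg.Geo.omegaGL Q)) ∧
    (¬ Odd (Fintype.card F) → ∀ v : (Fin 12 → F), Q v ≠ 0 → Cfsg.Geo.IsMaximalIn (Cfsg.Geo.omegaGL Q) (Cfsg.Geo.subspaceStabilizer (Submodule.span F {v}) ⊓ Cfsg.Geo.omegaGL Q)) ∧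
    ((∃ p : ℕ, p.Prime ∧ Odd p ∧ Fintype.card F = p) → ∀ D : Fin 12 → Submodule F (Fin 12 → F), Cfsg.Geo.IsOrthogonalMDecomposition Q 1 D → Cfsg.Geo.IsMaximalIn (Cfsg.Geo.omegaGL Q) (Cfsg.Geo.decompositionStabilizer D ⊓ Cfsg.Geo.omegaGL Q)) ∧
    (7 ≤ Fintype.card F → ∀ D : Fin 6 → Submodule F (Fin 12 → F), Cfsg.Geo.IsOrthogonalMDecomposition Q 2 D → (∀ i, Cfsg.Geo.IsPlusTypeOn Q (D i)) → Cfsg.Geo.IsMaximalIn (Cfsg.Geo.omegaGL Q) (Cfsg.Geo.decompositionStabilizer D ⊓ Cfsg.Geo.omegaGL Q)) ∧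
    (Fintype.card F ≠ 3 → ∀ D : Fin 6 → Submodule F (Fin 12 → F), Cfsg.Geo.IsOrthogonalMDecomposition Q 2 D → (∀ i, ¬ Cfsg.Geo.IsPlusTypeOn Q (D i)) → Cfsg.Geo.IsMaximalIn (Cfsg.Geo.omegaGL Q) (Cfsg.Geo.decompositionStabilizer D ⊓ Cfsg.Geo.omegaGL Q)) ∧
    (Odd (Fintype.card F) ∧ 5 ≤ Fintype.card F → ∀ D : Fin 4 → Submodule F (Fin 12 → F), Cfsg.Geo.IsOrthogonalMDecomposition Q 3 D → Cfsg.Geo.IsMaximalIn (Cfsg.Geo.omegaGL Q) (Cfsg.Geo.decompositionStabilizer D ⊓ Cfsg.Geo.omegaGL Q)) ∧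
    (3 ≤ Fintype.card F → ∀ D : Fin 3 → Submodule F (Fin 12 → F), Cfsg.Geo.IsOrthogonalMDecomposition Q 4 D → Cfsg.Geo.IsMaximalIn (Cfsg.Geo.omegaGL Q) (Cfsg.Geo.decompositionStabilizer D ⊓ Cfsg.Geo.omegaGL Q)) ∧
    (∀ D : Fin 2 → Submodule F (Fin 12 → F), Cfsg.Geo.IsOrthogonalMDecomposition Q 6 D → Cfsg.Geo.IsMaximalIn (Cfsg.Geo.omegaGL Q) (Cfsg.Geo.decompositionStabilizer D ⊓ Cfsg.Geo.omegaGL Q)) ∧
    (∀ D : Fin 2 → Submodule F (Fin 12 → F), Cfsg.Geo.IsMDecomposition 6 D → (∀ i, Cfsg.Geo.IsTotallySingularQuad Q (D i)) → Cfsg.Geo.IsMaximalIn (Cfsg.Geo.omegaGL Q) (Cfsg.Geo.decompositionStabilizer D ⊓ Cfsg.Geo.omegaGL Q)) ∧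
    (Odd (Fintype.card F) → ∀ K : Subalgebra F (Matrix (Fin 12) (Fin 12) F), Cfsg.Geo.IsFieldSubalgebra 2 K → Cfsg.Geo.IsSelfAdjointFor (QuadraticMap.polar Q) K → Cfsg.Geo.IsMaximalIn (Cfsg.Geo.omegaGL Q) (Cfsg.Geo.subalgebraNormalizer K ⊓ Cfsg.Geo.omegaGL Q)) ∧
    (Odd (Fintype.card F) → ∀ K : Subalgebra F (Matrix (Fin 12) (Fin 12) F), Cfsg.Geo.IsFieldSubalgebra 3 K → Cfsg.Geo.IsSelfAdjointFor (QuadraticMap.polar Q) K → Cfsg.Geo.IsMaximalIn (Cfsg.Geo.omegaGL Q) (Cfsg.Geo.subalgebraNormalizer K ⊓ Cfsg.Geo.omegaGL Q)) ∧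
    (∀ K : Subalgebra F (Matrix (Fin 12) (Fin 12) F), Cfsg.Geo.IsFieldSubalgebra 2 K → Cfsg.Geo.IsAdjointClosedFor (QuadraticMap.polar Q) K → ¬ Cfsg.Geo.IsSelfAdjointFor (QuadraticMap.polar Q) K → (∀ k ∈ K, ∃ c : F, ∀ v : (Fin 12 → F), Q (Matrix.mulVec k v) = c * Q v) → Cfsg.Geo.IsMaximalIn (Cfsg.Geo.omegaGL Q) (Cfsg.Geo.subalgebraNormalizer K ⊓ Cfsg.Geo.omegaGL Q)) ∧
    (3 ≤ Fintype.card F → ∀ (e : Fin 12 ≃ Fin 2 × Fin 6) (P : Matrix.GeneralLinearGroup (Fin 12) F) (f₁ : (Fin 2 → F) → (Fin 2 → F) → F) (f₂ : (Fin 6 → F) → (Fin 6 → F) → F), Cfsg.Geo.IsSymplecticForm f₁ → Cfsg.Geo.IsSymplecticForm f₂ → Cfsg.Geo.IsTensorFormStructure id (QuadraticMap.polar Q) f₁ f₂ e P → (∀ (x₁ : Fin 2 → F) (x₂ : Fin 6 → F), Q (Matrix.mulVec (P : Matrix (Fin 12) (Fin 12) F) ((fun a : Fin 2 × Fin 6 => x₁ a.1 * x₂ a.2) ∘ e)) = 0) → Cfsg.Geo.IsMaximalIn (Cfsg.Geo.omegaGL Q) (Cfsg.Geo.tensorProductSubgroup 2 6 e P ⊓ Cfsg.Geo.omegaGL Q)) ∧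
    (∀ (F₀ : Subfield F) (r : ℕ) (P : Matrix.GeneralLinearGroup (Fin 12) F) (ζ : F), r.Prime → Fintype.card F = Nat.card F₀ ^ r → ζ ≠ 0 → Cfsg.Geo.IsQuadFormRationalStructure (fun v : Fin 12 → F => ζ * Q v) F₀ P → Cfsg.Geo.IsMaximalIn (Cfsg.Geo.omegaGL Q) (Cfsg.Geo.subfieldSubgroup F₀ P ⊓ Cfsg.Geo.omegaGL Q)) := by
  classical
  obtain ⟨Q, rfl, hB⟩ := CfsgLib.Orth.exists_quadForm hQ
  have hn : Module.finrank F (Fin 12 → F) = 12 := Module.finrank_fin_fun F
  have hq1 := Fintype.one_lt_card (α := F)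
  have two : Odd (Fintype.card F) → (2 : F) ≠ 0 := fun hodd => Ring.two_ne_zero fun e =>
    Nat.not_even_iff_odd.2 hodd (Nat.even_iff.2 (FiniteField.even_card_of_char_two e))
  have nd : ∀ W : Submodule F (Fin 12 → F),
      Cfsg.Geo.IsNondegenerateOn (QuadraticMap.polar ⇑Q) W → W ≠ ⊥ →
      2 * Module.finrank F W ≠ 12 → Module.finrank F W ≠ 10 → Module.finrank F W < 12 →
      (Fintype.card F ≤ 3 → Module.finrank F W = 2 → ¬ Cfsg.Geo.IsPlusTypeOn ⇑Q W) →
      Cfsg.Geo.IsMaximalIn (Cfsg.Geo.omegaGL ⇑Q)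
        (Cfsg.Geo.subspaceStabilizer W ⊓ Cfsg.Geo.omegaGL ⇑Q) := by
    intro W hW hW0 hne h10 hlt hbad
    have hsum := CfsgLib.Orth.finrank_orth hB W
    refine CfsgLib.Orth.isMaximalIn_stab_nondeg hB (by omega) (CfsgLib.Orth.nondegOn_of hW) hW0
      (fun e => ?_) (fun X hX s hs hq h2 hs0 hqs => ?_) (fun h => by omega)
    · rw [e, finrank_bot] at hsum; omega
    · rcases hX with rfl | rfl
      · exact hbad (by rwa [← Nat.card_eq_fintype_card]) h2
          (CfsgLib.Orth.isPlusTypeOn_of_singular h2 hs hs0 hqs)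
      · omega
  have dec : ∀ {t k : ℕ} (D : Fin t → Submodule F (Fin 12 → F)),
      Cfsg.Geo.IsOrthogonalMDecomposition ⇑Q k D → 2 ≤ k → (Odd k → Odd (Fintype.card F)) →
      (k = 3 → Fintype.card F ≠ 3) → (k = 2 → Fintype.card F ≠ 3) →
      (k = 2 → (∀ i, Cfsg.Geo.IsPlusTypeOn ⇑Q (D i)) →
        Fintype.card F ≠ 2 ∧ Fintype.card F ≠ 4 ∧ Fintype.card F ≠ 5) →
      (k = 4 → Fintype.card F = 2 → ¬ ∀ i, Cfsg.Geo.IsPlusTypeOn ⇑Q (D i)) →
      Cfsg.Geo.IsMaximalIn (Cfsg.Geo.omegaGL ⇑Q)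
        (Cfsg.Geo.decompositionStabilizer D ⊓ Cfsg.Geo.omegaGL ⇑Q) :=
    fun D hD hk hko h3 h2q h2 h4 =>
      CfsgLib.Orth.PlanesMax.decomposition_maximal hB (by omega) (by rw [hn]; decide) hk hD hko h3
        h2q h2 h4
  refine ⟨?_, ?_, ?_, ?_, ?_, ?_, ?_, ?_, ?_, ?_, ?_, ?_, ?_, ?_, ?_, ?_, ?_, ?_⟩
  · intro W hW0 hW h5
    exact CfsgLib.Orth.isMaximalIn_stab_singular hB (by omega) hW0 hW fun U _ hU => by omega
  · intro hodd W hW0 hW1 hWodd hne hW
    rw [Nat.odd_iff] at hWodd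
    have hle := Submodule.finrank_le W
    rw [hn] at hle
    exact nd W hW hW0 hne (by omega) (by omega) fun _ h => by omega
  · intro W hd hW hnp
    exact nd W hW (fun e => by rw [e, finrank_bot] at hd; omega) (by omega) (by omega) (by omega)
      fun _ _ => hnp
  · intro hq W hd hW _
    exact nd W hW (fun e => by rw [e, finrank_bot] at hd; omega) (by omega) (by omega) (by omega)
      fun h _ => by omega
  · intro W hd hW
    exact nd W hW (fun e => by rw [e, finrank_bot] at hd; omega) (by omega) (by omega) (by omega)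
      fun _ h => by omega
  · intro _ v hv
    refine CfsgLib.Orth.isMaximalIn_omegaGL (H := CfsgLib.Orth.stab Q (Submodule.span F {v}))
      (fun _ => Iff.rfl) ?_
    rw [CfsgLib.Orth.omega_eq_El hB (by omega)]
    exact CfsgLib.Orth.stab_aniso_line_maximal hB (by omega) hv
  · rintro ⟨p, hp, hpo, hq⟩ D hD
    exact CfsgLib.Orth.FrameMax.isMaximalIn_frame hB (by rw [Nat.card_eq_fintype_card, hq]; exact hp)
      (two (hq ▸ hpo)) (by omega) hD
  · intro hq D hD _
    exact dec D hD le_rfl (fun h => absurd h (by decide)) (fun h => by omega) (fun _ => by omega)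
      (fun _ _ => ⟨by omega, by omega, by omega⟩) (fun h => by omega)
  · intro hq D hD hnp
    exact dec D hD le_rfl (fun h => absurd h (by decide)) (fun h => by omega) (fun _ => hq)
      (fun _ hp => absurd (hp 0) (hnp 0)) (fun h => by omega)
  · rintro ⟨hodd, hq⟩ D hD
    exact dec D hD (by omega) (fun _ => hodd) (fun _ => by omega) (fun h => by omega)
      (fun h => by omega) (fun h => by omega)
  · intro hq D hD
    exact dec D hD (by omega) (fun h => absurd h (by decide)) (fun h => by omega) (fun h => by omega)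
      (fun h => by omega) (fun _ h => by omega)
  · intro D hD
    exact dec D hD (by omega) (fun h => absurd h (by decide)) (fun h => by omega) (fun h => by omega)
      (fun h => by omega) (fun h => by omega)
  · intro D hD hts
    have hk0 : Module.finrank F (D 0) = 6 := hD.finrank_eq 0
    have hk1 : Module.finrank F (D 1) = 6 := hD.finrank_eq 1
    have hc : IsCompl (D 0) (D 1) := ⟨hD.indep.pairwiseDisjoint (by decide : (0 : Fin 2) ≠ 1),
      codisjoint_iff.2 (top_le_iff.1 (hD.iSup_eq_top ▸ iSup_le fun i => by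
        fin_cases i
        · exact le_sup_left
        · exact le_sup_right))⟩
    have S : CfsgLib.Orth.Split Q (D 0) (D 1) := ⟨hc, ⟨hts 0, by rw [hk0, hn]⟩,
      ⟨hts 1, by rw [hk1, hn]⟩⟩
    have hmap : ∀ (g : CfsgLib.Orth.Grp Q) (A C : Submodule F (Fin 12 → F)),
        Module.finrank F A = Module.finrank F C → ((∀ x ∈ A, CfsgLib.Orth.ap g x ∈ C) ↔
          A.map (Matrix.toLin' ((g : GL (Fin 12) F) : Matrix (Fin 12) (Fin 12) F)) = C) := by
      intro g A C hAC
      constructor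
      · intro h
        refine Submodule.eq_of_le_of_finrank_eq ?_ ((CfsgLib.Orth.finrank_img g A).trans hAC)
        rintro _ ⟨x, hx, rfl⟩
        rw [Matrix.toLin'_apply]
        exact h x hx
      · intro h x hx
        exact h ▸ ⟨x, hx, Matrix.toLin'_apply _ x⟩
    refine CfsgLib.Orth.isMaximalIn_omegaGL
      (H := (Cfsg.Geo.decompositionStabilizer D).comap (Cfsg.isometryGroup F ⇑Q).subtype)
      (fun g => Iff.rfl) ?_
    rw [CfsgLib.Orth.omega_eq_El hB (by omega)]
    refine CfsgLib.Orth.stab_pair_maximal hB S (by omega) (hk0 ▸ by decide) fun g => ?_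
    have e01 : Module.finrank F (D 0) = Module.finrank F (D 1) := hk0.trans hk1.symm
    rw [hmap g _ _ rfl, hmap g _ _ rfl, hmap g _ _ e01, hmap g _ _ e01.symm]
    constructor
    · rintro ⟨σ, hσ⟩
      have h0 := hσ 0
      have h1 := hσ 1
      have hne : σ 0 ≠ σ 1 := fun e => absurd (σ.injective e) (by decide)
      rcases Fin.exists_fin_two.1 ⟨σ 0, rfl⟩ with e | e <;>
        rcases Fin.exists_fin_two.1 ⟨σ 1, rfl⟩ with e' | e' <;> rw [e, e'] at hne
      · exact absurd rfl hne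
      · rw [e] at h0; rw [e'] at h1; exact Or.inl ⟨h0, h1⟩
      · rw [e] at h0; rw [e'] at h1; exact Or.inr ⟨h0, h1⟩
      · exact absurd rfl hne
    · rintro (⟨h0, h1⟩ | ⟨h0, h1⟩)
      · exact ⟨1, fun i => by fin_cases i; exacts [h0, h1]⟩
      · exact ⟨Equiv.swap 0 1, fun i => by fin_cases i; exacts [h0, h1]⟩
  · intro hodd K hK hsa
    exact CfsgLib.OrthExt.isMaximalIn Nat.prime_two hB (two hodd) K hK hsa
      (Or.inl ⟨by rw [Fintype.card_fin]; omega, fun _ => by rw [Fintype.card_fin]; omega⟩)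
  · intro hodd K hK hsa
    exact CfsgLib.OrthExt.isMaximalIn Nat.prime_three hB (two hodd) K hK hsa
      (Or.inl ⟨by rw [Fintype.card_fin], fun h => by omega⟩)
  · intro K hK hac hnsa hsc
    exact CfsgLib.Orth.Overfield.isMaximalIn hB (by norm_num) hK hac hnsa hsc
  · intro hq e P f₁ f₂ hf₁ hf₂ hT hpure
    exact CfsgLib.Classical.TensorSymp.isMaximalIn le_rfl (by omega) (fun h => by omega) e P
      hf₁ hf₂ hT hpure
  · intro F₀ r P ζ hr hcard hζ hP
    have hB' : CfsgLib.Orth.Nondeg (ζ • Q) := fun x hx => hB x fun y => by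
      have := hx y
      simp only [QuadraticMap.polar, FunLike.coe_smul, Pi.smul_apply, smul_eq_mul, ← mul_sub] at this
      exact (mul_eq_zero.1 this).resolve_left hζ
    have h := CfsgLib.Orth.Rat.isMaximalIn_subfield (F₀ := F₀) (P := P) hB'
      (by rw [Fintype.card_fin]; omega) hr (by rw [Nat.card_eq_fintype_card]; exact hcard)
      (fun u hu => hP u hu)
    rwa [show (⇑(ζ • Q) : (Fin 12 → F) → F) = fun v => ζ * Q v from rfl,
      CfsgLib.Orth.Rat.omegaGL_smul hζ] at h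

end Cfsg.Agent.S5870
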