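import Cfsg.Statements.S5873
import Cfsg.Agent.Lib.Classical.OrthStab
import Cfsg.Agent.Lib.Classical.OrthPoint
import Cfsg.Agent.Lib.Classical.OrthNondegMax
import Cfsg.Agent.Lib.Classical.OrthSubfield
import Cfsg.Agent.Lib.Classical.OrthForms
import Cfsg.Agent.Lib.Classical.OrthPlanesMax.Apply
import Cfsg.Agent.Lib.Classical.OrthExtField.Maximal
import Cfsg.Agent.Lib.Classical.OrthHalfMinus
import Cfsg.Agent.Lib.Classical.TensorOrthFour.Main

set_option autoImplicit false
open Cfsg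

namespace Cfsg.Agent.S5873

/-- Maximal subgroups of Ω_12^-(q) of geometric type (any q). Let F be a finite field with q elements (characteristic p), Q a non-degenerate quadratic form on F^12 (non-degenerate polar form) of minus type (Witt index 5: no totally singular 6-space), and Ω = Ω_12^-(q) the commutator subgroup of the isometry group of Q, inside GL_12(F). Each of the following, intersected with Ω, is a maximal subgroup of Ω: (1) the stabiliser of any non-zero subspace on which Q vanishes identically (totally singular subspaces, dimensions 1 to 5); (2) for q odd, the stabiliser of any subspace of odd dimension on which the polar form of Q is non-degenerate; (3) the stabiliser of any non-degenerate 2-space of minus type (containing no non-zero singular vector); (4) for q ≥ 4, the stabiliser of any non-degenerate 2-space of plus type (containing a non-zero singular vector); (5) the stabiliser of any non-degenerate 4-space (either type); (6)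 the stabiliser of any non-degenerate 6-space (either type); (7) for q even, the stabiliser of the 1-space spanned by any non-singular vector v (Q(v) ≠ 0); (8) the stabiliser of any decomposition of F^12 into 3 pairwise orthogonal, pairwise Q-isometric non-degenerate 4-spaces of minus type; (9) for q odd, the normaliser of any degree-2 subfield K of the matrix algebra whose elements are self-adjoint for the polar form of Q (Q is then the trace of a quadratic form over K); (10) for q odd, the normaliser of any degree-3 subfield K of the matrix algebra whose elements are self-adjoint for the polar form of Q (Q is then the trace of a quadratic form over K); (11) for q odd with q ≥ 5, the stabiliser of any tensor decomposition F^12 = F^3 ⊗ F^4 in which the polar form of Q is the product of non-degenerate symmetric bilinear forms, the second of minus type, up to a scalar; (12) every subfield group for a subfield F₀ with |F| = |F₀|^r, r an odd prime, whose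 F₀-structure carries a non-zero scalar multiple of Q. -/
theorem result {F : Type*} [Field F] [Fintype F] (Q : (Fin 12 → F) → F) (hQ : Cfsg.Geo.IsNondegenerateQuadraticForm Q) (hminus : ¬ Cfsg.Geo.IsPlusTypeOn Q ⊤) :
    (∀ W : Submodule F (Fin 12 → F), W ≠ ⊥ → Cfsg.Geo.IsTotallySingularQuad Q W → Cfsg.Geo.IsMaximalIn (Cfsg.Geo.omegaGL Q) (Cfsg.Geo.subspaceStabilizer W ⊓ Cfsg.Geo.omegaGL Q)) ∧
    (Odd (Fintype.card F) → ∀ W : Submodule F (Fin 12 → F), W ≠ ⊥ → W ≠ ⊤ → Odd (Module.finrank F W) → 2 * Module.finrank F W ≠ 12 → Cfsg.Geo.IsNondegenerateOn (QuadraticMap.polar Q) W → Cfsg.Geo.IsMaximalIn (Cfsg.Geo.omegaGL Q) (Cfsg.Geo.subspaceStabilizer W ⊓ Cfsg.Geo.omegaGL Q)) ∧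
    (∀ W : Submodule F (Fin 12 → F), Module.finrank F W = 2 → Cfsg.Geo.IsNondegenerateOn (QuadraticMap.polar Q) W → ¬ Cfsg.Geo.IsPlusTypeOn Q W → Cfsg.Geo.IsMaximalIn (Cfsg.Geo.omegaGL Q) (Cfsg.Geo.subspaceStabilizer W ⊓ Cfsg.Geo.omegaGL Q)) ∧
    (4 ≤ Fintype.card F → ∀ W : Submodule F (Fin 12 → F), Module.finrank F W = 2 → Cfsg.Geo.IsNondegenerateOn (QuadraticMap.polar Q) W → Cfsg.Geo.IsPlusTypeOn Q W → Cfsg.Geo.IsMaximalIn (Cfsg.Geo.omegaGL Q) (Cfsg.Geo.subspaceStabilizer W ⊓ Cfsg.Geo.omegaGL Q)) ∧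
    (∀ W : Submodule F (Fin 12 → F), Module.finrank F W = 4 → Cfsg.Geo.IsNondegenerateOn (QuadraticMap.polar Q) W → Cfsg.Geo.IsMaximalIn (Cfsg.Geo.omegaGL Q) (Cfsg.Geo.subspaceStabilizer W ⊓ Cfsg.Geo.omegaGL Q)) ∧
    (∀ W : Submodule F (Fin 12 → F), Module.finrank F W = 6 → Cfsg.Geo.IsNondegenerateOn (QuadraticMap.polar Q) W → Cfsg.Geo.IsMaximalIn (Cfsg.Geo.omegaGL Q) (Cfsg.Geo.subspaceStabilizer W ⊓ Cfsg.Geo.omegaGL Q)) ∧
    (¬ Odd (Fintype.card F) → ∀ v : (Fin 12 → F), Q v ≠ 0 → Cfsg.Geo.IsMaximalIn (Cfsg.Geo.omegaGL Q) (Cfsg.Geo.subspaceStabilizer (Submodule.span F {v}) ⊓ Cfsg.Geo.omegaGL Q)) ∧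
    (∀ D : Fin 3 → Submodule F (Fin 12 → F), Cfsg.Geo.IsOrthogonalMDecomposition Q 4 D → (∀ i, ¬ Cfsg.Geo.IsPlusTypeOn Q (D i)) → Cfsg.Geo.IsMaximalIn (Cfsg.Geo.omegaGL Q) (Cfsg.Geo.decompositionStabilizer D ⊓ Cfsg.Geo.omegaGL Q)) ∧
    (Odd (Fintype.card F) → ∀ K : Subalgebra F (Matrix (Fin 12) (Fin 12) F), Cfsg.Geo.IsFieldSubalgebra 2 K → Cfsg.Geo.IsSelfAdjointFor (QuadraticMap.polar Q) K → Cfsg.Geo.IsMaximalIn (Cfsg.Geo.omegaGL Q) (Cfsg.Geo.subalgebraNormalizer K ⊓ Cfsg.Geo.omegaGL Q)) ∧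
    (Odd (Fintype.card F) → ∀ K : Subalgebra F (Matrix (Fin 12) (Fin 12) F), Cfsg.Geo.IsFieldSubalgebra 3 K → Cfsg.Geo.IsSelfAdjointFor (QuadraticMap.polar Q) K → Cfsg.Geo.IsMaximalIn (Cfsg.Geo.omegaGL Q) (Cfsg.Geo.subalgebraNormalizer K ⊓ Cfsg.Geo.omegaGL Q)) ∧
    (Odd (Fintype.card F) ∧ 5 ≤ Fintype.card F → ∀ (e : Fin 12 ≃ Fin 3 × Fin 4) (P : Matrix.GeneralLinearGroup (Fin 12) F) (f₁ : (Fin 3 → F) → (Fin 3 → F) → F) (f₂ : (Fin 4 → F) → (Fin 4 → F) → F), Cfsg.Geo.IsSymmetricForm f₁ → Cfsg.Geo.IsSymmetricForm f₂ → ¬ Cfsg.Geo.IsPlusTypeOn (fun v : Fin 4 → F => f₂ v v) ⊤ → Cfsg.Geo.IsTensorFormStructure id (QuadraticMap.polar Q) f₁ f₂ e P → Cfsg.Geo.IsMaximalIn (Cfsg.Geo.omegaGL Q) (Cfsg.Geo.tensorProductSubgroup 3 4 e P ⊓ Cfsg.Geo.omegaGL Q)) ∧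
    (∀ (F₀ : Subfield F) (r : ℕ) (P : Matrix.GeneralLinearGroup (Fin 12) F) (ζ : F), r.Prime → Odd r → Fintype.card F = Nat.card F₀ ^ r → ζ ≠ 0 → Cfsg.Geo.IsQuadFormRationalStructure (fun v : Fin 12 → F => ζ * Q v) F₀ P → Cfsg.Geo.IsMaximalIn (Cfsg.Geo.omegaGL Q) (Cfsg.Geo.subfieldSubgroup F₀ P ⊓ Cfsg.Geo.omegaGL Q)) := by
  classical
  obtain ⟨Q, rfl, hB⟩ := CfsgLib.Orth.exists_quadForm hQ
  have hn : Module.finrank F (Fin 12 → F) = 12 := Module.finrank_fin_fun F
  have hq1 := Fintype.one_lt_card (α := F)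
  have two : Odd (Fintype.card F) → (2 : F) ≠ 0 := fun hodd => Ring.two_ne_zero fun e =>
    Nat.not_even_iff_odd.2 hodd (Nat.even_iff.2 (FiniteField.even_card_of_char_two e))
  have nd : ∀ W : Submodule F (Fin 12 → F),
      Cfsg.Geo.IsNondegenerateOn (QuadraticMap.polar ⇑Q) W → W ≠ ⊥ →
      2 * Module.finrank F W ≠ 12 → Module.finrank F W ≠ 10 → Module.finrank F W < 12 →
      (Fintype.card F ≤ 3 → Module.finrank F W = 2 → ¬ Cfsg.Geo.IsPlusTypeOn ⇑Q W) →
      Cfsg.Geo.IsMaximalIn (Cfsg.Geo.omegaGL ⇑Q)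
        (Cfsg.Geo.subspaceStabilizer W ⊓ Cfsg.Geo.omegaGL ⇑Q) := by
    intro W hW hW0 hne h10 hlt hbad
    have hsum := CfsgLib.Orth.finrank_orth hB W
    refine CfsgLib.Orth.isMaximalIn_stab_nondeg hB (by omega) (CfsgLib.Orth.nondegOn_of hW) hW0
      (fun e => ?_) (fun X hX s hs hq h2 hs0 hqs => ?_) (fun h => by omega)
    · rw [e, finrank_bot] at hsum; omega
    · rcases hX with rfl | rfl
      · exact hbad (by rwa [← Nat.card_eq_fintype_card]) h2
          (CfsgLib.Orth.isPlusTypeOn_of_singular h2 hs hs0 hqs)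
      · omega
  have dec : ∀ {t k : ℕ} (D : Fin t → Submodule F (Fin 12 → F)),
      Cfsg.Geo.IsOrthogonalMDecomposition ⇑Q k D → 2 ≤ k → (Odd k → Odd (Fintype.card F)) →
      (k = 3 → Fintype.card F ≠ 3) → (k = 2 → Fintype.card F ≠ 3) →
      (k = 2 → (∀ i, Cfsg.Geo.IsPlusTypeOn ⇑Q (D i)) →
        Fintype.card F ≠ 2 ∧ Fintype.card F ≠ 4 ∧ Fintype.card F ≠ 5) →
      (k = 4 → Fintype.card F = 2 → ¬ ∀ i, Cfsg.Geo.IsPlusTypeOn ⇑Q (D i)) →
      Cfsg.Geo.IsMaximalIn (Cfsg.Geo.omegaGL ⇑Q)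
        (Cfsg.Geo.decompositionStabilizer D ⊓ Cfsg.Geo.omegaGL ⇑Q) :=
    fun D hD hk hko h3 h2q h2 h4 =>
      CfsgLib.Orth.PlanesMax.decomposition_maximal hB (by omega) (by rw [hn]; decide) hk hD hko h3
        h2q h2 h4
  refine ⟨?_, ?_, ?_, ?_, ?_, ?_, ?_, ?_, ?_, ?_, ?_, ?_⟩
  · intro W hW0 hW
    refine CfsgLib.Orth.isMaximalIn_stab_singular hB (by omega) hW0 hW fun U hU hUd h => ?_
    exact absurd ⟨U, le_top, hU, by rw [finrank_top]; exact h⟩ hminus
  · intro hodd W hW0 hW1 hWodd hne hW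
    rw [Nat.odd_iff] at hWodd
    have hle := Submodule.finrank_le W
    rw [hn] at hle
    exact nd W hW hW0 hne (by omega) (by omega) fun _ h => by omega
  · intro W hd hW hnp
    exact nd W hW (fun e => by rw [e, finrank_bot] at hd; omega) (by omega) (by omega) (by omega)
      fun _ _ => hnp
  · intro hq W hd hW _
    exact nd W hW (fun e => by rw [e, finrank_bot] at hd; omega) (by omega) (by omega) (by omega)
      fun h _ => by omega
  · intro W hd hW
    exact nd W hW (fun e => by rw [e, finrank_bot] at hd; omega) (by omega) (by omega) (by omega)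
      fun _ h => by omega
  · intro W hd hW
    have hW' := CfsgLib.Orth.nondegOn_of hW
    refine CfsgLib.Orth.isMaximalIn_stab_half hB (by omega) hW' ?_
      (CfsgLib.Orth.img_ne_orth_of_minus hB hminus hW' (k := 3) hd hn)
    have hsum := CfsgLib.Orth.finrank_orth hB W
    omega
  · intro _ v hv
    refine CfsgLib.Orth.isMaximalIn_omegaGL (H := CfsgLib.Orth.stab Q (Submodule.span F {v}))
      (fun _ => Iff.rfl) ?_
    rw [CfsgLib.Orth.omega_eq_El hB (by omega)]
    exact CfsgLib.Orth.stab_aniso_line_maximal hB (by omega) hv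
  · intro D hD hnp
    exact dec D hD (by omega) (fun h => absurd h (by decide)) (fun h => by omega) (fun h => by omega)
      (fun h => by omega) (fun _ _ hp => hnp 0 (hp 0))
  · intro hodd K hK hsa
    exact CfsgLib.OrthExt.isMaximalIn Nat.prime_two hB (two hodd) K hK hsa
      (Or.inl ⟨by rw [Fintype.card_fin]; omega, fun _ => by rw [Fintype.card_fin]; omega⟩)
  · intro hodd K hK hsa
    exact CfsgLib.OrthExt.isMaximalIn Nat.prime_three hB (two hodd) K hK hsa
      (Or.inl ⟨by rw [Fintype.card_fin], fun h => by omega⟩)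
  · rintro ⟨hodd, hq⟩ e P f₁ f₂ hf₁ hf₂ hf₂m hT
    exact CfsgLib.Classical.TensorOrthFour.isMaximalIn (two hodd) hq e P hf₁ hf₂ hf₂m hT
  · intro F₀ r P ζ hr _ hcard hζ hP
    have hB' : CfsgLib.Orth.Nondeg (ζ • Q) := fun x hx => hB x fun y => by
      have := hx y
      simp only [QuadraticMap.polar, FunLike.coe_smul, Pi.smul_apply, smul_eq_mul, ← mul_sub] at this
      exact (mul_eq_zero.1 this).resolve_left hζ
    have h := CfsgLib.Orth.Rat.isMaximalIn_subfield (F₀ := F₀) (P := P) hB'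
      (by rw [Fintype.card_fin]; omega) hr (by rw [Nat.card_eq_fintype_card]; exact hcard)
      (fun u hu => hP u hu)
    rwa [show (⇑(ζ • Q) : (Fin 12 → F) → F) = fun v => ζ * Q v from rfl,
      CfsgLib.Orth.Rat.omegaGL_smul hζ] at h

end Cfsg.Agent.S5873
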