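import Cfsg.Statements.S5876
import Cfsg.Agent.Lib.PrimitiveSolvable.FixedSpace

set_option autoImplicit false
open Cfsg

namespace Cfsg.Agent.S5876

/-- Fixed-point spaces in primitive soluble linear groups. Let F be a finite field and G a soluble subgroup of GL_n(F) that acts irreducibly on F^n and primitively (G preserves no decomposition of F^n into two or more independent subspaces of equal dimension). Then every non-identity element g of G has fixed-point space {v : g v = v} of dimension at most 3n/4. -/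
theorem result {F : Type*} [Field F] [Fintype F] {n : ℕ} (G : Subgroup (Matrix.GeneralLinearGroup (Fin n) F)) (hsol : IsSolvable G) (hirr : Cfsg.Geo.ActsIrreducibly (Cfsg.Geo.matrixSet G)) (hprim : ∀ (m t : ℕ) (D : Fin t → Submodule F (Fin n → F)), 2 ≤ t → Cfsg.Geo.IsMDecomposition m D → ¬ G ≤ Cfsg.Geo.decompositionStabilizer D) (g : Matrix.GeneralLinearGroup (Fin n) F) (hg : g ∈ G) (hg1 : g ≠ 1) :
    4 * Module.finrank F (Module.End.eigenspace (Matrix.toLin' (g : Matrix (Fin n) (Fin n) F)) 1) ≤ 3 * n := by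
  classical
  have : Finite F := Finite.of_fintype F
  let ρ : G →* Module.End F (Fin n → F) :=
    { toFun := fun x => Matrix.toLin' ((x : Matrix.GeneralLinearGroup (Fin n) F) : Matrix (Fin n) (Fin n) F)
      map_one' := by simp [Module.End.one_eq_id]
      map_mul' := fun x y => by simp [Matrix.toLin'_mul, Module.End.mul_eq_comp] }
  have hinj : Function.Injective ρ := fun x y e =>
    Subtype.ext (Units.ext (Matrix.toLin'.injective e))
  have := Fintype.ofFinite (Matrix.GeneralLinearGroup (Fin n) F)
  have hirr' : ∀ U : Submodule F (Fin n → F), (∀ h : G, ∀ v ∈ U, ρ h v ∈ U) → U = ⊥ ∨ U = ⊤ := by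
    intro U hU
    refine hirr U ?_
    rintro _ ⟨x, hx, rfl⟩ _ ⟨v, hv, rfl⟩
    exact hU ⟨x, hx⟩ v hv
  have hff : ∀ A : Subgroup G, A.Normal → (∀ x ∈ A, ∀ y ∈ A, x * y = y * x) →
      ∀ a ∈ A, a ≠ 1 → Module.End.eigenspace (ρ a) (1 : F) = ⊥ := by
    intro A hAn hA a ha ha1
    refine (Submodule.eq_bot_iff _).2 fun v hv => ?_
    rw [Module.End.mem_eigenspace_iff, one_smul] at hv
    refine CfsgLib.PrimitiveSolvable.fixed_point_free ρ hinj hirr' ?_ A hA ha ha1 hv
    intro t m D ht hm hrk hind htop hperm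
    exact hprim m t D ht ⟨ht, hm, hrk, hind, htop⟩ fun x hx => hperm ⟨x, hx⟩
  have := CfsgLib.PrimitiveSolvable.fixed_space_bound ρ (hsol := hsol) hff
    (g := (⟨g, hg⟩ : G)) (fun e => hg1 (congrArg Subtype.val e))
  rw [Module.finrank_fin_fun] at this
  exact this

end Cfsg.Agent.S5876
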