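import Cfsg.Statements.S5877
import Cfsg.Agent.Lib.Extraspecial.EigenspaceBound

set_option autoImplicit false
open Cfsg

namespace Cfsg.Agent.S5877

open scoped commutatorElement
open CfsgLib.EigBound

/-- A fixed commutator with a coprime element is trivial. -/
theorem fix_lemma {Q : Type*} [Group Q] {t w : Q} {r ϖ : ℕ} (hne : r.Coprime ϖ) (ht : t ^ ϖ = 1)
    (hu : ⁅t, w⁆ ^ r = 1) (hct : Commute t ⁅t, w⁆) : ⁅t, w⁆ = 1 := by
  have hit : ∀ i : ℕ, t ^ i * w * (t ^ i)⁻¹ = ⁅t, w⁆ ^ i * w := by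
    intro i
    induction i with
    | zero => simp
    | succ i ih =>
      have h1 : t * w * t⁻¹ = ⁅t, w⁆ * w := by rw [commutatorElement_def]; group
      calc t ^ (i + 1) * w * (t ^ (i + 1))⁻¹ = t * (t ^ i * w * (t ^ i)⁻¹) * t⁻¹ := by group
        _ = (t * ⁅t, w⁆ ^ i * t⁻¹) * (t * w * t⁻¹) := by rw [ih]; group
        _ = ⁅t, w⁆ ^ i * (⁅t, w⁆ * w) := by rw [(hct.pow_right i).eq, mul_inv_cancel_right, h1]
        _ = ⁅t, w⁆ ^ (i + 1) * w := by rw [← mul_assoc, ← pow_succ]
  have h2 := hit ϖ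
  rw [ht, one_mul, inv_one, mul_one, eq_comm, mul_eq_right] at h2
  exact orderOf_eq_one_iff.1 (Nat.eq_one_of_dvd_coprimes hne (orderOf_dvd_of_pow_eq_one hu) (orderOf_dvd_of_pow_eq_one h2))

theorem comm_mul_left {Q : Type*} [Group Q] {a b c : Q} (h : Commute ⁅b, c⁆ a) (h' : Commute ⁅b, c⁆ ⁅a, c⁆) :
    ⁅a * b, c⁆ = ⁅a, c⁆ * ⁅b, c⁆ := by
  have e : ⁅a * b, c⁆ = a * ⁅b, c⁆ * a⁻¹ * ⁅a, c⁆ := by simp only [commutatorElement_def]; group
  rw [e, ← h.eq, mul_inv_cancel_right, h'.eq]

theorem comm_mul_right {Q : Type*} [Group Q] {a b c : Q} (h : Commute ⁅c, b⁆ a) :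
    ⁅c, a * b⁆ = ⁅c, a⁆ * ⁅c, b⁆ := by
  have e : ⁅c, a * b⁆ = ⁅c, a⁆ * (a * ⁅c, b⁆ * a⁻¹) := by simp only [commutatorElement_def]; group
  rw [e, ← h.eq, mul_inv_cancel_right]

/-- Eigenspaces of elements normalising an absolutely irreducible extraspecial group. Let F be a finite field, r a prime, and R ≤ GL_n(F) an absolutely irreducible extraspecial r-group (an r-group whose centre equals its derived subgroup and has order r) of exponent r or 4. Let g ∈ GL_n(F) normalise the product of R with the scalar matrices, have prime order ϖ and not be scalar, and let W be the eigenspace of g for any c ∈ F (W may be the zero subspace). Then dim W ≤ 3n/4 if ϖ = 2, dim W ≤ 2n/3 if ϖ = 3, and dim W ≤ n/2 if ϖ > 3; moreover if ϖ = 3 and 3 does not divide n then dim W ≤ n/2. -/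
theorem result {F : Type*} [Field F] [Fintype F] {n r ϖ : ℕ} (R : Subgroup (Matrix.GeneralLinearGroup (Fin n) F)) (hr : r.Prime) (hR : IsPGroup r R) (hZ : Nat.card (Subgroup.center R) = r) (hext : commutator R = Subgroup.center R) (hexp : Monoid.exponent R = r ∨ Monoid.exponent R = 4) (hirr : Cfsg.Geo.ActsAbsolutelyIrreducibly (Cfsg.Geo.matrixSet R)) (g : Matrix.GeneralLinearGroup (Fin n) F) (hg : g ∈ Cfsg.Geo.subgroupNormalizer (R ⊔ Cfsg.Geo.scalars (Fin n) F)) (hϖ : ϖ.Prime) (hord : orderOf g = ϖ) (hns : g ∉ Cfsg.Geo.scalars (Fin n) F) (c : F) :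
    (ϖ = 2 → 4 * Module.finrank F (Module.End.eigenspace (Matrix.toLin' (g : Matrix (Fin n) (Fin n) F)) c) ≤ 3 * n) ∧
    (ϖ = 3 → 3 * Module.finrank F (Module.End.eigenspace (Matrix.toLin' (g : Matrix (Fin n) (Fin n) F)) c) ≤ 2 * n) ∧
    (3 < ϖ → 2 * Module.finrank F (Module.End.eigenspace (Matrix.toLin' (g : Matrix (Fin n) (Fin n) F)) c) ≤ n) ∧
    (ϖ = 3 → ¬ 3 ∣ n → 2 * Module.finrank F (Module.End.eigenspace (Matrix.toLin' (g : Matrix (Fin n) (Fin n) F)) c) ≤ n) := by
  set W : Submodule F (Fin n → F) := Module.End.eigenspace (Matrix.toLin' (g : Matrix (Fin n) (Fin n) F)) c with hW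
  set S := Cfsg.Geo.scalars (Fin n) F with hSdef
  set H := R ⊔ S with hH
  have hn : n ≠ 0 := by
    rintro rfl
    exact hns ((Cfsg.Geo.mem_scalars_iff g).2 ⟨1, Subsingleton.elim _ _⟩)
  haveI : NeZero n := ⟨hn⟩
  have hSc : ∀ s ∈ S, ∀ A : GL (Fin n) F, Commute s A := fun s hs A => by
    obtain ⟨a, ha⟩ := (Cfsg.Geo.mem_scalars_iff s).1 hs
    exact Units.ext (by rw [Units.val_mul, Units.val_mul, ha]; simp)
  haveI hSn : S.Normal := ⟨fun s hs A => by rw [← (hSc s hs A).eq, mul_inv_cancel_right]; exact hs⟩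
  have hRc : ∀ A : GL (Fin n) F, (∀ w ∈ R, ⁅A, w⁆ = 1) → A ∈ S := fun A hA => by
    obtain ⟨a, ha⟩ := hirr.2 (A : Matrix (Fin n) (Fin n) F) (by
      rintro _ ⟨w, hw, rfl⟩
      exact congrArg Units.val (commutatorElement_eq_one_iff_mul_comm.1 (hA w hw)))
    rcases eq_or_ne a 0 with rfl | ha0
    · rw [zero_smul] at ha
      exact absurd (A.isUnit) (by rw [ha]; exact not_isUnit_zero)
    · exact (Cfsg.Geo.mem_scalars_iff A).2 ⟨Units.mk0 a ha0, ha⟩
  have hRR : ∀ a ∈ R, ∀ b ∈ R, ⁅a, b⁆ ∈ S ∧ ⁅a, b⁆ ^ r = 1 := by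
    intro a ha b hb
    have hmem : ⁅(⟨a, ha⟩ : R), ⟨b, hb⟩⁆ ∈ Subgroup.center R :=
      hext ▸ Subgroup.commutator_mem_commutator (Subgroup.mem_top _) (Subgroup.mem_top _)
    refine ⟨hRc _ fun w hw => commutatorElement_eq_one_iff_mul_comm.2
      (congrArg Subtype.val (Subgroup.mem_center_iff.1 hmem ⟨w, hw⟩)).symm, ?_⟩
    have h1 : (⟨_, hmem⟩ : Subgroup.center R) ^ r = 1 :=
      orderOf_dvd_iff_pow_eq_one.1 (hZ ▸ orderOf_dvd_natCard _)
    exact congrArg Subtype.val (congrArg Subtype.val h1 :)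
  have hHmem : ∀ a ∈ H, ∃ a0 ∈ R, ∃ s ∈ S, a0 * s = a := fun a ha => Subgroup.mem_sup_of_normal_right.1 ha
  have hinv : ∀ a b : GL (Fin n) F, ∀ s ∈ S, ∀ s' ∈ S, ⁅a * s, b * s'⁆ = ⁅a, b⁆ := by
    intro a b s hs s' hs'
    have h1 : ⁅a * s, b * s'⁆ = ⁅a, b * s'⁆ := by
      simp only [commutatorElement_def, mul_inv_rev]
      rw [mul_assoc a s, (hSc s hs (b * s')).eq]
      group
    rw [h1]
    simp only [commutatorElement_def, mul_inv_rev]
    rw [mul_assoc a, mul_assoc b s', (hSc s' hs' a⁻¹).eq]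
    group
  have hHH : ∀ a ∈ H, ∀ b ∈ H, ⁅a, b⁆ ∈ S ∧ ⁅a, b⁆ ^ r = 1 := by
    intro a ha b hb
    obtain ⟨a0, ha0, s, hs, rfl⟩ := hHmem a ha
    obtain ⟨b0, hb0, s', hs', rfl⟩ := hHmem b hb
    rw [hinv a0 b0 s hs s' hs']
    exact hRR a0 ha0 b0 hb0
  have hRH : ∀ a ∈ R, a ∈ H := fun a ha => Subgroup.mem_sup_left ha
  have hpowH : ∀ a ∈ H, a ^ r ∈ S := fun a ha => hRc _ fun w hw => by
    obtain ⟨h1, h2⟩ := hHH w (hRH w hw) a ha
    rw [commutatorElement_eq_one_iff_mul_comm]
    have h3 : w * a * w⁻¹ = ⁅w, a⁆ * a := by rw [commutatorElement_def]; group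
    have h4 : w * a ^ r * w⁻¹ = a ^ r := by rw [← conj_pow, h3, (hSc _ h1 a).mul_pow, h2, one_mul]
    exact (mul_inv_eq_iff_eq_mul.1 h4).symm
  have hgH : ∀ a ∈ H, g * a * g⁻¹ ∈ H := fun a ha => (Subgroup.mem_normalizer_iff.1 hg a).1 ha
  have hgH' : ∀ a ∈ H, g⁻¹ * a * g ∈ H := fun a ha =>
    (Subgroup.mem_normalizer_iff.1 hg _).2 (by simpa [mul_assoc] using ha)
  have hDH : ∀ x ∈ H, ⁅g, x⁆ ∈ H := fun x hx => mul_mem (hgH x hx) (inv_mem hx)
  have hgϖ : g ^ ϖ = 1 := hord ▸ pow_orderOf_eq_one g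
  set π := QuotientGroup.mk' S with hπ
  have hπS : ∀ A, π A = 1 ↔ A ∈ S := fun A => QuotientGroup.eq_one_iff A
  have hπcomm : ∀ a ∈ H, ∀ b ∈ H, Commute (π a) (π b) := fun a ha b hb => by
    rw [← commutatorElement_eq_one_iff_commute, ← map_commutatorElement, hπS]
    exact (hHH a ha b hb).1
  have hπpow : ∀ a ∈ H, π a ^ r = 1 := fun a ha => by rw [← map_pow, hπS]; exact hpowH a ha
  -- scalar commutators of order `r` provide primitive roots of unity
  have hscal : ∀ a b : GL (Fin n) F, ⁅a, b⁆ ∈ S → ⁅a, b⁆ ^ r = 1 →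
      ∃ e : F, e ^ r = 1 ∧ (a : Matrix (Fin n) (Fin n) F) * b = e • ((b : Matrix (Fin n) (Fin n) F) * a) ∧
        (⁅a, b⁆ ≠ 1 → IsPrimitiveRoot e r) := by
    intro a b hab hab'
    obtain ⟨e, he⟩ := (Cfsg.Geo.mem_scalars_iff _).1 hab
    have he' : ∀ {u : F}, u • (1 : Matrix (Fin n) (Fin n) F) = 1 → u = 1 := fun {u} hu => by
      simpa using congrFun (congrFun hu 0) 0
    have her : (e : F) ^ r = 1 := he' (by
      rw [← one_pow (M := Matrix (Fin n) (Fin n) F) r, ← smul_pow, ← he, ← Units.val_pow_eq_pow_val, hab',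
        Units.val_one, one_pow])
    refine ⟨e, her, ?_, fun hne => ?_⟩
    · have h1 : a * b = ⁅a, b⁆ * (b * a) := by rw [commutatorElement_def]; group
      rw [← Units.val_mul, h1, Units.val_mul, he, Matrix.smul_mul, one_mul, Units.val_mul]
    · refine IsPrimitiveRoot.iff_orderOf.2 (haveI := Fact.mk hr; orderOf_eq_prime her fun h1 => hne ?_)
      exact Units.ext (by rw [he, h1, one_smul, Units.val_one])
  have hsmall : ∀ y ∈ H, y ∉ S → ∀ d : F, r * Module.finrank F (eig y d) ≤ n ∧ r ∣ n := by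
    intro y hy hyS d
    obtain ⟨w, hw, hwy⟩ : ∃ w ∈ R, ⁅w, y⁆ ≠ 1 := by
      by_contra hc
      push Not at hc
      refine hyS (hRc y fun w hw => ?_)
      rw [← commutatorElement_inv, hc w hw, inv_one]
    obtain ⟨h1, h2⟩ := hHH w (hRH w hw) y hy
    obtain ⟨e, -, he, hprim⟩ := hscal w y h1 h2
    refine ⟨card_mul_finrank_eig_le hr.ne_zero (hprim hwy) he d, (hprim hwy).dvd_of_pow_eq_one n ?_⟩
    have hdet := congrArg Matrix.det he
    rw [Matrix.det_smul, Matrix.det_mul, Matrix.det_mul, Fintype.card_fin, mul_comm (Matrix.det _)] at hdet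
    have hne : Matrix.det (y : Matrix (Fin n) (Fin n) F) * Matrix.det (w : Matrix (Fin n) (Fin n) F) ≠ 0 :=
      mul_ne_zero ((Matrix.isUnit_iff_isUnit_det _).1 y.isUnit).ne_zero ((Matrix.isUnit_iff_isUnit_det _).1 w.isUnit).ne_zero
    exact (mul_left_eq_self₀.1 hdet.symm).resolve_right hne
  have hr2 := hr.two_le
  have hWn : Module.finrank F W ≤ n := le_trans (Submodule.finrank_le _) (by simp)
  rcases eq_or_ne c 0 with rfl | hc
  · have : Module.finrank F W = 0 := by
      rw [show W = ⊥ from eig_zero g, finrank_bot]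
    omega
  by_cases hT0 : ∀ x ∈ R, ⁅g, x⁆ ∈ S
  · -- `g` acts trivially modulo scalars
    obtain ⟨x, hxR, hx⟩ : ∃ x ∈ R, ⁅g, x⁆ ≠ 1 := by
      by_contra hc'
      push Not at hc'
      exact hns (hRc g hc')
    have h2 : ⁅g, x⁆ ^ r = 1 := by
      have h1 : g * x * g⁻¹ = ⁅g, x⁆ * x := by rw [commutatorElement_def]; group
      have h3 := congrArg (fun A => A ^ r) h1
      simp only [conj_pow, (hSc _ (hT0 x hxR) x).mul_pow] at h3
      rw [← (hSc _ (hpowH x (hRH x hxR)) g).eq, mul_inv_cancel_right] at h3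
      simpa using h3
    have h4 : ⁅x, g⁆ ∈ S := by rw [← commutatorElement_inv]; exact inv_mem (hT0 x hxR)
    have h5 : ⁅x, g⁆ ^ r = 1 := by rw [← commutatorElement_inv, inv_pow, h2, inv_one]
    obtain ⟨e, -, he, hprim⟩ := hscal x g h4 h5
    have hb : r * Module.finrank F W ≤ n :=
      card_mul_finrank_eig_le hr.ne_zero (hprim (by rw [← commutatorElement_inv]; exact inv_ne_one.2 hx)) he c
    have h6 : 2 * Module.finrank F W ≤ n := le_trans (Nat.mul_le_mul_right _ hr2) hb
    refine ⟨fun _ => ?_, fun _ => ?_, fun _ => h6, fun _ _ => h6⟩ <;> omega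
  push Not at hT0
  obtain ⟨x₀, hx₀R, hx₀⟩ := hT0
  -- translates of `W`
  have htrans : ∀ x : GL (Fin n) F, ∀ U : Submodule F (Fin n → F),
      W ⊓ W.map (Matrix.toLin' (x : Matrix (Fin n) (Fin n) F)) ≤ U →
      2 * Module.finrank F W ≤ n + Module.finrank F U := by
    intro x U hU
    have hinj : Function.Injective (Matrix.toLin' (x : Matrix (Fin n) (Fin n) F)) := fun a b e =>
      mulVec_injective x (by simpa only [Matrix.toLin'_apply] using e)
    have e := Submodule.finrank_sup_add_finrank_inf_eq W (W.map (Matrix.toLin' (x : Matrix (Fin n) (Fin n) F)))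
    rw [← LinearEquiv.finrank_eq (Submodule.equivMapOfInjective _ hinj W)] at e
    have h1 := Submodule.finrank_mono hU
    have h2 := Submodule.finrank_le (W ⊔ W.map (Matrix.toLin' (x : Matrix (Fin n) (Fin n) F)))
    rw [Module.finrank_fin_fun] at h2
    omega
  have hmeet : ∀ x : GL (Fin n) F, ∀ v ∈ W ⊓ W.map (Matrix.toLin' (x : Matrix (Fin n) (Fin n) F)),
      (⁅g, x⁆ : GL (Fin n) F).val.mulVec v = v ∧ (g * ⁅g, x⁆ * g⁻¹ : GL (Fin n) F).val.mulVec v = v := by
    rintro x v ⟨hv, w, hw, rfl⟩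
    rw [SetLike.mem_coe] at hv hw
    have hv' := mem_eig.1 hv
    have hw' := mem_eig.1 hw
    rw [Matrix.toLin'_apply] at hv' ⊢
    have hginv : ∀ {u : Fin n → F}, (g : Matrix (Fin n) (Fin n) F).mulVec u = c • u →
        ((g⁻¹ : GL (Fin n) F) : Matrix (Fin n) (Fin n) F).mulVec u = c⁻¹ • u := fun {u} hu => by
      apply mulVec_injective g
      rw [← mulVec_mul, mul_inv_cancel, Units.val_one, Matrix.one_mulVec, Matrix.mulVec_smul, hu, smul_smul,
        inv_mul_cancel₀ hc, one_smul]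
    have h1 : (⁅g, x⁆ : GL (Fin n) F).val.mulVec ((x : Matrix (Fin n) (Fin n) F).mulVec w) =
        (x : Matrix (Fin n) (Fin n) F).mulVec w := by
      rw [← mulVec_mul, show ⁅g, x⁆ * x = g * x * g⁻¹ by rw [commutatorElement_def]; group, mulVec_mul,
        mulVec_mul, hginv hw', Matrix.mulVec_smul, Matrix.mulVec_smul, hv', smul_smul, inv_mul_cancel₀ hc,
        one_smul]
    refine ⟨h1, ?_⟩
    rw [mulVec_mul, mulVec_mul, hginv hv', Matrix.mulVec_smul, Matrix.mulVec_smul, h1, hv', smul_smul,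
      inv_mul_cancel₀ hc, one_smul]
  have hbasic : r * (2 * Module.finrank F W) ≤ r * n + n := by
    have h1 := htrans x₀ (eig ⁅g, x₀⁆ 1) fun v hv => mem_eig.2 (by rw [one_smul]; exact (hmeet x₀ v hv).1)
    have h2 := (hsmall _ (hDH _ (hRH _ hx₀R)) hx₀ 1).1
    nlinarith
  -- odd `ϖ` different from `r`
  have hB : ϖ ≠ 2 → ϖ ≠ r → 2 * Module.finrank F W ≤ n := by
    intro h2 hne
    obtain ⟨k, hk⟩ := hϖ.odd_of_ne_two h2
    have hcop : r.Coprime ϖ := (Nat.coprime_primes hr hϖ).2 (Ne.symm hne)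
    set t := π g with ht
    have htϖ : t ^ ϖ = 1 := by rw [ht, ← map_pow, hgϖ, map_one]
    obtain ⟨x, hxH, hx⟩ : ∃ x ∈ H, ⁅g * ⁅g, x⁆ * g⁻¹, ⁅g, x⁆⁆ ≠ 1 := by
      by_contra hc'
      push Not at hc'
      refine hx₀ ?_
      have hxH := hRH _ hx₀R
      set a := ⁅g, x₀⁆ with ha
      have haH : a ∈ H := hDH _ hxH
      set z := g * a * g⁻¹ * (g⁻¹ * a * g)⁻¹ with hz
      have hzH : z ∈ H := mul_mem (hgH a haH) (inv_mem (hgH' a haH))
      have hbil : ∀ {u v w : GL (Fin n) F}, u ∈ H → v ∈ H → w ∈ H → ⁅u * v, w⁆ = ⁅u, w⁆ * ⁅v, w⁆ :=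
        fun {u v w} hu hv hw => comm_mul_left (hSc _ (hHH v hv w hw).1 u) (hSc _ (hHH v hv w hw).1 _)
      have hbil' : ∀ {u v w : GL (Fin n) F}, u ∈ H → v ∈ H → w ∈ H → ⁅w, u * v⁆ = ⁅w, u⁆ * ⁅w, v⁆ :=
        fun {u v w} _ hv hw => comm_mul_right (hSc _ (hHH w hw v hv).1 u)
      have hconj : ∀ {u v : GL (Fin n) F}, u ∈ H → v ∈ H → ⁅g * u * g⁻¹, g * v * g⁻¹⁆ = ⁅u, v⁆ :=
        fun {u v} hu hv => by
          rw [show ⁅g * u * g⁻¹, g * v * g⁻¹⁆ = g * ⁅u, v⁆ * g⁻¹ by simp only [commutatorElement_def]; group,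
            ← (hSc _ (hHH u hu v hv).1 g).eq, mul_inv_cancel_right]
      have hzb : ∀ w ∈ H, ⁅z, ⁅g, w⁆⁆ = 1 := by
        intro w hw
        set b := ⁅g, w⁆ with hb
        have hbH : b ∈ H := hDH _ hw
        have heq : π ⁅g, x₀ * w⁆ = π (a * b) := by
          rw [ha, hb, show ⁅g, x₀ * w⁆ = g * x₀ * g⁻¹ * ⁅g, w⁆ * x₀⁻¹ by
            simp only [commutatorElement_def]; group]
          simp only [commutatorElement_def, map_mul, map_inv]
          have h := (hπcomm (g * w * g⁻¹ * w⁻¹) (hDH _ hw) x₀⁻¹ (inv_mem hxH)).eq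
          simp only [map_mul, map_inv] at h
          simp only [mul_assoc] at h ⊢
          rw [h]
        obtain ⟨s, hs, hse⟩ : ∃ s ∈ S, ⁅g, x₀ * w⁆ = a * b * s :=
          ⟨(a * b)⁻¹ * ⁅g, x₀ * w⁆, QuotientGroup.eq.1 heq.symm, by rw [mul_inv_cancel_left]⟩
        have h1 := hc' _ (mul_mem hxH hw)
        rw [hse, show g * (a * b * s) * g⁻¹ = (g * a * g⁻¹) * (g * b * g⁻¹) * s by
          rw [← mul_assoc g (a * b), mul_assoc (g * (a * b)), (hSc s hs g⁻¹).eq]; group,
          hinv _ _ s hs s hs, hbil' haH hbH (mul_mem (hgH a haH) (hgH b hbH)),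
          hbil (hgH a haH) (hgH b hbH) haH, hbil (hgH a haH) (hgH b hbH) hbH, hc' x₀ hxH, hc' w hw,
          one_mul, mul_one] at h1
        rw [hz, hbil (hgH a haH) (inv_mem (hgH' a haH)) hbH]
        have h3 : ⁅g * b * g⁻¹, a⁆ = ⁅b, g⁻¹ * a * g⁆ := by
          rw [← hconj hbH (hgH' a haH)]
          congr 1
          group
        rw [h3] at h1
        have h4 : ⁅(g⁻¹ * a * g)⁻¹, b⁆ * ⁅g⁻¹ * a * g, b⁆ = 1 := by
          rw [← hbil (inv_mem (hgH' a haH)) (hgH' a haH) hbH, inv_mul_cancel, commutatorElement_one_left]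
        rw [eq_inv_of_mul_eq_one_left h4, commutatorElement_inv,
          (hSc _ (hHH _ (hgH a haH) _ hbH).1 _).eq]
        exact h1
      have hzS : g⁻¹ * z * g * z⁻¹ ∈ S := hRc _ fun w hw => by
        have hwH := hRH w hw
        have h1 : ⁅z, g * w * g⁻¹⁆ = ⁅z, w⁆ := by
          conv_lhs => rw [show g * w * g⁻¹ = ⁅g, w⁆ * w by rw [commutatorElement_def]; group]
          rw [hbil' (hDH _ hwH) hwH hzH, hzb w hwH, one_mul]
        have h2 : ⁅g⁻¹ * z * g, w⁆ = ⁅z, w⁆ := by
          rw [← h1, ← hconj (hgH' z hzH) hwH]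
          congr 1
          group
        have h3 : ⁅z⁻¹, w⁆ * ⁅z, w⁆ = 1 := by
          rw [← hbil (inv_mem hzH) hzH hwH, inv_mul_cancel, commutatorElement_one_left]
        rw [hbil (hgH' z hzH) (inv_mem hzH) hwH, h2, ← (hSc _ (hHH _ (inv_mem hzH) _ hwH).1 _).eq, h3]
      have hπa : ∀ b ∈ H, Commute (π a) (π b) := hπcomm a haH
      have hzt : Commute t (π z) := by
        have h1 := (hπS _).2 hzS
        rw [map_mul, map_mul, map_mul, map_inv, map_inv, ← ht, mul_inv_eq_one, mul_assoc,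
          inv_mul_eq_iff_eq_mul] at h1
        exact h1.symm
      set d := a * (g⁻¹ * a * g) with hd
      have hdH : d ∈ H := mul_mem haH (hgH' a haH)
      have hzd : π z = ⁅t, π d⁆ := by
        rw [ht, ← map_commutatorElement]
        have e1 : ⁅g, d⁆ = (g * a * g⁻¹) * (a * ((g⁻¹ * a * g)⁻¹ * a⁻¹)) := by
          rw [hd, commutatorElement_def]; group
        rw [e1, hz, map_mul _ (g * a * g⁻¹), map_mul _ (g * a * g⁻¹), map_mul _ a, map_mul _ _ a⁻¹,
          ← mul_assoc (π a), (hπa _ (inv_mem (hgH' a haH))).eq, map_inv π a, mul_inv_cancel_right]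
      have hz1 : π z = 1 := by
        rw [hzd]
        exact fix_lemma hcop htϖ (hzd ▸ hπpow z hzH) (hzd ▸ hzt)
      have ht2 : Commute (t ^ 2) (π a) := by
        rw [hz, map_mul, map_inv, mul_inv_eq_one] at hz1
        simp only [map_mul, map_inv, ← ht] at hz1
        show t ^ 2 * π a = π a * t ^ 2
        calc t ^ 2 * π a = t * (t * π a * t⁻¹) * t := by rw [sq]; group
          _ = t * (t⁻¹ * π a * t) * t := by rw [hz1]
          _ = π a * t ^ 2 := by rw [sq]; group
      have hta : Commute t (π a) := by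
        have h1 := ht2.pow_left (k + 1)
        rwa [← pow_mul, show 2 * (k + 1) = ϖ + 1 by omega, pow_succ, htϖ, one_mul] at h1
      have hax : π a = ⁅t, π x₀⁆ := map_commutatorElement π g x₀
      rw [← hπS, hax]
      exact fix_lemma hcop htϖ (hax ▸ hπpow a haH) (hax ▸ hta)
    set y := ⁅g, x⁆ with hy
    have hyH : y ∈ H := hDH _ hxH
    obtain ⟨e, -, he, hprim⟩ := hscal _ _ (hHH _ (hgH y hyH) _ hyH).1 (hHH _ (hgH y hyH) _ hyH).2
    have h1 := htrans x ⊥ fun v hv => by
      obtain ⟨h3, h4⟩ := hmeet x v hv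
      have h5 := congrArg (fun M : Matrix (Fin n) (Fin n) F => M.mulVec v) he
      simp only [← Matrix.mulVec_mulVec, Matrix.smul_mulVec, ← hy] at h5
      rw [← hy] at h3 h4
      rw [h3, h4, h3] at h5
      rw [Submodule.mem_bot]
      by_contra hv0
      have h6 : (1 - e) • v = 0 := by rw [sub_smul, one_smul, ← h5, sub_self]
      have he1 : e ≠ 1 := (hprim hx).ne_one hr.one_lt
      exact he1 (sub_eq_zero.1 ((smul_eq_zero.1 h6).resolve_right hv0)).symm
    rw [finrank_bot, add_zero] at h1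
    exact h1
  -- `ϖ = r ≥ 5`
  have hD : ϖ = r → 5 ≤ r → 2 * Module.finrank F W ≤ n := by
    intro heq h5
    rw [heq] at hgϖ
    haveI := Fact.mk hr
    obtain ⟨x, hxR, hyS, hyy⟩ : ∃ x ∈ R, ⁅g, x⁆ ∉ S ∧ ⁅g, ⁅g, x⁆⁆ ∈ S := by
      by_contra hc'
      push Not at hc'
      set t := π g with ht
      set P := H.map π ⊔ Subgroup.zpowers t with hP
      have hnorm : Subgroup.zpowers t ≤ Subgroup.normalizer (H.map π : Set (GL (Fin n) F ⧸ S)) := by
        refine Subgroup.zpowers_le.2 (Subgroup.mem_normalizer_iff.2 fun q => ⟨?_, ?_⟩)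
        · rintro ⟨a, ha, rfl⟩
          exact ⟨_, hgH a ha, by rw [map_mul, map_mul, map_inv]⟩
        · rintro ⟨a, ha, he⟩
          exact ⟨_, hgH' a ha, by rw [map_mul, map_mul, map_inv, he, ← ht]; group⟩
      have hPp : IsPGroup r P := by
        rw [hP, sup_comm]
        refine IsPGroup.to_sup_of_normal_right' ?_ ?_ hnorm
        · rintro ⟨q, hq⟩
          obtain ⟨i, rfl⟩ := Subgroup.mem_zpowers_iff.1 hq
          refine ⟨1, Subtype.ext ?_⟩
          show (t ^ i) ^ r ^ 1 = 1
          rw [pow_one, ← zpow_natCast, ← zpow_mul, mul_comm, zpow_mul, zpow_natCast, ht, ← map_pow, hgϖ,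
            map_one, one_zpow]
        · rintro ⟨q, hq⟩
          obtain ⟨a, ha, rfl⟩ := hq
          exact ⟨1, Subtype.ext (by show π a ^ r ^ 1 = 1; rw [pow_one]; exact hπpow a ha)⟩
      haveI := hPp.isNilpotent
      obtain ⟨m, hm⟩ := Subgroup.nilpotent_iff_lowerCentralSeries.mp (inferInstance : Group.IsNilpotent P)
      let t' : P := ⟨t, Subgroup.mem_sup_right (Subgroup.mem_zpowers t)⟩
      have hstep : ∀ i : ℕ, ∃ a ∈ H, a ∉ S ∧ ⁅g, a⁆ ∉ S ∧ ∀ h : π a ∈ P,
          (⟨π a, h⟩ : P) ∈ (⊤ : Subgroup P).lowerCentralSeries i := by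
        intro i
        induction i with
        | zero =>
          refine ⟨x₀, hRH _ hx₀R, fun h => hx₀ ?_, hx₀, fun _ => by simp⟩
          rw [commutatorElement_eq_one_iff_mul_comm.2 (hSc _ h g).symm.eq]
          exact one_mem S
        | succ i ih =>
          obtain ⟨a, haH, -, haD, hamem⟩ := ih
          refine ⟨⁅g, a⁆, hDH _ haH, haD, ?_, fun h => ?_⟩
          · obtain ⟨a0, ha0, s, hs, rfl⟩ := hHmem a haH
            have e0 : ⁅g, a0 * s⁆ = ⁅g, a0⁆ := by
              simpa using hinv g a0 1 (one_mem S) s hs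
            rw [e0] at haD ⊢
            exact hc' a0 ha0 haD
          · have haP : π a ∈ P := Subgroup.mem_sup_left (Subgroup.mem_map_of_mem π haH)
            have h1 : ⁅(⟨π a, haP⟩ : P), t'⁆ ∈ (⊤ : Subgroup P).lowerCentralSeries (i + 1) :=
              Subgroup.commutator_mem_commutator (hamem haP) (Subgroup.mem_top _)
            have h2 : (⟨π ⁅g, a⁆, h⟩ : P) = ⁅(⟨π a, haP⟩ : P), t'⁆⁻¹ := by
              rw [commutatorElement_inv]
              exact Subtype.ext (map_commutatorElement π g a)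
            rw [h2]
            exact inv_mem h1
      obtain ⟨a, haH, haS, -, hmem⟩ := hstep m
      have h1 := hmem (Subgroup.mem_sup_left (Subgroup.mem_map_of_mem π haH))
      rw [hm, Subgroup.mem_bot] at h1
      exact haS ((hπS a).1 (congrArg Subtype.val h1))
    set y := ⁅g, x⁆ with hy
    have hxH := hRH x hxR
    have hyH : y ∈ H := hDH _ hxH
    have hxr : x ^ r = 1 := by
      have h1 : (⟨x, hxR⟩ : R) ^ Monoid.exponent R = 1 := Monoid.pow_exponent_eq_one _
      rcases hexp with he | he <;> rw [he] at h1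
      · exact congrArg Subtype.val h1
      · have h2 : x ^ 4 = 1 := congrArg Subtype.val h1
        obtain ⟨j, hj⟩ := IsPGroup.iff_orderOf.1 hR ⟨x, hxR⟩
        rw [Subgroup.orderOf_mk] at hj
        have h3 : orderOf x = 1 := Nat.eq_one_of_dvd_coprimes (a := orderOf x) (b := 2 ^ 2)
          (hj ▸ Nat.Coprime.pow j 2 ((Nat.coprime_primes hr Nat.prime_two).2 (by omega))) dvd_rfl
          (orderOf_dvd_of_pow_eq_one h2)
        rw [orderOf_eq_one_iff.1 h3, one_pow]
    have hyr : y ^ r = 1 := by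
      have hsc := hHH x⁻¹ (inv_mem hxH) (g * x * g⁻¹) (hgH x hxH)
      rw [show y = g * x * g⁻¹ * x⁻¹ from rfl,
        CfsgLib.PSolvable.mul_pow_of_comm (hSc _ hsc.1 _) (hSc _ hsc.1 _), conj_pow, hxr, inv_pow, hxr]
      obtain ⟨d, hd⟩ := hr.dvd_choose_self two_ne_zero (by omega : 2 < r)
      rw [hd, pow_mul, hsc.2]; simp
    have hlam : ⁅g, y⁆ ^ r = 1 := by
      have h1 : g * y * g⁻¹ = ⁅g, y⁆ * y := by rw [commutatorElement_def]; group
      have h3 := congrArg (fun A => A ^ r) h1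
      simp only [conj_pow, (hSc _ hyy y).mul_pow, hyr, mul_one, mul_inv_cancel] at h3
      exact h3.symm
    obtain ⟨l, hl, hgy, hlprim⟩ := hscal g y hyy hlam
    have hU := hsmall y hyH hyS
    have h2U : 2 * Module.finrank F (eig y 1) ≤ n := le_trans (Nat.mul_le_mul_right _ hr2) (hU 1).1
    by_cases hcy : ⁅g, y⁆ = 1
    swap
    · exact le_trans (Nat.mul_le_mul_left 2 (finrank_eig_le_of_twist hr (hlprim hcy) hyr hgy c)) h2U
    have hgy1 : (g : Matrix (Fin n) (Fin n) F) * y = (1 : F) • ((y : Matrix (Fin n) (Fin n) F) * g) := by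
      rw [one_smul, ← Units.val_mul, ← Units.val_mul, commutatorElement_eq_one_iff_mul_comm.1 hcy]
    obtain ⟨η, hηr, hyx, hηprim⟩ := hscal y x (hHH y hyH x hxH).1 (hHH y hyH x hxH).2
    -- `x` maps joint eigenspaces to joint eigenspaces
    have hJ : ∀ (i : ℕ) (a b : F), Module.finrank F ↥(eig g a ⊓ eig y b) ≤
        Module.finrank F ↥(eig g (a * b ^ i * η ^ (i + 1).choose 2) ⊓ eig y (b * η ^ i)) := by
      intro i
      induction i with
      | zero => intro a b; rw [Nat.choose_eq_zero_of_lt (show 0 + 1 < 2 by norm_num), pow_zero, pow_zero, mul_one, mul_one, mul_one]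
      | succ i ih =>
        intro a b
        refine (ih a b).trans (finrank_le_of_mapsTo x ?_)
        rintro v ⟨hv1, hv2⟩
        rw [SetLike.mem_coe, mem_eig] at hv1 hv2
        have hgx : g * x = y * x * g := by rw [hy, commutatorElement_def]; group
        have hyxv : (y : Matrix (Fin n) (Fin n) F).mulVec ((x : Matrix (Fin n) (Fin n) F).mulVec v) =
            (b * η ^ (i + 1)) • (x : Matrix (Fin n) (Fin n) F).mulVec v := by
          have h1 := congrArg (fun M : Matrix (Fin n) (Fin n) F => M.mulVec v) hyx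
          simp only [← Matrix.mulVec_mulVec, Matrix.smul_mulVec, hv2, Matrix.mulVec_smul, smul_smul] at h1
          rw [h1]; congr 1; ring
        refine ⟨?_, ?_⟩ <;> rw [SetLike.mem_coe, mem_eig]
        · rw [← mulVec_mul, hgx, mulVec_mul, hv1, Matrix.mulVec_smul, mulVec_mul, hyxv, smul_smul]
          congr 1
          rw [Nat.choose_succ_succ' (i + 1) 1, Nat.choose_one_right, pow_add]
          ring
        · exact hyxv
    obtain ⟨ρ, hρ⟩ : ∃ ρ : F, IsPrimitiveRoot ρ r := by
      obtain ⟨w, hw, hwy⟩ : ∃ w ∈ R, ⁅w, y⁆ ≠ 1 := by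
        by_contra hc'
        push Not at hc'
        refine hyS (hRc y fun w hw => ?_)
        rw [← commutatorElement_inv, hc' w hw, inv_one]
      obtain ⟨e, -, -, hp⟩ := hscal w y (hHH w (hRH w hw) y hyH).1 (hHH w (hRH w hw) y hyH).2
      exact ⟨e, hp hwy⟩
    suffices hkey : r * Module.finrank F W ≤ 2 * n by
      nlinarith [Nat.mul_le_mul_right (Module.finrank F W) h5]
    by_cases hκ : ⁅y, x⁆ = 1
    · -- `x` preserves the eigenspaces of `y`
      have hη1 : η = 1 := by
        rw [← Units.val_mul, ← Units.val_mul, commutatorElement_eq_one_iff_mul_comm.1 hκ] at hyx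
        by_contra hne
        have h0 : (1 - η) • ((x * y : GL (Fin n) F) : Matrix (Fin n) (Fin n) F) = 0 := by
          rw [sub_smul, one_smul, ← hyx, sub_self]
        rcases smul_eq_zero.1 h0 with h | h
        · exact hne (sub_eq_zero.1 h).symm
        · exact (x * y).isUnit.ne_zero h
      have hb : ∀ k ∈ Finset.range r, k ≠ 0 → r * (r * Module.finrank F ↥(eig g c ⊓ eig y (ρ ^ k)⁻¹)) ≤ n := by
        intro k hk hk0
        set μ := (ρ ^ k)⁻¹ with hμ
        have hμp : IsPrimitiveRoot μ r := by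
          rw [hμ]
          exact (hρ.pow_of_coprime k ((hr.coprime_iff_not_dvd.2 fun hd =>
            absurd (Nat.le_of_dvd (Nat.pos_of_ne_zero hk0) hd) (not_le.2 (Finset.mem_range.1 hk))).symm)).inv
        refine le_trans (Nat.mul_le_mul_left r ?_) (hU μ).1
        have hinj : Function.Injective fun i : Fin r => c * μ ^ (i : ℕ) := fun i j e =>
          Fin.ext (hμp.pow_inj i.2 j.2 (mul_left_cancel₀ hc e))
        have hind : iSupIndep fun i : Fin r => eig g (c * μ ^ (i : ℕ)) ⊓ eig y μ :=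
          ((Module.End.eigenspaces_iSupIndep (Matrix.toLin' (g : Matrix (Fin n) (Fin n) F))).comp hinj).mono
            fun i => inf_le_left
        calc r * Module.finrank F ↥(eig g c ⊓ eig y μ)
            = ∑ _i : Fin r, Module.finrank F ↥(eig g c ⊓ eig y μ) := by simp
          _ ≤ ∑ i : Fin r, Module.finrank F ↥(eig g (c * μ ^ (i : ℕ)) ⊓ eig y μ) := Finset.sum_le_sum fun i _ => by
              have h1 := hJ i c μ
              rw [hη1, one_pow, one_pow, mul_one, mul_one] at h1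
              exact h1
          _ ≤ _ := sum_finrank_le_of_indep hind _ fun i _ => inf_le_right
      have hsum := finrank_eig_le_sum hr hρ hyr hgy1 c
      rw [← Finset.sum_erase_add _ _ (Finset.mem_range.2 hr.pos)] at hsum
      have h0 : r * Module.finrank F ↥(eig g c ⊓ eig y (ρ ^ 0)⁻¹) ≤ n := by
        refine le_trans (Nat.mul_le_mul_left r (Submodule.finrank_mono inf_le_right)) ?_
        rw [pow_zero, inv_one]
        exact (hU 1).1
      have h1 : r * (r * ∑ k ∈ (Finset.range r).erase 0, Module.finrank F ↥(eig g c ⊓ eig y (ρ ^ k)⁻¹)) ≤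
          r * n := by
        rw [Finset.mul_sum, Finset.mul_sum]
        refine le_trans (Finset.sum_le_card_nsmul _ _ n fun k hk =>
          hb k (Finset.mem_of_mem_erase hk) (Finset.ne_of_mem_erase hk)) ?_
        rw [smul_eq_mul]
        exact Nat.mul_le_mul_right n ((Finset.card_le_card (Finset.erase_subset _ _)).trans (Finset.card_range r).le)
      have h2 := Nat.le_of_mul_le_mul_left h1 hr.pos
      refine le_trans (Nat.mul_le_mul_left r hsum) ?_
      rw [mul_add]
      omega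
    · -- `x` permutes the eigenspaces of `y`
      have hη := hηprim hκ
      have hρ' : IsPrimitiveRoot η r := hη
      have hsum := finrank_eig_le_sum hr hρ' hyr hgy1 c
      set v : ℕ → F := fun m => c * η⁻¹ ^ m.choose 2 with hv
      have hle : ∀ m, Module.finrank F ↥(eig g c ⊓ eig y (η ^ m)⁻¹) ≤
          Module.finrank F ↥(eig g (v m) ⊓ eig y 1) := by
        intro m
        have h1 := hJ m c (η ^ m)⁻¹
        have hη0 : η ≠ 0 := hη.ne_zero hr.ne_zero
        rw [inv_mul_cancel₀ (pow_ne_zero _ hη0), show c * ((η ^ m)⁻¹) ^ m * η ^ (m + 1).choose 2 = v m from ?_] at h1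
        · exact h1
        have hmm : m * m = m.choose 2 + (m + 1).choose 2 := by
          clear * -
          induction m with
          | zero => rfl
          | succ m ih =>
            rw [Nat.choose_succ_succ' (m + 1) 1, Nat.choose_one_right, Nat.choose_succ_succ' m 1,
              Nat.choose_one_right] at *
            nlinarith
        rw [hv]
        simp only
        rw [← inv_pow, ← pow_mul, hmm, pow_add, ← mul_assoc, mul_assoc _ (η⁻¹ ^ (m + 1).choose 2), ← mul_pow,
          inv_mul_cancel₀ hη0, one_pow, mul_one]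
      refine le_trans (Nat.mul_le_mul_left r (hsum.trans (Finset.sum_le_sum fun m _ => hle m))) ?_
      classical
      rw [← Finset.sum_fiberwise_of_maps_to (g := v) (t := (Finset.range r).image v)
        (fun m hm => Finset.mem_image_of_mem v hm)]
      have hfib : ∀ d : F, ((Finset.range r).filter fun m => v m = d).card ≤ 2 := by
        intro d
        by_contra hc'
        push Not at hc'
        obtain ⟨i, hi, j, hj, k, hk, hij, hik, hjk⟩ := Finset.two_lt_card.1 hc'
        simp only [Finset.mem_filter, Finset.mem_range] at hi hj hk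
        have hchoose : ∀ {i j : ℕ}, i < r → j < r → i ≠ j → v i = v j → ((i : ZMod r) + j = 1) := by
          intro i j hi hj hij he
          have h1 : η⁻¹ ^ i.choose 2 = η⁻¹ ^ j.choose 2 := mul_left_cancel₀ hc he
          have h2 : (i.choose 2 : ZMod r) = j.choose 2 := by
            rw [ZMod.natCast_eq_natCast_iff']
            refine hη.inv.pow_inj (Nat.mod_lt _ hr.pos) (Nat.mod_lt _ hr.pos) ?_
            rw [← pow_eq_pow_mod _ hη.inv.pow_eq_one, ← pow_eq_pow_mod _ hη.inv.pow_eq_one]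
            exact h1
          have h3 : ∀ m : ℕ, 2 * (m.choose 2 : ZMod r) = (m : ZMod r) * ((m : ZMod r) - 1) := by
            intro m
            induction m with
            | zero => simp
            | succ m ih =>
              rw [Nat.choose_succ_succ' m 1, Nat.choose_one_right]
              push_cast
              rw [mul_add, ih]; ring
          have h4 : ((i : ZMod r) - j) * ((i : ZMod r) + j - 1) = 0 := by
            linear_combination (h3 j) - (h3 i) + 2 * h2
          rcases mul_eq_zero.1 h4 with h | h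
          · exact absurd ((ZMod.natCast_eq_natCast_iff' i j r).1 (sub_eq_zero.1 h))
              (by rwa [Nat.mod_eq_of_lt hi, Nat.mod_eq_of_lt hj])
          · exact sub_eq_zero.1 h
        have e1 := hchoose hi.1 hj.1 hij (hi.2.trans hj.2.symm)
        have e2 := hchoose hi.1 hk.1 hik (hi.2.trans hk.2.symm)
        have e3 : (j : ZMod r) = k := add_left_cancel (e1.trans e2.symm)
        rw [ZMod.natCast_eq_natCast_iff', Nat.mod_eq_of_lt hj.1, Nat.mod_eq_of_lt hk.1] at e3
        exact hjk e3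
      have hs : ∑ d ∈ (Finset.range r).image v, ∑ m ∈ (Finset.range r).filter (fun m => v m = d),
          Module.finrank F ↥(eig g (v m) ⊓ eig y 1) ≤ 2 * Module.finrank F (eig y 1) := by
        refine le_trans (Finset.sum_le_sum fun d _ => ?_) (le_trans (Finset.mul_sum _ _ _).ge
          (Nat.mul_le_mul_left 2 (sum_finrank_le_of_indep (W := fun d => eig g d ⊓ eig y 1)
            ((Module.End.eigenspaces_iSupIndep (Matrix.toLin' (g : Matrix (Fin n) (Fin n) F))).mono
              fun i => inf_le_left) _ fun i _ => inf_le_right)))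
        refine le_trans (Finset.sum_le_card_nsmul _ _ (Module.finrank F ↥(eig g d ⊓ eig y 1)) fun m hm => ?_) ?_
        · rw [(Finset.mem_filter.1 hm).2]
        · rw [smul_eq_mul]
          exact Nat.mul_le_mul_right _ (hfib d)
      refine le_trans (Nat.mul_le_mul_left r hs) ?_
      have := (hU 1).1
      linarith
  have h3dvd : r = 3 → 3 ∣ n := fun h => h ▸ (hsmall _ (hDH _ (hRH _ hx₀R)) hx₀ 1).2
  have hprime5 : 3 < ϖ → ϖ = r → 5 ≤ r := fun h e => by
    subst e
    have : ϖ ≠ 4 := fun h4 => absurd (h4 ▸ hϖ) (by norm_num)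
    omega
  refine ⟨fun _ => ?_, fun h => ?_, fun h => ?_, fun h h' => ?_⟩
  · nlinarith [Nat.mul_le_mul_right (Module.finrank F W) hr2]
  · rcases eq_or_ne ϖ r with he | he
    · have : r = 3 := by omega
      subst this
      omega
    · have := hB (by omega) he; omega
  · rcases eq_or_ne ϖ r with he | he
    · exact hD he (hprime5 h he)
    · exact hB (by omega) he
  · rcases eq_or_ne ϖ r with he | he
    · exact absurd (h3dvd (by omega)) h'
    · exact hB (by omega) he

end Cfsg.Agent.S5877
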