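import Cfsg.Statements.S5883
import Cfsg.Agent.Lib.Fi23ThreeB.Maximal
import Cfsg.Agent.Lib.Fi23ThreeB.Solvable
-- import your own Cfsg.Agent.* helpers here

set_option autoImplicit false
open Cfsg

namespace Cfsg.Agent.S5883

/-- The constant 10 in the statement that H⁽¹⁰⁾ is perfect for every maximal subgroup H of a finite almost simple group cannot be lowered to 9: there exist a finite almost simple group G (with a non-abelian simple normal subgroup of trivial centralizer) and a maximal subgroup H of G whose ninth derived subgroup H⁽⁹⁾ is not perfect, i.e. H⁽¹⁰⁾ ≠ H⁽⁹⁾. (A solvable maximal subgroup of derived length 10 in the Fischer group Fi₂₃ is such an example.) -/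
theorem result :
    ∃ (G : Type) (_ : Group G) (_ : Finite G) (S H : Subgroup G), S.Normal ∧ IsSimpleGroup S ∧ ¬ IsMulCommutative S ∧
      Subgroup.centralizer (S : Set G) = ⊥ ∧ IsCoatom H ∧ derivedSeries H 10 ≠ derivedSeries H 9 := by
  refine ⟨Cfsg.Spor.Fi23, inferInstance, inferInstance, ⊤, CfsgLib.Fi23ThreeB.locSub, inferInstance,
    ?_, ?_, CfsgLib.Fi23ThreeB.centralizer_top, CfsgLib.Fi23ThreeB.locSub_coatom,
    CfsgLib.Fi23ThreeB.derived_ten_ne⟩
  · have := CfsgLib.Fi23Pres.isFi23.1
    exact Subgroup.topEquiv.isSimpleGroup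
  · intro h
    exact CfsgLib.Fi23ThreeB.not_comm fun x y =>
      congrArg Subtype.val (h.is_comm.comm ⟨x, trivial⟩ ⟨y, trivial⟩)

end Cfsg.Agent.S5883
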