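import Cfsg.Statements.S5885


set_option autoImplicit false
open Cfsg

namespace Cfsg.Agent.S5885

open Equiv
open scoped Pointwise

theorem even_three {n : ℕ} {a b c : Fin n} (hab : a ≠ b) (hac : a ≠ c) (hbc : b ≠ c) :
    ∃ σ ∈ alternatingGroup (Fin n), σ a = b ∧ σ b = c ∧ ∀ x, x ≠ a → x ≠ b → x ≠ c → σ x = x := by
  refine ⟨swap a b * swap b c, ?_, ?_, ?_, ?_⟩
  · rw [Perm.mem_alternatingGroup, map_mul, Perm.sign_swap hab, Perm.sign_swap hbc]; rfl
  · rw [Perm.mul_apply, swap_apply_of_ne_of_ne hab hac, swap_apply_left]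
  · rw [Perm.mul_apply, swap_apply_left, swap_apply_of_ne_of_ne hac.symm hbc.symm]
  · intro x h1 h2 h3
    rw [Perm.mul_apply, swap_apply_of_ne_of_ne h2 h3, swap_apply_of_ne_of_ne h1 h2]

/-- An even permutation moving `y` to `z`, fixing `x₀` and preserving `S`. -/
theorem even_move {n : ℕ} (hodd : Odd n) {x₀ y z : Fin n} (S : Set (Fin n)) (hx₀ : x₀ ∈ S)
    (hy : y ∈ S) (hz : z ∈ S) (hy0 : y ≠ x₀) (hz0 : z ≠ x₀) (hyz : y ≠ z) (hS : S ≠ Set.univ) :
    ∃ σ ∈ alternatingGroup (Fin n), σ x₀ = x₀ ∧ σ y = z ∧ ∀ x ∈ S, σ x ∈ S := by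
  obtain ⟨w, hw⟩ := (Set.ne_univ_iff_exists_notMem _).1 hS
  by_cases h : ∃ t ∈ S, t ≠ x₀ ∧ t ≠ y ∧ t ≠ z
  · obtain ⟨t, ht, ht0, hty, htz⟩ := h
    obtain ⟨σ, hσ, h1, h2, h3⟩ := even_three hyz hty.symm htz.symm
    refine ⟨σ, hσ, h3 _ hy0.symm hz0.symm ht0.symm, h1, fun x hx => ?_⟩
    by_cases e1 : x = y
    · rw [e1, h1]; exact hz
    by_cases e2 : x = z
    · rw [e2, h2]; exact ht
    by_cases e3 : x = t
    · by_contra hc
      have hfix : σ (σ x) = σ x := by
        refine h3 _ ?_ ?_ ?_ <;> intro e <;> rw [e] at hc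
        · exact hc hy
        · exact hc hz
        · exact hc ht
      exact hc ((σ.injective hfix).symm ▸ hx)
    · rw [h3 x e1 e2 e3]; exact hx
  · push_neg at h
    have hne : ∃ v, v ∉ S ∧ v ≠ w := by
      by_contra hc
      push_neg at hc
      have huniv : (Finset.univ : Finset (Fin n)) ⊆ {x₀, y, z, w} := by
        intro v _
        simp only [Finset.mem_insert, Finset.mem_singleton]
        by_cases hv : v ∈ S
        · by_cases e1 : v = x₀
          · exact Or.inl e1
          by_cases e2 : v = y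
          · exact Or.inr (Or.inl e2)
          exact Or.inr (Or.inr (Or.inl (h v hv e1 e2)))
        · exact Or.inr (Or.inr (Or.inr (hc v hv)))
      have h4 : ({x₀, y, z, w} : Finset (Fin n)).card = 4 := by
        rw [Finset.card_eq_of_equiv_fin]
        exact (Finset.equivFinOfCardEq (by
          rw [Finset.card_insert_of_notMem, Finset.card_insert_of_notMem,
            Finset.card_insert_of_notMem, Finset.card_singleton]
          · simp only [Finset.mem_singleton]; rintro rfl; exact hw hz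
          · simp only [Finset.mem_insert, Finset.mem_singleton]
            rintro (e | rfl)
            · exact hyz e
            · exact hw hy
          · simp only [Finset.mem_insert, Finset.mem_singleton]
            rintro (e | e | rfl)
            · exact hy0 e.symm
            · exact hz0 e.symm
            · exact hw hx₀))
      have h5 := Finset.card_le_card huniv
      have h6 := Finset.card_le_univ ({x₀, y, z, w} : Finset (Fin n))
      rw [Finset.card_univ, Fintype.card_fin, h4] at h5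
      rw [Fintype.card_fin, h4] at h6
      obtain ⟨k, hk⟩ := hodd
      omega
    obtain ⟨v, hv, hvw⟩ := hne
    refine ⟨swap y z * swap v w, ?_, ?_, ?_, fun x hx => ?_⟩
    · rw [Perm.mem_alternatingGroup, map_mul, Perm.sign_swap hyz, Perm.sign_swap hvw]; rfl
    · rw [Perm.mul_apply, swap_apply_of_ne_of_ne (fun e : x₀ = v => hv (e ▸ hx₀))
        (fun e : x₀ = w => hw (e ▸ hx₀)), swap_apply_of_ne_of_ne hy0.symm hz0.symm]
    · rw [Perm.mul_apply, swap_apply_of_ne_of_ne (fun e : y = v => hv (e ▸ hy))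
        (fun e : y = w => hw (e ▸ hy)), swap_apply_left]
    · rw [Perm.mul_apply, swap_apply_of_ne_of_ne (fun e : x = v => hv (e ▸ hx))
        (fun e : x = w => hw (e ▸ hx))]
      rcases eq_or_ne x y with e | e1
      · rw [e, swap_apply_left]; exact hz
      rcases eq_or_ne x z with e | e2
      · rw [e, swap_apply_right]; exact hy
      rw [swap_apply_of_ne_of_ne e1 e2]; exact hx

variable {G : Type*} [Group G] {n : ℕ}

theorem key3 : ∀ (σ τ : Perm (Fin 3)) (x : Fin 3), Perm.sign σ = 1 → σ x ≠ x → τ x ≠ x →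
    τ x ≠ σ x → σ (σ x) = τ x := by decide

/-- The permutation core of the argument. -/
theorem core (hodd : Odd n) (hn3 : 3 ≤ n)
    (φ : G →* Perm (Fin n)) (x₀ : Fin n) (M H K : Subgroup G)
    (hstab : ∀ g, φ g x₀ = x₀ ↔ g ∈ M) (htrans : ∀ y, ∃ g, φ g x₀ = y)
    (hker : φ.ker ≤ H) (hA : alternatingGroup (Fin n) ≤ φ.range)
    (hAK : MulAction.IsPreprimitive (K.map φ) (Fin n) → alternatingGroup (Fin n) ≤ K.map φ)
    (hHM : H ≤ M) (hmax : ∀ L, H < L → L ≤ M → L = M)
    (hK : IsCoatom K) (hHK : H ≤ K) (hKM : K ⊓ M = H)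
    (L : Subgroup G) (hHL : H < L) (hLK : L ≤ K) : K ≤ L := by
  classical
  have hH : ∀ g, g ∈ K → g ∈ M → g ∈ H := fun g h1 h2 => hKM ▸ Subgroup.mem_inf.2 ⟨h1, h2⟩
  have hLM : ¬ L ≤ M := fun h => not_lt_of_ge (hKM ▸ le_inf hLK h) hHL
  obtain ⟨l, hlL, hlM⟩ := SetLike.not_le_iff_exists.1 hLM
  have hl0 : φ l x₀ ≠ x₀ := fun h => hlM ((hstab l).1 h)
  -- `L` covers `K` as soon as `H` moves `φ l x₀` to every other image of `x₀`
  have key : (∀ k ∈ K, φ k x₀ ≠ x₀ → φ k x₀ ≠ φ l x₀ → ∃ h ∈ H, φ h (φ l x₀) = φ k x₀) →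
      K ≤ L := by
    intro hmove k hk
    have hfin : ∀ h ∈ L, φ h x₀ = φ k x₀ → k ∈ L := by
      intro h hh he
      have h1 : h⁻¹ * k ∈ M := (hstab _).1 (by
        rw [map_mul, Perm.mul_apply, ← he, ← Perm.mul_apply, ← map_mul, inv_mul_cancel, map_one,
          Perm.one_apply])
      have h2 : h⁻¹ * k ∈ H := hH _ (mul_mem (inv_mem (hLK hh)) hk) h1
      simpa using mul_mem hh (hHL.le h2)
    by_cases e : φ k x₀ = x₀
    · exact hHL.le (hH k hk ((hstab k).1 e))
    by_cases e2 : φ k x₀ = φ l x₀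
    · exact hfin l hlL e2.symm
    obtain ⟨h, hh, he⟩ := hmove k hk e e2
    exact hfin (h * l) (mul_mem (hHL.le hh) hlL) (by rw [map_mul, Perm.mul_apply, he])
  have key' : (∀ k ∈ K, φ k x₀ ≠ x₀ → φ k x₀ ≠ φ l x₀ → k ∈ L) → K ≤ L := by
    intro hmove k hk
    by_cases e : φ k x₀ = x₀
    · exact hHL.le (hH k hk ((hstab k).1 e))
    by_cases e2 : φ k x₀ = φ l x₀
    · have h1 : l⁻¹ * k ∈ M := (hstab _).1 (by
        rw [map_mul, Perm.mul_apply, e2, ← Perm.mul_apply, ← map_mul, inv_mul_cancel, map_one,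
          Perm.one_apply])
      have h2 : l⁻¹ * k ∈ H := hH _ (mul_mem (inv_mem (hLK hlL)) hk) h1
      simpa using mul_mem hlL (hHL.le h2)
    exact hmove k hk e e2
  let O : Set (Fin n) := {y | ∃ k ∈ K, φ k x₀ = y}
  have hxO : x₀ ∈ O := ⟨1, one_mem _, by rw [map_one, Perm.one_apply]⟩
  by_cases hO : O = Set.univ
  · -- `K` is transitive
    have hKtr : ∀ y, ∃ k ∈ K, φ k x₀ = y := fun y => by
      have : y ∈ O := hO ▸ Set.mem_univ y
      exact this
    by_cases hprim : MulAction.IsPreprimitive (K.map φ) (Fin n)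
    · have hAK' := hAK hprim
      rcases Nat.lt_or_ge 3 n with h3 | h3
      · refine key fun k hk e e2 => ?_
        obtain ⟨t, -, ht⟩ := Finset.exists_mem_notMem_of_card_lt_card
          (s := {x₀, φ k x₀, φ l x₀}) (t := (Finset.univ : Finset (Fin n))) (by
            refine lt_of_le_of_lt Finset.card_le_three ?_
            rw [Finset.card_univ, Fintype.card_fin]; exact h3)
        simp only [Finset.mem_insert, Finset.mem_singleton, not_or] at ht
        obtain ⟨σ, hσ, h1, h2, h3'⟩ := even_three (Ne.symm e2) (Ne.symm ht.2.2) (Ne.symm ht.2.1)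
        obtain ⟨g, hg, hgσ⟩ := hAK' hσ
        refine ⟨g, hH g hg ((hstab g).1 ?_), by rw [hgσ, h1]⟩
        rw [hgσ]; exact h3' _ hl0.symm (Ne.symm e) (Ne.symm ht.1)
      · -- three points
        have hn : n = 3 := by omega
        subst hn
        refine key' fun k hk e e2 => ?_
        have heven : ∀ g ∈ K, Perm.sign (φ g) = 1 := by
          intro g hg
          by_contra hne
          refine hK.1 (eq_top_iff.2 fun x _ => ?_)
          have h1 : φ x ∈ K.map φ := by
            by_cases hx : Perm.sign (φ x) = 1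
            · exact hAK' hx
            · have h2 : φ x * (φ g)⁻¹ ∈ K.map φ := hAK' (by
                rw [Perm.mem_alternatingGroup, map_mul, map_inv,
                  (Int.units_eq_one_or _).resolve_left hx, (Int.units_eq_one_or _).resolve_left hne]
                rfl)
              simpa using mul_mem h2 (Subgroup.mem_map_of_mem φ hg)
          obtain ⟨y, hy, hyx⟩ := h1
          have h3 : y⁻¹ * x ∈ H := hker (by
            rw [MonoidHom.mem_ker, map_mul, map_inv, hyx, inv_mul_cancel])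
          simpa using mul_mem hy (hHK h3)
        have hll := key3 (φ l) (φ k) x₀ (heven l (hLK hlL)) hl0 e e2
        have h1 : (l * l)⁻¹ * k ∈ M := (hstab _).1 (by
          rw [map_mul, Perm.mul_apply, ← hll, ← Perm.mul_apply (φ l), ← map_mul, ← Perm.mul_apply,
            ← map_mul, inv_mul_cancel, map_one, Perm.one_apply])
        have h2 : (l * l)⁻¹ * k ∈ H :=
          hH _ (mul_mem (inv_mem (mul_mem (hLK hlL) (hLK hlL))) hk) h1
        have h3 : k ∈ L := by simpa [mul_assoc] using mul_mem (mul_mem hlL hlL) (hHL.le h2)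
        exact h3
    · -- `K` is imprimitive
      exfalso
      have hpre : MulAction.IsPretransitive (K.map φ) (Fin n) := by
        refine MulAction.IsPretransitive.mk fun a b => ?_
        obtain ⟨k, hk, hka⟩ := hKtr a
        obtain ⟨k', hk', hkb⟩ := hKtr b
        refine ⟨⟨φ (k' * k⁻¹), Subgroup.mem_map_of_mem φ (mul_mem hk' (inv_mem hk))⟩, ?_⟩
        show φ (k' * k⁻¹) a = b
        rw [map_mul, map_inv, Perm.mul_apply, ← hka, Perm.coe_inv, Equiv.symm_apply_apply, hkb]
      obtain ⟨B, hxB, hB, hnt⟩ : ∃ B : Set (Fin n), x₀ ∈ B ∧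
          MulAction.IsBlock (K.map φ) B ∧ ¬ MulAction.IsTrivialBlock B := by
        by_contra hc
        push_neg at hc
        exact hprim (MulAction.IsPreprimitive.of_isTrivialBlock_base x₀ fun {B} h1 h2 => hc B h1 h2)
      rw [MulAction.IsTrivialBlock, not_or] at hnt
      have hblk : ∀ k ∈ K, ∀ b ∈ B, φ k b ∈ B → ∀ x ∈ B, φ k x ∈ B := by
        intro k hk b hb hkb x hx
        have hkm : φ k ∈ K.map φ := Subgroup.mem_map_of_mem φ hk
        rcases (MulAction.isBlock_iff_smul_eq_or_disjoint.1 hB) ⟨φ k, hkm⟩ with h | h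
        · exact h ▸ (Set.smul_mem_smul_set hx : (⟨φ k, hkm⟩ : K.map φ) • x ∈ _)
        · exact absurd hkb (Set.disjoint_left.1 h
            (Set.smul_mem_smul_set hb : (⟨φ k, hkm⟩ : K.map φ) • b ∈ _))
      obtain ⟨b, hb, hb0⟩ := (Set.not_subsingleton_iff.1 hnt.1).exists_ne x₀
      obtain ⟨c, hc⟩ := (Set.ne_univ_iff_exists_notMem _).1 hnt.2
      -- `H` is the stabiliser of `B` in `M`
      let Y : Subgroup G := M ⊓ (MulAction.stabilizer (Perm (Fin n)) B).comap φ
      have memY : ∀ g, g ∈ Y ↔ g ∈ M ∧ φ g • B = B := fun g => Iff.rfl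
      have hsub : ∀ σ : Perm (Fin n), (∀ x ∈ B, σ x ∈ B) → σ • B = B := by
        intro σ hσ
        refine Set.eq_of_subset_of_ncard_le ?_ ?_ (Set.toFinite _)
        · rintro _ ⟨x, hx, rfl⟩; exact hσ x hx
        · rw [Set.ncard_smul_set]
      have hHY : H ≤ Y := fun g hg => (memY g).2 ⟨hHM hg, hsub _
        (hblk g (hHK hg) x₀ hxB (by rw [(hstab g).2 (hHM hg)]; exact hxB))⟩
      have hYH : Y = H := by
        by_contra hne
        have h1 := hmax Y (lt_of_le_of_ne hHY (Ne.symm hne)) inf_le_left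
        have hxc : c ≠ x₀ := fun e => hc (e ▸ hxB)
        have hbc : b ≠ c := fun e => hc (e ▸ hb)
        obtain ⟨t, -, ht⟩ := Finset.exists_mem_notMem_of_card_lt_card
          (s := {x₀, b, c}) (t := (Finset.univ : Finset (Fin n))) (by
            refine lt_of_le_of_lt Finset.card_le_three ?_
            rw [Finset.card_univ, Fintype.card_fin]
            by_contra h3
            have hn : n = 3 := by omega
            subst hn
            exact hprim (MulAction.IsPreprimitive.of_prime_card (by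
              rw [Nat.card_eq_fintype_card, Fintype.card_fin]; exact Nat.prime_three)))
        simp only [Finset.mem_insert, Finset.mem_singleton, not_or] at ht
        obtain ⟨σ, hσ, h2, -, h4⟩ := even_three hbc (Ne.symm ht.2.1) (Ne.symm ht.2.2)
        obtain ⟨g, hgσ⟩ := hA hσ
        have hgY : g ∈ Y := h1 ▸ (hstab g).1 (by
          rw [hgσ]; exact h4 _ (Ne.symm hb0) (Ne.symm hxc) (Ne.symm ht.1))
        have h5 : φ g b ∈ φ g • B := Set.smul_mem_smul_set hb
        rw [((memY g).1 hgY).2, hgσ, h2] at h5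
        exact hc h5
      -- the block of `c`
      obtain ⟨k, hk, hkc⟩ := hKtr c
      have hkB : ∀ x ∈ B, φ k x ∉ B := fun x hx h =>
        hc (hkc ▸ hblk k hk x hx h x₀ hxB)
      obtain ⟨d, hd⟩ : ∃ d, d ∉ B ∪ φ k '' B := by
        refine (Set.ne_univ_iff_exists_notMem _).1 fun h => ?_
        have h2 := congrArg Set.ncard h
        rw [Set.ncard_union_eq (Set.disjoint_right.2 (by rintro _ ⟨x, hx, rfl⟩; exact hkB x hx))
          (Set.toFinite _) (Set.toFinite _), Set.ncard_image_of_injective _ (φ k).injective,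
          Set.ncard_univ, Nat.card_eq_fintype_card, Fintype.card_fin] at h2
        obtain ⟨m, hm⟩ := hodd
        omega
      rw [Set.mem_union, not_or] at hd
      have hcb : c ≠ φ k b := fun e => hb0 ((φ k).injective (hkc.trans e)).symm
      have hcd : c ≠ d := fun e => hd.2 ⟨x₀, hxB, hkc.trans e⟩
      have hbd : φ k b ≠ d := fun e => hd.2 ⟨b, hb, e⟩
      obtain ⟨σ, hσ, h1, h2, h4⟩ := even_three hcb hcd hbd
      obtain ⟨g, hgσ⟩ := hA hσ
      have hfixB : ∀ x ∈ B, σ x = x := fun x hx =>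
        h4 x (fun e => hc (e ▸ hx)) (fun e => hkB b hb (e ▸ hx)) (fun e => hd.1 (e ▸ hx))
      have hgK : g ∈ K := hHK (hYH ▸ (memY g).2 ⟨(hstab g).1 (by rw [hgσ]; exact hfixB _ hxB),
        hgσ.symm ▸ hsub σ fun x hx => (hfixB x hx).symm ▸ hx⟩)
      have h5 : ∀ x, φ (k⁻¹ * g * k) x = (φ k)⁻¹ (σ (φ k x)) := fun x => by
        rw [map_mul, map_mul, map_inv, Perm.mul_apply, Perm.mul_apply, hgσ]
      have h6 := hblk _ (mul_mem (mul_mem (inv_mem hk) hgK) hk) x₀ hxB
        (by rw [h5, hkc, h1, Perm.coe_inv, Equiv.symm_apply_apply]; exact hb) b hb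
      rw [h5, h2] at h6
      exact hd.2 ⟨_, h6, Equiv.apply_symm_apply (φ k) _⟩
  · -- `K` is the stabiliser of `O`
    let S : Subgroup G := (MulAction.stabilizer (Perm (Fin n)) O).comap φ
    have memS : ∀ g, g ∈ S ↔ φ g • O = O := fun g => Iff.rfl
    have hsub : ∀ σ : Perm (Fin n), (∀ x ∈ O, σ x ∈ O) → σ • O = O := by
      intro σ hσ
      refine Set.eq_of_subset_of_ncard_le ?_ ?_ (Set.toFinite _)
      · rintro _ ⟨x, hx, rfl⟩; exact hσ x hx
      · rw [Set.ncard_smul_set]
    have hKS : K ≤ S := fun g hg => (memS g).2 (hsub _ (by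
      rintro _ ⟨k, hk, rfl⟩
      exact ⟨g * k, mul_mem hg hk, by rw [map_mul, Perm.mul_apply]⟩))
    have hS : S = K := by
      refine ((hK.le_iff).1 hKS).resolve_left fun htop => hO (Set.eq_univ_of_forall fun y => ?_)
      obtain ⟨g, hg⟩ := htrans y
      have h1 : φ g x₀ ∈ φ g • O := Set.smul_mem_smul_set hxO
      rwa [(memS g).1 (htop ▸ Subgroup.mem_top g), hg] at h1
    refine key fun k hk e e2 => ?_
    obtain ⟨σ, hσ, h1, h2, h3⟩ := even_move hodd O hxO ⟨l, hLK hlL, rfl⟩ ⟨k, hk, rfl⟩ hl0 e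
      (Ne.symm e2) hO
    obtain ⟨g, hgσ⟩ := hA hσ
    exact ⟨g, hH g (hS ▸ (memS g).2 (hgσ.symm ▸ hsub σ h3)) ((hstab g).1 (hgσ ▸ h1)),
      by rw [hgσ, h2]⟩


/-- Let n be an odd positive integer such that every primitive permutation group of degree n contains the alternating group (so the symmetric and alternating groups are the only primitive groups of degree n). Let G be a finite group, M a maximal subgroup of G of index n, and H a maximal subgroup of M. Then H is a second maximal subgroup of G: H is maximal in every maximal subgroup K of G containing H. -/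
theorem result {G : Type*} [Group G]
    [Finite G] (n : ℕ) (hodd : Odd n)
    (hA : ∀ P : Subgroup (Equiv.Perm (Fin n)), MulAction.IsPreprimitive P (Fin n) → alternatingGroup (Fin n) ≤ P)
    (M : Subgroup G) (hM : IsCoatom M) (hn : M.index = n) (H : Subgroup G) (hHM : H ≤ M)
    (hmax : IsCoatom (H.subgroupOf M)) (K : Subgroup G) (hK : IsCoatom K) (hHK : H ≤ K) :
    IsCoatom (H.subgroupOf K) := by
  classical
  have hn0 : n ≠ 0 := hn ▸ Subgroup.index_ne_zero_of_finite
  have hn1 : n ≠ 1 := fun h => hM.1 (Subgroup.index_eq_one.1 (hn.trans h))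
  have hn3 : 3 ≤ n := by obtain ⟨k, hk⟩ := hodd; omega
  have : Nontrivial (Fin n) := Fin.nontrivial_iff_two_le.2 (by omega)
  let e : G ⧸ M ≃ Fin n := Finite.equivFinOfCardEq hn
  let φ : G →* Equiv.Perm (Fin n) :=
    e.permCongrHom.toMonoidHom.comp (MulAction.toPermHom G (G ⧸ M))
  have hφ : ∀ g z, φ g (e z) = e (g • z) := fun g z => by simp [φ]
  set x₀ : Fin n := e ((1 : G) : G ⧸ M) with hx₀
  have hstab : ∀ g, φ g x₀ = x₀ ↔ g ∈ M := fun g => by
    rw [hx₀, hφ, e.injective.eq_iff, MulAction.Quotient.smul_coe, smul_eq_mul, mul_one,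
      QuotientGroup.eq, mul_one, inv_mem_iff]
  have htrans : ∀ y, ∃ g, φ g x₀ = y := fun y => by
    obtain ⟨z, rfl⟩ := e.surjective y
    obtain ⟨g, rfl⟩ := QuotientGroup.mk_surjective z
    exact ⟨g, by rw [hx₀, hφ, MulAction.Quotient.smul_coe, smul_eq_mul, mul_one]⟩
  have hA' : alternatingGroup (Fin n) ≤ φ.range := by
    have : MulAction.IsPretransitive φ.range (Fin n) := ⟨fun a b => by
      obtain ⟨g, hg⟩ := htrans a
      obtain ⟨g', hg'⟩ := htrans b
      refine ⟨⟨φ (g' * g⁻¹), g' * g⁻¹, rfl⟩, ?_⟩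
      show φ (g' * g⁻¹) a = b
      rw [map_mul, map_inv, Equiv.Perm.mul_apply, ← hg, Equiv.Perm.coe_inv,
        Equiv.symm_apply_apply, hg']⟩
    refine hA _ ((MulAction.isCoatom_stabilizer_iff_preprimitive φ.range x₀).1 ?_)
    have hc : (MulAction.stabilizer φ.range x₀).comap φ.rangeRestrict = M := by
      ext g; exact hstab g
    refine ⟨fun h => hM.1 (by rw [← hc, h, Subgroup.comap_top]), fun L hL => ?_⟩
    have hsurj := φ.rangeRestrict_surjective
    have h1 : M < L.comap φ.rangeRestrict := hc ▸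
      lt_of_le_of_ne (Subgroup.comap_mono hL.le) fun h => hL.ne (Subgroup.comap_injective hsurj h)
    exact Subgroup.comap_injective hsurj ((hM.2 _ h1).trans (Subgroup.comap_top _).symm)
  -- the lattice data
  have hne : ¬ M ≤ H := fun h => hmax.1 (Subgroup.subgroupOf_eq_top.2 h)
  have hmax' : ∀ L, H < L → L ≤ M → L = M := by
    intro L hHL hLM
    refine le_antisymm hLM (Subgroup.subgroupOf_eq_top.1 (hmax.2 _ ?_))
    refine lt_of_le_of_ne (fun x hx => hHL.le hx) fun h => hHL.ne ?_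
    rw [← Subgroup.map_subgroupOf_eq_of_le hHM, h, Subgroup.map_subgroupOf_eq_of_le hLM]
  have hKH : ¬ K ≤ H := fun h => by
    rcases hK.le_iff.1 (h.trans hHM) with h1 | h1
    · exact hM.1 h1
    · exact hne (h1 ▸ h)
  refine ⟨fun h => hKH (Subgroup.subgroupOf_eq_top.1 h), fun L' hL' => ?_⟩
  set L := L'.map K.subtype with hL
  have hLK : L ≤ K := Subgroup.map_subtype_le L'
  have hLL : L.subgroupOf K = L' := Subgroup.comap_map_eq_self_of_injective K.subtype_injective L'
  rw [← hLL, Subgroup.subgroupOf_eq_top]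
  have hHL : H < L := by
    refine lt_of_le_of_ne (fun x hx => ⟨⟨x, hHK hx⟩, hL'.le hx, rfl⟩) fun h => hL'.ne ?_
    rw [← hLL, ← h]
  by_cases hKM' : K = M
  · subst hKM'
    exact (hmax' L hHL hLK).ge
  have hKM : K ⊓ M = H := by
    by_contra h
    have h1 := hmax' _ (lt_of_le_of_ne (le_inf hHK hHM) (Ne.symm h)) inf_le_right
    rcases hM.le_iff.1 (inf_eq_right.1 h1) with h2 | h2
    · exact hK.1 h2
    · exact hKM' h2
  by_cases hker : φ.ker ≤ H
  · exact core hodd hn3 φ x₀ M H K hstab htrans hker hA' (hA _) hHM hmax' hK hHK hKM L hHL hLK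
  -- the kernel sticks out of `H`
  have hNM : φ.ker ≤ M := fun g hg => (hstab g).1 (by rw [hg]; rfl)
  have hHN : H ⊔ φ.ker = M :=
    hmax' _ (lt_of_le_of_ne le_sup_left fun h => hker (h ▸ le_sup_right)) (sup_le hHM hNM)
  have hLN : L ⊔ φ.ker = ⊤ := by
    rcases hM.le_iff.1 (hHN.ge.trans (sup_le_sup_right hHL.le _)) with h | h
    · exact h
    · exact absurd (hKM ▸ le_inf hLK (h ▸ le_sup_left : L ≤ M)) (not_le_of_gt hHL)
  intro k hk
  obtain ⟨l, hl, v, hv, rfl⟩ := Subgroup.mem_sup_of_normal_right.1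
    (hLN ▸ Subgroup.mem_top k : k ∈ L ⊔ φ.ker)
  have hvK : v ∈ K := by simpa using mul_mem (inv_mem (hLK hl)) hk
  exact mul_mem hl (hHL.le (hKM ▸ Subgroup.mem_inf.2 ⟨hvK, hNM hv⟩))

end Cfsg.Agent.S5885
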