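import Cfsg.Statements.S5887
import Mathlib

set_option autoImplicit false
open Cfsg

namespace Cfsg.Agent.S5887

section
open Matrix
variable {F : Type*} [Field F] [Fintype F] {n : ℕ}


/-- A square-zero endomorphism gives a matrix of determinant one. -/
theorem unipotent (p : ℕ) [Fact p.Prime] [CharP F p] (hn : 0 < n) (N : Module.End F (Fin n → F))
    (hN : N * N = 0) :
    ∃ g : GL (Fin n) F, g ∈ Cfsg.Geo.specialLinear (Fin n) F ∧
      ∀ w, (g : (Matrix (Fin n) (Fin n) F)) *ᵥ w = w + N w := by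
  classical
  haveI : Nonempty (Fin n) := ⟨⟨0, hn⟩⟩
  set A : (Matrix (Fin n) (Fin n) F) := LinearMap.toMatrixAlgEquiv' N with hA
  have hA2 : A * A = 0 := by rw [hA, ← map_mul, hN, map_zero]
  refine ⟨⟨1 + A, 1 - A, by rw [mul_sub, add_mul, add_mul, hA2]; simp, by
    rw [sub_mul, mul_add, mul_add, hA2]; simp⟩, ?_, fun w => ?_⟩
  · have hpow : (1 + A) ^ p = 1 := by
      have hp2 : 2 ≤ p := (Fact.out : p.Prime).two_le
      have hcom : Commute (1 : (Matrix (Fin n) (Fin n) F)) A := Commute.one_left A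
      rw [add_pow_char_of_commute (p := p) hcom, one_pow,
        show p = 2 + (p - 2) by omega, pow_add, sq, hA2, zero_mul, add_zero]
    have hd : (1 + A).det ^ p = 1 := by rw [← Matrix.det_pow, hpow, Matrix.det_one]
    have hd1 : (1 + A).det = 1 := by
      refine sub_eq_zero.mp (eq_zero_of_pow_eq_zero (n := p) ?_)
      rw [sub_pow_char, hd, one_pow, sub_self]
    refine MonoidHom.mem_ker.mpr (Units.ext ?_)
    exact hd1
  · show (1 + A) *ᵥ w = _
    rw [Matrix.add_mulVec, Matrix.one_mulVec]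
    congr 1
    rw [hA]
    exact congrFun (congrArg (fun f : Module.End F (Fin n → F) => (f : (Fin n → F) → (Fin n → F)))
      (LinearMap.toMatrixAlgEquiv'.symm_apply_apply N)) w

variable {r : ℕ} {K : Subalgebra F (Matrix (Fin n) (Fin n) F)}

theorem faithful (hK : Cfsg.Geo.IsFieldSubalgebra r K) {x : (Matrix (Fin n) (Fin n) F)} (hx : x ∈ K) {v : (Fin n → F)} (hv : v ≠ 0)
    (h : x *ᵥ v = 0) : x = 0 := by
  by_contra h0
  obtain ⟨y, hy, hxy⟩ := hK.inv x hx h0
  rw [hK.comm x hx y hy] at hxy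
  apply hv
  rw [← Matrix.one_mulVec v, ← hxy, ← Matrix.mulVec_mulVec, h, Matrix.mulVec_zero]

theorem exists_outside (hK : Cfsg.Geo.IsFieldSubalgebra r K) (hlt : r < n) (v : (Fin n → F)) :
    ∃ z : (Fin n → F), ∀ x ∈ K, x *ᵥ v ≠ z := by
  classical
  by_contra h
  push_neg at h
  choose f hfK hf using h
  have hinj : Function.Injective fun z : (Fin n → F) => (⟨f z, hfK z⟩ : K) := fun a b e => by
    rw [← hf a, ← hf b, show f a = f b from congrArg Subtype.val e]
  have hle := Nat.card_le_card_of_injective _ hinj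
  rw [Module.natCard_eq_pow_finrank (K := F) (V := K), hK.finrank_eq, Nat.card_fun,
    Nat.card_fin] at hle
  have := (Nat.pow_le_pow_iff_right (Finite.one_lt_card (α := F))).mp hle
  omega

end

open Matrix

/-- Let F be a finite field, n a positive integer and r a composite number (r > 1, not prime) that divides n with r < n. Let K be a subalgebra of the algebra of n × n matrices over F which is a field of degree r over F (commutative, every non-zero element invertible, of dimension r over F). Then the normaliser N of K in GL_n(F) (a group of type ΓL_{n/r}(F_{q^r})) is not a maximal subgroup of GL_n(F), and N ∩ SL_n(F) is not a maximal subgroup of SL_n(F): both lie properly inside the normaliser of an intermediate subfield of prime degree over F. -/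
theorem result {F : Type*} [Field F]
    [Fintype F] (n r : ℕ) (hr1 : 1 < r) (hrp : ¬ r.Prime) (hrn : r ∣ n) (hlt : r < n)
    (K : Subalgebra F (Matrix (Fin n) (Fin n) F)) (hK : Cfsg.Geo.IsFieldSubalgebra r K) :
    ¬ IsCoatom (Cfsg.Geo.subalgebraNormalizer K) ∧
      ¬ Cfsg.Geo.IsMaximalIn (Cfsg.Geo.specialLinear (Fin n) F)
        (Cfsg.Geo.subalgebraNormalizer K ⊓ Cfsg.Geo.specialLinear (Fin n) F) := by
  classical
  obtain ⟨p, hp⟩ := CharP.exists F
  obtain ⟨e, hpp, hq⟩ := FiniteField.card F p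
  haveI : Fact p.Prime := ⟨hpp⟩
  have hn : 0 < n := by omega
  haveI : Nonempty (Fin n) := ⟨⟨0, hn⟩⟩
  set q := Nat.card F with hqdef
  have hq1 : 1 < q := Finite.one_lt_card
  -- K is a finite field
  haveI : Nontrivial K := ⟨⟨0, 1, fun h => zero_ne_one (α := Matrix (Fin n) (Fin n) F)
    (congrArg Subtype.val h)⟩⟩
  have hKf : IsField K := ⟨exists_pair_ne _, fun a b => Subtype.ext (hK.comm a a.2 b b.2),
    fun {a} ha => by
      obtain ⟨y, hy, hxy⟩ := hK.inv a a.2 (fun h => ha (Subtype.ext h))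
      exact ⟨⟨y, hy⟩, Subtype.ext hxy⟩⟩
  letI : Field K := hKf.toField
  have hcK : Nat.card K = q ^ r := by
    rw [Module.natCard_eq_pow_finrank (K := F) (V := K), hK.finrank_eq]
  obtain ⟨ζ, hζ⟩ := IsCyclic.exists_generator (α := Kˣ)
  have hζo : orderOf ζ = q ^ r - 1 := by
    rw [orderOf_eq_card_of_forall_mem_zpowers hζ, Nat.card_units, hcK]
  set s := r.minFac with hs
  have hsp : s.Prime := Nat.minFac_prime (by omega)
  have hsr : s ∣ r := r.minFac_dvd
  have hslt : s < r := lt_of_le_of_ne (Nat.le_of_dvd (by omega) hsr) fun h => hrp (h ▸ hsp)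
  set m := q ^ s with hm
  have hme : ∀ c : F, c ^ m = c := fun c => by
    rw [hm, hqdef, Nat.card_eq_fintype_card]; exact FiniteField.pow_card_pow s c
  have hpm : m = p ^ ((e : ℕ) * s) := by
    rw [hm, hqdef, Nat.card_eq_fintype_card, hq, ← pow_mul]
  -- the subfield of prime degree
  let L : Subalgebra F (Matrix (Fin n) (Fin n) F) :=
    { carrier := {x | x ∈ K ∧ x ^ m = x}
      mul_mem' := fun {a b} ha hb => ⟨K.mul_mem ha.1 hb.1, by
        rw [(show Commute a b from hK.comm a ha.1 b hb.1).mul_pow, ha.2, hb.2]⟩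
      add_mem' := fun {a b} ha hb => ⟨K.add_mem ha.1 hb.1, by
        rw [hpm, add_pow_char_pow_of_commute (p := p) _ (show Commute a b from hK.comm a ha.1 b hb.1), ← hpm, ha.2, hb.2]⟩
      algebraMap_mem' := fun c => ⟨K.algebraMap_mem c, by rw [← map_pow, hme]⟩ }
  have hmemL : ∀ x, x ∈ L ↔ x ∈ K ∧ x ^ m = x := fun x => Iff.rfl
  have hLK : L ≤ K := fun x hx => hx.1
  have hm1 : 1 < m := Nat.one_lt_pow hsp.ne_zero hq1
  have hmlt : m < q ^ r := Nat.pow_lt_pow_right hq1 hslt
  have hLinv : ∀ x ∈ L, x ≠ 0 → ∃ y ∈ L, x * y = 1 := by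
    intro x hx h0
    obtain ⟨y, hy, hxy⟩ := hK.inv x hx.1 h0
    refine ⟨y, ⟨hy, ?_⟩, hxy⟩
    have h1 : x ^ m * y ^ m = 1 := by
      rw [← (show Commute x y from hK.comm x hx.1 y hy).mul_pow, hxy, one_pow]
    rw [hx.2] at h1
    calc y ^ m = y * x * y ^ m := by rw [← hK.comm x hx.1 y hy, hxy, one_mul]
      _ = y := by rw [mul_assoc, h1, mul_one]
  -- an element outside L, and a non-scalar element inside
  obtain ⟨k, hkK, hkL⟩ : ∃ k ∈ K, k ∉ L := by
    refine ⟨(ζ : K).1, (ζ : K).2, fun h => ?_⟩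
    have h1 : ζ ^ (m - 1) * ζ = ζ := by
      rw [← pow_succ, Nat.sub_add_cancel hm1.le]
      exact Units.ext (Subtype.ext (by rw [Units.val_pow_eq_pow_val, SubmonoidClass.coe_pow]; exact h.2))
    have := Nat.le_of_dvd (by omega) (orderOf_dvd_of_pow_eq_one (mul_eq_right.mp h1))
    omega
  obtain ⟨x, hxL, hxs⟩ : ∃ x ∈ L, ∀ c : F, x ≠ algebraMap F _ c := by
    have hdvd : m - 1 ∣ q ^ r - 1 := Nat.pow_sub_one_dvd_pow_sub_one q hsr
    set η := ζ ^ ((q ^ r - 1) / (m - 1)) with hη
    have hηo : orderOf η = m - 1 := by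
      rw [hη, orderOf_pow_of_dvd, hζo, Nat.div_div_self hdvd (by omega)]
      · exact Nat.div_ne_zero_iff.mpr ⟨by omega, Nat.le_of_dvd (by omega) hdvd⟩
      · rw [hζo]; exact Nat.div_dvd_of_dvd hdvd
    refine ⟨(η : K).1, ⟨(η : K).2, ?_⟩, fun c hc => ?_⟩
    · have h1 : η ^ m = η := by
        rw [show m = m - 1 + 1 by omega, pow_succ, ← hηo, pow_orderOf_eq_one, one_mul]
      have h2 := congrArg (fun u : Kˣ => ((u : K) : Matrix (Fin n) (Fin n) F)) h1
      simpa [Units.val_pow_eq_pow_val] using h2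
    · have hc0 : c ≠ 0 := by
        rintro rfl
        exact η.ne_zero (Subtype.ext (by rw [hc, map_zero]; rfl))
      have h1 : η ^ (q - 1) = 1 := by
        refine Units.ext (Subtype.ext ?_)
        rw [Units.val_pow_eq_pow_val, SubmonoidClass.coe_pow, hc, ← map_pow, hqdef,
          Nat.card_eq_fintype_card, FiniteField.pow_card_sub_one_eq_one c hc0, map_one]
        rfl
      have h2 := Nat.le_of_dvd (by omega) (orderOf_dvd_of_pow_eq_one h1)
      have h3 : q ^ 1 < q ^ s := Nat.pow_lt_pow_right hq1 hsp.one_lt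
      rw [pow_one] at h3
      rw [hηo] at h2
      omega
  -- normalisers
  have hNle : Cfsg.Geo.subalgebraNormalizer K ≤ Cfsg.Geo.subalgebraNormalizer L := by
    intro g hg y
    rw [hmemL, hmemL, Units.conj_pow g y m, ← hg y]
    refine and_congr_right fun _ => ⟨fun h => by rw [h], fun h => ?_⟩
    exact g.isUnit.mul_left_cancel (g⁻¹.isUnit.mul_right_cancel h)
  obtain ⟨v, hv⟩ : ∃ v : Fin n → F, v ≠ 0 := exists_ne 0
  obtain ⟨z, hz⟩ := exists_outside hK hlt v
  -- L is not normalised by the special linear group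
  obtain ⟨t, htS, htL⟩ : ∃ t ∈ Cfsg.Geo.specialLinear (Fin n) F,
      t ∉ Cfsg.Geo.subalgebraNormalizer L := by
    have hxK : x ∈ K := hxL.1
    have hli : LinearIndependent F ![v, x *ᵥ v, z] := by
      rw [Fintype.linearIndependent_iff]
      intro g hg
      simp [Fin.sum_univ_three] at hg
      have hg2 : g 2 = 0 := by
        by_contra h
        refine hz (-(g 2)⁻¹ • (g 0 • 1 + g 1 • x))
          (K.smul_mem (K.add_mem (K.smul_mem K.one_mem _) (K.smul_mem hxK _)) _) ?_
        rw [Matrix.smul_mulVec, Matrix.add_mulVec, Matrix.smul_mulVec, Matrix.smul_mulVec,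
          Matrix.one_mulVec, eq_neg_of_add_eq_zero_left hg, smul_neg, neg_smul, neg_neg,
          smul_smul, inv_mul_cancel₀ h, one_smul]
      rw [hg2, zero_smul, add_zero] at hg
      have hx0 := faithful hK (K.add_mem (K.smul_mem K.one_mem (g 0)) (K.smul_mem hxK (g 1))) hv
        (by rw [Matrix.add_mulVec, Matrix.smul_mulVec, Matrix.smul_mulVec, Matrix.one_mulVec, hg])
      have hg1 : g 1 = 0 := by
        by_contra h
        refine hxs (-(g 1)⁻¹ * g 0) ?_
        rw [Algebra.algebraMap_eq_smul_one, mul_smul, eq_neg_of_add_eq_zero_left hx0, smul_neg,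
          neg_smul, neg_neg, smul_smul, inv_mul_cancel₀ h, one_smul]
      rw [hg1, zero_smul, add_zero] at hx0
      have hg0 : g 0 = 0 := (smul_eq_zero.mp hx0).resolve_right one_ne_zero
      intro i; fin_cases i <;> assumption
    obtain ⟨ψ, hψ⟩ := LinearMap.exists_extend ((Finsupp.lapply (1 : Fin 3)).comp hli.repr)
    have hval : ∀ i : Fin 3, ψ (![v, x *ᵥ v, z] i) = if i = 1 then 1 else 0 := by
      intro i
      have h1 := LinearMap.congr_fun hψ ⟨![v, x *ᵥ v, z] i, Submodule.subset_span ⟨i, rfl⟩⟩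
      simp only [LinearMap.comp_apply, Submodule.subtype_apply] at h1
      rw [h1, hli.repr_eq_single i _ rfl, Finsupp.lapply_apply, Finsupp.single_apply]
    have hv0 : ψ v = 0 := by simpa using hval 0
    have hv1 : ψ (x *ᵥ v) = 1 := by simpa using hval 1
    have hv2 : ψ z = 0 := by simpa using hval 2
    obtain ⟨g, hgS, hg⟩ := unipotent p hn (ψ.smulRight z)
      (LinearMap.ext fun w => by simp [hv2])
    refine ⟨g, hgS, fun hgL => ?_⟩
    have hy : (g : Matrix (Fin n) (Fin n) F) * x * ((g⁻¹ : GL (Fin n) F) : Matrix (Fin n) (Fin n) F) ∈ L :=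
      (hgL x).mp hxL
    set y := (g : Matrix (Fin n) (Fin n) F) * x * ((g⁻¹ : GL (Fin n) F) : Matrix (Fin n) (Fin n) F)
    have hyv : y *ᵥ v = x *ᵥ v + z := by
      have hgv : (g : Matrix (Fin n) (Fin n) F) *ᵥ v = v := by simp [hg, hv0]
      calc y *ᵥ v = y *ᵥ ((g : Matrix (Fin n) (Fin n) F) *ᵥ v) := by rw [hgv]
        _ = (g : Matrix (Fin n) (Fin n) F) *ᵥ (x *ᵥ v) := by
          rw [Matrix.mulVec_mulVec, Matrix.mulVec_mulVec, Units.inv_mul_cancel_right]
        _ = x *ᵥ v + z := by simp [hg, hv1]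
    exact hz (y - x) (K.sub_mem hy.1 hxK) (by rw [Matrix.sub_mulVec, hyv, add_sub_cancel_left])
  -- an element centralising L but not normalising K
  obtain ⟨g, hgS, hgL, hgK⟩ : ∃ g ∈ Cfsg.Geo.specialLinear (Fin n) F,
      g ∈ Cfsg.Geo.subalgebraNormalizer L ∧ g ∉ Cfsg.Geo.subalgebraNormalizer K := by
    haveI : Nontrivial L := ⟨⟨0, 1, fun h => zero_ne_one (α := Matrix (Fin n) (Fin n) F)
      (congrArg Subtype.val h)⟩⟩
    have hLf : IsField L := ⟨exists_pair_ne _, fun a b => Subtype.ext (hK.comm a a.2.1 b b.2.1),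
      fun {a} ha => by
        obtain ⟨y, hy, hxy⟩ := hLinv a a.2 (fun h => ha (Subtype.ext h))
        exact ⟨⟨y, hy⟩, Subtype.ext hxy⟩⟩
    letI : Field L := hLf.toField
    letI : Module L (Fin n → F) := Module.compHom _
      ((Matrix.toLinAlgEquiv' (R := F) (n := Fin n)).toAlgHom.toRingHom.comp L.val.toRingHom)
    have hsmul : ∀ (l : L) (w : Fin n → F), l • w = (l : Matrix (Fin n) (Fin n) F) *ᵥ w :=
      fun l w => rfl
    have hli : LinearIndependent L ![v, k *ᵥ v, z] := by
      rw [Fintype.linearIndependent_iff]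
      intro c hc
      simp [Fin.sum_univ_three] at hc
      replace hc : (c 0 : Matrix (Fin n) (Fin n) F) *ᵥ v + (c 1 : Matrix (Fin n) (Fin n) F) *ᵥ (k *ᵥ v)
          + (c 2 : Matrix (Fin n) (Fin n) F) *ᵥ z = 0 := hc
      have hc2 : c 2 = 0 := by
        by_contra h
        obtain ⟨y, hy, hxy⟩ := hLinv (c 2 : L) (c 2).2 (fun h0 => h (Subtype.ext h0))
        refine hz (-(y * ((c 0 : L) + (c 1 : L) * k)))
          (K.neg_mem (K.mul_mem hy.1 (K.add_mem (c 0).2.1 (K.mul_mem (c 1).2.1 hkK)))) ?_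
        rw [Matrix.neg_mulVec, ← Matrix.mulVec_mulVec, Matrix.add_mulVec, ← Matrix.mulVec_mulVec,
          eq_neg_of_add_eq_zero_left hc, Matrix.mulVec_neg, neg_neg, Matrix.mulVec_mulVec,
          ← hK.comm _ (c 2).2.1 _ hy.1, hxy, Matrix.one_mulVec]
      rw [hc2] at hc
      simp at hc
      have hx0 := faithful hK (K.add_mem (c 0).2.1 (K.mul_mem (c 1).2.1 hkK)) hv
        (by rw [Matrix.add_mulVec, hc])
      have hc1 : c 1 = 0 := by
        by_contra h
        obtain ⟨y, hy, hxy⟩ := hLinv (c 1 : L) (c 1).2 (fun h0 => h (Subtype.ext h0))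
        refine hkL ?_
        have e1 : k = y * ((c 1 : L) * k) := by
          rw [← mul_assoc, ← hK.comm _ (c 1).2.1 _ hy.1, hxy, one_mul]
        rw [e1, eq_neg_of_add_eq_zero_right hx0]
        exact L.mul_mem hy (L.neg_mem (c 0).2)
      rw [hc1] at hx0
      simp at hx0
      intro i; fin_cases i
      · exact hx0
      · exact hc1
      · exact hc2
    obtain ⟨φ, hφ⟩ := LinearMap.exists_extend ((Finsupp.lapply (1 : Fin 3)).comp hli.repr)
    have hval : ∀ i : Fin 3, φ (![v, k *ᵥ v, z] i) = if i = 1 then 1 else 0 := by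
      intro i
      have h1 := LinearMap.congr_fun hφ ⟨![v, k *ᵥ v, z] i, Submodule.subset_span ⟨i, rfl⟩⟩
      simp only [LinearMap.comp_apply, Submodule.subtype_apply] at h1
      rw [h1, hli.repr_eq_single i _ rfl, Finsupp.lapply_apply, Finsupp.single_apply]
    have hv0 : φ v = 0 := by simpa using hval 0
    have hv1 : φ (k *ᵥ v) = 1 := by simpa using hval 1
    have hv2 : φ z = 0 := by simpa using hval 2
    have hcF : ∀ (c : F) (w : Fin n → F), c • w = (algebraMap F L c) • w := fun c w => by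
      rw [hsmul, show ((algebraMap F L c : L) : Matrix (Fin n) (Fin n) F) = algebraMap F _ c from rfl,
        Algebra.algebraMap_eq_smul_one, Matrix.smul_mulVec, Matrix.one_mulVec]
    let N : Module.End F (Fin n → F) :=
      { toFun := fun w => φ w • z
        map_add' := fun a b => by rw [map_add]; exact add_smul _ _ _
        map_smul' := fun c w => by
          rw [RingHom.id_apply, hcF, map_smul, smul_eq_mul, mul_smul, ← hcF] }
    obtain ⟨g, hgS, hg⟩ := unipotent p hn N (LinearMap.ext fun w => by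
      show φ (φ w • z) • z = 0
      rw [map_smul, hv2, smul_zero, zero_smul])
    have hg' : ∀ w, (g : Matrix (Fin n) (Fin n) F) *ᵥ w = w + φ w • z := hg
    have hcomm : ∀ l ∈ L, (g : Matrix (Fin n) (Fin n) F) * l = l * g := by
      intro l hl
      refine Matrix.toLin'.injective (LinearMap.ext fun w => ?_)
      rw [Matrix.toLin'_apply, Matrix.toLin'_apply, ← Matrix.mulVec_mulVec, ← Matrix.mulVec_mulVec,
        hg', hg', ← hsmul ⟨l, hl⟩ w, ← hsmul ⟨l, hl⟩ (w + φ w • z), map_smul, smul_add,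
        smul_eq_mul, mul_smul]
    refine ⟨g, hgS, fun y => ⟨fun hy => ?_, fun hy => ?_⟩, fun hgK => ?_⟩
    · rwa [hcomm y hy, Units.mul_inv_cancel_right]
    · have h1 := hcomm _ hy
      rw [Units.inv_mul_cancel_right] at h1
      have h2 := g.isUnit.mul_left_cancel h1
      rwa [h2] at hy
    · set y := (g : Matrix (Fin n) (Fin n) F) * k * ((g⁻¹ : GL (Fin n) F) : Matrix (Fin n) (Fin n) F)
      have hy : y ∈ K := (hgK k).mp hkK
      have hgv : (g : Matrix (Fin n) (Fin n) F) *ᵥ v = v := by rw [hg', hv0, zero_smul, add_zero]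
      have hyv : y *ᵥ v = k *ᵥ v + z := by
        calc y *ᵥ v = y *ᵥ ((g : Matrix (Fin n) (Fin n) F) *ᵥ v) := by rw [hgv]
          _ = (g : Matrix (Fin n) (Fin n) F) *ᵥ (k *ᵥ v) := by
            rw [Matrix.mulVec_mulVec, Matrix.mulVec_mulVec, Units.inv_mul_cancel_right]
          _ = k *ᵥ v + z := by rw [hg', hv1, one_smul]
      exact hz (y - k) (K.sub_mem hy hkK) (by rw [Matrix.sub_mulVec, hyv, add_sub_cancel_left])
  constructor
  · intro hc
    have h := hc.2 _ (SetLike.lt_iff_le_and_exists.mpr ⟨hNle, g, hgL, hgK⟩)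
    exact htL (h ▸ Subgroup.mem_top t)
  · rintro ⟨-, h⟩
    rcases h (Cfsg.Geo.subalgebraNormalizer L ⊓ Cfsg.Geo.specialLinear (Fin n) F)
      (inf_le_inf_right _ hNle) inf_le_right with e | e
    · exact hgK (e ▸ (⟨hgL, hgS⟩ : g ∈ Cfsg.Geo.subalgebraNormalizer L ⊓ Cfsg.Geo.specialLinear (Fin n) F) :
        g ∈ Cfsg.Geo.subalgebraNormalizer K ⊓ Cfsg.Geo.specialLinear (Fin n) F).1
    · exact htL (e.symm ▸ htS : t ∈ Cfsg.Geo.subalgebraNormalizer L ⊓ Cfsg.Geo.specialLinear (Fin n) F).1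

end Cfsg.Agent.S5887
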