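import Cfsg.Statements.S5890
import Cfsg.Agent.Lib.SL2.PGLMax.Meet

set_option autoImplicit false
open Cfsg

namespace Cfsg.Agent.S5890

/-- Let F be a finite field with q ≥ 4 elements, let L ≤ PGL₂(F) be the image of SL₂(F) (a copy of PSL₂(F), of index gcd(2, q − 1)), and let M be a maximal subgroup of PGL₂(F) that does not contain L. Suppose q ∉ {7, 9, 11} and that q is not a prime congruent to ±11 or ±19 modulo 40. Then M ∩ L is a maximal subgroup of L. (For the excluded q there are maximal subgroups of PGL₂(q) — dihedral groups of order 12 and 16 at q = 7, of order 20 and 16 at q = 9, of order 20 at q = 11, and S₄ at the excluded primes — whose intersection with L is not maximal in L.) -/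
theorem result {F : Type*} [Field F]
    [Fintype F] (h4 : 4 ≤ Fintype.card F) (h7 : Fintype.card F ≠ 7) (h9 : Fintype.card F ≠ 9) (h11 : Fintype.card F ≠ 11)
    (h40 : (Fintype.card F).Prime → Fintype.card F % 40 ∉ ({11, 19, 21, 29} : Finset ℕ))
    (M : Subgroup (Matrix.ProjGenLinGroup (Fin 2) F)) (hM : IsCoatom M)
    (hML : ¬ (Matrix.ProjGenLinGroup.mk.comp Matrix.SpecialLinearGroup.toGL).range ≤ M) :
    IsCoatom ((M ⊓ (Matrix.ProjGenLinGroup.mk.comp Matrix.SpecialLinearGroup.toGL).range).subgroupOf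
      (Matrix.ProjGenLinGroup.mk.comp Matrix.SpecialLinearGroup.toGL).range) := by
  rw [Fintype.card_eq_nat_card] at h4 h7 h9 h11 h40
  rw [CfsgLib.SL2.PGLMax.range_comp_eq_LL] at hML ⊢
  let e := MonoidHom.ofInjective
    (Matrix.ProjectiveSpecialLinearGroup.toPGL_injective (n := Fin 2) (R := F))
  suffices h : IsCoatom (M.comap (Matrix.ProjectiveSpecialLinearGroup.toPGL (n := Fin 2) (R := F))) by
    have h' := (OrderIso.isCoatom_iff e.mapSubgroup _).2 h
    have he : (M ⊓ CfsgLib.SL2.PGLMax.LL F).subgroupOf (CfsgLib.SL2.PGLMax.LL F) = e.mapSubgroup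
        (M.comap (Matrix.ProjectiveSpecialLinearGroup.toPGL (n := Fin 2) (R := F))) := by
      apply Subgroup.ext
      intro y
      obtain ⟨x, rfl⟩ := e.surjective y
      constructor
      · intro hy
        exact ⟨x, hy.1, rfl⟩
      · rintro ⟨z, hz, hzx⟩
        obtain rfl := e.injective hzx
        exact ⟨hz, (e z).2⟩
    rw [he]
    exact h'
  rcases Nat.even_or_odd (Nat.card F) with hev | hodd
  · have hs : Function.Surjective (Matrix.ProjectiveSpecialLinearGroup.toPGL (n := Fin 2) (R := F)) := by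
      rw [← MonoidHom.range_eq_top]
      apply Subgroup.eq_top_of_card_eq
      rw [← Nat.card_congr e.toEquiv, CfsgLib.SL2.PGLMax.card_pgl, ← CfsgLib.SL2.card_PSL (F := F),
        show Nat.gcd 2 (Nat.card F - 1) = 1 from CfsgLib.SL2.dd_of_even hev, one_mul]
    let e2 := MulEquiv.ofBijective (Matrix.ProjectiveSpecialLinearGroup.toPGL (n := Fin 2) (R := F))
      ⟨Matrix.ProjectiveSpecialLinearGroup.toPGL_injective, hs⟩
    exact (OrderIso.isCoatom_iff e2.comapSubgroup M).2 hM
  · exact CfsgLib.SL2.PGLMax.meet_coatom hodd h4 h7 h9 h11 h40 hM hML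

end Cfsg.Agent.S5890
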