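import Cfsg.Statements.S5894
import Mathlib
-- import your own Cfsg.Agent.* helpers here

set_option autoImplicit false
open Cfsg

namespace Cfsg.Agent.S5894

/-- For every m ≥ 2 the symmetric group on 2m letters has a maximal subgroup M of index 2m together with a maximal subgroup H of M that is not second maximal: some maximal subgroup K of the symmetric group contains H without H being maximal in K. (One may take M the stabiliser of a letter, H ≅ S_m × S_{m−1} inside it, and K ≅ S_m ≀ S₂ the stabiliser of a partition into two m-sets, with H < S_m × S_m < K.) So the prime-index hypothesis in the second-maximality criterion cannot be relaxed to any even index ≥ 4. -/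
theorem result (m : ℕ) (hm : 2 ≤ m) :
    ∃ M H K : Subgroup (Equiv.Perm (Fin (2 * m))), IsCoatom M ∧ M.index = 2 * m ∧ H ≤ M ∧ IsCoatom (H.subgroupOf M) ∧
      IsCoatom K ∧ H ≤ K ∧ ¬ IsCoatom (H.subgroupOf K) := by
  classical
  open Pointwise in
  let α := Fin (2 * m)
  let a : α := ⟨0, by omega⟩
  let β := {x : α // x ≠ a}
  have hβ : Nat.card β = 2 * m - 1 := by
    rw [Nat.card_eq_fintype_card, Fintype.card_subtype_compl, Fintype.card_fin, Fintype.card_subtype_eq]
  obtain ⟨B, -, hBcard⟩ := Finset.exists_subset_card_eq (s := (Finset.univ : Finset β)) (n := m - 1)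
    (by rw [Finset.card_univ, ← Nat.card_eq_fintype_card, hβ]; omega)
  let ι : Equiv.Perm β →* Equiv.Perm α := Equiv.Perm.ofSubtype
  have hι : Function.Injective ι := Equiv.Perm.ofSubtype_injective
  let M : Subgroup (Equiv.Perm α) := MulAction.stabilizer (Equiv.Perm α) a
  have hrange : ι.range = M := by
    ext g
    constructor
    · rintro ⟨u, rfl⟩
      exact Equiv.Perm.ofSubtype_apply_of_not_mem u (by simp)
    · intro hg
      have hg' : g a = a := hg
      have h1 : ∀ x, g x ≠ a ↔ x ≠ a := fun x =>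
        not_congr ⟨fun h => g.injective (h.trans hg'.symm), fun h => by rw [h, hg']⟩
      exact ⟨g.subtypePerm h1, Equiv.Perm.ofSubtype_subtypePerm h1 fun x hx h => hx (by rw [h, hg'])⟩
  let S : Subgroup (Equiv.Perm β) := MulAction.stabilizer (Equiv.Perm β) (B : Set β)
  have hS : IsCoatom S := by
    refine Equiv.Perm.isCoatom_stabilizer ?_ ?_ ?_
    · rw [Finset.coe_nonempty, ← Finset.card_pos]; omega
    · rw [Set.nonempty_compl]; intro he
      have := congrArg Set.ncard he
      rw [Set.ncard_coe_finset, Set.ncard_univ, hβ] at this; omega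
    · rw [hβ, Set.ncard_coe_finset]; omega
  let H : Subgroup (Equiv.Perm α) := S.map ι
  let A : Set α := insert a (Subtype.val '' (B : Set β))
  have hA : A.ncard = m := by
    rw [Set.ncard_insert_of_notMem (by rintro ⟨x, -, hx⟩; exact x.2 hx),
      Set.ncard_image_of_injective _ Subtype.val_injective, Set.ncard_coe_finset]
    omega
  let L : Subgroup (Equiv.Perm α) := MulAction.stabilizer (Equiv.Perm α) A
  have hHL : H ≤ L := by
    rintro _ ⟨u, hu, rfl⟩
    show ι u • A = A
    have hu' : u • (B : Set β) = B := hu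
    conv_rhs => rw [show A = insert a (Subtype.val '' (u • (B : Set β))) by rw [hu']]
    show (fun x => ι u x) '' A = _
    rw [Set.image_insert_eq, show ι u a = a from Equiv.Perm.ofSubtype_apply_of_not_mem u (by simp)]
    congr 1
    rw [Set.image_image]
    show _ = Subtype.val '' ((fun x => u x) '' (B : Set β))
    rw [Set.image_image]
    exact Set.image_congr fun x _ => Equiv.Perm.ofSubtype_apply_coe u x
  let K₀ : Subgroup (Equiv.Perm α) :=
    { carrier := {g | g • A = A ∨ g • A = Aᶜ}
      one_mem' := Or.inl (one_smul _ _)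
      mul_mem' := fun {g h} hg hh => by
        have hg' : g • Aᶜ = (g • A)ᶜ := Set.smul_set_compl
        rcases hh with hh | hh <;> rcases hg with hg | hg <;>
          simp [mul_smul, hh, hg, hg']
      inv_mem' := fun {g} hg => by
        rcases hg with hg | hg
        · exact Or.inl (inv_smul_eq_iff.mpr hg.symm)
        · refine Or.inr (inv_smul_eq_iff.mpr ?_)
          rw [Set.smul_set_compl, hg, compl_compl] }
  have hAc : Aᶜ.ncard = m := by rw [Set.ncard_compl, hA, Nat.card_fin]; omega
  obtain ⟨b, hb⟩ : ∃ b, b ∈ Aᶜ := Set.nonempty_of_ncard_ne_zero (by omega)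
  obtain ⟨c, hc⟩ : (B : Set β).Nonempty := by rw [Finset.coe_nonempty, ← Finset.card_pos]; omega
  have hcA : (c : α) ∈ A := Or.inr ⟨c, hc, rfl⟩
  have haA : a ∈ A := Set.mem_insert _ _
  have hK₀ : K₀ ≠ ⊤ := by
    intro h
    have hmem : Equiv.swap a b ∈ K₀ := h ▸ Subgroup.mem_top _
    have h1 : Equiv.swap a b (c : α) = c := Equiv.swap_apply_of_ne_of_ne c.2 (fun e => hb (e ▸ hcA))
    have h2 : b ∈ Equiv.swap a b • A := ⟨a, haA, Equiv.swap_apply_left a b⟩
    have h3 : (c : α) ∈ Equiv.swap a b • A := ⟨c, hcA, h1⟩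
    rcases hmem with e | e
    · exact hb (e ▸ h2)
    · exact (e ▸ h3 : (c : α) ∈ Aᶜ) hcA
  obtain ⟨K, hK, hK₀K⟩ := (eq_top_or_exists_le_coatom K₀).resolve_left hK₀
  refine ⟨M, H, K, ?_, ?_, hrange ▸ Subgroup.map_le_range ι S, ?_, hK,
    hHL.trans (le_trans (b := K₀) (fun g hg => Or.inl hg) hK₀K), ?_⟩
  · rw [show M = MulAction.stabilizer (Equiv.Perm α) ({a} : Set α) from (MulAction.stabilizer_singleton a).symm]
    refine Equiv.Perm.isCoatom_stabilizer (Set.singleton_nonempty a) ?_ ?_
    · exact ⟨b, fun h => hb (h ▸ haA)⟩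
    · rw [Nat.card_fin, Set.ncard_singleton]; omega
  · rw [MulAction.index_stabilizer_of_transitive, Nat.card_fin]
  · let e : Equiv.Perm β ≃* M := (MonoidHom.ofInjective hι).trans (MulEquiv.subgroupCongr hrange)
    have he : H.subgroupOf M = e.mapSubgroup S := by
      ext g
      rw [Subgroup.mem_subgroupOf]
      show _ ↔ g ∈ S.map e.toMonoidHom
      rw [Subgroup.mem_map]
      constructor
      · rintro ⟨u, hu, h⟩; exact ⟨u, hu, Subtype.ext h⟩
      · rintro ⟨u, hu, rfl⟩; exact ⟨u, hu, rfl⟩
    rw [he]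
    exact (OrderIso.isCoatom_iff e.mapSubgroup S).mpr hS
  · intro hco
    have hLK : L ≤ K := le_trans (b := K₀) (fun g hg => Or.inl hg) hK₀K
    have hlt : H.subgroupOf K < L.subgroupOf K := by
      refine lt_of_le_of_ne (Subgroup.subgroupOf_mono K hHL) fun he => ?_
      have hs : Equiv.swap a (c : α) ∈ L := by
        refine MulAction.mem_stabilizer_set'  (Set.toFinite A) |>.mpr fun x hx => ?_
        rw [Equiv.Perm.smul_def, Equiv.swap_apply_def]
        split_ifs <;> assumption
      have : (⟨_, hLK hs⟩ : K) ∈ H.subgroupOf K := he ▸ (hs : _ ∈ L)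
      obtain ⟨u, -, hu⟩ := this
      have h1 : ι u a = a := Equiv.Perm.ofSubtype_apply_of_not_mem u (by simp)
      change ι u = Equiv.swap a (c : α) at hu
      rw [hu, Equiv.swap_apply_left] at h1
      exact c.2 h1
    have htop := hco.2 _ hlt
    obtain ⟨t, ht⟩ : ∃ t : Equiv.Perm α, t • A = Aᶜ := by
      have e1 : {x // x ∈ A} ≃ {x // x ∈ Aᶜ} := Fintype.equivOfCardEq (by
        rw [← Nat.card_eq_fintype_card, ← Nat.card_eq_fintype_card]
        show Nat.card A = Nat.card ↑(Aᶜ)
        rw [Nat.card_coe_set_eq, Nat.card_coe_set_eq, hA, hAc])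
      let t := e1.extendSubtype
      refine ⟨t, Set.eq_of_subset_of_ncard_le ?_ ?_ (Set.toFinite _)⟩
      · rintro _ ⟨x, hx, rfl⟩
        exact Equiv.extendSubtype_mem e1 x hx
      · show Aᶜ.ncard ≤ ((fun x => t x) '' A).ncard
        rw [Set.ncard_image_of_injective _ t.injective, hA, hAc]
    have : (⟨t, hK₀K (Or.inr ht)⟩ : K) ∈ L.subgroupOf K := htop ▸ Subgroup.mem_top _
    have h' : t • A = A := this
    have e : Aᶜ = A := ht.symm.trans h'
    have haC : a ∈ Aᶜ := by rw [e]; exact haA
    exact haC haA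

end Cfsg.Agent.S5894
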