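import Cfsg.Statements.S5895
-- import your own Cfsg.Agent.* helpers here

set_option autoImplicit false
open Cfsg

namespace Cfsg.Agent.S5895

variable {F V : Type} [Field F] [AddCommGroup V] [Module F V] [FiniteDimensional F V]

/-- Two vectors outside `W` are exchanged by a linear automorphism fixing `W` pointwise. -/
theorem exists_fix_map (W : Submodule F V) {v u : V} (hv : v ∉ W) (hu : u ∉ W) :
    ∃ φ : V ≃ₗ[F] V, φ v = u ∧ ∀ x ∈ W, φ x = x := by
  obtain ⟨f₁, h₁, h₁W⟩ := Submodule.exists_dual_map_eq_bot_of_notMem hv inferInstance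
  obtain ⟨f₂, h₂, h₂W⟩ := Submodule.exists_dual_map_eq_bot_of_notMem hu inferInstance
  have k₁ : ∀ x ∈ W, f₁ x = 0 := fun x hx => by
    rw [← Submodule.mem_bot F, ← h₁W]; exact Submodule.mem_map_of_mem hx
  have k₂ : ∀ x ∈ W, f₂ x = 0 := fun x hx => by
    rw [← Submodule.mem_bot F, ← h₂W]; exact Submodule.mem_map_of_mem hx
  obtain ⟨f, hfv, hfu, hfW⟩ : ∃ f : Module.Dual F V, f v ≠ 0 ∧ f u ≠ 0 ∧ ∀ x ∈ W, f x = 0 := by
    by_cases a : f₁ u = 0
    · by_cases b : f₂ v = 0
      · exact ⟨f₁ + f₂, by simp [b, h₁], by simp [a, h₂], fun x hx => by simp [k₁ x hx, k₂ x hx]⟩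
      · exact ⟨f₂, b, h₂, k₂⟩
    · exact ⟨f₁, h₁, a, k₁⟩
  set ψ : V →ₗ[F] V := LinearMap.id + f.smulRight ((f v)⁻¹ • (u - v)) with hψdef
  have hψ : Function.Injective ψ := by
    rw [injective_iff_map_eq_zero]
    intro x hx
    have e : x + f x • ((f v)⁻¹ • (u - v)) = 0 := by simpa [hψdef] using hx
    have e2 : f x * f u = 0 := by
      have h := congrArg f e
      simp only [map_add, map_smul, map_sub, map_zero, smul_eq_mul] at h
      field_simp at h
      linear_combination h
    have : f x = 0 := (mul_eq_zero.mp e2).resolve_right hfu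
    simpa [this] using e
  refine ⟨LinearEquiv.ofInjectiveEndo ψ hψ, ?_, fun x hx => ?_⟩
  · simp [hψdef, smul_smul, mul_inv_cancel₀ hfv]
  · simp [hψdef, hfW x hx]

/-- The stabiliser of a line. -/
def lineStabilizer (w : V) : Subgroup (V ≃ₗ[F] V) where
  carrier := {g | ∃ c : Fˣ, g w = (c : F) • w}
  one_mem' := ⟨1, by simp⟩
  mul_mem' := by
    rintro g h ⟨c, hc⟩ ⟨e, he⟩
    exact ⟨e * c, by simp [he, hc, smul_smul]⟩
  inv_mem' := by
    rintro g ⟨c, hc⟩
    refine ⟨c⁻¹, ?_⟩
    show g.symm w = _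
    rw [LinearEquiv.symm_apply_eq, map_smul, hc, smul_smul]
    simp

theorem isCoatom_lineStabilizer {w : V} (hw : w ≠ 0)
    (hout : ∃ v : V, v ∉ Submodule.span F {w}) :
    IsCoatom (lineStabilizer (F := F) w) := by
  obtain ⟨v₀, hv₀⟩ := hout
  have hmem : ∀ g : V ≃ₗ[F] V, g w ∈ Submodule.span F {w} → g ∈ lineStabilizer (F := F) w := by
    intro g hg
    obtain ⟨c, hc⟩ := Submodule.mem_span_singleton.mp hg
    have hc0 : c ≠ 0 := fun h => hw (g.injective (by rw [← hc, h, zero_smul, map_zero]))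
    exact ⟨Units.mk0 c hc0, hc.symm⟩
  refine ⟨fun htop => ?_, fun L hL => ?_⟩
  · obtain ⟨φ, hφ, -⟩ := exists_fix_map (⊥ : Submodule F V) (v := w) (u := v₀) (by simpa using hw)
      (fun h => hv₀ (by rw [(Submodule.mem_bot F).mp h]; exact Submodule.zero_mem _))
    obtain ⟨c, hc⟩ : φ ∈ lineStabilizer (F := F) w := htop ▸ Subgroup.mem_top φ
    exact hv₀ (hφ ▸ hc ▸ Submodule.smul_mem _ _ (Submodule.mem_span_singleton_self w))
  · obtain ⟨g, hgL, hg⟩ := SetLike.exists_of_lt hL
    rw [eq_top_iff]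
    intro x _
    by_cases hx : x w ∈ Submodule.span F {w}
    · exact hL.le (hmem x hx)
    obtain ⟨φ, hφ, hfix⟩ := exists_fix_map (Submodule.span F {w}) (v := g w) (u := x w)
      (fun h => hg (hmem g h)) hx
    have hφH : φ ∈ lineStabilizer (F := F) w :=
      ⟨1, by simp [hfix w (Submodule.mem_span_singleton_self w)]⟩
    have h2 : (φ * g)⁻¹ * x ∈ lineStabilizer (F := F) w := by
      refine ⟨1, ?_⟩
      show (φ * g).symm (x w) = _
      rw [LinearEquiv.symm_apply_eq]
      simp [hφ]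
    have := mul_mem (mul_mem (hL.le hφH) hgL) (hL.le h2)
    rwa [mul_inv_cancel_left] at this

omit [FiniteDimensional F V] in
theorem affine_apply (g : V ≃ᵃ[F] V) (x : V) : g x = g.linear x + g 0 := by
  simpa using g.map_vadd 0 x

/-- The stabiliser of the origin in the affine group. -/
def originStabilizer : Subgroup (V ≃ᵃ[F] V) where
  carrier := {g | g 0 = 0}
  one_mem' := rfl
  mul_mem' := by
    intro g h hg hh
    show g (h 0) = 0
    rw [hh, hg]
  inv_mem' := by
    intro g hg
    show g.symm 0 = 0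
    exact g.toEquiv.symm_apply_eq.mpr hg.symm

/-- Affine maps with linear part fixing the line and moving the origin within it. -/
def middle (w : V) : Subgroup (V ≃ᵃ[F] V) where
  carrier := {g | g.linear ∈ lineStabilizer (F := F) w ∧ g 0 ∈ Submodule.span F {w}}
  one_mem' := ⟨one_mem _, Submodule.zero_mem _⟩
  mul_mem' := by
    rintro g h ⟨hg, hg0⟩ ⟨hh, hh0⟩
    refine ⟨mul_mem hg hh, ?_⟩
    show g (h 0) ∈ _
    rw [affine_apply]
    refine Submodule.add_mem _ ?_ hg0
    obtain ⟨c, hc⟩ := hg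
    obtain ⟨a, ha⟩ := Submodule.mem_span_singleton.mp hh0
    rw [← ha, map_smul, hc]
    exact Submodule.smul_mem _ _ (Submodule.smul_mem _ _ (Submodule.mem_span_singleton_self w))
  inv_mem' := by
    rintro g ⟨hg, hg0⟩
    refine ⟨inv_mem hg, ?_⟩
    show g.symm 0 ∈ _
    have h : g.linear (g.symm 0) + g 0 = 0 := by rw [← affine_apply, g.apply_symm_apply]
    have hinv : g.linear⁻¹ ∈ lineStabilizer (F := F) w := inv_mem hg
    obtain ⟨c, hc⟩ := hinv
    have h2 : g.symm 0 = g.linear.symm (-(g 0)) := by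
      rw [LinearEquiv.eq_symm_apply]
      exact eq_neg_of_add_eq_zero_left h
    obtain ⟨a, ha⟩ := Submodule.mem_span_singleton.mp hg0
    rw [h2, ← ha, map_neg, map_smul]
    refine Submodule.neg_mem _ (Submodule.smul_mem _ _ ?_)
    change g.linear.symm w = _ at hc
    rw [hc]
    exact Submodule.smul_mem _ _ (Submodule.mem_span_singleton_self w)

/-- For every prime p and every d ≥ 2 there is a finite group G with a maximal subgroup M of index p^d and a maximal subgroup H of M that is not second maximal in G: some maximal subgroup K of G contains H without H being maximal in K. (One may take G the affine group V ⋊ GL(V) of V = 𝔽_p^d, M = GL(V), H the stabiliser in M of a line W of V, and K = V ⋊ H, with H < W ⋊ H < K.) So the prime-index hypothesis in the second-maximality criterion cannot be relaxed to prime-power index. -/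
theorem result (p d : ℕ) (hp : p.Prime)
    (hd : 2 ≤ d) :
    ∃ (G : Type) (_ : Group G) (_ : Finite G) (M H K : Subgroup G), IsCoatom M ∧ M.index = p ^ d ∧ H ≤ M ∧
      IsCoatom (H.subgroupOf M) ∧ IsCoatom K ∧ H ≤ K ∧ ¬ IsCoatom (H.subgroupOf K) := by
  have : Fact p.Prime := ⟨hp⟩
  have : NeZero p := ⟨hp.ne_zero⟩
  let V := Fin d → ZMod p
  let F := ZMod p
  have : Finite (V ≃ᵃ[F] V) := Finite.of_injective (fun g : V ≃ᵃ[F] V => (g : V → V)) DFunLike.coe_injective
  let i₀ : Fin d := ⟨0, by omega⟩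
  let i₁ : Fin d := ⟨1, by omega⟩
  let w : V := Pi.single i₀ 1
  let v : V := Pi.single i₁ 1
  have hw : w ≠ 0 := fun h => by
    have h2 : (Pi.single i₀ (1 : F) : Fin d → F) i₀ = 0 := congrFun h i₀
    rw [Pi.single_eq_same] at h2
    exact one_ne_zero h2
  have hv : v ∉ Submodule.span F {w} := by
    intro h
    obtain ⟨c, hc⟩ := Submodule.mem_span_singleton.mp h
    have h2 : c * (Pi.single i₀ (1 : F) : Fin d → F) i₁ = (Pi.single i₁ (1 : F) : Fin d → F) i₁ :=
      congrFun hc i₁
    rw [Pi.single_eq_same, Pi.single_eq_of_ne (by simp [i₀, i₁, Fin.ext_iff]), mul_zero] at h2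
    exact zero_ne_one h2
  let M : Subgroup (V ≃ᵃ[F] V) := originStabilizer
  let K : Subgroup (V ≃ᵃ[F] V) := (lineStabilizer (F := F) w).comap AffineEquiv.linearHom
  have hlin : Function.Surjective (AffineEquiv.linearHom : (V ≃ᵃ[F] V) →* (V ≃ₗ[F] V)) :=
    fun φ => ⟨φ.toAffineEquiv, rfl⟩
  have hcoatom := isCoatom_lineStabilizer (F := F) hw ⟨v, hv⟩
  have hmax : IsCoatom M := by
    refine ⟨fun h => ?_, fun L hL => ?_⟩
    · have h1 : AffineEquiv.constVAdd F V w ∈ M := h ▸ Subgroup.mem_top _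
      have h2 : w + 0 = 0 := h1
      exact hw (by simpa using h2)
    · obtain ⟨g, hgL, hg⟩ := SetLike.exists_of_lt hL
      rw [eq_top_iff]
      intro x _
      by_cases hx : x 0 = 0
      · exact hL.le hx
      obtain ⟨φ, hφ, -⟩ := exists_fix_map (⊥ : Submodule F V) (v := g 0) (u := x 0)
        (fun h => hg ((Submodule.mem_bot F).mp h)) (fun h => hx ((Submodule.mem_bot F).mp h))
      have hφM : φ.toAffineEquiv ∈ M := map_zero φ
      have h2 : (φ.toAffineEquiv * g)⁻¹ * x ∈ M := by
        show (φ.toAffineEquiv * g).symm (x 0) = 0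
        refine (φ.toAffineEquiv * g).toEquiv.symm_apply_eq.mpr ?_
        exact hφ.symm
      have := mul_mem (mul_mem (hL.le hφM) hgL) (hL.le h2)
      rwa [mul_inv_cancel_left] at this
  refine ⟨(V ≃ᵃ[F] V), inferInstance, inferInstance, M, M ⊓ K, K, hmax, ?_, inf_le_left, ?_,
    Subgroup.isCoatom_comap_of_surjective hlin hcoatom, inf_le_right, ?_⟩
  · let f : (V ≃ᵃ[F] V) ⧸ M → V := Quotient.lift (fun g : V ≃ᵃ[F] V => g 0) (by
      intro a b hab
      have h : (a⁻¹ * b) 0 = 0 := (QuotientGroup.leftRel_apply.mp hab)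
      exact (a.toEquiv.symm_apply_eq.mp h).symm)
    have hf : Function.Bijective f := by
      constructor
      · rintro ⟨a⟩ ⟨b⟩ h
        have h' : a 0 = b 0 := h
        exact QuotientGroup.eq.mpr (a.toEquiv.symm_apply_eq.mpr h'.symm)
      · intro u
        exact ⟨QuotientGroup.mk (AffineEquiv.constVAdd F V u), add_zero u⟩
    rw [Subgroup.index_eq_card, Nat.card_eq_of_bijective f hf]
    simp [V]
  · have hM : Function.Surjective ((AffineEquiv.linearHom).comp M.subtype) :=
      fun φ => ⟨⟨φ.toAffineEquiv, map_zero φ⟩, rfl⟩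
    have e : (M ⊓ K).subgroupOf M = (lineStabilizer (F := F) w).comap ((AffineEquiv.linearHom).comp M.subtype) := by
      rw [Subgroup.inf_subgroupOf_left]
      rfl
    rw [e]
    exact Subgroup.isCoatom_comap_of_surjective hM hcoatom
  · intro h
    have hle : middle (F := F) w ≤ K := fun g hg => hg.1
    have hHL : (M ⊓ K).subgroupOf K < (middle (F := F) w).subgroupOf K := by
      refine SetLike.lt_iff_le_and_exists.mpr ⟨fun g hg => ⟨hg.2, ?_⟩, ?_⟩
      · show (g : V ≃ᵃ[F] V) 0 ∈ _
        rw [show (g : V ≃ᵃ[F] V) 0 = 0 from hg.1]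
        exact Submodule.zero_mem _
      · refine ⟨⟨AffineEquiv.constVAdd F V w, ⟨1, (one_smul F w).symm⟩⟩, ⟨⟨1, (one_smul F w).symm⟩, ?_⟩, fun hm => ?_⟩
        · show w + 0 ∈ _
          rw [add_zero]
          exact Submodule.mem_span_singleton_self w
        · have h2 : w + 0 = 0 := hm.1
          exact hw (by simpa using h2)
    have h3 := h.2 _ hHL
    have h4 : (⟨AffineEquiv.constVAdd F V v, ⟨1, (one_smul F w).symm⟩⟩ : K) ∈ (middle (F := F) w).subgroupOf K :=
      h3 ▸ Subgroup.mem_top _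
    have h5 : v + 0 ∈ Submodule.span F {w} := h4.2
    exact hv (by simpa using h5)

end Cfsg.Agent.S5895
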