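import Cfsg.Statements.S5896
import Mathlib

set_option autoImplicit false
open Cfsg

namespace Cfsg.Agent.S5896

section
open Matrix

section
variable {R : Type*} [CommRing R]

/-- Upper unipotent. -/
def xx (s : R) : SpecialLinearGroup (Fin 2) R := ⟨!![1, s; 0, 1], by simp [det_fin_two]⟩

/-- Lower unipotent. -/
def yy (t : R) : SpecialLinearGroup (Fin 2) R := ⟨!![1, 0; t, 1], by simp [det_fin_two]⟩

/-- Diagonal. -/
def hh (u : Rˣ) : SpecialLinearGroup (Fin 2) R :=
  ⟨!![(u : R), 0; 0, ((u⁻¹ : Rˣ) : R)], by simp [det_fin_two]⟩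

@[simp] theorem coe_xx (s : R) :
    ((xx s : SpecialLinearGroup (Fin 2) R) : Matrix (Fin 2) (Fin 2) R) = !![1, s; 0, 1] := rfl

@[simp] theorem coe_yy (t : R) :
    ((yy t : SpecialLinearGroup (Fin 2) R) : Matrix (Fin 2) (Fin 2) R) = !![1, 0; t, 1] := rfl

@[simp] theorem coe_hh (u : Rˣ) :
    ((hh u : SpecialLinearGroup (Fin 2) R) : Matrix (Fin 2) (Fin 2) R) =
      !![(u : R), 0; 0, ((u⁻¹ : Rˣ) : R)] := rfl

@[simp] theorem map_entry {S : Type*} [CommRing S] (f : R →+* S) (g : SpecialLinearGroup (Fin 2) R)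
    (i j : Fin 2) : (SpecialLinearGroup.map f g : Matrix (Fin 2) (Fin 2) S) i j =
      f ((g : Matrix (Fin 2) (Fin 2) R) i j) := rfl

theorem map_xx {S : Type*} [CommRing S] (f : R →+* S) (r : R) :
    SpecialLinearGroup.map f (xx r) = xx (f r) := by
  refine Subtype.ext ?_
  ext i j; fin_cases i <;> fin_cases j <;> simp

theorem map_yy {S : Type*} [CommRing S] (f : R →+* S) (r : R) :
    SpecialLinearGroup.map f (yy r) = yy (f r) := by
  refine Subtype.ext ?_
  ext i j; fin_cases i <;> fin_cases j <;> simp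

theorem coe_inv_xx (s : R) : (xx s)⁻¹ = xx (-s) := by
  refine inv_eq_of_mul_eq_one_right (Subtype.ext ?_)
  ext i j; fin_cases i <;> fin_cases j <;> simp [Matrix.mul_apply]

theorem coe_inv_yy (s : R) : (yy s)⁻¹ = yy (-s) := by
  refine inv_eq_of_mul_eq_one_right (Subtype.ext ?_)
  ext i j; fin_cases i <;> fin_cases j <;> simp [Matrix.mul_apply]

theorem coe_inv_hh (u : Rˣ) : (hh u)⁻¹ = hh u⁻¹ := by
  refine inv_eq_of_mul_eq_one_right (Subtype.ext ?_)
  ext i j; fin_cases i <;> fin_cases j <;> simp [Matrix.mul_apply]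

theorem comm_x (u : Rˣ) (s : R) :
    hh u * xx s * (hh u)⁻¹ * (xx s)⁻¹ = xx (((u : R) ^ 2 - 1) * s) := by
  rw [coe_inv_hh, coe_inv_xx]
  refine Subtype.ext ?_
  ext i j; fin_cases i <;> fin_cases j <;> simp [Matrix.mul_apply] <;> ring

theorem comm_y (u : Rˣ) (s : R) :
    hh u * yy s * (hh u)⁻¹ * (yy s)⁻¹ = yy ((((u⁻¹ : Rˣ) : R) ^ 2 - 1) * s) := by
  rw [coe_inv_hh, coe_inv_yy]
  refine Subtype.ext ?_
  ext i j; fin_cases i <;> fin_cases j <;> simp [Matrix.mul_apply] <;> ring

theorem hh_eq (u : Rˣ) (s t : R) (h : (u : R) = 1 + s * t) :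
    hh u = (yy (t * ((u⁻¹ : Rˣ) : R)))⁻¹ * xx s * yy t * (xx (s * ((u⁻¹ : Rˣ) : R)))⁻¹ := by
  rw [eq_mul_inv_iff_mul_eq, mul_assoc, eq_inv_mul_iff_mul_eq]
  refine Subtype.ext ?_
  have hu : (u : R) * ((u⁻¹ : Rˣ) : R) = 1 := by simp
  ext i j; fin_cases i <;> fin_cases j
  · simp [Matrix.mul_apply, h]
  · simp [Matrix.mul_apply]
    linear_combination s * hu
  · simp [Matrix.mul_apply]
  · simp [Matrix.mul_apply]
    linear_combination (((u⁻¹ : Rˣ) : R) * s * t) * hu - ((u⁻¹ : Rˣ) : R) * h + hu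

/-- An element with invertible lower left entry. -/
theorem decomp_c (g : SpecialLinearGroup (Fin 2) R) (c : Rˣ) (hc : g 1 0 = c) :
    g = xx ((g 0 0 - 1) * ((c⁻¹ : Rˣ) : R)) * yy (c : R) *
      xx ((g 1 1 - 1) * ((c⁻¹ : Rˣ) : R)) := by
  refine Subtype.ext ?_
  have hd : g 0 0 * g 1 1 - g 0 1 * g 1 0 = 1 := by
    have := g.2; rwa [det_fin_two] at this
  have hu : (c : R) * ((c⁻¹ : Rˣ) : R) = 1 := by simp
  ext i j; fin_cases i <;> fin_cases j
  · simp [Matrix.mul_apply]
  · simp [Matrix.mul_apply]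
    linear_combination -(((c⁻¹ : Rˣ) : R)) * hd - ((c⁻¹ : Rˣ) : R) * g 0 1 * hc
      - g 0 1 * hu
  · simp [Matrix.mul_apply, hc]
  · simp [Matrix.mul_apply]
    linear_combination -(g 1 1 - 1) * hu

end

section
variable {k : ℕ}

local notation "R" => ZMod (5 ^ k)
local notation "G" => SpecialLinearGroup (Fin 2) (ZMod (5 ^ k))

variable (hk : k ≠ 0)
include hk

/-- Reduction modulo five. -/
def rd : ZMod (5 ^ k) →+* ZMod 5 := ZMod.castHom (dvd_pow_self 5 hk) _

theorem five_dvd {x : R} (h : rd hk x = 0) : (5 : R) ∣ x := by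
  obtain ⟨n, rfl⟩ := ZMod.natCast_zmod_surjective x
  rw [map_natCast, ZMod.natCast_eq_zero_iff] at h
  obtain ⟨m, rfl⟩ := h
  exact ⟨(m : R), by push_cast; ring⟩

theorem isUnit_of {x : R} (h : rd hk x ≠ 0) : IsUnit x := by
  obtain ⟨n, rfl⟩ := ZMod.natCast_zmod_surjective x
  rw [map_natCast, Ne, ZMod.natCast_eq_zero_iff] at h
  rw [ZMod.isUnit_iff_coprime]
  exact ((Nat.Prime.coprime_iff_not_dvd (by norm_num)).mpr h).symm.pow_right k

theorem rd_five : rd hk (5 : R) = 0 := by
  rw [map_ofNat]; decide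

theorem mem_of_gens (K : Subgroup G) (hx : ∀ s, xx s ∈ K) (hy : ∀ t, yy t ∈ K) (g : G) :
    g ∈ K := by
  have hc : ∀ g : G, IsUnit (g 1 0) → g ∈ K := fun g ⟨c, hc⟩ => by
    rw [decomp_c g c hc.symm]
    exact K.mul_mem (K.mul_mem (hx _) (hy _)) (hx _)
  by_cases h : IsUnit (g 1 0)
  · exact hc g h
  have h0 : rd hk (g 1 0) = 0 := by_contra fun e => h (isUnit_of hk e)
  have ha : rd hk (g 0 0) ≠ 0 := by
    intro e
    have hd : g 0 0 * g 1 1 - g 0 1 * g 1 0 = 1 := by
      have := g.2; rwa [det_fin_two] at this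
    have := congrArg (rd hk) hd
    simp [e, h0] at this <;> exact absurd this (by decide)
  have hu : IsUnit ((yy 1 * g : G) 1 0) := by
    refine isUnit_of hk ?_
    simpa [Matrix.mul_apply, h0] using ha
  exact (K.mul_mem_cancel_left (hy 1)).mp (hc _ hu)

/-- All of the unipotents of level `a`. -/
def Lev (a : ℕ) (D : Subgroup G) : Prop :=
  (∀ t : R, xx ((5 : R) ^ a * t) ∈ D) ∧ (∀ t : R, yy ((5 : R) ^ a * t) ∈ D) ∧
    ∀ (u : Rˣ) (t : R), (u : R) = 1 + (5 : R) ^ a * t → hh u ∈ D

theorem rd_pow {a : ℕ} (ha : a ≠ 0) (t : R) : rd hk ((5 : R) ^ a * t) = 0 := by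
  rw [map_mul, map_pow, rd_five hk, zero_pow ha, zero_mul]

theorem lev_step {a : ℕ} (ha : a ≠ 0) (D : Subgroup G) (h : Lev a D) :
    Lev (6 * a) ⁅D, D⁆ := by
  obtain ⟨hx, hy, hh'⟩ := h
  obtain ⟨u, hu⟩ := isUnit_of hk (x := 1 + (5 : R) ^ a)
    (by rw [map_add, map_one, ← mul_one ((5 : R) ^ a), rd_pow hk ha]; decide)
  have huD : hh u ∈ D := hh' u 1 (by rw [hu, mul_one])
  obtain ⟨w, hw⟩ := isUnit_of hk (x := 2 + (5 : R) ^ a)
    (by rw [map_add, map_ofNat, ← mul_one ((5 : R) ^ a), rd_pow hk ha]; decide)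
  have x3 : ∀ t : R, xx ((5 : R) ^ (3 * a) * t) ∈ ⁅D, D⁆ := by
    intro t
    have := Subgroup.commutator_mem_commutator huD
      (hx ((5 : R) ^ a * ((w⁻¹ : Rˣ) : R) * t))
    rw [commutatorElement_def, comm_x] at this
    convert this using 2
    have hww : (w : R) * ((w⁻¹ : Rˣ) : R) = 1 := by simp
    rw [hu, hw] at *
    linear_combination -((5 : R) ^ (3 * a) * t) * hww
  have y3 : ∀ t : R, yy ((5 : R) ^ (3 * a) * t) ∈ ⁅D, D⁆ := by
    intro t
    have := Subgroup.commutator_mem_commutator huD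
      (hy ((5 : R) ^ a * (-(u : R) ^ 2 * ((w⁻¹ : Rˣ) : R)) * t))
    rw [commutatorElement_def, comm_y] at this
    convert this using 2
    have hww : (w : R) * ((w⁻¹ : Rˣ) : R) = 1 := by simp
    have huu : (u : R) * ((u⁻¹ : Rˣ) : R) = 1 := by simp
    rw [hw] at hww
    linear_combination -((5 : R) ^ (3 * a) * t) * hww
      - ((5 : R) ^ (2 * a) * ((w⁻¹ : Rˣ) : R) * t) * ((u : R) + 1 + (5 : R) ^ a) * hu
      + ((5 : R) ^ (2 * a) * ((w⁻¹ : Rˣ) : R) * t) * ((u : R) * ((u⁻¹ : Rˣ) : R) + 1) * huu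
  refine ⟨fun t => ?_, fun t => ?_, fun v t hv => ?_⟩
  · have := x3 ((5 : R) ^ (3 * a) * t)
    convert this using 2; ring
  · have := y3 ((5 : R) ^ (3 * a) * t)
    convert this using 2; ring
  · rw [hh_eq v ((5 : R) ^ (3 * a)) ((5 : R) ^ (3 * a) * t) (by rw [hv]; ring)]
    refine mul_mem (mul_mem (mul_mem (inv_mem ?_) ?_) (y3 t)) (inv_mem (x3 _))
    · rw [mul_assoc]; exact y3 _
    · simpa using x3 1

end

theorem two_ne : (2 : ZMod 5) ≠ 0 := by decide

theorem four_ne : (2 : ZMod 5) ^ 2 - 1 ≠ 0 := by decide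

theorem half_ne : ∀ z : ZMod 5, z ^ 2 - 1 = 0 → 2 * z = 1 → False := by decide

theorem xy_all {R : Type*} [CommRing R] {u : Rˣ} {v : R} (hv : ((u : R) ^ 2 - 1) * v = 1)
    {w : R} (hw : (((u⁻¹ : Rˣ) : R) ^ 2 - 1) * w = 1) :
    (∀ s : R, xx s ∈ commutator (SpecialLinearGroup (Fin 2) R)) ∧
      ∀ s : R, yy s ∈ commutator (SpecialLinearGroup (Fin 2) R) := by
  constructor
  · intro s
    have := Subgroup.commutator_mem_commutator (Subgroup.mem_top (hh u)) (Subgroup.mem_top (xx (v * s)))
    rw [commutatorElement_def, comm_x, ← mul_assoc, hv, one_mul] at this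
    exact this
  · intro s
    have := Subgroup.commutator_mem_commutator (Subgroup.mem_top (hh u)) (Subgroup.mem_top (yy (w * s)))
    rw [commutatorElement_def, comm_y, ← mul_assoc, hw, one_mul] at this
    exact this

theorem pow_five_pow {A : Type*} [Ring A] (g : A) (c : A) (hc : g = 1 + 5 * c) :
    ∀ i : ℕ, ∃ d : A, g ^ (5 ^ i) = 1 + (5 : A) ^ (i + 1) * d := by
  intro i
  induction i with
  | zero => exact ⟨c, by simpa using hc⟩
  | succ i ih =>
    obtain ⟨d, hd⟩ := ih
    have h5 : ∀ x : A, Commute (5 : A) x := fun x => (Nat.cast_ofNat (R := A) (n := 5)) ▸ Nat.cast_commute 5 x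
    generalize hX : g ^ (5 ^ i) = X at hd
    have hj : ∀ j : ℕ, ∃ e : A, X ^ j = 1 + 5 * e := by
      intro j
      induction j with
      | zero => exact ⟨0, by simp⟩
      | succ j ihj =>
        obtain ⟨e, he⟩ := ihj
        refine ⟨e * X + (5 : A) ^ i * d, ?_⟩
        rw [pow_succ, he, add_mul, one_mul, mul_assoc, mul_add, hd, pow_succ', mul_assoc]
        abel
    choose e he using hj
    refine ⟨(∑ j ∈ Finset.range 5, e j + 1) * d, ?_⟩
    rw [pow_succ, pow_mul, hX]
    have hg := geom_sum_mul X 5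
    have hs : ∑ j ∈ Finset.range 5, X ^ j = 5 * (∑ j ∈ Finset.range 5, e j + 1) := by
      simp only [he, Finset.sum_add_distrib, Finset.sum_const, Finset.card_range, ← Finset.mul_sum]
      rw [mul_add, mul_one, nsmul_eq_mul, mul_one]
      push_cast
      abel
    rw [eq_add_of_sub_eq hg.symm, hs, hd, add_sub_cancel_left, mul_assoc,
      ← mul_assoc _ ((5 : A) ^ (i + 1)), ← ((h5 _).pow_left (i + 1)).eq, pow_succ' _ (i + 1)]
    simp only [mul_assoc]
    abel
end

/-- Finite perfect groups have solvable maximal subgroups of unbounded derived length: for every d there is a finite perfect group G (equal to its commutator subgroup) with a solvable maximal subgroup H whose derived length exceeds d, i.e. the d-th term of the derived series of H is non-trivial. (Take the derived subgroup of a wreath product S ≀ A₅ with S solvable of large derived length, and H the preimage of a maximal subgroup of A₅.) -/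
theorem result (d : ℕ) :
    ∃ (G : Type) (_ : Group G) (_ : Finite G) (H : Subgroup G), commutator G = ⊤ ∧ IsCoatom H ∧ Group.IsSolvable H ∧
      derivedSeries H d ≠ ⊥ := by
  classical
  set k : ℕ := 6 ^ d + 1 with hkdef
  have hk : k ≠ 0 := Nat.succ_ne_zero _
  haveI : NeZero (5 ^ k) := ⟨by positivity⟩
  let G := Matrix.SpecialLinearGroup (Fin 2) (ZMod (5 ^ k))
  let red : G →* Matrix.SpecialLinearGroup (Fin 2) (ZMod 5) :=
    Matrix.SpecialLinearGroup.map (rd hk)
  haveI : Fact (Nat.Prime 5) := ⟨by norm_num⟩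
  have hsurj : Function.Surjective red := by
    intro g
    have hs : ∀ s : ZMod 5, xx s ∈ red.range := fun s => by
      obtain ⟨r, hr⟩ := ZMod.castHom_surjective (dvd_pow_self 5 hk) s
      exact ⟨xx r, (map_xx _ r).trans (congrArg xx hr)⟩
    have ht : ∀ s : ZMod 5, yy s ∈ red.range := fun s => by
      obtain ⟨r, hr⟩ := ZMod.castHom_surjective (dvd_pow_self 5 hk) s
      exact ⟨yy r, (map_yy _ r).trans (congrArg yy hr)⟩
    have hc : ∀ g : Matrix.SpecialLinearGroup (Fin 2) (ZMod 5), g 1 0 ≠ 0 → g ∈ red.range :=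
      fun g h => by
        rw [decomp_c g (Units.mk0 _ h) rfl]
        exact mul_mem (mul_mem (hs _) (ht _)) (hs _)
    have : g ∈ red.range := by
      by_cases h : g 1 0 = 0
      · have ha : g 0 0 ≠ 0 := by
          intro e
          have hd : g 0 0 * g 1 1 - g 0 1 * g 1 0 = 1 := by
            have := g.2; rwa [Matrix.det_fin_two] at this
          simp [e, h] at hd
        exact (red.range.mul_mem_cancel_left (ht 1)).mp
          (hc (yy 1 * g) (by simpa [Matrix.mul_apply, h] using ha))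
      · exact hc g h
    exact this
  let B : Subgroup (Matrix.SpecialLinearGroup (Fin 2) (ZMod 5)) :=
    { carrier := {g | g 1 0 = 0}
      one_mem' := by simp
      mul_mem' := fun {a b} ha hb => by
        simp only [Set.mem_ofPred_eq] at ha hb ⊢
        simp [Matrix.mul_apply, ha, hb]
      inv_mem' := fun {a} ha => by
        simp only [Set.mem_ofPred_eq] at ha ⊢
        simp [Matrix.SpecialLinearGroup.coe_inv, Matrix.adjugate_fin_two, ha] }
  have hBmax : IsCoatom B := by
    refine ⟨fun e => ?_, fun M hM => ?_⟩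
    · have : yy (1 : ZMod 5) ∈ B := e ▸ Subgroup.mem_top _
      change (yy (1 : ZMod 5)) 1 0 = 0 at this
      simp at this
    · obtain ⟨g, hgM, hgB⟩ := SetLike.exists_of_lt hM
      have hxM : ∀ s : ZMod 5, xx s ∈ M := fun s => hM.le (show (xx s) 1 0 = 0 by simp)
      have hy0 : yy (g 1 0) ∈ M := by
        have := decomp_c g (Units.mk0 _ hgB) rfl
        rw [this] at hgM
        exact (M.mul_mem_cancel_left (hxM _)).mp ((M.mul_mem_cancel_right (hxM _)).mp hgM)
      have hyn : ∀ n : ℕ, yy ((n : ZMod 5) * g 1 0) ∈ M := by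
        intro n
        induction n with
        | zero =>
          convert M.one_mem using 1
          refine Subtype.ext ?_
          ext i j; fin_cases i <;> fin_cases j <;> simp
        | succ n ih =>
          convert M.mul_mem ih hy0 using 1
          refine Subtype.ext ?_
          ext i j; fin_cases i <;> fin_cases j <;> simp [Matrix.mul_apply, add_mul, add_comm]
      have hyM : ∀ t : ZMod 5, yy t ∈ M := fun t => by
        have := hyn (t / g 1 0).val
        rwa [ZMod.natCast_zmod_val, div_mul_cancel₀ _ hgB] at this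
      refine eq_top_iff.mpr fun z _ => ?_
      by_cases h : z 1 0 = 0
      · exact hM.le h
      · rw [decomp_c z (Units.mk0 _ h) rfl]
        exact mul_mem (mul_mem (hxM _) (hyM _)) (hxM _)
  let H : Subgroup G := B.comap red
  have hperf : commutator G = ⊤ := by
    obtain ⟨u, hu⟩ := isUnit_of hk (x := (2 : ZMod (5 ^ k))) (by rw [map_ofNat]; exact two_ne)
    obtain ⟨v, hv⟩ := isUnit_of hk (x := (u : ZMod (5 ^ k)) ^ 2 - 1)
      (by rw [map_sub, map_pow, map_one, hu, map_ofNat]; exact four_ne)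
    obtain ⟨w, hw⟩ := isUnit_of hk (x := ((u⁻¹ : (ZMod (5 ^ k))ˣ) : ZMod (5 ^ k)) ^ 2 - 1) (by
      intro e
      have h1 : rd hk (u : ZMod (5 ^ k)) * rd hk ((u⁻¹ : (ZMod (5 ^ k))ˣ) : ZMod (5 ^ k)) = 1 := by
        rw [← map_mul, Units.mul_inv, map_one]
      rw [hu, map_ofNat] at h1
      rw [map_sub, map_pow, map_one] at e
      exact half_ne _ e h1)
    obtain ⟨hx, hy⟩ := xy_all (u := u) (v := ((v⁻¹ : (ZMod (5 ^ k))ˣ) : ZMod (5 ^ k)))
      (by rw [← hv, Units.mul_inv]) (w := ((w⁻¹ : (ZMod (5 ^ k))ˣ) : ZMod (5 ^ k)))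
      (by rw [← hw, Units.mul_inv])
    exact eq_top_iff.mpr fun g _ => mem_of_gens hk _ hx hy g
  refine ⟨G, inferInstance, inferInstance, H, hperf, ?_, ?_, ?_⟩
  · exact Subgroup.isCoatom_comap_of_surjective hsurj hBmax
  · -- solvable
    have hker : IsPGroup 5 red.ker := by
      intro g
      refine ⟨k, Subtype.ext (Subtype.ext ?_)⟩
      have hg : red g.1 = 1 := g.2
      set X : Matrix (Fin 2) (Fin 2) (ZMod (5 ^ k)) := (g.1 : G).1
      have hd : ∀ i j, ∃ c, X i j - (1 : Matrix (Fin 2) (Fin 2) (ZMod (5 ^ k))) i j = 5 * c := fun i j => by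
        refine five_dvd hk ?_
        have := congrArg (fun z : Matrix.SpecialLinearGroup (Fin 2) (ZMod 5) => z i j) hg
        simp only [red, map_entry, Matrix.SpecialLinearGroup.coe_one] at this
        rw [map_sub, sub_eq_zero]
        refine this.trans ?_
        fin_cases i <;> fin_cases j <;> simp
      choose c hc using hd
      obtain ⟨e, he⟩ := pow_five_pow X (Matrix.of c) (by
        refine eq_add_of_sub_eq' ?_
        ext i j
        rw [Matrix.sub_apply, hc i j]
        rw [show (5 : Matrix (Fin 2) (Fin 2) (ZMod (5 ^ k))) = Matrix.diagonal fun _ => 5 from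
          (Matrix.diagonal_ofNat 5).symm, Matrix.diagonal_mul]
        rfl) k
      have h5 : (5 : Matrix (Fin 2) (Fin 2) (ZMod (5 ^ k))) ^ (k + 1) = 0 := by
        have h : (5 : ZMod (5 ^ k)) ^ k = 0 := by exact_mod_cast ZMod.natCast_self (5 ^ k)
        rw [show (5 : Matrix (Fin 2) (Fin 2) (ZMod (5 ^ k))) = Matrix.diagonal fun _ => 5 from
          (Matrix.diagonal_ofNat 5).symm, Matrix.diagonal_pow, ← Matrix.diagonal_zero]
        congr 1
        funext i
        show (5 : ZMod (5 ^ k)) ^ (k + 1) = 0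
        linear_combination (5 : ZMod (5 ^ k)) * h
      rw [h5, zero_mul, add_zero] at he
      rw [SubmonoidClass.coe_pow, Matrix.SpecialLinearGroup.coe_pow]
      exact he
    haveI : Group.IsNilpotent red.ker := hker.isNilpotent
    haveI : Group.IsSolvable red.ker := inferInstance
    let dg : B →* (ZMod 5)ˣ :=
      { toFun := fun g => Units.mkOfMulEqOne (g.1 0 0) (g.1 1 1) (by
          have hd := g.1.2
          rw [Matrix.det_fin_two] at hd
          have h0 : g.1 1 0 = 0 := g.2
          simpa [h0] using hd)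
        map_one' := by ext; simp
        map_mul' := fun a b => by
          ext
          have h0 : b.1 1 0 = 0 := b.2
          simp [Matrix.mul_apply, h0] }
    haveI : Group.IsSolvable dg.ker := Group.isSolvable_of_comm fun a b => by
      have key : ∀ a : dg.ker, a.1.1 = xx (a.1.1 0 1) := fun a => by
        have h0 : a.1.1 1 0 = 0 := a.1.2
        have h1 : a.1.1 0 0 = 1 := congrArg Units.val a.2
        have h2 : a.1.1 1 1 = 1 := by
          have hd := a.1.1.2
          rw [Matrix.det_fin_two] at hd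
          simpa [h0, h1] using hd
        refine Subtype.ext ?_
        ext i j; fin_cases i <;> fin_cases j <;> simp [h0, h1, h2]
      refine Subtype.ext (Subtype.ext ?_)
      simp only [Subgroup.coe_mul]
      rw [key a, key b]
      refine Subtype.ext ?_
      ext i j; fin_cases i <;> fin_cases j <;> simp [Matrix.mul_apply, add_comm]
    haveI : Group.IsSolvable B :=
      Group.isSolvable_of_ker_le_range dg.ker.subtype dg (by rw [Subgroup.range_subtype])
    let q : H →* B := (red.comp H.subtype).codRestrict B fun g => g.2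
    let ι : red.ker →* H := Subgroup.inclusion fun g hg => by
      show red g ∈ B
      rw [MonoidHom.mem_ker.mp hg]; exact B.one_mem
    exact Group.isSolvable_of_ker_le_range ι q fun g hg =>
      ⟨⟨g.1, congrArg Subtype.val hg⟩, rfl⟩
  · -- derived length
    have key : ∀ j : ℕ, Lev (6 ^ j) ((derivedSeries H j).map H.subtype) := by
      intro j
      induction j with
      | zero =>
        rw [derivedSeries_zero, ← MonoidHom.range_eq_map, Subgroup.range_subtype]
        refine ⟨fun t => ?_, fun t => ?_, fun u t _ => ?_⟩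
        · show rd hk ((xx _ : G) 1 0) = 0; simp
        · show rd hk ((yy _ : G) 1 0) = 0
          simp [rd_five hk]
        · show rd hk ((hh u : G) 1 0) = 0; simp
      | succ j ih =>
        rw [derivedSeries_succ, Subgroup.map_commutator, pow_succ']
        exact lev_step hk (pow_ne_zero _ (by norm_num)) _ ih
    intro e
    have h1 := (key d).1 1
    rw [e, Subgroup.map_bot, Subgroup.mem_bot, mul_one] at h1
    have h2 := congrArg (fun z : G => z 0 1) h1
    simp only [xx] at h2
    have h3 : (((5 : ℕ) ^ (6 ^ d) : ℕ) : ZMod (5 ^ k)) = 0 := by push_cast; simpa using h2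
    rw [ZMod.natCast_eq_zero_iff] at h3
    have := Nat.le_of_dvd (by positivity) h3
    have := (Nat.pow_lt_pow_iff_right (show 1 < 5 by norm_num)).mpr (show 6 ^ d < k by omega)
    omega

end Cfsg.Agent.S5896
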