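import Cfsg.Statements.S5902
import Cfsg.Agent.Lib.Lattice.Complements

set_option autoImplicit false
open Cfsg

namespace Cfsg.Agent.S5902

/-- Let G be a finite group, X a subgroup whose own subgroup lattice is complemented, and suppose X lies in exactly one maximal subgroup M of G. Then every subgroup H of G not contained in the normal core of M has a complement in the subgroup lattice of G (some C with H ⊔ C = G and H ⊓ C = 1); in particular the subgroup lattice of G modulo the normal core of M is complemented. -/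
theorem result {G : Type*} [Group G] [Finite G] (X M : Subgroup G)
    (hK : ComplementedLattice (Subgroup X))
    (hM : IsCoatom M) (hXM : X ≤ M) (huniq : ∀ M' : Subgroup G, IsCoatom M' → X ≤ M' → M' = M) :
    (∀ H : Subgroup G, ¬ H ≤ M.normalCore → ∃ C : Subgroup G, H ⊔ C = ⊤ ∧ H ⊓ C = ⊥) ∧
    ComplementedLattice (Subgroup (G ⧸ M.normalCore)) := by
  have main : ∀ H : Subgroup G, ¬ H ≤ M.normalCore → ∃ C : Subgroup G, H ⊔ C = ⊤ ∧ H ⊓ C = ⊥ := by
    intro H hH
    have hex : ∃ g : G, ¬ H.map (MulAut.conj g).toMonoidHom ≤ M := by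
      by_contra hall
      push Not at hall
      exact hH fun h hh g => hall g ⟨h, hh, rfl⟩
    obtain ⟨g, hg⟩ := hex
    refine CfsgLib.Lattice.exists_compl_of_map (MulAut.conj g) H ?_
    refine CfsgLib.Lattice.exists_compl_of_interval ⊥ X M bot_le ?_ huniq _ hg (inf_bot_eq _)
    intro Y _ hY
    obtain ⟨C', hC'⟩ := exists_isCompl (Y.subgroupOf X)
    refine ⟨C'.map X.subtype, bot_le, Subgroup.map_subtype_le _, ?_, ?_⟩
    · conv_lhs => rw [← Subgroup.map_subgroupOf_eq_of_le hY]
      rw [← Subgroup.map_sup, hC'.sup_eq_top, ← MonoidHom.range_eq_map, Subgroup.range_subtype]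
    · conv_lhs => rw [← Subgroup.map_subgroupOf_eq_of_le hY]
      rw [← Subgroup.map_inf _ _ _ X.subtype_injective, hC'.inf_eq_bot, Subgroup.map_bot]
  refine ⟨main, ⟨fun H' => ?_⟩⟩
  have hs := QuotientGroup.mk'_surjective M.normalCore
  by_cases hb : H' = ⊥
  · exact ⟨⊤, hb ▸ isCompl_bot_top⟩
  · set H := H'.comap (QuotientGroup.mk' M.normalCore) with hHdef
    have hN : M.normalCore ≤ H := by
      have h := MonoidHom.ker_le_comap (QuotientGroup.mk' M.normalCore) H'
      rwa [QuotientGroup.ker_mk'] at h
    have hH : ¬ H ≤ M.normalCore := by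
      intro hle
      apply hb
      rw [← Subgroup.map_comap_eq_self_of_surjective hs H', ← hHdef, eq_bot_iff]
      rintro _ ⟨x, hx, rfl⟩
      exact (QuotientGroup.eq_one_iff x).mpr (hle hx)
    obtain ⟨C, h1, h2⟩ := main H hH
    refine ⟨C.map (QuotientGroup.mk' M.normalCore), ?_⟩
    have h := CfsgLib.Lattice.exists_compl_quotient M.normalCore H C hN h1 h2
    rwa [hHdef, Subgroup.map_comap_eq_self_of_surjective hs H'] at h

end Cfsg.Agent.S5902
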