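import Cfsg.Statements.S5903
import Cfsg.Agent.Lib.Lattice.Complements

set_option autoImplicit false
open Cfsg

namespace Cfsg.Agent.S5903

/-- Let G be a finite simple group, X a subgroup lying in exactly one maximal subgroup M of G, and N a subgroup of prime order with N ≤ X that is central in M. If the subgroup lattice of X/N is complemented, then the subgroup lattice of G is complemented. -/
theorem result {G : Type*} [Group G] [Finite G] [IsSimpleGroup G] (X M N : Subgroup G)
    (hM : IsCoatom M) (hXM : X ≤ M) (huniq : ∀ M' : Subgroup G, IsCoatom M' → X ≤ M' → M' = M)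
    (hNX : N ≤ X) (hN : (Nat.card N).Prime) (hcen : ∀ n ∈ N, ∀ m ∈ M, m * n = n * m)
    [(N.subgroupOf X).Normal] (hK : ComplementedLattice (Subgroup (X ⧸ N.subgroupOf X))) :
    ComplementedLattice (Subgroup G) := by
  refine ⟨fun H => ?_⟩
  by_cases hH0 : H = ⊥
  · exact ⟨⊤, hH0 ▸ isCompl_bot_top⟩
  by_cases hH1 : H = ⊤
  · exact ⟨⊥, hH1 ▸ isCompl_top_bot⟩
  have hex : ∃ g : G, ¬ H.map (MulAut.conj g).toMonoidHom ≤ M ∧
      ¬ N ≤ H.map (MulAut.conj g).toMonoidHom := by
    by_contra hcon
    have hall : ∀ g : G, ¬ H.map (MulAut.conj g).toMonoidHom ≤ M →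
        N ≤ H.map (MulAut.conj g).toMonoidHom := fun g h => by_contra fun h' => hcon ⟨g, h, h'⟩
    have hnorm : ∀ g : G, N ≤ Subgroup.normalizer ((H.map (MulAut.conj g).toMonoidHom : Subgroup G) : Set G) := by
      intro g n hn
      by_cases h : H.map (MulAut.conj g).toMonoidHom ≤ M
      · apply Subgroup.centralizer_le_normalizer
        rw [Subgroup.mem_centralizer_iff]
        intro m hm
        exact hcen n hn m (h hm)
      · exact Subgroup.le_normalizer (hall g h hn)
    have hcore : N ≤ (Subgroup.normalizer (H : Set G)).normalCore := by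
      intro n hn g
      have h := hnorm g⁻¹ hn
      rw [← Subgroup.map_equiv_normalizer_eq] at h
      obtain ⟨x, hx, hxe⟩ := h
      have : g * n * g⁻¹ = x := by
        rw [← hxe]
        simp [MulAut.conj_apply, mul_assoc]
      rw [this]
      exact hx
    rcases (Subgroup.normalCore_normal (Subgroup.normalizer (H : Set G))).eq_bot_or_eq_top with h | h
    · rw [h, le_bot_iff] at hcore
      rw [hcore, Subgroup.card_bot] at hN
      exact Nat.not_prime_one hN
    · have hnl : H.Normal := Subgroup.normalizer_eq_top_iff.mp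
        (top_le_iff.mp (h.ge.trans (Subgroup.normalCore_le _)))
      exact (hnl.eq_bot_or_eq_top).elim hH0 hH1
  obtain ⟨g, hg1, hg2⟩ := hex
  have hNT : H.map (MulAut.conj g).toMonoidHom ⊓ N = ⊥ := by
    have : Fact (Nat.card N).Prime := ⟨hN⟩
    rcases (H.map (MulAut.conj g).toMonoidHom |>.subgroupOf N).eq_bot_or_eq_top_of_prime_card with h | h
    · exact disjoint_iff.mp (Subgroup.subgroupOf_eq_bot.mp h)
    · exact absurd (Subgroup.subgroupOf_eq_top.mp h) hg2
  obtain ⟨C, h1, h2⟩ := CfsgLib.Lattice.exists_compl_of_map (MulAut.conj g) H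
    (CfsgLib.Lattice.exists_compl_of_interval N X M hNX
      (CfsgLib.Lattice.interval_of_quotient X N hNX hK) huniq _ hg1 hNT)
  exact ⟨C, disjoint_iff.mpr h2, codisjoint_iff.mpr h1⟩

end Cfsg.Agent.S5903
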