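import Cfsg.Statements.S5904
import Mathlib

set_option autoImplicit false
open scoped Pointwise
open Cfsg

namespace Cfsg.Agent.S5904

/-- Let Ω be a finite set with more than two elements and O ⊆ Ω a subset with exactly as many elements as its complement. Then the setwise stabilizer of O in the symmetric group on Ω is not a maximal subgroup (it is properly contained in the stabilizer of the partition {O, Ω ∖ O}, which is proper). -/
theorem result {Ω : Type*} [Fintype Ω] [DecidableEq Ω] (hΩ : 2 < Fintype.card Ω)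
    (O : Set Ω) (hO : Nat.card O = Nat.card ↥Oᶜ) :
    ¬ IsCoatom (MulAction.stabilizer (Equiv.Perm Ω) O) := by
  classical
  obtain ⟨e⟩ : Nonempty (↥O ≃ ↥Oᶜ) := by
    rw [Nat.card_eq_fintype_card, Nat.card_eq_fintype_card] at hO
    exact Fintype.card_eq.mp hO
  let K : Subgroup (Equiv.Perm Ω) :=
    { carrier := {g | ∀ x y, ((x ∈ O ↔ y ∈ O) ↔ (g x ∈ O ↔ g y ∈ O))}
      one_mem' := fun _ _ => Iff.rfl
      mul_mem' := fun {a b} ha hb x y => (hb x y).trans (ha (b x) (b y))
      inv_mem' := fun {a} ha x y => by simpa using (ha (a⁻¹ x) (a⁻¹ y)).symm }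
  have hle : MulAction.stabilizer (Equiv.Perm Ω) O ≤ K := by
    intro g hg x y
    have h : ∀ z, g z ∈ O ↔ z ∈ O := fun z => by
      conv_lhs => rw [← MulAction.mem_stabilizer_iff.mp hg]
      exact Set.smul_mem_smul_set_iff
    rw [h, h]
  have hne : O.Nonempty ∧ Oᶜ.Nonempty := by
    rcases O.eq_empty_or_nonempty with h | h
    · exfalso
      subst h
      haveI : IsEmpty (↥((∅ : Set Ω)ᶜ)) := e.symm.toFun |> Function.isEmpty
      have : Fintype.card Ω = 0 := Fintype.card_eq_zero_iff.mpr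
        ⟨fun w => isEmptyElim (⟨w, fun h => h⟩ : ↥((∅ : Set Ω)ᶜ))⟩
      omega
    · exact ⟨h, ⟨_, (e ⟨_, h.choose_spec⟩).2⟩⟩
  obtain ⟨⟨x, hx⟩, -⟩ := hne
  let g : Equiv.Perm Ω :=
    (Equiv.Set.sumCompl O).symm.trans ((Equiv.sumComm _ _).trans
      ((Equiv.sumCongr e.symm e).trans (Equiv.Set.sumCompl O)))
  have hg : ∀ z, g z ∈ O ↔ z ∉ O := by
    intro z
    by_cases hz : z ∈ O
    · have : g z = ((e ⟨z, hz⟩ : ↥Oᶜ) : Ω) := by
        simp [g, Equiv.Set.sumCompl_symm_apply_of_mem hz]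
      rw [this]
      exact ⟨fun h => absurd h (e ⟨z, hz⟩).2, fun h => absurd hz h⟩
    · have : g z = ((e.symm ⟨z, hz⟩ : ↥O) : Ω) := by
        simp [g, Equiv.Set.sumCompl_symm_apply_of_notMem hz]
      rw [this]
      exact ⟨fun _ => hz, fun _ => (e.symm ⟨z, hz⟩).2⟩
  intro hc
  have hgK : g ∈ K := fun a c => by rw [hg, hg]; exact not_iff_not.symm
  have hlt : MulAction.stabilizer (Equiv.Perm Ω) O < K := by
    refine SetLike.lt_iff_le_and_exists.mpr ⟨hle, g, hgK, fun h => ?_⟩
    have h1 : g x ∈ O := by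
      rw [← MulAction.mem_stabilizer_iff.mp h]
      exact Set.smul_mem_smul_set hx
    exact (hg x).mp h1 hx
  obtain ⟨y, hy⟩ : ∃ y, y ∉ O := ⟨_, (e ⟨x, hx⟩).2⟩
  -- a third point, on either side
  have htop := hc.2 K hlt
  obtain ⟨w, hwx, hwy⟩ : ∃ w, w ≠ x ∧ w ≠ y := by
    by_contra h
    push_neg at h
    have : (Finset.univ : Finset Ω) ⊆ {x, y} := fun z _ => by
      rcases eq_or_ne z x with rfl | hz
      · simp
      · simp [h z hz]
    have := Finset.card_le_card this
    rw [Finset.card_univ] at this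
    have := Finset.card_le_two (a := x) (b := y)
    omega
  by_cases hw : w ∈ O
  · have h := ((htop ▸ Subgroup.mem_top (Equiv.swap x y) : Equiv.swap x y ∈ K) x w).mp (by tauto)
    rw [Equiv.swap_apply_left, Equiv.swap_apply_of_ne_of_ne hwx hwy] at h
    tauto
  · have h := ((htop ▸ Subgroup.mem_top (Equiv.swap x y) : Equiv.swap x y ∈ K) y w).mp (by tauto)
    rw [Equiv.swap_apply_right, Equiv.swap_apply_of_ne_of_ne hwx hwy] at h
    tauto

end Cfsg.Agent.S5904
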