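import Cfsg.Statements.S5905
import Mathlib

set_option autoImplicit false
open Cfsg

namespace Cfsg.Agent.S5905

/-- Let Ω be a finite set and f : Ω → Fin b a map onto b ≥ 2 labels whose fibres all have the same size a ≥ 2 (a partition of Ω into b blocks of size a, so |Ω| = ab). Then the stabilizer of this partition in the symmetric group on Ω — the permutations g such that x and y lie in the same block exactly when g x and g y do, a group isomorphic to the imprimitive wreath product S_a ≀ S_b — is a maximal subgroup of the symmetric group. -/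
theorem result {Ω : Type*} [Fintype Ω] [DecidableEq Ω] (a b : ℕ) (ha : 2 ≤ a) (hb : 2 ≤ b)
    (f : Ω → Fin b) (hf : ∀ i : Fin b, Nat.card {x : Ω // f x = i} = a) :
    IsCoatom (Subgroup.closure {g : Equiv.Perm Ω | ∀ x y : Ω, f x = f y ↔ f (g x) = f (g y)}) := by
  classical
  set H : Subgroup (Equiv.Perm Ω) :=
    Subgroup.closure {g : Equiv.Perm Ω | ∀ x y : Ω, f x = f y ↔ f (g x) = f (g y)} with hH
  have hmem : ∀ g : Equiv.Perm Ω, g ∈ H → ∀ x y : Ω, f x = f y ↔ f (g x) = f (g y) := by
    intro g hg
    induction hg using Subgroup.closure_induction with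
    | mem g h => exact h
    | one => simp
    | mul g h _ _ hg hh => exact fun x y => (hh x y).trans (hg (h x) (h y))
    | inv g _ hg => exact fun x y => by simpa using (hg (g⁻¹ x) (g⁻¹ y)).symm
  have hfib : ∀ i : Fin b, Nonempty ({x : Ω // f x = i} ≃ Fin a) := fun i =>
    ⟨Fintype.equivFinOfCardEq (by rw [← Nat.card_eq_fintype_card, hf i])⟩
  let e : Ω ≃ Fin b × Fin a :=
    (Equiv.sigmaFiberEquiv f).symm.trans
      ((Equiv.sigmaCongrRight fun i => (hfib i).some).trans (Equiv.sigmaEquivProd _ _))
  have he : ∀ z, (e z).1 = f z := fun z => rfl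
  have hes : ∀ i k, f (e.symm (i, k)) = i := fun i k => by rw [← he, e.apply_symm_apply]
  -- swaps inside a block
  have hswap : ∀ u v : Ω, f u = f v → Equiv.swap u v ∈ H := fun u v huv =>
    Subgroup.subset_closure fun x y => by
      have : ∀ z, f (Equiv.swap u v z) = f z := fun z => by
        rw [Equiv.swap_apply_def]; split_ifs <;> simp_all
      rw [this, this]
  -- exchanging two blocks
  let B : Fin b → Fin b → Equiv.Perm Ω := fun i j =>
    (e.trans ((Equiv.swap i j).prodCongr (Equiv.refl _))).trans e.symm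
  have hB : ∀ i j z, f (B i j z) = Equiv.swap i j (f z) := fun i j z => by
    simp [B, hes, he]
  have hBH : ∀ i j, B i j ∈ H := fun i j => Subgroup.subset_closure fun x y => by
    rw [hB, hB, (Equiv.swap i j).injective.eq_iff]
  refine ⟨fun htop => ?_, fun K hK => ?_⟩
  · let i : Fin b := ⟨0, by omega⟩
    let j : Fin b := ⟨1, by omega⟩
    have := (hmem (Equiv.swap (e.symm (i, ⟨0, by omega⟩)) (e.symm (j, ⟨0, by omega⟩)))
      (htop ▸ Subgroup.mem_top _) (e.symm (i, ⟨0, by omega⟩)) (e.symm (i, ⟨1, by omega⟩))).mp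
      (by rw [hes, hes])
    rw [Equiv.swap_apply_left, Equiv.swap_apply_of_ne_of_ne (by simp [i, Fin.ext_iff])
      (by simp [i, j, Fin.ext_iff]), hes, hes] at this
    simp [i, j, Fin.ext_iff] at this
  · have hle : H ≤ K := hK.le
    let R : Ω → Ω → Prop := fun u v => Equiv.swap u v ∈ K
    have hone : ∀ u, R u u := fun u => by
      show Equiv.swap u u ∈ K; rw [Equiv.swap_self]; exact K.one_mem
    have hsymm : ∀ {u v}, R u v → R v u := fun {u v} h => by
      show Equiv.swap v u ∈ K; rwa [Equiv.swap_comm]
    have htrans : ∀ {u v w}, R u v → R v w → R u w := fun {u v w} h1 h2 => by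
      show Equiv.swap u w ∈ K
      rcases eq_or_ne u v with rfl | huv
      · exact h2
      rcases eq_or_ne u w with rfl | huw
      · exact hone u
      rcases eq_or_ne v w with rfl | hvw
      · exact h1
      have := K.mul_mem (K.mul_mem h2 h1) h2
      rw [Equiv.swap_mul_swap_mul_swap huv huw] at this
      simpa [Equiv.swap_comm] using this
    have hconj : ∀ g ∈ K, ∀ {u v}, R u v → R (g u) (g v) := fun g hg {u v} h => by
      show Equiv.swap (g u) (g v) ∈ K
      rw [Equiv.swap_apply_apply]
      exact K.mul_mem (K.mul_mem hg h) (K.inv_mem hg)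
    obtain ⟨g, hgK, hgH⟩ := SetLike.exists_of_lt hK
    obtain ⟨x₀, y₀, hxy, hR⟩ : ∃ x y, f x ≠ f y ∧ R x y := by
      by_contra hno
      push_neg at hno
      have hiff : ∀ x y, f x = f y ↔ R x y := fun x y =>
        ⟨fun h => hle (hswap x y h), fun h => by_contra fun hne => hno x y hne h⟩
      refine hgH (Subgroup.subset_closure fun x y => ?_)
      rw [hiff, hiff]
      exact ⟨fun h => hconj g hgK h,
        fun h => by simpa using hconj g⁻¹ (K.inv_mem hgK) h⟩
    have hall : ∀ z, R x₀ z := by
      intro z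
      rcases eq_or_ne (f z) (f x₀) with h | h
      · exact hle (hswap _ _ h.symm)
      set σ := B (f y₀) (f z)
      have hx : f (σ x₀) = f x₀ := by
        rw [hB]; exact Equiv.swap_apply_of_ne_of_ne hxy (Ne.symm h)
      have hy : f (σ y₀) = f z := by rw [hB, Equiv.swap_apply_left]
      exact htrans (htrans (hle (hswap _ _ hx.symm)) (hconj σ (hle (hBH _ _)) hR))
        (hle (hswap _ _ hy))
    rw [eq_top_iff, ← Equiv.Perm.closure_isSwap, Subgroup.closure_le]
    rintro _ ⟨u, v, -, rfl⟩
    exact htrans (hsymm (hall u)) (hall v)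

end Cfsg.Agent.S5905
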