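import Cfsg.Statements.S5908
import Cfsg.Agent.Lib.Classical.PSUThreeTwo

set_option autoImplicit false
set_option linter.style.haveILetI false
open Cfsg

namespace Cfsg.Agent.S5908

/-- The subgroup lattice of PSU₃(2) (the solvable group of order 72, realised over the field with 4 elements) is not complemented: some subgroup H has no subgroup X with H ⊔ X = ⊤ and H ⊓ X = ⊥. -/
theorem result {F : Type*} [Field F] [Fintype F] (hF : Fintype.card F = 4) :
    ¬ ComplementedLattice (Subgroup (Cfsg.PSU 3 F 2)) := by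
  obtain ⟨N, hN, h9, h3, ⟨e⟩⟩ := (CfsgLib.Classical.PSUThreeTwo.structure_psu hF).2.2
  let f : Cfsg.PSU 3 F 2 →* QuaternionGroup 2 := e.toMonoidHom.comp (QuotientGroup.mk' N)
  have hf : Function.Surjective f := e.surjective.comp (QuotientGroup.mk'_surjective N)
  let Z : Subgroup (QuaternionGroup 2) := Subgroup.zpowers (QuaternionGroup.a 2)
  haveI : Finite (Cfsg.PSU 3 F 2) := by
    apply Nat.finite_of_card_ne_zero
    rw [Subgroup.card_eq_card_quotient_mul_card_subgroup N, h9,
      Nat.card_congr e.toEquiv]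
    exact Nat.mul_ne_zero Nat.card_pos.ne' (by norm_num)
  intro hc
  obtain ⟨X, hX⟩ := hc.exists_isCompl (Z.comap f)
  have h2 : ∀ q : QuaternionGroup 2, q ^ 2 = 1 → q = 1 ∨ q = QuaternionGroup.a 2 := by decide
  have hord : ∀ q : QuaternionGroup 2, q ^ 4 = 1 := by decide
  have hbot : X = ⊥ := by
    rw [eq_bot_iff]
    intro x hx
    rw [Subgroup.mem_bot]
    by_contra h1
    have hne : orderOf x ≠ 1 := fun h => h1 (orderOf_eq_one_iff.1 h)
    obtain ⟨p, hp, hdvd⟩ := Nat.exists_prime_and_dvd hne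
    obtain ⟨k, hk⟩ := hdvd
    have hy : (x ^ k) ^ p = 1 := by rw [← pow_mul, mul_comm, ← hk, pow_orderOf_eq_one]
    have hyZ : f (x ^ k) ∈ Z := by
      have hq : f (x ^ k) ^ p = 1 := by rw [← map_pow, hy, map_one]
      have hd : orderOf (f (x ^ k)) ∣ p := orderOf_dvd_of_pow_eq_one hq
      have h4 : orderOf (f (x ^ k)) ∣ 4 := orderOf_dvd_of_pow_eq_one (hord _)
      rcases hp.eq_one_or_self_of_dvd _ hd with h | h
      · rw [orderOf_eq_one_iff] at h; rw [h]; exact one_mem _
      · rw [h] at h4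
        have hp2 : p = 2 :=
          (Nat.prime_dvd_prime_iff_eq hp Nat.prime_two).1 (hp.dvd_of_dvd_pow (m := 2) (n := 2) (by simpa using h4))
        subst hp2
        rcases h2 _ hq with h | h <;> rw [h]
        · exact one_mem _
        · exact Subgroup.mem_zpowers _
    have h : x ^ k ∈ Z.comap f ⊓ X := ⟨hyZ, X.pow_mem hx k⟩
    rw [hX.inf_eq_bot, Subgroup.mem_bot] at h
    have hk0 : 0 < k := Nat.pos_of_ne_zero fun h0 => by
      subst h0; exact (orderOf_pos x).ne' (by simpa using hk)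
    have := Nat.le_of_dvd hk0 (orderOf_dvd_of_pow_eq_one h)
    rw [hk] at this
    nlinarith [hp.two_le]
  have htop := hX.sup_eq_top
  rw [hbot, sup_bot_eq] at htop
  obtain ⟨g, hg⟩ := hf (QuaternionGroup.a 1)
  have hg' : g ∈ Z.comap f := by rw [htop]; trivial
  rw [Subgroup.mem_comap, hg] at hg'
  have hZ : ∀ q ∈ Z, q = 1 ∨ q = QuaternionGroup.a 2 := by
    intro q hq
    obtain ⟨m, rfl⟩ := Subgroup.mem_zpowers_iff.1 hq
    exact h2 _ (by rw [sq, ← zpow_add, ← two_mul, zpow_mul, zpow_two,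
      show (QuaternionGroup.a 2 : QuaternionGroup 2) * QuaternionGroup.a 2 = 1 by decide, one_zpow])
  have hne1 : (QuaternionGroup.a 1 : QuaternionGroup 2) ≠ 1 ∧
      (QuaternionGroup.a 1 : QuaternionGroup 2) ≠ QuaternionGroup.a 2 := by decide
  rcases hZ _ hg' with h | h
  · exact hne1.1 h
  · exact hne1.2 h

end Cfsg.Agent.S5908
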