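import Cfsg.Statements.S5909
import Mathlib

set_option autoImplicit false
open Cfsg

namespace Cfsg.Agent.S5909

theorem apply_inv' {α : Type*} (g : Equiv.Perm α) (x : α) : g (g⁻¹ x) = x := g.apply_symm_apply x

theorem inv_apply' {α : Type*} (g : Equiv.Perm α) (x : α) : g⁻¹ (g x) = x := g.symm_apply_apply x

open Equiv MulAction
open scoped Pointwise

/-- The permutations preserving the fibres of a labelling, as a group. -/
def pres {Ω β : Type*} (f : Ω → β) : Subgroup (Perm Ω) where
  carrier := {g | ∀ x y : Ω, f x = f y ↔ f (g x) = f (g y)}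
  mul_mem' {g h} hg hh x y := (hh x y).trans (hg _ _)
  one_mem' _ _ := Iff.rfl
  inv_mem' {g} hg x y := by
    have := hg (g⁻¹ x) (g⁻¹ y)
    simp only [apply_inv'] at this
    exact this.symm

theorem mem_pres {Ω β : Type*} {f : Ω → β} {g : Perm Ω} :
    g ∈ pres f ↔ ∀ x y : Ω, f x = f y ↔ f (g x) = f (g y) := Iff.rfl

variable {Ω : Type*} [DecidableEq Ω] [Fintype Ω] {β : Type*} {f : Ω → β}

omit [Fintype Ω] in
theorem map_swap {p q : Ω} (h : f p = f q) (x : Ω) : f (swap p q x) = f x := by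
  rcases eq_or_ne x p with rfl | hp
  · rw [swap_apply_left, h]
  rcases eq_or_ne x q with rfl | hq
  · rw [swap_apply_right, h]
  rw [swap_apply_of_ne_of_ne hp hq]

omit [Fintype Ω] in
theorem swap_mem {p q : Ω} (h : f p = f q) : swap p q ∈ pres f := fun x y => by
  rw [map_swap h, map_swap h]

theorem two_swaps_mem {p q r s : Ω} (h : f p = f q) (h' : f r = f s) (hpq : p ≠ q) (hrs : r ≠ s) :
    swap p q * swap r s ∈ pres f ⊓ alternatingGroup Ω :=
  ⟨mul_mem (swap_mem h) (swap_mem h'), show _ ∈ alternatingGroup Ω by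
    rw [Perm.mem_alternatingGroup, map_mul, Perm.sign_swap hpq, Perm.sign_swap hrs]; decide⟩

/-- The main argument: a subgroup of the alternating group above the stabilizer is everything. -/
theorem eq_alternating {a b : ℕ} (ha : 2 ≤ a) (hb : 2 ≤ b) (h8 : Fintype.card Ω ≠ 8) (f : Ω → Fin b)
    (hf : ∀ i : Fin b, Nat.card {x : Ω // f x = i} = a) (M : Subgroup (Perm Ω))
    (hM : M ≤ alternatingGroup Ω) (hle : pres f ⊓ alternatingGroup Ω ≤ M)
    {m : Perm Ω} (hmM : m ∈ M) (hm : m ∉ pres f) : M = alternatingGroup Ω := by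
  classical
  have hcard : Fintype.card Ω = a * b := by
    rw [← Fintype.card_congr (Equiv.sigmaFiberEquiv f), Fintype.card_sigma,
      Finset.sum_congr rfl fun i _ => (Nat.card_eq_fintype_card.symm.trans (hf i)), Finset.sum_const,
      Finset.card_univ, Fintype.card_fin, smul_eq_mul, mul_comm]
  -- elements permuting the fibres
  let ε : ∀ i : Fin b, Fin a ≃ {x : Ω // f x = i} := fun i => (Finite.equivFinOfCardEq (hf i)).symm
  have other : ∀ x : Ω, ∃ y, y ≠ x ∧ f y = f x := fun x => by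
    obtain ⟨y, hy⟩ := Fintype.exists_ne_of_one_lt_card (by rw [← Nat.card_eq_fintype_card, hf]; omega :
      1 < Fintype.card {z : Ω // f z = f x}) (⟨x, rfl⟩ : {z : Ω // f z = f x})
    exact ⟨y.1, fun h => hy (Subtype.ext h), y.2⟩
  have hperm : ∀ π : Perm (Fin b), ∃ g ∈ pres f ⊓ alternatingGroup Ω, ∀ x, f (g x) = π (f x) := by
    intro π
    let e : (Fin b × Fin a) ≃ Ω :=
      ((Equiv.sigmaEquivProd (Fin b) (Fin a)).symm.trans (Equiv.sigmaCongrRight ε)).trans (Equiv.sigmaFiberEquiv f)
    have he : ∀ z, f (e z) = z.1 := fun z => (ε z.1 z.2).2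
    let g : Perm Ω := e.permCongr (Equiv.prodCongr π (Equiv.refl _))
    have hg : ∀ x, f (g x) = π (f x) := fun x => by
      obtain ⟨z, rfl⟩ := e.surjective x
      simp [g, he]
    have hgP : g ∈ pres f := fun x y => by rw [hg, hg, π.injective.eq_iff]
    rcases Int.units_eq_one_or (Perm.sign g) with h | h
    · exact ⟨g, ⟨hgP, Perm.mem_alternatingGroup.mpr h⟩, hg⟩
    · obtain ⟨p, -⟩ := e.surjective (e (⟨0, by omega⟩, ⟨0, by omega⟩))
      obtain ⟨q, hq, hfq⟩ := other (e p)
      refine ⟨g * swap q (e p), ⟨mul_mem hgP (swap_mem hfq), show _ ∈ alternatingGroup Ω from ?_⟩, fun x => by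
        rw [Perm.mul_apply, hg, map_swap hfq]⟩
      rw [Perm.mem_alternatingGroup, map_mul, h, Perm.sign_swap hq]; decide
  have hmem : ∀ {p q r s : Ω}, f p = f q → f r = f s → p ≠ q → r ≠ s → swap p q * swap r s ∈ M :=
    fun h h' hpq hrs => hle (two_swaps_mem h h' hpq hrs)
  -- the case of four points
  by_cases h4 : a = 2 ∧ b = 2
  · obtain ⟨rfl, rfl⟩ := h4
    set S := pres f ⊓ alternatingGroup Ω
    obtain ⟨x, hx⟩ : ∃ x, f x = (0 : Fin 2) := ⟨_, (ε 0 0).2⟩
    obtain ⟨y, hy⟩ : ∃ y, f y = (1 : Fin 2) := ⟨_, (ε 1 0).2⟩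
    obtain ⟨x', hx1, hx2⟩ := other x
    obtain ⟨y', hy1, hy2⟩ := other y
    obtain ⟨g, hg, hg'⟩ := hperm (swap 0 1)
    let d : Perm Ω := swap x x' * swap y y'
    have hdS : d ∈ S := two_swaps_mem hx2.symm hy2.symm hx1.symm hy1.symm
    have hdx : d x = x' := by
      have h1 : x ≠ y := fun h => by rw [h, hy] at hx; exact absurd hx (by decide)
      have h2 : x ≠ y' := fun h => by rw [h, hy2, hy] at hx; exact absurd hx (by decide)
      simp [d, swap_apply_of_ne_of_ne h1 h2]
    have hgx : f (g x) = 1 := by rw [hg', hx, swap_apply_left]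
    have hdgx : f ((d * g) x) = 1 := by
      rw [Perm.mul_apply, show f (d (g x)) = f (g x) by simp [d, map_swap hx2.symm, map_swap hy2.symm], hgx]
    have hne : d * g ≠ g := fun h => by
      have : d = 1 := mul_eq_right.mp h
      rw [this] at hdx
      exact hx1 hdx.symm
    have hsub : ({1, d, g, d * g} : Finset (Perm Ω)) ⊆ Finset.univ.filter (· ∈ S) := by
      intro z hz
      simp only [Finset.mem_insert, Finset.mem_singleton] at hz
      rcases hz with rfl | rfl | rfl | rfl <;> simp [hdS, hg, one_mem, mul_mem]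
    have h1d : (1 : Perm Ω) ≠ d := fun h => hx1 (by rw [← hdx, ← h]; rfl)
    have hfix : ∀ z : Perm Ω, f (z x) = 1 → z ≠ 1 ∧ z ≠ d := fun z hz => by
      refine ⟨?_, ?_⟩ <;> rintro rfl
      · exact absurd (hz.symm.trans hx) (by decide)
      · rw [hdx, hx2, hx] at hz; exact absurd hz (by decide)
    have hc4 : ({1, d, g, d * g} : Finset (Perm Ω)).card = 4 := by
      rw [Finset.card_insert_of_notMem (by simp [h1d, (hfix g hgx).1.symm, (hfix _ hdgx).1.symm]),
        Finset.card_insert_of_notMem (by simp [(hfix g hgx).2.symm, (hfix _ hdgx).2.symm]),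
        Finset.card_pair hne.symm]
    have hS4 : 4 ≤ Nat.card S := by
      rw [Nat.card_eq_fintype_card, Fintype.card_subtype]
      exact hc4 ▸ Finset.card_le_card hsub
    have : Nontrivial Ω := ⟨x', x, hx1⟩
    have hA : Nat.card (alternatingGroup Ω) = 12 := by
      rw [nat_card_alternatingGroup, Nat.card_eq_fintype_card, hcard]; rfl
    have h12 : Nat.card M ∣ 12 := hA ▸ Subgroup.card_dvd_of_le hM
    have hSM : Nat.card S ∣ Nat.card M := Subgroup.card_dvd_of_le hle
    have hlt : Nat.card S ≠ Nat.card M := fun h =>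
      hm (((Subgroup.eq_of_le_of_card_ge hle h.ge) ▸ hmM : m ∈ S)).1
    refine Subgroup.eq_of_le_of_card_ge hM ?_
    rw [hA]
    obtain ⟨c, hc⟩ := hSM
    have hc2 : 2 ≤ c := by
      rcases c with _ | _ | c
      · rw [mul_zero] at hc; exact absurd hc Nat.card_pos.ne'
      · simp only [zero_add, mul_one] at hc; exact absurd hc.symm hlt
      · omega
    have h8' : 8 ≤ Nat.card M := hc ▸ Nat.mul_le_mul hS4 hc2
    obtain ⟨k, hk⟩ := h12
    rcases k with _ | _ | k
    · simp at hk
    · omega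
    · nlinarith
  -- at least five points: blocks of `M`
  have hb3 : a = 2 → 3 ≤ b := fun h => by rcases eq_or_ne b 2 with rfl | hb2; exacts [absurd ⟨h, rfl⟩ h4, by omega]
  have third : 3 ≤ a → ∀ x y : Ω, f x = f y → ∃ z, z ≠ x ∧ z ≠ y ∧ f z = f x := fun h3 x y hxy => by
    obtain ⟨z, hz, hz'⟩ := Finset.exists_mem_notMem_of_card_lt_card
      (s := ({x, y} : Finset Ω)) (t := Finset.univ.filter (f · = f x)) (by
        have := hf (f x)
        rw [Nat.card_eq_fintype_card, Fintype.card_subtype] at this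
        rw [this]
        exact lt_of_le_of_lt Finset.card_le_two (by omega))
    exact ⟨z, fun h => hz' (by simp [h]), fun h => hz' (by simp [h]), (Finset.mem_filter.mp hz).2⟩
  have away : ∀ s : Finset (Fin b), s.card < b → ∃ z, f z ∉ s := fun s hs => by
    obtain ⟨i, hi⟩ := Finset.exists_mem_notMem_of_card_lt_card
      (s := s) (t := Finset.univ) (by simpa using hs)
    exact ⟨ε i ⟨0, by omega⟩, by rw [(ε i _).2]; exact hi.2⟩
  -- moving a point inside its fibre while fixing another
  have move : ∀ x y y2 : Ω, f x ≠ f y → f y2 = f y → y2 ≠ y → ∃ g ∈ M, g x = x ∧ g y = y2 := by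
    intro x y y2 hxy h2 hne
    have hxy' : x ≠ y := fun h => hxy (by rw [h])
    have hx2 : x ≠ y2 := fun h => hxy (by rw [h, h2])
    rcases eq_or_lt_of_le ha with h | h
    · obtain ⟨z, hz⟩ := away {f x, f y} (lt_of_le_of_lt Finset.card_le_two (by have := hb3 h.symm; omega))
      simp only [Finset.mem_insert, Finset.mem_singleton, not_or] at hz
      obtain ⟨z', hz1, hz2⟩ := other z
      refine ⟨swap y y2 * swap z z', hmem h2.symm hz2.symm hne.symm hz1.symm, ?_, ?_⟩
      · rw [Perm.mul_apply, swap_apply_of_ne_of_ne (a := z) (b := z') (fun e => hz.1 (by rw [e]))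
          (fun e => hz.1 (by rw [e, hz2])), swap_apply_of_ne_of_ne hxy' hx2]
      · rw [Perm.mul_apply, swap_apply_of_ne_of_ne (a := z) (b := z') (fun e => hz.2 (by rw [e]))
          (fun e => hz.2 (by rw [e, hz2])), swap_apply_left]
    · obtain ⟨y3, h31, h32, h3f⟩ := third h y y2 h2.symm
      refine ⟨swap y y3 * swap y y2, hmem h3f.symm h2.symm h31.symm hne.symm, ?_, ?_⟩
      · rw [Perm.mul_apply, swap_apply_of_ne_of_ne hxy' hx2,
          swap_apply_of_ne_of_ne hxy' (fun e => hxy (by rw [e, h3f]))]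
      · rw [Perm.mul_apply, swap_apply_left, swap_apply_of_ne_of_ne hne h32.symm]
  have hne : Nonempty Ω := ⟨ε ⟨0, by omega⟩ ⟨0, by omega⟩⟩
  have hprim : IsPreprimitive M Ω := by
    refine IsPreprimitive.mk' ?_ ?_
    · intro htop
      obtain ⟨x⟩ := hne
      obtain ⟨y, hy⟩ := away {f x} (by rw [Finset.card_singleton]; omega)
      obtain ⟨x', hx', hfx'⟩ := other x
      obtain ⟨g, hg, -, hg2⟩ := move y x x' (by simpa using hy) hfx' hx'
      have : x ∈ fixedPoints M Ω := by rw [htop]; trivial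
      exact hx' (hg2.symm.trans (this ⟨g, hg⟩))
    intro B hB
    rw [MulAction.IsTrivialBlock]
    by_contra hcon
    push Not at hcon
    obtain ⟨hsub, huniv⟩ := hcon
    obtain ⟨x, hx, y, hy, hxy⟩ := hsub
    have key : ∀ g ∈ M, ∀ p ∈ B, g p ∈ B → ∀ q ∈ B, g q ∈ B := by
      intro g hg p hp hgp q hq
      have h1 : (⟨g, hg⟩ : M) • B = B := by
        have h2 := hB.smul_eq_smul_of_nonempty (g₁ := (⟨g, hg⟩ : M)) (g₂ := 1)
          ⟨g p, ⟨p, hp, rfl⟩, by rwa [one_smul]⟩
        rwa [one_smul] at h2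
      rw [← h1]
      exact ⟨q, hq, rfl⟩
    have step : ∀ p ∈ B, ∀ q ∈ B, f p ≠ f q → ∀ z, f z = f q → z ∈ B := by
      intro p hp q hq hpq z hz
      rcases eq_or_ne z q with rfl | hzq
      · exact hq
      obtain ⟨g, hg, hgp, hgq⟩ := move p q z hpq hz hzq
      exact hgq ▸ key g hg p hp (by rwa [hgp]) q hq
    -- `B` contains the fibre of `x`
    have hfib : ∀ z, f z = f x → z ∈ B := by
      rcases eq_or_ne (f x) (f y) with he | he
      · intro z hz
        rcases eq_or_ne z x with rfl | hzx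
        · exact hx
        rcases eq_or_ne z y with rfl | hzy
        · exact hy
        have := key (swap x z * swap x y) (hmem hz.symm he hzx.symm hxy) x hx
          (by rw [Perm.mul_apply, swap_apply_left, swap_apply_of_ne_of_ne hxy.symm hzy.symm]; exact hy) y hy
        rwa [Perm.mul_apply, swap_apply_right, swap_apply_left] at this
      · exact step y hy x hx (Ne.symm he)
    by_cases hone : ∀ z ∈ B, f z = f x
    · -- the fibres are blocks of `M`
      have hBeq : ∀ z, z ∈ B ↔ f z = f x := fun z => ⟨hone z, hfib z⟩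
      have hmap : ∀ p : Ω, ∃ g : M, ∀ q, q ∈ g • B ↔ f q = f p := by
        intro p
        obtain ⟨g, hg, hgf⟩ := hperm (swap (f x) (f p))
        refine ⟨⟨g, hle hg⟩, fun q => ?_⟩
        rw [Set.mem_smul_set_iff_inv_smul_mem, hBeq]
        show f (g⁻¹ q) = f x ↔ _
        constructor
        · intro h
          rw [← apply_inv' g q, hgf, h, swap_apply_left]
        · intro h
          apply (swap (f x) (f p)).injective
          rw [← hgf, apply_inv', h, swap_apply_left]
      refine hm fun p q => ?_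
      obtain ⟨g, hg⟩ := hmap p
      obtain ⟨g', hg'⟩ := hmap (m p)
      have h1 : (⟨m, hmM⟩ : M) • (g • B) = g' • B := by
        rw [smul_smul]
        refine hB.smul_eq_smul_of_nonempty ⟨m p, ?_, (hg' _).mpr rfl⟩
        rw [mul_smul]
        exact ⟨p, (hg p).mpr rfl, rfl⟩
      constructor
      · intro h
        have : m q ∈ g' • B := h1 ▸ ⟨q, (hg q).mpr h.symm, rfl⟩
        exact ((hg' _).mp this).symm
      · intro h
        have : m q ∈ (⟨m, hmM⟩ : M) • (g • B) := h1 ▸ (hg' _).mpr h.symm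
        obtain ⟨q', hq', he⟩ := this
        rw [← m.injective he]
        exact ((hg q').mp hq').symm
    · push Not at hone
      obtain ⟨w, hw, hwx⟩ := hone
      have hfw := step x hx w hw (Ne.symm hwx)
      refine huniv (Set.eq_univ_of_forall fun z => ?_)
      by_cases hzx : f z = f x
      · exact hfib z hzx
      obtain ⟨g, hg, hgf⟩ := hperm (swap (f w) (f z))
      have hgx : g x ∈ B := hfib _ (by rw [hgf, swap_apply_of_ne_of_ne (Ne.symm hwx) (Ne.symm hzx)])
      have hgw := key g (hle hg) x hx hgx w hw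
      refine step x hx _ hgw ?_ z ?_ <;> rw [hgf, swap_apply_left]
      exact Ne.symm hzx
  refine le_antisymm hM ?_
  -- a 3-cycle
  suffices h : ∃ g ∈ M, Perm.IsThreeCycle g by
    obtain ⟨g, hg, h3⟩ := h
    exact Perm.alternatingGroup_le_of_isPreprimitive_of_isThreeCycle_mem hprim h3 hg
  rcases eq_or_lt_of_le ha with ha2 | ha3
  swap
  · obtain ⟨x⟩ := hne
    obtain ⟨y, hy, hfy⟩ := other x
    obtain ⟨z, hz1, hz2, hfz⟩ := third ha3 x y hfy.symm
    exact ⟨swap x y * swap x z, hmem hfy.symm hfz.symm hy.symm hz1.symm,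
      Perm.isThreeCycle_swap_mul_swap_same hy.symm hz1.symm hz2.symm⟩
  have pr : ∀ x : Ω, ∃ y, y ≠ x ∧ f y = f x ∧ ∀ z, f z = f x → z = x ∨ z = y := by
    intro x
    obtain ⟨y, hy, hfy⟩ := other x
    refine ⟨y, hy, hfy, fun z hz => ?_⟩
    by_contra hcon
    push Not at hcon
    have h1 : ({x, y, z} : Finset Ω).card ≤ a := by
      have := hf (f x)
      rw [Nat.card_eq_fintype_card, Fintype.card_subtype] at this
      rw [← this]
      refine Finset.card_le_card fun w hw => ?_
      simp only [Finset.mem_insert, Finset.mem_singleton] at hw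
      rcases hw with rfl | rfl | rfl <;> simp [hfy, hz]
    rw [Finset.card_insert_of_notMem (by simp [hy.symm, hcon.1.symm]), Finset.card_pair hcon.2.symm] at h1
    omega
  choose p hp hfp hpu using pr
  have hinj : ∀ x y, f y = f x → y ≠ x → y = p x := fun x y h hne => (hpu x y h).resolve_left hne
  have hpp : ∀ x, p (p x) = x := fun x => (hinj (p x) x (hfp x).symm (hp x).symm).symm
  have hpd : ∀ x y, f y ≠ f x → y ≠ x ∧ y ≠ p x := fun x y h =>
    ⟨fun e => h (by rw [e]), fun e => h (by rw [e, hfp])⟩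
  obtain ⟨x₀, hx₀⟩ : ∃ x₀, m (p x₀) ≠ p (m x₀) := by
    by_contra hcon
    push Not at hcon
    refine hm fun x y => ⟨fun h => ?_, fun h => ?_⟩
    · rcases hpu x y h.symm with rfl | rfl
      · rfl
      · rw [hcon, hfp]
    · rcases hpu (m x) (m y) h.symm with h1 | h1
      · rw [m.injective h1]
      · rw [← hcon] at h1
        rw [m.injective h1, hfp]
  set u := m x₀ with hu
  set v := m (p x₀) with hv
  have huv : u ≠ v := fun h => hp x₀ (m.injective h).symm
  have hconj : ∀ x y : Ω, m * (swap x (p x) * swap y (p y)) * m⁻¹ = swap (m x) (m (p x)) * swap (m y) (m (p y)) := by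
    intro x y
    rw [Equiv.swap_apply_apply m x (p x), Equiv.swap_apply_apply m y (p y)]
    group
  have htM : ∀ y, swap u v * swap (m y) (m (p y)) ∈ M := fun y => by
    rw [hu, hv, ← hconj]
    exact mul_mem (mul_mem hmM (hmem (hfp x₀).symm (hfp y).symm (hp x₀).symm (hp y).symm)) (inv_mem hmM)
  have hdist : ∀ y, f y ≠ f x₀ → m y ≠ u ∧ m y ≠ v ∧ m (p y) ≠ u ∧ m (p y) ≠ v := fun y hy => by
    have h1 := hpd x₀ y hy
    have h2 := hpd x₀ (p y) (by rw [hfp]; exact hy)
    exact ⟨m.injective.ne h1.1, m.injective.ne h1.2, m.injective.ne h2.1, m.injective.ne h2.2⟩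
  have hthree : Perm.IsThreeCycle (swap u v * swap u (p u)) :=
    Perm.isThreeCycle_swap_mul_swap_same huv (hp u).symm hx₀
  by_cases hA : ∃ y, f y ≠ f x₀ ∧ m (p y) = p (m y)
  · obtain ⟨y, hy, hpy⟩ := hA
    refine ⟨_, ?_, hthree⟩
    have h1 := mul_mem (htM y) (hmem (hfp (m y)).symm (hfp u).symm (hp _).symm (hp u).symm)
    rwa [hpy, mul_assoc (swap u v), ← mul_assoc (swap (m y) (p (m y))) (swap (m y) (p (m y))),
      swap_mul_self, one_mul] at h1
  push Not at hA
  have hab := hcard
  rw [← ha2] at hab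
  obtain hb5 | rfl : 5 ≤ b ∨ b = 3 := by have := hb3 ha2.symm; omega
  · -- many blocks
    obtain ⟨y, hy⟩ := away {f x₀, f (m⁻¹ (p u))} (lt_of_le_of_lt Finset.card_le_two (by omega))
    simp only [Finset.mem_insert, Finset.mem_singleton, not_or] at hy
    obtain ⟨hw1, hw2, hz1, hz2⟩ := hdist y hy.1
    obtain ⟨c, hc⟩ := away {f u, f v, f (m y), f (m (p y))} (lt_of_le_of_lt Finset.card_le_four (by omega))
    simp only [Finset.mem_insert, Finset.mem_singleton, not_or] at hc
    set w := m y with hw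
    set z := m (p y) with hz
    have hwu : p u ≠ w := fun h => hy.2 (by rw [h, hw, inv_apply'])
    have hzu : p u ≠ z := fun h => hy.2 (by rw [h, hz, inv_apply', hfp])
    have hT := mul_mem (htM y) (hmem (hfp u).symm (hfp c).symm (hp u).symm (hp c).symm)
    have hnc : ∀ q, f c ≠ f q → c ≠ q ∧ p c ≠ q := fun q hq =>
      ⟨fun e => hq (by rw [e]), fun e => hq (by rw [← e, hfp])⟩
    have hcom : ∀ {p1 q1 p2 q2 : Ω}, p1 ≠ p2 → p1 ≠ q2 → q1 ≠ p2 → q1 ≠ q2 →
        Commute (swap p1 q1) (swap p2 q2) := fun {p1 q1 p2 q2} h1 h2 h3 h4 => by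
      refine Perm.Disjoint.commute fun s => ?_
      by_cases hs : s = p1 ∨ s = q1
      · right; rcases hs with rfl | rfl <;> exact swap_apply_of_ne_of_ne (by assumption) (by assumption)
      · left; push Not at hs; exact swap_apply_of_ne_of_ne hs.1 hs.2
    set A := swap u v
    set W := swap w z
    set D := swap u (p u)
    set C := swap c (p c)
    have hWD : Commute W D := hcom hw1 hwu.symm hz1 hzu.symm
    have hCA : Commute C A := hcom (hnc u hc.1).1 (hnc v hc.2.1).1 (hnc u hc.1).2 (hnc v hc.2.1).2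
    have hCD : Commute C D := hcom (hnc u hc.1).1 (hnc (p u) (by rw [hfp]; exact hc.1)).1 (hnc u hc.1).2
      (hnc (p u) (by rw [hfp]; exact hc.1)).2
    have hCW : Commute C W := hcom (hnc w hc.2.2.1).1 (hnc z hc.2.2.2).1 (hnc w hc.2.2.1).2 (hnc z hc.2.2.2).2
    have hWA : Commute W A := hcom hw1 hw2 hz1 hz2
    have h2 : (A * W * (D * C)) ^ 2 = (A * D) ^ 2 := by
      have e1 : A * W * (D * C) = A * D * (W * C) := by
        rw [← mul_assoc, mul_assoc A W D, hWD.eq]; simp only [mul_assoc]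
      have e2 : Commute (A * D) (W * C) :=
        ((hWA.symm.mul_right hCA.symm)).mul_left ((hWD.symm.mul_right hCD.symm))
      have e3 : (W * C) ^ 2 = 1 := by
        rw [hCW.symm.mul_pow, sq, sq, swap_mul_self, swap_mul_self, one_mul]
      rw [e1, e2.mul_pow, e3, mul_one]
    refine ⟨_, h2 ▸ pow_mem hT 2, ?_⟩
    rw [sq]
    exact hthree.isThreeCycle_sq
  · -- six points
    set v' := p v with hv'
    set x₁ := m⁻¹ v' with hx₁
    have hmx1 : m x₁ = v' := by rw [hx₁, apply_inv']
    have hv'u : v' ≠ u := fun h => hx₀ (by show v = p u; rw [← h, hv', hpp])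
    have hfx1 : f x₁ ≠ f x₀ := fun h => by
      rcases hpu x₀ x₁ h with e | e
      · exact hv'u (by rw [← hmx1, e])
      · exact hp v (by rw [← hv', ← hmx1, e])
    set r' := m (p x₁) with hr'
    obtain ⟨-, -, hr1, hr2⟩ := hdist x₁ hfx1
    have hr3 : r' ≠ v' := fun h => hp x₁ (m.injective (h.trans hmx1.symm))
    have hu'v : p u ≠ v := fun h => hx₀ h.symm
    have hu'v' : p u ≠ v' := fun h => huv (by rw [← hpp u, h, hv', hpp])
    obtain ⟨y, hy⟩ := away {f x₀, f x₁} (lt_of_le_of_lt Finset.card_le_two (by omega))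
    simp only [Finset.mem_insert, Finset.mem_singleton, not_or] at hy
    have hall : ∀ s : Ω, s = x₀ ∨ s = p x₀ ∨ s = x₁ ∨ s = p x₁ ∨ s = y ∨ s = p y := by
      intro s
      have : f s = f x₀ ∨ f s = f x₁ ∨ f s = f y := by
        have key : ∀ i j k l : Fin 3, i ≠ j → k ≠ i → k ≠ j → l = i ∨ l = j ∨ l = k := by decide
        exact key _ _ _ _ (Ne.symm hfx1) hy.1 hy.2
      rcases this with h | h | h
      · rcases hpu _ _ h with h | h <;> simp [h]
      · rcases hpu _ _ h with h | h <;> simp [h]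
      · rcases hpu _ _ h with h | h <;> simp [h]
    have himg : ∀ s : Ω, s = u ∨ s = v ∨ s = v' ∨ s = r' ∨ s = m y ∨ s = m (p y) := by
      intro s
      obtain ⟨t, rfl⟩ := m.surjective s
      rcases hall t with rfl | rfl | rfl | rfl | rfl | rfl <;> simp [← hu, ← hv, hmx1, ← hr']
    obtain ⟨hy1, hy2, hy3, hy4⟩ := hdist y hy.1
    have hy5 := hA y hy.1
    have hy6 : m y ≠ v' ∧ m (p y) ≠ v' ∧ m y ≠ r' ∧ m (p y) ≠ r' := by
      have h1 := hpd x₁ y hy.2
      have h2 := hpd x₁ (p y) (by rw [hfp]; exact hy.2)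
      exact ⟨hmx1 ▸ m.injective.ne h1.1, hmx1 ▸ m.injective.ne h2.1, m.injective.ne h1.2, m.injective.ne h2.2⟩
    have hr4 : r' ≠ p u := by
      intro h
      -- then the images of the third pair form a fibre
      apply hy5
      rcases himg (p (m y)) with e | e | e | e | e | e
      · exact absurd (by rw [h, ← e, hpp] : r' = m y) hy6.2.2.1.symm
      · exact absurd (by rw [hv', ← e, hpp] : v' = m y) hy6.1.symm
      · exact absurd (by rw [← hpp v, ← hv', ← e, hpp] : v = m y) hy2.symm
      · exact absurd (by rw [← hpp u, ← h, ← e, hpp] : u = m y) hy1.symm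
      · exact absurd e (hp _)
      · exact e.symm
    have hu'' : p u = m y ∨ p u = m (p y) := by
      rcases himg (p u) with e | e | e | e | e | e
      · exact absurd e (hp u)
      · exact absurd e hu'v
      · exact absurd e hu'v'
      · exact absurd e.symm hr4
      · exact Or.inl e
      · exact Or.inr e
    obtain ⟨y, hyu, hfy, hfy0⟩ : ∃ z, m z = p u ∧ f z ≠ f x₁ ∧ f z ≠ f x₀ := by
      rcases hu'' with e | e
      · exact ⟨y, e.symm, hy.2, hy.1⟩
      · exact ⟨p y, e.symm, by rw [hfp]; exact hy.2, by rw [hfp]; exact hy.1⟩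
    obtain ⟨-, -, hs1, hs2⟩ := hdist y hfy0
    set r := m (p y) with hr
    have hs3 : r ≠ v' := hmx1 ▸ m.injective.ne (hpd x₁ (p y) (by rw [hfp]; exact hfy)).1
    have hs4 : r ≠ r' := m.injective.ne (hpd x₁ (p y) (by rw [hfp]; exact hfy)).2
    have hs5 : r ≠ p u := hyu ▸ m.injective.ne (hp y)
    have hall' : ∀ t : Ω, t = x₀ ∨ t = p x₀ ∨ t = x₁ ∨ t = p x₁ ∨ t = y ∨ t = p y := by
      intro t
      have : f t = f x₀ ∨ f t = f x₁ ∨ f t = f y := by
        have key : ∀ i j k l : Fin 3, i ≠ j → k ≠ i → k ≠ j → l = i ∨ l = j ∨ l = k := by decide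
        exact key _ _ _ _ (Ne.symm hfx1) hfy0 hfy
      rcases this with h | h | h
      · rcases hpu _ _ h with h | h <;> simp [h]
      · rcases hpu _ _ h with h | h <;> simp [h]
      · rcases hpu _ _ h with h | h <;> simp [h]
    have hpr : p r = r' := by
      obtain ⟨t, ht⟩ := m.surjective (p r)
      rcases hall' t with rfl | rfl | rfl | rfl | rfl | rfl
      · exact absurd (by rw [hu, ht, hpp] : p u = r) hs5.symm
      · exact absurd (by rw [hv', hv, ht, hpp] : v' = r) hs3.symm
      · exact absurd (by rw [← hpp v, ← hv', ← hmx1, ht, hpp] : v = r) hs2.symm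
      · exact ht.symm
      · exact absurd (by rw [← hpp u, ← hyu, ht, hpp] : u = r) hs1.symm
      · exact absurd ht.symm (hp r)
    set τ := swap (p u) r' * swap (p u) v with hτ
    have h3 : Perm.IsThreeCycle τ :=
      Perm.isThreeCycle_swap_mul_swap_same hr4.symm hu'v (fun h => hr2 h)
    refine ⟨τ, ?_, h3⟩
    have hτA : τ ∈ alternatingGroup Ω := h3.mem_alternatingGroup
    have e0 : τ⁻¹ u = u := by
      rw [Perm.inv_eq_iff_eq, hτ, Perm.mul_apply, swap_apply_of_ne_of_ne (hp u).symm huv,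
        swap_apply_of_ne_of_ne (hp u).symm hr1.symm]
    have e1 : τ⁻¹ v = p u := by
      rw [Perm.inv_eq_iff_eq, hτ, Perm.mul_apply, swap_apply_left, swap_apply_of_ne_of_ne hu'v.symm hr2.symm]
    have e2 : τ⁻¹ v' = v' := by
      rw [Perm.inv_eq_iff_eq, hτ, Perm.mul_apply, swap_apply_of_ne_of_ne hu'v'.symm (hp v),
        swap_apply_of_ne_of_ne hu'v'.symm hr3.symm]
    have e3 : τ⁻¹ r' = v := by
      rw [Perm.inv_eq_iff_eq, hτ, Perm.mul_apply, swap_apply_right, swap_apply_left]
    have e4 : τ⁻¹ (p u) = r' := by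
      rw [Perm.inv_eq_iff_eq, hτ, Perm.mul_apply, swap_apply_of_ne_of_ne hr4 hr2, swap_apply_right]
    have e5 : τ⁻¹ r = r := by
      rw [Perm.inv_eq_iff_eq, hτ, Perm.mul_apply, swap_apply_of_ne_of_ne hs5 hs2,
        swap_apply_of_ne_of_ne hs5 hs4]
    have hg : ∀ s, (τ⁻¹ * m) (p s) = p ((τ⁻¹ * m) s) := by
      intro s
      simp only [Perm.mul_apply]
      rcases hall' s with rfl | rfl | rfl | rfl | rfl | rfl
      · rw [← hv, ← hu, e1, e0]
      · rw [hpp, ← hv, ← hu, e0, e1, hpp]
      · rw [← hr', hmx1, e3, e2, hv', hpp]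
      · rw [hpp, ← hr', hmx1, e2, e3, hv']
      · rw [← hr, hyu, e5, e4, ← hpr, hpp]
      · rw [hpp, ← hr, hyu, e4, e5, hpr]
    have hgP : τ⁻¹ * m ∈ pres f := by
      intro s t
      constructor
      · intro h
        rcases hpu s t h.symm with rfl | rfl
        · rfl
        · rw [hg, hfp]
      · intro h
        rcases hpu _ _ h.symm with e | e
        · rw [(τ⁻¹ * m).injective e]
        · rw [← hg] at e
          rw [(τ⁻¹ * m).injective e, hfp]
    have := mul_mem hmM (inv_mem (hle ⟨hgP, (alternatingGroup Ω).mul_mem ((alternatingGroup Ω).inv_mem hτA) (hM hmM)⟩))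
    rwa [mul_inv_rev, inv_inv, mul_inv_cancel_left] at this

/-- Let Ω be a finite set whose size is not 8, and f : Ω → Fin b a labelling with b ≥ 2 whose fibres all have the same size a ≥ 2 (a partition into b blocks of size a). Then the even permutations preserving the partition — the intersection of the imprimitive wreath product S_a ≀ S_b with the alternating group — form a maximal subgroup of the alternating group on Ω. -/
theorem result {Ω : Type*} [Fintype Ω] [DecidableEq Ω] (h8 : Fintype.card Ω ≠ 8) (a b : ℕ) (ha : 2 ≤ a) (hb : 2 ≤ b)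
    (f : Ω → Fin b) (hf : ∀ i : Fin b, Nat.card {x : Ω // f x = i} = a) :
    IsCoatom ((Subgroup.closure {g : Equiv.Perm Ω | ∀ x y : Ω, f x = f y ↔ f (g x) = f (g y)} ⊓ alternatingGroup Ω).subgroupOf (alternatingGroup Ω)) := by
  classical
  have hP : Subgroup.closure {g : Equiv.Perm Ω | ∀ x y : Ω, f x = f y ↔ f (g x) = f (g y)} = pres f :=
    Subgroup.closure_eq (pres f)
  rw [hP]
  constructor
  · intro h
    have hall : alternatingGroup Ω ≤ pres f ⊓ alternatingGroup Ω := Subgroup.subgroupOf_eq_top.mp h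
    -- a 3-cycle mixing two fibres
    have hne : ∀ i : Fin b, ∃ x x' : Ω, x ≠ x' ∧ f x = i ∧ f x' = i := fun i => by
      have h2 : 1 < Nat.card {x : Ω // f x = i} := by rw [hf i]; omega
      obtain ⟨⟨x, hx⟩, ⟨x', hx'⟩, hxx⟩ := (Finite.one_lt_card_iff_nontrivial.mp h2).exists_pair_ne
      exact ⟨x, x', fun e => hxx (Subtype.ext e), hx, hx'⟩
    obtain ⟨x, x', hxx, hx, hx'⟩ := hne ⟨0, by omega⟩
    obtain ⟨y, -, -, hy, -⟩ := hne ⟨1, by omega⟩
    have hxy : f x ≠ f y := by rw [hx, hy]; simp [Fin.ext_iff]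
    have h1 : x ≠ y := fun e => hxy (by rw [e])
    have h2 : x' ≠ y := fun e => hxy (by rw [hx, ← hx', e])
    have h3 := Equiv.Perm.isThreeCycle_swap_mul_swap_same hxx.symm h2 h1
    have h4 := (hall h3.mem_alternatingGroup).1 x x'
    rw [Equiv.Perm.mul_apply, Equiv.Perm.mul_apply, Equiv.swap_apply_of_ne_of_ne hxx h1,
      Equiv.swap_apply_right, Equiv.swap_apply_left, Equiv.swap_apply_of_ne_of_ne h2.symm h1.symm] at h4
    refine hxy ?_
    have h5 := h4.mp (hx.trans hx'.symm)
    rwa [hx', ← hx] at h5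
  · intro M hM
    obtain ⟨m, hm, hm'⟩ := SetLike.exists_of_lt hM
    have h := eq_alternating ha hb h8 f hf (M.map (alternatingGroup Ω).subtype)
      (Subgroup.map_subtype_le M)
      (fun g hg => ⟨⟨g, hg.2⟩, hM.le hg, rfl⟩) (m := (m : Equiv.Perm Ω)) ⟨m, hm, rfl⟩
      (fun hp => hm' ⟨hp, m.2⟩)
    refine Subgroup.map_injective (alternatingGroup Ω).subtype_injective ?_
    rw [h, ← MonoidHom.range_eq_map, Subgroup.range_subtype]

end Cfsg.Agent.S5909
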