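import Cfsg.Statements.S5910
import Mathlib

set_option autoImplicit false
open Cfsg

namespace Cfsg.Agent.S5910

/-- Addition in the field of four elements, on `Fin 4`. -/
def x4 (p q : Fin 4) : Fin 4 := ⟨(p.1 ^^^ q.1) % 4, Nat.mod_lt _ (by norm_num)⟩

/-- The affine operation `x + y + z` on `F₂³`. -/
def op (x y z : Fin 4 × Bool) : Fin 4 × Bool :=
  (x4 (x4 x.1 y.1) z.1, (x.2 ^^ y.2) ^^ z.2)

theorem perm_affine : ∀ π : Equiv.Perm (Fin 4), ∀ p q r : Fin 4,
    π (x4 (x4 p q) r) = x4 (x4 (π p) (π q)) (π r) := by decide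

theorem parity : ∀ c0 c1 c2 c3 : Bool, ((c0 ^^ c1) ^^ (c2 ^^ c3)) = false →
    ∀ p q r : Fin 4, ![c0, c1, c2, c3] (x4 (x4 p q) r) =
      ((![c0, c1, c2, c3] p ^^ ![c0, c1, c2, c3] q) ^^ ![c0, c1, c2, c3] r) := by decide

/-- The shift in the second coordinate. -/
def shift (b : Bool) : Equiv.Perm Bool := if b then Equiv.swap false true else 1

theorem shift_apply : ∀ b x : Bool, shift b x = (x ^^ b) := by decide

theorem parity_sign : ∀ c0 c1 c2 c3 : Bool, Equiv.Perm.sign (shift c0) * Equiv.Perm.sign (shift c1) *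
    Equiv.Perm.sign (shift c2) * Equiv.Perm.sign (shift c3) = 1 →
      ((c0 ^^ c1) ^^ (c2 ^^ c3)) = false := by decide

theorem xor_six : ∀ b b' b'' A B C : Bool,
    (((b ^^ b') ^^ b'') ^^ ((A ^^ B) ^^ C)) = (((b ^^ A) ^^ (b' ^^ B)) ^^ (b'' ^^ C)) := by decide

theorem xor_ne : ∀ u v : Bool, u ≠ v → u = (true ^^ v) := by decide

theorem affine_of_even (π : Equiv.Perm (Fin 4)) (c : Fin 4 → Bool) (g : Equiv.Perm (Fin 4 × Bool))
    (hg : ∀ p b, g (p, b) = (π p, b ^^ c p)) (hs : Equiv.Perm.sign g = 1) :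
    ∀ x y z, g (op x y z) = op (g x) (g y) (g z) := by
  have he : g = (Equiv.prodCongrLeft fun _ : Bool => π) *
      (Equiv.prodCongrRight fun p => shift (c p)) := by
    ext ⟨p, b⟩ <;> simp [hg, shift_apply]
  rw [he, map_mul, Equiv.Perm.sign_prodCongrLeft, Equiv.Perm.sign_prodCongrRight,
    Fintype.prod_bool, Int.units_mul_self, one_mul, Fin.prod_univ_four] at hs
  have hc : c = ![c 0, c 1, c 2, c 3] := by funext i; fin_cases i <;> rfl
  have hpar := parity _ _ _ _ (parity_sign _ _ _ _ hs)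
  rw [← hc] at hpar
  rintro ⟨p, b⟩ ⟨q, b'⟩ ⟨r, b''⟩
  simp only [op, hg]
  rw [perm_affine, hpar]
  exact Prod.ext rfl (xor_six b b' b'' (c p) (c q) (c r))

/-- An affine map moving a block to a non-block. -/
def w₁ : Equiv.Perm (Fin 4 × Bool) :=
  Equiv.swap (0, true) (1, false) * Equiv.swap (2, true) (3, false)

theorem w₁_affine : ∀ x y z, w₁ (op x y z) = op (w₁ x) (w₁ y) (w₁ z) := by decide

/-- A three-cycle, which is not affine. -/
def w₂ : Equiv.Perm (Fin 4 × Bool) :=
  Equiv.swap (0, false) (0, true) * Equiv.swap (0, false) (1, false)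

theorem w₂_not_affine : ¬ ∀ x y z, w₂ (op x y z) = op (w₂ x) (w₂ y) (w₂ z) := by decide

theorem w₁_even : Equiv.Perm.sign w₁ = 1 := by
  rw [w₁, map_mul, Equiv.Perm.sign_swap (by decide), Equiv.Perm.sign_swap (by decide)]; rfl

theorem w₂_even : Equiv.Perm.sign w₂ = 1 := by
  rw [w₂, map_mul, Equiv.Perm.sign_swap (by decide), Equiv.Perm.sign_swap (by decide)]; rfl


/-- Let Ω be a set with 8 elements and f : Ω → Fin 4 a labelling whose four fibres all have size 2 (a partition of the 8 points into 4 pairs). Then the group of even permutations preserving this partition, (S₂ ≀ S₄) ∩ A₈, is not a maximal subgroup of the alternating group A₈ (it lies in a subgroup isomorphic to the affine group AGL₃(2)). -/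
theorem result {Ω : Type*} [Fintype Ω] [DecidableEq Ω] (h8 : Fintype.card Ω = 8)
    (f : Ω → Fin 4) (hf : ∀ i : Fin 4, Nat.card {x : Ω // f x = i} = 2) :
    ¬ IsCoatom ((Subgroup.closure {g : Equiv.Perm Ω | ∀ x y : Ω, f x = f y ↔ f (g x) = f (g y)} ⊓ alternatingGroup Ω).subgroupOf (alternatingGroup Ω)) := by
  classical
  have hfib : ∀ i : Fin 4, Nonempty ({x : Ω // f x = i} ≃ Bool) := fun i =>
    ⟨Fintype.equivOfCardEq (by rw [← Nat.card_eq_fintype_card, hf i, Fintype.card_bool])⟩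
  let e : Ω ≃ Fin 4 × Bool :=
    (Equiv.sigmaFiberEquiv f).symm.trans
      ((Equiv.sigmaCongrRight fun i => (hfib i).some).trans (Equiv.sigmaEquivProd _ _))
  have he : ∀ z, (e z).1 = f z := fun z => rfl
  let Φ : Equiv.Perm Ω ≃* Equiv.Perm (Fin 4 × Bool) := e.permCongrHom
  have hΦ : ∀ g x, Φ g x = e (g (e.symm x)) := fun g x => rfl
  have hΦs : ∀ g, Equiv.Perm.sign (Φ g) = Equiv.Perm.sign g := fun g => Equiv.Perm.sign_permCongr e g
  let K₀ : Subgroup (Equiv.Perm (Fin 4 × Bool)) :=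
    { carrier := {g | ∀ x y z, g (op x y z) = op (g x) (g y) (g z)}
      one_mem' := fun x y z => rfl
      mul_mem' := fun {a b} ha hb x y z => by
        simp only [Equiv.Perm.mul_apply]; rw [hb, ha]
      inv_mem' := fun {a} ha x y z => a.injective (by
        rw [ha]; simp) }
  set H := Subgroup.closure {g : Equiv.Perm Ω | ∀ x y : Ω, f x = f y ↔ f (g x) = f (g y)} with hH
  have hmem : ∀ g : Equiv.Perm Ω, g ∈ H → ∀ x y : Ω, f x = f y ↔ f (g x) = f (g y) := by
    intro g hg
    induction hg using Subgroup.closure_induction with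
    | mem g h => exact h
    | one => simp
    | mul g h _ _ hg hh => exact fun x y => (hh x y).trans (hg (h x) (h y))
    | inv g _ hg => exact fun x y => by simpa using (hg (g⁻¹ x) (g⁻¹ y)).symm
  intro hc
  -- the affine group
  set M : Subgroup (alternatingGroup Ω) := (K₀.comap Φ.toMonoidHom).subgroupOf (alternatingGroup Ω)
  have hle : (H ⊓ alternatingGroup Ω).subgroupOf (alternatingGroup Ω) ≤ M := by
    rintro ⟨g, hgA⟩ ⟨hgH, -⟩
    show Φ g ∈ K₀
    have hblk : ∀ p b b', (Φ g (p, b)).1 = (Φ g (p, b')).1 := fun p b b' => by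
      simp only [hΦ, he]
      refine (hmem g hgH _ _).mp ?_
      rw [← he, ← he, e.apply_symm_apply, e.apply_symm_apply]
    have hpi : Function.Bijective fun p => (Φ g (p, false)).1 := by
      rw [← Finite.surjective_iff_bijective]
      intro p
      obtain ⟨⟨p', b⟩, h'⟩ := (Φ g).surjective (p, false)
      exact ⟨p', (hblk p' false b).trans (by rw [h'])⟩
    refine affine_of_even (Equiv.ofBijective _ hpi) (fun p => (Φ g (p, false)).2) (Φ g) (fun p b => ?_)
      (by rw [hΦs]; exact Equiv.Perm.mem_alternatingGroup.mp hgA)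
    refine Prod.ext (hblk p b false) ?_
    cases b with
    | false => simp
    | true =>
      have hne : (Φ g (p, true)).2 ≠ (Φ g (p, false)).2 := fun h => by
        simpa using (Φ g).injective (Prod.ext (hblk p true false) h)
      exact xor_ne _ _ hne
  have hmk : ∀ w : Equiv.Perm (Fin 4 × Bool), Equiv.Perm.sign w = 1 →
      Φ.symm w ∈ alternatingGroup Ω := fun w hw => by
    rw [Equiv.Perm.mem_alternatingGroup, ← hΦs, Φ.apply_symm_apply, hw]
  have hlt : (H ⊓ alternatingGroup Ω).subgroupOf (alternatingGroup Ω) < M := by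
    refine SetLike.lt_iff_le_and_exists.mpr ⟨hle, ⟨Φ.symm w₁, hmk _ w₁_even⟩, ?_, ?_⟩
    · show Φ (Φ.symm w₁) ∈ K₀
      rw [Φ.apply_symm_apply]; exact w₁_affine
    · rintro ⟨hgH, -⟩
      have h := (hmem _ hgH (e.symm (0, false)) (e.symm (0, true))).mp
        (by rw [← he, ← he, e.apply_symm_apply, e.apply_symm_apply])
      rw [← he, ← he, ← hΦ, ← hΦ] at h
      simp only [Subgroup.coe_subtype] at h
      rw [Φ.apply_symm_apply] at h
      revert h
      decide
  have htop : (⟨Φ.symm w₂, hmk _ w₂_even⟩ : alternatingGroup Ω) ∈ M :=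
    (hc.2 M hlt).symm ▸ Subgroup.mem_top _
  change Φ (Φ.symm w₂) ∈ K₀ at htop
  rw [Φ.apply_symm_apply] at htop
  exact w₂_not_affine htop

end Cfsg.Agent.S5910
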