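import Cfsg.Statements.S5912
import Cfsg.Agent.Lib.SmallDegree.SixIndexSix

set_option autoImplicit false
set_option linter.style.haveILetI false
open Cfsg

namespace Cfsg.Agent.S5912

/-- The symmetric group on a 6-element set Ω has exactly two conjugacy classes of subgroups of index 6: there are two non-conjugate subgroups of index 6 (a point stabilizer and a transitive subgroup isomorphic to S₅), and every subgroup of index 6 is conjugate to one of them. -/
theorem result {Ω : Type*} [Fintype Ω] [DecidableEq Ω] (h6 : Fintype.card Ω = 6) :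
    ∃ H₁ H₂ : Subgroup (Equiv.Perm Ω), H₁.index = 6 ∧ H₂.index = 6 ∧
      (¬ ∃ g : Equiv.Perm Ω, Subgroup.map (MulAut.conj g).toMonoidHom H₁ = H₂) ∧
      ∀ H : Subgroup (Equiv.Perm Ω), H.index = 6 →
        ∃ g : Equiv.Perm Ω, Subgroup.map (MulAut.conj g).toMonoidHom H₁ = H ∨ Subgroup.map (MulAut.conj g).toMonoidHom H₂ = H := by
  classical
  obtain ⟨H₂, h2, t2⟩ := CfsgLib.SixIndexSix.exists_transitive h6
  haveI : Nonempty Ω := Fintype.card_pos_iff.mp (by omega)
  obtain ⟨c⟩ := (inferInstance : Nonempty Ω)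
  refine ⟨MulAction.stabilizer (Equiv.Perm Ω) c, H₂, CfsgLib.SixIndexSix.index_stabilizer h6 c, h2, ?_,
    fun H hH => ?_⟩
  · rintro ⟨g, hg⟩
    rw [← MulAction.stabilizer_smul_eq_stabilizer_map_conj] at hg
    exact CfsgLib.SixIndexSix.stabilizer_not_transitive h6 _ (hg ▸ t2)
  rcases CfsgLib.SixIndexSix.fixed_or_transitive h6 hH with ⟨d, rfl⟩ | ht
  · exact ⟨Equiv.swap c d, Or.inl (CfsgLib.SixIndexSix.stabilizer_conj c d)⟩
  · obtain ⟨g, hg⟩ := CfsgLib.SixIndexSix.transitive_conj h6 h2 hH t2 ht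
    exact ⟨g, Or.inr hg⟩

end Cfsg.Agent.S5912
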