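import Cfsg.Statements.S5913
import Mathlib

set_option autoImplicit false
open Cfsg

namespace Cfsg.Agent.S5913

/-- Let S be a non-abelian simple group and n a natural number. Every normal subgroup N of the direct power S^n (functions Fin n → S) is a subproduct: there is a set T of coordinates such that N consists exactly of the elements whose coordinates outside T are trivial. In particular the minimal normal subgroups of S^n are its n factors. -/
theorem result {S : Type*} [Group S] [IsSimpleGroup S] (hS : ¬ IsMulCommutative S) (n : ℕ)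
    (N : Subgroup (Fin n → S)) [N.Normal] :
    ∃ T : Finset (Fin n), ∀ x : Fin n → S, x ∈ N ↔ ∀ i, i ∉ T → x i = 1 := by
  classical
  refine ⟨Finset.univ.filter fun i => ∃ x ∈ N, x i ≠ 1, fun x => ⟨fun hx i hi => ?_, fun hx => ?_⟩⟩
  · by_contra h
    exact hi (Finset.mem_filter.mpr ⟨Finset.mem_univ i, x, hx, h⟩)
  refine Subgroup.pi_mem_of_mulSingle_mem x fun i => ?_
  by_cases hi : ∃ y ∈ N, y i ≠ 1
  swap
  · rw [hx i (fun h => hi (Finset.mem_filter.mp h).2), Pi.mulSingle_one]; exact N.one_mem
  obtain ⟨y, hy, hyi⟩ := hi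
  obtain ⟨s, hs⟩ : ∃ s, y i * s ≠ s * y i := by
    by_contra hz
    push_neg at hz
    have hm : y i ∈ Subgroup.center S := Subgroup.mem_center_iff.mpr fun s => (hz s).symm
    rcases (Subgroup.Normal.eq_bot_or_eq_top
      (inferInstance : (Subgroup.center S).Normal)) with e' | e'
    · rw [e', Subgroup.mem_bot] at hm; exact hyi hm
    · exact hS ⟨⟨fun u v => Subgroup.mem_center_iff.mp (e' ▸ Subgroup.mem_top v) u⟩⟩
  set C := N.comap (MonoidHom.mulSingle (fun _ : Fin n => S) i) with hC
  have ha : y i * s * (y i)⁻¹ * s⁻¹ ∈ C := by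
    have h2 := N.mul_mem hy ((inferInstance : N.Normal).conj_mem _ (N.inv_mem hy) (Pi.mulSingle i s))
    show Pi.mulSingle i _ ∈ N
    convert h2 using 1
    funext k
    rcases eq_or_ne k i with rfl | hk
    · simp [mul_assoc]
    · simp [hk]
  haveI hCn : C.Normal := inferInstanceAs (N.comap _).Normal
  rcases hCn.eq_bot_or_eq_top with e | e
  · rw [e, Subgroup.mem_bot, mul_inv_eq_one, mul_inv_eq_iff_eq_mul] at ha
    exact absurd ha hs
  · have hm : x i ∈ C := e ▸ Subgroup.mem_top _
    exact hm

end Cfsg.Agent.S5913
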