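import Cfsg.Statements.S5914
import Mathlib
import Cfsg.Agent.S0721

set_option autoImplicit false
open Cfsg

namespace Cfsg.Agent.S5914

/-- A non-trivial finite group G is characteristically simple (its only characteristic subgroups are 1 and G) if and only if G is isomorphic to a direct power S^n (n ≥ 1) of some simple group S (possibly cyclic of prime order). -/
theorem result {G : Type*} [Group G] [Finite G] [Nontrivial G] :
    (∀ H : Subgroup G, H.Characteristic → H = ⊥ ∨ H = ⊤) ↔
    ∃ (S : Type) (_ : Group S) (_ : IsSimpleGroup S) (n : ℕ), 1 ≤ n ∧ Nonempty (G ≃* (Fin n → S)) := by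
  classical
  constructor
  · intro h
    haveI : Finite (MulAut G) := Finite.of_injective (fun φ => (φ : G → G)) DFunLike.coe_injective
    haveI : Finite (G ⋊[MonoidHom.id (MulAut G)] MulAut G) :=
      Finite.of_equiv _ SemidirectProduct.equivProd.symm
    let N : Subgroup (G ⋊[MonoidHom.id (MulAut G)] MulAut G) :=
      (SemidirectProduct.inl : G →* G ⋊[MonoidHom.id (MulAut G)] MulAut G).range
    haveI hNn : N.Normal := by
      rw [show N = SemidirectProduct.rightHom.ker from
        SemidirectProduct.range_inl_eq_ker_rightHom]
      infer_instance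
    have hN : N ≠ ⊥ := by
      obtain ⟨x, hx⟩ := exists_ne (1 : G)
      intro e
      have hm : SemidirectProduct.inl x ∈ N := ⟨x, rfl⟩
      rw [e, Subgroup.mem_bot] at hm
      exact hx (SemidirectProduct.inl_injective (by rw [hm, map_one]))
    have hmin : ∀ M : Subgroup (G ⋊[MonoidHom.id (MulAut G)] MulAut G),
        M.Normal → M ≤ N → M = ⊥ ∨ M = N := by
      intro M hM hMN
      have hc : (M.comap (SemidirectProduct.inl : G →* _)).Characteristic := by
        rw [Subgroup.characteristic_iff_comap_le]
        intro φ x hx
        have := hM.conj_mem _ hx (SemidirectProduct.inr φ⁻¹)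
        rw [← map_inv, ← SemidirectProduct.inl_aut] at this
        simpa using this
      rcases h _ hc with e | e
      · left
        refine Subgroup.eq_bot_iff_forall _ |>.mpr fun y hy => ?_
        obtain ⟨x, rfl⟩ := hMN hy
        have : x ∈ M.comap (SemidirectProduct.inl : G →* _) := hy
        rw [e, Subgroup.mem_bot] at this
        rw [this, map_one]
      · right
        refine le_antisymm hMN ?_
        rintro _ ⟨x, rfl⟩
        have : x ∈ M.comap (SemidirectProduct.inl : G →* _) := e ▸ Subgroup.mem_top x
        exact this
    obtain ⟨T, instT, m, hT, hm, ⟨e⟩⟩ := Cfsg.Agent.S0721.result N hN hmin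
    exact ⟨T, instT, hT, m, hm,
      ⟨(MonoidHom.ofInjective SemidirectProduct.inl_injective).trans e⟩⟩
  · rintro ⟨S, _, hS, n, hn, ⟨e⟩⟩ H hH
    rcases eq_or_ne H ⊥ with hb | hb
    · exact Or.inl hb
    right
    have hchar : ∀ (ψ : MulAut (Fin n → S)), ∀ v, e.symm v ∈ H → e.symm (ψ v) ∈ H := by
      intro ψ v hv
      have := Subgroup.characteristic_iff_map_le.mp hH ((e.trans ψ).trans e.symm)
        (Subgroup.mem_map_of_mem _ hv)
      simpa using this
    let A : Subgroup (Fin n → S) := H.comap e.symm.toMonoidHom
    have hA : ∀ (ψ : MulAut (Fin n → S)), ∀ v ∈ A, ψ v ∈ A := hchar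
    obtain ⟨x, hx, hx1⟩ : ∃ x ∈ A, x ≠ 1 := by
      obtain ⟨y, hy, hy1⟩ := (Subgroup.bot_or_exists_ne_one H).resolve_left hb
      exact ⟨e y, by simpa [A] using hy, by simpa using hy1⟩
    obtain ⟨i, hi⟩ : ∃ i, x i ≠ 1 := Function.ne_iff.mp hx1
    -- a non-trivial element supported at one coordinate
    obtain ⟨j, a, ha1, ha⟩ : ∃ j, ∃ a : S, a ≠ 1 ∧ Pi.mulSingle j a ∈ A := by
      by_cases hc : ∀ u v : S, u * v = v * u
      · by_cases hj : ∃ j : Fin n, j ≠ i
        · obtain ⟨j, hj⟩ := hj
          refine ⟨j, x i, hi, ?_⟩
          let ψ : MulAut (Fin n → S) :=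
            { toFun := fun v => v * Pi.mulSingle j (v i)
              invFun := fun v => v * Pi.mulSingle j (v i)⁻¹
              left_inv := fun v => by
                funext k; rcases eq_or_ne k j with rfl | hk <;> simp [hj.symm, *] <;>
                  first | (rw [hc (v i) (v k)]; simp) | (rw [hc (v k)]; simp)
              right_inv := fun v => by
                funext k; rcases eq_or_ne k j with rfl | hk <;> simp [hj.symm, *] <;>
                  first | (rw [hc (v i) (v k)]; simp) | (rw [hc (v k)]; simp)
              map_mul' := fun u v => by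
                funext k
                simp only [Pi.mul_apply]
                rcases eq_or_ne k j with rfl | hk
                · simp only [Pi.mulSingle_eq_same]
                  simp only [mul_assoc]
                  rw [← mul_assoc (v k) (u i), hc (v k) (u i), mul_assoc]
                · simp [hk] }
          have h2 := A.mul_mem (A.inv_mem hx) (hA ψ x hx)
          simpa [ψ] using h2
        · push_neg at hj
          refine ⟨i, x i, hi, ?_⟩
          convert hx
          funext k
          simp [hj k]
      · push_neg at hc
        haveI : IsSimpleGroup S := hS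
        -- `x i` is not central
        obtain ⟨s, hs⟩ : ∃ s, x i * s ≠ s * x i := by
          by_contra hz
          push_neg at hz
          have hm : x i ∈ Subgroup.center S := Subgroup.mem_center_iff.mpr fun s => (hz s).symm
          rcases (Subgroup.Normal.eq_bot_or_eq_top
            (inferInstance : (Subgroup.center S).Normal)) with e' | e'
          · rw [e', Subgroup.mem_bot] at hm; exact hi hm
          · obtain ⟨u, v, huv⟩ := hc
            exact huv (Subgroup.mem_center_iff.mp (e' ▸ Subgroup.mem_top v : v ∈ Subgroup.center S) u)
        refine ⟨i, x i * s * (x i)⁻¹ * s⁻¹, fun e' => hs ?_, ?_⟩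
        · rw [mul_inv_eq_one, mul_inv_eq_iff_eq_mul] at e'; exact e'
        have h2 := A.mul_mem hx (hA (MulAut.conj (Pi.mulSingle i s)) _ (A.inv_mem hx))
        convert h2 using 1
        funext k
        rcases eq_or_ne k i with rfl | hk
        · simp [mul_assoc]
        · simp [hk]
    -- hence the whole coordinate subgroup
    have hall : ∀ b : S, Pi.mulSingle j b ∈ A := by
      haveI : IsSimpleGroup S := hS
      have hn' : (A.comap (MonoidHom.mulSingle (fun _ : Fin n => S) j)).Normal := by
        refine ⟨fun u hu s => ?_⟩
        have := hA (MulAut.conj (Pi.mulSingle j s)) _ hu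
        simpa [← Pi.mulSingle_mul, ← Pi.mulSingle_inv] using this
      rcases hn'.eq_bot_or_eq_top with e' | e'
      · have : a ∈ A.comap (MonoidHom.mulSingle (fun _ : Fin n => S) j) := ha
        rw [e', Subgroup.mem_bot] at this
        exact absurd this ha1
      · intro b
        have : b ∈ A.comap (MonoidHom.mulSingle (fun _ : Fin n => S) j) := e' ▸ Subgroup.mem_top b
        exact this
    have htop : ∀ v, v ∈ A := by
      intro v
      refine Subgroup.pi_mem_of_mulSingle_mem v fun k => ?_
      let ψ : MulAut (Fin n → S) :=
        { toFun := fun u => u ∘ Equiv.swap j k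
          invFun := fun u => u ∘ Equiv.swap j k
          left_inv := fun u => by funext l; simp
          right_inv := fun u => by funext l; simp
          map_mul' := fun u w => rfl }
      convert hA ψ _ (hall (v k)) using 1
      funext l
      show _ = Pi.mulSingle (M := fun _ : Fin n => S) j (v k) (Equiv.swap j k l)
      rcases eq_or_ne l k with rfl | hl
      · simp
      · rw [Pi.mulSingle_eq_of_ne hl, Pi.mulSingle_eq_of_ne]
        intro e'
        exact hl (by rw [← Equiv.swap_apply_self j k l, e', Equiv.swap_apply_left])
    refine eq_top_iff.mpr fun y _ => ?_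
    simpa [A] using htop (e y)

end Cfsg.Agent.S5914
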