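import Cfsg.Statements.S5946
import Mathlib

set_option autoImplicit false
open Cfsg

namespace Cfsg.Agent.S5946

/-- Let F ⊆ K be finite fields with [K : F] = n ≥ 2 and regard K as an n-dimensional F-vector space. The Singer group M ≤ GL_F(K) of multiplications by the non-zero elements of K is self-centralizing: every F-linear automorphism of K commuting with all of M lies in M. -/
theorem result {F K : Type*} [Field F] [Fintype F] [Field K] [Fintype K] [Algebra F K] (n : ℕ) (hn : 2 ≤ n) (hdim : Module.finrank F K = n) :
    Subgroup.centralizer (((Units.map ((Algebra.lmul F K : K →ₐ[F] Module.End F K) : K →* Module.End F K)).range : Subgroup (Module.End F K)ˣ) : Set (Module.End F K)ˣ) = (Units.map ((Algebra.lmul F K : K →ₐ[F] Module.End F K) : K →* Module.End F K)).range := by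
  classical
  refine le_antisymm (fun g hg => ?_) ?_
  · set L : K →ₐ[F] Module.End F K := Algebra.lmul F K
    have hcomm : ∀ x : K, (g : Module.End F K) * L x = L x * (g : Module.End F K) := by
      intro x
      rcases eq_or_ne x 0 with rfl | hx
      · simp
      · have := Subgroup.mem_centralizer_iff.mp hg _
          ⟨Units.mk0 x hx, rfl⟩
        exact (congrArg Units.val this).symm
    have hkey : (g : Module.End F K) = L ((g : Module.End F K) 1) := LinearMap.ext fun x => by
      have := LinearMap.congr_fun (hcomm x) 1
      simp [L, Algebra.lmul] at this ⊢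
      rw [this, mul_comm]
    have h0 : (g : Module.End F K) 1 ≠ 0 := by
      intro e
      rw [e, map_zero] at hkey
      exact g.ne_zero hkey
    exact ⟨Units.mk0 _ h0, Units.ext hkey.symm⟩
  · rintro _ ⟨u, rfl⟩
    refine Subgroup.mem_centralizer_iff.mpr ?_
    rintro _ ⟨v, rfl⟩
    rw [← map_mul, ← map_mul, mul_comm]

end Cfsg.Agent.S5946
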