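import Cfsg.Statements.S5947
import Mathlib

set_option autoImplicit false
set_option linter.style.haveILetI false
open Cfsg

namespace Cfsg.Agent.S5947

/-- Let F ⊆ K be finite fields with |F| = q and [K : F] = n ≥ 2, regard K as an n-dimensional F-vector space, and let M ≤ GL_F(K) be the Singer group of multiplications by non-zero elements of K (cyclic of order q^n − 1). Assume (n, q) ≠ (6, 2), and that it is not the case that n = 2 with q a prime such that q + 1 is a power of 2. Then every abelian subgroup of GL_F(K) of order q^n − 1 is conjugate to M. -/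
theorem result {F K : Type*} [Field F] [Fintype F] [Field K] [Fintype K] [Algebra F K] (n : ℕ) (hn : 2 ≤ n) (hdim : Module.finrank F K = n)
    (hex1 : ¬ (n = 6 ∧ Fintype.card F = 2))
    (hex2 : ¬ (n = 2 ∧ (Fintype.card F).Prime ∧ ∃ a : ℕ, Fintype.card F + 1 = 2 ^ a))
    (U : Subgroup (Module.End F K)ˣ) (hU : IsMulCommutative U) (hcard : Nat.card U = Fintype.card K - 1) :
    ∃ g : (Module.End F K)ˣ, U.map (MulAut.conj g).toMonoidHom = (Units.map ((Algebra.lmul F K : K →ₐ[F] Module.End F K) : K →* Module.End F K)).range := by
  classical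
  set q := Fintype.card F
  set A : Subalgebra F (Module.End F K) := Algebra.adjoin F ((fun u : (Module.End F K)ˣ => (u : Module.End F K)) '' (U : Set _))
  have hcomm : ∀ a b : A, a * b = b * a := by
    have : ∀ x ∈ ((fun u : (Module.End F K)ˣ => (u : Module.End F K)) '' (U : Set _)), ∀ y ∈ ((fun u : (Module.End F K)ˣ => (u : Module.End F K)) '' (U : Set _)), x * y = y * x := by
      rintro _ ⟨x, hx, rfl⟩ _ ⟨y, hy, rfl⟩
      exact congrArg (fun z : U => ((z : (Module.End F K)ˣ) : Module.End F K)) (hU.is_comm.comm ⟨x, hx⟩ ⟨y, hy⟩)
    exact fun a b => (Algebra.isMulCommutative_adjoin F this).is_comm.comm a b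
  letI : CommRing A := { (inferInstance : Ring A) with mul_comm := hcomm }
  have hKcard : Fintype.card K = q ^ n := by rw [← hdim]; exact Module.card_eq_pow_finrank
  haveI : Finite (Module.End F K) := Module.finite_of_finite F
  haveI : Finite A := Finite.of_injective _ Subtype.val_injective
  haveI := Fintype.ofFinite A
  obtain ⟨p, hp⟩ := CharP.exists F
  haveI hpp : Fact p.Prime := ⟨CharP.char_is_prime F p⟩
  obtain ⟨k, hk⟩ : ∃ k : ℕ, Fintype.card K = p ^ k := by
    obtain ⟨a, -, ha⟩ := FiniteField.card F p
    exact ⟨(a : ℕ) * n, by rw [hKcard, pow_mul]; exact congrArg (· ^ n) ha⟩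
  haveI : CharP A p := charP_of_injective_algebraMap' F p
  -- every element of `A` is fixed by the `q ^ n`-power map
  have hfix : ∀ a : A, a ^ Fintype.card K = a := by
    let S : Subalgebra F A :=
      { carrier := {a | a ^ Fintype.card K = a}
        mul_mem' := fun {a b} ha hb => by
          show (a * b) ^ Fintype.card K = a * b
          rw [mul_pow, show a ^ Fintype.card K = a from ha, show b ^ Fintype.card K = b from hb]
        add_mem' := fun {a b} ha hb => by
          show (a + b) ^ Fintype.card K = a + b
          have ha' : a ^ p ^ k = a := hk ▸ (show a ^ Fintype.card K = a from ha)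
          have hb' : b ^ p ^ k = b := hk ▸ (show b ^ Fintype.card K = b from hb)
          rw [hk, add_pow_char_pow, ha', hb']
        algebraMap_mem' := fun c => by
          show (algebraMap F A c) ^ Fintype.card K = algebraMap F A c
          rw [← map_pow, hKcard, FiniteField.pow_card_pow] }
    intro a
    have hgen : ∀ (x : Module.End F K) (hx : x ∈ A), (⟨x, hx⟩ : A) ∈ S := by
      intro x hx
      induction hx using Algebra.adjoin_induction with
      | mem y hy =>
        obtain ⟨u, hu, rfl⟩ := hy
        show _ = _
        apply Subtype.ext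
        show ((u : Module.End F K)) ^ Fintype.card K = (u : Module.End F K)
        have hpos : 0 < Fintype.card K := Fintype.card_pos
        have h1 : (⟨u, hu⟩ : U) ^ (Fintype.card K - 1) = 1 := hcard ▸ pow_card_eq_one'
        have h2 : u ^ Fintype.card K = u := by
          rw [show Fintype.card K = (Fintype.card K - 1) + 1 by omega, pow_succ,
            show u ^ (Fintype.card K - 1) = 1 from congrArg Subtype.val h1, one_mul]
        rw [← Units.val_pow_eq_pow_val, h2]
      | algebraMap c => exact S.algebraMap_mem c
      | add y z hy hz h1 h2 => exact S.add_mem h1 h2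
      | mul y z hy hz h1 h2 => exact S.mul_mem h1 h2
    exact hgen a.1 a.2
  set N := Fintype.card K
  have hN : 2 ≤ N := Fintype.one_lt_card
  -- a vector with trivial annihilator
  obtain ⟨v, -, hv⟩ := Finset.exists_min_image (Finset.univ : Finset K)
    (fun v => (Finset.univ.filter fun a : A => (a : Module.End F K) v = 0).card) Finset.univ_nonempty
  have hann : ∀ a : A, (a : Module.End F K) v = 0 → a = 0 := by
    intro a ha
    by_contra ha0
    set e := a ^ (N - 1) with he
    have hea : e * a = a := by rw [he, ← pow_succ, show N - 1 + 1 = N by omega, hfix]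
    have hee : e * e = e := by
      rw [he, ← pow_add, show N - 1 + (N - 1) = (N - 2) + N by omega, pow_add, hfix, ← pow_succ]
      congr 1
      omega
    have hev : (e : Module.End F K) v = 0 := by
      rw [he, show N - 1 = (N - 2) + 1 by omega, pow_succ]
      show ((a ^ (N - 2) : A) : Module.End F K) ((a : Module.End F K) v) = 0
      rw [ha, map_zero]
    have he0 : e ≠ 0 := fun h => ha0 (by rw [← hea, h, zero_mul])
    obtain ⟨w, hw⟩ : ∃ w, (e : Module.End F K) w ≠ 0 := by
      by_contra h
      push Not at h
      exact he0 (Subtype.ext (LinearMap.ext h))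
    set w' := (e : Module.End F K) w
    have hew : (e : Module.End F K) w' = w' := congrArg (fun x : A => (x : Module.End F K) w) hee
    have hlt : (Finset.univ.filter fun b : A => (b : Module.End F K) (v + w') = 0) ⊂
        (Finset.univ.filter fun b : A => (b : Module.End F K) v = 0) := by
      rw [Finset.ssubset_iff_of_subset]
      · exact ⟨e, by simp [hev], by simp [hev, hew, hw]⟩
      · intro b hb
        simp only [Finset.mem_filter, Finset.mem_univ, true_and, map_add] at hb ⊢
        have h1 : (b : Module.End F K) w' = 0 := by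
          have h2 := congrArg (fun x => (e : Module.End F K) x) hb
          simp only [map_add, map_zero] at h2
          have c1 : (e : Module.End F K) ((b : Module.End F K) v) = (b : Module.End F K) ((e : Module.End F K) v) :=
            congrArg (fun x : A => (x : Module.End F K) v) (mul_comm e b)
          have c2 : (e : Module.End F K) ((b : Module.End F K) w') = (b : Module.End F K) ((e : Module.End F K) w') :=
            congrArg (fun x : A => (x : Module.End F K) w') (mul_comm e b)
          rwa [c1, c2, hev, map_zero, zero_add, hew] at h2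
        rwa [h1, add_zero] at hb
    exact absurd (hv _ (Finset.mem_univ (v + w'))) (not_le.mpr (Finset.card_lt_card hlt))
  let T0 : A →ₗ[F] K := (LinearMap.applyₗ (R := F) v).comp A.val.toLinearMap
  have hinj : Function.Injective T0 := (injective_iff_map_eq_zero T0).mpr hann
  have hle : Fintype.card A ≤ N := Fintype.card_le_of_injective T0 hinj
  let Φ : U → A := fun u => ⟨((u : (Module.End F K)ˣ) : Module.End F K), Algebra.subset_adjoin ⟨u, u.2, rfl⟩⟩
  have hΦ : Function.Injective Φ := fun a b h => Subtype.ext (Units.ext (congrArg Subtype.val h))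
  have hfield : IsField A := by
    refine ⟨⟨0, 1, fun h => ?_⟩, mul_comm, fun {a} ha => ?_⟩
    · exact one_ne_zero (α := Module.End F K) (congrArg Subtype.val h).symm
    haveI := Fintype.ofFinite U
    have hsub : (Finset.univ.image Φ) ⊆ Finset.univ.erase 0 := by
      intro x hx
      obtain ⟨u, -, rfl⟩ := Finset.mem_image.mp hx
      refine Finset.mem_erase.mpr ⟨fun h => ?_, Finset.mem_univ _⟩
      exact (u : (Module.End F K)ˣ).ne_zero (congrArg Subtype.val h)
    have heq := Finset.eq_of_subset_of_card_le hsub (by
      rw [Finset.card_erase_of_mem (Finset.mem_univ _), Finset.card_image_of_injective _ hΦ,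
        Finset.card_univ, Finset.card_univ, ← Nat.card_eq_fintype_card (α := U), hcard]
      omega)
    have : a ∈ Finset.univ.image Φ := heq ▸ Finset.mem_erase.mpr ⟨ha, Finset.mem_univ _⟩
    obtain ⟨u, -, rfl⟩ := Finset.mem_image.mp this
    exact ⟨Φ u⁻¹, Subtype.ext (u : (Module.End F K)ˣ).mul_inv⟩
  have hcardA : Fintype.card A = N := by
    refine le_antisymm hle ?_
    haveI := Fintype.ofFinite U
    have h1 := Fintype.card_lt_of_injective_of_notMem Φ hΦ (b := (0 : A)) (by
      rintro ⟨u, hu⟩
      exact (u : (Module.End F K)ˣ).ne_zero (congrArg Subtype.val hu))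
    rw [← Nat.card_eq_fintype_card (α := U), hcard] at h1
    omega
  letI : Field A := hfield.toField
  have hfin : Module.finrank F A = n := by
    have h := Module.card_eq_pow_finrank (K := F) (V := A)
    rw [hcardA, hKcard] at h
    exact (Nat.pow_right_injective Fintype.one_lt_card h).symm
  obtain ⟨φ⟩ := FiniteField.nonempty_algHom_of_finrank_dvd (F := F) (K := K) (L := A) (by rw [hfin, hdim])
  let ψ : K →ₐ[F] Module.End F K := A.val.comp φ
  let T : K →ₗ[F] K := (LinearMap.applyₗ (R := F) v).comp ψ.toLinearMap
  have hT : Function.Bijective T := Finite.injective_iff_bijective.mp fun a b h =>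
    φ.toRingHom.injective (hinj h)
  let e := LinearEquiv.ofBijective T hT
  let g : (Module.End F K)ˣ :=
    ⟨e.symm.toLinearMap, e.toLinearMap, LinearMap.ext e.symm_apply_apply, LinearMap.ext e.apply_symm_apply⟩
  have hconj : ∀ a : K, e.symm.toLinearMap * ψ a * e.toLinearMap = Algebra.lmul F K a := fun a => by
    refine LinearMap.ext fun x => ?_
    show e.symm (ψ a (ψ x v)) = a * x
    rw [LinearEquiv.symm_apply_eq]
    show _ = ψ (a * x) v
    rw [map_mul]
    rfl
  have hφs : Function.Surjective φ :=
    ((Fintype.bijective_iff_injective_and_card φ).mpr ⟨φ.toRingHom.injective, hcardA.symm⟩).2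
  refine ⟨g, Subgroup.eq_of_le_of_card_ge ?_ ?_⟩
  · rintro _ ⟨u, hu, rfl⟩
    obtain ⟨a, ha⟩ := hφs (Φ ⟨u, hu⟩)
    have hψ : ψ a = (u : Module.End F K) := congrArg Subtype.val ha
    have ha0 : a ≠ 0 := fun h => u.ne_zero (by rw [← hψ, h, map_zero])
    refine ⟨Units.mk0 a ha0, Units.ext ?_⟩
    show Algebra.lmul F K a = e.symm.toLinearMap * (u : Module.End F K) * e.toLinearMap
    rw [← hψ, hconj]
  · rw [Nat.card_congr (Subgroup.equivMapOfInjective U _ (MulAut.conj g).injective).symm.toEquiv, hcard]
    refine le_trans (Nat.card_le_card_of_surjective (MonoidHom.rangeRestrict _) (MonoidHom.rangeRestrict_surjective _)) ?_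
    rw [Nat.card_units, Nat.card_eq_fintype_card]

end Cfsg.Agent.S5947
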