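import Cfsg.Statements.S5949
import Cfsg.Agent.Lib.Derange.Subspaces

set_option autoImplicit false
open scoped MatrixGroups
open Cfsg

namespace Cfsg.Agent.S5949

/-- Elements of prime order of PSL_n(q) with no fixed `m`-space. Here `T = PSL_n(F)` for a field `F` with `q = p^f` elements (`n ≥ 2`, `(n, q) ≠ (2, 2), (2, 3)`); an element of `T` of prime order `r` is represented by a matrix `x` of determinant 1 with `x^r` scalar and `x` not scalar; `i` denotes the multiplicative order of `q` modulo `r` (when `r ≠ p`), and `(a)_r` the `r`-part of `a`. Let `1 ≤ m ≤ n/2` and let `r` be a prime dividing the number of `m`-dimensional subspaces of `F^n`. Then every element of `T` of order `r` fixes some `m`-dimensional subspace (the action on `m`-spaces is `r`-elusive) if and only if `r ≠ p` and either (i) `i = 1` and (`r ∣ m`, or `(q−1)_r ≥ (n)_r` where in addition `q ≡ 1 (mod 4)` is required when `r = 2` and `n` is even), or (ii) `2 ≤ i ≤ m` and `n mod i ≥ m mod i`. -/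
theorem result {F : Type*} [Field F] [Fintype F] {p : ℕ} [Fact p.Prime] [CharP F p] {q : ℕ} (hq : Fintype.card F = q)
    (n m : ℕ) (hn : 2 ≤ n) (hT : (n, q) ≠ (2, 2) ∧ (n, q) ≠ (2, 3)) (hm : 1 ≤ m) (hmn : 2 * m ≤ n)
    (r : ℕ) [Fact r.Prime] (hrΩ : r ∣ Nat.card {W : Submodule F (Fin n → F) // Module.finrank F ↥W = m}) :
    (∀ x : Matrix.SpecialLinearGroup (Fin n) F,
      (∃ c : F, ((x ^ r : Matrix.SpecialLinearGroup (Fin n) F) : Matrix (Fin n) (Fin n) F) = c • (1 : Matrix (Fin n) (Fin n) F)) →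
      (∀ c : F, (x : Matrix (Fin n) (Fin n) F) ≠ c • (1 : Matrix (Fin n) (Fin n) F)) →
      ∃ W : Submodule F (Fin n → F), Module.finrank F ↥W = m ∧ W.map (Matrix.toLin' (x : Matrix (Fin n) (Fin n) F)) ≤ W) ↔
    (r ≠ p ∧
      ((orderOf (q : ZMod r) = 1 ∧ (r ∣ m ∨ (padicValNat r n ≤ padicValNat r (q - 1) ∧ (r = 2 → Even n → q % 4 = 1)))) ∨
       (2 ≤ orderOf (q : ZMod r) ∧ orderOf (q : ZMod r) ≤ m ∧ m % orderOf (q : ZMod r) ≤ n % orderOf (q : ZMod r)))) := by
  obtain ⟨k, -, hk⟩ := FiniteField.card F p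
  have hpq : p ∣ q := hq ▸ hk ▸ dvd_pow_self p k.ne_zero
  have hq2 : 2 ≤ q := hq ▸ Fintype.one_lt_card
  have hc := CfsgLib.Derange.card_subspaces_mul (V := Fin n → F) hq (k := m)
    (by rw [Module.finrank_fin_fun]; omega)
  rw [Module.finrank_fin_fun] at hc
  obtain ⟨hrp, hj⟩ := CfsgLib.Derange.exists_exponent (Fact.out : p.Prime) hpq hq2 (by omega) hc hrΩ
  have hr : r.Prime := Fact.out
  rw [CfsgLib.Derange.elusive_iff (p := p) hq hr hrp hn
    (fun T => ∃ W : Submodule F (Fin n → F), Module.finrank F ↥W = m ∧ W.map T ≤ W)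
    (fun b T hb => by simp only [Submodule.map_smul _ _ _ hb])
    (fun i l e => ∃ a b, a ≤ l ∧ b ≤ e ∧ a + b * i = m)
    (fun T i l e h => by simpa only [CfsgLib.Derange.map_le_iff] using h.exists_invariant_iff m)
    (fun l e h => ⟨min m l, m - min m l, min_le_right _ _, by omega, by omega⟩)
    (fun i => ⟨m, 0, by omega, le_rfl, by omega⟩)]
  rw [and_iff_right hrp, CfsgLib.Derange.one_case hr (m := m) fun hn' => ?_]
  · refine or_congr Iff.rfl (and_congr_right fun hi => ?_)
    exact CfsgLib.Derange.subspace_two hi (by omega) hj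
  · constructor
    · rintro ⟨a, b, ha, -, hab⟩
      exact ⟨b, by rw [mul_comm, ← hab]; omega⟩
    · intro h
      exact ⟨0, m / r, le_rfl, Nat.div_le_div_right (by omega), by rw [zero_add, Nat.div_mul_cancel h]⟩

end Cfsg.Agent.S5949
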