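import Cfsg.Statements.S5950
import Cfsg.Agent.Lib.Derange.Subspaces
import Cfsg.Agent.Lib.Derange.Pairs

set_option autoImplicit false
open scoped MatrixGroups
open Cfsg

namespace Cfsg.Agent.S5950

/-- Parts one and two. -/
private theorem two_parts (n m : ℕ) (hmn : m ≤ n) :
    (∀ μ : Multiset ℕ, (∀ a ∈ μ, 0 < a ∧ a ≤ 2) → μ.sum = n → ∃ ν : Multiset ℕ, ν ≤ μ ∧ ν.sum = m) ↔
      (Odd n ∨ Even m) := by
  classical
  constructor
  · intro h
    by_contra hc
    push Not at hc
    rw [Nat.not_odd_iff_even, Nat.not_even_iff_odd] at hc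
    obtain ⟨⟨k, hk⟩, hm⟩ := hc
    obtain ⟨ν, hν, hsum⟩ := h (Multiset.replicate k 2) (fun a ha => by rw [Multiset.eq_of_mem_replicate ha]; omega)
      (by simp; omega)
    have h2 : 2 ∣ ν.sum := Multiset.dvd_sum fun a ha => by
      rw [Multiset.eq_of_mem_replicate (Multiset.mem_of_le hν ha)]
    exact Nat.not_even_iff_odd.mpr hm (even_iff_two_dvd.mpr (hsum ▸ h2))
  · intro h μ hμ hsum
    have hμ' : μ = Multiset.replicate (μ.count 1) 1 + Multiset.replicate (μ.count 2) 2 := by
      ext a
      rw [Multiset.count_add, Multiset.count_replicate, Multiset.count_replicate]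
      rcases eq_or_ne a 1 with rfl | h1
      · simp
      rcases eq_or_ne a 2 with rfl | h2
      · simp
      rw [if_neg (Ne.symm h1), if_neg (Ne.symm h2), Multiset.count_eq_zero_of_notMem fun ha => by
        have := hμ a ha; omega]
    set c₁ := μ.count 1
    set c₂ := μ.count 2
    have hn : c₁ + 2 * c₂ = n := by
      rw [← hsum, hμ']
      simp
      ring
    rw [Nat.odd_iff, Nat.even_iff] at h
    set b := min c₂ (m / 2)
    refine ⟨Multiset.replicate (m - 2 * b) 1 + Multiset.replicate b 2, ?_, ?_⟩
    · rw [hμ']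
      exact add_le_add ((Multiset.replicate_le_replicate 1).mpr (by omega))
        ((Multiset.replicate_le_replicate 2).mpr (by omega))
    · simp
      omega

/-- Elements of prime order of PSL_n(q) fixing no decomposition `F^n = U ⊕ W` with `dim U = m`. Here `T = PSL_n(F)` for a field `F` with `q = p^f` elements (`n ≥ 2`, `(n, q) ≠ (2, 2), (2, 3)`); an element of `T` of prime order `r` is represented by a matrix `x` of determinant 1 with `x^r` scalar and `x` not scalar; `i` denotes the multiplicative order of `q` modulo `r` (when `r ≠ p`), and `(a)_r` the `r`-part of `a`. Let `n ≥ 3`, `1 ≤ m < n/2`, and let `r` be a prime dividing the number of such decompositions (unordered pairs `{U, W}` of complementary subspaces with `dim U = m`; since `m ≠ n − m` these are the ordered pairs with `dim U = m`). Then every element of `T` of order `r` fixes such a pair (fixes both `U` and `W` for some complementary `U, W` with `dim U = m`) if and only if one of: (i) `r = p > 2` and every partition of `n` into parts of size at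 most `p` contains, as a sub-multiset, a partition of `m`; (ii) `r = p = 2` and `n` is odd or `m` is even; (iii) `r ≠ p`, `i = 1`, and `r ∣ m` or `(q−1)_r ≥ (n)_r` (with `q ≡ 1 (mod 4)` required when `r = 2` and `n` is even); (iv) `r ≠ p`, `2 ≤ i ≤ m` and `n mod i ≥ m mod i`. -/
theorem result {F : Type*} [Field F] [Fintype F] {p : ℕ} [Fact p.Prime] [CharP F p] {q : ℕ} (hq : Fintype.card F = q)
    (n m : ℕ) (hn : 3 ≤ n) (hm : 1 ≤ m) (hmn : 2 * m < n)
    (r : ℕ) [Fact r.Prime]
    (hrΩ : r ∣ Nat.card {P : Submodule F (Fin n → F) × Submodule F (Fin n → F) // IsCompl P.1 P.2 ∧ Module.finrank F ↥P.1 = m}) :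
    (∀ x : Matrix.SpecialLinearGroup (Fin n) F,
      (∃ c : F, ((x ^ r : Matrix.SpecialLinearGroup (Fin n) F) : Matrix (Fin n) (Fin n) F) = c • (1 : Matrix (Fin n) (Fin n) F)) →
      (∀ c : F, (x : Matrix (Fin n) (Fin n) F) ≠ c • (1 : Matrix (Fin n) (Fin n) F)) →
      ∃ U W : Submodule F (Fin n → F), IsCompl U W ∧ Module.finrank F ↥U = m ∧
        U.map (Matrix.toLin' (x : Matrix (Fin n) (Fin n) F)) ≤ U ∧ W.map (Matrix.toLin' (x : Matrix (Fin n) (Fin n) F)) ≤ W) ↔
    ((r = p ∧ 2 < p ∧ (∀ μ : Multiset ℕ, (∀ a ∈ μ, 0 < a ∧ a ≤ p) → μ.sum = n → ∃ ν : Multiset ℕ, ν ≤ μ ∧ ν.sum = m)) ∨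
     (r = p ∧ p = 2 ∧ (Odd n ∨ Even m)) ∨
     (r ≠ p ∧
      ((orderOf (q : ZMod r) = 1 ∧ (r ∣ m ∨ (padicValNat r n ≤ padicValNat r (q - 1) ∧ (r = 2 → Even n → q % 4 = 1)))) ∨
       (2 ≤ orderOf (q : ZMod r) ∧ orderOf (q : ZMod r) ≤ m ∧ m % orderOf (q : ZMod r) ≤ n % orderOf (q : ZMod r))))) := by
  classical
  have hp : p.Prime := Fact.out
  have hr : r.Prime := Fact.out
  obtain ⟨fe, -, hfe⟩ := FiniteField.card F p
  have hpq : p ∣ q := hq ▸ hfe ▸ dvd_pow_self p fe.ne_zero
  have hq2 : 2 ≤ q := hq ▸ Fintype.one_lt_card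
  have hn1 : 1 ≤ n := by omega
  haveI : Nonempty (Fin n) := ⟨⟨0, hn1⟩⟩
  by_cases hrp : r = p
  · subst hrp
    -- reduce to partitions
    have main : (∀ x : Matrix.SpecialLinearGroup (Fin n) F,
        (∃ c : F, ((x ^ r : Matrix.SpecialLinearGroup (Fin n) F) : Matrix (Fin n) (Fin n) F) = c • (1 : Matrix (Fin n) (Fin n) F)) →
        (∀ c : F, (x : Matrix (Fin n) (Fin n) F) ≠ c • (1 : Matrix (Fin n) (Fin n) F)) →
        ∃ U W : Submodule F (Fin n → F), IsCompl U W ∧ Module.finrank F ↥U = m ∧
          U.map (Matrix.toLin' (x : Matrix (Fin n) (Fin n) F)) ≤ U ∧ W.map (Matrix.toLin' (x : Matrix (Fin n) (Fin n) F)) ≤ W) ↔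
        ∀ μ : Multiset ℕ, (∀ a ∈ μ, 0 < a ∧ a ≤ r) → μ.sum = n → ∃ ν : Multiset ℕ, ν ≤ μ ∧ ν.sum = m := by
      constructor
      · intro h μ hμ hsum
        by_cases hall : ∀ a ∈ μ, a = 1
        · rw [Multiset.eq_replicate_card.mpr hall] at hsum ⊢
          refine ⟨Multiset.replicate m 1, (Multiset.replicate_le_replicate 1).mpr ?_, by simp⟩
          simp at hsum
          omega
        push Not at hall
        obtain ⟨a, ha, ha1⟩ := hall
        let lens : Fin μ.toList.length → ℕ := fun i => μ.toList.get i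
        have hmap : Finset.univ.val.map lens = μ := by rw [Fin.univ_val_map, List.ofFn_get, Multiset.coe_toList]
        have hls : ∑ i, lens i = n := by rw [Finset.sum_eq_multiset_sum, hmap, hsum]
        obtain ⟨N, hN, ⟨C⟩⟩ := CfsgLib.NilClasses.exists_model (F := F) lens hls
        have hmem : ∀ i, lens i ∈ μ := fun i => hmap ▸ Multiset.mem_map_of_mem _ (Finset.mem_univ i)
        have hNp : N ^ r = 0 := by
          refine C.b.ext fun s => ?_
          obtain ⟨i, j⟩ := s
          have := (hμ _ (hmem i)).2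
          rw [C.pow_apply, dif_neg (by omega), LinearMap.zero_apply]
        set M : Matrix (Fin n) (Fin n) F := 1 + LinearMap.toMatrix' N
        have hMp : M ^ r = 1 := by
          refine Matrix.toLin'.injective ?_
          rw [CfsgLib.Derange.toLin'_pow, map_add, Matrix.toLin'_toMatrix', Matrix.toLin'_one,
            show (LinearMap.id : Module.End F (Fin n → F)) = algebraMap F (Module.End F (Fin n → F)) 1 from (map_one _).symm]
          haveI : CharP (Module.End F (Fin n → F)) r :=
            charP_of_injective_algebraMap (algebraMap F (Module.End F (Fin n → F))).injective r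
          rw [map_one, add_pow_char_of_commute (p := r) (Commute.one_left N), one_pow, hNp, add_zero]
        have hdet : M.det = 1 := by
          refine frobenius_inj F r ?_
          rw [frobenius_def, frobenius_def, ← Matrix.det_pow, hMp, Matrix.det_one, one_pow]
        have hMlin : Matrix.toLin' M = 1 + N := by
          rw [map_add, Matrix.toLin'_toMatrix', Matrix.toLin'_one]
          rfl
        obtain ⟨X, hX⟩ : ∃ X : Matrix.SpecialLinearGroup (Fin n) F, (X : Matrix (Fin n) (Fin n) F) = M :=
          ⟨⟨M, hdet⟩, rfl⟩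
        obtain ⟨U, W, hc, hU, hUi, hWi⟩ := h X ⟨1, by
          rw [Matrix.SpecialLinearGroup.coe_pow, one_smul, hX]; exact hMp⟩ (by
          intro c hc
          rw [hX] at hc
          have h1 : (1 : Module.End F (Fin n → F)) + N = c • 1 := by
            rw [← hMlin, hc, CfsgLib.Derange.toLin'_smul_one]
          have h2 : N = (c - 1) • (1 : Module.End F (Fin n → F)) := by
            rw [show N = (1 + N) - 1 by abel, h1]; module
          have hc1 : c - 1 = 0 := by
            rw [h2, smul_pow, one_pow] at hNp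
            exact eq_zero_of_pow_eq_zero ((smul_eq_zero.mp hNp).resolve_right one_ne_zero)
          rw [hc1, zero_smul] at h2
          have h3 := C.finrank_range_pow 1
          rw [pow_one, h2, LinearMap.range_zero, finrank_bot] at h3
          obtain ⟨i, hi⟩ : ∃ i, lens i = a := by
            obtain ⟨i, -, hi⟩ := Multiset.mem_map.mp (hmap.symm ▸ ha : a ∈ Finset.univ.val.map lens)
            exact ⟨i, hi⟩
          have h4 := (Finset.sum_eq_zero_iff.mp h3.symm) i (Finset.mem_univ i)
          have := (hμ a ha).1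
          omega)
        rw [hX] at hUi hWi
        have hinv : ∀ S : Submodule F (Fin n → F), S.map (Matrix.toLin' M) ≤ S → ∀ v ∈ S, N v ∈ S := by
          intro S hS v hv
          have := hS ⟨v, hv, rfl⟩
          rw [hMlin, LinearMap.add_apply, Module.End.one_apply] at this
          exact (Submodule.add_mem_iff_right S hv).mp this
        obtain ⟨ν, hν, hν'⟩ := (CfsgLib.Derange.exists_pair_iff N (fun i => (hμ _ (hmem i)).1) C hN m).mp
          ⟨U, W, hc, hU, hinv U hUi, hinv W hWi⟩
        exact ⟨ν, hmap ▸ hν, hν'⟩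
      · intro h x hx hxs
        obtain ⟨c, hc⟩ := hx
        rw [Matrix.SpecialLinearGroup.coe_pow] at hc
        obtain ⟨b, hb⟩ := surjective_frobenius F r c
        rw [frobenius_def] at hb
        set T := Matrix.toLin' (x : Matrix (Fin n) (Fin n) F)
        set N : Module.End F (Fin n → F) := T - b • 1
        have hcomm : Commute T (b • (1 : Module.End F (Fin n → F))) := (Commute.one_right T).smul_right b
        haveI : CharP (Module.End F (Fin n → F)) r :=
          charP_of_injective_algebraMap (algebraMap F (Module.End F (Fin n → F))).injective r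
        have hNp : N ^ r = 0 := by
          rw [show N = T - b • 1 from rfl, sub_pow_char_of_commute (p := r) hcomm, ← CfsgLib.Derange.toLin'_pow, hc,
            CfsgLib.Derange.toLin'_smul_one, smul_pow, one_pow, hb, sub_self]
        obtain ⟨ι, _, μ, hμ, ⟨C⟩⟩ := CfsgLib.NilClasses.exists_chains n N (Module.finrank_fin_fun F) ⟨r, hNp⟩
        have hμr : ∀ i, μ i ≤ r := fun i => by
          have h1 := C.finrank_range_pow r
          rw [hNp, LinearMap.range_zero, finrank_bot] at h1
          have := (Finset.sum_eq_zero_iff.mp h1.symm) i (Finset.mem_univ i)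
          omega
        obtain ⟨ν, hν, hνm⟩ := h (Finset.univ.val.map μ) (fun a ha => by
          obtain ⟨i, -, rfl⟩ := Multiset.mem_map.mp ha
          exact ⟨hμ i, hμr i⟩) (by
          have h1 := Module.finrank_eq_card_basis C.b
          rw [Module.finrank_fin_fun, Fintype.card_sigma] at h1
          rw [← Finset.sum_eq_multiset_sum]
          simpa using h1.symm)
        obtain ⟨U, W, hc', hU, hUi, hWi⟩ :=
          (CfsgLib.Derange.exists_pair_iff N hμ C ⟨r, hNp⟩ m).mpr ⟨ν, hν, hνm⟩
        have hinv : ∀ S : Submodule F (Fin n → F), (∀ v ∈ S, N v ∈ S) → S.map T ≤ S := by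
          intro S hS
          rw [CfsgLib.Derange.map_le_iff]
          intro v hv
          rw [show T v = N v + b • v by simp [N]]
          exact S.add_mem (hS v hv) (S.smul_mem b hv)
        exact ⟨U, W, hc', hU, hinv U hUi, hinv W hWi⟩
    rw [main]
    constructor
    · intro h
      rcases hp.eq_two_or_odd' with rfl | hodd
      · exact Or.inr (Or.inl ⟨rfl, rfl, (two_parts n m (by omega)).mp h⟩)
      · exact Or.inl ⟨rfl, (by have := hp.two_le; rcases hodd with ⟨k, hk⟩; omega), h⟩
    · rintro (⟨-, -, h⟩ | ⟨-, rfl, h⟩ | ⟨h, -⟩)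
      · exact h
      · exact (two_parts n m (by omega)).mpr h
      · exact absurd rfl h
  · have hc := CfsgLib.Derange.card_subspaces_mul (V := Fin n → F) hq (k := m)
      (by rw [Module.finrank_fin_fun]; omega)
    rw [Module.finrank_fin_fun] at hc
    obtain ⟨a, ha, hcard⟩ := CfsgLib.Derange.exists_card_pairs (V := Fin n → F) hq m
    rw [hcard] at hrΩ
    have hrA : ¬ r ∣ a := fun h => by
      have h1 := hr.dvd_of_dvd_pow (h.trans ha)
      rw [← hq, hfe] at h1
      exact hrp ((Nat.prime_dvd_prime_iff_eq hr hp).mp (hr.dvd_of_dvd_pow h1))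
    obtain ⟨-, hj⟩ := CfsgLib.Derange.exists_exponent hp hpq hq2 (by omega) hc
      (((Nat.Prime.dvd_mul hr).mp hrΩ).resolve_right hrA)
    rw [CfsgLib.Derange.elusive_iff (p := p) hq hr hrp (by omega : 2 ≤ n)
      (fun T => ∃ U W : Submodule F (Fin n → F), IsCompl U W ∧ Module.finrank F ↥U = m ∧ U.map T ≤ U ∧ W.map T ≤ W)
      (fun b T hb => by simp only [Submodule.map_smul _ _ _ hb])
      (fun i l e => ∃ a b, a ≤ l ∧ b ≤ e ∧ a + b * i = m)
      (fun T i l e h => by
        simp only [CfsgLib.Derange.map_le_iff]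
        rw [← h.exists_invariant_iff m]
        exact ⟨fun ⟨U, W, _, hU, hUi, _⟩ => ⟨U, hU, hUi⟩,
          CfsgLib.Derange.exists_complement_pair T h.semisimple m⟩)
      (fun l e h => ⟨min m l, m - min m l, min_le_right _ _, by omega, by omega⟩)
      (fun i => ⟨m, 0, by omega, le_rfl, by omega⟩)]
    have hne : ∀ P Q R : Prop, ((r = p ∧ P) ∨ (r = p ∧ Q) ∨ (r ≠ p ∧ R)) ↔ R := fun P Q R => by
      simp [hrp]
    rw [hne, CfsgLib.Derange.one_case hr (m := m) fun hn' => ?_]
    · refine or_congr Iff.rfl (and_congr_right fun hi => ?_)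
      exact CfsgLib.Derange.subspace_two hi (by omega) hj
    · constructor
      · rintro ⟨a, b, ha, -, hab⟩
        exact ⟨b, by rw [mul_comm, ← hab]; omega⟩
      · intro h
        exact ⟨0, m / r, le_rfl, Nat.div_le_div_right (by omega), by rw [zero_add, Nat.div_mul_cancel h]⟩

end Cfsg.Agent.S5950
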