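import Cfsg.Statements.S5952
import Mathlib
-- import your own Cfsg.Agent.* helpers here

set_option autoImplicit false
open Cfsg

namespace Cfsg.Agent.S5952

theorem exists_submodule_le_finrank {F V : Type*} [Field F] [AddCommGroup V] [Module F V] [FiniteDimensional F V]
    (C : Submodule F V) (k : ℕ) (hk : k ≤ Module.finrank F C) :
    ∃ E : Submodule F V, E ≤ C ∧ Module.finrank F E = k := by
  let b := Module.finBasis F C
  refine ⟨(Submodule.span F (Set.range fun i : Fin k => b (Fin.castLE hk i))).map C.subtype,
    Submodule.map_subtype_le _ _, ?_⟩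
  rw [(Submodule.equivMapOfInjective C.subtype C.injective_subtype _).symm.finrank_eq]
  exact (finrank_span_eq_card (b.linearIndependent.comp _ (Fin.castLE_injective hk))).trans (Fintype.card_fin k)

/-- Which dimensions of invariant subspaces a semisimple linear map has. Let `V` be a finite-dimensional vector space over a field `F` and `f` an invertible semisimple linear map of `V`. Suppose `V` is the internal direct sum of the fixed space `C_V(f)` (the eigenspace for 1) and subspaces `U_1, …, U_s`, each `f`-invariant of dimension `a ≥ 1` on which `f` acts irreducibly (no `f`-invariant subspaces other than 0 and `U_j`). Let `0 < m < dim V` and `ℓ = m mod a`. Then `f` leaves some `m`-dimensional subspace invariant if and only if `dim C_V(f) ≥ m`, or `a ≤ m` and `dim C_V(f) ≥ ℓ`. -/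
theorem result {F V : Type*} [Field F] [AddCommGroup V] [Module F V]
    [FiniteDimensional F V] (f : V →ₗ[F] V) (hf : Function.Bijective f) (hss : Module.End.IsSemisimple f)
    {s a : ℕ} (ha : 1 ≤ a) (U : Fin s → Submodule F V)
    (hUinv : ∀ j, (U j).map f ≤ U j) (hUdim : ∀ j, Module.finrank F ↥(U j) = a)
    (hUirr : ∀ j, ∀ W : Submodule F V, W ≤ U j → W.map f ≤ W → W = ⊥ ∨ W = U j)
    (hdec : DirectSum.IsInternal (fun o : Option (Fin s) => o.elim (Module.End.eigenspace f 1) U))
    (m : ℕ) (hm : 0 < m) (hmV : m < Module.finrank F V) :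
    (∃ W : Submodule F V, Module.finrank F ↥W = m ∧ W.map f ≤ W) ↔
    (m ≤ Module.finrank F ↥(Module.End.eigenspace f 1) ∨
      (a ≤ m ∧ m % a ≤ Module.finrank F ↥(Module.End.eigenspace f 1))) := by
  classical
  set C := Module.End.eigenspace f 1
  have hind := hdec.submodule_iSupIndep
  have hC : ∀ v ∈ C, f v = v := fun v hv => by
    have := Module.End.mem_eigenspace_iff.mp hv; rwa [one_smul] at this
  let X : Finset (Fin s) → Submodule F V := fun S => S.sup U
  have hXinv : ∀ S, (X S).map f ≤ X S := fun S => by
    induction S using Finset.induction with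
    | empty => simp [X]
    | @insert j S _ ih =>
      show ((insert j S).sup U).map f ≤ (insert j S).sup U
      rw [Finset.sup_insert, Submodule.map_sup]
      exact sup_le_sup (hUinv j) ih
  have hXd : ∀ S j, j ∉ S → Disjoint (U j) (X S) := fun S j hj => by
    refine (hind (some j)).mono_right ?_
    refine Finset.sup_le fun i hi => ?_
    exact le_iSup₂_of_le (f := fun o (_ : o ≠ some j) => o.elim C U) (some i) (by simpa using fun e : i = j => hj (e ▸ hi)) le_rfl
  have hCd : ∀ S, Disjoint C (X S) := fun S => by
    refine (hind none).mono_right (Finset.sup_le fun i _ => ?_)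
    exact le_iSup₂_of_le (f := fun o (_ : o ≠ none) => o.elim C U) (some i) (by simp) le_rfl
  have hXdim : ∀ S, Module.finrank F (X S) = S.card * a := fun S => by
    induction S using Finset.induction with
    | empty => simp [X]
    | @insert j S hj ih =>
      have h := Submodule.finrank_sup_add_finrank_inf_eq (U j) (X S)
      rw [(hXd S j hj).eq_bot, finrank_bot, hUdim, ih] at h
      show Module.finrank F ↥((insert j S).sup U) = _
      rw [Finset.sup_insert, Finset.card_insert_of_notMem hj, add_mul, one_mul]
      change Module.finrank F ↥(U j ⊔ X S) = _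
      omega
  have htop : C ⊔ X Finset.univ = ⊤ := by
    rw [eq_top_iff, ← hdec.submodule_iSup_eq_top]
    refine iSup_le fun o => ?_
    cases o with
    | none => exact le_sup_left
    | some i => exact le_sup_of_le_right (Finset.le_sup (f := U) (Finset.mem_univ i))
  have hVdim : Module.finrank F V = Module.finrank F C + s * a := by
    have h := Submodule.finrank_sup_add_finrank_inf_eq C (X Finset.univ)
    rw [(hCd _).eq_bot, finrank_bot, htop, finrank_top, hXdim, Finset.card_univ, Fintype.card_fin] at h
    omega
  constructor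
  · rintro ⟨W, hWm, hWf⟩
    by_cases hmc : m ≤ Module.finrank F C
    · exact Or.inl hmc
    right
    let g : V →ₗ[F] V := f - LinearMap.id
    have hg : ∀ v, g v ∈ X Finset.univ := by
      intro v
      obtain ⟨c, hc, u, hu, rfl⟩ := Submodule.mem_sup.mp (htop.ge (Submodule.mem_top (x := v)))
      rw [map_add]
      refine Submodule.add_mem _ ?_ (Submodule.sub_mem _ (hXinv _ ⟨u, hu, rfl⟩) hu)
      show f c - c ∈ _
      rw [hC c hc, sub_self]; exact Submodule.zero_mem _
    let D := W.map g
    have hDW : D ≤ W := by
      rintro _ ⟨w, hw, rfl⟩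
      exact Submodule.sub_mem _ (hWf ⟨w, hw, rfl⟩) hw
    have hDinv : D.map f ≤ D := by
      rintro _ ⟨_, ⟨w, hw, rfl⟩, rfl⟩
      exact ⟨f w, hWf ⟨w, hw, rfl⟩, by simp [g]⟩
    have hsum : Module.finrank F D + Module.finrank F ↥(W ⊓ C) = m := by
      have h := LinearMap.finrank_range_add_finrank_ker (g.comp W.subtype)
      rw [LinearMap.range_comp, Submodule.range_subtype, hWm] at h
      have hk : LinearMap.ker (g.comp W.subtype) = (W ⊓ C).comap W.subtype := by
        ext w
        simp only [LinearMap.mem_ker, Submodule.mem_comap, Submodule.mem_inf]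
        show f (w : V) - (w : V) = 0 ↔ (w : V) ∈ W ∧ (w : V) ∈ C
        rw [sub_eq_zero]
        exact ⟨fun e => ⟨w.2, Module.End.mem_eigenspace_iff.mpr (by rw [one_smul]; exact e)⟩, fun e => hC _ e.2⟩
      rw [hk, (Submodule.comapSubtypeEquivOfLe inf_le_left).finrank_eq] at h
      exact h
    have hdvd : ∀ S : Finset (Fin s), ∀ E : Submodule F V, E.map f ≤ E → E ≤ X S → a ∣ Module.finrank F E := by
      intro S
      induction S using Finset.induction with
      | empty => intro E _ hE; rw [show E = ⊥ from le_bot_iff.mp (by simpa [X] using hE)]; simp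
      | @insert j S hj ih =>
        intro E hEf hE
        have hEX : E ⊔ X S ≤ U j ⊔ X S := sup_le (by simpa [X, Finset.sup_insert] using hE) le_sup_right
        have h1 := ih (E ⊓ X S) ((Submodule.map_inf_le f).trans (inf_le_inf hEf (hXinv S))) inf_le_right
        have h2 := Submodule.finrank_sup_add_finrank_inf_eq E (X S)
        have heq : E ⊔ X S = ((E ⊔ X S) ⊓ U j) ⊔ X S := by
          rw [inf_sup_assoc_of_le (U j) (le_sup_right : X S ≤ E ⊔ X S)]
          exact (inf_eq_left.mpr hEX).symm
        rcases hUirr j ((E ⊔ X S) ⊓ U j) inf_le_right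
          ((Submodule.map_inf_le f).trans (inf_le_inf (by rw [Submodule.map_sup]; exact sup_le_sup hEf (hXinv S)) (hUinv j))) with e | e
        · rw [heq, e, bot_sup_eq] at h2
          rwa [show Module.finrank F E = Module.finrank F ↥(E ⊓ X S) by omega]
        · rw [heq, e] at h2
          have h3 := Submodule.finrank_sup_add_finrank_inf_eq (U j) (X S)
          rw [(hXd S j hj).eq_bot, finrank_bot, hUdim] at h3
          rw [show Module.finrank F E = a + Module.finrank F ↥(E ⊓ X S) by omega]
          exact Nat.dvd_add (dvd_refl a) h1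
    obtain ⟨q, hq⟩ := hdvd Finset.univ D hDinv (by rintro _ ⟨w, -, rfl⟩; exact hg w)
    have hle : Module.finrank F ↥(W ⊓ C) ≤ Module.finrank F C := Submodule.finrank_mono inf_le_right
    have hq1 : 1 ≤ q := by
      rcases q with _ | q
      · rw [mul_zero] at hq; omega
      · omega
    refine ⟨by nlinarith, ?_⟩
    rw [show m = Module.finrank F ↥(W ⊓ C) + a * q by omega, Nat.add_mul_mod_self_left]
    exact (Nat.mod_le _ _).trans hle
  · intro h
    obtain ⟨k, hk, hka, hkc⟩ : ∃ k ≤ s, k * a ≤ m ∧ m ≤ Module.finrank F C + k * a := by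
      rcases h with h | ⟨-, h⟩
      · exact ⟨0, Nat.zero_le _, by simp, by simpa using h⟩
      · rcases le_or_gt (m / a) s with hs | hs
        · refine ⟨m / a, hs, Nat.div_mul_le_self m a, ?_⟩
          have := Nat.div_add_mod m a
          rw [mul_comm] at this
          omega
        · refine ⟨s, le_rfl, (Nat.mul_le_mul_right a hs.le).trans (Nat.div_mul_le_self m a), ?_⟩
          omega
    obtain ⟨S, -, hS⟩ := Finset.exists_subset_card_eq (s := (Finset.univ : Finset (Fin s))) (n := k) (by simpa using hk)
    obtain ⟨E, hE⟩ := exists_submodule_le_finrank (F := F) C (m - k * a) (by omega)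
    refine ⟨E ⊔ X S, ?_, ?_⟩
    · have h := Submodule.finrank_sup_add_finrank_inf_eq E (X S)
      rw [((hCd S).mono_left hE.1).eq_bot, finrank_bot, hE.2, hXdim, hS] at h
      omega
    · rw [Submodule.map_sup]
      refine sup_le_sup ?_ (hXinv S)
      rintro _ ⟨e, he, rfl⟩
      rw [hC e (hE.1 he)]; exact he

end Cfsg.Agent.S5952
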