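import Cfsg.Statements.S5955
import Cfsg.Agent.Lib.Derange.SympMain
import Cfsg.Agent.Lib.Derange.SympWindow
import Cfsg.Agent.Lib.Derange.SympQuadratic
-- import your own Cfsg.Agent.* helpers here

set_option autoImplicit false
open scoped MatrixGroups
open Cfsg

namespace Cfsg.Agent.S5955

open Module in
/-- An element squaring to a scalar fixes totally isotropic subspaces. -/
theorem involution_fix {F : Type*} [Field F] [Fintype F] (hF : (2 : F) ≠ 0) {d m : ℕ} (hmd : m ≤ d) (hd : 0 < d)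
    (hc : Even m ∨ IsSquare (-1 : F)) (x : ↥(Matrix.symplecticGroup (Fin d) F))
    (hx1 : ∃ z : F, ((x ^ 2 : ↥(Matrix.symplecticGroup (Fin d) F)) : Matrix (Fin d ⊕ Fin d) (Fin d ⊕ Fin d) F) = z • 1) :
    ∃ W : Submodule F (Fin d ⊕ Fin d → F), finrank F ↥W = m ∧ (∀ u ∈ W, ∀ v ∈ W, Cfsg.sympForm d F u v = 0) ∧
      W.map (Matrix.toLin' (x : Matrix (Fin d ⊕ Fin d) (Fin d ⊕ Fin d) F)) ≤ W := by
  obtain ⟨z, hz⟩ := hx1
  have hzz := CfsgLib.Derange.Sp.scalar_sq hd _ hz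
  set B := CfsgLib.Classical.SympClasses.sb F d
  set g := CfsgLib.Derange.Sp.lin x
  have halt : ∀ u, B u u = 0 := (CfsgLib.Classical.SympClasses.symp_sb F d).alt
  have hg : ∀ u v, B (g u) (g v) = B u v := CfsgLib.Classical.SympClasses.app_isometry x
  have hgg : ∀ u, g (g u) = z • u := fun u => by
    show Matrix.toLin' _ (Matrix.toLin' _ u) = _
    rw [Matrix.toLin'_apply, Matrix.toLin'_apply, Matrix.mulVec_mulVec, ← pow_two, ← SubmonoidClass.coe_pow, hz,
      Matrix.smul_mulVec, Matrix.one_mulVec]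
  have hz' : z = 1 ∨ z = -1 := mul_self_eq_one_iff.1 hzz
  have horth : ∀ W : Submodule F (Fin d ⊕ Fin d → F), finrank F (B.orthogonal W) = 2 * d - finrank F W := fun W => by
    rw [LinearMap.BilinForm.finrank_orthogonal (CfsgLib.Derange.Sp.sb_nondeg d), CfsgLib.Derange.Sp.finrank_std]
  suffices h : ∃ W : Submodule F (Fin d ⊕ Fin d → F), finrank F W = m ∧ (∀ u ∈ W, ∀ v ∈ W, B u v = 0) ∧
      ∀ v ∈ W, g v ∈ W by
    obtain ⟨W, h1, h2, h3⟩ := h
    exact ⟨W, h1, fun u hu v hv => (CfsgLib.Classical.SympClasses.sb_apply u v).symm.trans (h2 u hu v hv),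
      Submodule.map_le_iff_le_comap.2 h3⟩
  have h0 : ∃ W : Submodule F (Fin d ⊕ Fin d → F), finrank F W = 0 ∧ (∀ u ∈ W, ∀ v ∈ W, B u v = 0) ∧
      ∀ v ∈ W, g v ∈ W :=
    ⟨⊥, finrank_bot F _, fun u hu v _ => by rw [(Submodule.mem_bot F).1 hu]; simp,
      fun v hv => by rw [(Submodule.mem_bot F).1 hv, map_zero]; exact Submodule.zero_mem _⟩
  by_cases hs : ∃ s : F, s * s = z
  · have key : ∀ k ≤ m, ∃ W : Submodule F (Fin d ⊕ Fin d → F), finrank F W = k ∧ (∀ u ∈ W, ∀ v ∈ W, B u v = 0) ∧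
        ∀ v ∈ W, g v ∈ W := by
      intro k
      induction k with
      | zero => exact fun _ => h0
      | succ k ih =>
        intro hk
        obtain ⟨W, h1, h2, h3⟩ := ih (by omega)
        obtain ⟨W', h4, h5⟩ := CfsgLib.Derange.Sp.exists_step hF B halt g hg hz' hgg W h2 h3 hs
          (by rw [horth]; omega)
        exact ⟨W', by omega, h5⟩
    exact key m le_rfl
  · rcases hz' with rfl | rfl
    · exact absurd ⟨1, mul_one 1⟩ hs
    have hns : ¬ IsSquare (-1 : F) := fun ⟨s, h⟩ => hs ⟨s, h.symm⟩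
    obtain ⟨l, rfl⟩ := hc.resolve_right hns
    have key : ∀ k ≤ l, ∃ W : Submodule F (Fin d ⊕ Fin d → F), finrank F W = k + k ∧ (∀ u ∈ W, ∀ v ∈ W, B u v = 0) ∧
        ∀ v ∈ W, g v ∈ W := by
      intro k
      induction k with
      | zero => exact fun _ => h0
      | succ k ih =>
        intro hk
        obtain ⟨W, h1, h2, h3⟩ := ih (by omega)
        obtain ⟨W', h4, h5⟩ := CfsgLib.Derange.Sp.exists_step_two hF B halt g hg
          (fun u => by rw [hgg, neg_one_smul]) hns W h2 h3 (by rw [horth]; omega)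
        exact ⟨W', by omega, h5⟩
    exact key l le_rfl

open Module in
/-- The standard element of square `-1` fixes odd-dimensional subspaces only if `-1` is a square. -/
theorem j_fix {F : Type*} [Field F] {d m : ℕ} (hmd : m ≤ d) (hd : 0 < d) (hm : ¬ Even m)
    (H : (∃ z : F, (((⟨Matrix.J (Fin d) F, SymplecticGroup.J_mem _ _⟩ : ↥(Matrix.symplecticGroup (Fin d) F)) ^ 2 :
        ↥(Matrix.symplecticGroup (Fin d) F)) : Matrix (Fin d ⊕ Fin d) (Fin d ⊕ Fin d) F) = z • 1) →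
      (∀ z : F, Matrix.J (Fin d) F ≠ z • 1) →
      ∃ W : Submodule F (Fin d ⊕ Fin d → F), finrank F ↥W = m ∧ (∀ u ∈ W, ∀ v ∈ W, Cfsg.sympForm d F u v = 0) ∧
        W.map (Matrix.toLin' (Matrix.J (Fin d) F)) ≤ W) :
    IsSquare (-1 : F) := by
  have hJ : Matrix.J (Fin d) F * Matrix.J (Fin d) F = (-1 : F) • 1 := by
    rw [Matrix.J_squared, neg_smul, one_smul]
  obtain ⟨W, hWd, -, hW⟩ := H ⟨-1, by rw [SubmonoidClass.coe_pow, pow_two]; exact hJ⟩ fun z h => by
    have h1 := congrFun (congrFun h (Sum.inr ⟨0, hd⟩)) (Sum.inl ⟨0, hd⟩)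
    simp [Matrix.J] at h1
  have hW' : ∀ v ∈ W, Matrix.toLin' (Matrix.J (Fin d) F) v ∈ W := fun v hv => hW ⟨v, hv, rfl⟩
  have hTT : (Matrix.toLin' (Matrix.J (Fin d) F)).restrict hW' * (Matrix.toLin' (Matrix.J (Fin d) F)).restrict hW' =
      (-1 : F) • 1 := LinearMap.ext fun v => Subtype.ext (by
    show Matrix.toLin' (Matrix.J (Fin d) F) (Matrix.toLin' (Matrix.J (Fin d) F) (v : Fin d ⊕ Fin d → F)) = (-1 : F) • (v : Fin d ⊕ Fin d → F)
    rw [Matrix.toLin'_apply, Matrix.toLin'_apply, Matrix.mulVec_mulVec, hJ, Matrix.smul_mulVec, Matrix.one_mulVec])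
  have h := congrArg LinearMap.det hTT
  rw [map_mul, LinearMap.det_smul, map_one, mul_one, hWd, (Nat.not_even_iff_odd.1 hm).neg_one_pow] at h
  exact ⟨_, h.symm⟩


/-- Elements of prime order of PSp_n(q) with no fixed totally isotropic `m`-space. Here `T = PSp_n(q)` with `n = 2d ≥ 4`, `(n, q) ≠ (4, 2)`, realised through the symplectic matrices over the field `F` with `q` elements (preserving the standard alternating form); an element of `T` of prime order `r` is such a matrix `x` with `x^r` scalar and `x` not scalar. For `r ≠ p` let `i` be the multiplicative order of `q` modulo `r`, `c = i` for `i` even and `c = 2i` for `i` odd, and write `k = n mod c`, `ℓ = m mod i`, `ℓ' = m mod c`, `n' = ⌊n/i⌋`, `m' = ⌊m/i⌋`, `t = (r−1)/i`. Let `1 ≤ m ≤ n/2` and let `r` be a prime dividing the number of totally isotropic `m`-spaces. Then every element of `T` of order `r` fixes a totally isotropic `m`-space if and only if either (i) `r = 2 ≠ p`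 and (`m` is even or `q ≡ 1 (mod 4)`); or (ii) `r ≠ p`, `r > 2`, `i ≤ m`, `k ≥ 2ℓ`, and (`i` is odd or `n' − 2m' ≥ t`). -/
theorem result {F : Type*} [Field F] [Fintype F] {p : ℕ} [Fact p.Prime] [CharP F p] {q : ℕ} (hq : Fintype.card F = q)
    (d m : ℕ) (hd : 2 ≤ d) (hT : (d, q) ≠ (2, 2)) (hm : 1 ≤ m) (hmd : m ≤ d)
    (r : ℕ) [Fact r.Prime]
    (hrΩ : r ∣ Nat.card {W : Submodule F (Fin d ⊕ Fin d → F) // Module.finrank F ↥W = m ∧ (∀ u ∈ W, ∀ v ∈ W, Cfsg.sympForm d F u v = 0)})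
    (i c : ℕ) (hi : i = orderOf (q : ZMod r)) (hc : c = if Even i then i else 2 * i) :
    (∀ x : ↥(Matrix.symplecticGroup (Fin d) F),
      (∃ z : F, ((x ^ r : ↥(Matrix.symplecticGroup (Fin d) F)) : Matrix (Fin d ⊕ Fin d) (Fin d ⊕ Fin d) F) = z • (1 : Matrix (Fin d ⊕ Fin d) (Fin d ⊕ Fin d) F)) →
      (∀ z : F, (x : Matrix (Fin d ⊕ Fin d) (Fin d ⊕ Fin d) F) ≠ z • (1 : Matrix (Fin d ⊕ Fin d) (Fin d ⊕ Fin d) F)) →
      ∃ W : Submodule F (Fin d ⊕ Fin d → F), Module.finrank F ↥W = m ∧ (∀ u ∈ W, ∀ v ∈ W, Cfsg.sympForm d F u v = 0) ∧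
        W.map (Matrix.toLin' (x : Matrix (Fin d ⊕ Fin d) (Fin d ⊕ Fin d) F)) ≤ W) ↔
    ((r = 2 ∧ p ≠ 2 ∧ (Even m ∨ q % 4 = 1)) ∨
     (r ≠ p ∧ 2 < r ∧ i ≤ m ∧ 2 * (m % i) ≤ (2 * d) % c ∧ (Odd i ∨ (r - 1) / i + 2 * (m / i) ≤ (2 * d) / i))) := by
  classical
  have hr : r.Prime := Fact.out
  have hΩ := hrΩ
  simp only [← CfsgLib.Classical.SympClasses.sb_apply] at hΩ
  have hrp : r ≠ p := fun h => CfsgLib.Derange.Sp.not_dvd_card_isotropic (p := p) hmd (h ▸ hΩ)
  by_cases hr2 : r = 2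
  · subst hr2
    have hp2 : p ≠ 2 := Ne.symm hrp
    have hF : (2 : F) ≠ 0 := Ring.two_ne_zero fun e => hp2 ((ringChar.eq F p).symm.trans e)
    have hq4 : IsSquare (-1 : F) ↔ q % 4 = 1 := by
      have := FiniteField.odd_card_of_char_ne_two (F := F) fun e => hp2 ((ringChar.eq F p).symm.trans e)
      rw [hq] at this
      rw [FiniteField.isSquare_neg_one_iff, hq]
      omega
    simp only [lt_irrefl, false_and, and_false, or_false, ne_eq, hp2, not_false_eq_true, true_and]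
    rw [← hq4]
    constructor
    · intro H
      by_contra hc
      push Not at hc
      obtain ⟨hmo, hns⟩ := hc
      exact hns (j_fix hmd (by omega) hmo (H ⟨_, SymplecticGroup.J_mem _ _⟩))
    · intro hc x hx1 hx2
      exact involution_fix hF hmd (by omega) hc x hx1
  · obtain ⟨j, hj, hjd, hdvd⟩ := CfsgLib.Derange.Sp.isotropic_window (p := p) hq hr hrp hi hmd hΩ
    obtain ⟨t, D, X⟩ := CfsgLib.Derange.exists_ctx hq hr hr2 hrp hi
    have hcu : c = CfsgLib.Derange.unitDim i := hc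
    rw [← hcu] at hdvd
    have hle : c ≤ 2 * d := (Nat.le_of_dvd (by omega) hdvd).trans (by omega)
    have hwin : (2 * d) % c < 2 * m := by
      obtain ⟨l, hl⟩ := hdvd
      rw [show 2 * d = 2 * (d - j) + c * l by omega, Nat.add_mul_mod_self_left]
      exact (Nat.mod_le _ _).trans_lt (by omega)
    have htr : (r - 1) / i = t := by rw [← X.mul, Nat.mul_div_cancel _ X.i_pos]
    rw [CfsgLib.Derange.Sp.isotropic_iff X (by omega) hmd,
      CfsgLib.Derange.Sp.pairs_iff X.i_pos (hcu ▸ hle) hmd (hcu ▸ hwin), ← hcu, htr]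
    have h2r : 2 < r := lt_of_le_of_ne hr.two_le (Ne.symm hr2)
    simp only [hr2, false_and, false_or, h2r, true_and, Ne, hrp, not_false_eq_true]

end Cfsg.Agent.S5955
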