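import Cfsg.Statements.S5956
import Cfsg.Agent.Lib.Derange.SympNondeg
import Cfsg.Agent.Lib.Derange.SympWindow
-- import your own Cfsg.Agent.* helpers here

set_option autoImplicit false
open scoped MatrixGroups
open Cfsg

namespace Cfsg.Agent.S5956

/-- Elements of prime order of PSp_n(q) with no fixed nondegenerate `m`-space. Here `T = PSp_n(q)` with `n = 2d ≥ 4`, `(n, q) ≠ (4, 2)`, realised through the symplectic matrices over the field `F` with `q` elements (preserving the standard alternating form); an element of `T` of prime order `r` is such a matrix `x` with `x^r` scalar and `x` not scalar. For `r ≠ p` let `i` be the multiplicative order of `q` modulo `r`, `c = i` for `i` even and `c = 2i` for `i` odd, and write `k = n mod c`, `ℓ = m mod i`, `ℓ' = m mod c`, `n' = ⌊n/i⌋`, `m' = ⌊m/i⌋`, `t = (r−1)/i`. Let `m` be even with `2 ≤ m < n/2` and let `r` be a prime dividing the number of nondegenerate `m`-spaces. Then every element of `T` of order `r` fixes a nondegenerate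 `m`-space if and only if one of: (i) `r = p > 2` and every partition of `n` into parts of size at most `p` in which every odd part has even multiplicity contains (as a sub-multiset) a partition of `m` in which every odd part has even multiplicity; (ii) `r = p = 2` and (`n ≡ 2 (mod 4)` or `m ≡ 0 (mod 4)`); (iii) `r = 2 ≠ p`; (iv) `r ≠ p`, `r > 2`, `c ≤ m` and `k ≥ ℓ'`. -/
theorem result {F : Type*} [Field F] [Fintype F] {p : ℕ} [Fact p.Prime] [CharP F p] {q : ℕ} (hq : Fintype.card F = q)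
    (d m : ℕ) (hd : 2 ≤ d) (hT : (d, q) ≠ (2, 2)) (hm : 2 ≤ m) (hme : Even m) (hmd : m < d)
    (r : ℕ) [Fact r.Prime]
    (hrΩ : r ∣ Nat.card {W : Submodule F (Fin d ⊕ Fin d → F) // Module.finrank F ↥W = m ∧ (∀ u ∈ W, u ≠ 0 → ∃ v ∈ W, Cfsg.sympForm d F u v ≠ 0)})
    (i c : ℕ) (hi : i = orderOf (q : ZMod r)) (hc : c = if Even i then i else 2 * i) :
    (∀ x : ↥(Matrix.symplecticGroup (Fin d) F),
      (∃ z : F, ((x ^ r : ↥(Matrix.symplecticGroup (Fin d) F)) : Matrix (Fin d ⊕ Fin d) (Fin d ⊕ Fin d) F) = z • (1 : Matrix (Fin d ⊕ Fin d) (Fin d ⊕ Fin d) F)) →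
      (∀ z : F, (x : Matrix (Fin d ⊕ Fin d) (Fin d ⊕ Fin d) F) ≠ z • (1 : Matrix (Fin d ⊕ Fin d) (Fin d ⊕ Fin d) F)) →
      ∃ W : Submodule F (Fin d ⊕ Fin d → F), Module.finrank F ↥W = m ∧ (∀ u ∈ W, u ≠ 0 → ∃ v ∈ W, Cfsg.sympForm d F u v ≠ 0) ∧
        W.map (Matrix.toLin' (x : Matrix (Fin d ⊕ Fin d) (Fin d ⊕ Fin d) F)) ≤ W) ↔
    ((r = p ∧ 2 < p ∧ (∀ μ : Multiset ℕ, (∀ a ∈ μ, 0 < a ∧ a ≤ p) → (∀ a : ℕ, Odd a → Even (μ.count a)) → μ.sum = 2 * d →
        ∃ ν : Multiset ℕ, ν ≤ μ ∧ ν.sum = m ∧ ∀ a : ℕ, Odd a → Even (ν.count a))) ∨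
     (r = p ∧ p = 2 ∧ ((2 * d) % 4 = 2 ∨ m % 4 = 0)) ∨
     (r = 2 ∧ p ≠ 2) ∨
     (r ≠ p ∧ 2 < r ∧ c ≤ m ∧ m % c ≤ (2 * d) % c)) := by
  classical
  have hr : r.Prime := Fact.out
  have hp : p.Prime := Fact.out
  obtain ⟨a, rfl⟩ := hme
  rw [show a + a = 2 * a by ring] at *
  simp only [CfsgLib.Derange.Sp.nond_iff] at hrΩ ⊢
  have hmap : ∀ (x : ↥(Matrix.symplecticGroup (Fin d) F)) (W : Submodule F (Fin d ⊕ Fin d → F)),
      W.map (Matrix.toLin' (x : Matrix (Fin d ⊕ Fin d) (Fin d ⊕ Fin d) F)) ≤ W ↔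
        ∀ v ∈ W, CfsgLib.Derange.Sp.lin x v ∈ W := fun x W => Submodule.map_le_iff_le_comap
  simp only [hmap]
  have hd0 : 0 < d := by omega
  by_cases hrp : r = p
  · subst hrp
    by_cases hr2 : r = 2
    · subst hr2
      simp only [lt_irrefl, false_and, and_false, false_or, ne_eq, not_true_eq_false, true_and, or_false]
      constructor
      · intro H
        by_contra hc
        push Not at hc
        obtain ⟨x, hx2, hx, hno⟩ := CfsgLib.Derange.Sp.exists_alternate (F := F) hd0 (Nat.even_iff.2 (by omega))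
        obtain ⟨W, hWd, hW, hWg⟩ := H x ⟨1, by rw [hx2, one_smul]; rfl⟩ hx
        obtain ⟨c, hc4⟩ := hno W hW hWg
        omega
      · intro hc x hx1 hx2
        obtain ⟨z, hz⟩ := hx1
        have hzz := CfsgLib.Derange.Sp.scalar_sq hd0 _ hz
        have hz1 : z = 1 := by
          rcases mul_self_eq_one_iff.1 hzz with h | h
          · exact h
          · rw [h, CharTwo.neg_eq]
        have hy : x ^ 2 = 1 := Subtype.ext (by rw [hz, hz1, one_smul]; rfl)
        exact CfsgLib.Derange.Sp.fix_two hd0 (by omega)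
          (by rcases hc with h | h
              · exact Or.inl (Nat.odd_iff.2 (by omega))
              · exact Or.inr (Nat.even_iff.2 (by omega))) x hy
    · have hodd : Odd r := hr.odd_of_ne_two hr2
      have h2r : 2 < r := lt_of_le_of_ne hr.two_le (Ne.symm hr2)
      have hF : (2 : F) ≠ 0 := Ring.two_ne_zero fun e => hr2 ((ringChar.eq F r).symm.trans e)
      simp only [hr2, false_and, and_false, or_false, h2r, true_and, ne_eq, not_true_eq_false]
      constructor
      · exact fun H => CfsgLib.Derange.Sp.partitions_of_fix hd0 (even_two_mul a) hmd H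
      · intro H x hx1 hx2
        obtain ⟨y, hy, -, s, -, hs⟩ := CfsgLib.Derange.Sp.exists_sign hd0 hodd x hx1 hx2
        obtain ⟨W, hWd, hW, hWg⟩ := CfsgLib.Derange.Sp.fix_of_partitions hF hd0 H y hy
        exact ⟨W, hWd, hW, fun v hv => by rw [hs]; exact W.smul_mem _ (hWg v hv)⟩
  · by_cases hr2 : r = 2
    · subst hr2
      have hp2 : p ≠ 2 := Ne.symm hrp
      have hF : (2 : F) ≠ 0 := Ring.two_ne_zero fun e => hp2 ((ringChar.eq F p).symm.trans e)
      simp only [hrp, hp2, lt_irrefl, false_and, and_false, false_or, ne_eq, not_false_eq_true, or_false, true_and, iff_true]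
      intro x hx1 _
      obtain ⟨z, hz⟩ := hx1
      have hzz := CfsgLib.Derange.Sp.scalar_sq hd0 _ hz
      refine CfsgLib.Derange.Sp.fix_semisimple hF (CfsgLib.Derange.Sp.lin x)
        (CfsgLib.Classical.SympClasses.app_isometry x) (mul_self_eq_one_iff.1 hzz) (fun u => ?_) a (by omega)
      show Matrix.toLin' _ (Matrix.toLin' _ u) = _
      rw [Matrix.toLin'_apply, Matrix.toLin'_apply, Matrix.mulVec_mulVec, ← pow_two, ← SubmonoidClass.coe_pow, hz,
        Matrix.smul_mulVec, Matrix.one_mulVec]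
    · obtain ⟨j, hj, hjd, hdvd⟩ := CfsgLib.Derange.Sp.nondeg_window (p := p) hq hr hrp hi (show a ≤ d by omega) hrΩ
      obtain ⟨t, D, X⟩ := CfsgLib.Derange.exists_ctx hq hr hr2 hrp hi
      have hcu : c = CfsgLib.Derange.unitDim i := hc
      have hwin : (2 * d) % c < 2 * a := by
        rw [← hcu] at hdvd
        obtain ⟨l, hl⟩ := hdvd
        rw [show 2 * d = 2 * (d - j) + c * l by omega, Nat.add_mul_mod_self_left]
        exact (Nat.mod_le _ _).trans_lt (by omega)
      have hle : c ≤ 2 * d := hcu ▸ (Nat.le_of_dvd (by omega) hdvd).trans (by omega)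
      rw [CfsgLib.Derange.Sp.nondeg_iff X hd0 (show a ≤ d by omega), ← hcu,
        CfsgLib.Derange.Sp.units_iff (hcu ▸ CfsgLib.Derange.unitDim_pos X.i_pos) hle (by omega) hwin]
      have h2r : 2 < r := lt_of_le_of_ne hr.two_le (Ne.symm hr2)
      simp only [hrp, hr2, h2r, false_and, false_or, true_and, ne_eq, not_false_eq_true]

end Cfsg.Agent.S5956
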