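import Cfsg.Statements.S5958
import Cfsg.Agent.Lib.Derange.LinearDecomp

set_option autoImplicit false
open scoped MatrixGroups
open Cfsg

namespace Cfsg.Agent.S5958

open Module Polynomial CfsgLib.Derange CfsgLib.Derange.LinDec
open scoped Pointwise

universe u

variable {F : Type u} [Field F] [Fintype F] {p : ℕ} [hp : Fact p.Prime] [CharP F p] {n a t q r c : ℕ}

/-- A prime dividing the number of decompositions divides some `q ^ i - 1`. -/
theorem count_window (hq : Fintype.card F = q) (hr : r.Prime) (hrq : ¬ r ∣ q) (ha : 0 < a) (ht : 2 ≤ t) (hn : n = a * t)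
    (hΩ : r ∣ Nat.card {D : Fin t → Submodule F (Fin n → F) // Cfsg.Geo.IsMDecomposition a D} / Nat.factorial t) :
    orderOf (q : ZMod r) ≤ n := by
  classical
  set X := {D : Fin t → Submodule F (Fin n → F) // Cfsg.Geo.IsMDecomposition a D}
  have hperm : ∀ (σ : Equiv.Perm (Fin t)) (D : X), Cfsg.Geo.IsMDecomposition a (D.1 ∘ σ) := fun σ D =>
    ⟨D.2.two_le, D.2.pos, fun j => D.2.finrank_eq _, D.2.indep.comp σ.injective,
      by rw [← D.2.iSup_eq_top]; exact Equiv.iSup_comp σ⟩
  letI : MulAction (Equiv.Perm (Fin t)) X :=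
    { smul := fun σ D => ⟨D.1 ∘ ⇑σ⁻¹, hperm σ⁻¹ D⟩
      one_smul := fun D => Subtype.ext (funext fun j => rfl)
      mul_smul := fun σ τ D => Subtype.ext (funext fun j => by
        show D.1 ((σ * τ)⁻¹ j) = D.1 (τ⁻¹ (σ⁻¹ j))
        rw [_root_.mul_inv_rev]; rfl) }
  have hfree : ∀ D : X, MulAction.stabilizer (Equiv.Perm (Fin t)) D = ⊥ := fun D =>
    (Subgroup.eq_bot_iff_forall _).2 fun σ hσ => by
      refine inv_eq_one.1 (Equiv.ext fun j => ?_)
      have h1 : D.1 (σ⁻¹ j) = D.1 j := congrFun (congrArg Subtype.val hσ) j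
      refine D.2.indep.injective (fun k h => ?_) h1
      have := D.2.finrank_eq k
      rw [h, finrank_bot] at this
      omega
  haveI : Finite (Submodule F (Fin n → F)) :=
    Finite.of_injective (fun W : Submodule F (Fin n → F) => (W : Set (Fin n → F))) SetLike.coe_injective
  haveI : Finite X := Subtype.finite
  haveI := Fintype.ofFinite X
  have hdvd : Nat.factorial t ∣ Nat.card X := by
    rw [Nat.card_congr (MulAction.selfEquivSigmaOrbitsQuotientStabilizer (Equiv.Perm (Fin t)) X), Nat.card_sigma]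
    refine Finset.dvd_sum fun ω _ => ?_
    rw [hfree, ← Subgroup.index_eq_card, Subgroup.index_bot, Nat.card_eq_fintype_card, Fintype.card_perm,
      Fintype.card_fin]
  have hrX : r ∣ Nat.card X := hΩ.trans (Nat.div_dvd_of_dvd hdvd)
  have hne : Nonempty X := by
    by_contra h
    rw [not_nonempty_iff] at h
    obtain ⟨D, hD, -⟩ : Stabilizes (1 : End F (Fin n → F)) a t :=
      stabilizes_of_basis ha ht hn ((Pi.basisFun F (Fin n)).reindex ((finCongr (by rw [hn, mul_comm])).trans finProdFinEquiv.symm))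
        Prod.fst (fun j => by
          rw [show (Finset.univ.filter fun x : Fin t × Fin a => x.1 = j) = {j} ×ˢ Finset.univ from by
            ext ⟨x₁, x₂⟩; simp [eq_comm], Finset.card_product]
          simp)
        1 1 1 (fun x => ⟨1, one_ne_zero, by simp⟩) (fun x => rfl)
    exact h.false ⟨D, hD⟩
  obtain ⟨D₀⟩ := hne
  let Gr := (Fin n → F) ≃ₗ[F] (Fin n → F)
  have horb : MulAction.orbit Gr D₀.1 = {D | Cfsg.Geo.IsMDecomposition a D} := by
    refine Set.ext fun D => ⟨?_, fun hD => ?_⟩
    · rintro ⟨g, rfl⟩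
      have hdim : ∀ j, finrank F ((D₀.1 j).map (g : (Fin n → F) →ₗ[F] (Fin n → F))) = a := fun j => by
        rw [LinearEquiv.finrank_map_eq, D₀.2.finrank_eq]
      refine mk_decomp ha ht hn hdim ?_
      show ⨆ j, (D₀.1 j).map (g : (Fin n → F) →ₗ[F] (Fin n → F)) = ⊤
      rw [← Submodule.map_iSup, D₀.2.iSup_eq_top, Submodule.map_top, LinearEquiv.range]
    · obtain ⟨B₀, hB₀⟩ := CfsgLib.Classical.DecompMax.exists_basis D₀.2
      obtain ⟨B, hB⟩ := CfsgLib.Classical.DecompMax.exists_basis (show Cfsg.Geo.IsMDecomposition a D from hD)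
      refine ⟨B₀.equiv B (Equiv.refl _), funext fun j => ?_⟩
      show (D₀.1 j).map (B₀.equiv B (Equiv.refl _) : (Fin n → F) →ₗ[F] (Fin n → F)) = D j
      refine Submodule.eq_of_le_of_finrank_eq (Submodule.map_le_iff_le_comap.2 fun v hv => ?_)
        (by rw [LinearEquiv.finrank_map_eq, D₀.2.finrank_eq, (show Cfsg.Geo.IsMDecomposition a D from hD).finrank_eq])
      refine (hB j _).2 fun x hx => ?_
      have he : B.repr (B₀.equiv B (Equiv.refl _) v) = B₀.repr v := by
        simp [Basis.equiv]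
      show B.repr (B₀.equiv B (Equiv.refl _) v) x = 0
      rw [he]
      exact (hB₀ j v).1 hv x hx
  have h1 : Nat.card X ∣ Nat.card Gr := by
    have hst : Nat.card X = (MulAction.stabilizer Gr D₀.1).index := by
      rw [MulAction.index_stabilizer, horb]
      rfl
    rw [hst]
    exact Subgroup.index_dvd_card _
  have hGr : Nat.card Gr = ∏ i : Fin n, (q ^ n - q ^ (i : ℕ)) := by
    rw [← hq, ← Matrix.card_GL_field]
    exact (Nat.card_congr (Matrix.GeneralLinearGroup.toLin.toEquiv.trans
      (LinearMap.GeneralLinearGroup.generalLinearEquiv F (Fin n → F)).toEquiv)).symm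
  obtain ⟨i, -, hi⟩ := (Prime.dvd_finsetProd_iff hr.prime _).1 (hGr ▸ hrX.trans h1)
  have hin := i.2
  have h2 : q ^ n - q ^ (i : ℕ) = q ^ (i : ℕ) * (q ^ (n - (i : ℕ)) - 1) := by
    rw [Nat.mul_sub, mul_one, ← pow_add, Nat.add_sub_cancel' hin.le]
  rw [h2] at hi
  have h3 := (ZMod.natCast_eq_zero_iff _ _).2 ((hr.dvd_mul.1 hi).resolve_left fun h => hrq (hr.dvd_of_dvd_pow h))
  have hq1 : 1 ≤ q := hq ▸ Fintype.card_pos
  rw [Nat.cast_sub (Nat.one_le_pow _ _ hq1), Nat.cast_pow, Nat.cast_one, sub_eq_zero] at h3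
  have := Nat.le_of_dvd (by omega) (orderOf_dvd_of_pow_eq_one h3)
  omega

include hp in
/-- Blocks split off one at a time for elements with `T ^ r = 1`. -/
theorem fix_blocks (hq : Fintype.card F = q) (hr : r.Prime) (hrp : r ≠ p) (hc : c = orderOf (q : ZMod r))
    (hcpos : 0 < c) (hca : c ≤ a) (hk : n % c = t * (a % c)) (ht : 2 ≤ t) (hn : n = a * t)
    (T : End F (Fin n → F)) (hT : T ^ r = 1) : Stabilizes T a t := by
  have ha : 0 < a := by omega
  have hss : T.IsSemisimple := semisimple_of_pow_smul (p := p) T hr hrp one_ne_zero (by rw [hT, one_smul])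
  have hinj : Function.Injective T := fun x y h => by
    have := congrArg (T ^ (r - 1)) h
    rwa [← Module.End.mul_apply, ← Module.End.mul_apply, ← pow_succ, Nat.sub_add_cancel hr.pos, hT] at this
  refine stabilizes_of_step ha ht hn T hss hinj fun j U hU hj1 hjt hd => ?_
  have hUr : (T.restrict hU : End F U) ^ r = 1 := by
    rw [Module.End.pow_restrict]
    exact LinearMap.ext fun x => Subtype.ext (by
      show (T ^ r) (x : Fin n → F) = _
      rw [hT]; rfl)
  obtain ⟨l, e, hs, hle⟩ := shape_of_pow_one (p := p) hq hr hrp _ hUr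
  rw [← hc, hd] at hle
  rw [← hc] at hs
  refine (hs.exists_invariant_iff a).2 ?_
  have h1 : a % c + c * (a / c) = a := Nat.mod_add_div a c
  have h2 : n % c < c := Nat.mod_lt _ hcpos
  have hjl : j * (a % c) ≤ t * (a % c) := Nat.mul_le_mul_right _ hjt
  have h3 : l % c = j * (a % c) := by
    have := congrArg (· % c) hle
    simp only [Nat.add_mul_mod_self_right] at this
    rw [this, Nat.mul_mod, mul_comm, ← Nat.mod_eq_of_lt (show j * (a % c) < c by omega), Nat.mul_mod (j : ℕ) (a % c),
      Nat.mod_mod]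
  have h4 : j * (a % c) ≤ l := h3 ▸ Nat.mod_le l c
  have h5 : a % c ≤ l := le_trans (Nat.le_mul_of_pos_left _ hj1) h4
  rcases le_or_gt (a / c) e with he | he
  · exact ⟨a % c, a / c, h5, he, by rw [mul_comm]; exact h1⟩
  · refine ⟨a - e * c, e, ?_, le_rfl, ?_⟩
    · have h6 : a * 1 ≤ a * j := Nat.mul_le_mul_left a hj1
      omega
    · have h6 : e * c ≤ (a / c) * c := Nat.mul_le_mul_right c he.le
      have h7 := Nat.div_mul_le_self a c
      omega

include hp in
/-- The case `c = 1` with `T ^ r` a scalar which is not a power. -/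
theorem twisted_blocks (hr : r.Prime) (hrp : r ≠ p) (ha : 0 < a) (ht : 2 ≤ t) (hn : n = a * t)
    (T : End F (Fin n → F)) {z : F} (hz0 : z ≠ 0) (hT : T ^ r = z • 1) (hz : ∀ b : F, b ^ r ≠ z) :
    Stabilizes T a t := by
  classical
  have hss : T.IsSemisimple := semisimple_of_pow_smul (p := p) T hr hrp hz0 hT
  by_cases hra : r ∣ a
  · obtain ⟨m, rfl⟩ := hra
    have hinj : Function.Injective T := fun x y h => by
      have := congrArg (T ^ (r - 1)) h
      rw [← Module.End.mul_apply, ← Module.End.mul_apply, ← pow_succ, Nat.sub_add_cancel hr.pos, hT] at this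
      exact smul_right_injective _ hz0 this
    refine stabilizes_of_step ha ht hn T hss hinj fun j U hU hj1 hjt hd => ?_
    have hUr : (T.restrict hU : End F U) ^ r = z • 1 := by
      rw [Module.End.pow_restrict]
      exact LinearMap.ext fun x => Subtype.ext (by
        show (T ^ r) (x : Fin n → F) = _
        rw [hT]; rfl)
    obtain ⟨e, hs, hle⟩ := shape_of_not_power (p := p) hr hrp _ hUr hz
    rw [hd] at hle
    refine (hs.exists_invariant_iff (r * m)).2 ⟨0, m, le_rfl, ?_, by rw [zero_add, mul_comm]⟩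
    have : e = m * j := Nat.eq_of_mul_eq_mul_right hr.pos (hle.trans (by ring))
    rw [this]
    exact Nat.le_mul_of_pos_right _ hj1
  · obtain ⟨s, hs, hns⟩ := charpoly_of_not_power hr T hT hz
    rw [Module.finrank_fin_fun] at hns
    obtain ⟨m, rfl⟩ : r ∣ t := (hr.dvd_mul.1 ⟨s, hn.symm.trans hns⟩).resolve_left hra
    have hsam : s = a * m := Nat.eq_of_mul_eq_mul_left hr.pos (hns.symm.trans (hn.trans (by ring)))
    subst hsam
    obtain ⟨b, hb, -⟩ := exists_cyclic_basis (p := p) (s := a * m) (l := 0) hr hrp hz0 (Or.inl rfl) T hss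
      (by rw [hs, pow_zero, mul_one])
    haveI : NeZero r := ⟨hr.ne_zero⟩
    let π : Equiv.Perm ((Fin (a * m) × Fin r) ⊕ Fin 0) :=
      Equiv.sumCongr (Equiv.prodCongr (Equiv.refl _) (Equiv.addRight (1 : Fin r))) (Equiv.refl _)
    let σ : Equiv.Perm (Fin (r * m)) :=
      (finProdFinEquiv.symm.trans (Equiv.prodCongr (Equiv.addRight (1 : Fin r)) (Equiv.refl _))).trans finProdFinEquiv
    let β : (Fin (a * m) × Fin r) ⊕ Fin 0 → Fin (r * m) :=
      Sum.elim (fun x => finProdFinEquiv (x.2, (finProdFinEquiv.symm x.1).2)) fun x => x.elim0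
    refine stabilizes_of_basis ha ht hn b β (fun j => ?_) π σ T (fun x => ?_) (fun x => ?_)
    · obtain ⟨⟨i, μ⟩, rfl⟩ := finProdFinEquiv.surjective j
      rw [show (Finset.univ.filter fun x => β x = finProdFinEquiv (i, μ)) =
        (Finset.univ : Finset (Fin a)).image fun w => Sum.inl (finProdFinEquiv (w, μ), i) from ?_,
        Finset.card_image_of_injective, Finset.card_univ, Fintype.card_fin]
      · intro w w' h
        simpa using h
      · ext x
        rcases x with ⟨x, i'⟩ | x
        · obtain ⟨⟨w, μ'⟩, rfl⟩ := finProdFinEquiv.surjective x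
          simp [β, and_comm, eq_comm, -finProdFinEquiv_symm_apply]
        · exact x.elim0
    · rcases x with ⟨w, i⟩ | x
      · refine ⟨if (i : ℕ) + 1 < r then 1 else z, by split_ifs <;> simp [hz0], ?_⟩
        rw [hb]
        congr 3
        refine Prod.ext rfl (Fin.ext ?_)
        show ((i : ℕ) + 1) % r = ((i + 1 : Fin r) : ℕ)
        simp [Fin.val_add, Nat.add_mod]
      · exact x.elim0
    · rcases x with ⟨w, i⟩ | x
      · simp [β, π, σ]
      · exact x.elim0

include hp in
/-- Lines permuted in cycles. -/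
theorem lines_blocks (hq : Fintype.card F = q) (hr : r.Prime) (hrp : r ≠ p) (hc : c = orderOf (q : ZMod r))
    (hc1 : 1 < c) (hcr : c = r - 1) (ht : 2 ≤ t) (hn : n = 1 * t) (hnk : n ≤ n % c * r) (T : End F (Fin n → F))
    (hT : T ^ r = 1) : Stabilizes T 1 t := by
  classical
  haveI := Fact.mk hr
  have hss : T.IsSemisimple := semisimple_of_pow_smul (p := p) T hr hrp one_ne_zero (by rw [hT, one_smul])
  obtain ⟨l, e, hs, hle⟩ := shape_of_pow_one (p := p) hq hr hrp T hT
  rw [← hc] at hs hle
  rw [Module.finrank_fin_fun] at hle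
  have hT' : T ^ r = (1 : F) • 1 := by rw [one_smul, hT]
  obtain ⟨S₁, S₂, hS₁, hS₂, hS, h1, h2, hcp⟩ := hs.factors
  have hX1 : (X - 1 : F[X]) = X - C 1 := by rw [map_one]
  have hd : ∀ P ∈ S₁ + S₂, P ∣ X ^ r - 1 := fun P hP => by
    have := factor_dvd_pow T hT' (hS P hP).1 (hcp ▸ Multiset.dvd_prod hP)
    rwa [map_one] at this
  have hf₁ : ∀ P ∈ S₁, P = X - 1 := fun P hP => by
    have hP' := Multiset.mem_add.2 (Or.inl hP : P ∈ S₁ ∨ P ∈ S₂)
    refine (natDegree_factor (p := p) hq hr hrp (hS P hP').1 (hS P hP').2 (hd P hP')).resolve_right fun he => ?_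
    have := h1 P hP
    omega
  have hf₂ : ∀ P ∈ S₂, P = cyclotomic r F := fun P hP => by
    have hP' := Multiset.mem_add.2 (Or.inr hP : P ∈ S₁ ∨ P ∈ S₂)
    have hdd := hd P hP'
    rw [← cyclotomic_prime_mul_X_sub_one F r] at hdd
    have hdvd : P ∣ cyclotomic r F := ((hS P hP').1.prime.dvd_or_dvd hdd).resolve_right fun h => by
      have := natDegree_le_of_dvd h (by rw [hX1]; exact X_sub_C_ne_zero 1)
      rw [h2 P hP, hX1, natDegree_X_sub_C] at this
      omega
    refine eq_of_monic_of_associated (hS P hP').2 (cyclotomic.monic r F)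
      (associated_of_dvd_of_natDegree_le hdvd (cyclotomic_ne_zero r F) ?_)
    rw [natDegree_cyclotomic, Nat.totient_prime hr, h2 P hP, hcr]
  have hel : e ≤ l := by
    have hk1 : n % c ≤ l := by
      rw [← hle, Nat.add_mul_mod_self_right]; exact Nat.mod_le _ _
    have h6 : (e - n % c) * c ≤ n - l - n % c * c := by
      rw [Nat.sub_mul]; omega
    have h7 : n % c * r = n % c * c + n % c := by rw [hcr, ← Nat.mul_succ]; congr 1; have := hr.pos; omega
    have h8 : e * c ≤ n % c * c := by omega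
    exact (Nat.le_of_mul_le_mul_right h8 (by omega)).trans hk1
  have hcp' : T.charpoly = (X ^ r - C (1 : F)) ^ e * (X - 1) ^ (l - e) := by
    rw [hcp, Multiset.prod_add, Multiset.eq_replicate.2 ⟨hS₁, hf₁⟩, Multiset.eq_replicate.2 ⟨hS₂, hf₂⟩,
      Multiset.prod_replicate, Multiset.prod_replicate, map_one, ← cyclotomic_prime_mul_X_sub_one F r, mul_pow,
      mul_assoc, ← pow_add, Nat.add_sub_cancel' hel, mul_comm]
  obtain ⟨b, hb, hb'⟩ := exists_cyclic_basis (p := p) hr hrp (one_ne_zero : (1 : F) ≠ 0) (Or.inr rfl) T hss hcp'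
  haveI : NeZero r := ⟨hr.ne_zero⟩
  have hcard : Fintype.card ((Fin e × Fin r) ⊕ Fin (l - e)) = t := by
    have := Module.finrank_eq_card_basis b
    rw [Module.finrank_fin_fun] at this
    omega
  let β := Fintype.equivFinOfCardEq hcard
  let π : Equiv.Perm ((Fin e × Fin r) ⊕ Fin (l - e)) :=
    Equiv.sumCongr (Equiv.prodCongr (Equiv.refl _) (Equiv.addRight (1 : Fin r))) (Equiv.refl _)
  refine stabilizes_of_basis one_pos ht hn b β (fun j => ?_) π ((β.symm.trans π).trans β) T (fun x => ?_)
    (fun x => by simp)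
  · rw [show (Finset.univ.filter fun x => β x = j) = {β.symm j} by ext x; simp [Equiv.eq_symm_apply]]
    simp
  · refine ⟨1, one_ne_zero, ?_⟩
    rcases x with ⟨w, i⟩ | x
    · rw [hb, ite_self]
      congr 3
      refine Prod.ext rfl (Fin.ext ?_)
      show ((i : ℕ) + 1) % r = ((i + 1 : Fin r) : ℕ)
      simp [Fin.val_add, Nat.add_mod]
    · rw [hb', one_smul]; rfl

include hp in
/-- A sample element and the dimension of its fixed space. -/
theorem sample (hq : Fintype.card F = q) (hr : r.Prime) (hrp : r ≠ p) (hc : c = orderOf (q : ZMod r)) (hc1 : 1 < c)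
    {l e : ℕ} (he : 1 ≤ e) (hn : l + e * c = n)
    (hall : ∀ x : Matrix.SpecialLinearGroup (Fin n) F,
      (∃ z : F, ((x ^ r : Matrix.SpecialLinearGroup (Fin n) F) : Matrix (Fin n) (Fin n) F) = z • (1 : Matrix (Fin n) (Fin n) F)) →
      (∀ z : F, (x : Matrix (Fin n) (Fin n) F) ≠ z • (1 : Matrix (Fin n) (Fin n) F)) →
      Stabilizes (Matrix.toLin' (x : Matrix (Fin n) (Fin n) F)) a t) :
    ∃ (T : End F (Fin n → F)) (D : Fin t → Submodule F (Fin n → F)) (σ : Equiv.Perm (Fin t)),
      T ^ r = 1 ∧ Cfsg.Geo.IsMDecomposition a D ∧ (∀ j, (D j).map T = D (σ j)) ∧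
        finrank F (LinearMap.ker (T - 1)) = l := by
  obtain ⟨x, hx, hs, hns⟩ := exists_sl_pow_one (p := p) (n := n) hq hr hrp (hc ▸ hc1) (l := l) he (hc ▸ hn)
  obtain ⟨D, hD, σ, hσ⟩ := hall x ⟨1, by rw [hx, Matrix.SpecialLinearGroup.coe_one, one_smul]⟩ hns
  have hT : (Matrix.toLin' (x : Matrix (Fin n) (Fin n) F)) ^ r = 1 := by
    rw [← Matrix.toLin'_pow, ← Matrix.SpecialLinearGroup.coe_pow, hx, Matrix.SpecialLinearGroup.coe_one,
      Matrix.toLin'_one]
    rfl
  exact ⟨_, D, σ, hT, hD, hσ, fix_dim (p := p) hq hr hrp hc hc1 _ hT (hc ▸ hs)⟩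

include hp in
/-- A member fixed by `T` meets the fixed space in at least `a mod c` dimensions. -/
theorem member_fix (hq : Fintype.card F = q) (hr : r.Prime) (hrp : r ≠ p) (hc : c = orderOf (q : ZMod r)) (hc1 : 1 < c)
    {T : End F (Fin n → F)} (hT : T ^ r = 1) {W : Submodule F (Fin n → F)} (hW : W.map T = W) :
    finrank F W % c ≤ finrank F (W ⊓ LinearMap.ker (T - 1) : Submodule F (Fin n → F)) := by
  have hWi : ∀ x ∈ W, T x ∈ W := fun x hx => hW ▸ Submodule.mem_map_of_mem hx
  have hWr : (T.restrict hWi : End F W) ^ r = 1 := by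
    rw [Module.End.pow_restrict]
    exact LinearMap.ext fun x => Subtype.ext (by
      show (T ^ r) (x : Fin n → F) = _
      rw [hT]; rfl)
  obtain ⟨l, e, hs, hle⟩ := shape_of_pow_one (p := p) hq hr hrp _ hWr
  rw [← hc] at hs hle
  have hl := fix_dim (p := p) hq hr hrp hc hc1 _ hWr hs
  rw [← hle, Nat.add_mul_mod_self_right]
  refine (Nat.mod_le _ _).trans (hl ▸ ?_)
  have e1 : (LinearMap.ker ((T.restrict hWi : End F W) - 1)).map W.subtype = W ⊓ LinearMap.ker (T - 1) := by
    ext v
    constructor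
    · rintro ⟨w, hw, rfl⟩
      exact ⟨w.2, congrArg Subtype.val (LinearMap.mem_ker.1 hw)⟩
    · rintro ⟨hv, hv'⟩
      exact ⟨⟨v, hv⟩, LinearMap.mem_ker.2 (Subtype.ext (LinearMap.mem_ker.1 hv')), rfl⟩
  rw [← e1, Submodule.finrank_map_subtype_eq]


/-- Elements of odd prime order of PSL_n(q) and imprimitive subgroups. Here `T = PSL_n(F)` for a field `F` with `q = p^f` elements (`n ≥ 2`, `(n, q) ≠ (2, 2), (2, 3)`), `n = a·t` with `t ≥ 2`, and Ω is the set of direct-sum decompositions of `F^n` into `t` subspaces of dimension `a` (unordered; their number is the number of ordered ones divided by `t!`), whose stabilizers are the imprimitive subgroups of type GL_a(q) ≀ S_t (maximal except in some small cases; maximality is not assumed); an element of `T` of prime order `r` (a matrix `x` of determinant 1 with `x^r` scalar, `x` not scalar) fixes a point of Ω when it permutes the summands of some such decomposition. Let `r ≠ p` be an odd prime dividing the number of such decompositions, let `c`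 be the multiplicative order of `q` modulo `r`, and write `k = n mod c`, `ℓ = a mod c`. Then every element of `T` of order `r` stabilizes such a decomposition if and only if either `a = 1`, `c = r − 1 > 1` and `n ≤ k·r`, or `c ≤ a` and `k = t·ℓ`. -/
theorem result {F : Type*} [Field F] [Fintype F] {p : ℕ} [Fact p.Prime] [CharP F p] {q : ℕ} (hq : Fintype.card F = q)
    (n a t : ℕ) (hn : 2 ≤ n) (hT : (n, q) ≠ (2, 2) ∧ (n, q) ≠ (2, 3)) (hat : n = a * t) (ha : 1 ≤ a) (ht : 2 ≤ t)
    (r : ℕ) [Fact r.Prime] (hr2 : r ≠ 2) (hrp : r ≠ p) (hΩ : r ∣ Nat.card {D : Fin t → Submodule F (Fin n → F) // Cfsg.Geo.IsMDecomposition a D} / Nat.factorial t)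
    (c : ℕ) (hc : c = orderOf (q : ZMod r)) :
    (∀ x : Matrix.SpecialLinearGroup (Fin n) F,
      (∃ z : F, ((x ^ r : Matrix.SpecialLinearGroup (Fin n) F) : Matrix (Fin n) (Fin n) F) = z • (1 : Matrix (Fin n) (Fin n) F)) →
      (∀ z : F, (x : Matrix (Fin n) (Fin n) F) ≠ z • (1 : Matrix (Fin n) (Fin n) F)) →
      ∃ D : Fin t → Submodule F (Fin n → F), Cfsg.Geo.IsMDecomposition a D ∧
        ∃ σ : Equiv.Perm (Fin t), ∀ j, (D j).map (Matrix.toLin' (x : Matrix (Fin n) (Fin n) F)) = D (σ j)) ↔
    ((a = 1 ∧ 1 < c ∧ c = r - 1 ∧ n ≤ (n % c) * r) ∨ (c ≤ a ∧ n % c = t * (a % c))) := by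
  classical
  have hr : r.Prime := Fact.out
  obtain ⟨hrq, hq2⟩ := not_dvd_card (p := p) hq hr hrp
  obtain ⟨hcpos, hcdvd, hone⟩ := orderOf_mod (p := p) hq hr hrp
  rw [← hc] at hcpos hcdvd hone
  have hcn : c ≤ n := hc ▸ count_window hq hr hrq (by omega) ht hat hΩ
  have hcr : c ≤ r - 1 := Nat.le_of_dvd (by have := hr.two_le; omega) hcdvd
  constructor
  · intro hall
    by_contra hcon
    push Not at hcon
    obtain ⟨hA, hB⟩ := hcon
    have hc1 : 1 < c := by
      by_contra h
      have h1 : c = 1 := by omega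
      exact hB (by omega) (by rw [h1, Nat.mod_one, Nat.mod_one, mul_zero])
    have hrF : (r : F) ≠ 0 := fun h => hrp
      ((Nat.prime_dvd_prime_iff_eq Fact.out hr).1 ((CharP.cast_eq_zero_iff F p r).1 h)).symm
    have hdiv := Nat.mod_add_div n c
    have hpos : 1 ≤ n / c := (Nat.one_le_div_iff (by omega)).2 hcn
    rcases le_or_gt c a with hca | hca
    · obtain ⟨T, D, σ, hT, hD, hσ, hl⟩ := sample (p := p) hq hr hrp hc hc1 (l := n % c) (e := n / c) hpos
        (by rw [mul_comm]; exact hdiv) hall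
      have hlt : n % c < c := Nat.mod_lt _ hcpos
      by_cases hfix : ∀ j, σ j = j
      · have h := fixed_bound (T := T) hD (m := a % c) fun j => by
          have := member_fix (p := p) hq hr hrp hc hc1 hT (W := D j) (by rw [hσ, hfix])
          rwa [hD.finrank_eq] at this
        rw [hl] at h
        have h2 : t * (a % c) < c := lt_of_le_of_lt h hlt
        exact hB hca (by rw [hat, mul_comm, Nat.mul_mod, Nat.mod_eq_of_lt (a := t * (a % c)) h2 |>.symm,
          Nat.mul_mod t (a % c), Nat.mod_mod])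
      · push Not at hfix
        obtain ⟨j, hj⟩ := hfix
        have h := (moved_bounds hr hD hσ hT hj).1
        omega
    · obtain ⟨T, D, σ, hT, hD, hσ, hl⟩ := sample (p := p) hq hr hrp hc hc1 (l := n - c) (e := 1) le_rfl
        (by omega) hall
      have hdeg : a = 1 ∧ c = r - 1 := by
        by_cases hfix : ∀ j, σ j = j
        · have h := fixed_bound (T := T) hD (m := a % c) fun j => by
            have := member_fix (p := p) hq hr hrp hc hc1 hT (W := D j) (by rw [hσ, hfix])
            rwa [hD.finrank_eq] at this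
          rw [hl, Nat.mod_eq_of_lt hca, mul_comm, ← hat] at h
          omega
        · push Not at hfix
          obtain ⟨j, hj⟩ := hfix
          have h := (moved_bounds hr hD hσ hT hj).2
          rw [hl] at h
          rcases Nat.lt_or_ge a 2 with h2 | h2
          · obtain rfl : a = 1 := by omega
            omega
          · have := Nat.mul_le_mul_right (r - 1) h2
            omega
      obtain ⟨rfl, hcr'⟩ := hdeg
      obtain ⟨T, D, σ, hT, hD, hσ, hl⟩ := sample (p := p) hq hr hrp hc hc1 (l := n % c) (e := n / c) hpos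
        (by rw [mul_comm]; exact hdiv) hall
      have h := lines_bound hr hrF hD hσ hT fun j hj v hv => by
        have := member_fix (p := p) hq hr hrp hc hc1 hT (W := D j) (by rw [hσ, hj])
        rw [hD.finrank_eq, Nat.mod_eq_of_lt hc1] at this
        have hle : D j ⊓ LinearMap.ker (T - 1) = D j :=
          Submodule.eq_of_le_of_finrank_le inf_le_left (by rw [hD.finrank_eq]; exact this)
        rw [← hle] at hv
        exact sub_eq_zero.1 (LinearMap.mem_ker.1 hv.2)
      rw [hl, mul_comm] at h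
      exact absurd (hA rfl hc1 hcr') (by omega)
  · intro hcond x ⟨z, hz⟩ hns
    rw [Matrix.SpecialLinearGroup.coe_pow] at hz
    have hT : (Matrix.toLin' (x : Matrix (Fin n) (Fin n) F)) ^ r = z • 1 := by
      rw [← Matrix.toLin'_pow, hz, map_smul, Matrix.toLin'_one]; rfl
    have hz0 : z ≠ 0 := by
      intro h
      haveI : Nonempty (Fin n) := ⟨⟨0, by omega⟩⟩
      have := congrArg Matrix.det hz
      rw [Matrix.det_pow, x.2, one_pow, h, zero_smul, Matrix.det_zero] at this
      exact one_ne_zero this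
    by_cases hzp : ∃ b : F, b ^ r = z
    · obtain ⟨b, hb⟩ := hzp
      have hb0 : b ≠ 0 := fun h => hz0 (by rw [← hb, h, zero_pow hr.ne_zero])
      have hT1 : (b⁻¹ • Matrix.toLin' (x : Matrix (Fin n) (Fin n) F)) ^ r = 1 := by
        rw [_root_.smul_pow, hT, smul_smul, inv_pow, hb, inv_mul_cancel₀ hz0, one_smul]
      have h : Stabilizes (b⁻¹ • Matrix.toLin' (x : Matrix (Fin n) (Fin n) F)) a t := by
        rcases hcond with ⟨ha1, hc1, hcr', hnk⟩ | ⟨hca, hk⟩
        · subst ha1
          exact lines_blocks (p := p) hq hr hrp hc hc1 hcr' ht hat hnk _ hT1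
        · exact fix_blocks (p := p) hq hr hrp hc hcpos hca hk ht hat _ hT1
      have h' := h.smul hb0
      rwa [smul_smul, mul_inv_cancel₀ hb0, one_smul] at h'
    · push Not at hzp
      exact twisted_blocks (p := p) hr hrp (by omega) ht hat _ hz0 hT hzp

end Cfsg.Agent.S5958
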