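import Cfsg.Statements.S5959
import Cfsg.Agent.Lib.Derange.Pairs
import Cfsg.Agent.Lib.Derange.Elusive

set_option autoImplicit false
open scoped MatrixGroups
open Cfsg

namespace Cfsg.Agent.S5959

/-- Elements of order `p` of PSL_n(q) and imprimitive subgroups: a necessary condition. Here `T = PSL_n(F)` for a field `F` with `q = p^f` elements (`n ≥ 2`, `(n, q) ≠ (2, 2), (2, 3)`), `n = a·t` with `t ≥ 2`, and Ω is the set of direct-sum decompositions of `F^n` into `t` subspaces of dimension `a` (unordered; their number is the number of ordered ones divided by `t!`), whose stabilizers are the imprimitive subgroups of type GL_a(q) ≀ S_t (maximal except in some small cases; maximality is not assumed); an element of `T` of prime order `r` (a matrix `x` of determinant 1 with `x^r` scalar, `x` not scalar) fixes a point of Ω when it permutes the summands of some such decomposition. Suppose `p > 2` divides the number of such decompositions. If every element of `T` of order `p` stabilizes such a decomposition, then every partition of `n` into parts of size at most `p`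 in which the part `p` occurs fewer than `a` times contains (as a sub-multiset) a partition of `a`. -/
theorem result {F : Type*} [Field F] [Fintype F] {p : ℕ} [Fact p.Prime] [CharP F p] {q : ℕ} (hq : Fintype.card F = q)
    (n a t : ℕ) (hn : 2 ≤ n) (hT : (n, q) ≠ (2, 2) ∧ (n, q) ≠ (2, 3)) (hat : n = a * t) (ha : 1 ≤ a) (ht : 2 ≤ t)
    (hp : 2 < p) (hΩ : p ∣ Nat.card {D : Fin t → Submodule F (Fin n → F) // Cfsg.Geo.IsMDecomposition a D} / Nat.factorial t)
    (h : ∀ x : Matrix.SpecialLinearGroup (Fin n) F,
      (∃ z : F, ((x ^ p : Matrix.SpecialLinearGroup (Fin n) F) : Matrix (Fin n) (Fin n) F) = z • (1 : Matrix (Fin n) (Fin n) F)) →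
      (∀ z : F, (x : Matrix (Fin n) (Fin n) F) ≠ z • (1 : Matrix (Fin n) (Fin n) F)) →
      ∃ D : Fin t → Submodule F (Fin n → F), Cfsg.Geo.IsMDecomposition a D ∧
        ∃ σ : Equiv.Perm (Fin t), ∀ j, (D j).map (Matrix.toLin' (x : Matrix (Fin n) (Fin n) F)) = D (σ j)) :
    (∀ μ : Multiset ℕ, (∀ b ∈ μ, 0 < b ∧ b ≤ p) → μ.sum = n → μ.count p < a → ∃ ν : Multiset ℕ, ν ≤ μ ∧ ν.sum = a) := by
  classical
  intro μ hμ hsum hcount
  have hn1 : 1 ≤ n := by omega
  haveI : Nonempty (Fin n) := ⟨⟨0, hn1⟩⟩
  by_cases hall : ∀ b ∈ μ, b = 1
  · refine ⟨Multiset.replicate a 1, ?_, by simp⟩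
    rw [Multiset.eq_replicate_card.mpr hall] at hsum ⊢
    refine (Multiset.replicate_le_replicate 1).mpr ?_
    simp at hsum
    rw [hsum, hat]
    exact Nat.le_mul_of_pos_right a (by omega)
  · push Not at hall
    obtain ⟨a', ha, ha1⟩ := hall
    let lens : Fin μ.toList.length → ℕ := fun i => μ.toList.get i
    have hmap : Finset.univ.val.map lens = μ := by rw [Fin.univ_val_map, List.ofFn_get, Multiset.coe_toList]
    have hls : ∑ i, lens i = n := by rw [Finset.sum_eq_multiset_sum, hmap, hsum]
    obtain ⟨N, hN, ⟨C⟩⟩ := CfsgLib.NilClasses.exists_model (F := F) lens hls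
    have hmem : ∀ i, lens i ∈ μ := fun i => hmap ▸ Multiset.mem_map_of_mem _ (Finset.mem_univ i)
    have hNp : N ^ p = 0 := by
      refine C.b.ext fun s => ?_
      obtain ⟨i, j⟩ := s
      have := (hμ _ (hmem i)).2
      rw [C.pow_apply, dif_neg (by omega), LinearMap.zero_apply]
    set M : Matrix (Fin n) (Fin n) F := 1 + LinearMap.toMatrix' N
    have hMp : M ^ p = 1 := by
      refine Matrix.toLin'.injective ?_
      rw [CfsgLib.Derange.toLin'_pow, map_add, Matrix.toLin'_toMatrix', Matrix.toLin'_one,
        show (LinearMap.id : Module.End F (Fin n → F)) = algebraMap F (Module.End F (Fin n → F)) 1 from (map_one _).symm]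
      haveI : CharP (Module.End F (Fin n → F)) p :=
        charP_of_injective_algebraMap (algebraMap F (Module.End F (Fin n → F))).injective p
      rw [map_one, add_pow_char_of_commute (p := p) (Commute.one_left N), one_pow, hNp, add_zero]
    have hdet : M.det = 1 := by
      refine frobenius_inj F p ?_
      rw [frobenius_def, frobenius_def, ← Matrix.det_pow, hMp, Matrix.det_one, one_pow]
    have hMlin : Matrix.toLin' M = 1 + N := by
      rw [map_add, Matrix.toLin'_toMatrix', Matrix.toLin'_one]
      rfl
    obtain ⟨X, hX⟩ : ∃ X : Matrix.SpecialLinearGroup (Fin n) F, (X : Matrix (Fin n) (Fin n) F) = M :=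
      ⟨⟨M, hdet⟩, rfl⟩
    obtain ⟨D, hD, σ, hσ⟩ := h X ⟨1, by
      rw [Matrix.SpecialLinearGroup.coe_pow, one_smul, hX]; exact hMp⟩ (by
      intro c hc
      rw [hX] at hc
      have h1 : (1 : Module.End F (Fin n → F)) + N = c • 1 := by
        rw [← hMlin, hc, CfsgLib.Derange.toLin'_smul_one]
      have h2 : N = (c - 1) • (1 : Module.End F (Fin n → F)) := by
        rw [show N = (1 + N) - 1 by abel, h1]; module
      have hc1 : c - 1 = 0 := by
        rw [h2, smul_pow, one_pow] at hNp
        exact eq_zero_of_pow_eq_zero ((smul_eq_zero.mp hNp).resolve_right one_ne_zero)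
      rw [hc1, zero_smul] at h2
      have h3 := C.finrank_range_pow 1
      rw [pow_one, h2, LinearMap.range_zero, finrank_bot] at h3
      obtain ⟨i, hi⟩ : ∃ i, lens i = a' := by
        obtain ⟨i, -, hi⟩ := Multiset.mem_map.mp (hmap.symm ▸ ha : a' ∈ Finset.univ.val.map lens)
        exact ⟨i, hi⟩
      have h4 := (Finset.sum_eq_zero_iff.mp h3.symm) i (Finset.mem_univ i)
      have := (hμ a' ha).1
      omega)
    rw [hX, hMlin] at hσ
    set T : Module.End F (Fin n → F) := 1 + N
    have hTinj : Function.Injective T := by
      have hTp : T ^ p = 1 := by rw [← hMlin, ← CfsgLib.Derange.toLin'_pow, hMp, Matrix.toLin'_one]; rfl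
      intro u v huv
      have := congrArg (fun w => (T ^ (p - 1)) w) huv
      simp only [← Module.End.mul_apply, ← pow_succ, Nat.sub_add_cancel (by omega : 1 ≤ p), hTp,
        Module.End.one_apply] at this
      exact this
    -- no member is moved
    have hfix : ∀ j, σ j = j := by
      intro j
      by_contra hj
      have hpow : ∀ k, ∀ v ∈ D j, (T ^ k) v ∈ D ((σ ^ k) j) := by
        intro k
        induction k with
        | zero => intro v hv; simpa using hv
        | succ k ih =>
          intro v hv
          rw [pow_succ', pow_succ', Module.End.mul_apply, Equiv.Perm.mul_apply, ← hσ]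
          exact Submodule.mem_map_of_mem (ih v hv)
      have hgeom : N ^ (p - 1) = ∑ k ∈ Finset.range p, T ^ k := by
        have h1 : ((Polynomial.X - 1) ^ (p - 1) : Polynomial F) = ∑ k ∈ Finset.range p, Polynomial.X ^ k := by
          refine mul_right_cancel₀ (show (Polynomial.X : Polynomial F) - 1 ≠ 0 from
            sub_ne_zero.mpr (by simpa using Polynomial.X_ne_C (1 : F))) ?_
          rw [geom_sum_mul, ← pow_succ, Nat.sub_add_cancel (by omega : 1 ≤ p), sub_pow_char, one_pow]
        have h2 := congrArg (Polynomial.aeval T) h1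
        simpa [map_sum, T] using h2
      have hdist : ∀ k, 0 < k → k < p → (σ ^ k) j ≠ j := by
        intro k hk0 hkp hk
        have hd : Function.minimalPeriod σ j ∣ p := by
          refine Function.IsPeriodicPt.minimalPeriod_dvd ?_
          show (σ^[p]) j = j
          rw [← Equiv.Perm.coe_pow]
          by_contra hne
          have hTp : T ^ p = 1 := by rw [← hMlin, ← CfsgLib.Derange.toLin'_pow, hMp, Matrix.toLin'_one]; rfl
          obtain ⟨v, hv, hv0⟩ := (Submodule.ne_bot_iff _).mp (show D j ≠ ⊥ by
            intro h0
            have := hD.finrank_eq j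
            rw [h0, finrank_bot] at this
            omega)
          have h1 := hpow p v hv
          rw [hTp, Module.End.one_apply] at h1
          exact hv0 (Submodule.disjoint_def.mp (hD.indep.pairwiseDisjoint (Ne.symm hne)) v hv h1)
        rcases (Fact.out : p.Prime).eq_one_or_self_of_dvd _ hd with h1 | h1
        · exact hj (Function.minimalPeriod_eq_one_iff_isFixedPt.mp h1)
        · have h2 : Function.minimalPeriod σ j ∣ k := by
            refine Function.IsPeriodicPt.minimalPeriod_dvd ?_
            show (σ^[k]) j = j
            rw [← Equiv.Perm.coe_pow]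
            exact hk
          rw [h1] at h2
          have := Nat.le_of_dvd hk0 h2
          omega
      have hker : ∀ v ∈ D j, (N ^ (p - 1)) v = 0 → v = 0 := by
        intro v hv h0
        rw [hgeom, LinearMap.sum_apply, ← Finset.add_sum_erase _ _ (Finset.mem_range.mpr (show 0 < p by omega)),
          pow_zero, Module.End.one_apply] at h0
        have h2 : v ∈ ⨆ i ≠ j, D i := by
          rw [eq_neg_of_add_eq_zero_left h0]
          refine Submodule.neg_mem _ (Submodule.sum_mem _ fun k hk => ?_)
          rw [Finset.mem_erase, Finset.mem_range] at hk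
          exact Submodule.mem_iSup_of_mem _ (Submodule.mem_iSup_of_mem (hdist k (by omega) hk.2) (hpow k v hv))
        exact Submodule.disjoint_def.mp (hD.indep j) v hv h2
      have h3 : a ≤ Module.finrank F (LinearMap.range (N ^ (p - 1))) := by
        rw [← hD.finrank_eq j]
        refine LinearMap.finrank_le_finrank_of_injective (f := ((N ^ (p - 1)).rangeRestrict.comp (D j).subtype)) ?_
        rw [← LinearMap.ker_eq_bot, Submodule.eq_bot_iff]
        intro v hv
        exact Subtype.ext (hker v v.2 (congrArg Subtype.val hv))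
      rw [C.finrank_range_pow, Finset.sum_eq_multiset_sum] at h3
      have h4 : (Finset.univ.val.map fun i => lens i - (p - 1)).sum = μ.count p := by
        rw [show (fun i => lens i - (p - 1)) = (fun x => x - (p - 1)) ∘ lens from rfl, ← Multiset.map_map, hmap]
        clear hcount hsum ha hmap hmem h3 hls C hdet hMlin hσ hD lens hker hgeom hdist hpow hj hX
        induction μ using Multiset.induction with
        | empty => simp
        | cons b μ ih =>
          have hb := hμ b (Multiset.mem_cons_self _ _)
          rw [Multiset.map_cons, Multiset.sum_cons, ih (fun c hc => hμ c (Multiset.mem_cons_of_mem hc)),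
            Multiset.count_cons]
          split_ifs <;> omega
      omega
    set j₀ : Fin t := ⟨0, by omega⟩
    have hinv : ∀ i, ∀ v ∈ D i, N v ∈ D i := by
      intro i v hv
      have h1 : T v ∈ D i := by
        have := Submodule.mem_map_of_mem (f := T) hv
        rwa [hσ, hfix] at this
      rwa [LinearMap.add_apply, Module.End.one_apply, Submodule.add_mem_iff_right _ hv] at h1
    obtain ⟨ν, hν, hν'⟩ := (CfsgLib.Derange.exists_pair_iff N (fun i => (hμ _ (hmem i)).1) C ⟨p, hNp⟩ a).mp
      ⟨D j₀, ⨆ i ≠ j₀, D i, ⟨hD.indep j₀, codisjoint_iff.mpr (by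
        rw [← iSup_split_single D j₀]; exact hD.iSup_eq_top)⟩, hD.finrank_eq j₀, hinv j₀, fun v hv => by
        have hle : (⨆ i ≠ j₀, D i) ≤ (⨆ i ≠ j₀, D i).comap N := iSup₂_le fun i hi w hw =>
          Submodule.mem_iSup_of_mem i (Submodule.mem_iSup_of_mem hi (hinv i w hw))
        exact hle hv⟩
    exact ⟨ν, hmap ▸ hν, hν'⟩

end Cfsg.Agent.S5959
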