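import Cfsg.Statements.S5960
import Cfsg.Agent.Lib.Derange.SympDecomp
-- import your own Cfsg.Agent.* helpers here

set_option autoImplicit false
open scoped MatrixGroups
open Cfsg

namespace Cfsg.Agent.S5960

/-- Involutions of PSp_n(q) and imprimitive subgroups. Here `T = PSp_n(q)`, `n = 2d ≥ 4`, `(n, q) ≠ (4, 2)`, realised through the symplectic matrices over the field `F` with `q` elements and the standard alternating form; `n = a·t` with `a` even and `t ≥ 2`, and Ω is the (nonempty) set of orthogonal decompositions of `F^n` into `t` nondegenerate subspaces of dimension `a` (unordered; counted as ordered ones divided by `t!`), whose stabilizers are the imprimitive subgroups of type Sp_a(q) ≀ S_t (maximality is not assumed); an element of `T` of prime order `r` (a symplectic matrix `x` with `x^r` scalar, `x` not scalar) fixes a point of Ω when it permutes the summands of some such decomposition. If the number of such decompositions is even, then every involution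 of `T` stabilizes one of them (the action is 2-elusive). -/
theorem result {F : Type*} [Field F] [Fintype F] {p : ℕ} [Fact p.Prime] [CharP F p] {q : ℕ} (hq : Fintype.card F = q)
    (d : ℕ) (hd : 2 ≤ d) (hT : (d, q) ≠ (2, 2))
    (a t : ℕ) (hat : 2 * d = a * t) (ha : 2 ≤ a) (hae : Even a) (ht : 2 ≤ t) (hΩ : 2 ∣ Nat.card {D : Fin t → Submodule F (Fin d ⊕ Fin d → F) // (Cfsg.Geo.IsMDecomposition a D ∧ (∀ j, ∀ u ∈ D j, u ≠ 0 → ∃ v ∈ D j, Cfsg.sympForm d F u v ≠ 0) ∧
          (∀ j j', j ≠ j' → ∀ u ∈ D j, ∀ v ∈ D j', Cfsg.sympForm d F u v = 0))} / Nat.factorial t)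
    (x : ↥(Matrix.symplecticGroup (Fin d) F))
    (hx1 : ∃ z : F, ((x ^ 2 : ↥(Matrix.symplecticGroup (Fin d) F)) : Matrix (Fin d ⊕ Fin d) (Fin d ⊕ Fin d) F) = z • (1 : Matrix (Fin d ⊕ Fin d) (Fin d ⊕ Fin d) F))
    (hx2 : ∀ z : F, (x : Matrix (Fin d ⊕ Fin d) (Fin d ⊕ Fin d) F) ≠ z • (1 : Matrix (Fin d ⊕ Fin d) (Fin d ⊕ Fin d) F)) :
    ∃ D : Fin t → Submodule F (Fin d ⊕ Fin d → F), (Cfsg.Geo.IsMDecomposition a D ∧ (∀ j, ∀ u ∈ D j, u ≠ 0 → ∃ v ∈ D j, Cfsg.sympForm d F u v ≠ 0) ∧
          (∀ j j', j ≠ j' → ∀ u ∈ D j, ∀ v ∈ D j', Cfsg.sympForm d F u v = 0)) ∧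
        ∃ σ : Equiv.Perm (Fin t), ∀ j, (D j).map (Matrix.toLin' (x : Matrix (Fin d ⊕ Fin d) (Fin d ⊕ Fin d) F)) = D (σ j) := by
  classical
  obtain ⟨a, rfl⟩ := hae
  have ha0 : 0 < a := by omega
  have hdat : d = a * t := Nat.eq_of_mul_eq_mul_left two_pos (hat.trans (by ring))
  obtain ⟨z, hz⟩ := hx1
  have hzz := CfsgLib.Derange.Sp.scalar_sq (by omega) _ hz
  set g := CfsgLib.Derange.Sp.lin x with hgdef
  have hB := CfsgLib.Classical.SympClasses.symp_sb F d
  have hg : ∀ u v, CfsgLib.Classical.SympClasses.sb F d (g u) (g v) = CfsgLib.Classical.SympClasses.sb F d u v :=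
    CfsgLib.Classical.SympClasses.app_isometry x
  have hgg : ∀ u, g (g u) = z • u := fun u => by
    show Matrix.toLin' _ (Matrix.toLin' _ u) = _
    rw [Matrix.toLin'_apply, Matrix.toLin'_apply, Matrix.mulVec_mulVec, ← pow_two, ← SubmonoidClass.coe_pow, hz,
      Matrix.smul_mulVec, Matrix.one_mulVec]
  obtain ⟨S⟩ : Nonempty (CfsgLib.Derange.Sp.Split (CfsgLib.Classical.SympClasses.sb F d) g ⊤ a t) := by
    refine CfsgLib.Derange.Sp.exists_split_blocks hB hg ha0 (fun k M hk hkt hMd hM hMg => ?_) t le_rfl ⊤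
      (by rw [finrank_top, CfsgLib.Derange.Sp.finrank_std, hdat]; ring) (CfsgLib.Derange.Sp.nond_top d)
      fun v _ => Submodule.mem_top
    by_cases hp2 : p = 2
    · subst hp2
      have hgg1 : ∀ u, g (g u) = u := fun u => by
        rw [hgg]
        rcases mul_self_eq_one_iff.1 hzz with h | h
        · rw [h, one_smul]
        · rw [h, CharTwo.neg_eq, one_smul]
      exact CfsgLib.Derange.Sp.step_two hB hg hgg1 ha0 hk hMd hM hMg
    · have hF : (2 : F) ≠ 0 := Ring.two_ne_zero fun e => hp2 ((ringChar.eq F p).symm.trans e)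
      exact Or.inl (CfsgLib.Derange.Sp.step_semisimple hF hB hg (mul_self_eq_one_iff.1 hzz) hgg hk hMd hM hMg)
  rw [← two_mul]
  exact ⟨S.D, S.isDecomposition ha0 ht⟩

end Cfsg.Agent.S5960
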