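import Cfsg.Statements.S5961
import Cfsg.Agent.Lib.Derange.SympDecompOrder
-- import your own Cfsg.Agent.* helpers here

set_option autoImplicit false
open scoped MatrixGroups
open Cfsg

namespace Cfsg.Agent.S5961

/-- Elements of odd prime order of PSp_n(q) and imprimitive subgroups. Here `T = PSp_n(q)`, `n = 2d ≥ 4`, `(n, q) ≠ (4, 2)`, realised through the symplectic matrices over the field `F` with `q` elements and the standard alternating form; `n = a·t` with `a` even and `t ≥ 2`, and Ω is the (nonempty) set of orthogonal decompositions of `F^n` into `t` nondegenerate subspaces of dimension `a` (unordered; counted as ordered ones divided by `t!`), whose stabilizers are the imprimitive subgroups of type Sp_a(q) ≀ S_t (maximality is not assumed); an element of `T` of prime order `r` (a symplectic matrix `x` with `x^r` scalar, `x` not scalar) fixes a point of Ω when it permutes the summands of some such decomposition. Let `r ≠ p` be an odd prime dividing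 the number of such decompositions, let `i` be the multiplicative order of `q` modulo `r`, `c = i` if `i` is even and `c = 2i` if `i` is odd, and write `k = n mod c`, `ℓ = a mod c`. Then every element of `T` of order `r` stabilizes such a decomposition if and only if `c ≤ a` and `k = t·ℓ`. -/
theorem result {F : Type*} [Field F] [Fintype F] {p : ℕ} [Fact p.Prime] [CharP F p] {q : ℕ} (hq : Fintype.card F = q)
    (d : ℕ) (hd : 2 ≤ d) (hT : (d, q) ≠ (2, 2))
    (a t : ℕ) (hat : 2 * d = a * t) (ha : 2 ≤ a) (hae : Even a) (ht : 2 ≤ t)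
    (r : ℕ) [Fact r.Prime] (hr2 : r ≠ 2) (hrp : r ≠ p) (hΩ : r ∣ Nat.card {D : Fin t → Submodule F (Fin d ⊕ Fin d → F) // (Cfsg.Geo.IsMDecomposition a D ∧ (∀ j, ∀ u ∈ D j, u ≠ 0 → ∃ v ∈ D j, Cfsg.sympForm d F u v ≠ 0) ∧
          (∀ j j', j ≠ j' → ∀ u ∈ D j, ∀ v ∈ D j', Cfsg.sympForm d F u v = 0))} / Nat.factorial t)
    (i c : ℕ) (hi : i = orderOf (q : ZMod r)) (hc : c = if Even i then i else 2 * i) :
    (∀ x : ↥(Matrix.symplecticGroup (Fin d) F),
      (∃ z : F, ((x ^ r : ↥(Matrix.symplecticGroup (Fin d) F)) : Matrix (Fin d ⊕ Fin d) (Fin d ⊕ Fin d) F) = z • (1 : Matrix (Fin d ⊕ Fin d) (Fin d ⊕ Fin d) F)) →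
      (∀ z : F, (x : Matrix (Fin d ⊕ Fin d) (Fin d ⊕ Fin d) F) ≠ z • (1 : Matrix (Fin d ⊕ Fin d) (Fin d ⊕ Fin d) F)) →
      ∃ D : Fin t → Submodule F (Fin d ⊕ Fin d → F), (Cfsg.Geo.IsMDecomposition a D ∧ (∀ j, ∀ u ∈ D j, u ≠ 0 → ∃ v ∈ D j, Cfsg.sympForm d F u v ≠ 0) ∧
          (∀ j j', j ≠ j' → ∀ u ∈ D j, ∀ v ∈ D j', Cfsg.sympForm d F u v = 0)) ∧
        ∃ σ : Equiv.Perm (Fin t), ∀ j, (D j).map (Matrix.toLin' (x : Matrix (Fin d ⊕ Fin d) (Fin d ⊕ Fin d) F)) = D (σ j)) ↔
    (c ≤ a ∧ (2 * d) % c = t * (a % c)) := by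
  classical
  obtain ⟨a, rfl⟩ := hae
  rw [show a + a = 2 * a by ring] at *
  have ha0 : 0 < a := by omega
  have hr : r.Prime := Fact.out
  have hdat : d = a * t := Nat.eq_of_mul_eq_mul_left two_pos (hat.trans (by ring))
  obtain ⟨t₀, D₁, X⟩ := CfsgLib.Derange.exists_ctx hq hr hr2 hrp hi
  have hcu : c = CfsgLib.Derange.unitDim i := hc
  have hcd := CfsgLib.Derange.Sp.decomp_window (p := p) hq hr hrp hi hdat ha0 ht hΩ
  rw [hcu]
  constructor
  · exact fun H => CfsgLib.Derange.Sp.cond_of_fix X hdat ha0 hcd H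
  · rintro ⟨hca, hmod⟩ x hx1 hx2
    obtain ⟨y, hy, -, s, hss, hs⟩ :=
      CfsgLib.Derange.Sp.exists_sign (by omega) (hr.odd_of_ne_two hr2) x hx1 hx2
    obtain ⟨S⟩ := CfsgLib.Derange.Sp.exists_blocks_of_cond X hdat ha0 ht hca hmod y hy
    obtain ⟨hD, σ, hσ⟩ := S.isDecomposition ha0 ht
    refine ⟨S.D, hD, σ, fun j => ?_⟩
    have hs0 : s ≠ 0 := fun h => by rw [h, mul_zero] at hss; exact zero_ne_one hss
    show (S.D j).map (CfsgLib.Derange.Sp.lin x) = _
    rw [show CfsgLib.Derange.Sp.lin x = s • CfsgLib.Derange.Sp.lin y from LinearMap.ext hs, Submodule.map_smul _ _ _ hs0]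
    exact hσ j

end Cfsg.Agent.S5961
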