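import Cfsg.Statements.S5962
-- import your own Cfsg.Agent.* helpers here

set_option autoImplicit false
open scoped MatrixGroups
open Cfsg

namespace Cfsg.Agent.S5962

open Module in
/-- Polarisations carried by an involution or a square root of `-1`. -/
theorem exists_pair {F : Type*} [Field F] {V : Type*} [AddCommGroup V] [Module F V] [FiniteDimensional F V]
    (h2 : (2 : F) ≠ 0) (B : LinearMap.BilinForm F V) (halt : ∀ x, B x x = 0) (g : V →ₗ[F] V)
    (hg : ∀ x y, B (g x) (g y) = B x y) {z : F} (hz : z = 1 ∨ z = -1) (hgg : ∀ x, g (g x) = z • x) :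
    ∀ (n : ℕ) (M : Submodule F V), finrank F M ≤ n → (∀ x ∈ M, g x ∈ M) →
      (∀ x ∈ M, (∀ y ∈ M, B x y = 0) → x = 0) →
      ∃ U W : Submodule F V, U ≤ M ∧ W ≤ M ∧ U ⊓ W = ⊥ ∧ M ≤ U ⊔ W ∧ (∀ a ∈ U, ∀ b ∈ U, B a b = 0) ∧
        (∀ a ∈ W, ∀ b ∈ W, B a b = 0) ∧
        ((z = 1 ∧ (∀ a ∈ U, g a ∈ U) ∧ ∀ a ∈ W, g a ∈ W) ∨ (z = -1 ∧ (∀ a ∈ U, g a ∈ W) ∧ ∀ a ∈ W, g a ∈ U)) := by
  have hskew : ∀ x y, B y x = -B x y := fun x y => by
    have h := halt (x + y)
    simp only [map_add, LinearMap.add_apply, halt, zero_add, add_zero] at h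
    exact eq_neg_of_add_eq_zero_left h
  have hadj : ∀ x y, B x (g y) = z * B (g x) y := fun x y => by
    rw [← hg x (g y), hgg, map_smul, smul_eq_mul]
  intro n
  induction n with
  | zero =>
    intro M hM _ _
    obtain rfl : M = ⊥ := Submodule.finrank_eq_zero.1 (Nat.le_zero.1 hM)
    refine ⟨⊥, ⊥, le_rfl, le_rfl, bot_inf_eq _, bot_le, ?_, ?_, ?_⟩
    · intro a ha b _; rw [(Submodule.mem_bot F).1 ha]; simp
    · intro a ha b _; rw [(Submodule.mem_bot F).1 ha]; simp
    · rcases hz with rfl | rfl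
      · exact Or.inl ⟨rfl, fun a ha => by simp [(Submodule.mem_bot F).1 ha],
          fun a ha => by simp [(Submodule.mem_bot F).1 ha]⟩
      · exact Or.inr ⟨rfl, fun a ha => by simp [(Submodule.mem_bot F).1 ha],
          fun a ha => by simp [(Submodule.mem_bot F).1 ha]⟩
  | succ n ih =>
    intro M hM hMg hMn
    by_cases h0 : M = ⊥
    · exact ih M (by rw [h0, finrank_bot]; exact Nat.zero_le _) hMg hMn
    obtain ⟨x₀, hx₀, hx₀0⟩ := M.exists_mem_ne_zero_of_ne_bot h0
    obtain ⟨u, w, hu, hw, huw, hgu, hgw⟩ : ∃ u w, u ∈ M ∧ w ∈ M ∧ B u w ≠ 0 ∧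
        ((z = 1 ∧ ∃ s : F, g u = s • u ∧ g w = s • w) ∨ (z = -1 ∧ g u = w)) ∧ True := by
      rcases hz with rfl | rfl
      · obtain ⟨u, hu, hu0, s, hs, hgu⟩ : ∃ u ∈ M, u ≠ 0 ∧ ∃ s : F, s * s = 1 ∧ g u = s • u := by
          by_cases h1 : x₀ + g x₀ = 0
          · exact ⟨x₀, hx₀, hx₀0, -1, by ring, by rw [neg_one_smul]; exact eq_neg_of_add_eq_zero_right h1⟩
          · exact ⟨_, M.add_mem hx₀ (hMg _ hx₀), h1, 1, by ring, by rw [map_add, hgg, one_smul, one_smul, add_comm]⟩
        obtain ⟨w, hw, huw⟩ : ∃ w ∈ M, B u w ≠ 0 := by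
          by_contra hc
          push Not at hc
          exact hu0 (hMn u hu hc)
        refine ⟨u, w + s • g w, hu, M.add_mem hw (M.smul_mem _ (hMg w hw)), ?_,
          Or.inl ⟨rfl, s, hgu, ?_⟩, trivial⟩
        · rw [map_add, map_smul, hadj, hgu, map_smul, LinearMap.smul_apply, smul_eq_mul, smul_eq_mul, one_mul,
            ← mul_assoc, hs, one_mul, ← two_mul]
          exact mul_ne_zero h2 huw
        · rw [map_add, map_smul, hgg, one_smul, smul_add, smul_smul, hs, one_smul, add_comm]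
      · obtain ⟨u, hu, hne⟩ : ∃ u ∈ M, B u (g u) ≠ 0 := by
          by_contra hc
          push Not at hc
          refine hx₀0 (hMn x₀ hx₀ fun y hy => ?_)
          have h := hc _ (M.add_mem (hMg _ hx₀) hy)
          simp only [map_add, LinearMap.add_apply, hgg, hc _ hy, map_smul, LinearMap.smul_apply, smul_eq_mul,
            neg_one_mul, add_zero, hskew (g x₀) y, hskew x₀ (g x₀), hc _ hx₀, neg_zero, zero_add,
            hskew x₀ y, hg] at h
          have h' : (2 : F) * B x₀ y = 0 := by linear_combination h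
          exact (mul_eq_zero.1 h').resolve_left h2
        exact ⟨u, g u, hu, hMg u hu, hne, Or.inr ⟨rfl, rfl⟩, trivial⟩
    set P := Submodule.span F ({u, w} : Set V)
    let M' : Submodule F V := M ⊓ (LinearMap.ker (B u) ⊓ LinearMap.ker (B w))
    have hgP : ∀ a, a ∈ M' → g a ∈ M' := by
      rintro a ⟨ha, hau, haw⟩
      have hau : B u a = 0 := hau
      have haw : B w a = 0 := haw
      refine ⟨hMg a ha, ?_, ?_⟩
      · show B u (g a) = 0
        rcases hgu with ⟨-, s, h1, -⟩ | ⟨-, h1⟩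
        · rw [hadj, h1, map_smul, LinearMap.smul_apply, hau, smul_zero, mul_zero]
        · rw [hadj, h1, haw, mul_zero]
      · show B w (g a) = 0
        rcases hgu with ⟨-, s, -, h1⟩ | ⟨hz1, h1⟩
        · rw [hadj, h1, map_smul, LinearMap.smul_apply, haw, smul_zero, mul_zero]
        · rw [← h1, hg, hau]
    have hsplit : ∀ a ∈ M, a - (B u a / B u w) • w - (B a w / B u w) • u ∈ M' := fun a ha => by
      refine ⟨M.sub_mem (M.sub_mem ha (M.smul_mem _ hw)) (M.smul_mem _ hu), ?_, ?_⟩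
      · show B u _ = 0
        rw [map_sub, map_sub, map_smul, map_smul, smul_eq_mul, smul_eq_mul, halt, mul_zero, sub_zero,
          div_mul_cancel₀ _ huw, sub_self]
      · show B w _ = 0
        rw [map_sub, map_sub, map_smul, map_smul, smul_eq_mul, smul_eq_mul, halt, mul_zero, sub_zero,
          hskew u w, hskew a w, mul_neg, div_mul_cancel₀ _ huw, sub_self]
    have hM'n : ∀ a ∈ M', (∀ b ∈ M', B a b = 0) → a = 0 := fun a ha h => hMn a ha.1 fun b hb => by
      have hau : B a u = 0 := by rw [hskew u a, show B u a = 0 from ha.2.1, neg_zero]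
      have haw : B a w = 0 := by rw [hskew w a, show B w a = 0 from ha.2.2, neg_zero]
      have h1 := h _ (hsplit b hb)
      rw [map_sub, map_sub, map_smul, map_smul, hau, haw, smul_zero, smul_zero, sub_zero, sub_zero] at h1
      exact h1
    have hlt : M' < M := lt_of_le_of_ne inf_le_left fun h => by
      have : B u w = 0 := (h.symm ▸ hw : w ∈ M').2.1
      exact huw this
    obtain ⟨U, W, hUM, hWM, hUW, hMUW, hU, hW, hmap⟩ :=
      ih M' (by have := Submodule.finrank_lt_finrank_of_lt hlt; omega) hgP hM'n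
    have key : ∀ v : V, (v = u ∨ v = w) → ∀ S : Submodule F V, S ≤ M' → (∀ a ∈ S, ∀ b ∈ S, B a b = 0) →
        ∀ a ∈ Submodule.span F {v} ⊔ S, ∀ b ∈ Submodule.span F {v} ⊔ S, B a b = 0 := by
      intro v hv S hS hSS a ha b hb
      obtain ⟨a₁, ha₁, a₂, ha₂, rfl⟩ := Submodule.mem_sup.1 ha
      obtain ⟨b₁, hb₁, b₂, hb₂, rfl⟩ := Submodule.mem_sup.1 hb
      obtain ⟨c, rfl⟩ := Submodule.mem_span_singleton.1 ha₁
      obtain ⟨e, rfl⟩ := Submodule.mem_span_singleton.1 hb₁
      have hv' : ∀ s ∈ S, B v s = 0 := fun s hs => by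
        rcases hv with rfl | rfl
        exacts [(hS hs).2.1, (hS hs).2.2]
      simp [halt, hv' _ hb₂, hskew v a₂, hv' _ ha₂, hSS _ ha₂ _ hb₂]
    refine ⟨Submodule.span F {u} ⊔ U, Submodule.span F {w} ⊔ W,
      sup_le ((Submodule.span_singleton_le_iff_mem _ _).2 hu) (hUM.trans inf_le_left),
      sup_le ((Submodule.span_singleton_le_iff_mem _ _).2 hw) (hWM.trans inf_le_left), ?_, fun a ha => ?_,
      key u (Or.inl rfl) U hUM hU, key w (Or.inr rfl) W hWM hW, ?_⟩
    · refine (Submodule.eq_bot_iff _).2 fun a ha => ?_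
      obtain ⟨a₁, ha₁, a₂, ha₂, rfl⟩ := Submodule.mem_sup.1 ha.1
      obtain ⟨b₁, hb₁, b₂, hb₂, h⟩ := Submodule.mem_sup.1 ha.2
      obtain ⟨c, rfl⟩ := Submodule.mem_span_singleton.1 ha₁
      obtain ⟨e, rfl⟩ := Submodule.mem_span_singleton.1 hb₁
      have h1 := congrArg (B u) h
      have h3 := congrArg (B w) h
      simp only [map_add, map_smul, smul_eq_mul, halt, mul_zero, zero_add, show B u a₂ = 0 from (hUM ha₂).2.1,
        show B u b₂ = 0 from (hWM hb₂).2.1, show B w a₂ = 0 from (hUM ha₂).2.2,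
        show B w b₂ = 0 from (hWM hb₂).2.2, add_zero, hskew u w, mul_neg, mul_eq_zero, huw, or_false] at h1 h3
      rw [zero_eq_neg, mul_eq_zero, or_iff_left huw] at h3
      subst h1 h3
      simp only [zero_smul, zero_add] at h ⊢
      exact (Submodule.eq_bot_iff _).1 hUW a₂ ⟨ha₂, h ▸ hb₂⟩
    · rw [show a = (a - (B u a / B u w) • w - (B a w / B u w) • u) + ((B a w / B u w) • u + (B u a / B u w) • w) by abel]
      refine add_mem ((sup_le_sup le_sup_right le_sup_right :
        U ⊔ W ≤ (Submodule.span F {u} ⊔ U) ⊔ (Submodule.span F {w} ⊔ W)) (hMUW (hsplit a ha))) ?_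
      exact add_mem (Submodule.mem_sup_left (Submodule.mem_sup_left (Submodule.smul_mem _ _ (Submodule.mem_span_singleton_self u))))
        (Submodule.mem_sup_right (Submodule.mem_sup_left (Submodule.smul_mem _ _ (Submodule.mem_span_singleton_self w))))
    · rcases hmap with ⟨hz1, hUg, hWg⟩ | ⟨hz1, hUg, hWg⟩
      · obtain ⟨-, s, h1, h3⟩ : z = 1 ∧ ∃ s : F, g u = s • u ∧ g w = s • w :=
          hgu.resolve_right fun h => h2 (by linear_combination hz1.symm.trans h.1)
        refine Or.inl ⟨hz1, fun a ha => ?_, fun a ha => ?_⟩ <;>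
          obtain ⟨a₁, ha₁, a₂, ha₂, rfl⟩ := Submodule.mem_sup.1 ha <;>
          obtain ⟨c, rfl⟩ := Submodule.mem_span_singleton.1 ha₁
        · rw [map_add, map_smul, h1]
          exact add_mem (Submodule.mem_sup_left (Submodule.smul_mem _ _ (Submodule.smul_mem _ _
            (Submodule.mem_span_singleton_self u)))) (Submodule.mem_sup_right (hUg _ ha₂))
        · rw [map_add, map_smul, h3]
          exact add_mem (Submodule.mem_sup_left (Submodule.smul_mem _ _ (Submodule.smul_mem _ _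
            (Submodule.mem_span_singleton_self w)))) (Submodule.mem_sup_right (hWg _ ha₂))
      · obtain ⟨-, h1⟩ : z = -1 ∧ g u = w :=
          hgu.resolve_left fun h => h2 (by linear_combination h.1.symm.trans hz1)
        refine Or.inr ⟨hz1, fun a ha => ?_, fun a ha => ?_⟩ <;>
          obtain ⟨a₁, ha₁, a₂, ha₂, rfl⟩ := Submodule.mem_sup.1 ha <;>
          obtain ⟨c, rfl⟩ := Submodule.mem_span_singleton.1 ha₁
        · rw [map_add, map_smul, h1]
          exact add_mem (Submodule.mem_sup_left (Submodule.smul_mem _ _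
            (Submodule.mem_span_singleton_self w))) (Submodule.mem_sup_right (hUg _ ha₂))
        · rw [map_add, map_smul, ← h1, hgg, hz1]
          exact add_mem (Submodule.mem_sup_left (Submodule.smul_mem _ _ (Submodule.smul_mem _ _
            (Submodule.mem_span_singleton_self u)))) (Submodule.mem_sup_right (hWg _ ha₂))

/-- Involutions of PSp_n(q), q odd, and the subgroups GL_{n/2}(q).2. Here `T = PSp_n(q)`, `n = 2d ≥ 4`, `q` odd, realised through the symplectic matrices over the field `F` with `q` elements; Ω is the set of unordered pairs `{U, W}` of complementary totally isotropic `d`-spaces (`F^n = U ⊕ W`), whose stabilizers are the subgroups of type GL_d(q).2 (maximal except in some small cases; maximality is not assumed); an element of `T` of prime order `r` (a symplectic matrix `x` with `x^r` scalar, `x` not scalar) fixes such a pair when it fixes or interchanges `U` and `W`. If the number of such pairs is even, every involution of `T`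 fixes one of them (the action is 2-elusive). -/
theorem result {F : Type*} [Field F] [Fintype F] {p : ℕ} [Fact p.Prime] [CharP F p] {q : ℕ} (hq : Fintype.card F = q)
    (d : ℕ) (hd : 2 ≤ d) (hT : (d, q) ≠ (2, 2)) (hodd : Odd q)
    (hΩ : 2 ∣ Nat.card {P : Submodule F (Fin d ⊕ Fin d → F) × Submodule F (Fin d ⊕ Fin d → F) // IsCompl P.1 P.2 ∧ (∀ u ∈ P.1, ∀ v ∈ P.1, Cfsg.sympForm d F u v = 0) ∧ (∀ u ∈ P.2, ∀ v ∈ P.2, Cfsg.sympForm d F u v = 0)} / 2)
    (x : ↥(Matrix.symplecticGroup (Fin d) F))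
    (hx1 : ∃ z : F, ((x ^ 2 : ↥(Matrix.symplecticGroup (Fin d) F)) : Matrix (Fin d ⊕ Fin d) (Fin d ⊕ Fin d) F) = z • (1 : Matrix (Fin d ⊕ Fin d) (Fin d ⊕ Fin d) F))
    (hx2 : ∀ z : F, (x : Matrix (Fin d ⊕ Fin d) (Fin d ⊕ Fin d) F) ≠ z • (1 : Matrix (Fin d ⊕ Fin d) (Fin d ⊕ Fin d) F)) :
    ∃ U W : Submodule F (Fin d ⊕ Fin d → F), IsCompl U W ∧ (∀ u ∈ U, ∀ v ∈ U, Cfsg.sympForm d F u v = 0) ∧ (∀ u ∈ W, ∀ v ∈ W, Cfsg.sympForm d F u v = 0) ∧
        ((U.map (Matrix.toLin' (x : Matrix (Fin d ⊕ Fin d) (Fin d ⊕ Fin d) F)) = U ∧ W.map (Matrix.toLin' (x : Matrix (Fin d ⊕ Fin d) (Fin d ⊕ Fin d) F)) = W) ∨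
         (U.map (Matrix.toLin' (x : Matrix (Fin d ⊕ Fin d) (Fin d ⊕ Fin d) F)) = W ∧ W.map (Matrix.toLin' (x : Matrix (Fin d ⊕ Fin d) (Fin d ⊕ Fin d) F)) = U)) := by
  classical
  have h2 : (2 : F) ≠ 0 := by
    refine Ring.two_ne_zero fun e => ?_
    have := FiniteField.even_card_of_char_two e
    rw [← hq, Nat.odd_iff] at hodd
    omega
  let B : LinearMap.BilinForm F (Fin d ⊕ Fin d → F) := Matrix.toBilin' (Matrix.J (Fin d) F)
  have hB : ∀ u v, B u v = Cfsg.sympForm d F u v := fun u v => Matrix.toBilin'_apply' _ _ _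
  set A : Matrix (Fin d ⊕ Fin d) (Fin d ⊕ Fin d) F := (x : Matrix (Fin d ⊕ Fin d) (Fin d ⊕ Fin d) F)
  have hA : A.transpose * Matrix.J (Fin d) F * A = Matrix.J (Fin d) F := by
    have h := SymplecticGroup.mem_iff.1 (SymplecticGroup.transpose_mem x.2)
    rwa [Matrix.transpose_transpose] at h
  have hg : ∀ u v, B (Matrix.toLin' A u) (Matrix.toLin' A v) = B u v := fun u v => by
    simp only [hB, Cfsg.sympForm, Matrix.toLin'_apply]
    rw [Matrix.mulVec_mulVec, Matrix.dotProduct_mulVec, Matrix.vecMul_mulVec, ← Matrix.mul_assoc, hA,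
      ← Matrix.dotProduct_mulVec]
  have halt : ∀ u, B u u = 0 := fun u => by
    simp only [hB, Cfsg.sympForm, Matrix.J, dotProduct, Fintype.sum_sum_type, Matrix.fromBlocks_mulVec,
      Sum.elim_inl, Sum.elim_inr, Function.comp_def, Matrix.zero_mulVec, Matrix.neg_mulVec, Matrix.one_mulVec,
      zero_add, add_zero, Pi.neg_apply, mul_neg, Finset.sum_neg_distrib]
    rw [Finset.sum_congr rfl fun i _ => mul_comm (u (Sum.inr i)) (u (Sum.inl i))]
    ring
  have hnd : ∀ u ∈ (⊤ : Submodule F (Fin d ⊕ Fin d → F)),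
      (∀ v ∈ (⊤ : Submodule F (Fin d ⊕ Fin d → F)), B u v = 0) → u = 0 := fun u _ h =>
    Matrix.eq_zero_of_vecMul_eq_zero (Matrix.isUnit_det_J (Fin d) F).ne_zero (funext fun i => by
      have := h (Pi.single i 1) Submodule.mem_top
      rwa [Matrix.toBilin'_apply', Matrix.dotProduct_mulVec, dotProduct_single_one] at this)
  obtain ⟨z, hz⟩ := hx1
  have hgg : ∀ u, Matrix.toLin' A (Matrix.toLin' A u) = z • u := fun u => by
    rw [Matrix.toLin'_apply, Matrix.toLin'_apply, Matrix.mulVec_mulVec, ← pow_two,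
      show A ^ 2 = z • (1 : Matrix (Fin d ⊕ Fin d) (Fin d ⊕ Fin d) F) from hz, Matrix.smul_mulVec, Matrix.one_mulVec]
  have hzz : z * z = 1 := by
    obtain ⟨u, hu⟩ : ∃ u : Fin d ⊕ Fin d → F, u ≠ 0 :=
      ⟨Pi.single (Sum.inl ⟨0, by omega⟩) 1, fun h => one_ne_zero (α := F) (by simpa using congrFun h (Sum.inl ⟨0, by omega⟩))⟩
    obtain ⟨v, hv⟩ : ∃ v, B u v ≠ 0 := by
      by_contra hc
      push Not at hc
      exact hu (hnd u Submodule.mem_top fun v _ => hc v)
    have h := hg (Matrix.toLin' A u) (Matrix.toLin' A v)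
    rw [hgg, hgg, hg] at h
    simp only [map_smul, LinearMap.smul_apply, smul_eq_mul, ← mul_assoc] at h
    exact mul_right_cancel₀ hv (h.trans (one_mul _).symm)
  obtain ⟨U, W, -, -, hUW, htop, hU, hW, hmap⟩ := exists_pair h2 B halt (Matrix.toLin' A) hg
    (mul_self_eq_one_iff.1 hzz) hgg _ ⊤ le_rfl (fun u _ => Submodule.mem_top) hnd
  refine ⟨U, W, ⟨disjoint_iff.2 hUW, codisjoint_iff.2 (top_le_iff.1 htop)⟩,
    fun u hu v hv => (hB u v).symm.trans (hU u hu v hv), fun u hu v hv => (hB u v).symm.trans (hW u hu v hv), ?_⟩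
  rcases hmap with ⟨hz1, h1, h3⟩ | ⟨hz1, h1, h3⟩
  · refine Or.inl ⟨le_antisymm (Submodule.map_le_iff_le_comap.2 h1) fun a ha => ⟨_, h1 a ha, ?_⟩,
      le_antisymm (Submodule.map_le_iff_le_comap.2 h3) fun a ha => ⟨_, h3 a ha, ?_⟩⟩ <;>
      rw [hgg, hz1, one_smul]
  · refine Or.inr ⟨le_antisymm (Submodule.map_le_iff_le_comap.2 h1) fun a ha =>
      ⟨_, U.neg_mem (h3 a ha), ?_⟩,
      le_antisymm (Submodule.map_le_iff_le_comap.2 h3) fun a ha => ⟨_, W.neg_mem (h1 a ha), ?_⟩⟩ <;>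
      rw [map_neg, hgg, hz1, neg_one_smul, neg_neg]

end Cfsg.Agent.S5962
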