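import Cfsg.Statements.S5964
import Cfsg.Agent.Lib.Derange.InvolutionConj
import Cfsg.Agent.Lib.Derange.SubfieldIndex
import Cfsg.Agent.Lib.Classical.LinearSubfield

set_option autoImplicit false
open scoped MatrixGroups
open Cfsg

namespace Cfsg.Agent.S5964

/-- Involutions of PSL_n(q) and subfield subgroups. Here `T = PSL_n(F)` for a field `F` with `q = p^f` elements (`n ≥ 2`, `(n, q) ≠ (2, 2), (2, 3)`), `F₀` is the subfield with `q₀` elements where `q = q₀^k` for a prime `k`, and `H` is the subgroup of matrices of determinant 1 lying in the subfield group of `F₀` (invertible matrices over `F₀` times scalars) — a maximal subgroup of type GL_n(q₀) (the case `n = 2`, `q₀ = 2` is excluded); Ω is the set of `T`-conjugates of `H` (cosets of `H`), so an element of `T` of prime order `r` (a matrix `x` of determinant 1 with `x^r` scalar, `x` not scalar) fixes a point of Ω when some conjugate of `x` by a matrix of determinant 1 lies in `H`. Suppose the index of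 `H` is even. Then every involution of `T` is conjugate in `T` into `H` if and only if either `q` is even, or `k = 2` and `(n)_2 ≤ (q − 1)_2`. (For `q` odd and `k` odd the index of `H` is odd, so that case does not arise.) -/
theorem result {F : Type*} [Field F] [Fintype F] {p : ℕ} [Fact p.Prime] [CharP F p] {q : ℕ} (hq : Fintype.card F = q)
    (n : ℕ) (hn : 2 ≤ n) (hT : (n, q) ≠ (2, 2) ∧ (n, q) ≠ (2, 3))
    (F₀ : Subfield F) (k q₀ : ℕ) (hk : k.Prime) (hF₀ : Nat.card ↥F₀ = q₀) (hqk : q = q₀ ^ k) (hC5 : ¬ (n = 2 ∧ q₀ = 2)) (hΩ : 2 ∣ ((Cfsg.Geo.subfieldSubgroup F₀ 1).comap (Matrix.SpecialLinearGroup.toGL : Matrix.SpecialLinearGroup (Fin n) F →* GL (Fin n) F)).index) :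
    (∀ x : Matrix.SpecialLinearGroup (Fin n) F,
      (∃ z : F, ((x ^ 2 : Matrix.SpecialLinearGroup (Fin n) F) : Matrix (Fin n) (Fin n) F) = z • (1 : Matrix (Fin n) (Fin n) F)) →
      (∀ z : F, (x : Matrix (Fin n) (Fin n) F) ≠ z • (1 : Matrix (Fin n) (Fin n) F)) →
      ∃ P : Matrix.SpecialLinearGroup (Fin n) F, P⁻¹ * x * P ∈ ((Cfsg.Geo.subfieldSubgroup F₀ 1).comap (Matrix.SpecialLinearGroup.toGL : Matrix.SpecialLinearGroup (Fin n) F →* GL (Fin n) F))) ↔
    (Odd q → (k = 2 ∧ padicValNat 2 n ≤ padicValNat 2 (q - 1))) := by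
  classical
  have hp : p.Prime := Fact.out
  obtain ⟨f, -, hf⟩ := FiniteField.card F p
  have hn1 : 1 ≤ n := by omega
  constructor
  · intro h hodd
    have hk2 : k = 2 := by
      by_contra hk2
      exact CfsgLib.Derange.subfield_index_odd F₀ hn1 hF₀ (hq.trans hqk) (hk.odd_of_ne_two hk2)
        (hqk ▸ hodd) hΩ
    refine ⟨hk2, ?_⟩
    subst hk2
    have hp2 : 2 ≠ p := by
      rintro rfl
      have : 2 ∣ q := hq ▸ hf ▸ dvd_pow_self 2 f.ne_zero
      exact Nat.not_even_iff_odd.mpr hodd (even_iff_two_dvd.mpr this)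
    by_contra hv
    have hq0odd : q₀ % 2 = 1 := by
      rw [hqk, Nat.odd_pow_iff two_ne_zero, Nat.odd_iff] at hodd
      exact hodd
    have hq4 : q % 4 = 1 := by
      rw [hqk, Nat.pow_mod]
      have := Nat.mod_lt q₀ (show 4 > 0 by norm_num)
      rcases (show q₀ % 4 = 1 ∨ q₀ % 4 = 3 by omega) with h4 | h4 <;> simp [h4]
    obtain ⟨x, z, hz, hx⟩ := CfsgLib.Derange.exists_sl_not_power (p := p) hq Nat.prime_two hp2
      (by have := Nat.odd_iff.mp hodd; omega) hn1 (fun hh => hv hh.1)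
    have hns : ∀ c : F, (x : Matrix (Fin n) (Fin n) F) ≠ c • 1 := by
      intro c hc
      rw [hc, smul_pow, one_pow] at hx
      haveI : Nonempty (Fin n) := ⟨⟨0, hn1⟩⟩
      exact hz c (smul_left_injective F (one_ne_zero : (1 : Matrix (Fin n) (Fin n) F) ≠ 0) hx)
    obtain ⟨P, hP⟩ := h x ⟨z, by rw [Matrix.SpecialLinearGroup.coe_pow, hx]⟩ hns
    rw [Subgroup.mem_comap, CfsgLib.Classical.MinIndex.Subfield.mem_subfield_one] at hP
    obtain ⟨c, hc, hM⟩ := hP
    have hsq : ((P⁻¹ * x * P : Matrix.SpecialLinearGroup (Fin n) F) : Matrix (Fin n) (Fin n) F) ^ 2 = z • 1 := by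
      rw [← Matrix.SpecialLinearGroup.coe_pow, sq, show P⁻¹ * x * P * (P⁻¹ * x * P) = P⁻¹ * x ^ 2 * P by
        rw [sq]; group]
      rw [Matrix.SpecialLinearGroup.coe_mul, Matrix.SpecialLinearGroup.coe_mul, Matrix.SpecialLinearGroup.coe_pow,
        hx, Matrix.mul_smul, Matrix.mul_one, Matrix.smul_mul, ← Matrix.SpecialLinearGroup.coe_mul, inv_mul_cancel,
        Matrix.SpecialLinearGroup.coe_one]
    set M := ((P⁻¹ * x * P : Matrix.SpecialLinearGroup (Fin n) F) : Matrix (Fin n) (Fin n) F)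
    have hw : z / c ^ 2 ∈ F₀ := by
      have h1 := congrFun (congrFun hsq ⟨0, hn1⟩) ⟨0, hn1⟩
      rw [sq M, Matrix.mul_apply, Matrix.smul_apply, Matrix.one_apply_eq, smul_eq_mul, mul_one] at h1
      rw [← h1, Finset.sum_div]
      refine F₀.sum_mem fun i _ => ?_
      rw [sq c, ← div_mul_div_comm]
      exact F₀.mul_mem (hM _ _) (hM _ _)
    obtain ⟨b, hb⟩ := CfsgLib.Derange.isSquare_of_mem_subfield F₀ hF₀ (hq.trans hqk) hq0odd hw
    refine hz (b * c) ?_
    rw [mul_pow, sq b, ← hb, div_mul_cancel₀ _ (pow_ne_zero 2 hc)]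
  · intro hR x hx _
    obtain ⟨z, hz⟩ := hx
    rw [Matrix.SpecialLinearGroup.coe_pow] at hz
    have hz0 := CfsgLib.Derange.sq_scalar_ne_zero hn1 (by rw [x.det_coe]; exact one_ne_zero) hz
    obtain ⟨a, ha⟩ : ∃ a : F, a ^ 2 = z := by
      by_cases hp2 : p = 2
      · subst hp2
        exact surjective_frobenius F 2 z
      · have hodd : Odd q := hq ▸ hf ▸ (hp.odd_of_ne_two hp2).pow
        obtain ⟨hk2, hv⟩ := hR hodd
        subst hk2
        refine CfsgLib.Derange.is_power_of_noTwist (p := p) hq Nat.prime_two (Ne.symm hp2)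
          (by have := Nat.odd_iff.mp hodd; omega) (Module.finrank_fin_fun F) hn1
          (Matrix.toLin' (x : Matrix (Fin n) (Fin n) F)) (by rw [LinearMap.det_toLin', x.det_coe])
          (by rw [← CfsgLib.Derange.toLin'_pow, hz, CfsgLib.Derange.toLin'_smul_one]) ⟨hv, fun _ _ => ?_⟩
        rw [hqk, Nat.odd_pow_iff two_ne_zero, Nat.odd_iff] at hodd
        rw [hqk, Nat.pow_mod]
        have := Nat.mod_lt q₀ (show 4 > 0 by norm_num)
        rcases (show q₀ % 4 = 1 ∨ q₀ % 4 = 3 by omega) with h4 | h4 <;> simp [h4]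
    have ha0 : a ≠ 0 := by
      rintro rfl
      exact hz0 (by rw [← ha, zero_pow two_ne_zero])
    obtain ⟨b, hb⟩ := CfsgLib.Derange.exists_rational_basis hn1 (x : Matrix (Fin n) (Fin n) F) ha0 (ha ▸ hz) F₀
    obtain ⟨B, hB⟩ := CfsgLib.Derange.exists_conj_toMatrix (Matrix.SpecialLinearGroup.toGL x) b
    refine CfsgLib.Derange.exists_sl_conj (p := p) hn1 _ x hz B ?_
    rw [CfsgLib.Classical.MinIndex.Subfield.mem_subfield_one]
    exact ⟨a, ha0, fun i j => by rw [hB]; exact hb i j⟩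

end Cfsg.Agent.S5964
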