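import Cfsg.Statements.S5965
import Cfsg.Agent.Lib.Derange.SubfieldConj

set_option autoImplicit false
open scoped MatrixGroups
open Cfsg

namespace Cfsg.Agent.S5965

open Module Matrix Polynomial CfsgLib.Derange

universe u

variable {F : Type u} [Field F] [Fintype F] {p : ℕ} [hp : Fact p.Prime] [CharP F p] {F₀ : Subfield F}
  {n q q₀ k r : ℕ}

set_option quotPrecheck false in
local notation "H₀" => ((Cfsg.Geo.subfieldSubgroup F₀ 1).comap
  (Matrix.SpecialLinearGroup.toGL : Matrix.SpecialLinearGroup (Fin n) F →* GL (Fin n) F))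

/-- Every element of order `r` modulo scalars is conjugate into the subgroup. -/
abbrev All (F₀ : Subfield F) (n r : ℕ) : Prop :=
  ∀ x : Matrix.SpecialLinearGroup (Fin n) F,
    (∃ z : F, ((x ^ r : Matrix.SpecialLinearGroup (Fin n) F) : Matrix (Fin n) (Fin n) F) = z • (1 : Matrix (Fin n) (Fin n) F)) →
    (∀ z : F, (x : Matrix (Fin n) (Fin n) F) ≠ z • (1 : Matrix (Fin n) (Fin n) F)) →
    ∃ P : Matrix.SpecialLinearGroup (Fin n) F, P⁻¹ * x * P ∈ ((Cfsg.Geo.subfieldSubgroup F₀ 1).comap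
      (Matrix.SpecialLinearGroup.toGL : Matrix.SpecialLinearGroup (Fin n) F →* GL (Fin n) F))

theorem exists_blocks [DecidableEq F] {a b : ℕ} (h : a + b ≤ n) (A B : F) :
    ∃ d : Fin n → F, (∀ j, d j = A ∧ 0 < a ∨ d j = B ∧ 0 < b ∨ d j = 1) ∧ ∏ j, d j = A ^ a * B ^ b ∧
      ∀ t : F, (Finset.univ.filter fun j => d j = t).card =
        (if A = t then a else 0) + (if B = t then b else 0) + (if (1 : F) = t then n - a - b else 0) := by
  obtain ⟨c, rfl⟩ : ∃ c, n = a + b + c := ⟨n - (a + b), by omega⟩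
  refine ⟨Sum.elim (Sum.elim (fun _ => A) fun _ => B) (fun _ => 1) ∘
    (((Equiv.sumCongr finSumFinEquiv (Equiv.refl (Fin c))).trans finSumFinEquiv).symm), fun j => ?_, ?_, fun t => ?_⟩
  · simp only [Function.comp_apply]
    rcases (((Equiv.sumCongr finSumFinEquiv (Equiv.refl (Fin c))).trans finSumFinEquiv).symm j) with (w | w) | w
    · exact Or.inl ⟨rfl, w.pos⟩
    · exact Or.inr (Or.inl ⟨rfl, w.pos⟩)
    · exact Or.inr (Or.inr rfl)
  · simp only [Function.comp_apply]
    rw [Equiv.prod_comp _ (Sum.elim (Sum.elim (fun _ => A) fun _ => B) (fun _ => (1 : F))), Fintype.prod_sum_type,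
      Fintype.prod_sum_type]
    simp
  · rw [Finset.card_filter]
    simp only [Function.comp_apply]
    rw [Equiv.sum_comp _ (fun w => if Sum.elim (Sum.elim (fun _ => A) fun _ => B) (fun _ => (1 : F)) w = t then 1 else 0),
      Fintype.sum_sum_type, Fintype.sum_sum_type]
    rw [show a + b + c - a - b = c by omega]
    show ((∑ _w : Fin a, if A = t then 1 else 0) + ∑ _w : Fin b, if B = t then 1 else 0) +
      (∑ _w : Fin c, if (1 : F) = t then 1 else 0) = _
    split_ifs <;> simp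

include hp in
/-- A diagonal element conjugate into the subgroup has invariant spectrum. -/
theorem diag_data [DecidableEq F] (hn : 0 < n) (hr : r.Prime) (hcop : (q₀ - 1).Coprime r) (hF₀ : Nat.card F₀ = q₀)
    (hall : All F₀ n r) (d : Fin n → F) {α : F} (hd : ∀ j, d j ^ r = 1) (hdet : α ^ n * ∏ j, d j = 1)
    (hns : ∃ i j, d i ≠ d j) :
    ∃ u : F, ∀ t : F, (Finset.univ.filter fun j => d j = t).card =
      (Finset.univ.filter fun j => d j = u * t ^ q₀).card := by
  obtain ⟨φ, hφ, hfix⟩ := Subfld.exists_frob (p := p) hF₀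
  obtain ⟨W, θ, M, hθ, -, hM⟩ := Subfld.conj_data (p := p) hn hcop hF₀ hall (Matrix.diagonal d) (α := α)
    (by rw [Matrix.det_smul, Matrix.det_diagonal, Fintype.card_fin, hdet])
    (by rw [Matrix.diagonal_pow, show d ^ r = fun _ => (1 : F) from funext hd, Matrix.diagonal_one])
    (fun c hc => by
      obtain ⟨i, j, hij⟩ := hns
      have hi := congrFun (congrFun hc i) i
      have hj := congrFun (congrFun hc j) j
      simp at hi hj
      exact hij (hi.trans hj.symm))
  have hθ0 : θ ≠ 0 := fun h => by rw [h, zero_pow hr.ne_zero] at hθ; exact zero_ne_one hθ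
  have hcp : (M.map F₀.subtype).charpoly = (Matrix.diagonal fun j => θ * d j).charpoly := by
    rw [hM, ← Matrix.smul_mul, ← Matrix.mul_smul, ← Matrix.diagonal_smul, Matrix.coe_units_inv,
      Matrix.charpoly_units_conj']
    rfl
  have hinv : (M.map F₀.subtype).map φ = M.map F₀.subtype := by
    ext i j
    exact (hfix _).2 (M i j).2
  have h1 : (Matrix.diagonal fun j => φ (θ * d j)).charpoly = (Matrix.diagonal fun j => θ * d j).charpoly := by
    rw [← hcp]
    conv_rhs => rw [← hinv, Matrix.charpoly_map, hcp, ← Matrix.charpoly_map, Matrix.diagonal_map (map_zero φ)]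
  refine ⟨θ ^ (q₀ - 1), fun t => ?_⟩
  have h2 := Lin.card_eq_of_map_eq (Lin.map_eq_of_charpoly h1) (φ (θ * t))
  have hq2 : 2 ≤ q₀ := hF₀ ▸ Finite.one_lt_card
  have e1 : (Finset.univ.filter fun j => φ (θ * d j) = φ (θ * t)) = Finset.univ.filter fun j => d j = t :=
    Finset.filter_congr fun j _ => ⟨fun h => mul_left_cancel₀ hθ0 (φ.injective h), fun h => by rw [h]⟩
  have e2 : φ (θ * t) = θ * (θ ^ (q₀ - 1) * t ^ q₀) := by
    rw [hφ, mul_pow, ← mul_assoc, ← pow_succ', Nat.sub_add_cancel (by omega)]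
  have e3 : (Finset.univ.filter fun j => θ * d j = φ (θ * t)) =
      Finset.univ.filter fun j => d j = θ ^ (q₀ - 1) * t ^ q₀ :=
    Finset.filter_congr fun j _ => by rw [e2, mul_right_inj' hθ0]
  rw [e1, e3] at h2
  exact h2

include hp in
/-- An element with one long orbit. -/
theorem case_block (hq : Fintype.card F = q) (hF₀ : Nat.card F₀ = q₀) (hr : r.Prime) (hrp : r ≠ p)
    (hcop : (q₀ - 1).Coprime r) (hall : All F₀ n r) (h2 : 2 ≤ orderOf (q : ZMod r)) (hin : orderOf (q : ZMod r) ≤ n)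
    (hlt : orderOf (q : ZMod r) < orderOf (q₀ : ZMod r)) : False := by
  classical
  letI := Fintype.ofFinite F₀
  haveI : CharP F₀ p := (F₀.subtype.charP_iff F₀.subtype.injective p).2 inferInstance
  have hF₀' : Fintype.card F₀ = q₀ := by rw [← Nat.card_eq_fintype_card, hF₀]
  obtain ⟨X, P, hdet, hXr, hns, hPi, hPm, hPd, hcp⟩ := Lin.exists_block_element (p := p) hq hr hrp h2 hin
  obtain ⟨W, θ, M, hθ, hMr, hM⟩ := Subfld.conj_data (p := p) (by omega) hcop hF₀ hall X (α := (1 : F))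
    (by rw [one_smul, hdet]) hXr hns
  have hrq : ¬ r ∣ q - 1 := fun h' => by
    have := (orderOf_mod (p := p) hq hr hrp).2.2.2 h'
    omega
  have hθ1 : θ = 1 := by
    have hθ0 : θ ≠ 0 := fun h => by rw [h, zero_pow hr.ne_zero] at hθ; exact zero_ne_one hθ
    have hg : θ ^ Nat.gcd r (q - 1) = 1 :=
      pow_gcd_eq_one.2 ⟨hθ, hq ▸ FiniteField.pow_card_sub_one_eq_one _ hθ0⟩
    rwa [(hr.coprime_iff_not_dvd.2 hrq).gcd_eq_one, pow_one] at hg
  have hMcp : M.charpoly.map F₀.subtype = X.charpoly := by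
    rw [← Matrix.charpoly_map, hM, hθ1, one_smul, Matrix.coe_units_inv, Matrix.charpoly_units_conj']
  set ι : F₀[X] →+* F[X] := Polynomial.mapRingHom F₀.subtype
  have hdvd : P ∣ ι (UniqueFactorizationMonoid.normalizedFactors M.charpoly).prod := by
    rw [UniqueFactorizationMonoid.prod_normalizedFactors_eq (Matrix.charpoly_monic M).ne_zero,
      (Matrix.charpoly_monic M).normalize_eq_self]
    show P ∣ M.charpoly.map F₀.subtype
    rw [hMcp, hcp]
    exact dvd_mul_left _ _
  rw [map_multiset_prod] at hdvd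
  obtain ⟨Q', hQ', hPQ⟩ := hPi.prime.exists_mem_multiset_dvd hdvd
  obtain ⟨Q, hQ, rfl⟩ := Multiset.mem_map.1 hQ'
  have hQi := UniqueFactorizationMonoid.irreducible_of_normalized_factor Q hQ
  have hQm : Q.Monic := (UniqueFactorizationMonoid.normalize_normalized_factor Q hQ) ▸ monic_normalize hQi.ne_zero
  have hQd := UniqueFactorizationMonoid.dvd_of_mem_normalizedFactors hQ
  have hQr : Q ∣ Polynomial.X ^ r - 1 := by
    have := factor_dvd_pow (Matrix.toLin' M) (r := r) (c := (1 : F₀))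
      (by rw [← Matrix.toLin'_pow, hMr, Matrix.toLin'_one, one_smul]; rfl) hQi (by rw [Matrix.charpoly_toLin']; exact hQd)
    rwa [map_one] at this
  have hdeg : (Q.map F₀.subtype).natDegree = Q.natDegree := natDegree_map _
  have hge : P.natDegree ≤ Q.natDegree := hdeg ▸ natDegree_le_of_dvd hPQ (hQm.map F₀.subtype).ne_zero
  rcases natDegree_factor (p := p) hF₀' hr hrp hQi hQm hQr with h | h
  · rw [hPd, h, show (Polynomial.X - 1 : F₀[X]).natDegree = 1 by simpa using natDegree_X_sub_C (1 : F₀)] at hge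
    omega
  · have hX1 : Irreducible (Polynomial.X - 1 : F[X]) := by simpa using irreducible_X_sub_C (1 : F)
    have hnd : ¬ (Polynomial.X - 1) ∣ Q.map F₀.subtype := by
      intro hdiv
      rw [← map_one Polynomial.C, dvd_iff_isRoot, IsRoot, ← map_one F₀.subtype, eval_map, eval₂_at_apply] at hdiv
      have hroot : Q.IsRoot 1 := F₀.subtype.injective (hdiv.trans (map_zero _).symm)
      have := natDegree_eq_of_degree_eq (degree_eq_degree_of_associated
        ((irreducible_X_sub_C (1 : F₀)).associated_of_dvd hQi (dvd_iff_isRoot.2 hroot)))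
      rw [natDegree_X_sub_C, h] at this
      omega
    have hQX : Q.map F₀.subtype ∣ (Polynomial.X - 1) ^ (n - orderOf (q : ZMod r)) * P := by
      rw [← hcp, ← hMcp]
      exact Polynomial.map_dvd _ hQd
    have hQP := ((hX1.coprime_iff_not_dvd.2 hnd).symm.pow_right).dvd_of_dvd_mul_left hQX
    have := natDegree_le_of_dvd hQP hPm.ne_zero
    rw [hdeg, h, hPd] at this
    omega

/-- A prime dividing the index divides a geometric sum. -/
theorem index_data (hn : 1 ≤ n) (hq : Fintype.card F = q) (hF₀ : Nat.card F₀ = q₀) (hqk : q = q₀ ^ k) (hr : r.Prime)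
    (hrq : ¬ r ∣ q) (hΩ : r ∣ (H₀).index) :
    ∃ t, 1 ≤ t ∧ t ≤ n ∧ ((q₀ : ZMod r) ^ t) ^ k = 1 ∧ ((q₀ : ZMod r) ^ t = 1 → (k : ZMod r) = 0) := by
  haveI := Fact.mk hr
  have h := subfield_index_dvd F₀ hn hF₀ (hq.trans hqk) (q₀ := q₀) (k := k)
  have h2 := (hr.dvd_mul.1 ((hΩ.mul_left _).trans h)).resolve_left
    fun hd => hrq (hqk ▸ hr.dvd_of_dvd_pow hd)
  obtain ⟨t, ht, hd⟩ := (Prime.dvd_finsetProd_iff hr.prime _).1 h2
  have hd' := (ZMod.natCast_eq_zero_iff _ _).2 hd
  rw [Nat.cast_sum] at hd'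
  simp only [Nat.cast_pow] at hd'
  refine ⟨t + 1, by omega, by have := Finset.mem_range.1 ht; omega, ?_, fun h => ?_⟩
  · have := geom_sum_mul ((q₀ : ZMod r) ^ (t + 1)) k
    rw [hd', zero_mul, eq_comm, sub_eq_zero] at this
    exact this
  · simpa [h] using hd'

/-- The index for `n = k = 2`. -/
theorem index_two (hq : Fintype.card F = q) (hF₀ : Nat.card F₀ = q₀) (hqk : q = q₀ ^ k) (hr : r.Prime) (hr2 : r ≠ 2)
    (hrq : ¬ r ∣ q) (hrs : (q₀ : ZMod r) ^ 2 = 1) (hn2 : n = 2) (hk2 : k = 2) (hΩ : r ∣ (H₀).index) : False := by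
  haveI := Fact.mk hr
  subst hn2 hk2
  have h := subfield_index_dvd (n := 2) F₀ (by omega) hF₀ (hq.trans hqk)
  rw [Finset.prod_range_succ, Finset.prod_range_one, ← mul_assoc, mul_comm ((q₀ ^ 2) ^ _), mul_assoc, zero_add,
    pow_one] at h
  have h1 := hΩ.trans (Nat.dvd_of_mul_dvd_mul_left (by simp) h)
  have h2 := (hr.dvd_mul.1 h1).resolve_left fun hd => hrq (hqk ▸ hr.dvd_of_dvd_pow hd)
  have hd' := (ZMod.natCast_eq_zero_iff _ _).2 h2
  simp [Finset.sum_range_succ, hrs] at hd'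
  have : ((2 : ℕ) : ZMod r) = 0 := by push_cast; linear_combination hd'
  exact hr2 ((Nat.prime_dvd_prime_iff_eq hr Nat.prime_two).1 ((ZMod.natCast_eq_zero_iff _ _).1 this))

include hp in
/-- The counterexamples when `r` divides `q - 1`. -/
theorem case_split (hn : 2 ≤ n) (hq : Fintype.card F = q) (hqk : q = q₀ ^ k) (hF₀ : Nat.card F₀ = q₀) (hk : k.Prime)
    (hr : r.Prime) (hr2 : r ≠ 2) (hrq : r ∣ q - 1) (hord : orderOf (q₀ : ZMod r) = k) (hkr : k ∣ r - 1)
    (hnk : ¬ (n = 2 ∧ k = 2)) (hgap : ¬ (n = 6 ∧ r = 3))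
    (hexc : ¬ (k = 2 ∧ r = n ∧ (n = 3 ∨ n = 5) ∧ padicValNat r (q₀ + 1) = 1))
    (hall : All F₀ n r) : False := by
  classical
  haveI := Fact.mk hr
  have hq02 : 2 ≤ q₀ := hF₀ ▸ Finite.one_lt_card
  have hr3 : 3 ≤ r := by have := hr.two_le; omega
  have h1 : (q₀ : ZMod r) ≠ 1 := fun h => hk.ne_one (by rw [← hord, h, orderOf_one])
  have h0 : (q₀ : ZMod r) ≠ 0 := fun h => by
    have := pow_orderOf_eq_one (q₀ : ZMod r)
    rw [hord, h, zero_pow hk.ne_zero] at this
    exact zero_ne_one this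
  have hm1 : (q₀ : ZMod r) = -1 → k = 2 := fun h => by
    have : orderOf (q₀ : ZMod r) ∣ 2 := orderOf_dvd_of_pow_eq_one (by rw [h, neg_one_sq])
    rw [hord] at this
    exact (Nat.prime_dvd_prime_iff_eq hk Nat.prime_two).1 this
  have hcop : (q₀ - 1).Coprime r := (hr.coprime_iff_not_dvd.2 fun h => h1 (by
    have := (ZMod.natCast_eq_zero_iff _ _).2 h
    rwa [Nat.cast_sub (by omega), Nat.cast_one, sub_eq_zero] at this)).symm
  have hw : 1 ≤ padicValNat r (q - 1) := one_le_padicValNat_of_dvd (by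
    have : 1 < q := hq ▸ Fintype.one_lt_card
    omega) hrq
  obtain ⟨ζ, hζ0, hζr, hζ⟩ := Lin.exists_root_of_unity hq hr hrq
  by_cases hv : padicValNat r n < padicValNat r (q - 1)
  · -- a homology
    obtain ⟨α, η, hα, hη1, hηr, hαη⟩ := Lin.exists_homology hq hr (by omega : 0 < n) hv
    have hηm : ∀ m, η ^ m = 1 → r ∣ m := fun m h => by
      rw [← orderOf_eq_prime hηr hη1]
      exact orderOf_dvd_of_pow_eq_one h
    obtain ⟨d, hd, hprod, hcnt⟩ := exists_blocks (a := 1) (b := 0) (by omega : 1 + 0 ≤ n) η 1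
    obtain ⟨u, hu⟩ := diag_data (p := p) (by omega) hr hcop hF₀ hall d (α := α)
      (fun j => by rcases hd j with ⟨h, -⟩ | ⟨h, -⟩ | h <;> simp [h, hηr])
      (by rw [hprod]; simpa using hαη)
      (by
        by_contra hc
        push Not at hc
        have e1 := hcnt 1
        have e2 := hcnt η
        simp only [hη1, if_true, if_false, Ne.symm hη1] at e1 e2
        by_cases h : d ⟨0, by omega⟩ = η
        · rw [Finset.filter_false_of_mem (fun j _ hh => hη1 (by rw [← h, hc _ j, hh]))] at e1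
          simp at e1; omega
        · rw [Finset.filter_false_of_mem (fun j _ hh => h (by rw [hc _ j, hh]))] at e2
          simp at e2)
    simp only [hcnt, Ne.symm hη1, if_false, add_zero, ite_self] at hu
    have hu1 := hu 1
    rw [one_pow, mul_one] at hu1
    have huη := hu η
    simp only [hη1, Ne.symm hη1, if_true, if_false, add_zero, zero_add] at hu1 huη
    have hη0 : η ≠ 0 := fun h => by rw [h, zero_pow hr.ne_zero] at hηr; exact zero_ne_one hηr
    have hηq : η ^ q₀ ≠ 1 := fun h => h0 ((ZMod.natCast_eq_zero_iff _ _).2 (hηm _ h))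
    have hηq' : η ^ q₀ ≠ η := fun h => h1 (by
      have hd1 := hηm (q₀ - 1) (mul_left_cancel₀ hη0
        (by rw [mul_one, ← pow_succ', Nat.sub_add_cancel (by omega)]; exact h))
      have := (ZMod.natCast_eq_zero_iff _ _).2 hd1
      rwa [Nat.cast_sub (by omega), Nat.cast_one, sub_eq_zero] at this)
    by_cases hu' : u = 1
    · rw [hu', one_mul, if_neg (Ne.symm hηq'), if_neg (Ne.symm hηq)] at huη
      omega
    · by_cases hu'' : η = u
      · rw [if_pos hu'', if_neg (Ne.symm hu')] at hu1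
        have hn2 : n = 2 := by omega
        rw [← hu''] at huη
        rw [← pow_succ'] at huη
        by_cases h3 : η ^ (q₀ + 1) = 1
        · refine hnk ⟨hn2, hm1 (eq_neg_of_add_eq_zero_left ?_)⟩
          have := (ZMod.natCast_eq_zero_iff _ _).2 (hηm _ h3)
          exact_mod_cast this
        · rw [if_neg (Ne.symm h3)] at huη
          by_cases h4 : η = η ^ (q₀ + 1)
          · refine hηq ?_
            rw [pow_succ'] at h4
            exact mul_left_cancel₀ hη0
              (by rw [mul_one]; exact h4.symm)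
          · rw [if_neg h4] at huη; omega
      · rw [if_neg hu'', if_neg (Ne.symm hu')] at hu1; omega
  push Not at hv
  obtain ⟨n', hn'⟩ : r ∣ n := dvd_of_one_le_padicValNat (hw.trans hv)
  have hrn : r ≤ n := Nat.le_of_dvd (by omega) ⟨n', hn'⟩
  have hζ1 : ζ ≠ 1 := fun h => hr.not_dvd_one (hζ 1 (by rw [pow_one, h]))
  by_cases hk2 : k = 2
  · have hqm : (q₀ : ZMod r) = -1 := by
      have := pow_orderOf_eq_one (q₀ : ZMod r)
      rw [hord, hk2] at this
      rcases sq_eq_one_iff.1 this with h | h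
      · exact absurd h h1
      · exact h
    have hinv : ∀ t : F, t ^ r = 1 → t ^ q₀ = t⁻¹ := fun t ht => by
      refine eq_inv_of_mul_eq_one_left ?_
      obtain ⟨c, hc⟩ : r ∣ q₀ + 1 := (ZMod.natCast_eq_zero_iff _ _).1 (by push_cast; rw [hqm, neg_add_cancel])
      rw [← pow_succ, hc, pow_mul, ht, one_pow]
    have hval : r = n → padicValNat r (q₀ + 1) = 1 := fun hrn' => by
      have hv' := hv
      rw [← hrn', padicValNat.self hr.one_lt] at hv'
      have e : q - 1 = (q₀ + 1) * (q₀ - 1) := by rw [hqk, hk2, ← Nat.sq_sub_sq, one_pow]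
      rw [e, padicValNat.mul (by omega) (by omega),
        padicValNat.eq_zero_of_not_dvd ((hr.coprime_iff_not_dvd).1 hcop.symm), add_zero] at hv' hw
      omega
    by_cases hr3' : r = 3
    · subst hr3'
      have hn9 : 9 ≤ n := by
        rcases Nat.lt_or_ge n' 3 with h | h
        · interval_cases n'
          · omega
          · exact absurd ⟨hk2, by omega, Or.inl (by omega), hval (by omega)⟩ hexc
          · exact absurd ⟨by omega, rfl⟩ hgap
        · omega
      obtain ⟨d, hd, hprod, hcnt⟩ := exists_blocks (a := 3) (b := 0) (by omega : 3 + 0 ≤ n) ζ 1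
      obtain ⟨u, hu⟩ := diag_data (p := p) (by omega) hr hcop hF₀ hall d (α := (1 : F))
        (fun j => by rcases hd j with ⟨h, -⟩ | ⟨h, -⟩ | h <;> simp [h, hζr])
        (by rw [hprod]; simp [hζr])
        (by
          by_contra hc
          push Not at hc
          have e1 := hcnt 1
          have e2 := hcnt ζ
          simp only [hζ1, if_true, if_false, Ne.symm hζ1] at e1 e2
          by_cases h : d ⟨0, by omega⟩ = ζ
          · rw [Finset.filter_false_of_mem (fun j _ hh => hζ1 (by rw [← h, hc _ j, hh]))] at e1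
            simp at e1; omega
          · rw [Finset.filter_false_of_mem (fun j _ hh => h (by rw [hc _ j, hh]))] at e2
            simp at e2)
      simp only [hcnt, if_true, add_zero, ite_self] at hu
      have hu1 := hu 1
      rw [one_pow, mul_one, if_neg hζ1, if_pos rfl] at hu1
      have hu' : u = 1 := by
        by_contra hu'
        rw [if_neg (Ne.symm hu')] at hu1
        split_ifs at hu1 <;> omega
      have h2 := hu ζ
      rw [hu', one_mul, hinv ζ hζr, if_neg (Ne.symm hζ1)] at h2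
      have e2 : ζ ≠ ζ⁻¹ := fun h => by
        have := hζ 2 (by rw [sq]; nth_rw 2 [h]; exact mul_inv_cancel₀ hζ0)
        exact absurd (Nat.le_of_dvd two_pos this) (by omega)
      rw [if_pos rfl, if_neg e2, if_neg (fun h => hζ1 (inv_eq_one.1 h.symm))] at h2
      simp at h2
    · have hr5 : 5 ≤ r := by
        rcases hr.eq_two_or_odd' with h | ⟨c, hc⟩ <;> omega
      have hn6 : 6 ≤ n := by
        rcases Nat.lt_or_ge n 6 with h | h
        · exact absurd ⟨hk2, by omega, Or.inr (by omega), hval (by omega)⟩ hexc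
        · exact h
      obtain ⟨d, hd, hprod, hcnt⟩ := exists_blocks (a := 1) (b := 2) (by omega : 1 + 2 ≤ n) (ζ ^ 2) ζ⁻¹
      have e1 : ζ ^ 2 ≠ 1 := fun h => absurd (Nat.le_of_dvd two_pos (hζ 2 h)) (by omega)
      have e2 : ζ⁻¹ ≠ 1 := fun h => hζ1 (inv_eq_one.1 h)
      have e3 : ζ ^ 2 ≠ ζ⁻¹ := fun h => absurd (Nat.le_of_dvd three_pos
        (hζ 3 (by rw [pow_succ, h, inv_mul_cancel₀ hζ0]))) (by omega)
      obtain ⟨u, hu⟩ := diag_data (p := p) (by omega) hr hcop hF₀ hall d (α := (1 : F))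
        (fun j => by
          rcases hd j with ⟨h, -⟩ | ⟨h, -⟩ | h <;> rw [h]
          · rw [← pow_mul, mul_comm, pow_mul, hζr, one_pow]
          · rw [inv_pow, hζr, inv_one]
          · exact one_pow r)
        (by rw [hprod, one_pow, one_mul, pow_one, inv_pow, mul_inv_cancel₀ (pow_ne_zero 2 hζ0)])
        (by
          by_contra hc
          push Not at hc
          have e4 := hcnt 1
          have e5 := hcnt (ζ ^ 2)
          simp only [e1, if_true, if_false, Ne.symm e3, Ne.symm e1, e2] at e4 e5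
          by_cases h : d ⟨0, by omega⟩ = ζ ^ 2
          · rw [Finset.filter_false_of_mem (fun j _ hh => e1 (by rw [← h, hc _ j, hh]))] at e4
            simp at e4; omega
          · rw [Finset.filter_false_of_mem (fun j _ hh => h (by rw [hc _ j, hh]))] at e5
            simp at e5)
      simp only [hcnt] at hu
      have hu1 := hu 1
      rw [one_pow, mul_one, if_neg e1, if_neg e2, if_pos rfl] at hu1
      have hu' : u = 1 := by
        by_contra hu'
        rw [if_neg (Ne.symm hu')] at hu1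
        split_ifs at hu1 with h5 h6
        · exact e3 (h5.trans h6.symm)
        all_goals omega
      have h2 := hu (ζ ^ 2)
      rw [hu', one_mul, hinv _ (by rw [← pow_mul, mul_comm, pow_mul, hζr, one_pow]), if_pos rfl,
        if_neg (Ne.symm e3), if_neg (Ne.symm e1)] at h2
      have e4 : ζ ^ 2 ≠ (ζ ^ 2)⁻¹ := fun h => absurd (Nat.le_of_dvd (by omega : 0 < 4) (hζ 4 (by
        rw [show 4 = 2 + 2 from rfl, pow_add]; nth_rw 2 [h]; exact mul_inv_cancel₀ (pow_ne_zero 2 hζ0)))) (by omega)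
      rw [if_neg e4, if_neg (fun h => e1 (by
        have h7 : ζ = ζ ^ 2 := inv_inj.1 h
        rw [sq] at h7 ⊢
        rw [← h7]
        exact (mul_left_cancel₀ hζ0 (by rw [mul_one]; exact h7.symm)))), if_neg (fun h => e1 (inv_eq_one.1 h.symm))] at h2
      omega
  · -- `k` odd
    have hr7 : 5 ≤ r := by
      have := Nat.le_of_dvd (by omega) hkr
      have := hk.two_le
      rcases hr.eq_two_or_odd' with h | ⟨c, hc⟩ <;> rcases hk.eq_two_or_odd' with h' | ⟨c', hc'⟩ <;> omega
    obtain ⟨d, hd, hprod, hcnt⟩ := exists_blocks (a := 1) (b := 1) (by omega : 1 + 1 ≤ n) ζ ζ⁻¹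
    have e2 : ζ⁻¹ ≠ 1 := fun h => hζ1 (inv_eq_one.1 h)
    have e3 : ζ ≠ ζ⁻¹ := fun h => absurd (Nat.le_of_dvd two_pos
        (hζ 2 (by rw [sq]; nth_rw 2 [h]; exact mul_inv_cancel₀ hζ0))) (by omega)
    obtain ⟨u, hu⟩ := diag_data (p := p) (by omega) hr hcop hF₀ hall d (α := (1 : F))
      (fun j => by rcases hd j with ⟨h, -⟩ | ⟨h, -⟩ | h <;> simp [h, hζr])
      (by rw [hprod]; simp [hζ0])
      (by
        by_contra hc
        push Not at hc
        have e4 := hcnt 1
        have e5 := hcnt ζ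
        simp only [hζ1, if_true, if_false, Ne.symm e3, Ne.symm hζ1, e2] at e4 e5
        by_cases h : d ⟨0, by omega⟩ = ζ
        · rw [Finset.filter_false_of_mem (fun j _ hh => hζ1 (by rw [← h, hc _ j, hh]))] at e4
          simp at e4; omega
        · rw [Finset.filter_false_of_mem (fun j _ hh => h (by rw [hc _ j, hh]))] at e5
          simp at e5)
    simp only [hcnt] at hu
    have hu1 := hu 1
    rw [one_pow, mul_one, if_neg hζ1, if_neg e2, if_pos rfl] at hu1
    have hu' : u = 1 := by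
      by_contra hu'
      rw [if_neg (Ne.symm hu')] at hu1
      split_ifs at hu1 <;> omega
    have h2 := hu ζ
    rw [hu', one_mul, if_pos rfl, if_neg (Ne.symm e3), if_neg (Ne.symm hζ1)] at h2
    have e4 : ζ ≠ ζ ^ q₀ := fun h => h1 (by
      have hd1 := hζ (q₀ - 1) (mul_left_cancel₀ hζ0
        (by rw [mul_one, ← pow_succ', Nat.sub_add_cancel (by omega)]; exact h.symm))
      have := (ZMod.natCast_eq_zero_iff _ _).2 hd1
      rwa [Nat.cast_sub (by omega), Nat.cast_one, sub_eq_zero] at this)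
    have e5 : ζ⁻¹ ≠ ζ ^ q₀ := fun h => hk2 (hm1 (eq_neg_of_add_eq_zero_left (by
      have hd1 := hζ (q₀ + 1) (by rw [pow_succ, ← h, inv_mul_cancel₀ hζ0])
      exact_mod_cast (ZMod.natCast_eq_zero_iff _ _).2 hd1)))
    have e6 : (1 : F) ≠ ζ ^ q₀ := fun h => h0 ((ZMod.natCast_eq_zero_iff _ _).2 (hζ _ h.symm))
    rw [if_neg e4, if_neg e5, if_neg e6] at h2
    omega

include hp in
/-- In dimension `r ∈ {3, 5}` the spectrum can be centred. -/
theorem conj_special (hq : Fintype.card F = q) (hqk : q = q₀ ^ 2) (hF₀ : Nat.card F₀ = q₀) (hr : r.Prime) (hr2 : r ≠ 2)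
    (hrp : r ≠ p) (h35 : r = 3 ∨ r = 5) (hv : padicValNat r (q₀ + 1) = 1) (hrn : r = n)
    (x : Matrix.SpecialLinearGroup (Fin n) F) {z : F} (hz : (x : Matrix (Fin n) (Fin n) F) ^ r = z • 1) :
    ∃ P : Matrix.SpecialLinearGroup (Fin n) F, P⁻¹ * x * P ∈ H₀ := by
  classical
  subst hrn
  haveI := Fact.mk hr
  have hq02 : 2 ≤ q₀ := hF₀ ▸ Finite.one_lt_card
  have hr3 : 3 ≤ r := by have := hr.two_le; omega
  have hdq : r ∣ q₀ + 1 := dvd_of_one_le_padicValNat hv.ge
  have hnd : ¬ r ∣ q₀ - 1 := fun h => by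
    have h2 := Nat.dvd_sub hdq h
    rw [show q₀ + 1 - (q₀ - 1) = 2 by omega] at h2
    exact absurd (Nat.le_of_dvd two_pos h2) (by omega)
  have e : q - 1 = (q₀ + 1) * (q₀ - 1) := by rw [hqk, ← Nat.sq_sub_sq, one_pow]
  have hrq : r ∣ q - 1 := e ▸ hdq.mul_right _
  have hw : padicValNat r (q - 1) = 1 := by
    rw [e, padicValNat.mul (by omega) (by omega), hv, padicValNat.eq_zero_of_not_dvd hnd]
  obtain ⟨b, hb⟩ := Lin.exists_power_of_dim_eq (p := p) hr hr2 _ x.2 hz
  have hz0 : z ≠ 0 := by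
    intro h
    haveI : Nonempty (Fin r) := ⟨⟨0, hr.pos⟩⟩
    have := congrArg Matrix.det hz
    rw [Matrix.det_pow, x.2, one_pow, h, zero_smul, Matrix.det_zero] at this
    exact one_ne_zero this
  have hb0 : b ≠ 0 := fun h => hz0 (by rw [← hb, h, zero_pow hr.ne_zero])
  set Y := b⁻¹ • (x : Matrix (Fin r) (Fin r) F) with hY
  have hYr : Y ^ r = 1 := by rw [hY, _root_.smul_pow, hz, smul_smul, inv_pow, hb, inv_mul_cancel₀ hz0, one_smul]
  obtain ⟨B, d, hd, hB⟩ := Lin.exists_diagonal (p := p) hq hr hrp hrq Y hYr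
  have hprod : ∏ j, d j = b⁻¹ ^ r := by
    have := congrArg Matrix.det hB
    rw [Matrix.det_mul, Matrix.det_mul, Matrix.det_diagonal, mul_comm (B : Matrix (Fin r) (Fin r) F).det,
      hY, Matrix.det_smul, x.2, mul_one, Fintype.card_fin] at this
    exact (mul_right_cancel₀ B.det_ne_zero this).symm
  have hprod1 : ∏ j, d j = 1 := by
    have hp2 : (b⁻¹) ^ (r * r) = 1 := by
      rw [pow_mul, ← hprod, ← Finset.prod_pow, Finset.prod_eq_one fun j _ => hd j]
    have hg := pow_gcd_eq_one.2 ⟨hp2, hq ▸ FiniteField.pow_card_sub_one_eq_one _ (inv_ne_zero hb0)⟩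
    rw [hprod]
    obtain ⟨c, hc⟩ : Nat.gcd (r * r) (q - 1) ∣ r := by
      obtain ⟨j, hj, hg'⟩ := (Nat.dvd_prime_pow hr).1
        (show Nat.gcd (r * r) (q - 1) ∣ r ^ 2 by rw [sq]; exact Nat.gcd_dvd_left _ _)
      have h3 := (padicValNat_dvd_iff_le (show q - 1 ≠ 0 by
        have : 1 < q := hq ▸ Fintype.one_lt_card
        omega)).1 (hg' ▸ Nat.gcd_dvd_right (r * r) (q - 1))
      rw [hw] at h3
      rw [hg']
      exact (pow_dvd_pow r h3).trans (pow_one r).dvd
    rw [hc, pow_mul, hg, one_pow]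
  obtain ⟨ζ, hζ0, hζr, hζ⟩ := Lin.exists_root_of_unity hq hr hrq
  have hprim : IsPrimitiveRoot ζ r := ⟨hζr, hζ⟩
  have he : ∀ j, ∃ i, i < r ∧ ζ ^ i = d j := fun j => hprim.eq_pow_of_pow_eq_one (hd j)
  choose e0 he0 he1 using he
  let χ : ZMod r → F := fun v => ζ ^ v.val
  have hχ : ∀ (m : ℕ) (v : ZMod r), (m : ZMod r) = v → ζ ^ m = χ v := fun m v h => by
    show ζ ^ m = ζ ^ v.val
    rw [← h, ZMod.val_natCast, ← pow_eq_pow_mod _ hζr]
  have hχadd : ∀ v w, χ (v + w) = χ v * χ w := fun v w => by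
    show _ = ζ ^ v.val * ζ ^ w.val
    rw [← pow_add]
    exact (hχ _ _ (by simp)).symm
  let ee : Fin r → ZMod r := fun j => (e0 j : ZMod r)
  have hde : ∀ j, d j = χ (ee j) := fun j => by rw [← he1 j]; exact hχ _ _ rfl
  have hsum : ∑ j, ee j = 0 := by
    simp only [ee, ← Nat.cast_sum, ZMod.natCast_eq_zero_iff]
    refine hζ _ ?_
    rw [← Finset.prod_pow_eq_pow_sum, ← hprod1]
    exact Finset.prod_congr rfl fun j _ => he1 j
  obtain ⟨s, σ, hσ, hsym⟩ := Lin.exists_symmetry h35 ee hsum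
  have h2 : (2 : ZMod r) ≠ 0 := fun h => by
    have := Nat.le_of_dvd two_pos ((ZMod.natCast_eq_zero_iff 2 r).1 (by exact_mod_cast h))
    omega
  set θ := χ (-(s / 2))
  have hθd : ∀ j, θ * d j = χ (ee j - s / 2) := fun j => by rw [hde, ← hχadd]; congr 1; ring
  obtain ⟨φ, hφ, hfix⟩ := Subfld.exists_frob (p := p) hF₀
  have hφd : ∀ j, φ (θ * d j) = θ * d (σ j) := fun j => by
    rw [hθd, hθd, hφ]
    show (ζ ^ (ee j - s / 2).val) ^ q₀ = _
    rw [← pow_mul]
    refine hχ _ _ ?_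
    rw [Nat.cast_mul, ZMod.natCast_zmod_val, eq_neg_of_add_eq_zero_left
      (show (q₀ : ZMod r) + 1 = 0 by exact_mod_cast (ZMod.natCast_eq_zero_iff _ _).2 hdq)]
    have hh : s / 2 * 2 = s := div_mul_cancel₀ s h2
    linear_combination (-1 : ZMod r) * hsym j + hh
  set f := (Matrix.diagonal fun j => θ * d j).charpoly with hfdef
  have hf : f.map φ = f := by
    rw [hfdef, Matrix.charpoly_diagonal, Polynomial.map_prod]
    refine Fintype.prod_equiv (Function.Involutive.toPerm σ hσ) _ _ fun j => ?_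
    rw [Polynomial.map_sub, map_X, map_C, hφd]
    rfl
  obtain ⟨f₀, hf₀⟩ : f ∈ Polynomial.lifts F₀.subtype := by
    rw [Polynomial.lifts_iff_coeff_lifts]
    intro i
    exact ⟨⟨f.coeff i, (hfix _).1 (by rw [← Polynomial.coeff_map, hf])⟩, rfl⟩
  have hθ0 : θ ≠ 0 := pow_ne_zero _ hζ0
  refine Subfld.conj_mem (p := p) hr.pos hr hrp x hz (mul_ne_zero hθ0 (inv_ne_zero hb0)) (f₀ := f₀) ?_
  have hYd : Y = (B : Matrix (Fin r) (Fin r) F) * Matrix.diagonal d * ((B⁻¹ : GL (Fin r) F) : Matrix (Fin r) (Fin r) F) := by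
    rw [← hB, Matrix.mul_assoc, Units.mul_inv, Matrix.mul_one]
  rw [mul_smul, ← hY, hYd, ← Matrix.smul_mul, ← Matrix.mul_smul, ← Matrix.diagonal_smul, Matrix.coe_units_inv,
    Matrix.charpoly_units_conj]
  exact hf₀.symm

include hp in
/-- For `r = k` everything is conjugate into the subgroup. -/
theorem conj_degree (hn : 1 ≤ n) (hq : Fintype.card F = q) (hqk : q = q₀ ^ r) (hF₀ : Nat.card F₀ = q₀)
    (hr : r.Prime) (hr2 : r ≠ 2) (hrp : r ≠ p) (hgap : r ∣ q₀ - 1 → padicValNat r n ≤ padicValNat r (q - 1))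
    (x : Matrix.SpecialLinearGroup (Fin n) F) {z : F} (hz : (x : Matrix (Fin n) (Fin n) F) ^ r = z • 1) :
    ∃ P : Matrix.SpecialLinearGroup (Fin n) F, P⁻¹ * x * P ∈ H₀ := by
  classical
  haveI := Fact.mk hr
  have hq02 : 2 ≤ q₀ := hF₀ ▸ Finite.one_lt_card
  have hcast : (q : ZMod r) = (q₀ : ZMod r) := by rw [hqk, Nat.cast_pow, ZMod.pow_card]
  have hz0 : z ≠ 0 := by
    intro h
    haveI : Nonempty (Fin n) := ⟨⟨0, hn⟩⟩
    have := congrArg Matrix.det hz
    rw [Matrix.det_pow, x.2, one_pow, h, zero_smul, Matrix.det_zero] at this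
    exact one_ne_zero this
  obtain ⟨b, hb⟩ : ∃ b : F, b ^ r = z := by
    by_cases hrq : r ∣ q - 1
    · refine is_power_of_noTwist (p := p) hq hr hrp hrq (Module.finrank_fin_fun F) hn
        (Matrix.toLin' (x : Matrix (Fin n) (Fin n) F)) (by rw [LinearMap.det_toLin', x.2]) ?_ ⟨hgap ?_, fun h => absurd h hr2⟩
      · rw [← Matrix.toLin'_pow, hz, map_smul, Matrix.toLin'_one]; rfl
      · rw [← ZMod.natCast_eq_zero_iff, Nat.cast_sub (by omega), Nat.cast_one, ← hcast, sub_eq_zero]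
        have := (ZMod.natCast_eq_zero_iff _ _).2 hrq
        rwa [Nat.cast_sub (hq ▸ Fintype.card_pos), Nat.cast_one, sub_eq_zero] at this
    · have hcard : (Nat.card Fˣ).Coprime r := by
        rw [Nat.card_units, Nat.card_eq_fintype_card, hq]
        exact (hr.coprime_iff_not_dvd.2 hrq).symm
      obtain ⟨b, hb⟩ := (powCoprime hcard).surjective (Units.mk0 z hz0)
      exact ⟨(b : F), congrArg Units.val hb⟩
  have hb0 : b ≠ 0 := fun h => hz0 (by rw [← hb, h, zero_pow hr.ne_zero])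
  obtain ⟨f₀, hf⟩ := Subfld.charpoly_rational (p := p) hq hF₀ hr hrp (by rw [hcast])
    (b⁻¹ • (x : Matrix (Fin n) (Fin n) F))
    (by rw [_root_.smul_pow, hz, smul_smul, inv_pow, hb, inv_mul_cancel₀ hz0, one_smul])
  exact Subfld.conj_mem (p := p) hn hr hrp x hz (inv_ne_zero hb0) hf


/-- Elements of odd prime order r ≠ p of PSL_n(q) and subfield subgroups. Here `T = PSL_n(F)` for a field `F` with `q = p^f` elements (`n ≥ 2`, `(n, q) ≠ (2, 2), (2, 3)`), `F₀` is the subfield with `q₀` elements where `q = q₀^k` for a prime `k`, and `H` is the subgroup of matrices of determinant 1 lying in the subfield group of `F₀` (invertible matrices over `F₀` times scalars) — a maximal subgroup of type GL_n(q₀) (the case `n = 2`, `q₀ = 2` is excluded); Ω is the set of `T`-conjugates of `H` (cosets of `H`), so an element of `T` of prime order `r` (a matrix `x` of determinant 1 with `x^r` scalar, `x` not scalar) fixes a point of Ω when some conjugate of `x` by a matrix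 of determinant 1 lies in `H`. Let `r ≠ p` be an odd prime dividing the index of `H`, with `(n, r) ≠ (6, 3)` and, when `r = k` divides `q₀ − 1`, with `(n)_r ≤ (q − 1)_r`. Then every element of `T` of order `r` is conjugate in `T` into `H` if and only if `r = k`, or `k = 2`, `r = n ∈ {3, 5}` and `(q₀ + 1)_r = r`. The two excluded cases, `(n, r) = (6, 3)` and `r = k ∣ q₀ − 1` with `(n)_r > (q − 1)_r`, are ones where this criterion can fail, so they are left out. -/
theorem result {F : Type*} [Field F] [Fintype F] {p : ℕ} [Fact p.Prime] [CharP F p] {q : ℕ} (hq : Fintype.card F = q)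
    (n : ℕ) (hn : 2 ≤ n) (hT : (n, q) ≠ (2, 2) ∧ (n, q) ≠ (2, 3))
    (F₀ : Subfield F) (k q₀ : ℕ) (hk : k.Prime) (hF₀ : Nat.card ↥F₀ = q₀) (hqk : q = q₀ ^ k) (hC5 : ¬ (n = 2 ∧ q₀ = 2)) (r : ℕ) [Fact r.Prime] (hr2 : r ≠ 2) (hrp : r ≠ p) (hgap : ¬ (n = 6 ∧ r = 3)) (hgapk : r = k → r ∣ q₀ - 1 → padicValNat r n ≤ padicValNat r (q - 1)) (hΩ : r ∣ ((Cfsg.Geo.subfieldSubgroup F₀ 1).comap (Matrix.SpecialLinearGroup.toGL : Matrix.SpecialLinearGroup (Fin n) F →* GL (Fin n) F)).index) :
    (∀ x : Matrix.SpecialLinearGroup (Fin n) F,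
      (∃ z : F, ((x ^ r : Matrix.SpecialLinearGroup (Fin n) F) : Matrix (Fin n) (Fin n) F) = z • (1 : Matrix (Fin n) (Fin n) F)) →
      (∀ z : F, (x : Matrix (Fin n) (Fin n) F) ≠ z • (1 : Matrix (Fin n) (Fin n) F)) →
      ∃ P : Matrix.SpecialLinearGroup (Fin n) F, P⁻¹ * x * P ∈ ((Cfsg.Geo.subfieldSubgroup F₀ 1).comap (Matrix.SpecialLinearGroup.toGL : Matrix.SpecialLinearGroup (Fin n) F →* GL (Fin n) F))) ↔
    (r = k ∨ (k = 2 ∧ r = n ∧ (n = 3 ∨ n = 5) ∧ padicValNat r (q₀ + 1) = 1)) := by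
  have hr : r.Prime := Fact.out
  have hn1 : 1 ≤ n := by omega
  have hq02 : 2 ≤ q₀ := hF₀ ▸ Finite.one_lt_card
  obtain ⟨m, -, hm⟩ := FiniteField.card F p
  have hrq : ¬ r ∣ q := fun h => by
    rw [← hq, hm] at h
    exact hrp ((Nat.prime_dvd_prime_iff_eq hr Fact.out).1 (hr.dvd_of_dvd_pow h))
  constructor
  · intro hall
    by_contra hc
    push Not at hc
    obtain ⟨hrk, hexc⟩ := hc
    have hkr : (k : ZMod r) ≠ 0 := fun h => hrk ((Nat.prime_dvd_prime_iff_eq hr hk).1
      ((ZMod.natCast_eq_zero_iff _ _).1 h))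
    obtain ⟨t, ht1, htn, htk, htne⟩ := index_data hn1 hq hF₀ hqk hr hrq hΩ
    set i₀ := orderOf (q₀ : ZMod r) with hi₀
    have hcast : (q : ZMod r) = (q₀ : ZMod r) ^ k := by rw [hqk, Nat.cast_pow]
    have hki : k ∣ i₀ := by
      by_contra hki
      have h1 : i₀ ∣ t * k := orderOf_dvd_of_pow_eq_one (by rw [pow_mul]; exact htk)
      exact hkr (htne (orderOf_dvd_iff_pow_eq_one.1
        ((hk.coprime_iff_not_dvd.2 hki).symm.dvd_of_dvd_mul_right h1)))
    obtain ⟨hpos, hdvd, hone⟩ := orderOf_mod (p := p) hq hr hrp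
    have hi0pos : 0 < i₀ := by
      rw [hi₀]
      refine orderOf_pos_iff.2 (isOfFinOrder_iff_pow_eq_one.2 ⟨k * orderOf (q : ZMod r), Nat.mul_pos hk.pos hpos, ?_⟩)
      rw [pow_mul, ← hcast, pow_orderOf_eq_one]
    have hieq : orderOf (q : ZMod r) = i₀ / k := by
      rw [hcast, orderOf_pow' _ hk.ne_zero, ← hi₀, Nat.gcd_eq_right hki]
    have hlt : orderOf (q : ZMod r) < i₀ := hieq ▸ Nat.div_lt_self hi0pos hk.one_lt
    have h0 : (q₀ : ZMod r) ≠ 0 := fun h => hrq (by
      rw [← ZMod.natCast_eq_zero_iff, hcast, h, zero_pow hk.ne_zero])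
    have hi0r : i₀ ∣ r - 1 := orderOf_dvd_of_pow_eq_one (ZMod.pow_card_sub_one_eq_one h0)
    have hin : orderOf (q : ZMod r) ≤ n := by
      refine le_trans (Nat.le_of_dvd ht1 (orderOf_dvd_of_pow_eq_one ?_)) htn
      rw [hcast, ← pow_mul, mul_comm, pow_mul]
      exact htk
    have hcop : (q₀ - 1).Coprime r := (hr.coprime_iff_not_dvd.2 fun h => by
      have h' := (ZMod.natCast_eq_zero_iff _ _).2 h
      rw [Nat.cast_sub (by omega), Nat.cast_one, sub_eq_zero] at h'
      have : i₀ = 1 := by rw [hi₀, h', orderOf_one]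
      omega).symm
    rcases Nat.lt_or_ge (orderOf (q : ZMod r)) 2 with hi | hi
    · have hi1 : orderOf (q : ZMod r) = 1 := by omega
      have hord : i₀ = k := Nat.dvd_antisymm (orderOf_dvd_of_pow_eq_one
        (by rw [← hcast]; exact orderOf_eq_one_iff.1 hi1)) hki
      have hrq1 := hone.1 hi1
      refine case_split (p := p) hn hq hqk hF₀ hk hr hr2 hrq1 hord (hord ▸ hi0r) ?_ hgap
        (fun ⟨a, b, c, d⟩ => hexc a b c d) hall
      rintro ⟨hn2, hk2⟩
      refine index_two hq hF₀ hqk hr hr2 hrq ?_ hn2 hk2 hΩ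
      rw [← hk2, ← hord]
      exact pow_orderOf_eq_one _
    · exact case_block (p := p) hq hF₀ hr hrp hcop hall hi hin hlt
  · rintro (h | ⟨hk2, hrn, h35, hv⟩) x ⟨z, hz⟩ -
    · rw [Matrix.SpecialLinearGroup.coe_pow] at hz
      exact conj_degree (p := p) hn1 hq (by rw [hqk, h]) hF₀ hr hr2 hrp (hgapk h) x hz
    · rw [Matrix.SpecialLinearGroup.coe_pow] at hz
      exact conj_special (p := p) hq (by rw [hqk, hk2]) hF₀ hr hr2 hrp (hrn ▸ h35) hv hrn x hz

end Cfsg.Agent.S5965
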