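import Cfsg.Statements.S5966
import Cfsg.Agent.Lib.Classical.NilpotentClasses
import Cfsg.Agent.Lib.Classical.PrimeDimDescent
import Cfsg.Agent.Lib.Derange.SubfieldIndex

set_option autoImplicit false
set_option linter.style.haveILetI false
set_option linter.unusedSectionVars false
open scoped MatrixGroups
open Cfsg

namespace Cfsg.Agent.S5966

open Module Matrix

variable {F : Type*} [Field F] [Fintype F] [CharP F 3]

theorem cube_surjective (c : F) : ∃ a : F, a ^ 3 = c := by
  haveI : Fact (Nat.Prime 3) := ⟨by norm_num⟩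
  obtain ⟨a, ha⟩ := (Finite.injective_iff_surjective.1 (frobenius_inj F 3)) c
  exact ⟨a, ha⟩

theorem cube_injective {a b : F} (h : a ^ 3 = b ^ 3) : a = b := by
  haveI : Fact (Nat.Prime 3) := ⟨by norm_num⟩
  exact frobenius_inj F 3 h

theorem ringChar_three : ringChar F ≠ 2 := by
  rw [ringChar.eq F 3]
  norm_num

theorem odd_card_subfield (F₀ : Subfield F) : Nat.card F₀ % 2 = 1 := by
  haveI : CharP F₀ 3 := (RingHom.charP_iff F₀.subtype F₀.subtype_injective 3).2 inferInstance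
  haveI : Fintype F₀ := Fintype.ofFinite _
  have h : ringChar F₀ ≠ 2 := by rw [ringChar.eq F₀ 3]; norm_num
  rw [Nat.card_eq_fintype_card]
  exact FiniteField.odd_card_of_char_ne_two h

/-- In an extension of odd degree, every element becomes a square after a factor from the subfield. -/
theorem exists_sq_mul (F₀ : Subfield F) {k : ℕ} (hk : Odd k) (hq : Fintype.card F = Nat.card F₀ ^ k) (δ : F)
    (hδ : δ ≠ 0) : ∃ w ∈ F₀, w ≠ 0 ∧ ∃ c : F, c ^ 2 * w = δ := by
  classical
  haveI : Fintype F₀ := Fintype.ofFinite _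
  haveI : CharP F₀ 3 := (RingHom.charP_iff F₀.subtype F₀.subtype_injective 3).2 inferInstance
  by_cases hs : IsSquare δ
  · obtain ⟨c, rfl⟩ := hs
    exact ⟨1, F₀.one_mem, one_ne_zero, c, by rw [mul_one, sq]⟩
  have h0 : ringChar F₀ ≠ 2 := by rw [ringChar.eq F₀ 3]; norm_num
  obtain ⟨w, hw⟩ := FiniteField.exists_nonsquare h0
  have hw0 : w ≠ 0 := fun e => hw (e ▸ IsSquare.zero)
  have hwF : (w : F) ≠ 0 := fun e => hw0 (Subtype.ext e)
  have hodd := odd_card_subfield F₀
  have hsm : w ^ (Nat.card F₀ / 2) = -1 := by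
    rw [Nat.card_eq_fintype_card]
    exact (FiniteField.pow_dichotomy h0 hw0).resolve_left fun e => hw ((FiniteField.isSquare_iff h0 hw0).2 e)
  have hwns : ¬ IsSquare (w : F) := by
    intro e
    have e1 := (FiniteField.isSquare_iff ringChar_three hwF).1 e
    set Q := Nat.card F₀ with hQ
    set S := ∑ i ∈ Finset.range k, Q ^ i with hS
    have hSodd : Odd S := CfsgLib.Derange.odd_geom hk (Nat.odd_iff.2 hodd)
    have hexp : Fintype.card F / 2 = Q / 2 * S := by
      have h1 : S * (Q - 1) = Q ^ k - 1 := geom_sum_mul_of_one_le (by omega) k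
      have h3 : Q / 2 * S * 2 = Q ^ k - 1 := by
        rw [← h1, show Q - 1 = Q / 2 * 2 by omega]; ring
      have h4 : Q ^ k % 2 = 1 := Nat.odd_iff.1 ((Nat.odd_iff.2 hodd).pow)
      rw [hq]; omega
    have e2 : ((w ^ (Q / 2) : F₀) : F) = -1 := by rw [hsm]; simp
    rw [hexp, pow_mul, ← SubmonoidClass.coe_pow, e2, hSodd.neg_one_pow] at e1
    exact Ring.neg_one_ne_one_of_char_ne_two ringChar_three e1
  have h2 : IsSquare (δ * (w : F)⁻¹) := by
    have hχ : quadraticChar F (δ * (w : F)⁻¹) = 1 := by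
      rw [map_mul]
      have a1 := quadraticChar_neg_one_iff_not_isSquare.2 hs
      have a2 : quadraticChar F ((w : F)⁻¹) = -1 :=
        quadraticChar_neg_one_iff_not_isSquare.2 fun e => hwns (isSquare_inv.1 e)
      rw [a1, a2]; norm_num
    exact (quadraticChar_one_iff_isSquare (mul_ne_zero hδ (inv_ne_zero hwF))).1 hχ
  obtain ⟨c, hc⟩ := h2
  exact ⟨w, w.2, hwF, c, by rw [sq, ← hc, inv_mul_cancel_right₀ hwF]⟩

theorem exists_conjugate {n : ℕ} (hn : 0 < n) (F₀ : Subfield F) {k : ℕ}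
    (hq : Fintype.card F = Nat.card F₀ ^ k) (hcond : Odd n ∨ Odd k)
    (x : Matrix.SpecialLinearGroup (Fin n) F) {z : F}
    (hz : ((x ^ 3 : Matrix.SpecialLinearGroup (Fin n) F) : Matrix (Fin n) (Fin n) F) = z • 1) :
    ∃ P : Matrix.SpecialLinearGroup (Fin n) F, P⁻¹ * x * P ∈
      (Cfsg.Geo.subfieldSubgroup F₀ 1).comap
        (Matrix.SpecialLinearGroup.toGL : Matrix.SpecialLinearGroup (Fin n) F →* GL (Fin n) F) := by
  classical
  obtain ⟨a, ha⟩ := cube_surjective z
  set X : Matrix (Fin n) (Fin n) F := (x : Matrix (Fin n) (Fin n) F)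
  have hX3 : X ^ 3 = z • 1 := by rw [← hz]; rfl
  have hX1 : X.det = 1 := x.2
  have ha0 : a ≠ 0 := by
    intro e
    haveI : Nonempty (Fin n) := ⟨⟨0, hn⟩⟩
    have hd := congrArg Matrix.det hX3
    rw [Matrix.det_pow, hX1, one_pow, ← ha, e, zero_pow (by norm_num), zero_smul,
      Matrix.det_zero] at hd
    exact one_ne_zero hd
  let f : (Fin n → F) →ₗ[F] (Fin n → F) := Matrix.toLin' (a⁻¹ • X - 1)
  have hf3 : f ^ 3 = 0 := by
    show (Matrix.toLin' (a⁻¹ • X - 1)) ^ 3 = 0
    have h3 : (a⁻¹ • X - 1) ^ 3 = 0 := by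
      rcases isEmpty_or_nonempty (Fin n) with h | h
      · exact Subsingleton.elim _ _
      haveI : CharP (Matrix (Fin n) (Fin n) F) 3 :=
        charP_of_injective_algebraMap (algebraMap F (Matrix (Fin n) (Fin n) F)).injective 3
      haveI : Fact (Nat.Prime 3) := ⟨by norm_num⟩
      rw [sub_pow_char_of_commute _ (Commute.one_right _), one_pow, _root_.smul_pow, hX3, smul_smul, ← ha,
        ← mul_pow, inv_mul_cancel₀ ha0, one_pow, one_smul, sub_self]
    rw [← CfsgLib.Derange.toLin'_pow, h3, map_zero]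
  obtain ⟨ι, _, μ, hμ, ⟨C⟩⟩ := CfsgLib.NilClasses.exists_chains n f (finrank_fin_fun F) ⟨3, hf3⟩
  have hμ3 : ∀ i, μ i ≤ 3 := by
    intro i
    by_contra hlt
    have h := C.pow_apply i 3 ⟨0, hμ i⟩
    rw [hf3, LinearMap.zero_apply, dif_pos (by simp only; omega)] at h
    exact C.b.ne_zero _ h.symm
  have hsum : ∑ i, μ i = n := by
    have := Module.finrank_eq_card_basis C.b
    simp at this
    omega
  let e : (Σ i, Fin (μ i)) ≃ Fin n := Fintype.equivFinOfCardEq (by simp [hsum])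
  let b₁ : Basis (Fin n) F (Fin n → F) := C.b.reindex e
  set D := ((Pi.basisFun F (Fin n)).toMatrix b₁).det with hD
  have hD0 : D ≠ 0 := by
    intro h
    have h1 := congrArg Matrix.det ((Pi.basisFun F (Fin n)).toMatrix_mul_toMatrix_flip b₁)
    rw [Matrix.det_mul, ← hD, h, zero_mul, Matrix.det_one] at h1
    exact zero_ne_one h1
  obtain ⟨i₀, w, hwF, hw0, c, hc⟩ : ∃ i₀, ∃ w ∈ F₀, w ≠ 0 ∧ ∃ c : F, c ^ μ i₀ * w = D⁻¹ := by
    by_cases hex : ∃ i, Odd (μ i)
    · obtain ⟨i, hi⟩ := hex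
      refine ⟨i, 1, F₀.one_mem, one_ne_zero, ?_⟩
      have := hμ3 i
      obtain ⟨j, hj⟩ := hi
      obtain h | h : μ i = 1 ∨ μ i = 3 := by omega
      · exact ⟨D⁻¹, by rw [h, pow_one, mul_one]⟩
      · obtain ⟨c, hc⟩ := cube_surjective D⁻¹
        exact ⟨c, by rw [h, hc, mul_one]⟩
    · push Not at hex
      have hev : Even n := hsum ▸ Finset.even_sum _ fun i _ => Nat.not_odd_iff_even.1 (hex i)
      have hk : Odd k := hcond.resolve_left fun h => Nat.not_even_iff_odd.2 h hev
      obtain ⟨i₀⟩ : Nonempty ι := by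
        by_contra h
        haveI := not_nonempty_iff.1 h
        simp at hsum
        omega
      have h2 : μ i₀ = 2 := by
        obtain ⟨j, hj⟩ := Nat.not_odd_iff_even.1 (hex i₀)
        have := hμ3 i₀; have := hμ i₀
        omega
      obtain ⟨w, hw, hw0, c, hc⟩ := exists_sq_mul F₀ hk hq D⁻¹ (inv_ne_zero hD0)
      exact ⟨i₀, w, hw, hw0, c, by rw [h2, hc]⟩
  have hc0 : c ≠ 0 := by
    intro h
    rw [h, zero_pow (by have := hμ i₀; omega), zero_mul] at hc
    exact inv_ne_zero hD0 hc.symm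
  let s : (Σ i, Fin (μ i)) → F := fun p => if p.1 = i₀ then (if (p.2 : ℕ) = 0 then w * c else c) else 1
  have hs0 : ∀ p, s p ≠ 0 := by
    intro p; simp only [s]; split_ifs
    · exact mul_ne_zero hw0 hc0
    · exact hc0
    · exact one_ne_zero
  have hsrel : ∀ i (j : Fin (μ i)) (h : (j : ℕ) + 1 < μ i), s ⟨i, j⟩ / s ⟨i, ⟨(j : ℕ) + 1, h⟩⟩ ∈ F₀ := by
    intro i j h
    simp only [s, Nat.add_eq_zero_iff, one_ne_zero, and_false, if_false]
    split_ifs
    · rwa [mul_div_assoc, div_self hc0, mul_one]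
    · rw [div_self hc0]; exact F₀.one_mem
    · rw [div_self one_ne_zero]; exact F₀.one_mem
  have hprod : ∏ p, s p = D⁻¹ := by
    rw [Fintype.prod_sigma, Fintype.prod_eq_single i₀]
    · simp only [s, if_pos]
      rw [← hc]
      obtain ⟨t, ht⟩ : ∃ t, μ i₀ = t + 1 := ⟨μ i₀ - 1, by have := hμ i₀; omega⟩
      have : ∀ (m : ℕ), m = t + 1 → ∏ j : Fin m, (if (j : ℕ) = 0 then w * c else c) = c ^ m * w := by
        rintro m rfl
        rw [Fin.prod_univ_succ, Fin.val_zero, if_pos rfl]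
        simp only [Fin.val_succ, Nat.add_eq_zero_iff, one_ne_zero, and_false, if_false, Finset.prod_const,
          Finset.card_univ, Fintype.card_fin]
        ring
      exact this _ ht
    · intro i hi
      exact Finset.prod_eq_one fun j _ => by simp [s, hi]
  let b₂ : Basis (Fin n) F (Fin n → F) := (C.b.unitsSMul fun p => Units.mk0 (s p) (hs0 p)).reindex e
  let Pm := (Pi.basisFun F (Fin n)).toMatrix b₂
  have hPm : Pm = (Pi.basisFun F (Fin n)).toMatrix b₁ * Matrix.diagonal (fun l => s (e.symm l)) := by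
    ext i l
    simp [Pm, b₁, b₂, Basis.toMatrix_apply, Matrix.mul_diagonal, Basis.unitsSMul_apply, mul_comm, Units.smul_def]
  have hPdet : Pm.det = 1 := by
    rw [hPm, Matrix.det_mul, Matrix.det_diagonal, ← hD, Equiv.prod_comp e.symm s, hprod, mul_inv_cancel₀ hD0]
  let Pg : Matrix.SpecialLinearGroup (Fin n) F := ⟨Pm, hPdet⟩
  refine ⟨Pg, ?_⟩
  rw [Subgroup.mem_comap, CfsgLib.PrimeDim.mem_subfieldSubgroup]
  refine ⟨a, ha0, fun i l => ?_⟩
  have hQ : b₂.toMatrix (Pi.basisFun F (Fin n)) = Pm.adjugate := by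
    have h1 : b₂.toMatrix (Pi.basisFun F (Fin n)) * Pm = 1 := b₂.toMatrix_mul_toMatrix_flip _
    calc b₂.toMatrix (Pi.basisFun F (Fin n))
        = b₂.toMatrix (Pi.basisFun F (Fin n)) * (Pm * Pm.adjugate) := by
          rw [Matrix.mul_adjugate, hPdet, one_smul, mul_one]
      _ = Pm.adjugate := by rw [← Matrix.mul_assoc, h1, Matrix.one_mul]
  have hconv : LinearMap.toMatrix b₂ b₂ (Matrix.toLin' X) = Pm.adjugate * X * Pm := by
    have h1 := basis_toMatrix_mul_linearMap_toMatrix_mul_basis_toMatrix (b := b₂) (b' := Pi.basisFun F (Fin n))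
      (c := b₂) (c' := Pi.basisFun F (Fin n)) (f := Matrix.toLin' X)
    rw [← h1, hQ, ← Matrix.toLin_eq_toLin', LinearMap.toMatrix_toLin]
  have hXv : ∀ v, Matrix.toLin' X v = a • (v + f v) := by
    intro v
    simp only [f, map_sub, map_smul, Matrix.toLin'_one, LinearMap.sub_apply, LinearMap.smul_apply, LinearMap.id_apply]
    rw [add_sub_cancel, smul_smul, mul_inv_cancel₀ ha0, one_smul]
  simp only [inv_one, one_mul, mul_one]
  show ((Pg⁻¹ * x * Pg : Matrix.SpecialLinearGroup (Fin n) F) : Matrix (Fin n) (Fin n) F) i l / a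
    ∈ F₀
  rw [Matrix.SpecialLinearGroup.coe_mul, Matrix.SpecialLinearGroup.coe_mul, Matrix.SpecialLinearGroup.coe_inv]
  show (Pm.adjugate * X * Pm) i l / a ∈ F₀
  rw [← hconv, LinearMap.toMatrix_apply, hXv, map_smul, map_add, Finsupp.smul_apply, Finsupp.add_apply,
    smul_eq_mul, mul_div_cancel_left₀ _ ha0, b₂.repr_self]
  refine F₀.add_mem ?_ ?_
  · rw [Finsupp.single_apply]; split_ifs
    · exact F₀.one_mem
    · exact F₀.zero_mem
  obtain ⟨⟨i', j⟩, hp⟩ : ∃ p, e p = l := ⟨e.symm l, e.apply_symm_apply l⟩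
  subst hp
  by_cases h : (j : ℕ) + 1 < μ i'
  · have : f (b₂ (e ⟨i', j⟩)) = (s ⟨i', j⟩ / s ⟨i', ⟨(j : ℕ) + 1, h⟩⟩) • b₂ (e ⟨i', ⟨(j : ℕ) + 1, h⟩⟩) := by
      simp only [b₂, Basis.reindex_apply, Equiv.symm_apply_apply, Basis.unitsSMul_apply, Units.smul_def,
        Units.val_mk0, map_smul, smul_smul, C.shift, dif_pos h, div_mul_cancel₀ _ (hs0 _)]
    rw [this, map_smul, b₂.repr_self, Finsupp.smul_apply, Finsupp.single_apply, smul_eq_mul]
    refine F₀.mul_mem (hsrel i' j h) ?_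
    split_ifs
    · exact F₀.one_mem
    · exact F₀.zero_mem
  · have : f (b₂ (e ⟨i', j⟩)) = 0 := by
      simp only [b₂, Basis.reindex_apply, Equiv.symm_apply_apply, Basis.unitsSMul_apply, Units.smul_def,
        Units.val_mk0, map_smul, C.shift, dif_neg h, smul_zero]
    rw [this, map_zero, Finsupp.zero_apply]
    exact F₀.zero_mem

theorem exists_bad {m : ℕ} (hm : 0 < m) (F₀ : Subfield F) {n : ℕ} (hn : n = m + m)
    (hq : Fintype.card F = Nat.card F₀ ^ 2) :
    ∃ x : Matrix.SpecialLinearGroup (Fin n) F,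
      ((x ^ 3 : Matrix.SpecialLinearGroup (Fin n) F) : Matrix (Fin n) (Fin n) F) = (1 : F) • 1 ∧
      (∀ z : F, (x : Matrix (Fin n) (Fin n) F) ≠ z • (1 : Matrix (Fin n) (Fin n) F)) ∧
      ∀ P : Matrix.SpecialLinearGroup (Fin n) F, P⁻¹ * x * P ∉
        (Cfsg.Geo.subfieldSubgroup F₀ 1).comap
          (Matrix.SpecialLinearGroup.toGL : Matrix.SpecialLinearGroup (Fin n) F →* GL (Fin n) F) := by
  classical
  subst hn
  let e : Fin m ⊕ Fin m ≃ Fin (m + m) := finSumFinEquiv
  obtain ⟨d, hd⟩ := FiniteField.exists_nonsquare (F := F) ringChar_three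
  have hd0 : d ≠ 0 := fun h => hd (h ▸ IsSquare.zero)
  let N0 : Matrix (Fin m ⊕ Fin m) (Fin m ⊕ Fin m) F := fromBlocks 0 0 1 0
  have hN0 : N0 * N0 = 0 := by simp [N0, fromBlocks_multiply, fromBlocks_zero]
  let A1 : Matrix (Fin m) (Fin m) F := diagonal (Function.update (1 : Fin m → F) ⟨0, hm⟩ d)
  let g : Matrix (Fin m ⊕ Fin m) (Fin m ⊕ Fin m) F := fromBlocks A1 0 0 1
  have hgdet : g.det = d := by
    simp only [g, A1, det_fromBlocks_zero₁₂, det_one, mul_one, det_diagonal]
    rw [Finset.prod_update_of_mem (Finset.mem_univ _)]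
    simp
  have hgu : IsUnit g.det := hgdet ▸ isUnit_iff_ne_zero.2 hd0
  let Y := g * (1 + N0) * g⁻¹
  have hYdet : Y.det = 1 := by
    have h1 : (1 + N0).det = 1 := by
      simp only [N0]
      rw [← fromBlocks_one, fromBlocks_add]
      simp
    rw [Matrix.det_mul, Matrix.det_mul, h1, mul_one, Matrix.det_nonsing_inv, Ring.mul_inverse_cancel _ hgu]
  have hY3 : Y ^ 3 = 1 := by
    have h1 : (1 + N0) ^ 3 = 1 := by
      have e1 : (1 + N0) * (1 + N0) = 1 + (2 : F) • N0 := by
        rw [mul_add, add_mul, add_mul, hN0, one_mul, mul_one, one_mul, two_smul, add_zero]; abel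
      rw [pow_succ, sq, e1, add_mul, smul_mul_assoc, mul_add N0, hN0, mul_one, one_mul, add_zero]
      have h3 : (1 : F) + 2 = 0 := by
        have := CharP.cast_eq_zero F 3
        push_cast at this
        linear_combination this
      rw [add_assoc]
      nth_rw 1 [← one_smul F N0]
      rw [← add_smul, h3, zero_smul, add_zero]
    calc Y ^ 3 = g * (1 + N0) * (g⁻¹ * g) * (1 + N0) * (g⁻¹ * g) * (1 + N0) * g⁻¹ := by
          simp only [Y, pow_succ, pow_zero, one_mul, Matrix.mul_assoc]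
      _ = g * (1 + N0) ^ 3 * g⁻¹ := by
          rw [Matrix.nonsing_inv_mul _ hgu]
          simp only [pow_succ, pow_zero, one_mul, mul_one, Matrix.mul_assoc]
      _ = 1 := by rw [h1, mul_one, Matrix.mul_nonsing_inv _ hgu]
  let R := Matrix.reindexAlgEquiv F F e
  let x : Matrix.SpecialLinearGroup (Fin (m + m)) F := ⟨R Y, by rw [Matrix.det_reindexAlgEquiv, hYdet]⟩
  refine ⟨x, ?_, ?_, ?_⟩
  · rw [one_smul, Matrix.SpecialLinearGroup.coe_pow]
    show (R Y) ^ 3 = 1
    rw [← map_pow, hY3, map_one]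
  · intro z hz
    have h1 : Y = z • 1 := R.injective (by rw [map_smul, map_one]; exact hz)
    have h2 : (1 + N0) = z • 1 := by
      have h3 := congrArg (fun M => g⁻¹ * M * g) h1
      simp only [Y, Matrix.mul_assoc, Matrix.nonsing_inv_mul _ hgu, mul_one] at h3
      rw [← Matrix.mul_assoc, Matrix.nonsing_inv_mul _ hgu, one_mul] at h3
      rw [h3, Matrix.smul_mul, Matrix.mul_smul, one_mul, Matrix.nonsing_inv_mul _ hgu]
    have h4 := congrFun (congrFun h2 (Sum.inr ⟨0, hm⟩)) (Sum.inl ⟨0, hm⟩)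
    simp [N0, Matrix.one_apply] at h4
  intro P hP
  rw [Subgroup.mem_comap, CfsgLib.PrimeDim.mem_subfieldSubgroup] at hP
  obtain ⟨c, hc0, hc⟩ := hP
  set Q : Matrix (Fin m ⊕ Fin m) (Fin m ⊕ Fin m) F := R.symm (P : Matrix (Fin (m + m)) (Fin (m + m)) F) with hQdef
  have hQdet : Q.det = 1 := by rw [hQdef, Matrix.reindexAlgEquiv_symm, Matrix.det_reindexAlgEquiv]; exact P.2
  have hQu : IsUnit Q.det := hQdet ▸ isUnit_one
  set U := Q⁻¹ * Y * Q with hUdef
  have hU : ∀ i j, U i j / c ∈ F₀ := by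
    intro i j
    have h1 := hc (e i) (e j)
    simp only [inv_one, one_mul, mul_one] at h1
    have e2 : ((Matrix.SpecialLinearGroup.toGL (P⁻¹ * x * P) : GL (Fin (m + m)) F) :
        Matrix (Fin (m + m)) (Fin (m + m)) F) = R U := by
      show ((P⁻¹ * x * P : Matrix.SpecialLinearGroup (Fin (m + m)) F) : Matrix (Fin (m + m)) (Fin (m + m)) F) = _
      rw [Matrix.SpecialLinearGroup.coe_mul, Matrix.SpecialLinearGroup.coe_mul, Matrix.SpecialLinearGroup.coe_inv,
        hUdef, map_mul, map_mul, hQdef, AlgEquiv.apply_symm_apply]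
      congr 2
      have h3 : R Q⁻¹ * (P : Matrix (Fin (m + m)) (Fin (m + m)) F) = 1 := by
        rw [← R.apply_symm_apply (P : Matrix (Fin (m + m)) (Fin (m + m)) F), ← hQdef, ← map_mul,
          Matrix.nonsing_inv_mul _ hQu, map_one]
      rw [← hQdef, ← Matrix.inv_eq_left_inv h3, Matrix.inv_def, P.2, Ring.inverse_one, one_smul]
    rw [e2] at h1
    simpa [R] using h1
  let U0 : Matrix (Fin m ⊕ Fin m) (Fin m ⊕ Fin m) F₀ := fun i j => ⟨U i j / c, hU i j⟩
  have hU0 : U = c • U0.map F₀.subtype := by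
    ext i j
    simp only [U0, Matrix.smul_apply, smul_eq_mul]
    exact (mul_div_cancel₀ _ hc0).symm
  have hU3 : U ^ 3 = 1 := by
    calc U ^ 3 = Q⁻¹ * Y * (Q * Q⁻¹) * Y * (Q * Q⁻¹) * Y * Q := by
          simp only [hUdef, pow_succ, pow_zero, one_mul, Matrix.mul_assoc]
      _ = Q⁻¹ * Y ^ 3 * Q := by
          rw [Matrix.mul_nonsing_inv _ hQu]
          simp only [pow_succ, pow_zero, one_mul, mul_one, Matrix.mul_assoc]
      _ = 1 := by rw [hY3, mul_one, Matrix.nonsing_inv_mul _ hQu]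
  have hcF : c ∈ F₀ := by
    have hpow : (U0.map F₀.subtype) ^ 3 = (U0 ^ 3).map F₀.subtype :=
      (map_pow F₀.subtype.mapMatrix U0 3).symm
    have h1 := congrFun (congrFun hU3 (Sum.inl ⟨0, hm⟩)) (Sum.inl ⟨0, hm⟩)
    rw [hU0, _root_.smul_pow, Matrix.smul_apply, Matrix.one_apply_eq, hpow, Matrix.map_apply, smul_eq_mul] at h1
    haveI : CharP F₀ 3 := (RingHom.charP_iff F₀.subtype F₀.subtype_injective 3).2 inferInstance
    haveI : Fintype F₀ := Fintype.ofFinite _
    obtain ⟨b, hb⟩ := cube_surjective (F := F₀) ((U0 ^ 3) (Sum.inl ⟨0, hm⟩) (Sum.inl ⟨0, hm⟩))⁻¹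
    have : c = (b : F) := cube_injective (by
      rw [← SubmonoidClass.coe_pow, hb]
      push_cast
      exact eq_inv_of_mul_eq_one_left h1)
    exact this ▸ b.2
  set N := U - 1 with hN
  have hNent : ∀ i j, N i j ∈ F₀ := by
    intro i j
    rw [hN, Matrix.sub_apply, Matrix.one_apply]
    refine F₀.sub_mem ?_ ?_
    · have := F₀.mul_mem hcF (hU i j)
      rwa [mul_div_cancel₀ _ hc0] at this
    · split_ifs
      · exact F₀.one_mem
      · exact F₀.zero_mem
  set h := g⁻¹ * Q with hh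
  have hhN : h * N = N0 * h := by
    have e1 : h * U = (1 + N0) * h := by
      calc h * U = g⁻¹ * (Q * Q⁻¹) * g * (1 + N0) * g⁻¹ * Q := by
            simp only [hh, hUdef, Y, Matrix.mul_assoc]
        _ = (1 + N0) * h := by
            rw [Matrix.mul_nonsing_inv _ hQu, mul_one, Matrix.nonsing_inv_mul _ hgu, one_mul]
            simp only [hh, Matrix.mul_assoc]
    rw [hN, mul_sub, e1, add_mul, one_mul, mul_one, add_sub_cancel_left]
  have hhdet : h.det = d⁻¹ := by
    rw [hh, Matrix.det_mul, hQdet, mul_one, Matrix.det_nonsing_inv, hgdet, Ring.inverse_eq_inv]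
  obtain ⟨sel, hsel⟩ : ∃ sel : Fin m → Fin m ⊕ Fin m, (h.toRows₁.submatrix id sel).det ≠ 0 := by
    have hsurj : Submodule.span F (Set.range fun j => h.toRows₁.col j) = ⊤ := by
      rw [← Matrix.range_mulVecLin, LinearMap.range_eq_top]
      intro v
      refine ⟨h⁻¹ *ᵥ Sum.elim v 0, funext fun i => ?_⟩
      have := congrFun (show h *ᵥ (h⁻¹ *ᵥ Sum.elim v 0) = Sum.elim v 0 by
        rw [Matrix.mulVec_mulVec, Matrix.mul_nonsing_inv _ (by rw [hhdet]; exact isUnit_iff_ne_zero.2 (inv_ne_zero hd0)),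
          Matrix.one_mulVec]) (Sum.inl i)
      exact this
    obtain ⟨κ, a, ha, hspan, hli⟩ := exists_linearIndependent' F (fun j => h.toRows₁.col j)
    haveI : Fintype κ := Fintype.ofInjective a ha
    have hcard : Fintype.card κ = m := by
      have := finrank_span_eq_card hli
      rw [hspan, hsurj, finrank_top, finrank_fin_fun] at this
      omega
    let ε := (Fintype.equivFinOfCardEq hcard).symm
    refine ⟨a ∘ ε, fun h0 => ?_⟩
    have hli' : LinearIndependent F (fun i => h.toRows₁.col (a (ε i))) := hli.comp ε ε.injective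
    have h1 : IsUnit (h.toRows₁.submatrix id (a ∘ ε)) := Matrix.linearIndependent_cols_iff_isUnit.1 hli'
    exact ((Matrix.isUnit_iff_isUnit_det _).1 h1).ne_zero h0
  let W : Matrix (Fin m ⊕ Fin m) (Fin m) F := (1 : Matrix (Fin m ⊕ Fin m) (Fin m ⊕ Fin m) F).submatrix id sel
  let B := fromCols W (N * W)
  have hhW : h * W = h.submatrix id sel := by ext i j; simp [W, Matrix.mul_apply, Matrix.one_apply]
  set A := h.toRows₁.submatrix id sel
  have hhB : h * B = fromBlocks A 0 (h.toRows₂.submatrix id sel) A := by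
    have e1 : h * W = fromRows A (h.toRows₂.submatrix id sel) := by
      rw [hhW]; ext (i | i) j <;> rfl
    have e2 : N0 * (h * W) = fromRows 0 A := by
      rw [e1, fromBlocks_mul_fromRows]
      simp
    rw [mul_fromCols, ← Matrix.mul_assoc h N W, hhN, Matrix.mul_assoc N0 h W, e2, e1]
    ext (i | i) (j | j) <;> rfl
  have hBF : ∀ i j, B i j ∈ F₀ := by
    have hWF : ∀ i j, W i j ∈ F₀ := fun i j => by
      simp only [W, Matrix.submatrix_apply, Matrix.one_apply]; split_ifs
      · exact F₀.one_mem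
      · exact F₀.zero_mem
    rintro i (j | j)
    · exact hWF i j
    · simp only [B, fromCols_apply_inr, Matrix.mul_apply]
      exact F₀.sum_mem fun l _ => F₀.mul_mem (hNent i l) (hWF l j)
  obtain ⟨r, hr⟩ : ∃ r : F, B.det = r * r := by
    refine CfsgLib.Derange.isSquare_of_mem_subfield F₀ rfl hq (odd_card_subfield F₀) ?_
    let B0 : Matrix (Fin m ⊕ Fin m) (Fin m ⊕ Fin m) F₀ := fun i j => ⟨B i j, hBF i j⟩
    have : B.det = ((B0.det : F₀) : F) := (RingHom.map_det F₀.subtype B0).symm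
    exact this ▸ B0.det.2
  have key : d⁻¹ * (r * r) = A.det * A.det := by
    rw [← hr, ← hhdet, ← Matrix.det_mul, hhB, det_fromBlocks_zero₁₂]
  refine hd ⟨r / A.det, ?_⟩
  field_simp at key ⊢
  linear_combination -key


/-- Elements of order 3 of PSL_n(q) in characteristic 3 and subfield subgroups. Here `T = PSL_n(F)` for a field `F` with `q` elements, `q` a power of 3 (`n ≥ 2`, `(n, q) ≠ (2, 2), (2, 3)`), `F₀` is the subfield with `q₀` elements where `q = q₀^k` for a prime `k`, and `H` is the subgroup of matrices of determinant 1 lying in the subfield group of `F₀` (invertible matrices over `F₀` times scalars) — a maximal subgroup of type GL_n(q₀) (the case `n = 2`, `q₀ = 2` is excluded); Ω is the set of `T`-conjugates of `H` (cosets of `H`), so an element of `T` of prime order `r` (a matrix `x` of determinant 1 with `x^r` scalar, `x` not scalar) fixes a point of Ω when some conjugate of `x` by a matrix of determinant 1 lies in `H`. Suppose 3 divides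 the index of `H`. Then every element of `T` of order 3 is conjugate in `T` into `H` if and only if `n` is odd, or `n` is even and `k > 2`. -/
theorem result {F : Type*} [Field F] [Fintype F] [CharP F 3] {q : ℕ} (hq : Fintype.card F = q)
    (n : ℕ) (hn : 2 ≤ n) (hT : (n, q) ≠ (2, 3))
    (F₀ : Subfield F) (k q₀ : ℕ) (hk : k.Prime) (hF₀ : Nat.card ↥F₀ = q₀) (hqk : q = q₀ ^ k) (hC5 : ¬ (n = 2 ∧ q₀ = 2)) (hΩ : 3 ∣ ((Cfsg.Geo.subfieldSubgroup F₀ 1).comap (Matrix.SpecialLinearGroup.toGL : Matrix.SpecialLinearGroup (Fin n) F →* GL (Fin n) F)).index) :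
    (∀ x : Matrix.SpecialLinearGroup (Fin n) F,
      (∃ z : F, ((x ^ 3 : Matrix.SpecialLinearGroup (Fin n) F) : Matrix (Fin n) (Fin n) F) = z • (1 : Matrix (Fin n) (Fin n) F)) →
      (∀ z : F, (x : Matrix (Fin n) (Fin n) F) ≠ z • (1 : Matrix (Fin n) (Fin n) F)) →
      ∃ P : Matrix.SpecialLinearGroup (Fin n) F, P⁻¹ * x * P ∈ ((Cfsg.Geo.subfieldSubgroup F₀ 1).comap (Matrix.SpecialLinearGroup.toGL : Matrix.SpecialLinearGroup (Fin n) F →* GL (Fin n) F))) ↔
    (Odd n ∨ (Even n ∧ 2 < k)) := by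
  have hq' : Fintype.card F = Nat.card F₀ ^ k := by rw [hq, hF₀, hqk]
  constructor
  · intro h
    by_contra hcon
    obtain ⟨hodd, hk2⟩ := not_or.1 hcon
    have hev : Even n := Nat.not_odd_iff_even.1 hodd
    have hk2' : k = 2 := le_antisymm (not_lt.1 fun h2 => hk2 ⟨hev, h2⟩) hk.two_le
    obtain ⟨m, hm⟩ := hev
    obtain ⟨x, hx3, hxns, hx⟩ := exists_bad (m := m) (by omega) F₀ hm (hk2' ▸ hq')
    obtain ⟨P, hP⟩ := h x ⟨1, hx3⟩ hxns
    exact hx P hP
  · rintro hcond x ⟨z, hz⟩ -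
    refine exists_conjugate (by omega) F₀ hq' ?_ x hz
    rcases hcond with h | ⟨-, h⟩
    · exact Or.inl h
    · exact Or.inr (hk.odd_of_ne_two (by omega))

end Cfsg.Agent.S5966
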