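import Cfsg.Statements.S5967
import Cfsg.Agent.Lib.Derange.SympConj

set_option autoImplicit false
open scoped MatrixGroups
open Cfsg

namespace Cfsg.Agent.S5967

/-- Two blocks of pairs form one block of pairs. -/
private def comb (a b : ℕ) : (Fin a ⊕ Fin a) ⊕ (Fin b ⊕ Fin b) ≃ Fin (a + b) ⊕ Fin (a + b) :=
  (Equiv.sumSumSumComm _ _ _ _).trans (Equiv.sumCongr finSumFinEquiv finSumFinEquiv)

/-- Involutions of PSL_n(q) and the symplectic-type subgroups. Here `T = PSL_n(F)` for a field `F` with `q` elements, `n ≥ 4` even, `f` is a nondegenerate alternating form on `F^n`, and `H` is the subgroup of matrices of determinant 1 preserving `f` up to a scalar — a maximal subgroup of type Sp_n(q); Ω is the set of `T`-conjugates of `H` (cosets of `H`), so an element of `T` of prime order `r` (a matrix `x` of determinant 1 with `x^r` scalar, `x` not scalar) fixes a point of Ω when some conjugate of `x` by a matrix of determinant 1 preserves `f` up to a scalar. Suppose the index of `H` is even. Then every involution of `T` is conjugate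 in `T` into `H` if and only if `(q − 1)_2 ≤ (n)_2`. -/
theorem result {F : Type*} [Field F] [Fintype F] {p : ℕ} [Fact p.Prime] [CharP F p] {q : ℕ} (hq : Fintype.card F = q)
    (n : ℕ) (hn : 4 ≤ n) (he : Even n) (f : (Fin n → F) → (Fin n → F) → F) (hf : Cfsg.Geo.IsSymplecticForm f)
    (hΩ : 2 ∣ ((Cfsg.Geo.similarityGroup f).comap (Matrix.SpecialLinearGroup.toGL : Matrix.SpecialLinearGroup (Fin n) F →* GL (Fin n) F)).index) :
    (∀ x : Matrix.SpecialLinearGroup (Fin n) F,
      (∃ z : F, ((x ^ 2 : Matrix.SpecialLinearGroup (Fin n) F) : Matrix (Fin n) (Fin n) F) = z • (1 : Matrix (Fin n) (Fin n) F)) →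
      (∀ z : F, (x : Matrix (Fin n) (Fin n) F) ≠ z • (1 : Matrix (Fin n) (Fin n) F)) →
      ∃ P : Matrix.SpecialLinearGroup (Fin n) F, P⁻¹ * x * P ∈ ((Cfsg.Geo.similarityGroup f).comap (Matrix.SpecialLinearGroup.toGL : Matrix.SpecialLinearGroup (Fin n) F →* GL (Fin n) F))) ↔
    padicValNat 2 (q - 1) ≤ padicValNat 2 n := by
  classical
  have hp : p.Prime := Fact.out
  obtain ⟨fe, -, hfe⟩ := FiniteField.card F p
  have hn1 : 1 ≤ n := by omega
  haveI : Nonempty (Fin n) := ⟨⟨0, hn1⟩⟩
  constructor
  · intro h
    by_contra hv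
    push Not at hv
    obtain ⟨o, ho⟩ : 2 ^ (padicValNat 2 n + 1) ∣ q - 1 :=
      (padicValNat_dvd_iff_le (by
        intro h0; rw [h0, padicValNat_zero_right] at hv; exact Nat.not_lt_zero _ hv)).mpr hv
    obtain ⟨o', ho'⟩ : 2 ^ padicValNat 2 n ∣ n := pow_padicValNat_dvd
    have hodd' : Odd o' := by
      rw [← Nat.not_even_iff_odd, even_iff_two_dvd]
      rintro ⟨w, rfl⟩
      exact pow_succ_padicValNat_not_dvd (p := 2) (n := n) (by omega) ⟨w, by rw [pow_succ, mul_assoc]; exact ho'⟩
    have hq2 : 2 ∣ q - 1 := ho ▸ (dvd_pow_self 2 (Nat.succ_ne_zero _)).mul_right o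
    have hq1 : 1 ≤ q := hq ▸ Fintype.card_pos
    have hp2 : p ≠ 2 := by
      rintro rfl
      have : 2 ∣ q := hq ▸ hfe ▸ dvd_pow_self 2 fe.ne_zero
      omega
    have h2 : (2 : F) ≠ 0 := Ring.two_ne_zero (by rw [ringChar.eq F p]; exact hp2)
    obtain ⟨u, hu⟩ := IsCyclic.exists_generator (α := Fˣ)
    have hord : orderOf u = q - 1 := by
      rw [orderOf_eq_card_of_forall_mem_zpowers hu, Nat.card_eq_fintype_card, Fintype.card_units, hq]
    have hneg : ((u : F) ^ ((q - 1) / 2)) = -1 := by
      have h1 : ((u : F) ^ ((q - 1) / 2)) * ((u : F) ^ ((q - 1) / 2)) = 1 := by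
        rw [← pow_add, show (q - 1) / 2 + (q - 1) / 2 = q - 1 by omega, ← hord, ← Units.val_pow_eq_pow_val,
          pow_orderOf_eq_one, Units.val_one]
      refine (mul_self_eq_one_iff.mp h1).resolve_left fun h1 => ?_
      have h3 := orderOf_dvd_of_pow_eq_one (x := u) (n := (q - 1) / 2) (Units.ext (by
        rw [Units.val_pow_eq_pow_val, h1, Units.val_one]))
      rw [hord] at h3
      have h4 : 2 ≤ Fintype.card F := Fintype.one_lt_card
      have := Nat.le_of_dvd (by omega) h3
      omega
    set a : F := (u : F) ^ o with ha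
    have han : a ^ n = -1 := by
      rw [ha, ← pow_mul, ho', show o * (2 ^ padicValNat 2 n * o') = (q - 1) / 2 * o' by
        rw [ho, pow_succ, show 2 ^ padicValNat 2 n * 2 * o = 2 * (2 ^ padicValNat 2 n * o) by ring,
          Nat.mul_div_cancel_left _ two_pos]
        ring, pow_mul, hneg, hodd'.neg_one_pow]
    have ha0 : a ≠ 0 := pow_ne_zero _ u.ne_zero
    set i₀ : Fin n := ⟨0, hn1⟩
    set M : Matrix (Fin n) (Fin n) F := Matrix.diagonal fun i => if i = i₀ then a else -a with hM
    have hdet : M.det = 1 := by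
      have hfac : ∀ i : Fin n, (if i = i₀ then a else -a) = (-a) * (if i = i₀ then -1 else 1) := fun i => by
        split_ifs <;> ring
      rw [hM, Matrix.det_diagonal, Finset.prod_congr rfl fun i _ => hfac i, Finset.prod_mul_distrib,
        Finset.prod_const, Finset.card_univ, Fintype.card_fin, he.neg_pow, han, Finset.prod_ite_eq']
      simp
    obtain ⟨i₁, hi₁⟩ : ∃ i : Fin n, i ≠ i₀ := ⟨⟨1, by omega⟩, by simp [i₀]⟩
    have hx2 : M ^ 2 = (a ^ 2) • 1 := by
      rw [hM, Matrix.diagonal_pow, Matrix.smul_one_eq_diagonal]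
      congr 1
      funext i
      rw [Pi.pow_apply]
      split_ifs <;> ring
    obtain ⟨X, hX⟩ : ∃ X : Matrix.SpecialLinearGroup (Fin n) F, (X : Matrix (Fin n) (Fin n) F) = M :=
      ⟨⟨M, hdet⟩, rfl⟩
    obtain ⟨P, hP⟩ := h X ⟨a ^ 2, by rw [Matrix.SpecialLinearGroup.coe_pow, hX]; exact hx2⟩ (by
      intro c hc
      rw [hX] at hc
      have e0 := congrFun (congrFun hc i₀) i₀
      have e1 := congrFun (congrFun hc i₁) i₁
      simp [hM, hi₁] at e0 e1
      have : (2 : F) * a = 0 := by linear_combination e0 - e1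
      simpa [h2, ha0] using this)
    refine CfsgLib.Derange.not_similitude hf hn h2 M ha0 i₀ hM (Matrix.SpecialLinearGroup.toGL P) ?_
    rw [Subgroup.mem_comap, map_mul, map_mul, map_inv] at hP
    convert hP using 3
    exact Units.ext hX.symm
  · intro hv x hx _
    have hne : ∀ {u v : ℕ} (i : Fin u) (l : Fin v), Fin.castAdd v i ≠ Fin.natAdd u l := fun i l h => by
      simp [Fin.ext_iff] at h; omega
    obtain ⟨z, hz⟩ := hx
    rw [Matrix.SpecialLinearGroup.coe_pow] at hz
    have hz0 := CfsgLib.Derange.sq_scalar_ne_zero hn1 (by rw [x.det_coe]; exact one_ne_zero) hz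
    set T := Matrix.toLin' (x : Matrix (Fin n) (Fin n) F) with hT
    have hT2 : T ^ 2 = z • 1 := by rw [hT, ← CfsgLib.Derange.toLin'_pow, hz, CfsgLib.Derange.toLin'_smul_one]
    have hTT : ∀ w, T (T w) = z • w := fun w => by
      rw [← Module.End.mul_apply, ← sq, hT2, LinearMap.smul_apply, Module.End.one_apply]
    suffices hs : ∃ B : GL (Fin n) F, B⁻¹ * Matrix.SpecialLinearGroup.toGL x * B ∈ Cfsg.Geo.similarityGroup f by
      obtain ⟨B, hB⟩ := hs
      exact CfsgLib.Derange.exists_sl_conj (p := p) hn1 _ x hz B hB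
    by_cases hA : p = 2 ∨ ¬ IsSquare z
    · obtain ⟨j, k, b, hb⟩ :=
        CfsgLib.Derange.exists_monomial_basis_aux _ (Fin n → F) (Module.finrank_fin_fun F) T z hz0 hT2
      choose d hd0 hd using hb
      have hcc : ∀ i, d i * d (Sum.map Sum.swap id i) = z := by
        intro i
        have h := hTT (b i)
        rw [hd, map_smul, hd, smul_smul, show Sum.map Sum.swap id (Sum.map Sum.swap id i) = i by
          rcases i with (i | i) | i <;> rfl] at h
        exact smul_left_injective F (b.ne_zero i) h
      obtain ⟨k', hk'⟩ : Even k := by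
        have := Module.finrank_eq_card_basis b
        simp only [Module.finrank_fin_fun, Fintype.card_sum, Fintype.card_fin] at this
        rw [this, Nat.even_add] at he
        exact he.mp ⟨j, rfl⟩
      let σ : (Fin j ⊕ Fin j) ⊕ Fin k ≃ (Fin j ⊕ Fin j) ⊕ (Fin k' ⊕ Fin k') :=
        Equiv.sumCongr (Equiv.refl _) ((finCongr hk').trans finSumFinEquiv.symm)
      have hsing : ∀ i i' : Fin k, d (.inr i) * d (.inr i') = -z := by
        intro i i'
        have e1 : d (.inr i) * d (.inr i) = z := hcc (.inr i)
        have e2 : d (.inr i') * d (.inr i') = z := hcc (.inr i')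
        rcases hA with hA | hA
        · subst hA
          haveI : CharP F 2 := inferInstance
          rw [frobenius_inj F 2 (show frobenius F 2 (d (.inr i)) = frobenius F 2 (d (.inr i')) by
            rw [frobenius_def, frobenius_def, sq, sq, e1, e2]), e2, CharTwo.neg_eq]
        · exact absurd ⟨_, e1.symm⟩ hA
      refine CfsgLib.Derange.exists_conj_similitude hf _ b (σ.trans (comb j k')) (Sum.map Sum.swap id) d
        (fun i => hd i) (μ := -z) (neg_ne_zero.mpr hz0) fun i l => ?_
      rcases i with (i | i) | i <;> rcases l with (l | l) | l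
      all_goals simp only [σ, comb, Equiv.trans_apply, Equiv.sumCongr_apply, Sum.map_inl, Sum.map_inr, id,
        Sum.swap_inl, Sum.swap_inr, Equiv.refl_apply, Equiv.sumSumSumComm_apply]
      · simp [CfsgLib.Derange.pairJ, hne, (hne _ _).symm]
      · rcases eq_or_ne i l with rfl | hil
        · have h1 := hcc (.inl (.inl i))
          simp only [Sum.map_inl, Sum.swap_inl] at h1
          simp [CfsgLib.Derange.pairJ, ← h1]
        · simp [CfsgLib.Derange.pairJ, hil]
      · rcases finSumFinEquiv.symm (finCongr hk' l) with l' | l' <;> simp [CfsgLib.Derange.pairJ, hne, (hne _ _).symm]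
      · rcases eq_or_ne i l with rfl | hil
        · have h1 := hcc (.inl (.inl i))
          simp only [Sum.map_inl, Sum.swap_inl] at h1
          simp [CfsgLib.Derange.pairJ, ← h1, mul_comm]
        · simp [CfsgLib.Derange.pairJ, hil]
      · simp [CfsgLib.Derange.pairJ, hne, (hne _ _).symm]
      · rcases finSumFinEquiv.symm (finCongr hk' l) with l' | l' <;> simp [CfsgLib.Derange.pairJ, hne, (hne _ _).symm]
      · rcases finSumFinEquiv.symm (finCongr hk' i) with i' | i' <;> simp [CfsgLib.Derange.pairJ, hne, (hne _ _).symm]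
      · rcases finSumFinEquiv.symm (finCongr hk' i) with i' | i' <;> simp [CfsgLib.Derange.pairJ, hne, (hne _ _).symm]
      · rw [hsing i l]
    · push Not at hA
      obtain ⟨hp2, ⟨a, rfl⟩⟩ := hA
      have ha0 : a ≠ 0 := fun h => hz0 (by rw [h, mul_zero])
      have h2 : (2 : F) ≠ 0 := Ring.two_ne_zero (by rw [ringChar.eq F p]; exact hp2)
      let Ep := LinearMap.ker (T - a • 1)
      let Em := LinearMap.ker (T + a • 1)
      have hp' : ∀ w ∈ Ep, T w = a • w := fun w hw => by
        simpa [Ep, sub_eq_zero] using hw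
      have hm' : ∀ w ∈ Em, T w = -a • w := fun w hw => by
        simpa [Em, add_eq_zero_iff_eq_neg] using hw
      have hcompl : IsCompl Ep Em := by
        constructor
        · rw [Submodule.disjoint_def]
          intro w h1 h3
          have : ((2 : F) * a) • w = 0 := by
            rw [two_mul, add_smul]
            nth_rw 1 [← hp' w h1]
            rw [hm' w h3, neg_smul, neg_add_cancel]
          exact (smul_eq_zero.mp this).resolve_left (mul_ne_zero h2 ha0)
        · rw [codisjoint_iff, eq_top_iff]
          intro w _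
          refine Submodule.mem_sup.mpr ⟨(2 * a)⁻¹ • (T w + a • w), ?_, (2 * a)⁻¹ • (a • w - T w), ?_, ?_⟩
          · simp [Ep, hTT, smul_add, smul_smul]
            module
          · simp [Em, hTT, smul_sub, smul_smul]
            module
          · rw [← smul_add, show T w + a • w + (a • w - T w) = (2 * a) • w by module, smul_smul,
              inv_mul_cancel₀ (mul_ne_zero h2 ha0), one_smul]
      set l := Module.finrank F Ep
      set r := Module.finrank F Em
      obtain ⟨b, hbl, hbr⟩ : ∃ b : Module.Basis (Fin l ⊕ Fin r) F (Fin n → F),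
          (∀ i, b (.inl i) ∈ Ep) ∧ ∀ i, b (.inr i) ∈ Em :=
        ⟨((Module.finBasis F Ep).prod (Module.finBasis F Em)).map (Submodule.prodEquivOfIsCompl Ep Em hcompl),
          fun i => by simp [Module.Basis.prod_apply], fun i => by simp [Module.Basis.prod_apply]⟩
      let d : Fin l ⊕ Fin r → F := Sum.elim (fun _ => a) (fun _ => -a)
      have hbd : ∀ i, T (b i) = d i • b i := by
        rintro (i | i)
        · exact hp' _ (hbl i)
        · exact hm' _ (hbr i)
      have hlr : l + r = n := by
        rw [Submodule.finrank_add_eq_of_isCompl hcompl, Module.finrank_fin_fun]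
      have hdet : a ^ l * (-a) ^ r = 1 := by
        have h1 : LinearMap.det T = 1 := by rw [hT, LinearMap.det_toLin', x.det_coe]
        rw [← LinearMap.det_toMatrix b, show LinearMap.toMatrix b b T = Matrix.diagonal d from ?_,
          Matrix.det_diagonal, Fintype.prod_sum_type] at h1
        · simpa [d] using h1
        · ext i j
          rw [LinearMap.toMatrix_apply, hbd, map_smul, Finsupp.smul_apply, b.repr_self, Finsupp.single_apply,
            Matrix.diagonal_apply, smul_eq_mul]
          rcases eq_or_ne i j with rfl | hij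
          · rw [if_pos rfl, if_pos rfl, mul_one]
          · rw [if_neg hij.symm, if_neg hij, mul_zero]
      obtain ⟨r', hr'⟩ : Even r := by
        by_contra hr
        rw [Nat.not_even_iff_odd] at hr
        rw [hr.neg_pow, mul_neg, ← pow_add, hlr, neg_eq_iff_eq_neg] at hdet
        obtain ⟨o', ho'⟩ : 2 ^ padicValNat 2 n ∣ n := pow_padicValNat_dvd
        have hq1 : 2 ≤ q := hq ▸ Fintype.one_lt_card
        obtain ⟨o, ho⟩ : 2 ^ padicValNat 2 (q - 1) ∣ q - 1 := pow_padicValNat_dvd
        have hodd : Odd o := by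
          rw [← Nat.not_even_iff_odd, even_iff_two_dvd]
          rintro ⟨w, rfl⟩
          exact pow_succ_padicValNat_not_dvd (p := 2) (n := q - 1) (by omega)
            ⟨w, by rw [pow_succ, mul_assoc]; exact ho⟩
        have hdvd : q - 1 ∣ n * o := by
          rw [ho]
          exact Nat.mul_dvd_mul_right ((pow_dvd_pow 2 hv).trans pow_padicValNat_dvd) o
        obtain ⟨w, hw⟩ := hdvd
        have h3 : (a ^ n) ^ o = 1 := by
          rw [← pow_mul, hw, pow_mul, ← hq, FiniteField.pow_card_sub_one_eq_one a ha0, one_pow]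
        rw [hdet, hodd.neg_one_pow] at h3
        exact h2 (by linear_combination -h3)
      obtain ⟨l', hl'⟩ : Even l := by
        rw [← hlr, Nat.even_add] at he
        exact he.mpr ⟨r', hr'⟩
      let σ : Fin l ⊕ Fin r ≃ (Fin l' ⊕ Fin l') ⊕ (Fin r' ⊕ Fin r') :=
        Equiv.sumCongr ((finCongr hl').trans finSumFinEquiv.symm) ((finCongr hr').trans finSumFinEquiv.symm)
      refine CfsgLib.Derange.exists_conj_similitude hf _ b (σ.trans (comb l' r')) id d (fun i => hbd i)
        (μ := a * a) (mul_ne_zero ha0 ha0) fun i j => ?_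
      rcases i with i | i <;> rcases j with j | j
      all_goals simp only [σ, comb, Equiv.trans_apply, Equiv.sumCongr_apply, Sum.map_inl, Sum.map_inr, id]
      · simp [d]
      · rcases finSumFinEquiv.symm (finCongr hl' i) with i' | i' <;>
          rcases finSumFinEquiv.symm (finCongr hr' j) with j' | j' <;> simp [CfsgLib.Derange.pairJ, hne, (hne _ _).symm]
      · rcases finSumFinEquiv.symm (finCongr hr' i) with i' | i' <;>
          rcases finSumFinEquiv.symm (finCongr hl' j) with j' | j' <;> simp [CfsgLib.Derange.pairJ, hne, (hne _ _).symm]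
      · simp [d]

end Cfsg.Agent.S5967
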