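import Cfsg.Statements.S5968
import Cfsg.Agent.Lib.Derange.SympObstruction
import Cfsg.Agent.Lib.Derange.Elusive

set_option autoImplicit false
open scoped MatrixGroups Matrix
open Cfsg

namespace Cfsg.Agent.S5968

/-- The rank of a diagonal matrix shifted by a scalar. -/
private theorem rank_diag {F : Type*} [Field F] [DecidableEq F] {n : ℕ} (d : Fin n → F) (c : F) :
    (Matrix.diagonal d - c • (1 : Matrix (Fin n) (Fin n) F)).rank + (Finset.univ.filter fun i => d i = c).card = n := by
  rw [Matrix.smul_one_eq_diagonal, Matrix.diagonal_sub, Matrix.rank_diagonal, Fintype.card_subtype]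
  have h := Finset.card_filter_add_card_filter_not (s := (Finset.univ : Finset (Fin n))) (fun i => d i = c)
  rw [Finset.card_univ, Fintype.card_fin] at h
  rw [show (Finset.univ.filter fun i => d i - c ≠ 0) = Finset.univ.filter fun i => ¬ d i = c from
    Finset.filter_congr fun i _ => by rw [sub_ne_zero]]
  omega

/-- The pattern `ω, ω, ω⁻², 1, …` is not closed under any `λ ↦ μ / λ` with `μ ≠ 1`. -/
private theorem count_ne {F : Type*} [Field F] [DecidableEq F] {n r : ℕ} (hn : 4 ≤ n) (he : Even n) [Fact r.Prime]
    (hr2 : r ≠ 2) (hgap : ¬ (n = 6 ∧ r = 3)) {w μ : F} (hw : orderOf w = r) (hμ : μ ≠ 1) (i₀ i₁ i₂ : Fin n)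
    (h01 : i₀ ≠ i₁) (h02 : i₀ ≠ i₂) (h12 : i₁ ≠ i₂) (d : Fin n → F) (hd0 : d i₀ = w) (hd1 : d i₁ = w)
    (hd2 : d i₂ = (w ^ 2)⁻¹) (hd : ∀ i, i ≠ i₀ → i ≠ i₁ → i ≠ i₂ → d i = 1)
    (h1 : (Finset.univ.filter fun i => d i = 1).card = (Finset.univ.filter fun i => d i = μ).card)
    (hwc : (Finset.univ.filter fun i => d i = w).card = (Finset.univ.filter fun i => d i = μ / w).card) : False := by
  have hr : r.Prime := Fact.out
  have hpw : ∀ k, w ^ k = 1 → r ∣ k := fun k h => hw ▸ orderOf_dvd_of_pow_eq_one h
  have hr3 : 3 ≤ r := by have := hr.two_le; omega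
  have hw1 : w ≠ 1 := fun h => by
    rw [h, orderOf_one] at hw
    omega
  have hw2 : (w ^ 2)⁻¹ ≠ 1 := fun h => by
    have := Nat.le_of_dvd two_pos (hpw 2 (inv_eq_one.mp h))
    omega
  have hw0 : w ≠ 0 := fun h => by
    rw [h, orderOf_zero] at hw
    omega
  have split : ∀ c : F, (Finset.univ.filter fun i => d i = c).card =
      (if w = c then 2 else 0) + (if (w ^ 2)⁻¹ = c then 1 else 0) + (if 1 = c then n - 3 else 0) := by
    intro c
    have hu : (Finset.univ : Finset (Fin n)) = insert i₀ (insert i₁ (insert i₂ (Finset.univ \ {i₀, i₁, i₂}))) := by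
      ext i; simp; tauto
    rw [hu, Finset.filter_insert, Finset.filter_insert, Finset.filter_insert, hd0, hd1, hd2]
    have hrest : (Finset.filter (fun i => d i = c) (Finset.univ \ {i₀, i₁, i₂})).card =
        if 1 = c then n - 3 else 0 := by
      have hv : ∀ i ∈ (Finset.univ \ {i₀, i₁, i₂} : Finset (Fin n)), d i = 1 := fun i hi => by
        simp at hi
        exact hd i hi.1 hi.2.1 hi.2.2
      split_ifs with h
      · rw [Finset.filter_true_of_mem fun i hi => (hv i hi).trans h, Finset.card_sdiff, Finset.inter_univ,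
          Finset.card_univ, Fintype.card_fin,
          Finset.card_eq_three.mpr ⟨_, _, _, h01, h02, h12, rfl⟩]
      · rw [Finset.filter_false_of_mem fun i hi h' => h ((hv i hi).symm.trans h'), Finset.card_empty]
    rw [← hrest]
    split_ifs <;> simp [h01, h02, h12] <;> omega
  rw [split, split, if_neg hw1, if_neg hw2, if_pos rfl, if_neg (Ne.symm hμ)] at h1
  rw [split, split, if_pos rfl, if_neg (Ne.symm hw1)] at hwc
  obtain ⟨k, hk⟩ := he
  by_cases h3 : (w ^ 2)⁻¹ = w
  · have hr3' : r = 3 := by
      have := hpw 3 (by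
        have h4 : w * w ^ 2 = 1 := by
          nth_rw 1 [← h3]
          exact inv_mul_cancel₀ (pow_ne_zero 2 hw0)
        rw [pow_succ', h4])
      exact (Nat.prime_dvd_prime_iff_eq hr Nat.prime_three).mp this
    have hne : n ≠ 6 := fun h => hgap ⟨h, hr3'⟩
    rw [h3] at h1
    split_ifs at h1 <;> omega
  · rw [if_neg h3] at hwc
    by_cases hμw : w = μ
    · rw [if_pos hμw, if_neg (fun h => h3 (h.trans hμw.symm))] at h1
      omega
    · rw [if_neg hμw] at h1
      by_cases hμ2 : (w ^ 2)⁻¹ = μ
      · have a1 : w ≠ μ / w := fun h => by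
          rw [eq_div_iff hw0, ← hμ2] at h
          have h4 : w ^ 4 = 1 := by
            rw [show w ^ 4 = (w * w) * w ^ 2 by ring, h, inv_mul_cancel₀ (pow_ne_zero 2 hw0)]
          have h44 := hpw 4 h4
          have := (Nat.prime_dvd_prime_iff_eq hr Nat.prime_two).mp (hr.dvd_of_dvd_pow (show r ∣ 2 ^ 2 from h44))
          omega
        have a2 : (w ^ 2)⁻¹ ≠ μ / w := fun h => by
          rw [eq_div_iff hw0, ← hμ2] at h
          exact hw1 (mul_left_cancel₀ (inv_ne_zero (pow_ne_zero 2 hw0)) (h.trans (mul_one _).symm))
        have a3 : 1 ≠ μ / w := fun h => by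
          rw [eq_div_iff hw0, one_mul] at h
          exact hμw h
        rw [if_neg a1, if_neg a2, if_neg a3] at hwc
        omega
      · rw [if_neg hμ2] at h1
        omega

/-- Derangements of odd prime order of PSL_n(q) on the cosets of a symplectic-type subgroup. Here `T = PSL_n(F)` for a field `F` with `q` elements, `n ≥ 4` even, `f` is a nondegenerate alternating form on `F^n`, and `H` is the subgroup of matrices of determinant 1 preserving `f` up to a scalar — a maximal subgroup of type Sp_n(q); Ω is the set of `T`-conjugates of `H` (cosets of `H`), so an element of `T` of prime order `r` (a matrix `x` of determinant 1 with `x^r` scalar, `x` not scalar) fixes a point of Ω when some conjugate of `x` by a matrix of determinant 1 preserves `f` up to a scalar. For every odd prime `r` dividing the index of `H`, with `(n, r) ≠ (6, 3)`, there is an element of `T` of order `r` with no conjugate in `H`. (For `n = 6`, `r = 3` this can fail: when `(q − 1)_3 = 3` every element of order 3 is conjugate into `H`.) -/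
theorem result {F : Type*} [Field F] [Fintype F] {p : ℕ} [Fact p.Prime] [CharP F p] {q : ℕ} (hq : Fintype.card F = q)
    (n : ℕ) (hn : 4 ≤ n) (he : Even n) (f : (Fin n → F) → (Fin n → F) → F) (hf : Cfsg.Geo.IsSymplecticForm f)
    (r : ℕ) [Fact r.Prime] (hr2 : r ≠ 2) (hgap : ¬ (n = 6 ∧ r = 3)) (hΩ : r ∣ ((Cfsg.Geo.similarityGroup f).comap (Matrix.SpecialLinearGroup.toGL : Matrix.SpecialLinearGroup (Fin n) F →* GL (Fin n) F)).index) :
    ∃ x : Matrix.SpecialLinearGroup (Fin n) F,
      (∃ z : F, ((x ^ r : Matrix.SpecialLinearGroup (Fin n) F) : Matrix (Fin n) (Fin n) F) = z • (1 : Matrix (Fin n) (Fin n) F)) ∧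
      (∀ z : F, (x : Matrix (Fin n) (Fin n) F) ≠ z • (1 : Matrix (Fin n) (Fin n) F)) ∧
      ∀ P : Matrix.SpecialLinearGroup (Fin n) F, P⁻¹ * x * P ∉ ((Cfsg.Geo.similarityGroup f).comap (Matrix.SpecialLinearGroup.toGL : Matrix.SpecialLinearGroup (Fin n) F →* GL (Fin n) F)) := by
  classical
  have hp : p.Prime := Fact.out
  have hr : r.Prime := Fact.out
  obtain ⟨fe, -, hfe⟩ := FiniteField.card F p
  have hq2 : 2 ≤ q := hq ▸ Fintype.one_lt_card
  have hn1 : 1 ≤ n := by omega
  haveI : Nonempty (Fin n) := ⟨⟨0, hn1⟩⟩
  -- it is enough to exclude similitudes similar to the candidate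
  suffices key : ∃ x : Matrix.SpecialLinearGroup (Fin n) F, (x : Matrix (Fin n) (Fin n) F) ^ r = 1 ∧
      (∀ z : F, (x : Matrix (Fin n) (Fin n) F) ≠ z • 1) ∧
      ∀ (Y : Module.End F (Fin n → F)) (μ : F), μ ≠ 0 → (∀ u v, f (Y u) (Y v) = μ * f u v) → Y ^ r = 1 →
        μ ^ r = 1 →
        (∀ c : F, Module.finrank F (LinearMap.range (Y - c • 1)) = ((x : Matrix (Fin n) (Fin n) F) - c • 1).rank) →
        (∀ k : ℕ, Module.finrank F (LinearMap.range ((Y - 1) ^ k)) = (((x : Matrix (Fin n) (Fin n) F) - 1) ^ k).rank) →
        False by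
    obtain ⟨x, hxr, hxs, hx⟩ := key
    refine ⟨x, ⟨1, by rw [Matrix.SpecialLinearGroup.coe_pow, hxr, one_smul]⟩, hxs, fun P hP => ?_⟩
    rw [Subgroup.mem_comap, map_mul, map_mul, map_inv] at hP
    set Q : GL (Fin n) F := Matrix.SpecialLinearGroup.toGL P
    obtain ⟨μ, hμ⟩ := hP
    set R : Matrix (Fin n) (Fin n) F := ((Q⁻¹ : GL (Fin n) F) : Matrix (Fin n) (Fin n) F)
    set M : Matrix (Fin n) (Fin n) F := R * (x : Matrix (Fin n) (Fin n) F) * (Q : Matrix (Fin n) (Fin n) F)
    have hμ' : ∀ u v, f (M *ᵥ u) (M *ᵥ v) = (μ : F) * f u v := hμ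
    have hRQ : R * (Q : Matrix (Fin n) (Fin n) F) = 1 := Q.inv_mul
    have hQR : (Q : Matrix (Fin n) (Fin n) F) * R = 1 := Q.mul_inv
    have hconjpow : ∀ (A : Matrix (Fin n) (Fin n) F) (k : ℕ),
        (R * A * (Q : Matrix (Fin n) (Fin n) F)) ^ k = R * A ^ k * (Q : Matrix (Fin n) (Fin n) F) := by
      intro A k
      induction k with
      | zero => rw [pow_zero, pow_zero, mul_one, hRQ]
      | succ k ih =>
        rw [pow_succ, ih, pow_succ]
        simp only [mul_assoc]
        rw [← mul_assoc (Q : Matrix (Fin n) (Fin n) F), hQR, one_mul]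
    have hYr : Matrix.toLin' M ^ r = 1 := by
      rw [← CfsgLib.Derange.toLin'_pow, hconjpow, hxr, mul_one, hRQ, Matrix.toLin'_one]
      rfl
    have hμr : (μ : F) ^ r = 1 := by
      have hpow : ∀ (k : ℕ) u v, f ((Matrix.toLin' M ^ k) u) ((Matrix.toLin' M ^ k) v) = (μ : F) ^ k * f u v := by
        intro k
        induction k with
        | zero => intro u v; simp
        | succ k ih =>
          intro u v
          rw [pow_succ', Module.End.mul_apply, Module.End.mul_apply, Matrix.toLin'_apply, Matrix.toLin'_apply, hμ',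
            ih, pow_succ']
          ring
      obtain ⟨v, hv⟩ : ∃ v : Fin n → F, v ≠ 0 := exists_ne 0
      obtain ⟨u, hu⟩ := (hf.nondegenerate v hv).2
      have h := hpow r v u
      rw [hYr, Module.End.one_apply, Module.End.one_apply] at h
      exact (mul_eq_right₀ hu).mp h.symm
    have hsub : ∀ c : F, M - c • 1 = R * ((x : Matrix (Fin n) (Fin n) F) - c • 1) * (Q : Matrix (Fin n) (Fin n) F) := by
      intro c
      rw [mul_sub, sub_mul, Matrix.mul_smul, mul_one, Matrix.smul_mul, hRQ]
    have hRu : IsUnit R.det := (Matrix.isUnit_iff_isUnit_det _).mp (Q⁻¹).isUnit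
    have hQu : IsUnit (Q : Matrix (Fin n) (Fin n) F).det := (Matrix.isUnit_iff_isUnit_det _).mp Q.isUnit
    have hrk : ∀ A : Matrix (Fin n) (Fin n) F, (R * A * (Q : Matrix (Fin n) (Fin n) F)).rank = A.rank := fun A => by
      rw [Matrix.rank_mul_eq_left_of_isUnit_det _ _ hQu, Matrix.rank_mul_eq_right_of_isUnit_det _ _ hRu]
    refine hx (Matrix.toLin' M) μ μ.ne_zero (fun u v => hμ' u v) hYr hμr (fun c => ?_) (fun k => ?_)
    · rw [← CfsgLib.Derange.toLin'_smul_one, ← map_sub, hsub, ← hrk]
      rfl
    · rw [show (1 : Module.End F (Fin n → F)) = Matrix.toLin' (1 : Matrix (Fin n) (Fin n) F) from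
        Matrix.toLin'_one.symm, ← map_sub, ← CfsgLib.Derange.toLin'_pow, ← one_smul F (1 : Matrix (Fin n) (Fin n) F),
        hsub, hconjpow, ← hrk]
      rfl
  by_cases hrp : r = p
  · subst hrp
    set i₀ : Fin n := ⟨0, hn1⟩
    set i₁ : Fin n := ⟨1, by omega⟩
    set i₂ : Fin n := ⟨2, by omega⟩
    have h2 : (2 : F) ≠ 0 := Ring.two_ne_zero (by rw [ringChar.eq F r]; exact hr2)
    set N : Matrix (Fin n) (Fin n) F := Matrix.single i₀ i₁ 1 + Matrix.single i₁ i₂ 1
    have hN2 : N ^ 2 = Matrix.single i₀ i₂ 1 := by
      simp [N, sq, add_mul, mul_add, i₀, i₁, i₂]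
    have hN3 : N ^ 3 = 0 := by
      rw [pow_succ, hN2]
      simp [N, mul_add, i₀, i₁, i₂]
    have hdet : (1 + N).det = 1 := by
      rw [Matrix.det_of_isUpperTriangular]
      · simp [N, i₀, i₁, i₂, Matrix.single_apply]
        refine Finset.prod_eq_one fun i _ => ?_
        rcases i with ⟨_ | _ | _ | i, hi⟩ <;> simp
      · intro i j hij
        simp only [id] at hij
        simp [N, i₀, i₁, i₂, Matrix.single_apply, hij.ne', Fin.ext_iff]
        have : j.1 < i.1 := hij
        split_ifs <;> simp_all <;> omega
    refine ⟨⟨1 + N, hdet⟩, ?_, ?_, ?_⟩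
    · change (1 + N) ^ r = 1
      rw [add_pow_char_of_commute (p := r) (Commute.one_left N), one_pow,
        pow_eq_zero_of_le (by have := hr.two_le; omega : 3 ≤ r) hN3, add_zero]
    · intro z hz
      change 1 + N = _ at hz
      have := congrFun (congrFun hz i₀) i₁
      simp [N, i₀, i₁, i₂, Fin.ext_iff] at this
    · intro Y μ hμ0 hY hYr hμr _ hk
      have hμ1 : μ = 1 := frobenius_inj F r (by rw [frobenius_def, frobenius_def, hμr, one_pow])
      subst hμ1
      have e2 := hk 2
      have e3 := hk 3
      rw [show (((⟨1 + N, hdet⟩ : Matrix.SpecialLinearGroup (Fin n) F) : Matrix (Fin n) (Fin n) F) - 1) = N from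
        add_sub_cancel_left 1 N] at e2 e3
      rw [hN3, Matrix.rank_zero, Submodule.finrank_eq_zero, LinearMap.range_eq_bot] at e3
      refine CfsgLib.Derange.not_rank_one_sq hf h2 Y (fun u v => by simpa using hY u v) e3 (e2.trans ?_)
      rw [hN2]
      refine le_antisymm ?_ ?_
      · rw [show Matrix.single i₀ i₂ (1 : F) = Matrix.vecMulVec (Pi.single i₀ 1) (Pi.single i₂ 1) by
          ext a c
          simp [Matrix.single_apply, Matrix.vecMulVec_apply, Pi.single_apply, eq_comm, ite_and]
          split_ifs <;> simp_all]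
        exact Matrix.rank_vecMulVec_le _ _
      · rw [Nat.one_le_iff_ne_zero, Matrix.rank, Ne, Submodule.finrank_eq_zero, LinearMap.range_eq_bot]
        intro h0
        have := congrFun (LinearMap.congr_fun h0 (Pi.single i₂ 1)) i₀
        simp at this
  · obtain ⟨t, htn, hti⟩ := CfsgLib.Derange.index_similitude hp (hq ▸ hfe ▸ dvd_pow_self p fe.ne_zero) hq hn1 hf
      hrp ⟨fe, hq ▸ hfe⟩ hΩ
    obtain ⟨hi0, -, hi1⟩ := CfsgLib.Derange.orderOf_mod (p := p) hq hr hrp
    have hrF : (r : F) ≠ 0 := fun h => hrp ((Nat.prime_dvd_prime_iff_eq hp hr).mp ((CharP.cast_eq_zero_iff F p r).mp h)).symm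
    rcases (show orderOf (q : ZMod r) = 1 ∨ 2 ≤ orderOf (q : ZMod r) by omega) with hi | hi
    · have hrq := hi1.mp hi
      obtain ⟨u, hu⟩ := exists_prime_orderOf_dvd_card' r
        (show r ∣ Nat.card Fˣ by rw [Nat.card_eq_fintype_card, Fintype.card_units, hq]; exact hrq)
      have hw : orderOf (u : F) = r := orderOf_units.trans hu
      set w : F := (u : F)
      have hwr : w ^ r = 1 := hw ▸ pow_orderOf_eq_one w
      set i₀ : Fin n := ⟨0, hn1⟩
      set i₁ : Fin n := ⟨1, by omega⟩
      set i₂ : Fin n := ⟨2, by omega⟩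
      have h01 : i₀ ≠ i₁ := by simp [i₀, i₁]
      have h02 : i₀ ≠ i₂ := by simp [i₀, i₂]
      have h12 : i₁ ≠ i₂ := by simp [i₁, i₂]
      let d : Fin n → F := fun i => if i = i₀ then w else if i = i₁ then w else if i = i₂ then (w ^ 2)⁻¹ else 1
      have hd0 : d i₀ = w := by simp [d]
      have hd1 : d i₁ = w := by simp [d]
      have hd2 : d i₂ = (w ^ 2)⁻¹ := by simp [d, h02.symm, h12.symm]
      have hd : ∀ i, i ≠ i₀ → i ≠ i₁ → i ≠ i₂ → d i = 1 := fun i a b c => by simp [d, a, b, c]
      have hw0 : w ≠ 0 := u.ne_zero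
      have hw1 : w ≠ 1 := fun h => by
        rw [h, orderOf_one] at hw
        exact hr.ne_one hw.symm
      have hdr : ∀ i, d i ^ r = 1 := fun i => by
        by_cases a : i = i₀
        · rw [a, hd0, hwr]
        by_cases b : i = i₁
        · rw [b, hd1, hwr]
        by_cases c : i = i₂
        · rw [c, hd2, inv_pow, ← pow_mul, mul_comm, pow_mul, hwr, one_pow, inv_one]
        · rw [hd i a b c, one_pow]
      have hdet : (Matrix.diagonal d).det = 1 := by
        rw [Matrix.det_diagonal, ← Finset.prod_subset (Finset.subset_univ {i₀, i₁, i₂}) fun i _ hi => ?_,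
          Finset.prod_insert (by simp [h01, h02]), Finset.prod_insert (by simp [h12]), Finset.prod_singleton,
          hd0, hd1, hd2]
        · field_simp
        · simp at hi
          exact hd i hi.1 hi.2.1 hi.2.2
      refine ⟨⟨Matrix.diagonal d, hdet⟩, ?_, ?_, ?_⟩
      · change Matrix.diagonal d ^ r = 1
        rw [Matrix.diagonal_pow, ← Matrix.diagonal_one]
        congr 1
        funext i
        exact hdr i
      · intro z hz
        change Matrix.diagonal d = _ at hz
        set i₃ : Fin n := ⟨3, by omega⟩
        have e0 := congrFun (congrFun hz i₀) i₀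
        have e3 := congrFun (congrFun hz i₃) i₃
        simp [hd0] at e0
        simp [hd i₃ (by simp [i₀, i₃]) (by simp [i₁, i₃]) (by simp [i₂, i₃])] at e3
        exact hw1 (e0.trans e3.symm)
      · intro Y μ hμ0 hY hYr _ hk _
        have hcnt : ∀ c : F, c ≠ 0 → (Finset.univ.filter fun i => d i = c).card =
            (Finset.univ.filter fun i => d i = μ / c).card := by
          intro c hc
          have e1 := CfsgLib.Derange.finrank_ker_similitude hf Y hμ0 hc hY
          have a1 := (Y - c • 1).finrank_range_add_finrank_ker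
          have a2 := (Y - (μ / c) • 1).finrank_range_add_finrank_ker
          rw [Module.finrank_fin_fun, hk] at a1 a2
          have b1 := rank_diag d c
          have b2 := rank_diag d (μ / c)
          change (Matrix.diagonal d - c • 1).rank + _ = n at a1
          change (Matrix.diagonal d - (μ / c) • 1).rank + _ = n at a2
          omega
        by_cases hμ1 : μ = 1
        · subst hμ1
          have heven := CfsgLib.Derange.even_finrank_range hf Y (M := r) hrF hYr (fun u v => by simpa using hY u v)
          rw [← one_smul F (1 : Module.End F (Fin n → F)), hk] at heven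
          change Even (Matrix.diagonal d - (1 : F) • 1).rank at heven
          have b1 := rank_diag d 1
          have hc : (Finset.univ.filter fun i => d i = 1) = Finset.univ \ {i₀, i₁, i₂} := by
            ext i
            simp
            constructor
            · intro h
              refine ⟨?_, ?_, ?_⟩ <;> rintro rfl
              · exact hw1 (hd0 ▸ h)
              · exact hw1 (hd1 ▸ h)
              · rw [hd2, inv_eq_one] at h
                have := Nat.le_of_dvd two_pos (hw ▸ orderOf_dvd_of_pow_eq_one h)
                have := hr.two_le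
                omega
            · rintro ⟨a, b, c⟩
              exact hd i a b c
          rw [hc, Finset.card_sdiff, Finset.inter_univ, Finset.card_univ, Fintype.card_fin,
            Finset.card_eq_three.mpr ⟨_, _, _, h01, h02, h12, rfl⟩] at b1
          obtain ⟨j, hj⟩ := heven
          omega
        · refine count_ne hn he hr2 hgap hw hμ1 i₀ i₁ i₂ h01 h02 h12 d hd0 hd1 hd2 hd ?_ (hcnt w hw0)
          have := hcnt 1 one_ne_zero
          rwa [div_one] at this
    · set i := orderOf (q : ZMod r)
      have hiodd : Odd i := Odd.of_dvd_nat ⟨t, rfl⟩ hti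
      have hin : i ≤ n := (Nat.le_of_dvd (by omega) hti).trans htn
      obtain ⟨g, hg, hgs, -⟩ := CfsgLib.Derange.exists_sl_pow_one (n := i) (p := p) hq hr hrp hi (l := 0) (e := 1)
        le_rfl (by rw [zero_add, one_mul])
      set G := Matrix.toLin' (g : Matrix (Fin i) (Fin i) F)
      have hinj : LinearMap.ker (G - 1) = ⊥ := by
        rw [Submodule.eq_bot_iff]
        intro v hv
        by_contra hv0
        obtain ⟨a, b, ha, hb, hab⟩ := (hgs.exists_invariant_iff 1).mp
          ⟨Submodule.span F {v}, finrank_span_singleton hv0, fun x hx => by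
            rw [Submodule.mem_span_singleton] at hx ⊢
            obtain ⟨s, rfl⟩ := hx
            rw [LinearMap.mem_ker, LinearMap.sub_apply, Module.End.one_apply, sub_eq_zero] at hv
            exact ⟨s, by rw [map_smul, hv]⟩⟩
        rcases (show b = 0 ∨ b = 1 by omega) with rfl | rfl <;> omega
      let L : (Fin n → F) ≃ₗ[F] (Fin i → F) × (Fin (n - i) → F) :=
        LinearEquiv.ofFinrankEq _ _ (by
          rw [Module.finrank_prod, Module.finrank_fin_fun, Module.finrank_fin_fun, Module.finrank_fin_fun]
          omega)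
      set T : Module.End F (Fin n → F) := L.symm.conj (G.prodMap (LinearMap.id : Module.End F (Fin (n - i) → F)))
      have hTdet : (LinearMap.toMatrix' T).det = 1 := by
        rw [LinearMap.det_toMatrix', show LinearMap.det T = LinearMap.det (G.prodMap (LinearMap.id : Module.End F (Fin (n - i) → F))) by
            rw [show T = (L.symm.toLinearMap) ∘ₗ (G.prodMap LinearMap.id) ∘ₗ (L.symm.symm.toLinearMap) by
              simp [T, LinearEquiv.conj_apply, LinearMap.comp_assoc]]
            exact LinearMap.det_conj _ L.symm, LinearMap.det_prodMap,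
          LinearMap.det_id, mul_one, LinearMap.det_toLin', g.det_coe]
      have hTpow : ∀ k v, (T ^ k) v = L.symm ((G ^ k) (L v).1, (L v).2) := by
        intro k
        induction k with
        | zero => intro v; simp
        | succ k ih =>
          intro v
          rw [pow_succ', Module.End.mul_apply, ih, pow_succ']
          simp [T, LinearEquiv.conj_apply]
      have hTr : T ^ r = 1 := by
        refine LinearMap.ext fun v => ?_
        rw [hTpow, ← CfsgLib.Derange.toLin'_pow, ← Matrix.SpecialLinearGroup.coe_pow, hg,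
          Matrix.SpecialLinearGroup.coe_one, Matrix.toLin'_one]
        simp
      have hrange : Module.finrank F (LinearMap.range (T - 1)) = i := by
        have hker : Module.finrank F (LinearMap.ker (T - 1)) = n - i := by
          have : LinearMap.ker (T - 1) = (LinearMap.ker ((LinearMap.fst F (Fin i → F) (Fin (n - i) → F)) ∘ₗ (L : (Fin n → F) →ₗ[F] _))) := by
            ext v
            rw [LinearMap.mem_ker, LinearMap.mem_ker, LinearMap.sub_apply, Module.End.one_apply, sub_eq_zero,
              ← pow_one T, hTpow, pow_one, LinearEquiv.symm_apply_eq, Prod.ext_iff]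
            constructor
            · intro h
              have h' : (L v).1 ∈ LinearMap.ker (G - 1) := by
                rw [LinearMap.mem_ker, LinearMap.sub_apply, Module.End.one_apply, sub_eq_zero]
                exact h.1
              rw [hinj, Submodule.mem_bot] at h'
              exact h'
            · intro h
              change (L v).1 = 0 at h
              simp [h]
          rw [this]
          have h1 := ((LinearMap.fst F (Fin i → F) (Fin (n - i) → F)) ∘ₗ (L : (Fin n → F) →ₗ[F] _)).finrank_range_add_finrank_ker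
          rw [LinearMap.range_comp, LinearEquiv.range, Submodule.map_top, Submodule.range_fst, finrank_top,
            Module.finrank_fin_fun, Module.finrank_fin_fun] at h1
          omega
        have := (T - 1).finrank_range_add_finrank_ker
        rw [Module.finrank_fin_fun, hker] at this
        omega
      refine ⟨⟨LinearMap.toMatrix' T, hTdet⟩, ?_, ?_, ?_⟩
      · change LinearMap.toMatrix' T ^ r = 1
        refine Matrix.toLin'.injective ?_
        rw [CfsgLib.Derange.toLin'_pow, Matrix.toLin'_toMatrix', hTr, Matrix.toLin'_one]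
        rfl
      · intro z hz
        change LinearMap.toMatrix' T = _ at hz
        have hT1 : T = z • 1 := by rw [← CfsgLib.Derange.toLin'_smul_one, ← hz, Matrix.toLin'_toMatrix']
        rcases eq_or_ne z 1 with rfl | hz1
        · rw [hT1, one_smul, sub_self, LinearMap.range_zero, finrank_bot] at hrange
          omega
        · have hs : T - 1 = (z - 1) • (1 : Module.End F (Fin n → F)) := by
            rw [hT1]; module
          rw [hs, LinearMap.range_smul _ _ (sub_ne_zero.mpr hz1), Module.End.one_eq_id, LinearMap.range_id,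
            finrank_top, Module.finrank_fin_fun] at hrange
          subst hrange
          exact Nat.not_even_iff_odd.mpr hiodd he
      · intro Y μ hμ0 hY hYr hμr hk _
        have hμ1 : μ = 1 := by
          by_contra hne
          have h1 := orderOf_eq_prime hμr hne
          have h2 := orderOf_dvd_of_pow_eq_one (FiniteField.pow_card_sub_one_eq_one μ hμ0)
          rw [h1, hq] at h2
          have := hi1.mpr h2
          omega
        subst hμ1
        have heven := CfsgLib.Derange.even_finrank_range hf Y (M := r) hrF hYr (fun u v => by simpa using hY u v)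
        rw [← one_smul F (1 : Module.End F (Fin n → F)), hk] at heven
        have he' : (LinearMap.toMatrix' T - (1 : F) • 1).rank = i := by
          rw [Matrix.rank, ← Matrix.toLin'_apply', map_sub, Matrix.toLin'_toMatrix', one_smul, Matrix.toLin'_one]
          exact hrange
        change Even (LinearMap.toMatrix' T - (1 : F) • 1).rank at heven
        rw [he'] at heven
        exact Nat.not_even_iff_odd.mpr hiodd heven

end Cfsg.Agent.S5968
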