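import Cfsg.Statements.S5969
import Cfsg.Agent.Lib.Derange.QuadField

set_option autoImplicit false
open scoped MatrixGroups
open Cfsg

namespace Cfsg.Agent.S5969

/-- Involutions of PSL_n(q) and extension-field subgroups of degree 2. Here `T = PSL_n(F)` for a field `F` with `q = p^f` elements (`n ≥ 2`, `(n, q) ≠ (2, 2), (2, 3)`), `k` is a prime dividing `n`, `K` is a subalgebra of the `n × n` matrices that is a field of degree `k` over `F` (an extension-field structure F_{q^k} on `F^n`), and `H` is the subgroup of matrices of determinant 1 normalizing `K` — a subgroup of type GL_{n/k}(q^k) (maximal except in some small cases; maximality is not assumed); Ω is the set of cosets of `H` in `T`, so an element of `T` of prime order `r` (a matrix `x` of determinant 1 with `x^r` scalar, `x` not scalar) fixes a point of Ω when some conjugate of `x` by a matrix of determinant 1 normalizes `K`. Take `k = 2` and suppose the index of `H` is even. Then every involution of `T` is conjugate in `T` into `H` if and only if `n = 2`, or `q` is odd and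 `(q − 1)_2 ≤ (n)_2`. -/
theorem result {F : Type*} [Field F] [Fintype F] {p : ℕ} [Fact p.Prime] [CharP F p] {q : ℕ} (hq : Fintype.card F = q)
    (n : ℕ) (hn : 2 ≤ n) (hT : (n, q) ≠ (2, 2) ∧ (n, q) ≠ (2, 3))
    (k : ℕ) (hk : k.Prime) (hkn : k ∣ n) (K : Subalgebra F (Matrix (Fin n) (Fin n) F)) (hK : Cfsg.Geo.IsFieldSubalgebra k K) (hk2 : k = 2) (hΩ : 2 ∣ ((Cfsg.Geo.subalgebraNormalizer K).comap (Matrix.SpecialLinearGroup.toGL : Matrix.SpecialLinearGroup (Fin n) F →* GL (Fin n) F)).index) :
    (∀ x : Matrix.SpecialLinearGroup (Fin n) F,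
      (∃ z : F, ((x ^ 2 : Matrix.SpecialLinearGroup (Fin n) F) : Matrix (Fin n) (Fin n) F) = z • (1 : Matrix (Fin n) (Fin n) F)) →
      (∀ z : F, (x : Matrix (Fin n) (Fin n) F) ≠ z • (1 : Matrix (Fin n) (Fin n) F)) →
      ∃ P : Matrix.SpecialLinearGroup (Fin n) F, P⁻¹ * x * P ∈ ((Cfsg.Geo.subalgebraNormalizer K).comap (Matrix.SpecialLinearGroup.toGL : Matrix.SpecialLinearGroup (Fin n) F →* GL (Fin n) F))) ↔
    (n = 2 ∨ (Odd q ∧ padicValNat 2 (q - 1) ≤ padicValNat 2 n)) := by
  classical
  subst hk2
  have hp : p.Prime := Fact.out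
  obtain ⟨fe, -, hfe⟩ := FiniteField.card F p
  have hn1 : 1 ≤ n := by omega
  haveI : Nonempty (Fin n) := ⟨⟨0, hn1⟩⟩
  have two_ne : Odd q → (2 : F) ≠ 0 := fun h => by
    refine Ring.two_ne_zero fun h2 => ?_
    have h1 := FiniteField.even_card_iff_char_two.mp h2
    rw [hq] at h1
    have := Nat.odd_iff.mp h
    omega
  constructor
  · intro h
    by_contra hcon
    push Not at hcon
    obtain ⟨hn2, hcon⟩ := hcon
    have hn3 : 3 ≤ n := by omega
    obtain ⟨x, c, N, hc, hN, hx, hx2, hxs⟩ : ∃ (x : Matrix.SpecialLinearGroup (Fin n) F) (c : F)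
        (N : Matrix (Fin n) (Fin n) F), c ≠ 0 ∧ N.rank = 1 ∧ (x : Matrix (Fin n) (Fin n) F) = c • (1 + N) ∧
        (∃ z : F, (x : Matrix (Fin n) (Fin n) F) ^ 2 = z • 1) ∧
        ∀ b : F, (x : Matrix (Fin n) (Fin n) F) ≠ b • 1 := by
      set i₀ : Fin n := ⟨0, hn1⟩
      set i₁ : Fin n := ⟨1, by omega⟩
      have h01 : i₀ ≠ i₁ := by simp [i₀, i₁]
      have hrank : ∀ (i j : Fin n) (b : F), b ≠ 0 → (Matrix.single i j b).rank = 1 := by
        intro i j b hb
        refine le_antisymm ?_ ?_
        · rw [← mul_one b, ← smul_eq_mul, ← Matrix.smul_single, show Matrix.single i j (1 : F) =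
            Matrix.vecMulVec (Pi.single i 1) (Pi.single j 1) by
              ext a c
              simp [Matrix.single_apply, Matrix.vecMulVec_apply, Pi.single_apply, eq_comm, ite_and]
              split_ifs <;> simp_all,
            ← Matrix.smul_vecMulVec]
          exact Matrix.rank_vecMulVec_le _ _
        · rw [Nat.one_le_iff_ne_zero, Matrix.rank, Ne, Submodule.finrank_eq_zero, LinearMap.range_eq_bot]
          intro h0
          have := congrFun (LinearMap.congr_fun h0 (Pi.single j 1)) i
          simp [hb] at this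
      rcases Nat.even_or_odd q with heven | hodd
      · have h2 : (2 : F) = 0 := by
          have h1 : ringChar F = 2 := FiniteField.even_card_iff_char_two.mpr (by rw [hq]; exact Nat.even_iff.mp heven)
          haveI : CharP F 2 := h1 ▸ ringChar.charP F
          exact CharTwo.two_eq_zero
        refine ⟨⟨Matrix.transvection i₀ i₁ 1, Matrix.det_transvection_of_ne i₀ i₁ h01 1⟩, 1, _, one_ne_zero,
          hrank i₀ i₁ 1 one_ne_zero, ?_, ⟨1, ?_⟩, ?_⟩
        · rw [one_smul]; rfl
        · change Matrix.transvection i₀ i₁ (1 : F) ^ 2 = _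
          rw [sq, Matrix.transvection_mul_transvection_same i₀ i₁ h01, one_add_one_eq_two, h2,
            Matrix.transvection_zero, one_smul]
        · intro b hb
          have := congrFun (congrFun hb i₀) i₁
          simp [Matrix.transvection, h01] at this
      · obtain ⟨a, han, h2⟩ := CfsgLib.Derange.exists_pow_eq_neg_one hq hn1 (hcon hodd)
        have ha0 : a ≠ 0 := by
          rintro rfl
          rw [zero_pow (by omega)] at han
          exact neg_ne_zero.mpr one_ne_zero han.symm
        have hne : Even n := even_iff_two_dvd.mpr hkn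
        set M : Matrix (Fin n) (Fin n) F := Matrix.diagonal fun i => if i = i₀ then a else -a with hM
        have hdet : M.det = 1 := by
          have hfac : ∀ i : Fin n, (if i = i₀ then a else -a) = (-a) * (if i = i₀ then -1 else 1) := fun i => by
            split_ifs <;> ring
          rw [hM, Matrix.det_diagonal, Finset.prod_congr rfl fun i _ => hfac i, Finset.prod_mul_distrib,
            Finset.prod_const, Finset.card_univ, Fintype.card_fin, hne.neg_pow, han, Finset.prod_ite_eq']
          simp
        refine ⟨⟨M, hdet⟩, -a, Matrix.single i₀ i₀ (-2), neg_ne_zero.mpr ha0,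
          hrank i₀ i₀ _ (neg_ne_zero.mpr h2), ?_, ⟨a * a, ?_⟩, ?_⟩
        · change M = _
          ext i j
          rcases eq_or_ne i j with rfl | hij
          · rcases eq_or_ne i i₀ with rfl | hi
            · simp [hM]; ring
            · simp [hM, hi, Ne.symm hi]
          · rw [hM, Matrix.diagonal_apply_ne _ hij, Matrix.smul_apply, Matrix.add_apply, Matrix.one_apply_ne hij,
              Matrix.single_apply, if_neg (fun h => hij (h.1.symm.trans h.2)), add_zero, smul_zero]
        · change M ^ 2 = _
          rw [hM, Matrix.diagonal_pow, Matrix.smul_one_eq_diagonal]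
          congr 1
          funext i
          rw [Pi.pow_apply]
          split_ifs <;> ring
        · intro b hb
          change M = _ at hb
          have e0 := congrFun (congrFun hb i₀) i₀
          have e1 := congrFun (congrFun hb i₁) i₁
          simp [hM, h01.symm] at e0 e1
          have : (2 : F) * a = 0 := by linear_combination e0 - e1
          simp [h2, ha0] at this
    obtain ⟨z, hz⟩ := hx2
    obtain ⟨P, hP⟩ := h x ⟨z, by rw [Matrix.SpecialLinearGroup.coe_pow, hz]⟩ hxs
    rw [Subgroup.mem_comap, map_mul, map_mul, map_inv] at hP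
    set Q : GL (Fin n) F := Matrix.SpecialLinearGroup.toGL P
    set R : Matrix (Fin n) (Fin n) F := ((Q⁻¹ : GL (Fin n) F) : Matrix (Fin n) (Fin n) F)
    refine CfsgLib.Derange.not_normalize hn3 hK _ hc (N := R * N * (Q : Matrix (Fin n) (Fin n) F)) ?_ ?_ hP
    · rw [Matrix.rank_mul_eq_left_of_isUnit_det _ _ ((Matrix.isUnit_iff_isUnit_det _).mp Q.isUnit),
        Matrix.rank_mul_eq_right_of_isUnit_det _ _ ((Matrix.isUnit_iff_isUnit_det _).mp (Q⁻¹).isUnit), hN]
    · rw [Units.val_mul, Units.val_mul]
      show R * (x : Matrix (Fin n) (Fin n) F) * (Q : Matrix (Fin n) (Fin n) F) = _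
      rw [hx, Matrix.mul_smul, Matrix.smul_mul, mul_add, add_mul, mul_one,
        show R * (Q : Matrix (Fin n) (Fin n) F) = 1 from Q.inv_mul]
  · intro hR x hx hxs
    obtain ⟨z, hz⟩ := hx
    rw [Matrix.SpecialLinearGroup.coe_pow] at hz
    have hz0 := CfsgLib.Derange.sq_scalar_ne_zero hn1 (by rw [x.det_coe]; exact one_ne_zero) hz
    suffices hs : ∃ B : GL (Fin n) F, B⁻¹ * Matrix.SpecialLinearGroup.toGL x * B ∈ Cfsg.Geo.subalgebraNormalizer K by
      obtain ⟨B, hB⟩ := hs
      exact CfsgLib.Derange.exists_sl_conj (p := p) hn1 _ x hz B hB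
    have mkUnit : ∀ (J : Matrix (Fin n) (Fin n) F) (w : F), w ≠ 0 → J ^ 2 = w • 1 →
        ∃ g : GL (Fin n) F, (g : Matrix (Fin n) (Fin n) F) = J := by
      intro J w hw hJ
      refine ⟨Matrix.GeneralLinearGroup.mkOfDetNeZero J fun h0 => ?_, rfl⟩
      have := congrArg Matrix.det hJ
      rw [Matrix.det_pow, h0, zero_pow two_ne_zero, Matrix.det_smul, Matrix.det_one, mul_one] at this
      exact pow_ne_zero _ hw this.symm
    have nonscalar : ∀ (J : Matrix (Fin n) (Fin n) F) (w : F), ¬ IsSquare w → J ^ 2 = w • 1 →
        ∀ c : F, J ≠ c • 1 := by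
      intro J w hw hJ c hc
      rw [hc, smul_pow, one_pow] at hJ
      exact hw ⟨c, by rw [← smul_left_injective F one_ne_zero hJ, sq]⟩
    by_cases hsq : IsSquare z
    · obtain ⟨a, rfl⟩ := hsq
      have ha0 : a ≠ 0 := fun h => hz0 (by rw [h, mul_zero])
      by_cases hn2 : n = 2
      · obtain ⟨g, hg, hgs, hgK⟩ := CfsgLib.Derange.exists_semilinear_two hn2 hK ha0
        obtain ⟨B, hB⟩ := CfsgLib.Derange.exists_conj_two hn2 (Matrix.SpecialLinearGroup.toGL x) g hz hg hxs hgs
        exact ⟨B, hB ▸ hgK⟩
      · obtain ⟨hodd, hv⟩ := hR.resolve_left hn2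
        have h2 := two_ne hodd
        have hTx : Matrix.toLin' (x : Matrix (Fin n) (Fin n) F) ^ 2 = (a * a) • 1 := by
          rw [← CfsgLib.Derange.toLin'_pow, hz, CfsgLib.Derange.toLin'_smul_one]
        obtain ⟨l, r, b, hlr, hbl, hbr, hdet⟩ :=
          CfsgLib.Derange.exists_eigen_basis h2 (Matrix.toLin' (x : Matrix (Fin n) (Fin n) F)) ha0 hTx
        rw [LinearMap.det_toLin', x.det_coe] at hdet
        obtain ⟨r', hr'⟩ : Even r := by
          by_contra hr
          rw [Nat.not_even_iff_odd] at hr
          rw [hr.neg_pow, mul_neg, ← pow_add, hlr, eq_neg_iff_add_eq_zero] at hdet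
          exact CfsgLib.Derange.pow_ne_neg_one hq h2 hn1 hv a (eq_neg_of_add_eq_zero_right hdet)
        obtain ⟨l', hl'⟩ : Even l := by
          have he : Even n := even_iff_two_dvd.mpr hkn
          rw [← hlr, Nat.even_add] at he
          exact he.mpr ⟨r', hr'⟩
        obtain ⟨ν, hν⟩ := FiniteField.exists_nonsquare (F := F) (by
          intro h; exact h2 (by haveI : CharP F 2 := h ▸ ringChar.charP F; exact CharTwo.two_eq_zero))
        obtain ⟨J, hJ, hJ2⟩ := CfsgLib.Derange.exists_sq hn1 hK ν
        have hTJ : Matrix.toLin' J ^ 2 = ν • 1 := by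
          rw [← CfsgLib.Derange.toLin'_pow, hJ2, CfsgLib.Derange.toLin'_smul_one]
        obtain ⟨m, c, hc1, hc2⟩ := CfsgLib.Derange.exists_pair_basis (Matrix.toLin' J) hTJ hν
        have hm : m = l' + r' := by
          have := Module.finrank_eq_card_basis c
          simp only [Module.finrank_fin_fun, Fintype.card_sum, Fintype.card_fin] at this
          omega
        let τ : Fin m ≃ Fin l' ⊕ Fin r' := (finCongr hm).trans finSumFinEquiv.symm
        let s : Fin m → F := fun i => Sum.elim (fun _ => a) (fun _ => -a) (τ i)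
        set Y : Module.End F (Fin n → F) := c.constr F (Sum.elim (fun i => s i • c (.inl i)) fun i => s i • c (.inr i))
        have hYl : ∀ i, Y (c (.inl i)) = s i • c (.inl i) := fun i => by simp [Y]
        have hYr : ∀ i, Y (c (.inr i)) = s i • c (.inr i) := fun i => by simp [Y]
        have hs2 : ∀ i, s i * s i = a * a := fun i => by rcases h : τ i with t | t <;> simp [s, h]
        set M := LinearMap.toMatrix' Y
        have hM2 : M ^ 2 = (a * a) • 1 := Matrix.toLin'.injective (c.ext fun i => by
          rw [CfsgLib.Derange.toLin'_pow, Matrix.toLin'_toMatrix', CfsgLib.Derange.toLin'_smul_one, sq,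
            Module.End.mul_apply, LinearMap.smul_apply, Module.End.one_apply]
          rcases i with i | i
          · rw [hYl, map_smul, hYl, smul_smul, hs2]
          · rw [hYr, map_smul, hYr, smul_smul, hs2])
        obtain ⟨g, hg⟩ := mkUnit M _ hz0 hM2
        let σ : Fin m ⊕ Fin m ≃ Fin l ⊕ Fin r :=
          (Equiv.sumCongr τ τ).trans ((Equiv.sumSumSumComm _ _ _ _).trans
            (Equiv.sumCongr (finSumFinEquiv.trans (finCongr hl'.symm)) (finSumFinEquiv.trans (finCongr hr'.symm))))
        obtain ⟨B, hB⟩ := CfsgLib.Derange.exists_conj_of_bases (Matrix.SpecialLinearGroup.toGL x) g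
          (b.reindex σ.symm) c id (Sum.elim s s) (fun i => by
            simp only [Module.Basis.reindex_apply, Equiv.symm_symm, id]
            rcases i with i | i <;> rcases h : τ i with t | t
            all_goals simp only [σ, Equiv.trans_apply, Equiv.sumCongr_apply, Sum.map_inl, Sum.map_inr, h,
              Equiv.sumSumSumComm_apply, Sum.elim_inl, Sum.elim_inr, s]
            all_goals first | exact hbl _ | exact hbr _)
          (fun i => by
            rw [hg, Matrix.toLin'_toMatrix']
            rcases i with i | i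
            · exact hYl i
            · exact hYr i)
        refine ⟨B, hB ▸ CfsgLib.Derange.mem_normalizer_of_commute hn1 hK hJ (nonscalar J ν hν hJ2) g ?_⟩
        rw [hg]
        refine Matrix.toLin'.injective ?_
        show Matrix.toLin' (M * J) = Matrix.toLin' (J * M)
        rw [Matrix.toLin'_mul, Matrix.toLin'_mul, Matrix.toLin'_toMatrix']
        refine c.ext fun i => ?_
        rw [LinearMap.comp_apply, LinearMap.comp_apply]
        rcases i with i | i
        · rw [hc1, hYr, hYl, map_smul, hc1]
        · rw [hc2, map_smul, hYl, hYr, map_smul, hc2, smul_comm]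
    · obtain ⟨J, hJ, hJ2⟩ := CfsgLib.Derange.exists_sq hn1 hK z
      obtain ⟨g, hg⟩ := mkUnit J z hz0 hJ2
      have hTx : Matrix.toLin' (x : Matrix (Fin n) (Fin n) F) ^ 2 = z • 1 := by
        rw [← CfsgLib.Derange.toLin'_pow, hz, CfsgLib.Derange.toLin'_smul_one]
      have hTJ : Matrix.toLin' J ^ 2 = z • 1 := by
        rw [← CfsgLib.Derange.toLin'_pow, hJ2, CfsgLib.Derange.toLin'_smul_one]
      obtain ⟨i, b, hb1, hb2⟩ := CfsgLib.Derange.exists_pair_basis _ hTx hsq
      obtain ⟨j, c, hc1, hc2⟩ := CfsgLib.Derange.exists_pair_basis _ hTJ hsq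
      have hij : i = j := by
        have e1 := Module.finrank_eq_card_basis b
        have e2 := Module.finrank_eq_card_basis c
        simp only [Module.finrank_fin_fun, Fintype.card_sum, Fintype.card_fin] at e1 e2
        omega
      subst hij
      obtain ⟨B, hB⟩ := CfsgLib.Derange.exists_conj_of_bases (Matrix.SpecialLinearGroup.toGL x) g b c
        Sum.swap (Sum.elim 1 fun _ => z)
        (fun l => by
          rcases l with l | l
          · simpa using hb1 l
          · simpa using hb2 l)
        (fun l => by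
          rw [hg]
          rcases l with l | l
          · simpa using hc1 l
          · simpa using hc2 l)
      exact ⟨B, hB ▸ CfsgLib.Derange.mem_normalizer_of_commute hn1 hK hJ (nonscalar J z hsq hJ2) g
        (by rw [hg])⟩

end Cfsg.Agent.S5969
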