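import Cfsg.Statements.S5970
import Cfsg.Agent.Lib.Derange.SingerCases

set_option autoImplicit false
open scoped MatrixGroups Matrix
open Cfsg

namespace Cfsg.Agent.S5970

/-- Elements of order `n` of PSL_n(q), `n` prime, and the normalizer of a Singer cycle. Here `T = PSL_n(F)` for a field `F` with `q = p^f` elements (`n ≥ 2`, `(n, q) ≠ (2, 2), (2, 3)`), `k` is a prime dividing `n`, `K` is a subalgebra of the `n × n` matrices that is a field of degree `k` over `F` (an extension-field structure F_{q^k} on `F^n`), and `H` is the subgroup of matrices of determinant 1 normalizing `K` — a subgroup of type GL_{n/k}(q^k) (maximal except in some small cases; maximality is not assumed); Ω is the set of cosets of `H` in `T`, so an element of `T` of prime order `r` (a matrix `x` of determinant 1 with `x^r` scalar, `x` not scalar) fixes a point of Ω when some conjugate of `x` by a matrix of determinant 1 normalizes `K`. Take `k = n > 3` prime with `n ≠ p` (so `H` is the normalizer of a Singer cycle), and suppose `n` divides the index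 of `H`. Then every element of `T` of order `n` is conjugate in `T` into `H` if and only if the multiplicative order of `q` modulo `n` is `n − 1`. -/
theorem result {F : Type*} [Field F] [Fintype F] {p : ℕ} [Fact p.Prime] [CharP F p] {q : ℕ} (hq : Fintype.card F = q)
    (n : ℕ) (hn : 2 ≤ n) (hT : (n, q) ≠ (2, 2) ∧ (n, q) ≠ (2, 3))
    (k : ℕ) (hk : k.Prime) (hkn : k ∣ n) (K : Subalgebra F (Matrix (Fin n) (Fin n) F)) (hK : Cfsg.Geo.IsFieldSubalgebra k K) (hkn' : k = n) (hn3 : 3 < n) (hnp : n ≠ p) (hΩ : n ∣ ((Cfsg.Geo.subalgebraNormalizer K).comap (Matrix.SpecialLinearGroup.toGL : Matrix.SpecialLinearGroup (Fin n) F →* GL (Fin n) F)).index) :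
    (∀ x : Matrix.SpecialLinearGroup (Fin n) F,
      (∃ z : F, ((x ^ n : Matrix.SpecialLinearGroup (Fin n) F) : Matrix (Fin n) (Fin n) F) = z • (1 : Matrix (Fin n) (Fin n) F)) →
      (∀ z : F, (x : Matrix (Fin n) (Fin n) F) ≠ z • (1 : Matrix (Fin n) (Fin n) F)) →
      ∃ P : Matrix.SpecialLinearGroup (Fin n) F, P⁻¹ * x * P ∈ ((Cfsg.Geo.subalgebraNormalizer K).comap (Matrix.SpecialLinearGroup.toGL : Matrix.SpecialLinearGroup (Fin n) F →* GL (Fin n) F))) ↔
    orderOf (q : ZMod n) = n - 1 := by
  classical
  subst hkn'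
  have hp : p.Prime := Fact.out
  haveI := Fact.mk hk
  obtain ⟨hi0, hid, hi1⟩ := CfsgLib.Derange.orderOf_mod (p := p) hq hk hnp
  refine ⟨fun h => ?_, fun hi x hx hxs => ?_⟩
  · by_contra hne
    obtain ⟨j, g, hj2, hjk, hg, hinj⟩ : ∃ (j : ℕ) (g : Matrix.SpecialLinearGroup (Fin j) F),
        2 ≤ j ∧ j + 2 ≤ k ∧ g ^ k = 1 ∧ ∀ v, (g : Matrix (Fin j) (Fin j) F) *ᵥ v = v → v = 0 := by
      rcases (show orderOf (q : ZMod k) = 1 ∨ 2 ≤ orderOf (q : ZMod k) by omega) with h1 | h1
      · obtain ⟨u, hu⟩ := exists_prime_orderOf_dvd_card' k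
          (show k ∣ Nat.card Fˣ by rw [Nat.card_eq_fintype_card, Fintype.card_units, hq]; exact hi1.mp h1)
        have huk : (u : F) ^ k = 1 := by rw [← Units.val_pow_eq_pow_val, ← hu, pow_orderOf_eq_one, Units.val_one]
        have hu1 : (u : F) ≠ 1 := fun h' => by
          rw [← orderOf_units, h', orderOf_one] at hu
          omega
        let d : Fin 2 → F := ![(u : F), (u : F)⁻¹]
        have hd : ∀ i, d i ^ k = 1 ∧ d i ≠ 1 := by
          intro i
          fin_cases i
          · exact ⟨huk, hu1⟩
          · exact ⟨by simp [d, inv_pow, huk], by simpa [d] using hu1⟩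
        refine ⟨2, ⟨Matrix.diagonal d, by simp [d]⟩, le_rfl, by omega, ?_, fun v hv => ?_⟩
        · refine Subtype.ext ?_
          show Matrix.diagonal d ^ k = 1
          rw [Matrix.diagonal_pow, ← Matrix.diagonal_one]
          congr 1
          funext i
          exact (hd i).1
        · funext i
          have h2 := congrFun hv i
          change (Matrix.diagonal d *ᵥ v) i = v i at h2
          rw [Matrix.mulVec_diagonal] at h2
          have h3 : (d i - 1) * v i = 0 := by rw [sub_mul, h2, one_mul, sub_self]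
          exact (mul_eq_zero.mp h3).resolve_left (sub_ne_zero.mpr (hd i).2)
      · obtain ⟨g, hg, hgs, -⟩ := CfsgLib.Derange.exists_sl_pow_one (n := orderOf (q : ZMod k)) (p := p) hq hk hnp h1
          (l := 0) (e := 1) le_rfl (by rw [zero_add, one_mul])
        refine ⟨_, g, h1, ?_, hg, fun v hv => ?_⟩
        · obtain ⟨m, hm⟩ := hid
          have hm1 : 1 ≤ m := Nat.one_le_iff_ne_zero.mpr (by rintro rfl; omega)
          rcases hm1.lt_or_eq with hm2 | rfl
          · have := Nat.mul_le_mul_left (orderOf (q : ZMod k)) hm2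
            omega
          · omega
        · by_contra hv0
          obtain ⟨a, b, ha, hb, hab⟩ := (hgs.exists_invariant_iff 1).mp
            ⟨Submodule.span F {v}, finrank_span_singleton hv0, fun y hy => by
              rw [Submodule.mem_span_singleton] at hy ⊢
              obtain ⟨s, rfl⟩ := hy
              exact ⟨s, by rw [map_smul, Matrix.toLin'_apply, hv]⟩⟩
          rcases (show b = 0 ∨ b = 1 by omega) with rfl | rfl <;> omega
    obtain ⟨x, hx, hker⟩ := CfsgLib.Derange.exists_sl_block (n := k) (by omega) g hg hinj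
    have hxs := CfsgLib.Derange.nonscalar_of_ker (by omega) (by omega) hker
    obtain ⟨P, hP⟩ := h x ⟨1, by rw [Matrix.SpecialLinearGroup.coe_pow, hx, one_smul]⟩ hxs
    exact CfsgLib.Derange.not_conj_of_ker hk hK x P hxs (by rw [hker]; omega) hP
  · obtain ⟨z, hz⟩ := hx
    rw [Matrix.SpecialLinearGroup.coe_pow] at hz
    exact CfsgLib.Derange.conj_of_max_order (p := p) hk (by omega) hnp hK hq hi x hz hxs

end Cfsg.Agent.S5970
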