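import Cfsg.Statements.S5971
import Cfsg.Agent.Lib.Derange.SingerCases
import Cfsg.Agent.Lib.Classical.Card

set_option autoImplicit false
open scoped MatrixGroups
open Cfsg

namespace Cfsg.Agent.S5971

open Polynomial in
/-- Three different cube roots of unity. -/
private theorem prod_three {F : Type*} [Field F] {a b c : F} (ha : a ^ 3 = 1) (hb : b ^ 3 = 1) (hc : c ^ 3 = 1)
    (hab : a ≠ b) (hac : a ≠ c) (hbc : b ≠ c) : (X - C a) * (X - C b) * (X - C c) = X ^ 3 - 1 := by
  classical
  have hR : (X ^ 3 - C (1 : F)) ≠ 0 := X_pow_sub_C_ne_zero (by norm_num) 1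
  have hnd : ({a, b, c} : Multiset F).Nodup := by simp [hab, hac, hbc]
  have hle : ({a, b, c} : Multiset F) ≤ (X ^ 3 - C (1 : F)).roots := by
    refine (Multiset.le_iff_subset hnd).mpr fun x hx => ?_
    rw [mem_roots hR, IsRoot, eval_sub, eval_pow, eval_X, eval_C]
    simp at hx
    rcases hx with rfl | rfl | rfl <;> simp [ha, hb, hc]
  have hd := (Multiset.prod_X_sub_C_dvd_iff_le_roots hR ({a, b, c} : Multiset F)).mpr hle
  have he := eq_of_monic_of_dvd_of_natDegree_le (monic_multiset_prod_of_monic _ _ fun x _ => monic_X_sub_C x)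
    (monic_X_pow_sub_C (1 : F) (by norm_num : (3 : ℕ) ≠ 0)) hd (by
      rw [natDegree_X_pow_sub_C, natDegree_multiset_prod_X_sub_C_eq_card]
      simp)
  rw [map_one] at he
  rw [he]
  simp [mul_assoc]

open Polynomial in
/-- A non-scalar `Y` with `Y ^ 3 = 1` and determinant one in dimension three, when `q ≡ 1 (mod 3)`. -/
private theorem charpoly_three {F : Type*} [Field F] [Fintype F] {p : ℕ} [Fact p.Prime] [CharP F p] {q : ℕ}
    (hq : Fintype.card F = q) (h3p : 3 ≠ p) (hi : orderOf (q : ZMod 3) = 1)
    (Y : Module.End F (Fin 3 → F)) (hY : Y ^ 3 = 1) (hdet : LinearMap.det Y = 1) (hns : ∀ a : F, Y ≠ a • 1) :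
    Y.charpoly = X ^ 3 - 1 := by
  classical
  haveI := Fact.mk Nat.prime_three
  obtain ⟨l, e, hs, hle⟩ := CfsgLib.Derange.shape_of_pow_one (p := p) hq Nat.prime_three h3p Y hY
  rw [hi] at hs
  obtain ⟨S₁, S₂, hl, he, hS, h1, h2, hc⟩ := hs.factors
  rw [hi, Module.finrank_fin_fun] at hle
  have hcard : Multiset.card (S₁ + S₂) = 3 := by rw [Multiset.card_add, hl, he]; omega
  have hlin : ∀ P ∈ S₁ + S₂, ∃ a : F, P = X - C a ∧ a ^ 3 = 1 := by
    intro P hP
    have hd : P.natDegree = 1 := by
      rcases Multiset.mem_add.mp hP with h | h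
      · exact h1 P h
      · exact h2 P h
    refine ⟨-P.coeff 0, ?_, ?_⟩
    · conv_lhs => rw [(hS P hP).2.eq_X_add_C hd]
      rw [map_neg, sub_neg_eq_add]
    · have hdvd := CfsgLib.Derange.factor_dvd_pow Y (r := 3) (c := 1) (by rw [one_smul, hY]) (hS P hP).1
        (hc ▸ Multiset.dvd_prod hP)
      have he' : P = X - C (-P.coeff 0) := by
        conv_lhs => rw [(hS P hP).2.eq_X_add_C hd]
        rw [map_neg, sub_neg_eq_add]
      rw [he', dvd_iff_isRoot, IsRoot, eval_sub, eval_pow, eval_X, eval_C, sub_eq_zero] at hdvd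
      exact hdvd
  obtain ⟨P, Q, R, hPQR⟩ := Multiset.card_eq_three.mp hcard
  obtain ⟨a, rfl, ha⟩ := hlin P (by rw [hPQR]; simp)
  obtain ⟨b, rfl, hb⟩ := hlin Q (by rw [hPQR]; simp)
  obtain ⟨c, rfl, hcc⟩ := hlin R (by rw [hPQR]; simp)
  have hchar : Y.charpoly = (X - C a) * (X - C b) * (X - C c) := by
    rw [hc, hPQR]
    simp [mul_assoc]
  have habc : a * b * c = 1 := by
    have h := LinearMap.det_eq_sign_charpoly_coeff Y
    rw [hdet, Module.finrank_fin_fun, hchar, coeff_zero_eq_eval_zero] at h
    simp only [eval_mul, eval_sub, eval_X, eval_C] at h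
    linear_combination -h
  have hne : ¬ (a = b ∧ b = c) := by
    rintro ⟨rfl, rfl⟩
    -- one eigenvalue: scalar
    have hsq := hs.semisimple.minpoly_squarefree
    have hd : minpoly F Y ∣ (X - C a) ^ 3 := by
      have := LinearMap.minpoly_dvd_charpoly Y
      rw [hchar] at this
      rw [show (X - C a) ^ 3 = (X - C a) * (X - C a) * (X - C a) by ring]
      exact this
    obtain ⟨w, hw⟩ := (hsq.dvd_pow_iff_dvd (by norm_num)).mp hd
    have h0 := congrArg (aeval Y) hw
    rw [map_mul, minpoly.aeval, zero_mul, map_sub, aeval_X, aeval_C, sub_eq_zero,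
      Algebra.algebraMap_eq_smul_one] at h0
    exact hns a h0
  have key : ∀ x y z : F, x ^ 3 = 1 → x * y * z = 1 → x = y → y = z := by
    intro x y z hx h hxy
    subst hxy
    have hx0 : x ≠ 0 := fun h0 => by simp [h0] at hx
    have h4 : (x * x) * z = (x * x) * x := by rw [h]; linear_combination -hx
    exact (mul_left_cancel₀ (mul_ne_zero hx0 hx0) h4).symm
  rw [hchar]
  refine prod_three ha hb hcc (fun h => ?_) (fun h => ?_) (fun h => ?_)
  · exact hne ⟨h, key a b c ha habc h⟩
  · have := key a c b ha (by linear_combination habc) h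
    exact hne ⟨h.trans this, this.symm⟩
  · have := key b c a hb (by linear_combination habc) h
    exact hne ⟨(h.trans this).symm, h⟩

/-- Elements of order 3 of PSL_3(q) and the normalizer of a Singer cycle. Here `T = PSL_n(F)` for a field `F` with `q = p^f` elements (`n ≥ 2`, `(n, q) ≠ (2, 2), (2, 3)`), `k` is a prime dividing `n`, `K` is a subalgebra of the `n × n` matrices that is a field of degree `k` over `F` (an extension-field structure F_{q^k} on `F^n`), and `H` is the subgroup of matrices of determinant 1 normalizing `K` — a subgroup of type GL_{n/k}(q^k) (maximal except in some small cases; maximality is not assumed); Ω is the set of cosets of `H` in `T`, so an element of `T` of prime order `r` (a matrix `x` of determinant 1 with `x^r` scalar, `x` not scalar) fixes a point of Ω when some conjugate of `x` by a matrix of determinant 1 normalizes `K`. Take `n = k = 3` and suppose 3 divides the index of `H`. Then every element of `T` of order 3 is conjugate in `T` into `H` if and only if `q ≡ 4, 7`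 or `8 (mod 9)`. -/
theorem result {F : Type*} [Field F] [Fintype F] {p : ℕ} [Fact p.Prime] [CharP F p] {q : ℕ} (hq : Fintype.card F = q)
    (n : ℕ) (hn : n = 3) (k : ℕ) (hk : k.Prime) (hkn : k ∣ n) (K : Subalgebra F (Matrix (Fin n) (Fin n) F)) (hK : Cfsg.Geo.IsFieldSubalgebra k K) (hk3 : k = 3) (hΩ : 3 ∣ ((Cfsg.Geo.subalgebraNormalizer K).comap (Matrix.SpecialLinearGroup.toGL : Matrix.SpecialLinearGroup (Fin n) F →* GL (Fin n) F)).index) :
    (∀ x : Matrix.SpecialLinearGroup (Fin n) F,
      (∃ z : F, ((x ^ 3 : Matrix.SpecialLinearGroup (Fin n) F) : Matrix (Fin n) (Fin n) F) = z • (1 : Matrix (Fin n) (Fin n) F)) →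
      (∀ z : F, (x : Matrix (Fin n) (Fin n) F) ≠ z • (1 : Matrix (Fin n) (Fin n) F)) →
      ∃ P : Matrix.SpecialLinearGroup (Fin n) F, P⁻¹ * x * P ∈ ((Cfsg.Geo.subalgebraNormalizer K).comap (Matrix.SpecialLinearGroup.toGL : Matrix.SpecialLinearGroup (Fin n) F →* GL (Fin n) F))) ↔
    (q % 9 = 4 ∨ q % 9 = 7 ∨ q % 9 = 8) := by
  classical
  subst hk3 hn
  have hp : p.Prime := Fact.out
  haveI := Fact.mk Nat.prime_three
  obtain ⟨fe, -, hfe⟩ := FiniteField.card F p
  have hq2 : 2 ≤ q := hq ▸ Fintype.one_lt_card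
  have noT : ∀ x : Matrix.SpecialLinearGroup (Fin 3) F, ∀ c : F,
      (x : Matrix (Fin 3) (Fin 3) F) ^ 3 = c • 1 → ∀ b : F,
      2 ≤ Module.finrank F (LinearMap.ker (Matrix.toLin' ((x : Matrix (Fin 3) (Fin 3) F) - b • 1))) →
      (∀ z : F, (x : Matrix (Fin 3) (Fin 3) F) ≠ z • 1) →
      ¬ (∀ x : Matrix.SpecialLinearGroup (Fin 3) F,
      (∃ z : F, ((x ^ 3 : Matrix.SpecialLinearGroup (Fin 3) F) : Matrix (Fin 3) (Fin 3) F) = z • (1 : Matrix (Fin 3) (Fin 3) F)) →
      (∀ z : F, (x : Matrix (Fin 3) (Fin 3) F) ≠ z • (1 : Matrix (Fin 3) (Fin 3) F)) →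
      ∃ P : Matrix.SpecialLinearGroup (Fin 3) F, P⁻¹ * x * P ∈ ((Cfsg.Geo.subalgebraNormalizer K).comap (Matrix.SpecialLinearGroup.toGL : Matrix.SpecialLinearGroup (Fin 3) F →* GL (Fin 3) F))) := by
    intro x c hc b hk hs h
    obtain ⟨P, hP⟩ := h x ⟨c, by rw [Matrix.SpecialLinearGroup.coe_pow, hc]⟩ hs
    exact CfsgLib.Derange.not_conj_of_ker Nat.prime_three hK x P hs hk hP
  by_cases h3p : 3 = p
  · subst h3p
    have h30 : q % 3 = 0 := by
      rw [← hq, hfe]
      exact Nat.mod_eq_zero_of_dvd (dvd_pow_self 3 fe.ne_zero) |> id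
    refine iff_of_false ?_ (by omega)
    let x : Matrix.SpecialLinearGroup (Fin 3) F :=
      ⟨Matrix.transvection (0 : Fin 3) (1 : Fin 3) 1,
        Matrix.det_transvection_of_ne (0 : Fin 3) (1 : Fin 3) (by decide) 1⟩
    have hx : (x : Matrix (Fin 3) (Fin 3) F) = 1 + Matrix.single (0 : Fin 3) (1 : Fin 3) 1 := rfl
    refine noT x 1 ?_ 1 ?_ ?_
    · rw [one_smul, hx, add_pow_char_of_commute (p := 3) (Commute.one_left _), one_pow, pow_succ, sq,
        Matrix.single_mul_single_of_ne _ _ _ _ (by decide), zero_mul, add_zero]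
    · rw [hx, one_smul, add_sub_cancel_left]
      have hr : (Matrix.single (0 : Fin 3) (1 : Fin 3) (1 : F)).rank ≤ 1 := by
        rw [show Matrix.single (0 : Fin 3) (1 : Fin 3) (1 : F) =
            Matrix.vecMulVec (Pi.single (0 : Fin 3) (1 : F)) (Pi.single (1 : Fin 3) (1 : F)) by
          ext a c
          fin_cases a <;> fin_cases c <;> simp [Matrix.single_apply, Matrix.vecMulVec_apply]]
        exact Matrix.rank_vecMulVec_le _ _
      rw [Matrix.rank, ← Matrix.toLin'_apply'] at hr
      have h2 := (Matrix.toLin' (Matrix.single (0 : Fin 3) (1 : Fin 3) (1 : F))).finrank_range_add_finrank_ker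
      rw [Module.finrank_fin_fun] at h2
      omega
    · intro z hz
      rw [hx] at hz
      have := congrFun (congrFun hz 0) 1
      simp at this
  obtain ⟨hi0, hid, hi1⟩ := CfsgLib.Derange.orderOf_mod (p := p) hq Nat.prime_three h3p
  have h30 : q % 3 ≠ 0 := fun h => by
    have h1 : 3 ∣ p ^ (fe : ℕ) := hfe ▸ hq.symm ▸ Nat.dvd_of_mod_eq_zero h
    exact h3p ((Nat.prime_dvd_prime_iff_eq Nat.prime_three hp).mp (Nat.prime_three.dvd_of_dvd_pow h1))
  obtain ⟨g, hgK, hgn, hgc⟩ := CfsgLib.Derange.exists_semilinear (by norm_num) hK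
  rcases (show q % 3 = 1 ∨ q % 3 = 2 by omega) with hq3 | hq3
  · have h3q : 3 ∣ q - 1 := by omega
    have hi : orderOf (q : ZMod 3) = 1 := hi1.mpr h3q
    by_cases h9 : q % 9 = 1
    · refine iff_of_false ?_ (by omega)
      obtain ⟨u, hu⟩ := IsCyclic.exists_generator (α := Fˣ)
      have hord : orderOf u = q - 1 := by
        rw [orderOf_eq_card_of_forall_mem_zpowers hu, Nat.card_eq_fintype_card, Fintype.card_units, hq]
      obtain ⟨m, hm⟩ : 9 ∣ q - 1 := by omega
      set b : F := (u : F) ^ m
      have hb9 : b ^ 9 = 1 := by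
        rw [← pow_mul, mul_comm, ← hm, ← hord, ← Units.val_pow_eq_pow_val, pow_orderOf_eq_one, Units.val_one]
      have hb3 : b ^ 3 ≠ 1 := fun h => by
        have h1 := orderOf_dvd_of_pow_eq_one (x := u) (n := m * 3) (Units.ext (by
          rw [Units.val_pow_eq_pow_val, pow_mul, Units.val_one]; exact h))
        rw [hord, hm] at h1
        have := Nat.le_of_dvd (by omega) h1
        omega
      have hb0 : b ≠ 0 := pow_ne_zero _ u.ne_zero
      let d : Fin 3 → F := ![(b ^ 2)⁻¹, b, b]
      let x : Matrix.SpecialLinearGroup (Fin 3) F := ⟨Matrix.diagonal d, by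
        rw [Matrix.det_diagonal, Fin.prod_univ_three]
        simp [d]
        field_simp⟩
      have hx : (x : Matrix (Fin 3) (Fin 3) F) = Matrix.diagonal d := rfl
      have hk : 2 ≤ Module.finrank F (LinearMap.ker (Matrix.toLin' ((x : Matrix (Fin 3) (Fin 3) F) - b • 1))) := by
        rw [hx, Matrix.smul_one_eq_diagonal, Matrix.diagonal_sub]
        have hr : (Matrix.diagonal fun i => d i - b).rank ≤ 1 := by
          rw [Matrix.rank_diagonal, Fintype.card_subtype]
          refine Finset.card_le_one.mpr fun i hi j hj => ?_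
          simp at hi hj
          fin_cases i <;> fin_cases j <;> simp [d] at hi hj ⊢
        rw [Matrix.rank, ← Matrix.toLin'_apply'] at hr
        have h2 := (Matrix.toLin' (Matrix.diagonal fun i => d i - b)).finrank_range_add_finrank_ker
        rw [Module.finrank_fin_fun] at h2
        omega
      refine noT x (b ^ 3) ?_ b hk ?_
      · rw [hx, Matrix.diagonal_pow, Matrix.smul_one_eq_diagonal]
        congr 1
        funext i
        fin_cases i <;> simp [d]
        field_simp
        linear_combination -hb9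
      · intro z hz
        rw [hx] at hz
        have e0 := congrFun (congrFun hz 0) 0
        have e1 := congrFun (congrFun hz 1) 1
        simp [d] at e0 e1
        rw [← e1, inv_eq_iff_eq_inv, ← mul_eq_one_iff_eq_inv₀ hb0] at e0
        exact hb3 (by linear_combination e0)
    · refine iff_of_true (fun x hx hxs => ?_) (by omega)
      obtain ⟨z, hz⟩ := hx
      rw [Matrix.SpecialLinearGroup.coe_pow] at hz
      set T := Matrix.toLin' (x : Matrix (Fin 3) (Fin 3) F) with hTdef
      have hT : T ^ 3 = z • 1 := by rw [hTdef, ← CfsgLib.Derange.toLin'_pow, hz, CfsgLib.Derange.toLin'_smul_one]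
      have hz0 : z ≠ 0 := by
        rintro rfl
        have := congrArg Matrix.det hz
        rw [Matrix.det_pow, x.det_coe, one_pow, zero_smul, Matrix.det_zero] at this
        exact one_ne_zero this
      have hTs := CfsgLib.Derange.semisimple_of_pow_smul (p := p) T Nat.prime_three h3p hz0 hT
      by_cases hb : ∃ b : F, b ^ 3 = z
      · obtain ⟨b, rfl⟩ := hb
        have hb0 : b ≠ 0 := fun h => hz0 (by rw [h, zero_pow (by norm_num)])
        set Y : Module.End F (Fin 3 → F) := b⁻¹ • T with hY
        have hYn : Y ^ 3 = 1 := by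
          rw [hY, _root_.smul_pow, hT, smul_smul, ← mul_pow, inv_mul_cancel₀ hb0, one_pow, one_smul]
        have hYd : LinearMap.det Y = b⁻¹ ^ 3 := by
          rw [hY, LinearMap.det_smul, Module.finrank_fin_fun, hTdef, LinearMap.det_toLin', x.det_coe, mul_one]
        have hb31 : b ^ 3 = 1 := by
          have h1 : (b⁻¹ ^ 3) ^ 3 = 1 := by rw [← hYd, ← map_pow, hYn, map_one]
          have hb9 : b ^ 9 = 1 := by
            rw [inv_pow, inv_pow, inv_eq_one, ← pow_mul] at h1
            exact h1
          by_contra hne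
          have h2 := orderOf_eq_prime_pow (p := 3) (n := 1) (x := b) (by rwa [pow_one]) (by simpa using hb9)
          have h4 := orderOf_dvd_of_pow_eq_one (FiniteField.pow_card_sub_one_eq_one b hb0)
          rw [h2, hq] at h4
          omega
        have hns : ∀ a : F, Y ≠ a • 1 := by
          intro a ha
          refine hxs (b * a) (Matrix.toLin'.injective ?_)
          rw [CfsgLib.Derange.toLin'_smul_one, ← smul_smul, ← ha, hY, smul_smul, mul_inv_cancel₀ hb0, one_smul]
        have hc := charpoly_three hq h3p hi Y hYn (by rw [hYd, inv_pow, hb31, inv_one])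
          hns
        have hTc : T.charpoly = Polynomial.X ^ 3 - 1 := by
          have hns' : ∀ a : F, T ≠ a • 1 := fun a ha => hns (b⁻¹ * a) (by rw [hY, ha, smul_smul])
          exact charpoly_three hq h3p hi T (by rw [hT, hb31, one_smul])
            (by rw [hTdef, LinearMap.det_toLin', x.det_coe]) hns'
        refine CfsgLib.Derange.exists_sl_conj_of_charpoly (by norm_num) _ x g hgK hTs
          (CfsgLib.Derange.semisimple_of_pow_smul (p := p) _ Nat.prime_three h3p one_ne_zero (by
            rw [one_smul, ← CfsgLib.Derange.toLin'_pow, hgn, Matrix.toLin'_one]; rfl)) ?_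
        rw [hgc, ← hTc, hTdef, Matrix.charpoly_toLin']
      · push Not at hb
        obtain ⟨J, hJ, hJn⟩ := CfsgLib.Derange.exists_root (by norm_num) hK hq h3q z
        have hJu : IsUnit J := by
          obtain ⟨w, hw, hJw⟩ := hK.inv J hJ (fun h => by
            rw [h, zero_pow (by norm_num)] at hJn
            exact hz0 ((smul_eq_zero.mp hJn.symm).resolve_right one_ne_zero))
          exact ⟨⟨J, w, hJw, (hK.comm w hw J hJ).trans hJw⟩, rfl⟩
        obtain ⟨h, hh⟩ := hJu
        have hJT : Matrix.toLin' J ^ 3 = z • 1 := by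
          rw [← CfsgLib.Derange.toLin'_pow, hJn, CfsgLib.Derange.toLin'_smul_one]
        have hcomm : ∀ (a : GL (Fin 3) F), (a : Matrix (Fin 3) (Fin 3) F) ∈ K → ∀ w ∈ K,
            (a : Matrix (Fin 3) (Fin 3) F) * w * ((a⁻¹ : GL (Fin 3) F) : Matrix (Fin 3) (Fin 3) F) = w := by
          intro a ha w hw
          rw [hK.comm _ ha w hw, mul_assoc, Units.mul_inv, mul_one]
        have hhK : h ∈ Cfsg.Geo.subalgebraNormalizer K := by
          intro w
          constructor
          · intro hw
            rw [hcomm h (hh ▸ hJ) w hw]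
            exact hw
          · intro hw
            have h1 := hK.comm _ (hh ▸ hJ) _ hw
            have h2 : (h : Matrix (Fin 3) (Fin 3) F) * ((h : Matrix (Fin 3) (Fin 3) F) * w * ((h⁻¹ : GL (Fin 3) F) : Matrix (Fin 3) (Fin 3) F)) =
                (h : Matrix (Fin 3) (Fin 3) F) * w := by
              rw [h1, mul_assoc, Units.inv_mul, mul_one]
            rw [← h.isUnit.mul_left_cancel h2]
            exact hw
        obtain ⟨s, hs, hns⟩ := CfsgLib.Derange.charpoly_of_not_power Nat.prime_three T hT hb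
        obtain ⟨s', hs', hns'⟩ := CfsgLib.Derange.charpoly_of_not_power Nat.prime_three (Matrix.toLin' J) hJT hb
        rw [Module.finrank_fin_fun] at hns hns'
        have e1 : s = 1 := by omega
        have e2 : s' = 1 := by omega
        refine CfsgLib.Derange.exists_sl_conj_of_charpoly (by norm_num) _ x h hhK hTs
          (CfsgLib.Derange.semisimple_of_pow_smul (p := p) _ Nat.prime_three h3p hz0 (by rw [hh, hJT])) ?_
        rw [← Matrix.charpoly_toLin', ← Matrix.charpoly_toLin' (h : Matrix (Fin 3) (Fin 3) F), hh, hs', ← hTdef, hs,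
          e1, e2]
  · have hi : orderOf (q : ZMod 3) = 3 - 1 := by
      have h2 : orderOf (q : ZMod 3) ≤ 2 := Nat.le_of_dvd two_pos hid
      have : orderOf (q : ZMod 3) ≠ 1 := fun h => by
        have := hi1.mp h
        omega
      omega
    by_cases h9 : q % 9 = 8
    · refine iff_of_true (fun x hx hxs => ?_) (by omega)
      obtain ⟨z, hz⟩ := hx
      rw [Matrix.SpecialLinearGroup.coe_pow] at hz
      exact CfsgLib.Derange.conj_of_max_order (p := p) Nat.prime_three le_rfl h3p hK hq hi x hz hxs
    · -- the index would be prime to three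
      exfalso
      set H := (Cfsg.Geo.subalgebraNormalizer K).comap
        (Matrix.SpecialLinearGroup.toGL : Matrix.SpecialLinearGroup (Fin 3) F →* GL (Fin 3) F)
      have hgd : (g : Matrix (Fin 3) (Fin 3) F).det = 1 := by
        rw [Matrix.det_eq_sign_charpoly_coeff, Fintype.card_fin, hgc]
        simp [Polynomial.coeff_one]
        norm_num
      obtain ⟨y, hy⟩ : ∃ y : Matrix.SpecialLinearGroup (Fin 3) F, Matrix.SpecialLinearGroup.toGL y = g :=
        ⟨⟨_, hgd⟩, Units.ext rfl⟩
      have hy3 : orderOf y = 3 := by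
        refine orderOf_eq_prime ?_ ?_
        · refine Matrix.SpecialLinearGroup.toGL_injective ?_
          rw [map_pow, hy, map_one]
          exact Units.ext (by rw [Units.val_pow_eq_pow_val, hgn, Units.val_one])
        · intro h1
          rw [h1, map_one] at hy
          rw [← hy, Units.val_one, Matrix.charpoly_one] at hgc
          rw [Fintype.card_fin] at hgc
          have h2 := congrArg (fun P => (Polynomial.derivative P).eval 0) hgc
          simp [Polynomial.derivative_pow] at h2
          have h3 : p ∣ 3 := (CharP.cast_eq_zero_iff F p 3).mp (by exact_mod_cast h2)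
          exact h3p ((Nat.prime_dvd_prime_iff_eq hp Nat.prime_three).mp h3).symm
      have hyH : y ∈ H := by
        rw [Subgroup.mem_comap, hy]; exact hgK
      have h3H : 3 ∣ Nat.card H := by
        have h1 := orderOf_dvd_natCard (⟨y, hyH⟩ : H)
        rwa [Subgroup.orderOf_mk, hy3] at h1
      have h9SL : 9 ∣ Nat.card (Matrix.SpecialLinearGroup (Fin 3) F) := by
        rw [← H.card_mul_index]
        exact Nat.mul_dvd_mul h3H hΩ
      have h1 := CfsgLib.Classical.sub_one_mul_card_SL (F := F) (n := 3) (by norm_num)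
      rw [Fin.prod_univ_three, hq] at h1
      have h9' : ((q - 1 : ℕ) : ZMod 9) * (Nat.card (Matrix.SpecialLinearGroup (Fin 3) F) : ℕ) =
          (((q : ZMod 9) ^ 3 - 1) * ((q : ZMod 9) ^ 3 - q) * ((q : ZMod 9) ^ 3 - (q : ZMod 9) ^ 2)) := by
        have l0 : 1 ≤ q ^ 3 := Nat.one_le_pow _ _ (by omega)
        have l1 : q ≤ q ^ 3 := Nat.le_self_pow (by norm_num) q
        have l2 : q ^ 2 ≤ q ^ 3 := Nat.pow_le_pow_right (by omega) (by norm_num)
        rw [← Nat.cast_mul, h1, Fin.val_zero, Fin.val_one, Fin.val_two, pow_zero, pow_one, Nat.cast_mul,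
          Nat.cast_mul, Nat.cast_sub l0, Nat.cast_sub l1, Nat.cast_sub l2]
        push_cast
        ring
      rw [(ZMod.natCast_eq_zero_iff _ 9).mpr h9SL, mul_zero] at h9'
      have hval : (q : ZMod 9) = 2 ∨ (q : ZMod 9) = 5 := by
        have : q % 9 = 2 ∨ q % 9 = 5 := by omega
        rcases this with h | h
        · left; rw [← ZMod.natCast_mod, h]; rfl
        · right; rw [← ZMod.natCast_mod, h]; rfl
      rcases hval with h | h <;> rw [h] at h9' <;> exact absurd h9' (by decide)

end Cfsg.Agent.S5971
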