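import Cfsg.Statements.S5972
import Cfsg.Agent.Lib.Derange.SingOdd
import Cfsg.Agent.Lib.Derange.SingCount
import Cfsg.Agent.Lib.Derange.SingInvolution
import Cfsg.Agent.Lib.UnipForm.PSplit
-- import your own Cfsg.Agent.* helpers here

set_option autoImplicit false
open scoped MatrixGroups
open Cfsg

namespace Cfsg.Agent.S5972

/-- Elements of prime order of Ω_n(q), n = 2d+1 ≥ 7, q odd, with no fixed totally singular `m`-space. Here `T = Ω_n(q)` is realised as the commutator subgroup of the isometry group of the quadratic form `x₀² + Σ xᵢyᵢ` over the field `F` with `q` elements (it has trivial centre, so its elements of prime order `r` are used directly); let `1 ≤ m ≤ d` and let `r` be a prime dividing the number of totally singular `m`-spaces. For `r ≠ p` let `i` be the multiplicative order of `q` modulo `r`, `c = i` for `i` even and `c = 2i` for `i` odd, and write `k = n mod c`, `ℓ = m mod i`, `n' = ⌊n/i⌋`, `m' = ⌊m/i⌋`, `t = (r−1)/i`. Then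 every element of `T` of order `r` fixes some totally singular `m`-space if and only if either (i) `r = 2` and (`m < (n−1)/2` or `q ≡ 1 (mod 4)`); or (ii) `r ≠ p` is odd, `i ≤ m`, `k > 2ℓ`, and (`i` is odd or `n' − 2m' ≥ t`). -/
theorem result {F : Type*} [Field F] [Fintype F] {p : ℕ} [Fact p.Prime] [CharP F p] {q : ℕ} (hq : Fintype.card F = q) (hqodd : Odd q)
    (d m : ℕ) (hd : 3 ≤ d) (hm : 1 ≤ m) (hmd : m ≤ d)
    (r : ℕ) [Fact r.Prime]
    (hrΩ : r ∣ Nat.card {W : Submodule F (Unit ⊕ (Fin d ⊕ Fin d) → F) // Module.finrank F ↥W = m ∧ (∀ w ∈ W, Cfsg.quadFormOdd d F w = 0)})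
    (i c : ℕ) (hi : i = orderOf (q : ZMod r)) (hc : c = if Even i then i else 2 * i) :
    (∀ x : GL (Unit ⊕ (Fin d ⊕ Fin d)) F, x ∈ Cfsg.Geo.omegaGL (Cfsg.quadFormOdd d F) → orderOf x = r →
      ∃ W : Submodule F (Unit ⊕ (Fin d ⊕ Fin d) → F), Module.finrank F ↥W = m ∧ (∀ w ∈ W, Cfsg.quadFormOdd d F w = 0) ∧
        W.map (Matrix.toLin' (x : Matrix (Unit ⊕ (Fin d ⊕ Fin d)) (Unit ⊕ (Fin d ⊕ Fin d)) F)) ≤ W) ↔
    ((r = 2 ∧ (m < d ∨ q % 4 = 1)) ∨
     (r ≠ p ∧ 2 < r ∧ i ≤ m ∧ 2 * (m % i) < (2 * d + 1) % c ∧ (Odd i ∨ (r - 1) / i + 2 * (m / i) ≤ (2 * d + 1) / i))) := by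
  have hF : (2 : F) ≠ 0 := (CfsgLib.UnipForm.odd_char (p := p) (hq.symm ▸ hqodd)).2
  obtain ⟨Q, hQ, hB⟩ := CfsgLib.Orth.exists_quadForm_odd hF d
  rw [← hQ] at hrΩ ⊢
  have hfin : Module.finrank F (Unit ⊕ (Fin d ⊕ Fin d) → F) = 2 * d + 1 := by
    rw [Module.finrank_fintype_fun_eq_card]; simp; omega
  have hr : r.Prime := Fact.out
  have hpne : ¬ p ∣ Nat.card {W : Submodule F (Unit ⊕ (Fin d ⊕ Fin d) → F) //
      Module.finrank F ↥W = m ∧ ∀ w ∈ W, Q w = 0} :=
    CfsgLib.Derange.not_dvd_card_singular hB (by omega)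
  have hrp : r ≠ p := fun h => hpne (h ▸ hrΩ)
  have hq4 : IsSquare (-1 : F) ↔ q % 4 = 1 := by
    rw [FiniteField.isSquare_neg_one_iff, hq]
    rw [Nat.odd_iff] at hqodd
    omega
  by_cases hr2 : r = 2
  · subst hr2
    simp only [lt_irrefl, false_and, and_false, or_false, true_and]
    constructor
    · intro H
      by_contra hc
      push Not at hc
      obtain ⟨g, hg, hg2, hno⟩ :=
        CfsgLib.Derange.exists_involution_no_maximal hB hF hfin (by omega) (fun h => hc.2 (hq4.1 h))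
      obtain ⟨W, hWd, hW, hWg⟩ := H _ ⟨g, hg, rfl⟩ hg2
      exact hno W (by omega) hW hWg
    · rintro hcase x ⟨g, hg, rfl⟩ hx
      have hgg : g * g = 1 := Subtype.ext (by
        rw [Subgroup.coe_mul, ← pow_two, Subgroup.coe_one]
        exact hx ▸ pow_orderOf_eq_one _)
      exact CfsgLib.Derange.exists_singular_of_involution hB hF hfin (by omega) g hgg hg
        (hcase.imp_right fun h => ⟨hmd, hq4.2 h⟩)
  · obtain ⟨j, hj, hjd, hdvd⟩ := CfsgLib.Derange.odd_singular_window hq hr hrp hi hF hmd hQ hB hrΩ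
    obtain ⟨t, D, X⟩ := CfsgLib.Derange.exists_ctx hq hr hr2 hrp hi
    have hcu : c = CfsgLib.Derange.unitDim i := hc
    rw [← hcu] at hdvd
    have hle : c ≤ 2 * d + 1 := (Nat.le_of_dvd (by omega) hdvd).trans (by omega)
    have hwin : (2 * d + 1) % c < 2 * m := by
      obtain ⟨l, hl⟩ := hdvd
      rw [show 2 * d + 1 = (2 * (d - j) + 1) + c * l by omega, Nat.add_mul_mod_self_left]
      exact (Nat.mod_le _ _).trans_lt (by omega)
    have htr : (r - 1) / i = t := by rw [← X.mul, Nat.mul_div_cancel _ X.i_pos]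
    rw [CfsgLib.Derange.odd_singular_iff X hF (by omega) hmd hQ hB,
      CfsgLib.Derange.pairs_odd_iff X.i_pos X.t_pos hmd (hcu ▸ hle) (hcu ▸ hwin), ← hcu, htr]
    have h2r : 2 < r := lt_of_le_of_ne hr.two_le (Ne.symm hr2)
    simp only [hr2, false_and, false_or, h2r, true_and, Ne, hrp, not_false_eq_true]

end Cfsg.Agent.S5972
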