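import Cfsg.Statements.S5973
import Cfsg.Agent.Lib.Derange.SingEvenMain
import Cfsg.Agent.Lib.Derange.EvenParabolicMain
-- import your own Cfsg.Agent.* helpers here

set_option autoImplicit false
open scoped MatrixGroups
open Cfsg

namespace Cfsg.Agent.S5973

/-- Elements of prime order of PΩ⁺_n(q), n = 2d ≥ 8, with no fixed totally singular `m`-space, `m < n/2`. Here `T = PΩ⁺_n(q)` is realised through `Ω⁺_n(q)`, the commutator subgroup of the isometry group of the quadratic form `Σ xᵢyᵢ` over the field `F` with `q` elements; an element of `T` of prime order `r` is an element `x` of `Ω⁺_n(q)` with `x^r` scalar and `x` not scalar. Let `1 ≤ m < d` and let `r` be a prime dividing the number of totally singular `m`-spaces. For `r ≠ p` let `i` be the multiplicative order of `q` modulo `r`, `c = i` for `i` even and `c = 2i` for `i` odd, and write `k = n mod c`, `ℓ = m mod i`, `n' = ⌊n/i⌋`, `m' = ⌊m/i⌋`, `t = (r−1)/i`. Then every element of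 `T` of order `r` fixes some totally singular `m`-space if and only if one of: (i) `r = 2 ≠ p` and either `q ≡ 1 (mod 4)`, or `q ≡ 3 (mod 4)`, `m ≤ n/2 − 2` and (`m` even or `n ≡ 2 (mod 4)`); (ii) `r ≠ p` odd, `i` odd, `i ≤ m` and `k ≥ 2ℓ`; (iii) `r ≠ p` odd, `i` even, `i ≤ m`, `n' − 2m' ≥ t`, and one of: `i ≥ 2ℓ`, `k = 0`, `n/i` odd and `n' − 2m' > t`; or `k ≥ 2ℓ` and `n'` even; or `k > 2ℓ` and `n'` odd. -/
theorem result {F : Type*} [Field F] [Fintype F] {p : ℕ} [Fact p.Prime] [CharP F p] {q : ℕ} (hq : Fintype.card F = q)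
    (d m : ℕ) (hd : 4 ≤ d) (hm : 1 ≤ m) (hmd : m < d)
    (r : ℕ) [Fact r.Prime]
    (hrΩ : r ∣ Nat.card {W : Submodule F (Fin d ⊕ Fin d → F) // Module.finrank F ↥W = m ∧ (∀ w ∈ W, Cfsg.quadFormPlus d F w = 0)})
    (i c : ℕ) (hi : i = orderOf (q : ZMod r)) (hc : c = if Even i then i else 2 * i) :
    (∀ x : GL (Fin d ⊕ Fin d) F, x ∈ Cfsg.Geo.omegaGL (Cfsg.quadFormPlus d F) →
      (∃ z : F, ((x ^ r : GL (Fin d ⊕ Fin d) F) : Matrix (Fin d ⊕ Fin d) (Fin d ⊕ Fin d) F) = z • (1 : Matrix (Fin d ⊕ Fin d) (Fin d ⊕ Fin d) F)) →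
      (∀ z : F, (x : Matrix (Fin d ⊕ Fin d) (Fin d ⊕ Fin d) F) ≠ z • (1 : Matrix (Fin d ⊕ Fin d) (Fin d ⊕ Fin d) F)) →
      ∃ W : Submodule F (Fin d ⊕ Fin d → F), Module.finrank F ↥W = m ∧ (∀ w ∈ W, Cfsg.quadFormPlus d F w = 0) ∧
        W.map (Matrix.toLin' (x : Matrix (Fin d ⊕ Fin d) (Fin d ⊕ Fin d) F)) ≤ W) ↔
    ((r = 2 ∧ p ≠ 2 ∧ (q % 4 = 1 ∨ (q % 4 = 3 ∧ m + 2 ≤ d ∧ (Even m ∨ (2 * d) % 4 = 2)))) ∨
     (r ≠ p ∧ 2 < r ∧ Odd i ∧ i ≤ m ∧ 2 * (m % i) ≤ (2 * d) % c) ∨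
     (r ≠ p ∧ 2 < r ∧ Even i ∧ i ≤ m ∧ (r - 1) / i + 2 * (m / i) ≤ (2 * d) / i ∧
       ((2 * (m % i) ≤ i ∧ (2 * d) % c = 0 ∧ Odd ((2 * d) / i) ∧ (r - 1) / i + 2 * (m / i) < (2 * d) / i) ∨
        (2 * (m % i) ≤ (2 * d) % c ∧ Even ((2 * d) / i)) ∨
        (2 * (m % i) < (2 * d) % c ∧ Odd ((2 * d) / i))))) := by
  classical
  obtain ⟨Q, hQ, hB⟩ := CfsgLib.Orth.exists_quadForm_plus (F := F) d
  rw [← hQ] at hrΩ ⊢
  have hι : Fintype.card (Fin d ⊕ Fin d) = 2 * d := by simp; ring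
  rw [CfsgLib.Derange.even_singular_main (p := p) (σ := True) hq hB hι (by omega) hm hmd
    (iff_of_true trivial (hQ ▸ CfsgLib.Classical.OrthModels.Iso.refl _)) (Fact.out) hrΩ hi]
  have hcu : CfsgLib.Derange.unitDim i = c := hc.symm
  refine or_congr ?_ ?_
  · refine and_congr_right fun _ => and_congr_right fun hp2 => ?_
    have hF : (2 : F) ≠ 0 := (CfsgLib.Derange.two_ne_zero_iff_char (p := p)).2 hp2
    obtain ⟨e, he, hp, hprod⟩ := CfsgLib.Orth.frame_plus hF d hQ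
    haveI : Nonempty (Fin d ⊕ Fin d) := ⟨Sum.inl ⟨0, by omega⟩⟩
    have hdisc : CfsgLib.Derange.DiscSq Q ↔ IsSquare ((-1 : F) ^ d) := by
      rw [CfsgLib.Derange.discSq_iff hF hι hι e he hp, hprod]
    have h4 : IsSquare (-1 : F) ↔ q % 4 ≠ 3 := by rw [FiniteField.isSquare_neg_one_iff, hq]
    have hodd : q % 2 = 1 := hq ▸ FiniteField.odd_card_of_char_ne_two (by rw [ringChar.eq F p]; exact hp2)
    rw [hdisc]
    rcases Nat.even_or_odd d with hev | hod
    · obtain ⟨w, rfl⟩ := hev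
      simp only [(Even.isSquare_pow ⟨w, rfl⟩ _ : IsSquare ((-1 : F) ^ (w + w))),
        (Even.isSquare_pow ⟨w, rfl⟩ _ : IsSquare ((2 : F) ^ (w + w))), true_and, true_implies,
        Nat.not_odd_iff_even, Nat.even_iff]
      omega
    · obtain ⟨w, rfl⟩ := hod
      have hpow : IsSquare ((-1 : F) ^ (2 * w + 1)) ↔ q % 4 ≠ 3 := by
        rw [pow_succ, CfsgLib.Orth.isSquare_mul_iff (pow_ne_zero _ (neg_ne_zero.2 one_ne_zero)), ← h4]
        simp [(even_two_mul w).isSquare_pow (-1 : F)]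
      simp only [hpow, true_implies, Nat.odd_iff, Nat.even_iff]
      constructor
      · rintro (h | ⟨h, -⟩) <;> omega
      · rintro (h | ⟨h, h', -⟩)
        · exact Or.inl h
        · exact Or.inr ⟨h', fun hh => hh.1 h⟩
  · have h2r : ∀ X : Prop, (r ≠ p ∧ 2 < r ∧ X) ↔ ((r ≠ p ∧ 2 < r) ∧ X) := fun X => and_assoc.symm
    simp only [h2r, ← and_or_left]
    refine and_congr_right fun _ => ?_
    rw [hcu]
    rcases Nat.even_or_odd i with hev | hodd
    · have hci : c = i := hc.trans (if_pos hev)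
      subst hci
      simp only [CfsgLib.Derange.Sgn, CfsgLib.Derange.PlusFree, hev, Nat.not_odd_iff_even.2 hev, not_false_eq_true,
        true_and, false_and, false_or, or_false, true_iff, Nat.not_even_iff_odd, and_true, not_true, and_false]
      refine and_congr_right fun _ => and_congr_right fun _ => ?_
      rcases Nat.even_or_odd (2 * d / c) with hN | hN
      · simp only [hN, Nat.not_odd_iff_even.2 hN, and_true, and_false, false_and, false_or, or_false]
        omega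
      · simp only [hN, Nat.not_even_iff_odd.2 hN, and_true, and_false, false_and, false_or, or_false, true_and]
    · simp only [hodd, Nat.not_even_iff_odd.2 hodd, not_true, true_and, false_and, or_false, and_true, and_false,
        not_false_eq_true, false_or]
      refine and_congr_right fun _ => ?_
      omega

end Cfsg.Agent.S5973
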