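import Cfsg.Statements.S5974
import Cfsg.Agent.Lib.Derange.NondegEvenMain
-- import your own Cfsg.Agent.* helpers here

set_option autoImplicit false
open scoped MatrixGroups
open Cfsg

namespace Cfsg.Agent.S5974

/-- Elements of prime order of PΩ⁺_n(q), n = 2d ≥ 8, with no fixed nondegenerate hyperbolic `m`-space. Here `T = PΩ⁺_n(q)` is realised through `Ω⁺_n(q)`, the commutator subgroup of the isometry group of `Q = Σ xᵢyᵢ` over the field `F` with `q` elements; an element of `T` of prime order `r` is an element `x` of `Ω⁺_n(q)` with `x^r` scalar and `x` not scalar. A hyperbolic `m`-space is a subspace `W` of even dimension `m` on which the polar form of `Q` is nondegenerate and which contains a totally singular subspace of dimension `m/2`. Let `m` be even with `2 ≤ m < n/2`, and let `r` be a prime dividing the number of hyperbolic `m`-spaces, with `r = 2` or `r ≠ p`. For `r ≠ p` let `i` be the multiplicative order of `q` modulo `r`, `c = i` for `i` even and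 `c = 2i` for `i` odd, and write `k = n mod c`, `ℓ' = m mod c`. Then every element of `T` of order `r` fixes some hyperbolic `m`-space if and only if one of: (i) `r = 2` and (`n ≡ 2 (mod 4)`, or `m ≡ 0 (mod 4)`, or `q ≡ 1 (mod 4)`); (ii) `r ≠ p` odd, `i` odd, `c ≤ m` and `k ≥ ℓ'`; (iii) `r ≠ p` odd, `i` even, and either `k = 0` and (`n/i` odd, or `ℓ' = 0` and `m/i` even), or `i ≤ m` and (`k > ℓ' > 0`, or `k = ℓ' > 0` and `(n + m − 2k)/i` even, or `k > ℓ' = 0` and `m/i` even). -/
theorem result {F : Type*} [Field F] [Fintype F] {p : ℕ} [Fact p.Prime] [CharP F p] {q : ℕ} (hq : Fintype.card F = q)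
    (d m : ℕ) (hd : 4 ≤ d) (hm : 2 ≤ m) (hme : Even m) (hmd : m < d)
    (r : ℕ) [Fact r.Prime] (hr : r = 2 ∨ r ≠ p)
    (hrΩ : r ∣ Nat.card {W : Submodule F (Fin d ⊕ Fin d → F) // (Module.finrank F ↥W = m ∧ (∀ u ∈ W, u ≠ 0 → ∃ v ∈ W, QuadraticMap.polar (Cfsg.quadFormPlus d F) u v ≠ 0) ∧
          ∃ U : Submodule F (Fin d ⊕ Fin d → F), U ≤ W ∧ 2 * Module.finrank F ↥U = m ∧ ∀ u ∈ U, Cfsg.quadFormPlus d F u = 0)})
    (i c : ℕ) (hi : i = orderOf (q : ZMod r)) (hc : c = if Even i then i else 2 * i) :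
    (∀ x : GL (Fin d ⊕ Fin d) F, x ∈ Cfsg.Geo.omegaGL (Cfsg.quadFormPlus d F) →
      (∃ z : F, ((x ^ r : GL (Fin d ⊕ Fin d) F) : Matrix (Fin d ⊕ Fin d) (Fin d ⊕ Fin d) F) = z • (1 : Matrix (Fin d ⊕ Fin d) (Fin d ⊕ Fin d) F)) →
      (∀ z : F, (x : Matrix (Fin d ⊕ Fin d) (Fin d ⊕ Fin d) F) ≠ z • (1 : Matrix (Fin d ⊕ Fin d) (Fin d ⊕ Fin d) F)) →
      ∃ W : Submodule F (Fin d ⊕ Fin d → F), (Module.finrank F ↥W = m ∧ (∀ u ∈ W, u ≠ 0 → ∃ v ∈ W, QuadraticMap.polar (Cfsg.quadFormPlus d F) u v ≠ 0) ∧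
          ∃ U : Submodule F (Fin d ⊕ Fin d → F), U ≤ W ∧ 2 * Module.finrank F ↥U = m ∧ ∀ u ∈ U, Cfsg.quadFormPlus d F u = 0) ∧
        W.map (Matrix.toLin' (x : Matrix (Fin d ⊕ Fin d) (Fin d ⊕ Fin d) F)) ≤ W) ↔
    ((r = 2 ∧ ((2 * d) % 4 = 2 ∨ m % 4 = 0 ∨ q % 4 = 1)) ∨
     (r ≠ p ∧ 2 < r ∧ Odd i ∧ c ≤ m ∧ m % c ≤ (2 * d) % c) ∨
     (r ≠ p ∧ 2 < r ∧ Even i ∧
       (((2 * d) % c = 0 ∧ (Odd ((2 * d) / i) ∨ (m % c = 0 ∧ Even (m / i)))) ∨
        (i ≤ m ∧ ((m % c < (2 * d) % c ∧ 0 < m % c) ∨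
                  ((2 * d) % c = m % c ∧ 0 < m % c ∧ Even ((2 * d + m - 2 * ((2 * d) % c)) / i)) ∨
                  (0 < (2 * d) % c ∧ m % c = 0 ∧ Even (m / i))))))) := by
  classical
  obtain ⟨Q, hQ, hB⟩ := CfsgLib.Orth.exists_quadForm_plus (F := F) d
  obtain ⟨a, rfl⟩ : ∃ a, m = 2 * a := ⟨m / 2, by obtain ⟨w, hw⟩ := hme; omega⟩
  rw [← hQ] at hrΩ ⊢
  have hι : Fintype.card (Fin d ⊕ Fin d) = 2 * d := by simp; ring
  have ha : 1 ≤ a := by omega
  have had : a < d := by omega
  have hiso : CfsgLib.Classical.OrthModels.Iso (⇑Q) (Cfsg.quadFormPlus d F) := by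
    rw [hQ]; exact CfsgLib.Classical.OrthModels.Iso.refl _
  have hσ : True ↔ CfsgLib.Classical.OrthModels.Iso (⇑Q) (Cfsg.quadFormPlus d F) := iff_of_true trivial hiso
  have hr' : r.Prime := Fact.out
  have hpred : ∀ W : Submodule F (Fin d ⊕ Fin d → F), (Module.finrank F ↥W = 2 * a ∧
      (∀ u ∈ W, u ≠ 0 → ∃ v ∈ W, QuadraticMap.polar ⇑Q u v ≠ 0) ∧
      ∃ U : Submodule F (Fin d ⊕ Fin d → F), U ≤ W ∧ 2 * Module.finrank F ↥U = 2 * a ∧ ∀ u ∈ U, Q u = 0) ↔
      CfsgLib.Derange.TypedSub Q a True W := fun W => by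
    constructor
    · rintro ⟨h1, h3, U, hU, hUd, hUs⟩
      refine ⟨h1, fun x hx h => ?_, iff_of_true ⟨U, hU, hUs, hUd.trans h1.symm⟩ trivial⟩
      by_contra hne
      obtain ⟨v, hv, hne'⟩ := h3 x hx hne
      exact hne' (h v hv)
    · rintro ⟨h1, h3, h4⟩
      obtain ⟨U, hU, hUs, hUd⟩ := h4.2 trivial
      refine ⟨h1, fun u hu hne => ?_, U, hU, hUd.trans h1, hUs⟩
      by_contra hcon
      push Not at hcon
      exact hne (h3 u hu hcon)
  simp only [hpred] at hrΩ ⊢
  have hN := hrΩ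
  by_cases hr2 : r = 2
  · subst hr2
    simp only [lt_irrefl, false_and, and_false, or_false, true_and]
    by_cases hp2 : p = 2
    · subst hp2
      have h2 : (2 : F) = 0 := by exact_mod_cast CharP.cast_eq_zero F 2
      have hq2 : q % 2 = 0 := by
        obtain ⟨n, -, hn⟩ := FiniteField.card F 2
        rw [← hq, hn, Nat.pow_mod]
        simp
      constructor
      · intro H
        by_contra hcon
        obtain ⟨s, rfl⟩ : Even d := by
          rw [Nat.even_iff]
          omega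
        obtain ⟨e, f, h⟩ := CfsgLib.Derange.exists_hyp_of_plus hiso
        obtain ⟨x, y, hx, hy, hxy, hxa, hyb, -, -⟩ :=
          CfsgLib.Derange.ranks_of_char2 (p := 2) hB rfl hι (by omega) had.le (by omega) hσ h H
        rw [Nat.even_iff] at hx hy
        omega
      · rintro hcase x ⟨g, -, rfl⟩ ⟨z, hz⟩ -
        obtain ⟨v, hv⟩ := CfsgLib.Orth.exists_aniso hB (by rw [Module.finrank_pi]; omega)
        have hap : ∀ w, CfsgLib.Orth.ap g (CfsgLib.Orth.ap g w) = z • w := fun w => by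
          rw [← CfsgLib.Orth.ap_mul, ← pow_two, CfsgLib.Orth.ap, SubmonoidClass.coe_pow,
            show ((g : GL (Fin d ⊕ Fin d) F) ^ 2 : GL (Fin d ⊕ Fin d) F).1 = z • (1 : Matrix _ _ F) from hz,
            Matrix.smul_mulVec, Matrix.one_mulVec]
        obtain rfl : z = 1 := by
          have h1 := congrArg Q (hap v)
          rw [CfsgLib.Orth.ap_q, CfsgLib.Orth.ap_q, CfsgLib.Orth.q_smul] at h1
          rcases mul_self_eq_one_iff.1 (mul_right_cancel₀ hv (h1.symm.trans (one_mul _).symm)) with h | h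
          · exact h
          · rw [h]; linear_combination -h2
        refine CfsgLib.Derange.exists_invariant_char2 hB h2 hι ha had hσ (fun t ht htd _ => ?_) g
          (CfsgLib.Orth.ext_ap fun w => by rw [CfsgLib.Orth.ap_mul, hap, one_smul, CfsgLib.Orth.ap_one])
        simp only [true_iff, implies_true, and_true, Nat.even_iff] at ht ⊢
        by_cases hat : a ≤ t ∧ a % 2 = 0
        · exact ⟨0, by omega, by omega, by omega, by omega⟩
        · rcases Nat.mod_two_eq_zero_or_one a with h | h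
          · exact ⟨a - t, by omega, by omega, by omega, by omega⟩
          · exact ⟨max 1 (a - t), by omega, by omega, by omega, by omega⟩
    · have h2 : (2 : F) ≠ 0 := (CfsgLib.Derange.two_ne_zero_iff_char (p := p)).2 hp2
      obtain ⟨e, he, hpp, hprod⟩ := CfsgLib.Orth.frame_plus h2 d hQ
      haveI : Nonempty (Fin d ⊕ Fin d) := ⟨Sum.inl ⟨0, by omega⟩⟩
      have hdisc : CfsgLib.Derange.DiscSq Q ↔ IsSquare ((-1 : F) ^ d) := by
        rw [CfsgLib.Derange.discSq_iff h2 hι hι e he hpp, hprod]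
      have h4 : IsSquare (-1 : F) ↔ q % 4 ≠ 3 := by rw [FiniteField.isSquare_neg_one_iff, hq]
      have hodd : q % 2 = 1 := hq ▸ FiniteField.odd_card_of_char_ne_two (by rw [ringChar.eq F p]; exact hp2)
      have hpow : ∀ k, IsSquare ((-1 : F) ^ k) ↔ (k % 2 = 0 ∨ q % 4 ≠ 3) := fun k => by
        rcases Nat.even_or_odd k with hk | ⟨w, rfl⟩
        · simp [hk.isSquare_pow, Nat.even_iff.1 hk]
        · rw [pow_succ, CfsgLib.Orth.isSquare_mul_iff (pow_ne_zero _ (neg_ne_zero.2 one_ne_zero)), ← h4]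
          simp [(even_two_mul w).isSquare_pow (-1 : F), Nat.add_mod]
      rw [CfsgLib.Derange.nondeg_two_iff hB h2 hι (by omega) ha had True, hdisc, hpow, hpow, true_iff]
      rcases Nat.even_or_odd d with hk | hk
      · simp only [hk.isSquare_pow, and_true, Nat.even_iff.1 hk, true_or, not_true, false_or]
        rw [Nat.even_iff] at hk
        omega
      · rw [Nat.odd_iff] at hk
        refine iff_of_true ?_ (by omega)
        by_cases h : q % 4 = 3
        · exact Or.inl fun hh => by omega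
        · exact Or.inr (Or.inr h)
  have hrp' : r ≠ p := hr.resolve_left hr2
  rw [CfsgLib.Derange.even_nondeg_main (p := p) hq hB hι (by omega) ha had hσ hr' hr2 hrp' hN hi]
  have h2r : 2 < r := lt_of_le_of_ne hr'.two_le (Ne.symm hr2)
  have hcu : CfsgLib.Derange.unitDim i = c := hc.symm
  simp only [hcu, hr2, hrp', h2r, ne_eq, not_false_eq_true, true_and, false_and, false_or]
  rcases Nat.even_or_odd i with hev | hodd
  · have hci : c = i := hc.trans (if_pos hev)
    subst hci
    have hc0 : 0 < c := by rw [hi]; exact (CfsgLib.Derange.exists_ctx hq hr' hr2 hrp' hi).choose_spec.choose_spec.i_pos.trans_le (by rw [← hi])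
    simp only [CfsgLib.Derange.Sgn, CfsgLib.Derange.PlusFree, hev, Nat.not_odd_iff_even.2 hev, true_and, false_and,
      false_or, or_false, true_iff, false_iff, iff_false, iff_true, not_not, not_true, not_false_eq_true]
    have hN' := Nat.mod_add_div (2 * d) c
    have hM' := Nat.mod_add_div (2 * a) c
    have hle : 2 * a / c ≤ 2 * d / c := Nat.div_le_div_right (by omega)
    have hsum : (2 * a) % c = (2 * d) % c →
        (2 * d + 2 * a - 2 * ((2 * d) % c)) / c = 2 * d / c + 2 * a / c := fun h => by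
      refine Nat.div_eq_of_eq_mul_left hc0 ?_
      rw [Nat.add_mul, mul_comm _ c, mul_comm _ c]
      omega
    have hci' : (2 * a) % c = 0 → c ≤ 2 * a := fun h => Nat.le_of_dvd (by omega) (Nat.dvd_of_mod_eq_zero h)
    simp only [Nat.odd_iff, Nat.even_iff]
    omega
  · simp only [CfsgLib.Derange.Sgn, CfsgLib.Derange.PlusFree, hodd, Nat.not_even_iff_odd.2 hodd, true_and, false_and,
      true_or, or_false, false_or, true_iff, false_iff, iff_false, iff_true, not_not, not_true, not_false_eq_true]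
    try simp only [and_false, and_true, or_true, true_or, true_and, false_and, false_or, or_false]

end Cfsg.Agent.S5974
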