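import Cfsg.Statements.S5975
import Cfsg.Agent.Lib.Derange.SympFieldExt

set_option autoImplicit false
open scoped MatrixGroups
open scoped Matrix
open Cfsg

namespace Cfsg.Agent.S5975

open Module Matrix CfsgLib.Derange CfsgLib.SympCount CfsgLib.Classical CfsgLib.Classical.SympTrans
open CfsgLib.Classical.SympClasses

universe u

variable {F : Type u} [Field F] [Fintype F] {d : ℕ}

local notation "Mat" => Matrix (Fin d ⊕ Fin d) (Fin d ⊕ Fin d) F

/-- A transvection preserves no self-adjoint field line by line. -/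
theorem eigen_of_transvection {v : Fin d ⊕ Fin d → F} (hv : v ≠ 0) {J : Mat}
    (h : (T v (1 : F) : Matrix.symplecticGroup (Fin d) F).1 * J = J * (T v (1 : F) : Matrix.symplecticGroup (Fin d) F).1) :
    ∃ c : F, J *ᵥ v = c • v := by
  obtain ⟨w, hw⟩ : ∃ w, Cfsg.sympForm d F w v ≠ 0 := by
    by_contra hc
    push Not at hc
    exact hv (eq_zero_of_f v fun w => by rw [f_swap, hc, neg_zero])
  have h1 := congrArg (fun M => M *ᵥ w) h
  simp only [← Matrix.mulVec_mulVec] at h1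
  change app (T v (1 : F)) (J *ᵥ w) = J *ᵥ app (T v (1 : F)) w at h1
  rw [app_T, app_T, one_mul, one_mul, Matrix.mulVec_add, Matrix.mulVec_smul, add_right_inj] at h1
  exact ⟨(Cfsg.sympForm d F w v)⁻¹ * Cfsg.sympForm d F (J *ᵥ w) v, by rw [mul_smul, h1, inv_smul_smul₀ hw]⟩

theorem exists_transvection {p : ℕ} [Fact p.Prime] [CharP F p] (hd : 2 ≤ d) :
    ∃ z : Matrix.symplecticGroup (Fin d) F, z ^ p = 1 ∧ (∀ c : F, (z : Mat) ≠ c • (1 : Mat)) ∧
      (∃ U : Submodule F (Fin d ⊕ Fin d → F), d < finrank F U ∧ ∀ v ∈ U, (z : Mat) *ᵥ v = v) ∧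
      ∀ J : Mat, (∀ u v, Cfsg.sympForm d F (J *ᵥ u) v = Cfsg.sympForm d F u (J *ᵥ v)) →
        (∀ v, Cfsg.sympForm d F (J *ᵥ v) v = 0) → (z : Mat) * J = J * (z : Mat) →
        ∃ v ≠ 0, ∃ c : F, J *ᵥ v = c • v := by
  classical
  haveI : Nonempty (Fin d ⊕ Fin d) := ⟨Sum.inl ⟨0, by omega⟩⟩
  obtain ⟨v, hv⟩ : ∃ v : Fin d ⊕ Fin d → F, v ≠ 0 := exists_ne 0
  obtain ⟨w, hw⟩ : ∃ w, Cfsg.sympForm d F w v ≠ 0 := by
    by_contra hc
    push Not at hc
    exact hv (eq_zero_of_f v fun w => by rw [f_swap, hc, neg_zero])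
  refine ⟨T v 1, ?_, fun c hc => ?_, ⟨LinearMap.ker ((sb F d).flip v), ?_, fun u hu => ?_⟩, fun J _ _ hc =>
    ⟨v, hv, eigen_of_transvection hv hc⟩⟩
  · have : ∀ k : ℕ, T v (1 : F) ^ k = T v (k : F) := by
      intro k
      induction k with
      | zero => rw [pow_zero, Nat.cast_zero, T_zero]
      | succ k ih => rw [pow_succ, ih, T_mul, Nat.cast_succ]
    rw [this, CharP.cast_eq_zero, T_zero]
  · have h1 : app (T v (1 : F)) v = c • v := by rw [app, hc, Matrix.smul_mulVec, Matrix.one_mulVec]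
    rw [app_T, f_self, mul_zero, zero_smul, add_zero] at h1
    have hc1 : c = 1 := smul_left_injective F hv (show c • v = (1 : F) • v by rw [one_smul]; exact h1.symm)
    have h3 : app (T v (1 : F)) w = c • w := by rw [app, hc, Matrix.smul_mulVec, Matrix.one_mulVec]
    rw [app_T, hc1, one_smul, add_eq_left, one_mul, smul_eq_zero] at h3
    exact h3.elim hw hv
  · have h1 := LinearMap.finrank_range_add_finrank_ker ((sb F d).flip v)
    have h2 := Submodule.finrank_le (LinearMap.range ((sb F d).flip v))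
    rw [Module.finrank_self] at h2
    rw [Sp.finrank_std] at h1
    omega
  · have h0 : Cfsg.sympForm d F u v = 0 := by rw [← sb_apply]; exact hu
    show app (T v (1 : F)) u = u
    rw [app_T, h0, mul_zero, zero_smul, add_zero]

/-- An involution moving a plane. -/
theorem exists_reflection (h2 : (2 : F) ≠ 0) (hd : 2 ≤ d) :
    ∃ z : Matrix.symplecticGroup (Fin d) F, z ^ 2 = 1 ∧ (∀ c : F, (z : Mat) ≠ c • (1 : Mat)) ∧
      (∃ U : Submodule F (Fin d ⊕ Fin d → F), finrank F U = 2 * (d - 1) ∧ ∀ v ∈ U, (z : Mat) *ᵥ v = v) ∧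
      ∀ J : Mat, (∀ u v, Cfsg.sympForm d F (J *ᵥ u) v = Cfsg.sympForm d F u (J *ᵥ v)) →
        (∀ v, Cfsg.sympForm d F (J *ᵥ v) v = 0) → (z : Mat) * J = J * (z : Mat) →
        ∃ v ≠ 0, ∃ c : F, J *ᵥ v = c • v := by
  classical
  obtain ⟨z, e, hz, -, hiso, hint⟩ := Sp.exists_std (d := d) (r := 2) ((symp_sb F 1).prod (symp_sb F (d - 1)))
    (by rw [Module.finrank_prod, Sp.finrank_std, Sp.finrank_std]; omega)
    (LinearMap.prodMap (-LinearMap.id) LinearMap.id)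
    (fun x w => by simp [prodForm_apply, LinearMap.prodMap_apply])
    (by ext x <;> simp [sq, Module.End.mul_eq_comp])
  have hint' : ∀ v w, (z : Mat) *ᵥ e (v, w) = e (-v, w) := fun v w => hint (v, w)
  let v₀ : Fin 1 ⊕ Fin 1 → F := Pi.single (Sum.inl 0) 1
  have hv₀ : v₀ ≠ 0 := fun h => one_ne_zero (α := F) (by simpa [v₀] using congrFun h (Sum.inl 0))
  have he0 : e (v₀, 0) ≠ 0 := fun h => hv₀ (congrArg Prod.fst (e.injective (h.trans (map_zero e).symm)))
  refine ⟨z, hz, fun c hc => ?_, ?_, fun J hJ hJa hcom => ⟨e (v₀, 0), he0, ?_⟩⟩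
  · have h1 := hint' v₀ 0
    rw [hc, Matrix.smul_mulVec, Matrix.one_mulVec, ← map_smul] at h1
    have hc1 : c = -1 := by simpa [v₀] using congrFun (congrArg Prod.fst (e.injective h1)) (Sum.inl 0)
    let w₀ : Fin (d - 1) ⊕ Fin (d - 1) → F := Pi.single (Sum.inl ⟨0, by omega⟩) 1
    have h3 := hint' 0 w₀
    rw [hc, Matrix.smul_mulVec, Matrix.one_mulVec, ← map_smul] at h3
    have hc2 : c = 1 := by simpa [w₀] using congrFun (congrArg Prod.snd (e.injective h3)) (Sum.inl ⟨0, by omega⟩)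
    exact h2 (by linear_combination (hc2.symm.trans hc1))
  · refine ⟨LinearMap.range (e.toLinearMap ∘ₗ LinearMap.inr F _ _), ?_, ?_⟩
    · rw [LinearMap.finrank_range_of_inj (f := e.toLinearMap ∘ₗ LinearMap.inr F _ _)
        (fun v w h => congrArg Prod.snd (e.injective h)), Sp.finrank_std]
    · rintro _ ⟨w, rfl⟩
      show (z : Mat) *ᵥ e (0, w) = e (0, w)
      rw [hint', neg_zero]
  · obtain ⟨⟨a, b⟩, hab⟩ := e.surjective (J *ᵥ e (v₀, 0))
    have h1 := congrArg (fun M => M *ᵥ e (v₀, 0)) hcom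
    simp only [← Matrix.mulVec_mulVec, hint'] at h1
    rw [← hab, hint', show ((-v₀, 0) : (Fin 1 ⊕ Fin 1 → F) × (Fin (d - 1) ⊕ Fin (d - 1) → F)) = -(v₀, 0) by simp,
      map_neg, Matrix.mulVec_neg, ← hab, ← map_neg] at h1
    have hb : b = 0 := by
      have h3 : b = -b := congrArg Prod.snd (e.injective h1)
      have h4 : (2 : F) • b = 0 := by rw [two_smul]; nth_rw 2 [h3]; exact add_neg_cancel b
      exact (smul_eq_zero.1 h4).resolve_left h2
    subst hb
    have h5 := hJa (e (v₀, 0))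
    rw [← hab, ← sb_apply, hiso, prodForm_apply, map_zero, add_zero, sb_apply, f_apply] at h5
    simp [v₀] at h5
    refine ⟨a (Sum.inl 0), ?_⟩
    rw [← hab, ← map_smul]
    congr 1
    refine Prod.ext (funext fun s => ?_) (by simp)
    rcases s with i | i <;> obtain rfl : i = 0 := Subsingleton.elim _ _
    · simp [v₀]
    · simp [v₀, h5]

/-- The standard self-adjoint root of `ν` on a pair of hyperbolic pairs. -/
structure Adapted {W : Type u} [AddCommGroup W] [Module F W] (B : LinearMap.BilinForm F W) (ν : F) (J : End F W)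
    (v w : Fin 2 → W) : Prop where
  hyp : SpU.Hyp B v w
  v0 : J (v 0) = v 1
  v1 : J (v 1) = ν • v 0
  w0 : J (w 0) = ν • w 1
  w1 : J (w 1) = w 0

variable {W : Type u} [AddCommGroup W] [Module F W] [FiniteDimensional F W] {B : LinearMap.BilinForm F W} {ν : F}

theorem exists_adapted (hν : ∀ c : F, c * c ≠ ν) (hB : Symp B) (hW : finrank F W = 4) {J : End F W}
    (hsa : ∀ x y, B (J x) y = B x (J y)) (halt : ∀ x, B (J x) x = 0) (hsq : ∀ x, J (J x) = ν • x) :
    ∃ v w, Adapted B ν J v w := by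
  have hν0 : ν ≠ 0 := fun e => hν 0 (by rw [e, mul_zero])
  haveI : Nontrivial W := Module.nontrivial_of_finrank_pos (R := F) (by omega)
  obtain ⟨a, ha⟩ : ∃ a : W, a ≠ 0 := exists_ne 0
  obtain ⟨w, hw⟩ : ∃ w, B a w = 1 := by
    obtain ⟨w, hw⟩ : ∃ w, B a w ≠ 0 := by
      by_contra hc
      push Not at hc
      exact ha (hB.nd a hc)
    exact ⟨(B a w)⁻¹ • w, by rw [map_smul, smul_eq_mul, inv_mul_cancel₀ hw]⟩
  obtain ⟨x, hx0, hx1⟩ : ∃ x, B a x = 0 ∧ B (J a) x ≠ 0 := by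
    by_contra hc
    push Not at hc
    have h0 : J a - B (J a) w • a = 0 := hB.nd _ fun y => by
      have h1 := hc (y - B a y • w) (by rw [map_sub, map_smul, hw, smul_eq_mul, mul_one, sub_self])
      rw [map_sub, map_smul, smul_eq_mul] at h1
      simp only [map_sub, map_smul, LinearMap.sub_apply, LinearMap.smul_apply, smul_eq_mul]
      linear_combination h1
    obtain ⟨c, hc'⟩ : ∃ c, J a = c • a := ⟨_, sub_eq_zero.1 h0⟩
    have h3 := hsq a
    rw [hc', map_smul, hc', smul_smul] at h3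
    exact hν _ (smul_left_injective F ha h3)
  set b := w - (B (J a) w / B (J a) x) • x with hb
  have hab : B a b = 1 := by rw [hb, map_sub, map_smul, hw, hx0, smul_zero, sub_zero]
  have hJab : B (J a) b = 0 := by rw [hb, map_sub, map_smul, smul_eq_mul, div_mul_cancel₀ _ hx1, sub_self]
  have haJb : B a (J b) = 0 := by rw [← hsa, hJab]
  have hJJ : B (J a) (J b) = ν := by rw [hsa, hsq, map_smul, hab, smul_eq_mul, mul_one]
  have z1 : B a (J a) = 0 := by rw [← hsa, halt]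
  have z2 : B b (J b) = 0 := by rw [← hsa, halt]
  refine ⟨![a, J a], ![b, ν⁻¹ • J b], ⟨⟨fun i j => ?_, fun i j => ?_, fun i j => ?_⟩, rfl, hsq a, ?_, ?_⟩⟩
  · fin_cases i <;> fin_cases j <;> simp [hab, hJab, haJb, hJJ, hν0]
  · fin_cases i <;> fin_cases j <;> simp [hB.alt.self_eq_zero, z1, halt]
  · fin_cases i <;> fin_cases j <;> simp [hB.alt.self_eq_zero, z2, halt]
  · show J b = ν • (ν⁻¹ • J b)
    rw [smul_inv_smul₀ hν0]
  · show J (ν⁻¹ • J b) = b
    rw [map_smul, hsq, inv_smul_smul₀ hν0]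

theorem root_conj_four (hν : ∀ c : F, c * c ≠ ν) (hB : Symp B) (hW : finrank F W = 4) {J J' : End F W}
    (hsa : ∀ x y, B (J x) y = B x (J y)) (halt : ∀ x, B (J x) x = 0) (hsq : ∀ x, J (J x) = ν • x)
    {v' w' : Fin 2 → W} (h' : Adapted B ν J' v' w') :
    ∃ g : W ≃ₗ[F] W, (∀ x y, B (g x) (g y) = B x y) ∧ ∀ x, g (J x) = J' (g x) := by
  classical
  obtain ⟨v, w, h⟩ := exists_adapted hν hB hW hsa halt hsq
  obtain ⟨b, hb1, hb2⟩ := h.hyp.basis hB hW
  obtain ⟨b', hb1', hb2'⟩ := h'.hyp.basis hB hW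
  refine ⟨b.equiv b' (Equiv.refl _), fun x y => ?_, fun x => ?_⟩
  · have : LinearMap.compl₁₂ B (b.equiv b' (Equiv.refl _)).toLinearMap (b.equiv b' (Equiv.refl _)).toLinearMap = B := by
      refine LinearMap.BilinForm.ext_basis b fun i j => ?_
      have hwv : ∀ {v w : Fin 2 → W}, SpU.Hyp B v w → ∀ i j, B (w j) (v i) = if i = j then -1 else 0 := fun h i j => by
        rw [SpU.antisymm hB, h.vw]; split_ifs <;> simp
      simp only [LinearMap.compl₁₂_apply, LinearEquiv.coe_coe, Basis.equiv_apply, Equiv.refl_apply]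
      rcases i with i | i <;> rcases j with j | j <;>
        simp [hb1, hb2, hb1', hb2', h.hyp.vv, h.hyp.ww, h.hyp.vw, h'.hyp.vv, h'.hyp.ww, h'.hyp.vw, hwv h.hyp, hwv h'.hyp]
    exact congrArg (fun B' : LinearMap.BilinForm F W => B' x y) this
  · have : (b.equiv b' (Equiv.refl _)).toLinearMap ∘ₗ J = J' ∘ₗ (b.equiv b' (Equiv.refl _)).toLinearMap := by
      refine b.ext fun i => ?_
      simp only [LinearMap.comp_apply, LinearEquiv.coe_coe, Basis.equiv_apply, Equiv.refl_apply]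
      rcases i with i | i <;> fin_cases i <;>
        simp only [Fin.zero_eta, Fin.mk_one, hb1, hb2, hb1', hb2', h.v0, h.v1, h.w0, h.w1, h'.v0, h'.v1, h'.w0, h'.w1,
          map_smul] <;>
        simp [← hb1, ← hb2, ← hb1', ← hb2', Basis.equiv_apply]
    exact LinearMap.congr_fun this x

/-- A root commuting or anticommuting with an element of order two modulo scalars. -/
theorem exists_root_four (h2 : (2 : F) ≠ 0) (hν : ∀ c : F, c * c ≠ ν) (hB : Symp B) (hW : finrank F W = 4) {z : F}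
    (hz : z * z = 1) (X : End F W) (hXi : ∀ x y, B (X x) (X y) = B x y) (hX : ∀ x, X (X x) = z • x) :
    ∃ (J : End F W) (v w : Fin 2 → W) (s : F), (s = 1 ∨ s = -1) ∧ Adapted B ν J v w ∧ ∀ x, X (J x) = s • J (X x) := by
  classical
  have hmk : ∀ (v w : Fin 2 → W), SpU.Hyp B v w → ∀ b : Basis (Fin 2 ⊕ Fin 2) F W, (∀ i, b (Sum.inl i) = v i) →
      (∀ i, b (Sum.inr i) = w i) →
      Adapted B ν (b.constr F (Sum.elim ![v 1, ν • v 0] ![ν • w 1, w 0])) v w := by
    intro v w h b h1 h2'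
    refine ⟨h, ?_, ?_, ?_, ?_⟩
    · rw [← h1 0, Basis.constr_basis, h1]; rfl
    · rw [← h1 1, Basis.constr_basis]; rfl
    · rw [← h2' 0, Basis.constr_basis]; rfl
    · rw [← h2' 1, Basis.constr_basis, h2']; rfl
  have hcheck : ∀ (J : End F W) (v w : Fin 2 → W), Adapted B ν J v w → ∀ s : F,
      (∀ i, X (J (v i)) = s • J (X (v i)) ∧ X (J (w i)) = s • J (X (w i))) → ∀ x, X (J x) = s • J (X x) := by
    intro J v w h s hs x
    obtain ⟨b, hb1, hb2⟩ := h.hyp.basis hB hW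
    have : X ∘ₗ J = s • (J ∘ₗ X) := b.ext fun i => by
      rcases i with i | i
      · rw [hb1]; exact (hs i).1
      · rw [hb2]; exact (hs i).2
    exact LinearMap.congr_fun this x
  by_cases hsq : IsSquare z
  · obtain ⟨e, he⟩ := hsq
    obtain ⟨v, w, ε, hvw, hev⟩ := SpU.exists_eigen_family h2 hB hW hz he.symm X hXi hX 2 le_rfl
    obtain ⟨b, hb1, hb2⟩ := hvw.basis hB hW
    have hz0 : z ≠ 0 := fun h => by rw [h, mul_zero] at hz; exact zero_ne_one hz
    have hε : ∀ i, ε i * ε i = z := fun i => by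
      have hvi : v i ≠ 0 := fun h => one_ne_zero (α := F) (by simpa [h] using (hvw.vw i i).symm)
      have h1 := hX (v i)
      rw [(hev i).1, map_smul, (hev i).1, smul_smul] at h1
      exact smul_left_injective F hvi h1
    have hε0 : ∀ i, ε i ≠ 0 := fun i h => hz0 (by rw [← hε i, h, mul_zero])
    have h := hmk v w hvw b hb1 hb2
    refine ⟨_, v, w, ε 1 / ε 0, ?_, h, hcheck _ v w h _ ?_⟩
    · exact mul_self_eq_one_iff.1 (by rw [div_mul_div_comm, hε, hε, div_self hz0])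
    · have hd0 : ε 1 / ε 0 * ε 0 = ε 1 := div_mul_cancel₀ _ (hε0 0)
      have hd1 : ε 1 / ε 0 * ε 1 = ε 0 := by
        rw [div_mul_eq_mul_div, hε, ← hε 0, mul_div_assoc, div_self (hε0 0), mul_one]
      intro i
      fin_cases i
      · refine ⟨?_, ?_⟩ <;> simp only [Fin.zero_eta]
        · rw [h.v0, (hev 0).1, map_smul, h.v0, (hev 1).1, smul_smul, hd0]
        · rw [h.w0, map_smul, (hev 0).2, map_smul, h.w0, (hev 1).2, smul_smul, smul_smul, smul_smul]
          congr 1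
          linear_combination -(z * ν) * hd0
      · refine ⟨?_, ?_⟩ <;> simp only [Fin.mk_one]
        · rw [h.v1, map_smul, (hev 1).1, map_smul, h.v1, (hev 0).1, smul_smul, smul_smul, smul_smul]
          congr 1
          linear_combination -ν * hd1
        · rw [h.w1, (hev 1).2, map_smul, h.w1, (hev 0).2, smul_smul]
          congr 1
          linear_combination -z * hd1
  · have hchar : ringChar F ≠ 2 := fun hchar => h2 (by
      have : CharP F 2 := ringChar.of_eq hchar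
      exact CharTwo.two_eq_zero)
    have hz1 : z = -1 := (mul_self_eq_one_iff.1 hz).resolve_left fun h => hsq (h ▸ IsSquare.one)
    have hν0 : ν ≠ 0 := fun e => hν 0 (by rw [mul_zero, e])
    obtain ⟨c, hc⟩ : IsSquare (-ν) := by
      rw [hz1] at hsq
      rw [FiniteField.isSquare_iff hchar (neg_ne_zero.2 hν0), neg_pow]
      have e1 : (-1 : F) ^ (Fintype.card F / 2) = -1 :=
        ((FiniteField.pow_dichotomy hchar (neg_ne_zero.2 one_ne_zero)).resolve_left
          fun h => hsq ((FiniteField.isSquare_iff hchar (neg_ne_zero.2 one_ne_zero)).2 h))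
      have e2 : ν ^ (Fintype.card F / 2) = -1 :=
        ((FiniteField.pow_dichotomy hchar hν0).resolve_left
          fun h => by
            obtain ⟨c, hc⟩ := (FiniteField.isSquare_iff hchar hν0).2 h
            exact hν c hc.symm)
      rw [e1, e2, neg_mul_neg, one_mul]
    have hc0 : c ≠ 0 := fun e => hν0 (by rw [e, mul_zero] at hc; exact neg_eq_zero.1 hc)
    have hXsk : SpU.Skew B (-1) X := by
      refine ⟨fun x y => ?_, fun x => by rw [hX, hz1]⟩
      have h1 := hXi (X x) y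
      rw [hX, map_smul, LinearMap.smul_apply, smul_eq_mul, hz1] at h1
      linear_combination -h1
    obtain ⟨v, hv⟩ := SpU.exists_family (ν := (-1 : F)) h2 (fun a ha => hsq ⟨a, by rw [hz1, ha]⟩) hB hW hXsk 2 le_rfl
    have hyp : SpU.Hyp B ![X (v 0), c • X (v 1)] ![v 0, c⁻¹ • v 1] := by
      refine ⟨fun i j => ?_, fun i j => ?_, fun i j => ?_⟩ <;>
        fin_cases i <;> fin_cases j <;> simp [hv.vw, hv.vv, hv.ww, hc0]
    obtain ⟨b, hb1, hb2⟩ := hyp.basis hB hW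
    obtain ⟨J, h⟩ : ∃ J, Adapted B ν J ![X (v 0), c • X (v 1)] ![v 0, c⁻¹ • v 1] := ⟨_, hmk _ _ hyp b hb1 hb2⟩
    refine ⟨J, _, _, -1, Or.inr rfl, h, hcheck J _ _ h _ ?_⟩
    have a0 : J (X (v 0)) = c • X (v 1) := h.v0
    have a1 : J (X (v 1)) = (ν / c) • X (v 0) := by
      have := h.v1
      simp only [Matrix.cons_val_one, Matrix.cons_val_fin_one, Matrix.cons_val_zero, map_smul] at this
      rw [← inv_smul_smul₀ hc0 (J (X (v 1))), this, smul_smul, inv_mul_eq_div]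
    have b0 : J (v 0) = (ν / c) • v 1 := by
      have := h.w0
      simp only [Matrix.cons_val_one, Matrix.cons_val_fin_one, Matrix.cons_val_zero, smul_smul] at this
      rw [this, div_eq_mul_inv]
    have b1 : J (v 1) = c • v 0 := by
      have := h.w1
      simp only [Matrix.cons_val_one, Matrix.cons_val_fin_one, Matrix.cons_val_zero, map_smul] at this
      rw [← smul_inv_smul₀ hc0 (J (v 1)), this]
    have hνc : ν / c = -c := by rw [div_eq_iff hc0]; linear_combination -hc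
    have hXX : ∀ x, X (X x) = -x := fun x => by rw [hX, hz1, neg_smul, one_smul]
    intro i
    fin_cases i <;> refine ⟨?_, ?_⟩ <;>
      simp [a0, a1, b0, b1, hνc, hXX, hc0, smul_smul, map_smul, map_neg]

/-- Elements of prime order of PSp_n(q) and the field-extension subgroups of type Sp_{n/k}(q^k). Here `T = PSp_{2d}(F)` for a field `F` with `q` elements (`d ≥ 2`, `(d, q) ≠ (2, 2)`), realised through the matrices preserving the standard alternating form `f`; `k` is a prime and `K` is a subalgebra of the `2d × 2d` matrices that is a field of degree `k` over `F` whose elements are self-adjoint for `f` and satisfy `f(a v, v) = 0` (so `F^{2d}` becomes a vector space over `K ≅ F_{q^k}` on which `f` is the trace of a `K`-bilinear alternating form); `H` is the subgroup of `T` normalizing `K` — the symplectic maps that are `K`-linear or `K`-semilinear, a subgroup of type Sp_{2d/k}(q^k) (maximality is not assumed). Ω is the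 set of cosets of `H` in `T`, so an element of `T` of prime order `r` (`x ∈ T` with `x^r` scalar, `x` not scalar) fixes a point of Ω exactly when some `T`-conjugate of `x` normalizes `K`. Let `r` be a prime dividing the index of `H`. Then every element of `T` of order `r` fixes a point of Ω if and only if `r = 2`, `d = 2`, `k = 2` and `q` is odd. -/
theorem result {F : Type*} [Field F] [Fintype F] {p : ℕ} [Fact p.Prime] [CharP F p] {q : ℕ} (hq : Fintype.card F = q)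
    (d : ℕ) (hd : 2 ≤ d) (hT : (d, q) ≠ (2, 2)) (k : ℕ) (hk : k.Prime)
    (K : Subalgebra F (Matrix (Fin d ⊕ Fin d) (Fin d ⊕ Fin d) F)) (hK : Cfsg.Geo.IsFieldSubalgebra k K)
    (hKf : Cfsg.Geo.IsSelfAdjointFor (Cfsg.sympForm d F) K) (hKalt : ∀ a ∈ K, ∀ v : Fin d ⊕ Fin d → F, Cfsg.sympForm d F (a *ᵥ v) v = 0)
    (r : ℕ) [Fact r.Prime]
    (hΩ : r ∣ (Cfsg.Geo.subalgebraNormalizer K).relIndex (Cfsg.spGL d F)) :
    (∀ x ∈ Cfsg.spGL d F, (∃ z : F, ((x ^ r : GL (Fin d ⊕ Fin d) F) : Matrix (Fin d ⊕ Fin d) (Fin d ⊕ Fin d) F) = z • (1 : Matrix (Fin d ⊕ Fin d) (Fin d ⊕ Fin d) F)) →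
      (∀ z : F, (x : Matrix (Fin d ⊕ Fin d) (Fin d ⊕ Fin d) F) ≠ z • (1 : Matrix (Fin d ⊕ Fin d) (Fin d ⊕ Fin d) F)) →
      ∃ g ∈ Cfsg.spGL d F, g⁻¹ * x * g ∈ Cfsg.Geo.subalgebraNormalizer K) ↔
    (r = 2 ∧ d = 2 ∧ k = 2 ∧ Odd q) := by
  classical
  have hp : Fact p.Prime := inferInstance
  have hr : r.Prime := Fact.out
  haveI : Nonempty (Fin d ⊕ Fin d) := ⟨Sum.inl ⟨0, by omega⟩⟩
  have hfield : IsField K :=
    ⟨⟨0, 1, fun e => zero_ne_one (congrArg Subtype.val e)⟩,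
      fun a b => Subtype.ext (hK.comm a a.2 b b.2),
      fun {a} ha => by
        obtain ⟨y, hy, e⟩ := hK.inv a a.2 fun e => ha (Subtype.ext e)
        exact ⟨⟨y, hy⟩, Subtype.ext e⟩⟩
  letI : Field K := hfield.toField
  haveI : Finite K := Finite.of_injective _ Subtype.val_injective
  haveI : FiniteDimensional F K := Module.Finite.of_finite
  set ρ := K.val with hρ
  have hrange : ρ.range = K := Subalgebra.range_val K
  have hkK : Module.finrank F K = k := hK.finrank_eq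
  have hact : SpK.Act ρ := ⟨fun c u v => hKf c c.2 u v, fun c v => hKalt c c.2 v⟩
  obtain ⟨m, hdm, -⟩ := SpK.exists_form hact
  rw [hkK] at hdm
  have hm : 1 ≤ m := Nat.pos_of_ne_zero fun e => by rw [e, mul_zero] at hdm; omega
  have hkd : k ≤ d := hdm ▸ Nat.le_mul_of_pos_right _ hm
  obtain ⟨n, -, hn⟩ := FiniteField.card F p
  constructor
  · intro hall
    have key : ∀ z : Matrix.symplecticGroup (Fin d) F, z ^ r = 1 →
        (∀ c : F, (z : Matrix (Fin d ⊕ Fin d) (Fin d ⊕ Fin d) F) ≠ c • 1) →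
        ∀ U : Submodule F (Fin d ⊕ Fin d → F), (∀ v ∈ U, (z : Matrix (Fin d ⊕ Fin d) (Fin d ⊕ Fin d) F) *ᵥ v = v) →
        (Module.finrank F U ≤ d ∧ r = k) ∨ ∃ P : GL (Fin d ⊕ Fin d) F, ∀ c : K,
          let J := (P : Matrix (Fin d ⊕ Fin d) (Fin d ⊕ Fin d) F) * ρ c * ((P⁻¹ : GL (Fin d ⊕ Fin d) F) : Matrix (Fin d ⊕ Fin d) (Fin d ⊕ Fin d) F)
          (z : Matrix (Fin d ⊕ Fin d) (Fin d ⊕ Fin d) F) * J = J * (z : Matrix (Fin d ⊕ Fin d) (Fin d ⊕ Fin d) F) ∧
            (∀ u v, Cfsg.sympForm d F (J *ᵥ u) v = Cfsg.sympForm d F u (J *ᵥ v)) ∧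
            (∀ v, Cfsg.sympForm d F (J *ᵥ v) v = 0) := by
      intro z hz hzs U hU
      obtain ⟨g, hg, hgx⟩ := hall (toSpGL z).1 (toSpGL z).2 ⟨1, by
        rw [← SubgroupClass.coe_pow, ← map_pow, hz, map_one, one_smul]; rfl⟩ (by simpa [toSpGL_coe] using hzs)
      rw [← hrange] at hgx
      by_cases hcom : ∀ c : K, ((g⁻¹ * (toSpGL z).1 * g : GL (Fin d ⊕ Fin d) F) : Matrix (Fin d ⊕ Fin d) (Fin d ⊕ Fin d) F) * ρ c = ρ c * ((g⁻¹ * (toSpGL z).1 * g : GL (Fin d ⊕ Fin d) F) : Matrix (Fin d ⊕ Fin d) (Fin d ⊕ Fin d) F)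
      · right
        refine ⟨g, fun c => ⟨?_, ?_, ?_⟩⟩
        · have h1 := congrArg (fun M => (g : Matrix (Fin d ⊕ Fin d) (Fin d ⊕ Fin d) F) * M * ((g⁻¹ : GL (Fin d ⊕ Fin d) F) : Matrix (Fin d ⊕ Fin d) (Fin d ⊕ Fin d) F)) (hcom c)
          simpa [mul_assoc, toSpGL_coe] using h1
        all_goals have hg' : ∀ a b, Cfsg.sympForm d F ((g : Matrix (Fin d ⊕ Fin d) (Fin d ⊕ Fin d) F) *ᵥ a) ((g : Matrix (Fin d ⊕ Fin d) (Fin d ⊕ Fin d) F) *ᵥ b) = Cfsg.sympForm d F a b := hg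
        all_goals intro u
        · intro v
          obtain ⟨u, rfl⟩ : ∃ a, (g : Matrix (Fin d ⊕ Fin d) (Fin d ⊕ Fin d) F) *ᵥ a = u := ⟨((g⁻¹ : GL (Fin d ⊕ Fin d) F) : Matrix (Fin d ⊕ Fin d) (Fin d ⊕ Fin d) F) *ᵥ u, by simp⟩
          obtain ⟨v, rfl⟩ : ∃ a, (g : Matrix (Fin d ⊕ Fin d) (Fin d ⊕ Fin d) F) *ᵥ a = v := ⟨((g⁻¹ : GL (Fin d ⊕ Fin d) F) : Matrix (Fin d ⊕ Fin d) (Fin d ⊕ Fin d) F) *ᵥ v, by simp⟩
          simp only [mulVec_mulVec, mul_assoc, Units.inv_mul, mul_one]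
          rw [← mulVec_mulVec, ← mulVec_mulVec v, hg', hg', hact.sa]
        · obtain ⟨u, rfl⟩ : ∃ a, (g : Matrix (Fin d ⊕ Fin d) (Fin d ⊕ Fin d) F) *ᵥ a = u := ⟨((g⁻¹ : GL (Fin d ⊕ Fin d) F) : Matrix (Fin d ⊕ Fin d) (Fin d ⊕ Fin d) F) *ᵥ u, by simp⟩
          simp only [mulVec_mulVec, mul_assoc, Units.inv_mul, mul_one]
          rw [← mulVec_mulVec, hg', hact.alt]
      · left
        push Not at hcom
        obtain ⟨c, hc⟩ := hcom
        let U' := U.map (Matrix.toLin' ((g⁻¹ : GL (Fin d ⊕ Fin d) F) : Matrix (Fin d ⊕ Fin d) (Fin d ⊕ Fin d) F))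
        have hinj : Function.Injective (Matrix.toLin' ((g⁻¹ : GL (Fin d ⊕ Fin d) F) : Matrix (Fin d ⊕ Fin d) (Fin d ⊕ Fin d) F)) :=
          Function.LeftInverse.injective (g := fun v => (g : Matrix (Fin d ⊕ Fin d) (Fin d ⊕ Fin d) F) *ᵥ v) fun v => by simp
        have hb := SpK.moved_bound hgx hc (U := U') (by
          rintro _ ⟨v, hv, rfl⟩
          simp [toSpGL_coe, mulVec_mulVec, mul_assoc]
          rw [← mulVec_mulVec, hU v hv])
        rw [← (Submodule.equivMapOfInjective _ hinj U).finrank_eq] at hb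
        refine ⟨by omega, hkK ▸ SpK.degree_of_moved (by omega) hgx hr ?_ (hkK.symm ▸ hk) hc⟩
        have hc' : SemiconjBy g (g⁻¹ * (toSpGL z).1 * g) (toSpGL z).1 := by simp [SemiconjBy, mul_assoc]
        have h1 := hc'.pow_right r
        rw [show (toSpGL z).1 ^ r = 1 by rw [← SubgroupClass.coe_pow, ← map_pow, hz, map_one]; rfl] at h1
        simpa [SemiconjBy] using h1
    have hscal : ∀ (P : GL (Fin d ⊕ Fin d) F) (c : K) (v : Fin d ⊕ Fin d → F) (c' : K), v ≠ 0 →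
        ((P : Matrix (Fin d ⊕ Fin d) (Fin d ⊕ Fin d) F) * ρ c * ((P⁻¹ : GL (Fin d ⊕ Fin d) F) : Matrix (Fin d ⊕ Fin d) (Fin d ⊕ Fin d) F)) *ᵥ v =
          ((P : Matrix (Fin d ⊕ Fin d) (Fin d ⊕ Fin d) F) * ρ c' * ((P⁻¹ : GL (Fin d ⊕ Fin d) F) : Matrix (Fin d ⊕ Fin d) (Fin d ⊕ Fin d) F)) *ᵥ v → c = c' := by
      intro P c v c' hv h
      refine sub_eq_zero.1 (SpK.rho_kills (ρ := ρ) (v := ((P⁻¹ : GL (Fin d ⊕ Fin d) F) : Matrix (Fin d ⊕ Fin d) (Fin d ⊕ Fin d) F) *ᵥ v) ?_ ?_)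
      · intro h0
        exact hv (by simpa [mulVec_mulVec] using congrArg (fun u => (P : Matrix (Fin d ⊕ Fin d) (Fin d ⊕ Fin d) F) *ᵥ u) h0)
      · have := congrArg (fun u => ((P⁻¹ : GL (Fin d ⊕ Fin d) F) : Matrix (Fin d ⊕ Fin d) (Fin d ⊕ Fin d) F) *ᵥ u) h
        simp only [mulVec_mulVec, mul_assoc, Units.inv_mul_cancel_left] at this
        rw [map_sub, sub_mulVec, mulVec_mulVec, mulVec_mulVec, this, sub_self]
    have hfull : ∀ P : GL (Fin d ⊕ Fin d) F, ¬ ∀ c : K, ∃ v ≠ 0, ∃ a : F,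
        ((P : Matrix (Fin d ⊕ Fin d) (Fin d ⊕ Fin d) F) * ρ c * ((P⁻¹ : GL (Fin d ⊕ Fin d) F) : Matrix (Fin d ⊕ Fin d) (Fin d ⊕ Fin d) F)) *ᵥ v = a • v := by
      intro P h
      have htop : Submodule.span F {(1 : K)} = ⊤ := Submodule.eq_top_iff'.2 fun c => by
        obtain ⟨v, hv, a, ha⟩ := h c
        refine Submodule.mem_span_singleton.2 ⟨a, (hscal P c v (a • 1) hv ?_).symm⟩
        rw [ha, map_smul, map_one, mul_smul_comm, mul_one, smul_mul_assoc, Units.mul_inv, smul_mulVec, one_mulVec]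
      have h4 : Module.finrank F (Submodule.span F {(1 : K)}) = Module.finrank F K := by rw [htop, finrank_top]
      rw [finrank_span_singleton one_ne_zero, hkK] at h4
      exact hk.one_lt.ne h4
    have hrp : r ≠ p := fun hrp => by
      subst hrp
      obtain ⟨z, hz, hzs, ⟨U, hUd, hU⟩, hev⟩ := exists_transvection (F := F) (p := r) hd
      rcases key z hz hzs U hU with h | ⟨P, hP⟩
      · omega
      · exact hfull P fun c => hev _ (hP c).2.1 (hP c).2.2 (hP c).1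
    rcases hr.eq_two_or_odd' with h | hro
    · subst h
      have hp2 : p ≠ 2 := fun h => hrp h.symm
      have h2 : (2 : F) ≠ 0 := fun h => hp2 ((Nat.prime_dvd_prime_iff_eq hp.out Nat.prime_two).1
        ((CharP.cast_eq_zero_iff F p 2).1 (by exact_mod_cast h)))
      obtain ⟨z, hz, hzs, ⟨U, hUd, hU⟩, hev⟩ := exists_reflection (F := F) h2 hd
      rcases key z hz hzs U hU with ⟨hle, h2k⟩ | ⟨P, hP⟩
      · refine ⟨rfl, by omega, h2k.symm, ?_⟩
        rw [← hq, hn]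
        exact (hp.out.odd_of_ne_two hp2).pow
      · exact (hfull P fun c => hev _ (hP c).2.1 (hP c).2.2 (hP c).1).elim
    · exfalso
      have hr2 : r ≠ 2 := fun h => by rw [h] at hro; exact absurd hro (by decide)
      obtain ⟨hrq, -⟩ := CfsgLib.Derange.not_dvd_card (p := p) hq hr hrp
      obtain ⟨j, hj1, hjd, hkj, hrj⟩ := (SpK.index_data hq (by omega) hr hact (hrange.symm ▸ hΩ)).resolve_left hrq
      rw [hkK] at hkj
      have hj : (q : ZMod r) ^ (2 * j) = 1 := by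
        have h0 := (ZMod.natCast_eq_zero_iff _ _).2 hrj
        rw [Nat.cast_sub (Nat.one_le_pow _ _ (hq ▸ Fintype.card_pos)), Nat.cast_pow, Nat.cast_one, sub_eq_zero] at h0
        exact h0
      obtain ⟨a, z, ha1, haj, har, hz, hzs, ⟨U, hUd, hU⟩, hfrob⟩ :=
        SpK.exists_sample (p := p) (d := d) hq hr hr2 hrp hj1 hjd hj
      rcases key z hz hzs U hU with ⟨hle, hrk⟩ | ⟨P, hP⟩
      · omega
      · refine hkj (hkK ▸ (SpK.degree_dvd hq fun c => ?_).trans haj)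
        obtain ⟨v, hv, hJv⟩ := hfrob _ (hP c).2.1 (hP c).1
        refine hscal P _ v _ hv ?_
        rw [map_pow, ← hJv, Units.conj_pow]
  · rintro ⟨rfl, rfl, rfl, hodd⟩ x hx ⟨z, hz⟩ -
    have hp2 : p ≠ 2 := fun h => by
      rw [← hq, hn, h] at hodd
      exact Nat.not_odd_iff_even.2 ((Nat.even_pow).2 ⟨even_two, n.ne_zero⟩) hodd
    have h2 : (2 : F) ≠ 0 := fun h => hp2 ((Nat.prime_dvd_prime_iff_eq hp.out Nat.prime_two).1
      ((CharP.cast_eq_zero_iff F p 2).1 (by exact_mod_cast h)))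
    obtain ⟨j₀, hj₀, hjs₀⟩ : ∃ j ∈ K, ∀ c : F, j ≠ c • (1 : Matrix (Fin 2 ⊕ Fin 2) (Fin 2 ⊕ Fin 2) F) := by
      by_contra hc
      push Not at hc
      have hle : Subalgebra.toSubmodule K ≤ Submodule.span F {(1 : Matrix (Fin 2 ⊕ Fin 2) (Fin 2 ⊕ Fin 2) F)} := by
        intro y hy
        obtain ⟨c, rfl⟩ := hc y hy
        exact Submodule.mem_span_singleton.2 ⟨c, rfl⟩
      have h3 := Submodule.finrank_mono hle
      rw [finrank_span_singleton one_ne_zero] at h3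
      have : Module.finrank F (Subalgebra.toSubmodule K) = 2 := hK.finrank_eq
      omega
    obtain ⟨a, b, hab⟩ := CfsgLib.SympU.exists_span (by omega) hK hj₀ hjs₀ (K.mul_mem hj₀ hj₀)
    set j := j₀ - (b / 2) • (1 : Matrix (Fin 2 ⊕ Fin 2) (Fin 2 ⊕ Fin 2) F) with hjdef
    have hjK : j ∈ K := K.sub_mem hj₀ (K.smul_mem K.one_mem _)
    have hjs : ∀ c : F, j ≠ c • (1 : Matrix (Fin 2 ⊕ Fin 2) (Fin 2 ⊕ Fin 2) F) := fun c e => hjs₀ (c + b / 2) (by
      rw [add_smul, ← e, hjdef, sub_add_cancel])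
    set ν := a + b / 2 * (b / 2) with hνdef
    have hjj : j * j = ν • (1 : Matrix (Fin 2 ⊕ Fin 2) (Fin 2 ⊕ Fin 2) F) := by
      rw [hjdef, hνdef]
      simp only [sub_mul, mul_sub, smul_mul_assoc, mul_smul_comm, one_mul, mul_one, hab, smul_smul, smul_sub]
      match_scalars <;> field_simp <;> ring
    have hν : ∀ c : F, c * c ≠ ν := fun c hc => by
      have h1 : (⟨j, hjK⟩ : K) * ⟨j, hjK⟩ = (c • (1 : K)) * (c • (1 : K)) := Subtype.ext (by
        show j * j = (c • (1 : Matrix (Fin 2 ⊕ Fin 2) (Fin 2 ⊕ Fin 2) F)) * (c • (1 : Matrix (Fin 2 ⊕ Fin 2) (Fin 2 ⊕ Fin 2) F))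
        rw [hjj, smul_mul_assoc, one_mul, smul_smul, hc])
      rcases mul_self_eq_mul_self_iff.1 h1 with h | h
      · exact hjs c (congrArg Subtype.val h)
      · exact hjs (-c) (by rw [neg_smul]; exact congrArg Subtype.val h)
    have hsp : ∀ u w, sb F 2 ((x : Matrix (Fin 2 ⊕ Fin 2) (Fin 2 ⊕ Fin 2) F) *ᵥ u) ((x : Matrix (Fin 2 ⊕ Fin 2) (Fin 2 ⊕ Fin 2) F) *ᵥ w) = sb F 2 u w := fun u w => by
      rw [sb_apply, sb_apply]; exact hx u w
    rw [Units.val_pow_eq_pow_val, sq] at hz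
    have hxx : ∀ u, Matrix.toLin' (x : Matrix (Fin 2 ⊕ Fin 2) (Fin 2 ⊕ Fin 2) F) (Matrix.toLin' (x : Matrix (Fin 2 ⊕ Fin 2) (Fin 2 ⊕ Fin 2) F) u) = z • u := fun u => by
      simp only [Matrix.toLin'_apply, Matrix.mulVec_mulVec]
      rw [show (x : Matrix (Fin 2 ⊕ Fin 2) (Fin 2 ⊕ Fin 2) F) * (x : Matrix (Fin 2 ⊕ Fin 2) (Fin 2 ⊕ Fin 2) F) = _ from hz,
        Matrix.smul_mulVec, Matrix.one_mulVec]
    obtain ⟨v, hv⟩ : ∃ v : Fin 2 ⊕ Fin 2 → F, v ≠ 0 := exists_ne 0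
    obtain ⟨w, hw⟩ : ∃ w, sb F 2 v w ≠ 0 := by
      by_contra hc
      push Not at hc
      exact hv ((symp_sb F 2).nd v hc)
    have hz2 : z * z = 1 := by
      have h1 := (hsp ((x : Matrix (Fin 2 ⊕ Fin 2) (Fin 2 ⊕ Fin 2) F) *ᵥ v) ((x : Matrix (Fin 2 ⊕ Fin 2) (Fin 2 ⊕ Fin 2) F) *ᵥ w)).trans (hsp v w)
      have e1 := hxx v
      have e2 := hxx w
      simp only [Matrix.toLin'_apply] at e1 e2
      rw [e1, e2, map_smul, map_smul, LinearMap.smul_apply, smul_smul, smul_eq_mul] at h1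
      exact mul_eq_right₀ hw |>.1 h1
    obtain ⟨J, v', w', s, hs, hA, hxJ⟩ := exists_root_four (ν := ν) h2 hν (symp_sb F 2) (Sp.finrank_std 2) hz2
      (Matrix.toLin' (x : Matrix (Fin 2 ⊕ Fin 2) (Fin 2 ⊕ Fin 2) F)) (fun u w => hsp u w) hxx
    obtain ⟨g, hg, hgJ⟩ := root_conj_four (J := Matrix.toLin' j) hν (symp_sb F 2) (Sp.finrank_std 2)
      (fun u w => by simpa [sb_apply] using hKf j hjK u w) (fun u => by simpa [sb_apply] using hKalt j hjK u)
      (fun u => by rw [Matrix.toLin'_apply, Matrix.toLin'_apply, Matrix.mulVec_mulVec, hjj, Matrix.smul_mulVec, Matrix.one_mulVec])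
      hA
    let P : GL (Fin 2 ⊕ Fin 2) F := Matrix.GeneralLinearGroup.toLin.symm (LinearMap.GeneralLinearGroup.ofLinearEquiv g)
    have hPa : ∀ u, (P : Matrix (Fin 2 ⊕ Fin 2) (Fin 2 ⊕ Fin 2) F) *ᵥ u = g u := fun u => by
      show LinearMap.toMatrix' g.toLinearMap *ᵥ u = _
      rw [← Matrix.toLin'_apply, Matrix.toLin'_toMatrix']; rfl
    refine ⟨P, fun u w => ?_, S5976.mem_normalizer_of_semi (by omega) hK hjK hjs _ ?_⟩
    · show Cfsg.sympForm 2 F ((P : Matrix (Fin 2 ⊕ Fin 2) (Fin 2 ⊕ Fin 2) F) *ᵥ u) ((P : Matrix (Fin 2 ⊕ Fin 2) (Fin 2 ⊕ Fin 2) F) *ᵥ w) = _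
      rw [hPa, hPa, ← sb_apply, hg, sb_apply]
    have hPj : (P : Matrix (Fin 2 ⊕ Fin 2) (Fin 2 ⊕ Fin 2) F) * j = LinearMap.toMatrix' J * (P : Matrix (Fin 2 ⊕ Fin 2) (Fin 2 ⊕ Fin 2) F) :=
      Matrix.ext_iff_mulVec.2 fun u => by
        rw [← Matrix.mulVec_mulVec, ← Matrix.mulVec_mulVec, hPa, hPa, ← Matrix.toLin'_apply (LinearMap.toMatrix' J),
          Matrix.toLin'_toMatrix', ← hgJ, Matrix.toLin'_apply]
    have hxJ' : (x : Matrix (Fin 2 ⊕ Fin 2) (Fin 2 ⊕ Fin 2) F) * LinearMap.toMatrix' J = s • (LinearMap.toMatrix' J * (x : Matrix (Fin 2 ⊕ Fin 2) (Fin 2 ⊕ Fin 2) F)) :=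
      Matrix.toLin'.injective (by
        rw [map_smul, Matrix.toLin'_mul, Matrix.toLin'_mul, Matrix.toLin'_toMatrix']
        exact LinearMap.ext hxJ)
    have hPj' : LinearMap.toMatrix' J = (P : Matrix (Fin 2 ⊕ Fin 2) (Fin 2 ⊕ Fin 2) F) * j * ((P⁻¹ : GL (Fin 2 ⊕ Fin 2) F) : Matrix (Fin 2 ⊕ Fin 2) (Fin 2 ⊕ Fin 2) F) := by
      rw [hPj, mul_assoc, Units.mul_inv, mul_one]
    have h3 := congrArg (fun M => ((P⁻¹ : GL (Fin 2 ⊕ Fin 2) F) : Matrix (Fin 2 ⊕ Fin 2) (Fin 2 ⊕ Fin 2) F) * M * (P : Matrix (Fin 2 ⊕ Fin 2) (Fin 2 ⊕ Fin 2) F)) hxJ'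
    rw [hPj'] at h3
    simp only [mul_smul_comm, smul_mul_assoc, mul_assoc, Units.inv_mul, mul_one, Units.inv_mul_cancel_left] at h3
    rcases hs with rfl | rfl
    · exact Or.inl (by simpa [mul_assoc] using h3)
    · exact Or.inr (by simpa [mul_assoc] using h3)

end Cfsg.Agent.S5975
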