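import Cfsg.Statements.S5976
import Cfsg.Agent.Lib.Derange.SympUnitary
import Cfsg.Agent.Lib.Derange.SympReal
import Cfsg.Agent.Lib.Derange.Window
import Cfsg.Agent.Lib.Classical.SympOverfieldUMax
import Cfsg.Agent.Lib.Classical.SympOrder
import Cfsg.Agent.Lib.Classical.UnitaryOrder
import Cfsg.Agent.Lib.OddOrtho.Structure

set_option autoImplicit false
open scoped MatrixGroups
open Cfsg

namespace Cfsg.Agent.S5976

open Module Matrix Polynomial CfsgLib.Derange CfsgLib.SympCount CfsgLib.Classical CfsgLib.Classical.SympTrans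
open CfsgLib.Classical.SympClasses CfsgLib.Classical.UnitaryTwistPoly CfsgLib.Classical.OrthPrimeFactors

universe u

variable {F : Type u} [Field F] [Fintype F] {d : ℕ}

local notation "Mat" => Matrix (Fin d ⊕ Fin d) (Fin d ⊕ Fin d) F
local notation "τ" => tw (RingHom.id F)

/-- Commuting or anticommuting. -/
def Semi {n : Type*} [Fintype n] (x J : Matrix n n F) : Prop := x * J = J * x ∨ x * J = -(J * x)

/-- A skew root of `ν` as a matrix. -/
abbrev Root (ν : F) (J : Mat) : Prop := SpU.Skew (sb F d) ν (Matrix.toLin' J)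

theorem mem_normalizer_of_semi (hd : 1 ≤ d) {K : Subalgebra F Mat} (hK : Cfsg.Geo.IsFieldSubalgebra 2 K) {j : Mat}
    (hj : j ∈ K) (hjs : ∀ c : F, j ≠ c • (1 : Mat)) (g : GL (Fin d ⊕ Fin d) F) (h : Semi (g : Mat) j) :
    g ∈ Cfsg.Geo.subalgebraNormalizer K := by
  have key : ∀ g : GL (Fin d ⊕ Fin d) F, Semi (g : Mat) j → ∀ k ∈ K, (g : Mat) * k * ((g⁻¹ : GL (Fin d ⊕ Fin d) F) : Mat) ∈ K := by
    intro g hg k hk
    obtain ⟨a, b, rfl⟩ := CfsgLib.SympU.exists_span hd hK hj hjs hk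
    rw [mul_add, mul_smul_comm, mul_smul_comm, mul_one]
    rcases hg with hg | hg <;>
      rw [hg, add_mul, smul_mul_assoc, smul_mul_assoc, Units.mul_inv]
    · rw [mul_assoc, Units.mul_inv, mul_one]
      exact hk
    · rw [neg_mul, mul_assoc, Units.mul_inv, mul_one]
      exact K.add_mem (K.smul_mem K.one_mem _) (K.smul_mem (K.neg_mem hj) _)
  have hinv : Semi ((g⁻¹ : GL (Fin d ⊕ Fin d) F) : Mat) j := by
    rcases h with h | h
    · exact Or.inl (Commute.units_inv_left h)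
    · refine Or.inr ?_
      have h1 := congrArg (fun z => ((g⁻¹ : GL (Fin d ⊕ Fin d) F) : Mat) * z * ((g⁻¹ : GL (Fin d ⊕ Fin d) F) : Mat)) h
      simp only [mul_neg, neg_mul, ← mul_assoc, Units.inv_mul, one_mul] at h1
      rw [mul_assoc _ (g : Mat), Units.mul_inv, mul_one] at h1
      rw [h1, neg_neg]
  intro k
  refine ⟨key g h k, fun hk => ?_⟩
  have h1 := key g⁻¹ hinv _ hk
  simpa [mul_assoc] using h1

theorem semi_of_mem_normalizer (hd : 1 ≤ d) {K : Subalgebra F Mat} (hK : Cfsg.Geo.IsFieldSubalgebra 2 K) {j : Mat}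
    (hj : j ∈ K) (hjs : ∀ c : F, j ≠ c • (1 : Mat)) {ν : F} (h2 : (2 : F) ≠ 0) (hjj : j * j = ν • (1 : Mat))
    (g : GL (Fin d ⊕ Fin d) F) (h : g ∈ Cfsg.Geo.subalgebraNormalizer K) : Semi (g : Mat) j := by
  obtain ⟨a, b, hab⟩ := CfsgLib.SympU.exists_span hd hK hj hjs ((h j).1 hj)
  haveI : Nonempty (Fin d ⊕ Fin d) := ⟨Sum.inl ⟨0, by omega⟩⟩
  have hgj : (g : Mat) * j = a • (g : Mat) + b • (j * g) := by
    have := congrArg (fun z => z * (g : Mat)) hab
    simpa [mul_assoc, add_mul, smul_mul_assoc] using this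
  have hsq : ((g : Mat) * j * ((g⁻¹ : GL (Fin d ⊕ Fin d) F) : Mat)) * ((g : Mat) * j * ((g⁻¹ : GL (Fin d ⊕ Fin d) F) : Mat)) = ν • (1 : Mat) := by
    rw [show (g : Mat) * j * ((g⁻¹ : GL (Fin d ⊕ Fin d) F) : Mat) * ((g : Mat) * j * ((g⁻¹ : GL (Fin d ⊕ Fin d) F) : Mat)) = (g : Mat) * (j * j) * ((g⁻¹ : GL (Fin d ⊕ Fin d) F) : Mat) by simp [mul_assoc], hjj,
      mul_smul_comm, mul_one, smul_mul_assoc, Units.mul_inv]
  rw [hab] at hsq
  have hlin : (2 * a * b) • j = (ν - a * a - b * b * ν) • (1 : Mat) := by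
    simp only [add_mul, mul_add, smul_mul_assoc, mul_smul_comm, one_mul, mul_one, hjj, smul_smul] at hsq
    linear_combination (norm := module) hsq
  by_cases hb : b = 0
  · exfalso
    rw [hb, zero_smul, add_zero] at hgj
    refine hjs a ?_
    have h1 := congrArg (fun z => ((g⁻¹ : GL (Fin d ⊕ Fin d) F) : Mat) * z) hgj
    simpa [← mul_assoc, mul_smul_comm] using h1
  have ha : a = 0 := by
    by_contra ha
    refine hjs ((2 * a * b)⁻¹ * (ν - a * a - b * b * ν)) ?_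
    rw [mul_smul, ← hlin, inv_smul_smul₀ (mul_ne_zero (mul_ne_zero h2 ha) hb)]
  simp only [ha, mul_zero, zero_mul, zero_smul, sub_zero] at hlin
  rw [eq_comm, smul_eq_zero] at hlin
  have hb2 : b * b = 1 := by
    have h1 := hlin.resolve_right one_ne_zero
    have hν : ν ≠ 0 := fun h0 => hjs 0 (by
      obtain ⟨y, -, hy⟩ := Classical.em (j = 0) |>.elim (fun h => absurd (by rw [h, zero_smul]) (hjs 0)) (hK.inv j hj)
      rw [zero_smul]
      have := congrArg (fun z => z * y) hjj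
      rw [h0, zero_smul, zero_mul, mul_assoc, hy, mul_one] at this
      exact this)
    exact mul_right_cancel₀ hν (by linear_combination -h1)
  rw [ha, zero_smul, zero_add] at hgj
  rcases mul_self_eq_one_iff.1 hb2 with h1 | h1
  · exact Or.inl (by rw [hgj, h1, one_smul])
  · exact Or.inr (by rw [hgj, h1, neg_smul, one_smul])

omit [Fintype F] in
theorem semi_comm_of_pow (h2 : (2 : F) ≠ 0) {r : ℕ} (hr : Odd r) {n : Type*} [Fintype n] [DecidableEq n]
    {x J : Matrix n n F} (hx : x ^ r = 1) (h : Semi x J) : x * J = J * x := by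
  rcases h with h | h
  · exact h
  have key : ∀ k : ℕ, x ^ k * J = (-1 : F) ^ k • (J * x ^ k) := by
    intro k
    induction k with
    | zero => simp
    | succ k ih =>
      rw [pow_succ, mul_assoc, h, mul_neg, ← mul_assoc, ih, smul_mul_assoc, mul_assoc, pow_succ,
        mul_neg_one, neg_smul]
  have h1 := key r
  rw [hx, one_mul, mul_one, hr.neg_one_pow, neg_smul, one_smul] at h1
  have hJ : J = 0 := by
    have h3 : (2 : F) • J = 0 := by rw [two_smul]; nth_rw 2 [h1]; exact add_neg_cancel J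
    exact (smul_eq_zero.1 h3).resolve_left h2
  rw [hJ, mul_zero, zero_mul]

omit [Fintype F] in
theorem root_conj {ν : F} {j : Mat} (hj : Root ν j) {g : GL (Fin d ⊕ Fin d) F} (hg : g ∈ Cfsg.spGL d F) :
    Root ν ((g : Mat) * j * ((g⁻¹ : GL (Fin d ⊕ Fin d) F) : Mat)) := by
  refine ⟨fun x y => ?_, fun x => ?_⟩
  · obtain ⟨u, rfl⟩ : ∃ u, (g : Mat) *ᵥ u = x := ⟨((g⁻¹ : GL _ F) : Mat) *ᵥ x, by simp⟩
    obtain ⟨w, rfl⟩ : ∃ w, (g : Mat) *ᵥ w = y := ⟨((g⁻¹ : GL _ F) : Mat) *ᵥ y, by simp⟩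
    have hs := hj.skew u w
    simp only [Matrix.toLin'_apply, sb_apply, Matrix.mulVec_mulVec, mul_assoc, Units.inv_mul, mul_one] at hs ⊢
    have hg' : ∀ a b, Cfsg.sympForm d F ((g : Mat) *ᵥ a) ((g : Mat) *ᵥ b) = Cfsg.sympForm d F a b := hg
    rw [← Matrix.mulVec_mulVec, ← Matrix.mulVec_mulVec w, hg', hg', hs]
  · obtain ⟨u, rfl⟩ : ∃ u, (g : Mat) *ᵥ u = x := ⟨((g⁻¹ : GL _ F) : Mat) *ᵥ x, by simp⟩
    have hs := hj.sq u
    simp only [Matrix.toLin'_apply, Matrix.mulVec_mulVec, mul_assoc, Units.inv_mul, mul_one, Units.inv_mul_cancel_left] at hs ⊢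
    rw [← Matrix.mulVec_mulVec, hs, Matrix.mulVec_smul]

omit [Fintype F] in
theorem semi_conj {x : GL (Fin d ⊕ Fin d) F} {j : Mat} {g : GL (Fin d ⊕ Fin d) F}
    (h : Semi ((g⁻¹ * x * g : GL (Fin d ⊕ Fin d) F) : Mat) j) : Semi (x : Mat) ((g : Mat) * j * ((g⁻¹ : GL (Fin d ⊕ Fin d) F) : Mat)) := by
  rcases h with h | h
  · left
    have := congrArg (fun z => (g : Mat) * z * ((g⁻¹ : GL (Fin d ⊕ Fin d) F) : Mat)) h
    simpa [mul_assoc] using this
  · right
    have := congrArg (fun z => (g : Mat) * z * ((g⁻¹ : GL (Fin d ⊕ Fin d) F) : Mat)) h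
    simpa [mul_assoc] using this

variable {p : ℕ} [hp : Fact p.Prime] [CharP F p] {q r : ℕ}

include hp in
/-- A prime dividing the index divides some `q ^ k ± 1`. -/
theorem index_data (hq : Fintype.card F = q) (hodd : Odd q) (hd : 1 ≤ d) (hr : r.Prime) (hrq : ¬ r ∣ q) {ν : F}
    (hν : ∀ c : F, c * c ≠ ν) (h2 : (2 : F) ≠ 0) {K : Subalgebra F Mat} (hK : Cfsg.Geo.IsFieldSubalgebra 2 K) {j : Mat}
    (hj : j ∈ K) (hjs : ∀ c : F, j ≠ c • (1 : Mat)) (hjr : Root ν j)
    (hΩ : r ∣ (Cfsg.Geo.subalgebraNormalizer K).relIndex (Cfsg.spGL d F)) :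
    ∃ k, 1 ≤ k ∧ k ≤ d ∧ (q : ZMod r) ^ k = if Even k then -1 else 1 := by
  classical
  obtain ⟨n, -, hn⟩ := FiniteField.card F p
  let L := GaloisField p (2 * (n : ℕ))
  letI : Fintype L := Fintype.ofFinite L
  have hL : Fintype.card L = q ^ 2 := by
    rw [← Nat.card_eq_fintype_card, GaloisField.card p _ (by positivity), ← hq, hn, ← pow_mul, mul_comm]
  obtain ⟨J₀, φ, hφ, hJ₀, hφ'⟩ := SpU.exists_unitary (F := F) hν L hL hq d
  obtain ⟨e, he, hec⟩ := SpU.exists_conj h2 hν (symp_sb F d) (by rw [Sp.finrank_std]) hJ₀ hjr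
  let P : GL (Fin d ⊕ Fin d) F := Matrix.GeneralLinearGroup.toLin.symm (LinearMap.GeneralLinearGroup.ofLinearEquiv e)
  have hPa : ∀ x, (P : Mat) *ᵥ x = e x := fun x => by
    show LinearMap.toMatrix' e.toLinearMap *ᵥ x = _
    rw [← Matrix.toLin'_apply, Matrix.toLin'_toMatrix']; rfl
  have hP : P ∈ Cfsg.spGL d F := fun u v => by
    show Cfsg.sympForm d F ((P : Mat) *ᵥ u) ((P : Mat) *ᵥ v) = _
    rw [hPa, hPa, ← sb_apply, he, sb_apply]
  have hPj : (P : Mat) * LinearMap.toMatrix' J₀ = j * (P : Mat) := Matrix.ext_iff_mulVec.2 fun x => by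
    rw [← Matrix.mulVec_mulVec, ← Matrix.mulVec_mulVec, hPa, hPa, ← Matrix.toLin'_apply (LinearMap.toMatrix' J₀),
      Matrix.toLin'_toMatrix', hec, Matrix.toLin'_apply]
  set H := (Cfsg.Geo.subalgebraNormalizer K).subgroupOf (Cfsg.spGL d F)
  let ψ : Cfsg.GU d L q →* Cfsg.spGL d F :=
    (((MulAut.conj P).toMonoidHom).comp φ).codRestrict _ fun g =>
      Subgroup.mul_mem _ (Subgroup.mul_mem _ hP (hφ' g).1) (Subgroup.inv_mem _ hP)
  have hψ : Function.Injective ψ := fun a b h => hφ ((MulAut.conj P).injective (congrArg Subtype.val h))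
  have hmem : ∀ g, ψ g ∈ H := fun g => by
    refine Subgroup.mem_subgroupOf.2 (mem_normalizer_of_semi hd hK hj hjs _ (Or.inl ?_))
    show ((P : Mat) * (φ g : Mat) * ((P⁻¹ : GL (Fin d ⊕ Fin d) F) : Mat)) * j = j * ((P : Mat) * (φ g : Mat) * ((P⁻¹ : GL (Fin d ⊕ Fin d) F) : Mat))
    have h1 : (φ g : Mat) * LinearMap.toMatrix' J₀ = LinearMap.toMatrix' J₀ * (φ g : Mat) :=
      Matrix.ext_iff_mulVec.2 fun x => by
        rw [← Matrix.mulVec_mulVec, ← Matrix.mulVec_mulVec, ← Matrix.toLin'_apply (LinearMap.toMatrix' J₀),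
          ← Matrix.toLin'_apply (LinearMap.toMatrix' J₀), Matrix.toLin'_toMatrix', (hφ' g).2]
    have h2' : ((P⁻¹ : GL _ F) : Mat) * j = LinearMap.toMatrix' J₀ * ((P⁻¹ : GL (Fin d ⊕ Fin d) F) : Mat) := by
      have := congrArg (fun z => ((P⁻¹ : GL _ F) : Mat) * z * ((P⁻¹ : GL (Fin d ⊕ Fin d) F) : Mat)) hPj
      simpa [mul_assoc] using this.symm
    rw [mul_assoc, h2', ← mul_assoc j, ← mul_assoc j, ← hPj, mul_assoc (P : Mat) (φ g : Mat), ← mul_assoc (φ g : Mat),
      h1]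
    simp [mul_assoc]
  have hGU : Nat.card (Cfsg.GU d L q) ∣ Nat.card H :=
    Subgroup.card_dvd_of_injective (ψ.codRestrict H hmem) fun a b h => hψ (congrArg Subtype.val h)
  obtain ⟨m, hm⟩ := hGU
  have hSp : Nat.card (Cfsg.spGL d F) = q ^ (d ^ 2) * ∏ i ∈ Finset.range d, (q ^ (2 * (i + 1)) - 1) := by
    rw [← Nat.card_congr (Equiv.ofBijective _ ⟨toSpGL_injective, toSpGL_surjective⟩),
      SympTrans.card_symplectic, Nat.card_eq_fintype_card, hq]
  have hid := H.index_mul_card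
  obtain ⟨CJ⟩ := CfsgLib.Classical.Herm.exists_conj_of_card (F := L) hL
  rw [hm, Herm.card_GU CJ, hSp] at hid
  have hdd : d ^ 2 = d * (d - 1) / 2 + d * (d + 1) / 2 := by
    obtain ⟨c, rfl⟩ : ∃ c, d = c + 1 := ⟨d - 1, by omega⟩
    obtain ⟨w, hw⟩ := Nat.even_mul_succ_self c
    have e1 : (c + 1) * (c + 1 - 1) = 2 * w := by rw [Nat.add_sub_cancel]; linarith
    have e2 : (c + 1) * (c + 1 + 1) = 2 * (w + c + 1) := by nlinarith
    rw [e1, e2, Nat.mul_div_cancel_left _ two_pos, Nat.mul_div_cancel_left _ two_pos, sq]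
    nlinarith
  have hsplit : ∀ i, q ^ (2 * (i + 1)) - 1 =
      (if Even i then q ^ (i + 1) + 1 else q ^ (i + 1) - 1) * (if Even i then q ^ (i + 1) - 1 else q ^ (i + 1) + 1) := by
    intro i
    have e : q ^ (2 * (i + 1)) - 1 = (q ^ (i + 1) + 1) * (q ^ (i + 1) - 1) := by
      rw [← Nat.sq_sub_sq, one_pow, ← pow_mul, mul_comm (i + 1) 2]
    split_ifs
    · exact e
    · rw [e, mul_comm]
  rw [hdd, pow_add, Finset.prod_congr rfl (fun i _ => hsplit i), Finset.prod_mul_distrib] at hid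
  have hq2 : 2 ≤ q := hq ▸ Fintype.one_lt_card
  have hne : q ^ (d * (d - 1) / 2) * ∏ i ∈ Finset.range d, (if Even i then q ^ (i + 1) + 1 else q ^ (i + 1) - 1) ≠ 0 := by
    refine mul_ne_zero (pow_ne_zero _ (by omega)) (Finset.prod_ne_zero_iff.2 fun i _ => ?_)
    have : 1 < q ^ (i + 1) := Nat.one_lt_pow (by omega) hq2
    split_ifs <;> omega
  have hA : H.index * m = q ^ (d * (d + 1) / 2) *
      ∏ i ∈ Finset.range d, (if Even i then q ^ (i + 1) - 1 else q ^ (i + 1) + 1) :=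
    mul_left_cancel₀ hne (by linear_combination hid)
  have hrA := (Dvd.dvd.mul_right (show r ∣ H.index from hΩ) m).trans hA.dvd
  obtain ⟨i, hi, hri⟩ := (Prime.dvd_finsetProd_iff hr.prime _).1
    ((hr.dvd_mul.1 hrA).resolve_left fun h => hrq (hr.dvd_of_dvd_pow h))
  refine ⟨i + 1, by omega, Finset.mem_range.1 hi, ?_⟩
  have h0 := (ZMod.natCast_eq_zero_iff _ _).2 hri
  simp only [Nat.even_add_one]
  split_ifs at h0 ⊢ with he
  · rw [Nat.cast_sub (Nat.one_le_pow _ _ (by omega)), Nat.cast_pow, Nat.cast_one, sub_eq_zero] at h0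
    exact h0
  · rw [Nat.cast_add, Nat.cast_pow, Nat.cast_one] at h0
    exact eq_neg_of_add_eq_zero_left h0

theorem pow_card_pow {n : Type*} [Fintype n] [DecidableEq n] (hq : Fintype.card F = q) (S : Matrix n n F) (g : F[X])
    (h : ℕ) : aeval S g ^ (q ^ h) = aeval (S ^ (q ^ h)) g := by
  induction h with
  | zero => simp
  | succ h ih =>
    rw [pow_succ, pow_mul, ih, ← map_pow, pow_mul, ← hq, ← FiniteField.expand_card, Polynomial.expand_aeval]

theorem root_pow {n : Type*} [Fintype n] [DecidableEq n] (hq : Fintype.card F = q) (hodd : Odd q) {ν : F}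
    (hν : ∀ c : F, c * c ≠ ν) (h2 : (2 : F) ≠ 0) {J : Matrix n n F} (hJ : J * J = ν • (1 : Matrix n n F)) (h : ℕ) :
    J ^ (q ^ h) = (-1 : F) ^ h • J := by
  have hν0 : ν ≠ 0 := fun e => hν 0 (by rw [e, mul_zero])
  have hchar : ringChar F ≠ 2 := fun hc => h2 (by
    have : CharP F 2 := ringChar.of_eq hc
    exact CharTwo.two_eq_zero)
  have hb : J ^ q = (-1 : F) • J := by
    obtain ⟨w, hw⟩ := hodd
    rw [hw, pow_succ, pow_mul, sq, hJ, _root_.smul_pow, one_pow, smul_mul_assoc, one_mul]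
    congr 1
    have := (FiniteField.pow_dichotomy hchar hν0).resolve_left fun e => by
      obtain ⟨c, hc⟩ := (FiniteField.isSquare_iff hchar hν0).2 e
      exact hν c hc.symm
    rwa [hq, hw, show (2 * w + 1) / 2 = w by omega] at this
  induction h with
  | zero => simp
  | succ h ih =>
    rw [pow_succ, pow_mul, ih, _root_.smul_pow, hb, smul_smul, pow_succ (-1 : F)]
    congr 1
    rw [← pow_mul, mul_comm h q, pow_mul, hodd.neg_one_pow]

omit [Fintype F] in
theorem adjoint_aeval {a : ℕ} (y : Matrix.symplecticGroup (Fin a) F) {r : ℕ} (hr : 1 ≤ r) (hy : y ^ r = 1) (g : F[X])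
    (u w : Fin a ⊕ Fin a → F) :
    Cfsg.sympForm a F (aeval (y : Matrix (Fin a ⊕ Fin a) (Fin a ⊕ Fin a) F) g *ᵥ u) w =
      Cfsg.sympForm a F u (aeval ((y : Matrix (Fin a ⊕ Fin a) (Fin a ⊕ Fin a) F) ^ (r - 1)) g *ᵥ w) := by
  set S := (y : Matrix (Fin a ⊕ Fin a) (Fin a ⊕ Fin a) F)
  have hS : S * S ^ (r - 1) = 1 := by
    rw [← pow_succ', Nat.sub_add_cancel hr]
    show (y : Matrix (Fin a ⊕ Fin a) (Fin a ⊕ Fin a) F) ^ r = 1
    rw [← SubmonoidClass.coe_pow, hy]; rfl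
  have hk : ∀ (k : ℕ) (u w : Fin a ⊕ Fin a → F),
      Cfsg.sympForm a F (S ^ k *ᵥ u) w = Cfsg.sympForm a F u ((S ^ (r - 1)) ^ k *ᵥ w) := by
    intro k
    induction k with
    | zero => simp
    | succ k ih =>
      intro u w
      rw [pow_succ, ← Matrix.mulVec_mulVec, ih, pow_succ', ← Matrix.mulVec_mulVec w]
      conv_lhs => rw [← Matrix.one_mulVec ((S ^ (r - 1)) ^ k *ᵥ w), ← hS, ← Matrix.mulVec_mulVec]
      exact f_app y u _
  induction g using Polynomial.induction_on' with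
  | add g g' hg hg' => simp only [map_add, Matrix.add_mulVec, f_add_left, f_add_right, hg, hg']
  | monomial k c =>
    simp only [aeval_monomial, ← Algebra.smul_def, Matrix.smul_mulVec, f_smul_left, f_smul_right, hk]

/-- An isometry with squarefree characteristic polynomial commuting with a skew root. -/
theorem no_root (hq : Fintype.card F = q) (hodd : Odd q) (h2 : (2 : F) ≠ 0) {ν : F} (hν : ∀ c : F, c * c ≠ ν)
    {a : ℕ} (ha : 1 ≤ a) (hr : 1 ≤ r) {y : Matrix.symplecticGroup (Fin a) F} (hy : y ^ r = 1)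
    (hsq : Squarefree (Sp.cp y))
    (hmin : minpoly F (y : Matrix (Fin a ⊕ Fin a) (Fin a ⊕ Fin a) F) = Sp.cp y)
    {J : Matrix (Fin a ⊕ Fin a) (Fin a ⊕ Fin a) F} (hJ : Root (d := a) ν J)
    (hc : (y : Matrix (Fin a ⊕ Fin a) (Fin a ⊕ Fin a) F) * J = J * (y : Matrix (Fin a ⊕ Fin a) (Fin a ⊕ Fin a) F))
    {h : ℕ} (hcase : (Odd h ∧ (q : ZMod r) ^ h = 1) ∨ (Even h ∧ (q : ZMod r) ^ h = -1)) : False := by
  classical
  set S := (y : Matrix (Fin a ⊕ Fin a) (Fin a ⊕ Fin a) F) with hSdef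
  obtain ⟨v, -, hann⟩ := CfsgLib.OddOrtho.exists_cyclic S (by rw [hmin]; exact hsq) _ (minpoly F S) rfl
    (minpoly.monic (Matrix.isIntegral S)) dvd_rfl
  have hdeg : (minpoly F S).natDegree = finrank F (Fin a ⊕ Fin a → F) := by
    rw [hmin, Sp.cp, Matrix.charpoly_natDegree_eq_dim, Module.finrank_fintype_fun_eq_card]
  let Φ : Polynomial.degreeLT F (minpoly F S).natDegree →ₗ[F] (Fin a ⊕ Fin a → F) :=
    { toFun := fun f => aeval S (f : F[X]) *ᵥ v
      map_add' := fun f g => by simp [Matrix.add_mulVec]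
      map_smul' := fun c f => by simp [Matrix.smul_mulVec] }
  have hΦi : Function.Injective Φ := LinearMap.ker_eq_bot.1 (LinearMap.ker_eq_bot'.2 fun f hf => by
    refine Subtype.ext (Polynomial.eq_zero_of_dvd_of_degree_lt (hann _ hf) ?_)
    rw [Polynomial.degree_eq_natDegree (minpoly.ne_zero (Matrix.isIntegral S))]
    exact Polynomial.mem_degreeLT.1 f.2)
  haveI : Module.Finite F (Polynomial.degreeLT F (minpoly F S).natDegree) :=
    Module.Finite.equiv (Polynomial.degreeLTEquiv F _).symm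
  have hΦs : Function.Surjective Φ := (LinearMap.injective_iff_surjective_of_finrank_eq_finrank
    (by rw [(Polynomial.degreeLTEquiv F _).finrank_eq, Module.finrank_fin_fun, hdeg])).1 hΦi
  obtain ⟨g, hg⟩ := hΦs (J *ᵥ v)
  have hJg : J = aeval S (g : F[X]) := Matrix.ext_iff_mulVec.2 fun w => by
    obtain ⟨f, rfl⟩ := hΦs w
    show J *ᵥ (aeval S (f : F[X]) *ᵥ v) = _ *ᵥ (aeval S (f : F[X]) *ᵥ v)
    have hcf : Commute J (aeval S (f : F[X])) := Algebra.commute_of_mem_adjoin_singleton_of_commute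
      (Polynomial.aeval_mem_adjoin_singleton F S) (show Commute J S from hc.symm)
    rw [Matrix.mulVec_mulVec, hcf.eq, ← Matrix.mulVec_mulVec, ← hg]
    show aeval S (f : F[X]) *ᵥ (aeval S (g : F[X]) *ᵥ v) = _
    rw [Matrix.mulVec_mulVec, Matrix.mulVec_mulVec, ← map_mul, ← map_mul, mul_comm]
  have hJJ : J * J = ν • (1 : Matrix (Fin a ⊕ Fin a) (Fin a ⊕ Fin a) F) := Matrix.ext_iff_mulVec.2 fun w => by
    rw [← Matrix.mulVec_mulVec, Matrix.smul_mulVec, Matrix.one_mulVec]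
    simpa only [Matrix.toLin'_apply] using hJ.sq w
  have hSr : S ^ r = 1 := by rw [hSdef, ← SubmonoidClass.coe_pow, hy]; rfl
  have hmod : ∀ m n : ℕ, (m : ZMod r) = n → S ^ m = S ^ n := fun m n e => by
    rw [pow_eq_pow_mod m hSr, pow_eq_pow_mod n hSr, (ZMod.natCast_eq_natCast_iff' _ _ _).1 e]
  have hkey : (-1 : F) ^ h • J = aeval (S ^ (q ^ h)) (g : F[X]) := by
    rw [← pow_card_pow hq, ← hJg, root_pow hq hodd hν h2 hJJ]
  have hν0 : ν ≠ 0 := fun e => hν 0 (by rw [e, mul_zero])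
  have hJ0 : J = 0 := by
    have : (2 : F) • J = 0 := by
      rcases hcase with ⟨hh, hqh⟩ | ⟨hh, hqh⟩
      · rw [hh.neg_one_pow, hmod (q ^ h) 1 (by push_cast; exact hqh), pow_one, ← hJg, neg_smul, one_smul] at hkey
        rw [two_smul]; nth_rw 1 [← hkey]; exact neg_add_cancel J
      · rw [hh.neg_one_pow, hmod (q ^ h) (r - 1) (by
          rw [Nat.cast_sub hr]; push_cast; rw [hqh, ZMod.natCast_self, zero_sub]), one_smul] at hkey
        have hadj : aeval (S ^ (r - 1)) (g : F[X]) = -J := Matrix.ext_iff_mulVec.2 fun w => by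
          refine sub_eq_zero.1 (eq_zero_of_f _ fun u => ?_)
          rw [f_swap, neg_eq_zero, f_sub_right, ← adjoint_aeval y hr hy, ← hJg, Matrix.neg_mulVec]
          have := hJ.skew u w
          simp only [Matrix.toLin'_apply, sb_apply] at this
          rw [this, ← neg_one_smul F (J *ᵥ w), f_smul_right]
          ring
        rw [hadj] at hkey
        rw [two_smul]; nth_rw 2 [hkey]; exact add_neg_cancel J
    exact (smul_eq_zero.1 this).resolve_left h2
  haveI : Nonempty (Fin a ⊕ Fin a) := ⟨Sum.inl ⟨0, ha⟩⟩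
  rw [hJ0, zero_mul, eq_comm, smul_eq_zero] at hJJ
  exact hν0 (hJJ.resolve_right one_ne_zero)

omit [Fintype F] in
theorem sq_dvd {u m : F[X]} (hu0 : u ≠ 0) (hsq : Squarefree u) (hf : ∀ Q : F[X], Irreducible Q → Q ∣ u → Q ∣ m) :
    u ∣ m := by
  classical
  obtain ⟨c, hc⟩ := gcd_dvd_left u m
  by_cases hcu : IsUnit c
  · have h : u ∣ gcd u m := by
      conv_lhs => rw [hc]
      exact (hcu.mul_right_dvd).2 dvd_rfl
    exact h.trans (gcd_dvd_right u m)
  · obtain ⟨Q, hQ, hQc⟩ := WfDvdMonoid.exists_irreducible_factor hcu (right_ne_zero_of_mul (hc ▸ hu0))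
    have hQu : Q ∣ u := hQc.trans (Dvd.intro_left _ hc.symm)
    exact absurd (hsq Q ((mul_dvd_mul (dvd_gcd hQu (hf Q hQ hQu)) hQc).trans hc.symm.dvd)) hQ.not_isUnit

include hp in
/-- An element of odd prime order without commuting skew roots. -/
theorem exists_sample (hq : Fintype.card F = q) (hodd : Odd q) (h2 : (2 : F) ≠ 0) (hr : r.Prime) (hr2 : r ≠ 2)
    (hrp : r ≠ p) {ν : F} (hν : ∀ c : F, c * c ≠ ν) {k : ℕ} (hk1 : 1 ≤ k) (hkd : k ≤ d)
    (hk : (q : ZMod r) ^ k = if Even k then -1 else 1) :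
    ∃ z : Matrix.symplecticGroup (Fin d) F, z ^ r = 1 ∧ (∀ c : F, (z : Mat) ≠ c • (1 : Mat)) ∧
      ∀ J : Mat, Root ν J → (z : Mat) * J ≠ J * (z : Mat) := by
  classical
  haveI := Fact.mk hr
  obtain ⟨t, D, X'⟩ := exists_ctx (p := p) hq hr hr2 hrp (rfl : orderOf (q : ZMod r) = _)
  set i := orderOf (q : ZMod r) with hidef
  have hipos := X'.i_pos
  have hm1 : (-1 : ZMod r) ≠ 1 := fun h => hr2 ((Nat.prime_dvd_prime_iff_eq hr Nat.prime_two).1
    ((ZMod.natCast_eq_zero_iff 2 r).1 (by push_cast; linear_combination -h)))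
  obtain ⟨a, ha1, had, hua, h, hcase⟩ : ∃ a, 1 ≤ a ∧ a ≤ d ∧ unitDim i = 2 * a ∧
      ∃ h : ℕ, (Odd h ∧ (q : ZMod r) ^ h = 1) ∨ (Even h ∧ (q : ZMod r) ^ h = -1) := by
    split_ifs at hk with hev
    · have hnd : ¬ i ∣ k := fun hd' => hm1 (hk.symm.trans (orderOf_dvd_iff_pow_eq_one.1 hd'))
      have hd2 : i ∣ 2 * k := orderOf_dvd_iff_pow_eq_one.2 (by rw [mul_comm, pow_mul, hk, neg_one_sq])
      have hie : Even i := by
        by_contra ho
        exact hnd ((Nat.coprime_two_right.2 (Nat.not_even_iff_odd.1 ho)).dvd_of_dvd_mul_left hd2)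
      obtain ⟨w, hw⟩ := hie
      have hik : i ≤ 2 * k := Nat.le_of_dvd (by omega) hd2
      have hwk : w ∣ k := Nat.dvd_of_mul_dvd_mul_left two_pos (by rwa [two_mul w, ← hw])
      obtain ⟨c, hc⟩ := hwk
      have hco : Odd c := by
        by_contra hc'
        obtain ⟨c', hc''⟩ := Nat.not_odd_iff_even.1 hc'
        exact hnd ⟨c', by rw [hw, hc, hc'']; ring⟩
      have hwe : Even w := by
        rw [hc] at hev
        exact (Nat.even_mul.1 hev).resolve_right (Nat.not_even_iff_odd.2 hco)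
      refine ⟨w, by omega, by omega, by rw [unitDim_even (Nat.not_odd_iff_even.2 ⟨w, hw⟩)]; omega, w, Or.inr ⟨hwe, ?_⟩⟩
      have hs : ((q : ZMod r) ^ w) ^ 2 = 1 := by rw [← pow_mul, show w * 2 = i by omega]; exact pow_orderOf_eq_one _
      refine (sq_eq_one_iff.1 hs).resolve_left fun h1 => ?_
      have := Nat.le_of_dvd (by omega) (orderOf_dvd_iff_pow_eq_one.2 h1)
      omega
    · have hik : i ∣ k := orderOf_dvd_iff_pow_eq_one.2 hk
      have hio : Odd i := (Nat.not_even_iff_odd.1 hev).of_dvd_nat hik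
      exact ⟨i, hipos, (Nat.le_of_dvd (by omega) hik).trans hkd, unitDim_odd hio, i,
        Or.inl ⟨hio, pow_orderOf_eq_one _⟩⟩
  obtain ⟨P, hP⟩ : D.Nonempty := Finset.card_pos.mp (X'.facts.card.symm ▸ X'.t_pos)
  obtain ⟨hτ, hττ⟩ := X'.facts.tmem P hP
  obtain ⟨hPm, hPi, hPd⟩ := X'.facts.mem P hP
  obtain ⟨hTm, hTi, hTd⟩ := X'.facts.mem _ hτ
  have hirr : ∀ {A Q : F[X]}, Irreducible Q → Q.Monic → A ∈ D → Q ∣ A → Q = A := fun {A Q} hQ hQm hA hd =>
    eq_of_monic_of_associated hQm (X'.facts.mem A hA).1 (hQ.associated_of_dvd (X'.facts.mem A hA).2.1 hd)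
  obtain ⟨u, hu, hud, husq⟩ : ∃ u, Free D u ∧ u.natDegree = unitDim i ∧ Squarefree u := by
    by_cases ho : Odd i
    · have hne : τ P ≠ P := fun e => (X'.facts.self P hP).1 e ho
      refine ⟨P * τ P, ⟨hPm.mul hTm, by rw [tw_mul, hττ, mul_comm], fun Q hQ hQm hd => ?_⟩, ?_, ?_⟩
      · rcases hQ.prime.dvd_or_dvd hd with hd | hd
        exacts [hirr hQ hQm hP hd ▸ hP, hirr hQ hQm hτ hd ▸ hτ]
      · rw [hPm.natDegree_mul hTm, hPd, hTd, unitDim_odd ho]; ring
      · exact squarefree_mul_iff.2 ⟨(hPi.coprime_iff_not_dvd.2 fun h =>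
          hne (hirr hPi hPm hτ h).symm).isRelPrime, hPi.squarefree, hTi.squarefree⟩
    · exact ⟨P, ⟨hPm, (X'.facts.self P hP).mpr ho, fun Q hQ hQm hd => hirr hQ hQm hP hd ▸ hP⟩,
        by rw [hPd, unitDim_even ho], hPi.squarefree⟩
  obtain ⟨y, hy, hcy⟩ := Sp.exists_of_shaped X' (d := a) (f := u) (e := 0) (K := 1)
    ⟨u, by rw [pow_zero, one_mul], hu, by rw [hud, mul_one]⟩ (by rw [zero_add, mul_one, hua])
  set S := (y : Matrix (Fin a ⊕ Fin a) (Fin a ⊕ Fin a) F) with hSdef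
  have hmin : minpoly F S = Sp.cp y := by
    refine (eq_of_monic_of_dvd_of_natDegree_le (minpoly.monic (Matrix.isIntegral S)) (Matrix.charpoly_monic _)
      (Matrix.minpoly_dvd_charpoly S) (natDegree_le_of_dvd ?_ (minpoly.ne_zero (Matrix.isIntegral S)))).symm
    show Sp.cp y ∣ minpoly F S
    rw [hcy]
    have hf : ∀ Q : F[X], Irreducible Q → Q ∣ u → Q ∣ minpoly F S := fun Q hQ hQu => by
      haveI := Fact.mk hQ
      exact SemisimpleClasses.dvd_of_dvd_charpoly S (hQu.trans hcy.symm.dvd) (minpoly.aeval F S)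
    exact sq_dvd hu.monic.ne_zero husq hf
  have hfix : ∀ v, (S *ᵥ v = v) → v = 0 := fun v hv => by
    by_contra hv0
    refine hu.eval_one X'.facts ?_
    rw [← hcy, Sp.cp, Matrix.eval_charpoly, Matrix.scalar_apply, Matrix.diagonal_one]
    exact Matrix.exists_mulVec_eq_zero_iff.1 ⟨v, hv0, by rw [Matrix.sub_mulVec, Matrix.one_mulVec, hv, sub_self]⟩
  obtain ⟨z, e, hz, -, hiso, hint⟩ := Sp.exists_std (d := d) (r := r) ((symp_sb F a).prod (symp_sb F (d - a)))
    (by rw [Module.finrank_prod, Sp.finrank_std, Sp.finrank_std]; omega)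
    (LinearMap.prodMap (Sp.lin y) LinearMap.id)
    (fun x w => by
      simp only [prodForm_apply, LinearMap.prodMap_apply, LinearMap.id_apply]
      rw [show sb F a (Sp.lin y x.1) (Sp.lin y w.1) = sb F a x.1 w.1 from app_isometry y _ _])
    (Sp.prodMap_pow_one (Sp.lin_pow y hy) (one_pow r))
  have hint' : ∀ v w, (z : Mat) *ᵥ e (v, w) = e (S *ᵥ v, w) := fun v w => hint (v, w)
  refine ⟨z, hz, fun c hc => ?_, fun J hJ hcom => ?_⟩
  · have hS1 : ∀ v, S *ᵥ v = c • v := fun v => by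
      have h1 := hint' v 0
      rw [hc, Matrix.smul_mulVec, Matrix.one_mulVec, ← map_smul] at h1
      exact congrArg Prod.fst (e.injective h1.symm)
    have hSc : S = c • 1 := Matrix.ext_iff_mulVec.2 fun v => by rw [hS1, Matrix.smul_mulVec, Matrix.one_mulVec]
    have hdvd : minpoly F S ∣ X - Polynomial.C c := minpoly.dvd F S (by
      rw [map_sub, aeval_X, aeval_C, hSc, Algebra.algebraMap_eq_smul_one, sub_self])
    have := natDegree_le_of_dvd hdvd (X_sub_C_ne_zero c)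
    rw [hmin, hcy, hud, hua, natDegree_X_sub_C] at this
    omega
  · let ι : (Fin a ⊕ Fin a → F) →ₗ[F] (Fin d ⊕ Fin d → F) := e.toLinearMap ∘ₗ LinearMap.inl F _ _
    let J' : End F (Fin a ⊕ Fin a → F) := LinearMap.fst F _ _ ∘ₗ e.symm.toLinearMap ∘ₗ Matrix.toLin' J ∘ₗ ι
    have hker : Function.Injective (Sp.lin y - (1 : End F (Fin a ⊕ Fin a → F))) := LinearMap.ker_eq_bot.1 (LinearMap.ker_eq_bot'.2 fun v hv => by
      refine hfix v ?_
      exact sub_eq_zero.1 hv)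
    have hJ' : ∀ v, J *ᵥ e (v, 0) = e (J' v, 0) := fun v => by
      obtain ⟨w, rfl⟩ := (LinearMap.injective_iff_surjective.1 hker) v
      have h0 : e ((Sp.lin y - (1 : End F (Fin a ⊕ Fin a → F))) w, 0) = (z : Mat) *ᵥ e (w, 0) - e (w, 0) := by
        rw [hint', ← map_sub, Prod.mk_sub_mk, sub_zero]; rfl
      have h1 : J *ᵥ e ((Sp.lin y - (1 : End F (Fin a ⊕ Fin a → F))) w, 0) = e ((Sp.lin y - (1 : End F (Fin a ⊕ Fin a → F))) (e.symm (J *ᵥ e (w, 0))).1, 0) := by
        rw [h0, Matrix.mulVec_sub, Matrix.mulVec_mulVec, ← hcom, ← Matrix.mulVec_mulVec]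
        obtain ⟨x, hx⟩ := e.surjective (J *ᵥ e (w, 0))
        rw [← hx, e.symm_apply_apply, show x = (x.1, x.2) from rfl, hint', ← map_sub, Prod.mk_sub_mk, sub_self]
        rfl
      show _ = e ((e.symm (J *ᵥ e ((Sp.lin y - (1 : End F (Fin a ⊕ Fin a → F))) w, 0))).1, 0)
      rw [h1, e.symm_apply_apply]
    refine no_root hq hodd h2 hν ha1 hr.one_le hy (hcy ▸ husq) hmin (J := LinearMap.toMatrix' J') ⟨fun v w => ?_, fun v => ?_⟩
      (Matrix.toLin'.injective ?_) hcase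
    · rw [Matrix.toLin'_toMatrix']
      have h1 := hJ.skew (e (v, 0)) (e (w, 0))
      simp only [Matrix.toLin'_apply, hJ', hiso (_, _) (_, _), prodForm_apply, map_zero, add_zero] at h1
      exact h1
    · rw [Matrix.toLin'_toMatrix']
      have h1 := hJ.sq (e (v, 0))
      simp only [Matrix.toLin'_apply, hJ', ← map_smul, Prod.smul_mk, smul_zero] at h1
      exact congrArg Prod.fst (e.injective h1)
    · rw [Matrix.toLin'_mul, Matrix.toLin'_mul, Matrix.toLin'_toMatrix']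
      refine LinearMap.ext fun v => ?_
      have h1 := congrArg (fun M => M *ᵥ e (v, 0)) hcom
      simp only [← Matrix.mulVec_mulVec, hJ', hint'] at h1
      exact congrArg Prod.fst (e.injective h1)

/-- Elements of prime order of PSp_n(q), q odd, and the subgroups of type GU_{n/2}(q). Here `T = PSp_{2d}(F)` for a field `F` with `q` elements, `q` odd, `d ≥ 2`, realised through the matrices preserving the standard alternating form `f`; `K` is a subalgebra of the `2d × 2d` matrices that is a field of degree 2 over `F`, closed under taking adjoints for `f` but not consisting of self-adjoint elements (so `F^{2d}` becomes a `d`-dimensional space over `K ≅ F_{q²}` on which `f` is the trace of a multiple of a non-degenerate hermitian form); `H` is the subgroup of `T` normalizing `K` — the symplectic maps that are `K`-linear or `K`-semilinear, a subgroup of type GU_d(q) (maximality is not assumed). Ω is the set of cosets of `H` in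 `T`, so an element of `T` of prime order `r` (`x ∈ T` with `x^r` scalar, `x` not scalar) fixes a point of Ω exactly when some `T`-conjugate of `x` normalizes `K`. Let `r` be a prime dividing the index of `H`. Then every element of `T` of order `r` fixes a point of Ω if and only if `r = 2`. -/
theorem result {F : Type*} [Field F] [Fintype F] {p : ℕ} [Fact p.Prime] [CharP F p] {q : ℕ} (hq : Fintype.card F = q)
    (hodd : Odd q) (d : ℕ) (hd : 2 ≤ d)
    (K : Subalgebra F (Matrix (Fin d ⊕ Fin d) (Fin d ⊕ Fin d) F)) (hK : Cfsg.Geo.IsFieldSubalgebra 2 K)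
    (hKf : Cfsg.Geo.IsAdjointClosedFor (Cfsg.sympForm d F) K) (hKns : ¬ Cfsg.Geo.IsSelfAdjointFor (Cfsg.sympForm d F) K)
    (r : ℕ) [Fact r.Prime]
    (hΩ : r ∣ (Cfsg.Geo.subalgebraNormalizer K).relIndex (Cfsg.spGL d F)) :
    (∀ x ∈ Cfsg.spGL d F, (∃ z : F, ((x ^ r : GL (Fin d ⊕ Fin d) F) : Matrix (Fin d ⊕ Fin d) (Fin d ⊕ Fin d) F) = z • (1 : Matrix (Fin d ⊕ Fin d) (Fin d ⊕ Fin d) F)) →
      (∀ z : F, (x : Matrix (Fin d ⊕ Fin d) (Fin d ⊕ Fin d) F) ≠ z • (1 : Matrix (Fin d ⊕ Fin d) (Fin d ⊕ Fin d) F)) →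
      ∃ g ∈ Cfsg.spGL d F, g⁻¹ * x * g ∈ Cfsg.Geo.subalgebraNormalizer K) ↔ r = 2 := by
  classical
  have hp : Fact p.Prime := inferInstance
  have hr : r.Prime := Fact.out
  obtain ⟨n, -, hn⟩ := FiniteField.card F p
  have hp2 : p ≠ 2 := fun h => by
    rw [← hq, hn, h] at hodd
    exact Nat.not_odd_iff_even.2 ((Nat.even_pow).2 ⟨even_two, n.ne_zero⟩) hodd
  have h2 : (2 : F) ≠ 0 := fun h => hp2 ((Nat.prime_dvd_prime_iff_eq hp.out Nat.prime_two).1
    ((CharP.cast_eq_zero_iff F p 2).1 (by exact_mod_cast h)))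
  obtain ⟨j, ν, hj, hjs, hjj, hν, hskew⟩ := CfsgLib.SympU.exists_root (by omega : 1 ≤ d) h2 hK hKf hKns
  have hjr : Root ν j := ⟨fun x y => by simpa [sb_apply] using hskew x y, fun x => by
    rw [Matrix.toLin'_apply, Matrix.toLin'_apply, Matrix.mulVec_mulVec, hjj, Matrix.smul_mulVec, Matrix.one_mulVec]⟩
  haveI : Nonempty (Fin d ⊕ Fin d) := ⟨Sum.inl ⟨0, by omega⟩⟩
  constructor
  · intro hall
    by_contra hr2
    have hro : Odd r := hr.odd_of_ne_two hr2
    have key : ∀ z : Matrix.symplecticGroup (Fin d) F, z ^ r = 1 →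
        (∀ c : F, (z : Matrix (Fin d ⊕ Fin d) (Fin d ⊕ Fin d) F) ≠ c • 1) →
        ∃ J, Root ν J ∧ (z : Matrix (Fin d ⊕ Fin d) (Fin d ⊕ Fin d) F) * J = J * (z : Matrix (Fin d ⊕ Fin d) (Fin d ⊕ Fin d) F) := by
      intro z hz hzs
      obtain ⟨g, hg, hgx⟩ := hall (toSpGL z).1 (toSpGL z).2 ⟨1, by
        rw [← SubgroupClass.coe_pow, ← map_pow, hz, map_one, one_smul]; rfl⟩ (by simpa [toSpGL_coe] using hzs)
      have h1 := semi_conj (semi_of_mem_normalizer (by omega) hK hj hjs h2 hjj _ hgx)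
      refine ⟨_, root_conj hjr hg, semi_comm_of_pow h2 hro ?_ h1⟩
      show (z : Matrix (Fin d ⊕ Fin d) (Fin d ⊕ Fin d) F) ^ r = 1
      rw [← SubmonoidClass.coe_pow, hz]; rfl
    rcases eq_or_ne r p with hrp | hrp
    · obtain ⟨v, hv⟩ : ∃ v : Fin d ⊕ Fin d → F, v ≠ 0 := exists_ne 0
      obtain ⟨w, hw⟩ : ∃ w, Cfsg.sympForm d F w v ≠ 0 := by
        by_contra hc
        push Not at hc
        exact hv (eq_zero_of_f v fun w => by rw [f_swap, hc, neg_zero])
      have hTp : T v (1 : F) ^ r = 1 := by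
        have : ∀ k : ℕ, T v (1 : F) ^ k = T v (k : F) := by
          intro k
          induction k with
          | zero => rw [pow_zero, Nat.cast_zero, T_zero]
          | succ k ih => rw [pow_succ, ih, T_mul, Nat.cast_succ]
        rw [this, hrp, CharP.cast_eq_zero, T_zero]
      obtain ⟨J, hJ, hc⟩ := key (T v 1) hTp fun c hc => by
        have h1 : app (T v (1 : F)) v = c • v := by rw [app, hc, Matrix.smul_mulVec, Matrix.one_mulVec]
        rw [app_T, f_self, mul_zero, zero_smul, add_zero] at h1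
        have hc1 : c = 1 := smul_left_injective F hv (show c • v = (1 : F) • v by rw [one_smul]; exact h1.symm)
        have h3 : app (T v (1 : F)) w = c • w := by rw [app, hc, Matrix.smul_mulVec, Matrix.one_mulVec]
        rw [app_T, hc1, one_smul, add_eq_left, one_mul, smul_eq_zero] at h3
        exact h3.elim hw hv
      have h1 := congrArg (fun M => M *ᵥ w) hc
      simp only [← Matrix.mulVec_mulVec] at h1
      change app (T v (1 : F)) (J *ᵥ w) = J *ᵥ app (T v (1 : F)) w at h1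
      rw [app_T, app_T, one_mul, one_mul, Matrix.mulVec_add, Matrix.mulVec_smul, add_right_inj] at h1
      refine hν ((Cfsg.sympForm d F w v)⁻¹ * Cfsg.sympForm d F (J *ᵥ w) v) ?_
      have hJv : J *ᵥ v = ((Cfsg.sympForm d F w v)⁻¹ * Cfsg.sympForm d F (J *ᵥ w) v) • v := by
        rw [mul_smul, h1, inv_smul_smul₀ hw]
      have h3 := hJ.sq v
      rw [Matrix.toLin'_apply, Matrix.toLin'_apply, hJv, Matrix.mulVec_smul, hJv, smul_smul] at h3
      exact smul_left_injective F hv h3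
    · obtain ⟨hrq, -⟩ := CfsgLib.Derange.not_dvd_card (p := p) hq hr hrp
      obtain ⟨k, hk1, hkd, hk⟩ := index_data (p := p) hq hodd (by omega) hr hrq hν h2 hK hj hjs hjr hΩ
      obtain ⟨z, hz, hzs, hno⟩ := exists_sample (p := p) hq hodd h2 hr hr2 hrp hν hk1 hkd hk
      obtain ⟨J, hJ, hc⟩ := key z hz hzs
      exact hno J hJ hc
  · rintro rfl x hx ⟨z, hz⟩ -
    have hsp : ∀ u w, sb F d ((x : Matrix (Fin d ⊕ Fin d) (Fin d ⊕ Fin d) F) *ᵥ u) ((x : Matrix (Fin d ⊕ Fin d) (Fin d ⊕ Fin d) F) *ᵥ w) = sb F d u w := fun u w => by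
      rw [sb_apply, sb_apply]; exact hx u w
    rw [Units.val_pow_eq_pow_val, sq] at hz
    have hxx : ∀ u, Matrix.toLin' (x : Matrix (Fin d ⊕ Fin d) (Fin d ⊕ Fin d) F) (Matrix.toLin' (x : Matrix (Fin d ⊕ Fin d) (Fin d ⊕ Fin d) F) u) = z • u := fun u => by
      simp only [Matrix.toLin'_apply, Matrix.mulVec_mulVec]
      rw [show (x : Matrix (Fin d ⊕ Fin d) (Fin d ⊕ Fin d) F) * (x : Matrix (Fin d ⊕ Fin d) (Fin d ⊕ Fin d) F) = _ from hz, Matrix.smul_mulVec,
        Matrix.one_mulVec]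
    obtain ⟨v, hv⟩ : ∃ v : Fin d ⊕ Fin d → F, v ≠ 0 := exists_ne 0
    obtain ⟨w, hw⟩ : ∃ w, sb F d v w ≠ 0 := by
      by_contra hc
      push Not at hc
      exact hv ((symp_sb F d).nd v hc)
    have hz2 : z * z = 1 := by
      have h1 := (hsp ((x : Matrix (Fin d ⊕ Fin d) (Fin d ⊕ Fin d) F) *ᵥ v) ((x : Matrix (Fin d ⊕ Fin d) (Fin d ⊕ Fin d) F) *ᵥ w)).trans (hsp v w)
      have e1 := hxx v
      have e2 := hxx w
      simp only [Matrix.toLin'_apply] at e1 e2
      rw [e1, e2, map_smul, map_smul, LinearMap.smul_apply, smul_smul, smul_eq_mul] at h1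
      exact mul_eq_right₀ hw |>.1 h1
    obtain ⟨J, s, hs, hJ, hxJ⟩ := SpU.exists_skew h2 hν (symp_sb F d) (by rw [Sp.finrank_std]) hz2
      (Matrix.toLin' (x : Matrix (Fin d ⊕ Fin d) (Fin d ⊕ Fin d) F)) (fun u w => hsp u w) hxx
    obtain ⟨g, hg, hgJ⟩ := SpU.exists_conj h2 hν (symp_sb F d) (by rw [Sp.finrank_std]) hjr hJ
    let P : GL (Fin d ⊕ Fin d) F := Matrix.GeneralLinearGroup.toLin.symm (LinearMap.GeneralLinearGroup.ofLinearEquiv g)
    have hPa : ∀ u, (P : Matrix (Fin d ⊕ Fin d) (Fin d ⊕ Fin d) F) *ᵥ u = g u := fun u => by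
      show LinearMap.toMatrix' g.toLinearMap *ᵥ u = _
      rw [← Matrix.toLin'_apply, Matrix.toLin'_toMatrix']; rfl
    refine ⟨P, fun u w => ?_, mem_normalizer_of_semi (by omega) hK hj hjs _ ?_⟩
    · show Cfsg.sympForm d F ((P : Matrix (Fin d ⊕ Fin d) (Fin d ⊕ Fin d) F) *ᵥ u) ((P : Matrix (Fin d ⊕ Fin d) (Fin d ⊕ Fin d) F) *ᵥ w) = _
      rw [hPa, hPa, ← sb_apply, hg, sb_apply]
    have hPj : (P : Matrix (Fin d ⊕ Fin d) (Fin d ⊕ Fin d) F) * j = LinearMap.toMatrix' J * (P : Matrix (Fin d ⊕ Fin d) (Fin d ⊕ Fin d) F) :=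
      Matrix.ext_iff_mulVec.2 fun u => by
        rw [← Matrix.mulVec_mulVec, ← Matrix.mulVec_mulVec, hPa, hPa, ← Matrix.toLin'_apply (LinearMap.toMatrix' J),
          Matrix.toLin'_toMatrix', ← hgJ, Matrix.toLin'_apply]
    have hxJ' : (x : Matrix (Fin d ⊕ Fin d) (Fin d ⊕ Fin d) F) * LinearMap.toMatrix' J = s • (LinearMap.toMatrix' J * (x : Matrix (Fin d ⊕ Fin d) (Fin d ⊕ Fin d) F)) :=
      Matrix.toLin'.injective (by
        rw [map_smul, Matrix.toLin'_mul, Matrix.toLin'_mul, Matrix.toLin'_toMatrix']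
        exact LinearMap.ext hxJ)
    have hPj' : LinearMap.toMatrix' J = (P : Matrix (Fin d ⊕ Fin d) (Fin d ⊕ Fin d) F) * j * ((P⁻¹ : GL (Fin d ⊕ Fin d) F) : Matrix (Fin d ⊕ Fin d) (Fin d ⊕ Fin d) F) := by rw [hPj, mul_assoc, Units.mul_inv, mul_one]
    have h3 := congrArg (fun M => ((P⁻¹ : GL _ F) : Matrix (Fin d ⊕ Fin d) (Fin d ⊕ Fin d) F) * M * (P : Matrix (Fin d ⊕ Fin d) (Fin d ⊕ Fin d) F)) hxJ'
    rw [hPj'] at h3
    simp only [mul_smul_comm, smul_mul_assoc, mul_assoc, Units.inv_mul, mul_one, Units.inv_mul_cancel_left] at h3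
    rcases hs with rfl | rfl
    · exact Or.inl (by simpa [mul_assoc] using h3)
    · exact Or.inr (by simpa [mul_assoc] using h3)

end Cfsg.Agent.S5976
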