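import Cfsg.Statements.S5979
import Cfsg.Agent.Lib.Derange.Cases
import Cfsg.Agent.Lib.Derange.Monomial
import Cfsg.Agent.Lib.Derange.InvolutionConj

set_option autoImplicit false
set_option linter.style.haveILetI false
set_option linter.unusedSectionVars false
open scoped MatrixGroups
open Cfsg

namespace Cfsg.Agent.S5979

open Module Matrix Polynomial
open scoped Kronecker

section

variable {F : Type*} [Field F] {n a b : ℕ} (e : Fin n ≃ Fin a × Fin b)

/-- Some conjugate is a Kronecker product. -/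
def IsKron (X : Matrix (Fin n) (Fin n) F) : Prop :=
  ∃ (Q : GL (Fin n) F) (g₁ : GL (Fin a) F) (g₂ : GL (Fin b) F),
    Matrix.reindexAlgEquiv F F e (((Q⁻¹ : GL (Fin n) F) : Matrix (Fin n) (Fin n) F) * X * (Q : Matrix (Fin n) (Fin n) F)) =
      (g₁ : Matrix (Fin a) (Fin a) F) ⊗ₖ (g₂ : Matrix (Fin b) (Fin b) F)

variable {e}

theorem isKron_of_mem {P g x : GL (Fin n) F} (h : g⁻¹ * x * g ∈ Cfsg.Geo.tensorProductSubgroup a b e P) :
    IsKron e (x : Matrix (Fin n) (Fin n) F) := by
  obtain ⟨_, ⟨K, hKK, rfl⟩, hk⟩ := h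
  obtain ⟨g₁, g₂, hK⟩ := hKK
  refine ⟨g * P, g₁, g₂, ?_⟩
  rw [← Units.val_mul, ← Units.val_mul]
  have h1 : (g * P)⁻¹ * x * (g * P) = P⁻¹ * (g⁻¹ * x * g) * P := by group
  rw [h1, ← hk]
  simp only [MulEquiv.coe_toMonoidHom, MulAut.conj_apply]
  rw [show P⁻¹ * (P * Cfsg.Geo.glReindex e.symm K * P⁻¹) * P = Cfsg.Geo.glReindex e.symm K by group, ← hK]
  show Matrix.reindexAlgEquiv F F e (Matrix.reindexAlgEquiv F F e.symm (K : Matrix _ _ F)) = _
  ext i j
  simp

theorem mem_of_basis {x : GL (Fin n) F} (bb : Basis (Fin a × Fin b) F (Fin n → F)) (P : GL (Fin n) F)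
    (g₁ : GL (Fin a) F) (g₂ : GL (Fin b) F)
    (h : LinearMap.toMatrix bb bb (Matrix.toLin' (x : Matrix (Fin n) (Fin n) F)) =
      (g₁ : Matrix (Fin a) (Fin a) F) ⊗ₖ (g₂ : Matrix (Fin b) (Fin b) F)) :
    ∃ B : GL (Fin n) F, B⁻¹ * x * B ∈ Cfsg.Geo.tensorProductSubgroup a b e P := by
  obtain ⟨B₀, hB₀⟩ := CfsgLib.Derange.exists_conj_toMatrix x (bb.reindex e.symm)
  refine ⟨B₀ * P⁻¹, Cfsg.Geo.glReindex e.symm
    ((Cfsg.Geo.glReindex e) (B₀⁻¹ * x * B₀)), ⟨_, ⟨g₁, g₂, ?_⟩, rfl⟩, ?_⟩
  · show Matrix.reindexAlgEquiv F F e ((B₀⁻¹ * x * B₀ : GL (Fin n) F) : Matrix (Fin n) (Fin n) F) = _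
    rw [hB₀, ← h]
    ext i j
    simp [LinearMap.toMatrix_apply, Basis.repr_reindex_apply]
  · simp only [MulEquiv.coe_toMonoidHom, MulAut.conj_apply]
    have : Cfsg.Geo.glReindex e.symm ((Cfsg.Geo.glReindex e) (B₀⁻¹ * x * B₀)) = B₀⁻¹ * x * B₀ := by
      refine Units.ext ?_
      show Matrix.reindexAlgEquiv F F e.symm (Matrix.reindexAlgEquiv F F e _) = _
      ext i j
      simp
    rw [this]
    group

theorem rank_conj (Q : GL (Fin n) F) (X : Matrix (Fin n) (Fin n) F) (c : F) :
    (Matrix.reindexAlgEquiv F F e (((Q⁻¹ : GL (Fin n) F) : Matrix (Fin n) (Fin n) F) * X * (Q : Matrix (Fin n) (Fin n) F)) - c • 1).rank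
      = (X - c • 1).rank := by
  have h : Matrix.reindexAlgEquiv F F e (((Q⁻¹ : GL (Fin n) F) : Matrix (Fin n) (Fin n) F) * X * (Q : Matrix (Fin n) (Fin n) F)) - c • 1 =
      Matrix.reindex e e (((Q⁻¹ : GL (Fin n) F) : Matrix (Fin n) (Fin n) F) * (X - c • 1) * (Q : Matrix (Fin n) (Fin n) F)) := by
    rw [← Matrix.coe_reindexAlgEquiv F F e]
    rw [mul_sub, sub_mul, map_sub]
    congr 1
    rw [Matrix.mul_smul, Matrix.smul_mul, Matrix.mul_one, ← Units.val_mul, inv_mul_cancel, Units.val_one, map_smul,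
      map_one]
  rw [h, Matrix.rank_reindex, Matrix.rank_mul_eq_left_of_isUnit_det, Matrix.rank_mul_eq_right_of_isUnit_det]
  · exact (Matrix.isUnit_iff_isUnit_det _).1 (Units.isUnit _)
  · exact (Matrix.isUnit_iff_isUnit_det _).1 (Units.isUnit _)

theorem le_rank_of_injective {ι κ : Type*} [Fintype ι] [Fintype κ] (M : Matrix ι ι F) (L : (κ → F) →ₗ[F] (ι → F))
    (h : Function.Injective (fun u => M *ᵥ L u)) : Fintype.card κ ≤ M.rank := by
  have h1 : LinearMap.range (M.mulVecLin ∘ₗ L) ≤ LinearMap.range M.mulVecLin := LinearMap.range_comp_le_range _ _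
  have h2 := Submodule.finrank_mono h1
  rw [LinearMap.finrank_range_of_inj (f := M.mulVecLin ∘ₗ L) h, finrank_fintype_fun_eq_card] at h2
  exact h2

/-- A vector in one slot. -/
noncomputable def slot (i : Fin a) : (Fin b → F) →ₗ[F] (Fin a × Fin b → F) where
  toFun u p := if p.1 = i then u p.2 else 0
  map_add' u v := by ext p; by_cases h : p.1 = i <;> simp [h]
  map_smul' c u := by ext p; by_cases h : p.1 = i <;> simp [h]

theorem kron_slot (A : Matrix (Fin a) (Fin a) F) (B : Matrix (Fin b) (Fin b) F) (c : F) (i j : Fin a)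
    (u : Fin b → F) (l : Fin b) :
    ((A ⊗ₖ B - c • 1) *ᵥ slot j u) (i, l) = A i j * (B *ᵥ u) l - (if i = j then c * u l else 0) := by
  rw [Matrix.sub_mulVec, Matrix.smul_mulVec, Matrix.one_mulVec]
  simp only [Pi.sub_apply, Pi.smul_apply, smul_eq_mul]
  congr 1
  · simp only [mulVec, dotProduct, kroneckerMap_apply, slot, LinearMap.coe_mk, AddHom.coe_mk, Fintype.sum_prod_type]
    rw [Finset.sum_eq_single j]
    · simp only [if_pos, Finset.mul_sum, mul_assoc]
    · intro k _ hk; simp [hk]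
    · simp
  · simp [slot]

/-- A Kronecker product close to a scalar has a scalar first factor. -/
theorem kron_first_scalar (g₁ : GL (Fin a) F) (g₂ : GL (Fin b) F) {c : F} (hc : c ≠ 0)
    (hk : ((g₁ : Matrix (Fin a) (Fin a) F) ⊗ₖ (g₂ : Matrix (Fin b) (Fin b) F) - c • 1).rank < b) :
    ∃ B : Matrix (Fin b) (Fin b) F, (g₁ : Matrix (Fin a) (Fin a) F) ⊗ₖ (g₂ : Matrix (Fin b) (Fin b) F) =
      (1 : Matrix (Fin a) (Fin a) F) ⊗ₖ B := by
  set A := (g₁ : Matrix (Fin a) (Fin a) F)
  set C := (g₂ : Matrix (Fin b) (Fin b) F)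
  have hC : Function.Injective (fun u => C *ᵥ u) := Matrix.mulVec_injective_iff_isUnit.2 g₂.isUnit
  have hoff : ∀ i j, i ≠ j → A i j = 0 := by
    intro i j hij
    by_contra hne
    refine absurd (le_rank_of_injective (A ⊗ₖ C - c • 1) (slot j) fun u v h => hC (funext fun l => ?_)) (by simpa using hk)
    have := congrFun h (i, l)
    simp only [kron_slot, if_neg hij, sub_zero] at this
    exact mul_left_cancel₀ hne this
  have hdiag : ∀ i j, A i i = A j j := by
    intro i j
    by_contra hne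
    have hij : i ≠ j := fun h => hne (h ▸ rfl)
    refine absurd (le_rank_of_injective (A ⊗ₖ C - c • 1) (slot i + slot j) fun u v h => funext fun l => ?_)
      (by simpa using hk)
    have h1 := congrFun h (i, l)
    have h2 := congrFun h (j, l)
    simp only [LinearMap.add_apply, Matrix.mulVec_add, Pi.add_apply, kron_slot, hoff i j hij, hoff j i (Ne.symm hij),
      if_neg hij, if_neg (Ne.symm hij), zero_mul, sub_zero, add_zero, zero_add, if_pos] at h1 h2
    have h3 : (C *ᵥ u) l = (C *ᵥ v) l :=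
      mul_left_cancel₀ (sub_ne_zero.2 hne) (by linear_combination h1 - h2)
    rw [h3] at h1
    exact mul_left_cancel₀ hc (by linear_combination -h1)
  rcases isEmpty_or_nonempty (Fin a) with h | ⟨⟨i₀⟩⟩
  · exact ⟨0, Matrix.ext fun i => isEmptyElim i.1⟩
  refine ⟨A i₀ i₀ • C, ?_⟩
  rw [Matrix.kronecker_smul, ← Matrix.smul_kronecker]
  congr 1
  ext i j
  rcases eq_or_ne i j with rfl | h
  · simp [hdiag i i₀]
  · simp [hoff i j h, Matrix.one_apply_ne h]

theorem le_rank_one_kron (B : Matrix (Fin b) (Fin b) F) (c : F) (hB : B ≠ c • 1) :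
    a ≤ ((1 : Matrix (Fin a) (Fin a) F) ⊗ₖ B - c • 1).rank := by
  obtain ⟨u, hu⟩ : ∃ u : Fin b → F, B *ᵥ u ≠ c • u := by
    by_contra! h
    refine hB (Matrix.ext fun i j => ?_)
    have := congrFun (h (Pi.single j 1)) i
    simp [mulVec_single, Pi.single_apply] at this
    rw [this]
    simp [Matrix.one_apply]
  let L : (Fin a → F) →ₗ[F] (Fin a × Fin b → F) :=
    { toFun := fun s p => s p.1 * u p.2
      map_add' := fun s t => by ext p; simp [add_mul]
      map_smul' := fun d s => by ext p; simp [mul_assoc] }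
  have hL : ∀ s i l, (((1 : Matrix (Fin a) (Fin a) F) ⊗ₖ B - c • 1) *ᵥ L s) (i, l)
      = s i * ((B *ᵥ u) l - c * u l) := by
    intro s i l
    rw [Matrix.sub_mulVec, Matrix.smul_mulVec, Matrix.one_mulVec]
    simp only [Pi.sub_apply, Pi.smul_apply, smul_eq_mul, mulVec, dotProduct, kroneckerMap_apply, L, LinearMap.coe_mk,
      AddHom.coe_mk, Fintype.sum_prod_type, Matrix.one_apply]
    rw [Finset.sum_eq_single i (fun k _ hk => by simp [hk.symm]) (by simp)]
    simp only [if_pos, one_mul, mul_sub, Finset.mul_sum]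
    congr 1
    · exact Finset.sum_congr rfl fun k _ => by ring
    · ring
  obtain ⟨l, hl⟩ := Function.ne_iff.1 hu
  simpa using le_rank_of_injective _ L fun s t h => funext fun i => by
    have := congrFun h (i, l)
    simp only [hL] at this
    exact mul_right_cancel₀ (sub_ne_zero.2 (by simpa using hl)) this

theorem charpoly_one_kron (B : Matrix (Fin b) (Fin b) F) :
    ((1 : Matrix (Fin a) (Fin a) F) ⊗ₖ B).charpoly = B.charpoly ^ a := by
  have h : charmatrix (blockDiagonal fun _ : Fin a => B) = blockDiagonal fun _ => charmatrix B := by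
    ext ⟨i, k⟩ ⟨j, l⟩ : 1
    rcases eq_or_ne k l with rfl | hkl
    · rcases eq_or_ne i j with rfl | hij
      · simp [charmatrix_apply, blockDiagonal_apply]
      · simp [charmatrix_apply, blockDiagonal_apply, hij]
    · simp [charmatrix_apply, blockDiagonal_apply, hkl]
  rw [Matrix.one_kronecker, Matrix.charpoly_reindex, Matrix.charpoly, h, Matrix.det_blockDiagonal]
  simp [Matrix.charpoly]

theorem sq_dvd_of_conj (ha : 2 ≤ a) {X : Matrix (Fin n) (Fin n) F} (Q : GL (Fin n) F)
    (B : Matrix (Fin b) (Fin b) F)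
    (h : Matrix.reindexAlgEquiv F F e (((Q⁻¹ : GL (Fin n) F) : Matrix (Fin n) (Fin n) F) * X * (Q : Matrix (Fin n) (Fin n) F)) =
      (1 : Matrix (Fin a) (Fin a) F) ⊗ₖ B) {P : F[X]} (hP : Prime P) (hd : P ∣ X.charpoly) : P ^ 2 ∣ X.charpoly := by
  have h1 := congrArg Matrix.charpoly h
  rw [charpoly_one_kron, Matrix.coe_reindexAlgEquiv, Matrix.charpoly_reindex,
    Matrix.coe_units_inv, Matrix.charpoly_units_conj'] at h1
  rw [h1] at hd ⊢
  exact (pow_dvd_pow_of_dvd (hP.dvd_of_dvd_pow hd) 2).trans (pow_dvd_pow _ ha)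

/-- Small rank deviation from a scalar and a simple factor: no conjugate is a Kronecker product. -/
theorem not_isKron_of_factor (ha : 2 ≤ a) {X : Matrix (Fin n) (Fin n) F} {c : F} (hc : c ≠ 0)
    (hk : (X - c • 1).rank < b) {P : F[X]} (hP : Prime P) (hd : P ∣ X.charpoly) (hd2 : ¬ P ^ 2 ∣ X.charpoly) :
    ¬ IsKron e X := by
  rintro ⟨Q, g₁, g₂, h⟩
  obtain ⟨B, hB⟩ := kron_first_scalar g₁ g₂ hc (by rw [← h, rank_conj]; exact hk)
  exact hd2 (sq_dvd_of_conj ha Q B (h.trans hB) hP hd)

theorem not_isKron_of_rank {X : Matrix (Fin n) (Fin n) F} {c : F} (hc : c ≠ 0) (hka : (X - c • 1).rank < a)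
    (hab : a ≤ b) (hns : X ≠ c • 1) : ¬ IsKron e X := by
  rintro ⟨Q, g₁, g₂, h⟩
  obtain ⟨B, hB⟩ := kron_first_scalar g₁ g₂ hc (by rw [← h, rank_conj]; omega)
  by_cases hBc : B = c • 1
  · refine hns ?_
    have h1 := h.trans hB
    rw [hBc, Matrix.kronecker_smul, Matrix.one_kronecker_one, ← map_one (Matrix.reindexAlgEquiv F F e), ← map_smul] at h1
    have h2 := (Matrix.reindexAlgEquiv F F e).injective h1
    calc X = (Q : Matrix (Fin n) (Fin n) F) * (((Q⁻¹ : GL (Fin n) F) : Matrix (Fin n) (Fin n) F) * X * (Q : Matrix (Fin n) (Fin n) F)) *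
          (Q⁻¹ : GL (Fin n) F) := by simp only [Matrix.mul_assoc, Units.mul_inv, Matrix.mul_one, Units.mul_inv_cancel_left]
      _ = c • 1 := by rw [h2, Matrix.mul_smul, Matrix.smul_mul, Matrix.mul_one, Units.mul_inv]
  · have := le_rank_one_kron (a := a) B c hBc
    rw [← hB, ← h, rank_conj] at this
    omega

theorem rank_diagonal_le {w : Fin n → F} (S : Finset (Fin n)) (h : ∀ i ∉ S, w i = 0) :
    (Matrix.diagonal w).rank ≤ S.card := by
  classical
  rw [Matrix.rank_diagonal, Fintype.card_subtype]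
  exact Finset.card_le_card fun i hi => by
    by_contra hn
    exact (Finset.mem_filter.1 hi).2 (h i hn)

end

section

variable {F : Type*} [Field F] [Fintype F] {p : ℕ} [hp : Fact p.Prime] [CharP F p] {n a b : ℕ}
  {e : Fin n ≃ Fin a × Fin b}

theorem orderOf_le_of_dvd {q r m : ℕ} (hq : Fintype.card F = q) (hr : r.Prime) (hrp : r ≠ p)
    (h : r ∣ Nat.card (GL (Fin m) F)) : orderOf (q : ZMod r) ≤ m := by
  haveI := Fact.mk hr
  rw [Matrix.card_GL_field, hq] at h
  obtain ⟨i, -, hi⟩ := (Prime.dvd_finsetProd_iff hr.prime _).1 h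
  have hq0 : (q : ZMod r) ≠ 0 := by
    obtain ⟨k, -, hk⟩ := FiniteField.card F p
    rw [Ne, ZMod.natCast_eq_zero_iff, ← hq, hk]
    exact fun h => hrp ((Nat.prime_dvd_prime_iff_eq hr hp.out).mp (hr.dvd_of_dvd_pow h))
  have hle : q ^ (i : ℕ) ≤ q ^ m := Nat.pow_le_pow_right (hq ▸ Fintype.card_pos) i.2.le
  have h1 : (q : ZMod r) ^ m = (q : ZMod r) ^ (i : ℕ) := by
    have := (ZMod.natCast_eq_zero_iff _ _).2 hi
    rw [Nat.cast_sub hle, Nat.cast_pow, Nat.cast_pow, sub_eq_zero] at this
    exact this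
  have h2 : (q : ZMod r) ^ (m - i) = 1 := by
    refine mul_left_cancel₀ (pow_ne_zero (i : ℕ) hq0) ?_
    rw [← pow_add, Nat.add_sub_of_le i.2.le, h1, mul_one]
  have := orderOf_le_of_pow_eq_one (by omega) h2
  omega

/-- An element of order prime to the small general linear group has scalar first factor. -/
theorem not_isKron_of_order {q r : ℕ} (hq : Fintype.card F = q) (hr : r.Prime) (hrp : r ≠ p) (hrq : ¬ r ∣ q - 1)
    (ha : 2 ≤ a) (hb : 0 < b) (hi : a < orderOf (q : ZMod r)) {X : Matrix (Fin n) (Fin n) F} (hX : X ^ r = 1)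
    {P : F[X]} (hP : Prime P) (hd : P ∣ X.charpoly) (hd2 : ¬ P ^ 2 ∣ X.charpoly) : ¬ IsKron e X := by
  classical
  rintro ⟨Q, g₁, g₂, h⟩
  have h1 : Matrix.reindexAlgEquiv F F e (((Q⁻¹ : GL (Fin n) F) : Matrix (Fin n) (Fin n) F) * X * (Q : Matrix (Fin n) (Fin n) F)) ^ r = 1 := by
    rw [← map_pow, Units.conj_pow', hX, Matrix.mul_one, Units.inv_mul, map_one]
  rw [h] at h1
  set A := (g₁ : Matrix (Fin a) (Fin a) F)
  set C := (g₂ : Matrix (Fin b) (Fin b) F)
  have hpow : ∀ k : ℕ, (A ⊗ₖ C) ^ k = (A ^ k) ⊗ₖ (C ^ k) := by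
    intro k
    induction k with
    | zero => simp
    | succ k ih => rw [pow_succ, pow_succ, pow_succ, ih, Matrix.mul_kronecker_mul]
  rw [hpow] at h1
  have hent : ∀ i j, (A ^ r) i j * (C ^ r) ⟨0, hb⟩ ⟨0, hb⟩ = (1 : Matrix (Fin a) (Fin a) F) i j := by
    intro i j
    have := congrFun (congrFun h1 (i, ⟨0, hb⟩)) (j, ⟨0, hb⟩)
    rw [Matrix.kroneckerMap_apply] at this
    rw [this]
    simp [Matrix.one_apply, Prod.ext_iff]
  set γ := (C ^ r) ⟨0, hb⟩ ⟨0, hb⟩
  have hγ : γ ≠ 0 := by
    intro h0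
    have := hent ⟨0, by omega⟩ ⟨0, by omega⟩
    simp [h0] at this
  have hcop : Nat.Coprime (Fintype.card Fˣ) r := by
    rw [Fintype.card_units, hq]
    exact (hr.coprime_iff_not_dvd.mpr hrq).symm
  rw [← Nat.card_eq_fintype_card] at hcop
  obtain ⟨μ, hμ⟩ := (powCoprime hcop).surjective (Units.mk0 γ hγ)
  have hμ' : (μ : F) ^ r = γ := by rw [← Units.val_pow_eq_pow_val]; exact congrArg Units.val hμ
  have hh : ((μ : F) • A) ^ r = 1 := by
    rw [_root_.smul_pow, hμ']
    ext i j
    rw [Matrix.smul_apply, smul_eq_mul, mul_comm, hent]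
  have hh1 : (μ : F) • A = 1 := by
    let u : GL (Fin a) F := Units.ofPowEqOne _ r hh hr.ne_zero
    by_contra hne
    have hu : orderOf u = r := by
      haveI := Fact.mk hr
      refine orderOf_eq_prime (Units.ext hh) fun h => hne ?_
      exact congrArg Units.val h
    have := orderOf_le_of_dvd (p := p) hq hr hrp (hu ▸ orderOf_dvd_natCard u)
    omega
  have hA : A ⊗ₖ C = (1 : Matrix (Fin a) (Fin a) F) ⊗ₖ ((μ : F)⁻¹ • C) := by
    rw [← hh1, Matrix.kronecker_smul, Matrix.smul_kronecker, smul_smul, inv_mul_cancel₀ μ.ne_zero, one_smul]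
  exact hd2 (sq_dvd_of_conj ha Q _ (h.trans hA) hP hd)

theorem exists_homology {q r : ℕ} (hq : Fintype.card F = q) (hr : r.Prime) (hn : 0 < n)
    (hv : padicValNat r n < padicValNat r (q - 1)) :
    ∃ α ζ : F, α ≠ 0 ∧ ζ ≠ 1 ∧ ζ ^ r = 1 ∧ α ^ n * ζ = 1 := by
  classical
  haveI := Fact.mk hr
  let φ : Fˣ →* Fˣ := powMonoidHom n
  have hcard : Nat.card φ.range = (q - 1) / (q - 1).gcd n := by
    rw [IsCyclic.card_powMonoidHom_range, Nat.card_eq_fintype_card, Fintype.card_units, hq]
  have hN : q - 1 ≠ 0 := by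
    intro h; rw [h] at hv; simp at hv
  have hdvd : r ∣ (q - 1) / (q - 1).gcd n := by
    refine dvd_of_one_le_padicValNat ?_
    rw [padicValNat.div_of_dvd (Nat.gcd_dvd_left _ _)]
    have : padicValNat r ((q - 1).gcd n) ≤ padicValNat r n := by
      have h1 := pow_padicValNat_dvd (p := r) (n := (q - 1).gcd n)
      exact (padicValNat_dvd_iff_le (by omega)).1 (h1.trans (Nat.gcd_dvd_right _ _))
    omega
  obtain ⟨⟨z, α, hα⟩, hz⟩ := exists_prime_orderOf_dvd_card' r (hcard.symm ▸ hdvd : r ∣ Nat.card φ.range)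
  have hz' : orderOf z = r := by rw [← hz, ← Subgroup.orderOf_coe]
  refine ⟨α, ((z⁻¹ : Fˣ) : F), α.ne_zero, ?_, ?_, ?_⟩
  · intro h
    rw [Units.val_eq_one, inv_eq_one] at h
    rw [h, orderOf_one] at hz'
    exact hr.one_lt.ne hz'
  · rw [← Units.val_pow_eq_pow_val, inv_pow, ← hz', pow_orderOf_eq_one, inv_one, Units.val_one]
  · rw [← Units.val_pow_eq_pow_val, ← Units.val_mul, show α ^ n = z from hα, mul_inv_cancel, Units.val_one]

theorem mk_bad {r : ℕ} (X : Matrix (Fin n) (Fin n) F) (hdet : X.det = 1) {z : F} (hz : X ^ r = z • 1)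
    (hns : ∀ c : F, X ≠ c • 1) (hX : ¬ IsKron e X) (P : GL (Fin n) F) :
    ¬ (∀ x ∈ Cfsg.Geo.specialLinear (Fin n) F,
      (∃ z : F, ((x ^ r : GL (Fin n) F) : Matrix (Fin n) (Fin n) F) = z • (1 : Matrix (Fin n) (Fin n) F)) →
      (∀ z : F, (x : Matrix (Fin n) (Fin n) F) ≠ z • (1 : Matrix (Fin n) (Fin n) F)) →
      ∃ g ∈ Cfsg.Geo.specialLinear (Fin n) F, g⁻¹ * x * g ∈ Cfsg.Geo.tensorProductSubgroup a b e P) := by
  intro h
  obtain ⟨x, hxX⟩ : IsUnit X := (Matrix.isUnit_iff_isUnit_det X).2 (by rw [hdet]; exact isUnit_one)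
  have hx : x ∈ Cfsg.Geo.specialLinear (Fin n) F := by
    refine MonoidHom.mem_ker.2 (Units.ext ?_)
    rw [Matrix.GeneralLinearGroup.val_det_apply, Units.val_one, hxX, hdet]
  obtain ⟨g, -, hg⟩ := h x hx ⟨z, by rw [Units.val_pow_eq_pow_val, hxX]; exact hz⟩
    (fun c => by rw [hxX]; exact hns c)
  exact hX (hxX ▸ isKron_of_mem hg)

set_option maxHeartbeats 1000000 in
include hp in
theorem exists_bad {q r : ℕ} (hq : Fintype.card F = q) (hr : r.Prime) (hab : n = a * b) (ha : 2 ≤ a) (hlt : a < b)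
    (hdvd : r ∣ Nat.card (GL (Fin n) F))
    (hcond : ¬ (r = 2 ∧ a = 2 ∧ Odd q ∧ padicValNat 2 (q - 1) ≤ padicValNat 2 n)) :
    ∃ (X : Matrix (Fin n) (Fin n) F) (z : F), X.det = 1 ∧ X ^ r = z • 1 ∧ (∀ c : F, X ≠ c • 1) ∧ ¬ IsKron e X := by
  classical
  have hb0 : 0 < b := by omega
  have hn : 2 * b ≤ n := hab ▸ Nat.mul_le_mul_right b ha
  let i₀ : Fin n := ⟨0, by omega⟩
  let i₁ : Fin n := ⟨1, by omega⟩
  let i₂ : Fin n := ⟨2, by omega⟩
  have h01 : i₀ ≠ i₁ := by simp [i₀, i₁]
  have h02 : i₀ ≠ i₂ := by simp [i₀, i₂]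
  have h12 : i₁ ≠ i₂ := by simp [i₁, i₂]
  by_cases hrp : r = p
  · subst hrp
    let N : Matrix (Fin n) (Fin n) F := Matrix.single i₀ i₁ 1
    refine ⟨Matrix.transvection i₀ i₁ 1, 1, Matrix.det_transvection_of_ne _ _ h01 _, ?_, ?_, ?_⟩
    · haveI : Nonempty (Fin n) := ⟨i₀⟩
      haveI : CharP (Matrix (Fin n) (Fin n) F) r :=
        charP_of_injective_algebraMap (algebraMap F (Matrix (Fin n) (Fin n) F)).injective r
      rw [one_smul, show Matrix.transvection i₀ i₁ (1 : F) = 1 + N from rfl,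
        add_pow_char_of_commute _ (Commute.one_left _), one_pow]
      have hN2 : N ^ 2 = 0 := by rw [sq]; simp [N, Matrix.single_mul_single_of_ne, Ne.symm h01]
      rw [pow_eq_zero_of_le hr.two_le hN2, add_zero]
    · intro c hc
      have := congrFun (congrFun hc i₀) i₁
      simp [Matrix.transvection, Matrix.one_apply_ne h01] at this
    · refine not_isKron_of_rank (c := 1) one_ne_zero ?_ hlt.le ?_
      · have hN : Matrix.transvection i₀ i₁ (1 : F) - (1 : F) • 1 =
            Matrix.single i₀ i₁ (1 : F) * Matrix.diagonal (fun k => if k = i₁ then 1 else 0) := by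
          ext i j
          simp only [Matrix.transvection, one_smul, add_sub_cancel_left, Matrix.mul_diagonal, Matrix.single_apply]
          by_cases hj : j = i₁
          · subst hj; simp
          · rw [if_neg hj, mul_zero, if_neg fun h => hj h.2.symm]
        rw [hN]
        refine lt_of_le_of_lt (Matrix.rank_mul_le_right _ _) (lt_of_le_of_lt (rank_diagonal_le {i₁} ?_) ?_)
        · intro k hk; simp at hk; simp [hk]
        · simp; omega
      · intro hc
        have := congrFun (congrFun hc i₀) i₁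
        simp [Matrix.transvection, Matrix.one_apply_ne h01] at this
  obtain ⟨hi0, hid, hi1⟩ := CfsgLib.Derange.orderOf_mod (p := p) hq hr hrp
  set i := orderOf (q : ZMod r) with hidef
  have hin : i ≤ n := orderOf_le_of_dvd (p := p) hq hr hrp hdvd
  by_cases hrq : r ∣ q - 1
  · by_cases hv : padicValNat r n < padicValNat r (q - 1)
    · obtain ⟨α, ζ, hα, hζ, hζr, hαζ⟩ := exists_homology (n := n) hq hr (by omega) hv
      let d : Fin n → F := fun k => if k = i₀ then α * ζ else α
      have hns : ∀ c : F, Matrix.diagonal d ≠ c • 1 := by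
        intro c hc
        have e0 := congrFun (congrFun hc i₀) i₀
        have e1 := congrFun (congrFun hc i₁) i₁
        simp only [d, Matrix.diagonal_apply_eq, if_neg (Ne.symm h01), if_pos, Matrix.smul_apply, Matrix.one_apply_eq,
          smul_eq_mul, mul_one] at e0 e1
        exact hζ (mul_left_cancel₀ hα (by rw [mul_one, e0, e1]))
      refine ⟨Matrix.diagonal d, α ^ r, ?_, ?_, hns, ?_⟩
      · rw [Matrix.det_diagonal, show d = fun k => α * (if k = i₀ then ζ else 1) from
          funext fun k => by simp only [d]; split_ifs <;> simp, Finset.prod_mul_distrib]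
        simp [hαζ]
      · rw [Matrix.diagonal_pow, Matrix.smul_one_eq_diagonal]
        congr 1
        funext k
        simp only [Pi.pow_apply, d]
        split_ifs
        · rw [mul_pow, hζr, mul_one]
        · rfl
      · refine not_isKron_of_rank (c := α) hα ?_ hlt.le (hns α)
        rw [Matrix.smul_one_eq_diagonal, Matrix.diagonal_sub]
        refine lt_of_le_of_lt (rank_diagonal_le {i₀} ?_) (by simp; omega)
        intro k hk; simp at hk; simp [d, hk]
    · obtain ⟨ζ, hζ⟩ : ∃ ζ : Fˣ, orderOf ζ = r := by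
        haveI := Fact.mk hr
        exact exists_prime_orderOf_dvd_card' r (by rw [Nat.card_eq_fintype_card, Fintype.card_units, hq]; exact hrq)
      have hζ1 : (ζ : F) ≠ 1 := fun h => hr.one_lt.ne (by rw [← hζ, Units.val_eq_one.1 h, orderOf_one])
      have hζr : (ζ : F) ^ r = 1 := by rw [← Units.val_pow_eq_pow_val, ← hζ, pow_orderOf_eq_one, Units.val_one]
      let d : Fin n → F := fun k => if k = i₀ then (ζ : F) else if k = i₁ then (ζ : F)⁻¹ else 1
      have hd0 : d i₀ = ζ := if_pos rfl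
      have hd2 : d i₂ = 1 := by simp [d, Ne.symm h02, Ne.symm h12]
      have hns : ∀ c : F, Matrix.diagonal d ≠ c • 1 := by
        intro c hc
        have e0 := congrFun (congrFun hc i₀) i₀
        have e2 := congrFun (congrFun hc i₂) i₂
        rw [Matrix.diagonal_apply_eq, Matrix.smul_apply, Matrix.one_apply_eq, smul_eq_mul, mul_one] at e0 e2
        exact hζ1 (by rw [← hd0, e0, ← e2, hd2])
      have hrank : (Matrix.diagonal d - (1 : F) • 1).rank ≤ 2 := by
        rw [Matrix.smul_one_eq_diagonal, Matrix.diagonal_sub]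
        refine (rank_diagonal_le {i₀, i₁} ?_).trans (by rw [Finset.card_pair h01])
        intro k hk; simp at hk; simp [d, hk.1, hk.2]
      refine ⟨Matrix.diagonal d, 1, ?_, ?_, hns, ?_⟩
      · rw [Matrix.det_diagonal, ← Finset.prod_subset (Finset.subset_univ {i₀, i₁}) (fun k _ hk => by
          simp at hk; simp [d, hk.1, hk.2]), Finset.prod_pair h01]
        simp [d, Ne.symm h01]
      · rw [Matrix.diagonal_pow, one_smul, ← Matrix.diagonal_one]
        congr 1
        funext k
        simp only [Pi.pow_apply, d]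
        split_ifs <;> simp [hζr]
      · by_cases hr2 : r = 2
        · subst hr2
          have hodd : Odd q := by
            obtain ⟨k, -, hk⟩ := FiniteField.card F p
            rw [← hq, hk]
            exact (hp.out.odd_of_ne_two (Ne.symm hrp)).pow
          have ha3 : a ≠ 2 := fun h => hcond ⟨rfl, h, hodd, not_lt.1 hv⟩
          exact not_isKron_of_rank one_ne_zero (by omega) hlt.le (hns 1)
        · have hne : (ζ : F)⁻¹ ≠ ζ := by
            intro h
            refine hr2 ((Nat.prime_dvd_prime_iff_eq hr Nat.prime_two).1 ?_)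
            rw [← hζ]
            refine orderOf_dvd_of_pow_eq_one (Units.ext ?_)
            rw [Units.val_pow_eq_pow_val, Units.val_one, sq]
            nth_rw 1 [← h]
            exact inv_mul_cancel₀ ζ.ne_zero
          have hcp := Matrix.charpoly_diagonal d
          refine not_isKron_of_factor ha one_ne_zero (by omega) (Polynomial.prime_X_sub_C (ζ : F)) ?_ ?_
          · rw [hcp]; exact hd0 ▸ Finset.dvd_prod_of_mem _ (Finset.mem_univ i₀)
          · rw [hcp, ← Finset.mul_prod_erase _ _ (Finset.mem_univ i₀), hd0, sq]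
            intro h
            have h1 := (mul_dvd_mul_iff_left (X_sub_C_ne_zero (ζ : F))).1 h
            rw [dvd_iff_isRoot, IsRoot.def, eval_prod, Finset.prod_eq_zero_iff] at h1
            obtain ⟨k, hk, hk0⟩ := h1
            have hk' := (Finset.mem_erase.1 hk).1
            simp only [eval_sub, eval_X, eval_C, sub_eq_zero] at hk0
            simp only [d, if_neg hk'] at hk0
            split_ifs at hk0 with hk1
            · exact hne hk0.symm
            · exact hζ1 hk0
  · have h2i : 2 ≤ i := by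
      by_contra h
      exact hrq (hi1.1 (by omega))
    obtain ⟨y, hy, hys, hyns⟩ :=
      CfsgLib.Derange.exists_sl_pow_one (p := p) (n := i) hq hr hrp h2i (l := 0) (e := 1) le_rfl (by omega)
    obtain ⟨S₁, S₂, hS₁, hS₂, hS, -, hdeg, hcpy⟩ := hys.factors
    rw [Multiset.card_eq_zero.1 hS₁, zero_add] at hcpy hS
    obtain ⟨P, rfl⟩ := Multiset.card_eq_one.1 hS₂
    rw [Multiset.prod_singleton] at hcpy
    have hP := hS P (Multiset.mem_singleton_self P)
    have hPd := hdeg P (Multiset.mem_singleton_self P)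
    set Y := (y : Matrix (Fin i) (Fin i) F)
    have hY : Y.charpoly = P := by rw [← hcpy, Matrix.charpoly_toLin']
    have hYr : Y ^ r = 1 := by rw [← Matrix.SpecialLinearGroup.coe_pow, hy, Matrix.SpecialLinearGroup.coe_one]
    let ε : Fin (n - i) ⊕ Fin i ≃ Fin n := finSumFinEquiv.trans (finCongr (by omega))
    let R := Matrix.reindexAlgEquiv F F ε
    let W : Matrix (Fin (n - i) ⊕ Fin i) (Fin (n - i) ⊕ Fin i) F := fromBlocks 1 0 0 Y
    have hWr : W ^ r = 1 := by
      have : ∀ k, W ^ k = fromBlocks 1 0 0 (Y ^ k) := by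
        intro k
        induction k with
        | zero => simp
        | succ k ih => simp [pow_succ, ih, W, fromBlocks_multiply]
      rw [this, hYr, fromBlocks_one]
    have hcp : (R W).charpoly = (Polynomial.X - 1) ^ (n - i) * P := by
      rw [Matrix.coe_reindexAlgEquiv, Matrix.charpoly_reindex, Matrix.charpoly_fromBlocks_zero₁₂, Matrix.charpoly_one,
        Fintype.card_fin, hY]
    have hPp : Prime P := hP.1.prime
    have hnd : ¬ P ∣ (Polynomial.X - 1) ^ (n - i) := by
      intro h
      have h1 := hPp.dvd_of_dvd_pow h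
      have := natDegree_le_of_dvd h1 (by simpa using X_sub_C_ne_zero (1 : F))
      rw [← C_1, natDegree_X_sub_C, hPd] at this
      omega
    have hd : P ∣ (R W).charpoly := hcp ▸ dvd_mul_left _ _
    have hd2 : ¬ P ^ 2 ∣ (R W).charpoly := by
      rw [hcp, sq]
      exact fun h => hnd ((mul_dvd_mul_iff_right hPp.ne_zero).1 h)
    refine ⟨R W, 1, ?_, ?_, ?_, ?_⟩
    · rw [Matrix.det_reindexAlgEquiv, Matrix.det_fromBlocks_zero₁₂, Matrix.det_one, one_mul]
      exact y.2
    · rw [← map_pow, hWr, map_one, one_smul]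
    · intro c hc
      refine hyns c ?_
      have h1 : W = c • 1 := R.injective (by rw [map_smul, map_one]; exact hc)
      ext k l
      have := congrFun (congrFun h1 (Sum.inr k)) (Sum.inr l)
      simpa [W, Matrix.one_apply] using this
    · by_cases hia : a < i
      · exact not_isKron_of_order (p := p) hq hr hrp hrq ha hb0 hia (by rw [← map_pow, hWr, map_one]) hPp hd hd2
      · refine not_isKron_of_factor ha (c := 1) one_ne_zero ?_ hPp hd hd2
        rw [one_smul, ← map_one R, ← map_sub, Matrix.coe_reindexAlgEquiv, Matrix.rank_reindex]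
        have hW : W - 1 = fromRows (0 : Matrix (Fin (n - i)) (Fin i) F) 1 *
            fromCols (0 : Matrix (Fin i) (Fin (n - i)) F) (Y - 1) := by
          ext (k | k) (l | l) <;> simp [W, Matrix.mul_apply, Matrix.one_apply]
        rw [hW]
        refine lt_of_le_of_lt ((Matrix.rank_mul_le_left _ _).trans (Matrix.rank_le_card_width _)) ?_
        simp; omega

theorem exists_model_conj {q : ℕ} (hq : Fintype.card F = q) (hodd : Odd q) (hv : padicValNat 2 (q - 1) ≤ padicValNat 2 n)
    (ha : a = 2) (hab : n = a * b) (hb : 0 < b) (P : GL (Fin n) F) (x : GL (Fin n) F)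
    (hdet : (x : Matrix (Fin n) (Fin n) F).det = 1) {z : F} (hz : (x : Matrix (Fin n) (Fin n) F) ^ 2 = z • 1) :
    ∃ B : GL (Fin n) F, B⁻¹ * x * B ∈ Cfsg.Geo.tensorProductSubgroup a b e P := by
  classical
  subst ha
  have hz0 : z ≠ 0 := CfsgLib.Derange.sq_scalar_ne_zero (by omega) (by rw [hdet]; exact one_ne_zero) hz
  set T := Matrix.toLin' (x : Matrix (Fin n) (Fin n) F) with hT
  have hT2 : T ^ 2 = z • 1 := by rw [hT, ← CfsgLib.Derange.toLin'_pow, hz, CfsgLib.Derange.toLin'_smul_one]
  have hTT : ∀ w, T (T w) = z • w := fun w => by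
    rw [← End.mul_apply, ← sq, hT2, LinearMap.smul_apply, End.one_apply]
  by_cases hs : ∃ c : F, c * c = z
  · obtain ⟨c, hc⟩ := hs
    have hc0 : c ≠ 0 := fun h => hz0 (by rw [← hc, h, mul_zero])
    have h2 : (2 : F) ≠ 0 := by
      have h2' : ringChar F ≠ 2 := fun h => by
        have := FiniteField.even_card_iff_char_two.mp h
        rw [hq] at this
        exact Nat.not_even_iff_odd.2 hodd (Nat.even_iff.2 this)
      exact Ring.two_ne_zero h2'
    let U := LinearMap.ker (T - c • 1)
    let W := LinearMap.ker (T + c • 1)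
    have hU : ∀ w, w ∈ U ↔ T w = c • w := fun w => by simp [U, sub_eq_zero]
    have hW : ∀ w, w ∈ W ↔ T w = (-c) • w := fun w => by simp [W, add_eq_zero_iff_eq_neg]
    have hUW : IsCompl U W := by
      constructor
      · rw [Submodule.disjoint_def]
        intro w h1 h2'
        rw [hU] at h1; rw [hW, h1] at h2'
        have : (2 * c) • w = 0 := by
          rw [two_mul, add_smul]
          nth_rw 1 [h2']
          rw [← add_smul, neg_add_cancel, zero_smul]
        exact (smul_eq_zero.1 this).resolve_left (mul_ne_zero h2 hc0)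
      · rw [codisjoint_iff, eq_top_iff]
        intro w _
        refine Submodule.mem_sup.2 ⟨(2 * c)⁻¹ • (c • w + T w), ?_, (2 * c)⁻¹ • (c • w - T w), ?_, ?_⟩
        · rw [hU, map_smul, smul_comm c]
          congr 1
          rw [map_add, map_smul, hTT, smul_add, smul_smul, hc, add_comm]
        · rw [hW, map_smul, smul_comm (-c)]
          congr 1
          rw [map_sub, map_smul, hTT, smul_sub, smul_smul, neg_mul, hc, neg_smul, neg_smul]
          abel
        · rw [← smul_add, show (c • w + T w) + (c • w - T w) = (2 * c) • w by rw [two_mul, add_smul]; abel,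
            smul_smul, inv_mul_cancel₀ (mul_ne_zero h2 hc0), one_smul]
    set u := finrank F U
    set w := finrank F W
    let bs := ((Module.finBasis F U).prod (Module.finBasis F W)).map (Submodule.prodEquivOfIsCompl U W hUW)
    let d : Fin u ⊕ Fin w → F := Sum.elim (fun _ => c) (fun _ => -c)
    have hbs : ∀ k, T (bs k) = d k • bs k := by
      rintro (k | k)
      · simp only [bs, d, Basis.map_apply, Basis.prod_apply_inl_fst, Sum.elim_inl]
        have := (hU _).1 (Module.finBasis F U k).2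
        simpa [Basis.prod_apply] using this
      · simp only [bs, d, Basis.map_apply, Sum.elim_inr]
        have := (hW _).1 (Module.finBasis F W k).2
        simpa [Basis.prod_apply] using this
    have huw : u + w = n := by
      have := Module.finrank_eq_card_basis bs
      simp at this
      omega
    have hdiag : LinearMap.toMatrix bs bs T = Matrix.diagonal d := by
      ext k l
      rw [LinearMap.toMatrix_apply, hbs, map_smul, bs.repr_self, Finsupp.smul_apply, Finsupp.single_apply,
        Matrix.diagonal_apply, smul_eq_mul]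
      rcases eq_or_ne k l with rfl | h
      · simp
      · simp [h, Ne.symm h]
    have hprod : c ^ u * (-c) ^ w = 1 := by
      have := LinearMap.det_toMatrix bs T
      rw [hdiag, Matrix.det_diagonal, Fintype.prod_sum_type, hT, LinearMap.det_toLin', hdet] at this
      simpa [d] using this
    have hw : Even w := by
      by_contra hw
      rw [Nat.not_even_iff_odd] at hw
      have h1 : c ^ n = -1 := by
        rw [hw.neg_pow, mul_neg, ← pow_add, huw] at hprod
        linear_combination -hprod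
      obtain ⟨m, hm, hm2⟩ : ∃ m, Odd m ∧ q - 1 ∣ n * m := by
        obtain ⟨k, m, hm, hk⟩ := Nat.exists_eq_two_pow_mul_odd (n := q - 1) (by have := Fintype.one_lt_card (α := F); omega)
        refine ⟨m, hm, hk ▸ mul_dvd_mul_right ?_ m⟩
        have hkv : padicValNat 2 (q - 1) = k := by
          haveI := Fact.mk Nat.prime_two
          rw [hk, padicValNat.mul (by positivity) hm.pos.ne', padicValNat.prime_pow,
            padicValNat.eq_zero_of_not_dvd (fun h => Nat.not_even_iff_odd.2 hm (even_iff_two_dvd.2 h)), add_zero]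
        exact (pow_dvd_pow 2 (hkv ▸ hv)).trans pow_padicValNat_dvd
      obtain ⟨t, ht⟩ := hm2
      have h2' : c ^ (n * m) = 1 := by
        rw [ht, pow_mul, ← hq, FiniteField.pow_card_sub_one_eq_one c hc0, one_pow]
      rw [pow_mul, h1, hm.neg_one_pow] at h2'
      exact h2 (by linear_combination -h2')
    obtain ⟨w₂, hw₂⟩ := hw
    obtain ⟨u₂, hu₂⟩ : Even u := ⟨b - w₂, by omega⟩
    let ε : Fin 2 × Fin b ≃ Fin u ⊕ Fin w :=
      (Equiv.prodCongr (Equiv.refl (Fin 2)) (finSumFinEquiv.trans (finCongr (show u₂ + w₂ = b by omega))).symm).trans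
        ((Equiv.prodSumDistrib (Fin 2) (Fin u₂) (Fin w₂)).trans
          (Equiv.sumCongr (finProdFinEquiv.trans (finCongr (by omega))) (finProdFinEquiv.trans (finCongr (by omega)))))
    let d' : Fin b → F := fun j => d (ε (0, j))
    have hd' : ∀ i j, d (ε (i, j)) = d' j := by
      intro i j
      simp only [d', ε, Equiv.trans_apply, Equiv.prodCongr_apply, Prod.map_apply, Equiv.refl_apply]
      rcases (finSumFinEquiv.trans (finCongr (show u₂ + w₂ = b by omega))).symm j with k | k <;>
        simp [d]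
    have hd'0 : ∀ j, d' j ≠ 0 := by
      intro j
      simp only [d', d]
      rcases ε (0, j) with k | k <;> simp [hc0]
    refine mem_of_basis (bs.reindex ε.symm) P 1
      (Matrix.GeneralLinearGroup.mkOfDetNeZero (Matrix.diagonal d')
        (by rw [Matrix.det_diagonal]; exact Finset.prod_ne_zero_iff.2 fun j _ => hd'0 j)) ?_
    ext ⟨i, j⟩ ⟨k, l⟩
    have := congrFun (congrFun hdiag (ε (i, j))) (ε (k, l))
    simp only [LinearMap.toMatrix_apply] at this
    simp only [LinearMap.toMatrix_apply, Basis.reindex_apply, Basis.repr_reindex_apply, Equiv.symm_symm, ← hT, this]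
    show _ = ((1 : Matrix (Fin 2) (Fin 2) F) ⊗ₖ Matrix.diagonal d') (i, j) (k, l)
    rw [← Matrix.diagonal_one, Matrix.diagonal_kronecker_diagonal, Matrix.diagonal_apply, Matrix.diagonal_apply,
      one_mul, hd']
    simp [ε.injective.eq_iff]
  · push Not at hs
    obtain ⟨j, k, bm, hmon⟩ := CfsgLib.Derange.exists_monomial_basis_aux _ (Fin n → F) (Module.finrank_fin_fun F) T z hz0 hT2
    have hk : k = 0 := by
      by_contra hk
      obtain ⟨c, -, hc⟩ := hmon (Sum.inr ⟨0, Nat.pos_of_ne_zero hk⟩)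
      have h2 := hTT (bm (Sum.inr ⟨0, Nat.pos_of_ne_zero hk⟩))
      rw [hc, map_smul] at h2
      simp only [Sum.map_inr, id] at h2 hc
      rw [hc, smul_smul] at h2
      exact hs c (smul_left_injective F (bm.ne_zero _) h2)
    subst hk
    have hj : j = b := by
      have := Module.finrank_eq_card_basis bm
      simp at this
      omega
    subst hj
    choose c hc0 hc using hmon
    let ε : (Fin j ⊕ Fin j) ⊕ Fin 0 ≃ Fin 2 × Fin j :=
      (Equiv.sumEmpty _ _).trans ((Equiv.boolProdEquivSum (Fin j)).symm.trans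
        (Equiv.prodCongr finTwoEquiv.symm (Equiv.refl _)))
    let v : Fin j → (Fin n → F) := fun l => bm (Sum.inl (Sum.inl l))
    let s : (Fin j ⊕ Fin j) ⊕ Fin 0 → Fˣ := Sum.elim (Sum.elim 1 fun l => Units.mk0 (c (Sum.inl (Sum.inl l))) (hc0 _)) 1
    let bb := (bm.unitsSMul s).reindex ε
    have hb0 : ∀ l, bb (0, l) = v l := by
      intro l
      have : ε.symm (0, l) = Sum.inl (Sum.inl l) := by rw [Equiv.symm_apply_eq]; rfl
      simp [bb, this, Basis.unitsSMul_apply, s, v]
    have hb1 : ∀ l, bb (1, l) = T (v l) := by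
      intro l
      have : ε.symm (1, l) = Sum.inl (Sum.inr l) := by rw [Equiv.symm_apply_eq]; rfl
      simp [bb, this, Basis.unitsSMul_apply, s, v, hc, Units.smul_def]
    refine mem_of_basis bb P
      (Matrix.GeneralLinearGroup.mkOfDetNeZero !![0, z; 1, 0] (by simp [Matrix.det_fin_two, hz0])) 1 ?_
    ext ⟨i, l⟩ ⟨i', l'⟩
    show _ = ((!![0, z; 1, 0] : Matrix (Fin 2) (Fin 2) F) ⊗ₖ (1 : Matrix (Fin j) (Fin j) F)) (i, l) (i', l')
    rw [Matrix.kroneckerMap_apply, LinearMap.toMatrix_apply, ← hT]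
    fin_cases i' <;> simp only [Fin.zero_eta, Fin.mk_one, Fin.isValue]
    · rw [hb0, ← hb1, bb.repr_self, Finsupp.single_apply]
      fin_cases i <;> simp [Matrix.one_apply, Prod.ext_iff, eq_comm]
    · rw [hb1, hTT, ← hb0, map_smul, bb.repr_self, Finsupp.smul_apply, Finsupp.single_apply]
      fin_cases i <;> simp [Matrix.one_apply, Prod.ext_iff, eq_comm]

end

/-- Elements of prime order of PSL_n(q) and the stabilizers of tensor decompositions with factors of different dimensions. Here `T = PSL_n(F)` for a field `F` with `q` elements and `n = a·b` with `2 ≤ a < b`; a tensor decomposition `F^n ≅ F^a ⊗ F^b` is given by a bijection `e` of index sets and a change of basis `P`, and `H` is the subgroup of matrices of determinant 1 in its stabilizer (the conjugate by `P` of the group of Kronecker products `g₁ ⊗ g₂`) — a subgroup of type GL_a(q) ⊗ GL_b(q) (maximality is not assumed); Ω is the set of cosets of `H` in `T`, so an element of `T` of prime order `r` (a matrix `x` of determinant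 1 with `x^r` scalar, `x` not scalar) fixes a point of Ω exactly when some conjugate of `x` by a matrix of determinant 1 lies in `H`. Let `r` be a prime dividing the index of `H`. Then every element of `T` of order `r` fixes a point of Ω if and only if `r = 2`, `a = 2`, `q` is odd and `(q − 1)_2 ≤ (n)_2` (2-parts). -/
theorem result {F : Type*} [Field F] [Fintype F] {p : ℕ} [Fact p.Prime] [CharP F p] {q : ℕ} (hq : Fintype.card F = q)
    (n a b : ℕ) (hab : n = a * b) (ha : 2 ≤ a) (hlt : a < b) (e : Fin n ≃ Fin a × Fin b) (P : GL (Fin n) F)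
    (r : ℕ) [Fact r.Prime]
    (hΩ : r ∣ (Cfsg.Geo.tensorProductSubgroup a b e P).relIndex (Cfsg.Geo.specialLinear (Fin n) F)) :
    (∀ x ∈ Cfsg.Geo.specialLinear (Fin n) F, (∃ z : F, ((x ^ r : GL (Fin n) F) : Matrix (Fin n) (Fin n) F) = z • (1 : Matrix (Fin n) (Fin n) F)) →
      (∀ z : F, (x : Matrix (Fin n) (Fin n) F) ≠ z • (1 : Matrix (Fin n) (Fin n) F)) →
      ∃ g ∈ Cfsg.Geo.specialLinear (Fin n) F, g⁻¹ * x * g ∈ Cfsg.Geo.tensorProductSubgroup a b e P) ↔
    (r = 2 ∧ a = 2 ∧ Odd q ∧ padicValNat 2 (q - 1) ≤ padicValNat 2 n) := by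
  constructor
  · intro h
    by_contra hcond
    have hd : r ∣ Nat.card (GL (Fin n) F) :=
      (hΩ.trans (Subgroup.relIndex_dvd_card _ _)).trans (Subgroup.card_subgroup_dvd_card _)
    obtain ⟨X, z, hdet, hz, hns, hX⟩ := exists_bad (p := p) (e := e) hq Fact.out hab ha hlt hd hcond
    exact mk_bad X hdet hz hns hX P h
  · rintro ⟨rfl, ha2, hodd, hv⟩ x hx ⟨z, hz⟩ -
    rw [Units.val_pow_eq_pow_val] at hz
    have hdet : (x : Matrix (Fin n) (Fin n) F).det = 1 := congrArg Units.val (MonoidHom.mem_ker.1 hx)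
    obtain ⟨B, hB⟩ := exists_model_conj hq hodd hv ha2 hab (by omega) P x hdet hz
    let xs : Matrix.SpecialLinearGroup (Fin n) F := ⟨_, hdet⟩
    have hxs : Matrix.SpecialLinearGroup.toGL xs = x := Units.ext rfl
    obtain ⟨Q, hQ⟩ := CfsgLib.Derange.exists_sl_conj (p := p) (by rw [hab]; nlinarith) _ xs hz B (hxs ▸ hB)
    refine ⟨Matrix.SpecialLinearGroup.toGL Q, MonoidHom.mem_ker.2 (Units.ext Q.2), ?_⟩
    rw [Subgroup.mem_comap, map_mul, map_mul, map_inv, hxs] at hQ
    exact hQ

end Cfsg.Agent.S5979
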