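import Cfsg.Statements.S5980
import Cfsg.Agent.Lib.Derange.SympTensor
import Cfsg.Agent.S5975
import Cfsg.Agent.Lib.Classical.AschSympCoord

set_option autoImplicit false
open scoped MatrixGroups
open Cfsg

namespace Cfsg.Agent.S5980

open Module Matrix CfsgLib.Derange CfsgLib.SympCount CfsgLib.Classical CfsgLib.Classical.SympTrans
open CfsgLib.Classical.SympClasses CfsgLib.Asch.SympMax
open scoped Kronecker

universe u

variable {F : Type u} [Field F] {d a b : ℕ}

local notation "Mat" => Matrix (Fin d ⊕ Fin d) (Fin d ⊕ Fin d) F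

theorem kron_pow (A : Matrix (Fin a) (Fin a) F) (B : Matrix (Fin b) (Fin b) F) (r : ℕ) :
    (A ⊗ₖ B) ^ r = (A ^ r) ⊗ₖ (B ^ r) := by
  induction r with
  | zero => rw [pow_zero, pow_zero, pow_zero, Matrix.one_kronecker_one]
  | succ r ih => rw [pow_succ, pow_succ, pow_succ, ih, ← Matrix.mul_kronecker_mul]

theorem isometry_pow {n : ℕ} {A G : Matrix (Fin n) (Fin n) F} {m : F} (h : Aᵀ * G * A = m • G) (k : ℕ) :
    (A ^ k)ᵀ * G * (A ^ k) = m ^ k • G := by
  induction k with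
  | zero => simp
  | succ k ih =>
    rw [pow_succ, Matrix.transpose_mul,
      show Aᵀ * (A ^ k)ᵀ * G * (A ^ k * A) = Aᵀ * ((A ^ k)ᵀ * G * A ^ k) * A by simp only [mul_assoc], ih,
      mul_smul_comm, smul_mul_assoc, h, smul_smul, pow_succ]

theorem dot_kron (G₁ : Matrix (Fin a) (Fin a) F) (G₂ : Matrix (Fin b) (Fin b) F) (x x' : Fin a → F) (y y' : Fin b → F) :
    (fun p : Fin a × Fin b => x p.1 * y p.2) ⬝ᵥ (G₁ ⊗ₖ G₂) *ᵥ (fun p => x' p.1 * y' p.2) =
      (x ⬝ᵥ G₁ *ᵥ x') * (y ⬝ᵥ G₂ *ᵥ y') := by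
  rw [SpT.kron_mulVec]
  simp only [dotProduct, Fintype.sum_prod_type, Finset.sum_mul_sum]
  exact Finset.sum_congr rfl fun s _ => Finset.sum_congr rfl fun t _ => by ring

theorem exists_transvection {p : ℕ} [Fact p.Prime] [CharP F p] (hd : 1 ≤ d) :
    ∃ z : Matrix.symplecticGroup (Fin d) F, z ^ p = 1 ∧ (∀ c : F, (z : Mat) ≠ c • (1 : Mat)) ∧
      ∃ U : Submodule F (Fin d ⊕ Fin d → F), 2 * d ≤ finrank F U + 1 ∧ ∀ v ∈ U, (z : Mat) *ᵥ v = v := by
  classical
  haveI : Nonempty (Fin d ⊕ Fin d) := ⟨Sum.inl ⟨0, by omega⟩⟩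
  obtain ⟨v, hv⟩ : ∃ v : Fin d ⊕ Fin d → F, v ≠ 0 := exists_ne 0
  obtain ⟨w, hw⟩ : ∃ w, Cfsg.sympForm d F w v ≠ 0 := by
    by_contra hc
    push Not at hc
    exact hv (eq_zero_of_f v fun w => by rw [f_swap, hc, neg_zero])
  refine ⟨T v 1, ?_, fun c hc => ?_, LinearMap.ker ((sb F d).flip v), ?_, fun u hu => ?_⟩
  · have : ∀ k : ℕ, T v (1 : F) ^ k = T v (k : F) := by
      intro k
      induction k with
      | zero => rw [pow_zero, Nat.cast_zero, T_zero]
      | succ k ih => rw [pow_succ, ih, T_mul, Nat.cast_succ]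
    rw [this, CharP.cast_eq_zero, T_zero]
  · have h1 : app (T v (1 : F)) v = c • v := by rw [app, hc, Matrix.smul_mulVec, Matrix.one_mulVec]
    rw [app_T, f_self, mul_zero, zero_smul, add_zero] at h1
    have hc1 : c = 1 := smul_left_injective F hv (show c • v = (1 : F) • v by rw [one_smul]; exact h1.symm)
    have h3 : app (T v (1 : F)) w = c • w := by rw [app, hc, Matrix.smul_mulVec, Matrix.one_mulVec]
    rw [app_T, hc1, one_smul, add_eq_left, one_mul, smul_eq_zero] at h3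
    exact h3.elim hw hv
  · have h1 := LinearMap.finrank_range_add_finrank_ker ((sb F d).flip v)
    have h2 := Submodule.finrank_le (LinearMap.range ((sb F d).flip v))
    rw [Module.finrank_self] at h2
    rw [Sp.finrank_std] at h1
    omega
  · have h0 : Cfsg.sympForm d F u v = 0 := by rw [← sb_apply]; exact hu
    show app (T v (1 : F)) u = u
    rw [app_T, h0, mul_zero, zero_smul, add_zero]

variable [Fintype F]

/-- An element of order two modulo scalars is conjugate into the stabilizer when one factor is a plane. -/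
theorem fixed_two (h2 : (2 : F) ≠ 0) {e : (Fin d ⊕ Fin d) ≃ Fin 2 × Fin b} {P : GL (Fin d ⊕ Fin d) F} {c : F}
    (hc : c ≠ 0) {G₁ : Matrix (Fin 2) (Fin 2) F} {G₂ : Matrix (Fin b) (Fin b) F}
    (hG : Coord e P (c • (G₁ ⊗ₖ G₂))) (hskew : ∀ s t, G₁ s t = -G₁ t s) (hdiag : ∀ s, G₁ s s = 0) (hsymm : G₂ᵀ = G₂)
    (hG₁ : G₁.det ≠ 0) (hG₂ : G₂.det ≠ 0) (hdb : d = b) {z : F} (x : GL (Fin d ⊕ Fin d) F)
    (hx : x ∈ Cfsg.spGL d F) (hz2 : z * z = 1) (hz : (x : Mat) * (x : Mat) = z • (1 : Mat)) :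
    ∃ g ∈ Cfsg.spGL d F, g⁻¹ * x * g ∈ Cfsg.Geo.tensorProductSubgroup 2 b e P := by
  classical
  subst hdb
  set X := Matrix.toLin' (x : Mat) with hXdef
  have hXi : ∀ u w, sb F d (X u) (X w) = sb F d u w := fun u w => by
    rw [sb_apply, sb_apply, hXdef, Matrix.toLin'_apply, Matrix.toLin'_apply]; exact hx u w
  have hX : ∀ u, X (X u) = z • u := fun u => by
    rw [hXdef, Matrix.toLin'_apply, Matrix.toLin'_apply, Matrix.mulVec_mulVec, hz, Matrix.smul_mulVec, Matrix.one_mulVec]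
  have hz0 : z ≠ 0 := fun h => by rw [h, mul_zero] at hz2; exact zero_ne_one hz2
  have finish : ∀ (g : (Fin d ⊕ Fin d → F) ≃ₗ[F] (Fin d ⊕ Fin d → F)) (A : GL (Fin 2) F) (R : GL (Fin d) F)
      (w : GL (Fin 2 × Fin d) F), (w : Matrix (Fin 2 × Fin d) (Fin 2 × Fin d) F) =
        (A : Matrix (Fin 2) (Fin 2) F) ⊗ₖ (R : Matrix (Fin d) (Fin d) F) →
      (∀ u v, sb F d (g u) (g v) = sb F d u v) →
      (∀ u, g (X u) = (cmap e P w : Mat) *ᵥ g u) →
      ∃ g ∈ Cfsg.spGL d F, g⁻¹ * x * g ∈ Cfsg.Geo.tensorProductSubgroup 2 d e P := by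
    intro g A R w hw hg hgX
    let Q : GL (Fin d ⊕ Fin d) F := Matrix.GeneralLinearGroup.toLin.symm (LinearMap.GeneralLinearGroup.ofLinearEquiv g)
    have hQa : ∀ u, (Q : Mat) *ᵥ u = g u := fun u => by
      show LinearMap.toMatrix' g.toLinearMap *ᵥ u = _
      rw [← Matrix.toLin'_apply, Matrix.toLin'_toMatrix']; rfl
    have hQ : Q ∈ Cfsg.spGL d F := fun u v => by
      show Cfsg.sympForm d F ((Q : Mat) *ᵥ u) ((Q : Mat) *ᵥ v) = _
      rw [hQa, hQa, ← sb_apply, hg, sb_apply]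
    refine ⟨Q⁻¹, Subgroup.inv_mem _ hQ, ?_⟩
    have hcomm : Q * x = cmap e P w * Q := Units.ext (Matrix.ext_iff_mulVec.2 fun u => by
      rw [Units.val_mul, Units.val_mul, ← Matrix.mulVec_mulVec, ← Matrix.mulVec_mulVec, hQa, hQa, ← hgX, hXdef,
        Matrix.toLin'_apply])
    rw [inv_inv, hcomm, mul_inv_cancel_right, tensor_eq]
    exact ⟨w, ⟨A, R, hw⟩, rfl⟩
  by_cases hsq : IsSquare z
  · obtain ⟨ee, he⟩ := hsq
    obtain ⟨v, w, ε, hvw, hev⟩ :=
      SpU.exists_eigen_family h2 (symp_sb F d) (Sp.finrank_std d) hz2 he.symm X hXi hX d le_rfl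
    obtain ⟨bx, hb1, hb2⟩ := hvw.basis (symp_sb F d) (Sp.finrank_std d)
    have hε : ∀ i, ε i ≠ 0 := fun i h => by
      have hvi : v i ≠ 0 := fun h' => one_ne_zero (α := F) (by simpa [h'] using (hvw.vw i i).symm)
      have h1 := hX (v i)
      rw [(hev i).1, h, zero_smul, map_zero, eq_comm, smul_eq_zero] at h1
      exact h1.elim hz0 hvi
    haveI : Invertible (2 : F) := invertibleOfNonzero h2
    obtain ⟨bu₀, hbu₀⟩ := LinearMap.BilinForm.exists_orthogonal_basis (B := Matrix.toBilin' G₂)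
      ⟨fun u w => by
        simp only [RingHom.id_apply]
        rw [Matrix.toBilin'_apply', Matrix.toBilin'_apply', Matrix.dotProduct_mulVec, ← Matrix.mulVec_transpose, hsymm,
          dotProduct_comm]⟩
    let bu := bu₀.reindex (finCongr (Module.finrank_fin_fun F))
    have hbu : ∀ i k, i ≠ k → bu i ⬝ᵥ G₂ *ᵥ bu k = 0 := fun i k hik => by
      rw [← Matrix.toBilin'_apply', Basis.reindex_apply, Basis.reindex_apply]
      exact hbu₀ (fun h => hik ((finCongr (Module.finrank_fin_fun F)).symm.injective h))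
    have hn : ∀ i, bu i ⬝ᵥ G₂ *ᵥ bu i ≠ 0 := fun i h0 => by
      have hall : ∀ u, u ⬝ᵥ G₂ *ᵥ bu i = 0 := fun u => by
        rw [← Matrix.toBilin'_apply']
        have : (Matrix.toBilin' G₂).flip (bu i) = 0 := bu.ext fun k => by
          rw [LinearMap.BilinForm.flip_apply, Matrix.toBilin'_apply', LinearMap.zero_apply]
          by_cases hk : k = i
          · subst hk; exact h0
          · exact hbu k i hk
        exact LinearMap.congr_fun this u
      exact bu.ne_zero i (Matrix.eq_zero_of_mulVec_eq_zero hG₂ (funext fun s => by simpa using hall (Pi.single s 1)))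
    have hg01 : G₁ 0 1 ≠ 0 := fun h => hG₁ (by rw [Matrix.det_fin_two, hdiag, hdiag, h]; ring)
    let pv : Fin 2 → Fin d → (Fin d ⊕ Fin d → F) := fun s i =>
      cvec e P fun y => (Pi.single s (1 : F) : Fin 2 → F) y.1 * bu i y.2
    let κ : Fin d → F := fun i => (c * G₁ 0 1 * (bu i ⬝ᵥ G₂ *ᵥ bu i))⁻¹
    have hpv : ∀ s t i k, sb F d (pv s i) (pv t k) = c * (G₁ s t * (bu i ⬝ᵥ G₂ *ᵥ bu k)) := fun s t i k => by
      rw [sb_apply, hG, Matrix.smul_mulVec, dotProduct_smul, dot_kron, smul_eq_mul]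
      simp [Matrix.mulVec_single_one, single_dotProduct]
    have hyp : SpU.Hyp (sb F d) (fun i => pv 0 i) (fun i => κ i • pv 1 i) := by
      refine ⟨fun i k => ?_, fun i k => ?_, fun i k => ?_⟩
      · rw [map_smul, hpv, smul_eq_mul]
        split_ifs with hik
        · subst hik
          have := mul_ne_zero (mul_ne_zero hc hg01) (hn i)
          simp only [κ]
          rw [← mul_assoc c, inv_mul_cancel₀ this]
        · rw [hbu i k hik]; ring
      · rw [hpv, hdiag, zero_mul, mul_zero]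
      · rw [map_smul, LinearMap.map_smul₂, hpv, hdiag, zero_mul, mul_zero, smul_zero, smul_zero]
    obtain ⟨bt, ht1, ht2⟩ := hyp.basis (symp_sb F d) (Sp.finrank_std d)
    let A : GL (Fin 2) F := Matrix.GeneralLinearGroup.mkOfDetNeZero (Matrix.diagonal ![1, z]) (by simp [hz0])
    let R₀ : End F (Fin d → F) := bu.constr F fun i => ε i • bu i
    let R₁ : End F (Fin d → F) := bu.constr F fun i => (ε i)⁻¹ • bu i
    let R : GL (Fin d) F := ⟨LinearMap.toMatrix' R₀, LinearMap.toMatrix' R₁,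
      by rw [← LinearMap.toMatrix'_comp, show R₀ ∘ₗ R₁ = LinearMap.id from bu.ext fun i => by
        simp [R₀, R₁, smul_smul, inv_mul_cancel₀ (hε i), mul_inv_cancel₀ (hε i)]]; exact LinearMap.toMatrix'_id,
      by rw [← LinearMap.toMatrix'_comp, show R₁ ∘ₗ R₀ = LinearMap.id from bu.ext fun i => by
        simp [R₀, R₁, smul_smul, inv_mul_cancel₀ (hε i), mul_inv_cancel₀ (hε i)]]; exact LinearMap.toMatrix'_id⟩
    let w' : GL (Fin 2 × Fin d) F := ⟨(A : Matrix (Fin 2) (Fin 2) F) ⊗ₖ (R : Matrix (Fin d) (Fin d) F),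
      ((A⁻¹ : GL (Fin 2) F) : Matrix (Fin 2) (Fin 2) F) ⊗ₖ ((R⁻¹ : GL (Fin d) F) : Matrix (Fin d) (Fin d) F),
      by rw [← Matrix.mul_kronecker_mul, Units.mul_inv, Units.mul_inv, Matrix.one_kronecker_one],
      by rw [← Matrix.mul_kronecker_mul, Units.inv_mul, Units.inv_mul, Matrix.one_kronecker_one]⟩
    have hact : ∀ s i, (cmap e P w' : Mat) *ᵥ pv s i = ((![1, z] : Fin 2 → F) s * ε i) • pv s i := fun s i => by
      show _ *ᵥ cvec e P _ = _
      rw [cmap_mulVec, ← map_smul]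
      congr 1
      show ((A : Matrix (Fin 2) (Fin 2) F) ⊗ₖ (R : Matrix (Fin d) (Fin d) F)) *ᵥ _ = _
      rw [SpT.kron_mulVec]
      have hR : (R : Matrix (Fin d) (Fin d) F) *ᵥ bu i = ε i • bu i := by
        show LinearMap.toMatrix' R₀ *ᵥ bu i = _
        rw [← Matrix.toLin'_apply, Matrix.toLin'_toMatrix']
        simp [R₀]
      funext y
      show ((Matrix.diagonal ![1, z]) *ᵥ _) y.1 * ((R : Matrix (Fin d) (Fin d) F) *ᵥ bu i) y.2 = _
      rw [hR, Matrix.mulVec_diagonal]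
      simp only [Pi.smul_apply, smul_eq_mul]
      by_cases hy : y.1 = s
      · subst hy; simp; ring
      · simp [hy]
    refine finish (bx.equiv bt (Equiv.refl _)) A R w' rfl (fun u v' => ?_) (fun u => ?_)
    · have : LinearMap.compl₁₂ (sb F d) (bx.equiv bt (Equiv.refl _)).toLinearMap (bx.equiv bt (Equiv.refl _)).toLinearMap = sb F d := by
        refine LinearMap.BilinForm.ext_basis bx fun i k => ?_
        have hwv : ∀ {v w : Fin d → (Fin d ⊕ Fin d → F)}, SpU.Hyp (sb F d) v w → ∀ i j,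
            sb F d (w j) (v i) = if i = j then -1 else 0 := fun h i j => by
          rw [SpU.antisymm (symp_sb F d), h.vw]; split_ifs <;> simp
        simp only [LinearMap.compl₁₂_apply, LinearEquiv.coe_coe, Basis.equiv_apply, Equiv.refl_apply]
        rcases i with i | i <;> rcases k with k | k
        · rw [ht1, ht1, hb1, hb1, hyp.vv, hvw.vv]
        · rw [ht1, ht2, hb1, hb2, hyp.vw, hvw.vw]
        · rw [ht2, ht1, hb2, hb1, hwv hyp, hwv hvw]
        · rw [ht2, ht2, hb2, hb2, hyp.ww, hvw.ww]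
      exact congrArg (fun B' : LinearMap.BilinForm F (Fin d ⊕ Fin d → F) => B' u v') this
    · have : (bx.equiv bt (Equiv.refl _)).toLinearMap ∘ₗ X = Matrix.toLin' (cmap e P w' : Mat) ∘ₗ (bx.equiv bt (Equiv.refl _)).toLinearMap := by
        refine bx.ext fun i => ?_
        rw [LinearMap.comp_apply, LinearMap.comp_apply, LinearEquiv.coe_coe, Basis.equiv_apply, Equiv.refl_apply]
        rcases i with i | i
        · rw [hb1, (hev i).1, map_smul, ← hb1, Basis.equiv_apply, Equiv.refl_apply, ht1, Matrix.toLin'_apply, hact]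
          simp
        · rw [hb2, (hev i).2, map_smul, ← hb2, Basis.equiv_apply, Equiv.refl_apply, ht2, Matrix.toLin'_apply, Matrix.mulVec_smul, hact,
            smul_smul, smul_smul]
          simp [mul_comm]
      exact LinearMap.congr_fun this u
  · have hz1 : z = -1 := (mul_self_eq_one_iff.1 hz2).resolve_left fun h => hsq (h ▸ IsSquare.one)
    let A : GL (Fin 2) F := Matrix.GeneralLinearGroup.mkOfDetNeZero !![0, 1; -1, 0] (by simp [Matrix.det_fin_two])
    let w' : GL (Fin 2 × Fin d) F := ⟨(A : Matrix (Fin 2) (Fin 2) F) ⊗ₖ (1 : Matrix (Fin d) (Fin d) F),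
      ((A⁻¹ : GL (Fin 2) F) : Matrix (Fin 2) (Fin 2) F) ⊗ₖ (1 : Matrix (Fin d) (Fin d) F),
      by rw [← Matrix.mul_kronecker_mul, Units.mul_inv, one_mul, Matrix.one_kronecker_one],
      by rw [← Matrix.mul_kronecker_mul, Units.inv_mul, one_mul, Matrix.one_kronecker_one]⟩
    have hAA : (A : Matrix (Fin 2) (Fin 2) F)ᵀ * G₁ * (A : Matrix (Fin 2) (Fin 2) F) = G₁ := by
      show (!![0, 1; -1, 0] : Matrix (Fin 2) (Fin 2) F)ᵀ * G₁ * !![0, 1; -1, 0] = G₁
      ext i k
      fin_cases i <;> fin_cases k <;>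
        simp [Matrix.mul_apply, Fin.sum_univ_two, hdiag, hskew 1 0]
    have hA2 : (A : Matrix (Fin 2) (Fin 2) F) * (A : Matrix (Fin 2) (Fin 2) F) = (-1 : F) • 1 := by
      show (!![0, 1; -1, 0] : Matrix (Fin 2) (Fin 2) F) * !![0, 1; -1, 0] = _
      ext i k
      fin_cases i <;> fin_cases k <;> simp [Matrix.mul_apply, Fin.sum_univ_two]
    have hw : cmap e P w' ∈ Cfsg.spGL d F := (hG.mem_iff w').2 (by
      show ((A : Matrix (Fin 2) (Fin 2) F) ⊗ₖ (1 : Matrix (Fin d) (Fin d) F))ᵀ * (c • (G₁ ⊗ₖ G₂)) * _ = _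
      rw [← Matrix.kroneckerMap_transpose, Matrix.transpose_one, mul_smul_comm, smul_mul_assoc,
        show (w' : Matrix (Fin 2 × Fin d) (Fin 2 × Fin d) F) = (A : Matrix (Fin 2) (Fin 2) F) ⊗ₖ 1 from rfl,
        ← Matrix.mul_kronecker_mul, ← Matrix.mul_kronecker_mul, hAA, one_mul, mul_one])
    set T := Matrix.toLin' (cmap e P w' : Mat) with hTdef
    have hTT : ∀ u, T (T u) = (-1 : F) • u := fun u => by
      obtain ⟨y, rfl⟩ := cvec_surjective e P u
      rw [hTdef, Matrix.toLin'_apply, Matrix.toLin'_apply, cmap_mulVec, cmap_mulVec, Matrix.mulVec_mulVec, ← map_smul]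
      congr 1
      show (((A : Matrix (Fin 2) (Fin 2) F) ⊗ₖ (1 : Matrix (Fin d) (Fin d) F)) * ((A : Matrix (Fin 2) (Fin 2) F) ⊗ₖ 1)) *ᵥ y = _
      rw [← Matrix.mul_kronecker_mul, hA2, one_mul, Matrix.smul_kronecker, Matrix.one_kronecker_one, Matrix.smul_mulVec,
        Matrix.one_mulVec]
    have hskewT : ∀ (Y : End F (Fin d ⊕ Fin d → F)), (∀ u v, sb F d (Y u) (Y v) = sb F d u v) →
        (∀ u, Y (Y u) = (-1 : F) • u) → SpU.Skew (sb F d) (-1) Y := fun Y hYi hY => by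
      refine ⟨fun u v => ?_, hY⟩
      have h1 := hYi (Y u) v
      rw [hY, map_smul, LinearMap.smul_apply, smul_eq_mul] at h1
      linear_combination -h1
    obtain ⟨g, hg, hgX⟩ := SpU.exists_conj (ν := (-1 : F)) h2 (fun t ht => hsq ⟨t, by rw [hz1, ht]⟩) (symp_sb F d)
      (Sp.finrank_std d) (hskewT X hXi fun u => by rw [hX, hz1])
      (hskewT T (fun u v => by rw [sb_apply, sb_apply, hTdef, Matrix.toLin'_apply, Matrix.toLin'_apply]; exact hw u v) hTT)
    exact finish g A 1 w' rfl hg fun u => by rw [hgX, hTdef, Matrix.toLin'_apply]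

/-- Elements of prime order of PSp_n(q), q odd, and the stabilizers of tensor decompositions Sp_a(q) ⊗ O_b(q). Here `T = PSp_{2d}(F)` for a field `F` with `q` elements, `q` odd, `d ≥ 2`, realised through the matrices preserving the standard alternating form `f`; `2d = a·b` with `a` even, `b ≥ 3`, and the bijection `e` and change of basis `P` exhibit `f` as a non-zero scalar multiple of the tensor product of a non-degenerate alternating form `f₁` on `F^a` and a non-degenerate symmetric bilinear form `f₂` on `F^b`; `H` is the subgroup of `T` stabilizing this tensor decomposition (the elements of `T` in the conjugate by `P` of the group of Kronecker products) — a subgroup of type Sp_a(q) ⊗ O^ε_b(q) (maximality is not assumed). Ω is the set of cosets of `H` in `T`, so an element of `T` of prime order `r` (`x ∈ T` with `x^r` scalar, `x` not scalar) fixes a point of Ω exactly when some `T`-conjugate of `x` lies in `H`. Let `r` be a prime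 dividing the index of `H`. Then every element of `T` of order `r` fixes a point of Ω if and only if `r = 2` and `a = 2`. -/
theorem result {F : Type*} [Field F] [Fintype F] {p : ℕ} [Fact p.Prime] [CharP F p] {q : ℕ} (hq : Fintype.card F = q)
    (hodd : Odd q) (d : ℕ) (hd : 2 ≤ d) (a b : ℕ) (hab : 2 * d = a * b) (ha : Even a) (ha2 : 2 ≤ a) (hb : 3 ≤ b)
    (e : (Fin d ⊕ Fin d) ≃ Fin a × Fin b) (P : GL (Fin d ⊕ Fin d) F)
    (f₁ : (Fin a → F) → (Fin a → F) → F) (f₂ : (Fin b → F) → (Fin b → F) → F)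
    (hf₁ : Cfsg.Geo.IsSymplecticForm f₁) (hf₂ : Cfsg.Geo.IsSymmetricForm f₂)
    (hS : Cfsg.Geo.IsTensorFormStructure id (Cfsg.sympForm d F) f₁ f₂ e P)
    (r : ℕ) [Fact r.Prime]
    (hΩ : r ∣ (Cfsg.Geo.tensorProductSubgroup a b e P).relIndex (Cfsg.spGL d F)) :
    (∀ x ∈ Cfsg.spGL d F, (∃ z : F, ((x ^ r : GL (Fin d ⊕ Fin d) F) : Matrix (Fin d ⊕ Fin d) (Fin d ⊕ Fin d) F) = z • (1 : Matrix (Fin d ⊕ Fin d) (Fin d ⊕ Fin d) F)) →
      (∀ z : F, (x : Matrix (Fin d ⊕ Fin d) (Fin d ⊕ Fin d) F) ≠ z • (1 : Matrix (Fin d ⊕ Fin d) (Fin d ⊕ Fin d) F)) →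
      ∃ g ∈ Cfsg.spGL d F, g⁻¹ * x * g ∈ Cfsg.Geo.tensorProductSubgroup a b e P) ↔ (r = 2 ∧ a = 2) := by
  classical
  have hp : Fact p.Prime := inferInstance
  have hr : r.Prime := Fact.out
  haveI : Nonempty (Fin d ⊕ Fin d) := ⟨Sum.inl ⟨0, by omega⟩⟩
  obtain ⟨n, -, hn⟩ := FiniteField.card F p
  have hp2 : p ≠ 2 := fun h => by
    rw [← hq, hn, h] at hodd
    exact Nat.not_odd_iff_even.2 ((Nat.even_pow).2 ⟨even_two, n.ne_zero⟩) hodd
  have h2 : (2 : F) ≠ 0 := fun h => hp2 ((Nat.prime_dvd_prime_iff_eq hp.out Nat.prime_two).1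
    ((CharP.cast_eq_zero_iff F p 2).1 (by exact_mod_cast h)))
  obtain ⟨c, hc, hG⟩ := CfsgLib.Asch.SympMax.coord_of_tensor hS
  set G₁ := Cfsg.Geo.gramMatrix f₁ with hG₁def
  set G₂ := Cfsg.Geo.gramMatrix f₂ with hG₂def
  have hdet : G₁.det ≠ 0 ∧ G₂.det ≠ 0 := by
    have h0 : (c • (G₁ ⊗ₖ G₂)).det ≠ 0 := fun h => by
      obtain ⟨v, hv, hv'⟩ := Matrix.exists_mulVec_eq_zero_iff.2 ((Matrix.det_transpose _).trans h)
      exact hv (hG.unit fun y => by rw [Matrix.dotProduct_mulVec, ← Matrix.mulVec_transpose, hv', zero_dotProduct])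
    rw [Matrix.det_smul, Matrix.det_kronecker] at h0
    have h1 := right_ne_zero_of_mul h0
    refine ⟨fun h => left_ne_zero_of_mul h1 ?_, fun h => right_ne_zero_of_mul h1 ?_⟩
    · rw [h, zero_pow]; simp; omega
    · rw [h, zero_pow]; simp; omega
  constructor
  · intro hall
    have key : ∀ z : Matrix.symplecticGroup (Fin d) F, z ^ r = 1 →
        (∀ k : F, (z : Matrix (Fin d ⊕ Fin d) (Fin d ⊕ Fin d) F) ≠ k • 1) →
        ∀ U : Submodule F (Fin d ⊕ Fin d → F), (∀ v ∈ U, (z : Matrix (Fin d ⊕ Fin d) (Fin d ⊕ Fin d) F) *ᵥ v = v) →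
        ∃ (A : GL (Fin a) F) (B : GL (Fin b) F) (S : Submodule F (Fin a × Fin b → F)),
          ((A : Matrix (Fin a) (Fin a) F) ⊗ₖ (B : Matrix (Fin b) (Fin b) F)) ≠ 1 ∧
          ((A : Matrix (Fin a) (Fin a) F) ⊗ₖ (B : Matrix (Fin b) (Fin b) F)) ^ r = 1 ∧
          ((A : Matrix (Fin a) (Fin a) F) ⊗ₖ (B : Matrix (Fin b) (Fin b) F))ᵀ * (G₁ ⊗ₖ G₂) *
            ((A : Matrix (Fin a) (Fin a) F) ⊗ₖ (B : Matrix (Fin b) (Fin b) F)) = G₁ ⊗ₖ G₂ ∧
          Module.finrank F S = Module.finrank F U ∧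
          ∀ v ∈ S, ((A : Matrix (Fin a) (Fin a) F) ⊗ₖ (B : Matrix (Fin b) (Fin b) F)) *ᵥ v = v := by
      intro z hz hzs U hU
      obtain ⟨g, hg, hgx⟩ := hall (toSpGL z).1 (toSpGL z).2 ⟨1, by
        rw [← SubgroupClass.coe_pow, ← map_pow, hz, map_one, one_smul]; rfl⟩ (by simpa [toSpGL_coe] using hzs)
      rw [CfsgLib.Asch.SympMax.tensor_eq] at hgx
      obtain ⟨w, ⟨A, B, hw⟩, hwx⟩ := hgx
      have hwr : w ^ r = 1 := by
        apply CfsgLib.Asch.SympMax.cmap_injective e P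
        have hc' : SemiconjBy g (g⁻¹ * (toSpGL z).1 * g) (toSpGL z).1 := by simp [SemiconjBy, mul_assoc]
        have h1 := hc'.pow_right r
        rw [show (toSpGL z).1 ^ r = 1 by rw [← SubgroupClass.coe_pow, ← map_pow, hz, map_one]; rfl] at h1
        rw [map_pow, hwx, map_one]
        simpa [SemiconjBy] using h1
      let ev : (Fin a × Fin b → F) →ₗ[F] (Fin d ⊕ Fin d → F) :=
        Matrix.toLin' (g : Matrix (Fin d ⊕ Fin d) (Fin d ⊕ Fin d) F) ∘ₗ CfsgLib.Asch.SympMax.cvec e P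
      have hevb : Function.Bijective ev := by
        refine ⟨fun v v' h => ?_, fun y => ?_⟩
        · refine CfsgLib.Asch.SympMax.cvec_injective e P ?_
          simpa [ev, Matrix.mulVec_mulVec] using congrArg (fun y => ((g⁻¹ : GL (Fin d ⊕ Fin d) F) : Matrix (Fin d ⊕ Fin d) (Fin d ⊕ Fin d) F) *ᵥ y) h
        · obtain ⟨v, hv⟩ := CfsgLib.Asch.SympMax.cvec_surjective e P (((g⁻¹ : GL (Fin d ⊕ Fin d) F) : Matrix (Fin d ⊕ Fin d) (Fin d ⊕ Fin d) F) *ᵥ y)
          exact ⟨v, by simp [ev, hv, Matrix.mulVec_mulVec]⟩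
      refine ⟨A, B, U.comap ev, fun h => ?_, ?_, ?_,
        ((LinearEquiv.ofBijective ev hevb).ofSubmodule' U).finrank_eq, fun v hv => ?_⟩
      · have hw1 : w = 1 := Units.ext (by rw [hw, h]; rfl)
        rw [hw1, map_one] at hwx
        have hz1 : (toSpGL z).1 = 1 := by
          rw [show (toSpGL z).1 = g * (g⁻¹ * (toSpGL z).1 * g) * g⁻¹ by group, ← hwx]; group
        exact hzs 1 (by rw [one_smul, ← toSpGL_coe, hz1]; rfl)
      · rw [← hw, ← Units.val_pow_eq_pow_val, hwr]; rfl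
      · have h1 : CfsgLib.Asch.SympMax.cmap e P w ∈ Cfsg.spGL d F := by
          rw [hwx]; exact Subgroup.mul_mem _ (Subgroup.mul_mem _ (Subgroup.inv_mem _ hg) (toSpGL z).2) hg
        have h3 := (hG.mem_iff w).1 h1
        rw [hw, mul_smul_comm, smul_mul_assoc] at h3
        exact smul_right_injective _ hc h3
      · apply hevb.1
        have h3 := congrArg (fun y : GL (Fin d ⊕ Fin d) F => (y : Matrix (Fin d ⊕ Fin d) (Fin d ⊕ Fin d) F) *ᵥ CfsgLib.Asch.SympMax.cvec e P v) hwx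
        simp only [CfsgLib.Asch.SympMax.cmap_mulVec, hw, Units.val_mul, toSpGL_coe] at h3
        show (g : Matrix (Fin d ⊕ Fin d) (Fin d ⊕ Fin d) F) *ᵥ CfsgLib.Asch.SympMax.cvec e P _ = _
        rw [h3]
        simp only [mul_assoc, Matrix.mulVec_mulVec, Units.mul_inv_cancel_left]
        rw [← Matrix.mulVec_mulVec]
        exact hU _ hv
    rcases eq_or_ne r p with hrp | hrp
    · subst hrp
      obtain ⟨z, hz, hzs, U, hUd, hU⟩ := exists_transvection (F := F) (p := r) (d := d) (by omega)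
      obtain ⟨A, B, S, hne, -, -, hSd, hS⟩ := key z hz hzs U hU
      exact absurd (SpT.eq_one_of_fix hS (c := 1) (by omega) (by omega) (by omega)) hne
    rcases hr.eq_two_or_odd' with h | hro
    · subst h
      obtain ⟨z, hz, hzs, ⟨U, hUd, hU⟩, -⟩ := S5975.exists_reflection (F := F) h2 hd
      obtain ⟨A, B, S, hne, -, -, hSd, hS⟩ := key z hz hzs U hU
      refine ⟨rfl, by_contra fun ha' => ?_⟩
      exact hne (SpT.eq_one_of_fix hS (c := 2) (by omega) (by omega) (by omega))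
    exfalso
    have hr2 : r ≠ 2 := fun h => by rw [h] at hro; exact absurd hro (by decide)
    obtain ⟨hrq, -⟩ := CfsgLib.Derange.not_dvd_card (p := p) hq hr hrp
    have hSp : r ∣ q ^ (d ^ 2) * ∏ i ∈ Finset.range d, (q ^ (2 * (i + 1)) - 1) := by
      have h1 := hΩ.trans (Subgroup.index_dvd_card ((Cfsg.Geo.tensorProductSubgroup a b e P).subgroupOf (Cfsg.spGL d F)))
      rwa [← Nat.card_congr (Equiv.ofBijective _ ⟨toSpGL_injective, toSpGL_surjective⟩),
        SympTrans.card_symplectic, Nat.card_eq_fintype_card, hq] at h1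
    obtain ⟨i, hi, hri⟩ := (Prime.dvd_finsetProd_iff hr.prime _).1
      ((hr.dvd_mul.1 hSp).resolve_left fun h => hrq (hr.dvd_of_dvd_pow h))
    have h0 := (ZMod.natCast_eq_zero_iff _ _).2 hri
    rw [Nat.cast_sub (Nat.one_le_pow _ _ (hq ▸ Fintype.card_pos)), Nat.cast_pow, Nat.cast_one, sub_eq_zero] at h0
    have hid : orderOf (q : ZMod r) ∣ 2 * (i + 1) := orderOf_dvd_iff_pow_eq_one.2 h0
    have hid' := Finset.mem_range.1 hi
    have hud : unitDim (orderOf (q : ZMod r)) ≤ 2 * d := by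
      rcases Nat.even_or_odd (orderOf (q : ZMod r)) with he | ho
      · rw [unitDim_even (Nat.not_odd_iff_even.2 he)]
        have := Nat.le_of_dvd (by omega) hid
        omega
      · rw [unitDim_odd ho]
        have := Nat.le_of_dvd (by omega) ((Nat.coprime_two_right.2 ho).dvd_of_dvd_mul_left hid)
        omega
    have hMpos : 0 < unitDim (orderOf (q : ZMod r)) :=
      unitDim_pos (orderOf_mod (p := p) hq hr hrp).1
    obtain ⟨z, hz, hzs, U, hUd, hU⟩ := SpT.exists_sample (p := p) hq hr hr2 hrp hud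
    obtain ⟨A, B, S, hne, hABr, hiso, hSd, hS⟩ := key z hz hzs U hU
    have hG₁0 : G₁ ≠ 0 := fun h => hdet.1 (by
      haveI : Nonempty (Fin a) := ⟨⟨0, by omega⟩⟩
      rw [h, Matrix.det_zero])
    have hG₂0 : G₂ ≠ 0 := fun h => hdet.2 (by
      haveI : Nonempty (Fin b) := ⟨⟨0, by omega⟩⟩
      rw [h, Matrix.det_zero])
    set Am := (A : Matrix (Fin a) (Fin a) F) with hAm
    set Bm := (B : Matrix (Fin b) (Fin b) F) with hBm
    rw [← Matrix.kroneckerMap_transpose, ← Matrix.mul_kronecker_mul, ← Matrix.mul_kronecker_mul] at hiso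
    obtain ⟨m, hm0, hAG, hBG⟩ := SpT.kron_eq hG₁0 hG₂0 hiso
    have hAB1 : (Am ^ r) ⊗ₖ (Bm ^ r) = (1 : Matrix (Fin a) (Fin a) F) ⊗ₖ (1 : Matrix (Fin b) (Fin b) F) := by
      rw [← kron_pow, hABr, Matrix.one_kronecker_one]
    obtain ⟨s, hs0, hAs, hBs⟩ := SpT.kron_eq
      (by haveI : Nonempty (Fin a) := ⟨⟨0, by omega⟩⟩; exact one_ne_zero)
      (by haveI : Nonempty (Fin b) := ⟨⟨0, by omega⟩⟩; exact one_ne_zero) hAB1
    have hms : m ^ r = s * s := by
      have h3 := isometry_pow hAG r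
      rw [hAs, Matrix.transpose_smul, Matrix.transpose_one, smul_mul_assoc, one_mul, mul_smul_comm, mul_one, smul_smul] at h3
      exact (smul_left_injective F hG₁0 h3).symm
    obtain ⟨k, hk⟩ := hro
    set l := m ^ k / s with hldef
    have hl0 : l ≠ 0 := div_ne_zero (pow_ne_zero _ hm0) hs0
    have hl2 : l * l * m = 1 := by
      rw [hldef, div_mul_div_comm, div_mul_eq_mul_div, div_eq_one_iff_eq (mul_ne_zero hs0 hs0), ← hms, hk]
      ring
    have hlr : l ^ r * s = 1 := by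
      have h3 : l ^ r * l ^ r * (s * s) = 1 := by
        rw [← hms, ← mul_pow, ← mul_pow, hl2, one_pow]
      rw [hldef, div_pow, ← pow_mul, mul_comm k r, pow_mul, hms, hk, mul_pow, ← pow_add, pow_succ, two_mul]
      field_simp
    let A' : GL (Fin a) F := ⟨l • Am, l⁻¹ • ((A⁻¹ : GL (Fin a) F) : Matrix (Fin a) (Fin a) F),
      by rw [smul_mul_assoc, mul_smul_comm, smul_smul, mul_inv_cancel₀ hl0, one_smul, hAm, Units.mul_inv],
      by rw [smul_mul_assoc, mul_smul_comm, smul_smul, inv_mul_cancel₀ hl0, one_smul, hAm, Units.inv_mul]⟩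
    let B' : GL (Fin b) F := ⟨l⁻¹ • Bm, l • ((B⁻¹ : GL (Fin b) F) : Matrix (Fin b) (Fin b) F),
      by rw [smul_mul_assoc, mul_smul_comm, smul_smul, inv_mul_cancel₀ hl0, one_smul, hBm, Units.mul_inv],
      by rw [smul_mul_assoc, mul_smul_comm, smul_smul, mul_inv_cancel₀ hl0, one_smul, hBm, Units.inv_mul]⟩
    have hA'r : (A' : Matrix (Fin a) (Fin a) F) ^ r = 1 := by
      show (l • Am) ^ r = 1
      rw [_root_.smul_pow, hAs, smul_smul, hlr, one_smul]
    have hB'r : (B' : Matrix (Fin b) (Fin b) F) ^ r = 1 := by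
      show (l⁻¹ • Bm) ^ r = 1
      rw [_root_.smul_pow, hBs, smul_smul, inv_pow, ← _root_.mul_inv, hlr, inv_one, one_smul]
    let G₁' := Matrix.GeneralLinearGroup.mkOfDetNeZero G₁ hdet.1
    let G₂' := Matrix.GeneralLinearGroup.mkOfDetNeZero G₂ hdet.2
    have hA'G : (A' : Matrix (Fin a) (Fin a) F)ᵀ * (G₁' : Matrix (Fin a) (Fin a) F) * (A' : Matrix (Fin a) (Fin a) F) = G₁' := by
      show (l • Am)ᵀ * G₁ * (l • Am) = G₁
      rw [Matrix.transpose_smul, smul_mul_assoc, mul_smul_comm, smul_mul_assoc, smul_smul, hAG, smul_smul, hl2, one_smul]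
    have hB'G : (B' : Matrix (Fin b) (Fin b) F)ᵀ * (G₂' : Matrix (Fin b) (Fin b) F) * (B' : Matrix (Fin b) (Fin b) F) = G₂' := by
      show (l⁻¹ • Bm)ᵀ * G₂ * (l⁻¹ • Bm) = G₂
      rw [Matrix.transpose_smul, smul_mul_assoc, mul_smul_comm, smul_mul_assoc, smul_smul, hBG, smul_smul,
        ← _root_.mul_inv, ← _root_.mul_inv, hl2, inv_one, one_smul]
    have hprod : (A' : Matrix (Fin a) (Fin a) F) ⊗ₖ (B' : Matrix (Fin b) (Fin b) F) = Am ⊗ₖ Bm := by
      show (l • Am) ⊗ₖ (l⁻¹ • Bm) = _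
      rw [Matrix.smul_kronecker, Matrix.kronecker_smul, smul_smul, mul_inv_cancel₀ hl0, one_smul]
    have hS' : ∀ v ∈ S, ((A' : Matrix (Fin a) (Fin a) F) ⊗ₖ (B' : Matrix (Fin b) (Fin b) F)) *ᵥ v = v := by
      rw [hprod]; exact hS
    have hkA := SpT.finrank_fix_le (A' : Matrix (Fin a) (Fin a) F)
    have hkB := SpT.finrank_fix_le (B' : Matrix (Fin b) (Fin b) F)
    set M := unitDim (orderOf (q : ZMod r))
    by_cases hA1 : (A' : Matrix (Fin a) (Fin a) F) = 1
    · have hB1 : (B' : Matrix (Fin b) (Fin b) F) ≠ 1 := fun h => hne (by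
        rw [← hprod, hA1, h, Matrix.one_kronecker_one])
      have h3 := SpT.moved_ge (p := p) hq hr hr2 hrp hB'G hB'r hB1
      have h4 := SpT.finrank_both (A' : Matrix (Fin a) (Fin a) F) (B' : Matrix (Fin b) (Fin b) F) S
        (fun v _ => by rw [hA1, Matrix.one_kronecker_one, Matrix.one_mulVec])
        (fun v hv => by have := hS' v hv; rwa [hA1] at this)
      have h5 := Nat.mul_le_mul hkA (le_refl (Module.finrank F (SpT.fix (B' : Matrix (Fin b) (Fin b) F))))
      have h6 : a * (Module.finrank F (SpT.fix (B' : Matrix (Fin b) (Fin b) F)) + M) ≤ a * b := Nat.mul_le_mul_left a h3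
      rw [Nat.mul_add] at h6
      have h7 : 2 * M ≤ a * M := Nat.mul_le_mul_right M ha2
      omega
    · have h3 := SpT.moved_ge (p := p) hq hr hr2 hrp hA'G hA'r hA1
      have h4 := SpT.fix_bound (p := p) hr hr2 hrp hA'G hA'r (B' : Matrix (Fin b) (Fin b) F) hB'r S hS'
      have h5 := Nat.mul_le_mul (le_refl (Module.finrank F (SpT.fix (A' : Matrix (Fin a) (Fin a) F)))) hkB
      have h6 : (Module.finrank F (SpT.fix (A' : Matrix (Fin a) (Fin a) F)) + M) * b ≤ a * b := Nat.mul_le_mul_right b h3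
      rw [Nat.add_mul] at h6
      have h7 : M * 3 ≤ M * b := Nat.mul_le_mul_left M hb
      omega
  · rintro ⟨rfl, rfl⟩ x hx ⟨z, hz⟩ -
    rw [Units.val_pow_eq_pow_val, sq] at hz
    have hz2 : z * z = 1 := by
      obtain ⟨v, hv⟩ : ∃ v : Fin d ⊕ Fin d → F, v ≠ 0 := exists_ne 0
      obtain ⟨w, hw⟩ : ∃ w, Cfsg.sympForm d F v w ≠ 0 := by
        by_contra hc'
        push Not at hc'
        exact hv (eq_zero_of_f v hc')
      have hxp : ∀ u u', Cfsg.sympForm d F ((x : Matrix (Fin d ⊕ Fin d) (Fin d ⊕ Fin d) F) *ᵥ u) ((x : Matrix (Fin d ⊕ Fin d) (Fin d ⊕ Fin d) F) *ᵥ u') = Cfsg.sympForm d F u u' := hx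
      have h1 := (hxp ((x : Matrix (Fin d ⊕ Fin d) (Fin d ⊕ Fin d) F) *ᵥ v) ((x : Matrix (Fin d ⊕ Fin d) (Fin d ⊕ Fin d) F) *ᵥ w)).trans (hxp v w)
      rw [Matrix.mulVec_mulVec, Matrix.mulVec_mulVec, hz, Matrix.smul_mulVec, Matrix.smul_mulVec, Matrix.one_mulVec,
        Matrix.one_mulVec, f_smul_left, f_smul_right, ← mul_assoc] at h1
      exact mul_eq_right₀ hw |>.1 h1
    refine fixed_two h2 hc hG ?_ ?_ ?_ hdet.1 hdet.2 (by omega) x hx hz2 hz
    · exact fun s t => hf₁.skew _ _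
    · exact fun s => hf₁.alternating _
    · exact Matrix.ext fun s t => hf₂.symm _ _

end Cfsg.Agent.S5980
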