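import Cfsg.Statements.S5981
import Cfsg.Agent.Lib.Derange.LinearGroups
import Cfsg.Agent.Lib.Derange.OrthExist
import Cfsg.Agent.Lib.Derange.EvenQSymp
import Cfsg.Agent.Lib.Derange.Count
import Cfsg.Agent.Lib.Derange.Window
import Cfsg.Agent.Lib.Derange.InvolutionConj
import Cfsg.Agent.Lib.Classical.DiscClass
import Cfsg.Agent.Lib.Classical.OddSimilar
import Cfsg.Agent.Lib.Classical.OrthOrderStd

set_option autoImplicit false
set_option linter.style.haveILetI false
set_option linter.unusedSectionVars false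
open scoped MatrixGroups
open Cfsg

namespace Cfsg.Agent.S5981

open Module Matrix Polynomial CfsgLib.Derange CfsgLib.Classical CfsgLib.Classical.OrthModels CfsgLib.Orth
open CfsgLib.Classical.OrthPrimeReal CfsgLib.Classical.OrthPrimeFactors CfsgLib.Classical.OrthPrimeCount

universe u

variable {F : Type u} [Field F] [Fintype F] {p : ℕ} [hp : Fact p.Prime] [CharP F p] {n : ℕ}
  {R : QuadraticForm F (Fin n → F)}

/-- The Gram matrix. -/
noncomputable def gram (R : QuadraticForm F (Fin n → F)) : Matrix (Fin n) (Fin n) F :=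
  LinearMap.toMatrix₂' F (QuadraticMap.polarBilin R)

theorem gram_symm : (gram R)ᵀ = gram R := by
  ext i j
  simp only [gram, Matrix.transpose_apply, LinearMap.toMatrix₂'_apply, QuadraticMap.polarBilin_apply_apply]
  exact QuadraticMap.polar_comm _ _ _

theorem gram_det (hB : Nondeg R) : (gram R).det ≠ 0 := by
  have h := LinearMap.separatingLeft_iff_det_ne_zero (Pi.basisFun F (Fin n)) |>.1 (bilin_nondeg hB).1
  exact h

theorem gram_compl (R : QuadraticForm F (Fin n → F)) (g : Matrix (Fin n) (Fin n) F) :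
    LinearMap.toMatrix₂' F ((QuadraticMap.polarBilin R).compl₁₂ (Matrix.toLin' g) (Matrix.toLin' g)) =
      gᵀ * gram R * g := by
  rw [LinearMap.toMatrix₂'_compl₁₂, LinearMap.toMatrix'_toLin']
  rfl

theorem mem_sim_iff (h2 : (2 : F) ≠ 0) (g : GL (Fin n) F) :
    g ∈ Cfsg.Geo.quadSimilarityGroup ⇑R ↔
      ∃ c : F, c ≠ 0 ∧ (g : Matrix (Fin n) (Fin n) F)ᵀ * gram R * (g : Matrix (Fin n) (Fin n) F) = c • gram R := by
  constructor
  · rintro ⟨c, hc⟩
    refine ⟨c, c.ne_zero, ?_⟩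
    have e : (QuadraticMap.polarBilin R).compl₁₂ (Matrix.toLin' (g : Matrix (Fin n) (Fin n) F))
        (Matrix.toLin' (g : Matrix (Fin n) (Fin n) F)) = (c : F) • QuadraticMap.polarBilin R := by
      refine LinearMap.ext₂ fun u v => ?_
      simp only [LinearMap.compl₁₂_apply, LinearMap.smul_apply, QuadraticMap.polarBilin_apply_apply,
        Matrix.toLin'_apply, smul_eq_mul, QuadraticMap.polar, ← Matrix.mulVec_add, hc]
      ring
    rw [← gram_compl, e, map_smul]
    rfl
  · rintro ⟨c, hc0, hc⟩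
    refine ⟨Units.mk0 c hc0, fun v => ?_⟩
    have e : (QuadraticMap.polarBilin R).compl₁₂ (Matrix.toLin' (g : Matrix (Fin n) (Fin n) F))
        (Matrix.toLin' (g : Matrix (Fin n) (Fin n) F)) = c • QuadraticMap.polarBilin R := by
      apply (LinearMap.toMatrix₂' F).injective
      rw [gram_compl, map_smul, hc]
      rfl
    have h1 := LinearMap.congr_fun₂ e v v
    simp only [LinearMap.compl₁₂_apply, LinearMap.smul_apply, QuadraticMap.polarBilin_apply_apply,
      Matrix.toLin'_apply, QuadraticMap.polar_self, smul_eq_mul, nsmul_eq_mul, Nat.cast_ofNat] at h1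
    rw [Units.val_mk0]
    exact mul_left_cancel₀ h2 (by linear_combination h1)

theorem exists_form (h2 : (2 : F) ≠ 0) (H : Matrix (Fin n) (Fin n) F) (hs : Hᵀ = H) (hd : H.det ≠ 0) :
    ∃ S : QuadraticForm F (Fin n → F), gram S = H ∧ Nondeg S := by
  let Bf : LinearMap.BilinForm F (Fin n → F) := Matrix.toLinearMap₂' F H
  let S : QuadraticForm F (Fin n → F) := LinearMap.BilinMap.toQuadraticMap ((2 : F)⁻¹ • Bf)
  have hS : gram S = H := by
    ext i j
    have he : ∀ a b : Fin n, Bf (Pi.single a 1) (Pi.single b 1) = H a b := fun a b => by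
      show Matrix.toLinearMap₂' F H (Pi.single a 1) (Pi.single b 1) = H a b
      simp [Matrix.toLinearMap₂'_apply']
    simp only [gram, S, LinearMap.toMatrix₂'_apply, QuadraticMap.polarBilin_apply_apply,
      LinearMap.BilinMap.polar_toQuadraticMap, LinearMap.smul_apply, he, smul_eq_mul]
    have hji : H j i = H i j := congrFun (congrFun hs i) j
    simp only [hji]
    field_simp
    ring
  refine ⟨S, hS, fun x hx => ?_⟩
  exact (LinearMap.separatingLeft_iff_det_ne_zero (Pi.basisFun F (Fin n))).2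
    (show (gram S).det ≠ 0 by rw [hS]; exact hd) x hx

theorem exists_congr_of_disc (h2 : (2 : F) ≠ 0) (hB : Nondeg R) (H : Matrix (Fin n) (Fin n) F) (hs : Hᵀ = H)
    (hd : H.det ≠ 0) (hsq : IsSquare ((gram R).det * H.det)) :
    ∃ P : GL (Fin n) F, (P : Matrix (Fin n) (Fin n) F)ᵀ * H * (P : Matrix (Fin n) (Fin n) F) = gram R := by
  obtain ⟨S, hS, hSn⟩ := exists_form h2 H hs hd
  obtain ⟨φ, hφ⟩ := (DiscClass.exists_isometry_iff h2 R S (bilin_nondeg hB) (bilin_nondeg hSn)).2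
    (by rw [← hS] at hsq; exact hsq)
  have h12 : LinearMap.toMatrix' (φ : (Fin n → F) →ₗ[F] (Fin n → F)) *
      LinearMap.toMatrix' (φ.symm : (Fin n → F) →ₗ[F] (Fin n → F)) = 1 := by
    rw [← LinearMap.toMatrix'_comp, LinearEquiv.comp_symm]; exact LinearMap.toMatrix'_id
  refine ⟨⟨_, _, h12, mul_eq_one_comm.1 h12⟩, ?_⟩
  have e : (QuadraticMap.polarBilin S).compl₁₂ (φ : (Fin n → F) →ₗ[F] (Fin n → F))
      (φ : (Fin n → F) →ₗ[F] (Fin n → F)) = QuadraticMap.polarBilin R := by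
    refine LinearMap.ext₂ fun u v => ?_
    simp only [LinearMap.compl₁₂_apply, QuadraticMap.polarBilin_apply_apply, LinearEquiv.coe_coe, QuadraticMap.polar,
      ← map_add, hφ]
  have h := congrArg (LinearMap.toMatrix₂' F) e
  rw [LinearMap.toMatrix₂'_compl₁₂] at h
  rw [← hS]
  exact h

theorem exists_congr_odd (h2 : (2 : F) ≠ 0) (hn : Odd n) (hB : Nondeg R) (H : Matrix (Fin n) (Fin n) F)
    (hs : Hᵀ = H) (hd : H.det ≠ 0) :
    ∃ (P : GL (Fin n) F) (l : F), l ≠ 0 ∧
      (P : Matrix (Fin n) (Fin n) F)ᵀ * H * (P : Matrix (Fin n) (Fin n) F) = l • gram R := by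
  obtain ⟨S, hS, hSn⟩ := exists_form h2 H hs hd
  obtain ⟨φ, l, hl, hφ⟩ := OddSimilar.exists_similar h2 hn R S (bilin_nondeg hB) (bilin_nondeg hSn)
  have h12 : LinearMap.toMatrix' (φ : (Fin n → F) →ₗ[F] (Fin n → F)) *
      LinearMap.toMatrix' (φ.symm : (Fin n → F) →ₗ[F] (Fin n → F)) = 1 := by
    rw [← LinearMap.toMatrix'_comp, LinearEquiv.comp_symm]; exact LinearMap.toMatrix'_id
  refine ⟨⟨_, _, h12, mul_eq_one_comm.1 h12⟩, l, hl, ?_⟩
  have e : (QuadraticMap.polarBilin S).compl₁₂ (φ : (Fin n → F) →ₗ[F] (Fin n → F))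
      (φ : (Fin n → F) →ₗ[F] (Fin n → F)) = l • QuadraticMap.polarBilin R := by
    refine LinearMap.ext₂ fun u v => ?_
    simp only [LinearMap.compl₁₂_apply, LinearMap.smul_apply, QuadraticMap.polarBilin_apply_apply, LinearEquiv.coe_coe,
      QuadraticMap.polar, ← map_add, hφ, smul_eq_mul]
    ring
  have h := congrArg (LinearMap.toMatrix₂' F) e
  rw [LinearMap.toMatrix₂'_compl₁₂, map_smul] at h
  rw [← hS]
  exact h

/-- An element with an invariant form congruent to a multiple of the given one. -/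
theorem sim_conj (h2 : (2 : F) ≠ 0) {x B P : GL (Fin n) F} {M H : Matrix (Fin n) (Fin n) F} {c l : F}
    (hxB : (x : Matrix (Fin n) (Fin n) F) * (B : Matrix (Fin n) (Fin n) F) = (B : Matrix (Fin n) (Fin n) F) * M)
    (hM : Mᵀ * H * M = c • H) (hc : c ≠ 0) (hl : l ≠ 0)
    (hP : (P : Matrix (Fin n) (Fin n) F)ᵀ * H * (P : Matrix (Fin n) (Fin n) F) = l • gram R) :
    (B * P)⁻¹ * x * (B * P) ∈ Cfsg.Geo.quadSimilarityGroup ⇑R := by
  rw [mem_sim_iff h2]
  refine ⟨c, hc, ?_⟩
  set Pm := (P : Matrix (Fin n) (Fin n) F)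
  set Pi' := ((P⁻¹ : GL (Fin n) F) : Matrix (Fin n) (Fin n) F)
  have hN : (((B * P)⁻¹ * x * (B * P) : GL (Fin n) F) : Matrix (Fin n) (Fin n) F) = Pi' * M * Pm := by
    rw [_root_.mul_inv_rev, Units.val_mul, Units.val_mul, Units.val_mul]
    simp only [Units.val_mul, Matrix.mul_assoc]
    rw [← Matrix.mul_assoc (x : Matrix (Fin n) (Fin n) F), hxB, Matrix.mul_assoc, Units.inv_mul_cancel_left]
  have hPP : Pm * Pi' = 1 := Units.mul_inv P
  rw [hN]
  refine smul_right_injective _ hl ?_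
  show l • ((Pi' * M * Pm)ᵀ * gram R * (Pi' * M * Pm)) = l • (c • gram R)
  calc l • ((Pi' * M * Pm)ᵀ * gram R * (Pi' * M * Pm))
      = (Pi' * M * Pm)ᵀ * (Pmᵀ * H * Pm) * (Pi' * M * Pm) := by rw [hP, Matrix.mul_smul, Matrix.smul_mul]
    _ = Pmᵀ * (Mᵀ * ((Pm * Pi')ᵀ * H * (Pm * Pi')) * M) * Pm := by
        simp only [Matrix.transpose_mul, Matrix.mul_assoc]
    _ = l • (c • gram R) := by
        rw [hPP, Matrix.transpose_one, Matrix.one_mul, Matrix.mul_one, hM, Matrix.mul_smul, Matrix.smul_mul, hP,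
          smul_comm]

theorem two_ne_zero_of_odd {q : ℕ} (hq : Fintype.card F = q) (hodd : Odd q) : (2 : F) ≠ 0 := by
  refine Ring.two_ne_zero fun h => ?_
  have := FiniteField.even_card_iff_char_two.mp h
  rw [hq] at this
  exact Nat.not_even_iff_odd.2 hodd (Nat.even_iff.2 this)

/-- Diagonal elements in the similarity group have symmetric spectrum. -/
theorem spectrum_symm [DecidableEq F] (h2 : (2 : F) ≠ 0) (hB : Nondeg R) {g x : GL (Fin n) F} {d : Fin n → F}
    (hx : (x : Matrix (Fin n) (Fin n) F) = Matrix.diagonal d)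
    (hg : g⁻¹ * x * g ∈ Cfsg.Geo.quadSimilarityGroup ⇑R) :
    ∃ c : F, c ≠ 0 ∧
      ∀ t : F, (Finset.univ.filter fun k => d k = t).card = (Finset.univ.filter fun k => c / d k = t).card := by
  obtain ⟨c, hc, hN⟩ := (mem_sim_iff h2 _).1 hg
  have hd0 : ∀ k, d k ≠ 0 := by
    intro k h0
    have h1 := (Matrix.isUnit_iff_isUnit_det _).1 x.isUnit
    rw [hx, Matrix.det_diagonal, Finset.prod_eq_zero (Finset.mem_univ k) h0] at h1
    exact not_isUnit_zero h1
  refine ⟨c, hc, fun t => Lin.card_eq_of_map_eq (Lin.map_eq_of_charpoly ?_) t⟩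
  set N := ((g⁻¹ * x * g : GL (Fin n) F) : Matrix (Fin n) (Fin n) F) with hNdef
  set gm := (g : Matrix (Fin n) (Fin n) F)
  set gi := ((g⁻¹ : GL (Fin n) F) : Matrix (Fin n) (Fin n) F)
  set N' := gi * Matrix.diagonal (fun k => c / d k) * gm
  have hNeq : N = gi * Matrix.diagonal d * gm := by rw [hNdef, Units.val_mul, Units.val_mul, hx]
  have hNN : N * N' = c • 1 := by
    calc N * N' = gi * (Matrix.diagonal d * (gm * gi) * Matrix.diagonal (fun k => c / d k)) * gm := by
          simp only [hNeq, N', Matrix.mul_assoc]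
      _ = c • 1 := by
          rw [show gm * gi = 1 from Units.mul_inv g, Matrix.mul_one, Matrix.diagonal_mul_diagonal,
            show (fun k => d k * (c / d k)) = fun _ => c from funext fun k => mul_div_cancel₀ c (hd0 k),
            ← Matrix.smul_one_eq_diagonal, Matrix.mul_smul, Matrix.smul_mul, Matrix.mul_one, Units.inv_mul]
  have h1 : Nᵀ * gram R = gram R * N' := by
    refine smul_right_injective _ hc ?_
    show c • (Nᵀ * gram R) = c • (gram R * N')
    calc c • (Nᵀ * gram R) = Nᵀ * gram R * (N * N') := by rw [hNN, Matrix.mul_smul, Matrix.mul_one]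
      _ = c • (gram R * N') := by rw [← Matrix.mul_assoc (Nᵀ * gram R), hN, Matrix.smul_mul]
  obtain ⟨G, hG⟩ : IsUnit (gram R) := (Matrix.isUnit_iff_isUnit_det _).2 (isUnit_iff_ne_zero.2 (gram_det hB))
  have h3 : Nᵀ = (G : Matrix (Fin n) (Fin n) F) * N' * ((G⁻¹ : GL (Fin n) F) : Matrix (Fin n) (Fin n) F) := by
    rw [hG, ← h1, ← hG, Matrix.mul_assoc, Units.mul_inv, Matrix.mul_one]
  have h4 := congrArg Matrix.charpoly h3
  rw [Matrix.charpoly_transpose, Matrix.coe_units_inv, Matrix.charpoly_units_conj, hNeq] at h4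
  simp only [N', gi, gm, Matrix.coe_units_inv, Matrix.charpoly_units_conj'] at h4
  exact h4

include hp in
theorem case_transvection (h2 : (2 : F) ≠ 0) (hn : 3 ≤ n) (hB : Nondeg R)
    (h : ∀ x ∈ Cfsg.Geo.specialLinear (Fin n) F,
      (∃ z : F, ((x ^ p : GL (Fin n) F) : Matrix (Fin n) (Fin n) F) = z • (1 : Matrix (Fin n) (Fin n) F)) →
      (∀ z : F, (x : Matrix (Fin n) (Fin n) F) ≠ z • (1 : Matrix (Fin n) (Fin n) F)) →
      ∃ g ∈ Cfsg.Geo.specialLinear (Fin n) F, g⁻¹ * x * g ∈ Cfsg.Geo.quadSimilarityGroup ⇑R) : False := by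
  classical
  let i₀ : Fin n := ⟨0, by omega⟩
  let i₁ : Fin n := ⟨1, by omega⟩
  let i₂ : Fin n := ⟨2, by omega⟩
  have h01 : i₀ ≠ i₁ := by simp [i₀, i₁]
  haveI : Nonempty (Fin n) := ⟨i₀⟩
  haveI : CharP (Matrix (Fin n) (Fin n) F) p :=
    charP_of_injective_algebraMap (algebraMap F (Matrix (Fin n) (Fin n) F)).injective p
  let N : Matrix (Fin n) (Fin n) F := Matrix.single i₀ i₁ 1
  have hN2 : N ^ 2 = 0 := by rw [sq]; simp [N, Matrix.single_mul_single_of_ne, Ne.symm h01]
  obtain ⟨g, x, hx, hg⟩ := Lin.conj_of_all h (Matrix.transvection i₀ i₁ 1) (Matrix.det_transvection_of_ne _ _ h01 _)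
    (z := 1) (by
      rw [one_smul, show Matrix.transvection i₀ i₁ (1 : F) = 1 + N from rfl,
        add_pow_char_of_commute _ (Commute.one_left _), one_pow, pow_eq_zero_of_le hp.out.two_le hN2, add_zero])
    (fun c hc => by
      have := congrFun (congrFun hc i₀) i₁
      simp [Matrix.transvection, Matrix.one_apply_ne h01] at this)
  obtain ⟨c, hc⟩ := hg
  set gm := (g : Matrix (Fin n) (Fin n) F)
  set gi := ((g⁻¹ : GL (Fin n) F) : Matrix (Fin n) (Fin n) F)
  have hgg : gm * gi = 1 := Units.mul_inv g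
  let Q' : QuadraticForm F (Fin n → F) := R.comp (Matrix.toLin' gi)
  have hQ'B : Nondeg Q' := by
    intro u hu
    have : gi *ᵥ u = 0 := hB _ fun v => by
      have := hu (gm *ᵥ v)
      simp only [QuadraticMap.polar, Q', QuadraticMap.comp_apply, map_add, Matrix.toLin'_apply] at this
      rwa [Matrix.mulVec_mulVec, show gi * gm = 1 from Units.inv_mul g, Matrix.one_mulVec] at this
    calc u = gm *ᵥ (gi *ᵥ u) := by rw [Matrix.mulVec_mulVec, hgg, Matrix.one_mulVec]
      _ = 0 := by rw [this, Matrix.mulVec_zero]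
  have hinv : ∀ v, Q' (v + v i₁ • Pi.single i₀ 1) = (c : F) * Q' v := by
    intro v
    have h1 := hc (gi *ᵥ v)
    rw [Units.val_mul, Units.val_mul, hx, Matrix.mulVec_mulVec, Matrix.mul_assoc, hgg, Matrix.mul_one,
      ← Matrix.mulVec_mulVec] at h1
    have h3 : Matrix.transvection i₀ i₁ (1 : F) *ᵥ v = v + v i₁ • Pi.single i₀ 1 := by
      ext k
      simp only [Matrix.transvection, Matrix.add_mulVec, Matrix.one_mulVec, Pi.add_apply]
      congr 1
      rcases eq_or_ne k i₀ with rfl | hk <;>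
        simp [mulVec, dotProduct, Matrix.single_apply, *, eq_comm]
    rw [h3] at h1
    exact h1
  set w : Fin n → F := Pi.single i₀ 1 with hw
  by_cases hc1 : (c : F) = 1
  · have hwn : w i₁ = 0 := by simp [hw, Ne.symm h01]
    have key : ∀ v, v i₁ * QuadraticMap.polar ⇑Q' v w + v i₁ * v i₁ * Q' w = 0 := by
      intro v
      have h1 := hinv v
      rw [hc1, one_mul, QuadraticMap.map_add (⇑Q') v (v i₁ • w), QuadraticMap.map_smul, QuadraticMap.polar_smul_right, smul_eq_mul,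
        smul_eq_mul] at h1
      linear_combination h1
    have hQw : Q' w = 0 := by
      have h1 := key (Pi.single i₁ 1)
      have h3 := key (Pi.single i₁ 1 + w)
      simp only [Pi.single_eq_same, one_mul, Pi.add_apply, hwn, add_zero, QuadraticMap.polar_add_left,
        QuadraticMap.polar_self, nsmul_eq_mul, Nat.cast_ofNat] at h1 h3
      exact (mul_eq_zero.1 (show 2 * Q' w = 0 by linear_combination h3 - h1)).resolve_left h2
    have hpol : ∀ v, v i₁ ≠ 0 → QuadraticMap.polar ⇑Q' v w = 0 := fun v hv => by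
      have h1 := key v
      rw [hQw, mul_zero, add_zero] at h1
      exact (mul_eq_zero.1 h1).resolve_left hv
    have hw0 : w = 0 := hQ'B w fun v => by
      rw [QuadraticMap.polar_comm]
      by_cases hv : v i₁ = 0
      · have h1 := hpol (v + Pi.single i₁ 1) (by simp [hv])
        rw [QuadraticMap.polar_add_left, hpol (Pi.single i₁ 1) (by simp), add_zero] at h1
        exact h1
      · exact hpol v hv
    simpa [hw] using congrFun hw0 i₀
  · have hz : ∀ v : Fin n → F, v i₁ = 0 → Q' v = 0 := by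
      intro v hv
      have h1 := hinv v
      rw [hv, zero_smul, add_zero] at h1
      exact (mul_eq_zero.1 (show ((c : F) - 1) * Q' v = 0 by linear_combination -h1)).resolve_left (sub_ne_zero.2 hc1)
    have hp0 : ∀ u v : Fin n → F, u i₁ = 0 → v i₁ = 0 → QuadraticMap.polar ⇑Q' u v = 0 := by
      intro u v hu hv
      rw [QuadraticMap.polar, hz u hu, hz v hv, hz (u + v) (by simp [hu, hv]), sub_zero, sub_zero]
    set f := QuadraticMap.polarBilin Q' with hf
    set a := f (Pi.single i₀ 1) (Pi.single i₁ 1)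
    set b := f (Pi.single i₂ 1) (Pi.single i₁ 1)
    have h12 : i₁ ≠ i₂ := by simp [i₁, i₂]
    have h02 : i₀ ≠ i₂ := by simp [i₀, i₂]
    set u : Fin n → F := b • Pi.single i₀ 1 - a • Pi.single i₂ 1 with hu
    have hu1 : u i₁ = 0 := by simp [hu, Ne.symm h01, h12]
    have hu0 : u = 0 := hQ'B u fun v => by
      have hsplit : v = (v - v i₁ • Pi.single i₁ 1) + v i₁ • Pi.single i₁ 1 := (sub_add_cancel _ _).symm
      rw [hsplit, QuadraticMap.polar_add_right, hp0 u _ hu1 (by simp), zero_add, QuadraticMap.polar_smul_right]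
      have : f u (Pi.single i₁ 1) = 0 := by
        rw [hu, map_sub, map_smul, map_smul, LinearMap.sub_apply, LinearMap.smul_apply, LinearMap.smul_apply,
          smul_eq_mul, smul_eq_mul]
        ring
      rw [hf, QuadraticMap.polarBilin_apply_apply] at this
      rw [this, smul_zero]
    have hb : b = 0 := by simpa [hu, h02] using congrFun hu0 i₀
    have hw0 : Pi.single i₂ (1 : F) = (0 : Fin n → F) := hQ'B _ fun v => by
      have hsplit : v = (v - v i₁ • Pi.single i₁ 1) + v i₁ • Pi.single i₁ 1 := (sub_add_cancel _ _).symm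
      rw [hsplit, QuadraticMap.polar_add_right, hp0 _ _ (by simp [h12]) (by simp), zero_add,
        QuadraticMap.polar_smul_right]
      have : QuadraticMap.polar ⇑Q' (Pi.single i₂ 1) (Pi.single i₁ 1) = 0 := hb
      rw [this, smul_zero]
    simpa using congrFun hw0 i₂

theorem isometry_of_pow {q r : ℕ} (hq : Fintype.card F = q) (h2 : (2 : F) ≠ 0) (hr : r.Prime) (hrq : ¬ r ∣ q - 1)
    (hB : Nondeg R) (hn : 0 < n) {N : GL (Fin n) F} (hN : (N : Matrix (Fin n) (Fin n) F) ^ r = 1)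
    (hmem : N ∈ Cfsg.Geo.quadSimilarityGroup ⇑R) :
    Real r (⇑R) (N : Matrix (Fin n) (Fin n) F).charpoly := by
  obtain ⟨c, hc⟩ := hmem
  set M := (N : Matrix (Fin n) (Fin n) F)
  have hck : ∀ k v, R ((M ^ k) *ᵥ v) = (c : F) ^ k * R v := by
    intro k
    induction k with
    | zero => intro v; simp
    | succ k ih => intro v; rw [pow_succ', ← Matrix.mulVec_mulVec, hc, ih, pow_succ]; ring
  obtain ⟨v, hv⟩ : ∃ v, R v ≠ 0 := by
    by_contra! h0
    have := hB (Pi.single ⟨0, hn⟩ 1) fun y => by simp [QuadraticMap.polar, h0]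
    simpa using congrFun this ⟨0, hn⟩
  have hcr : (c : F) ^ r = 1 := by
    have h1 := hck r v
    rw [hN, Matrix.one_mulVec] at h1
    exact (mul_left_eq_self₀.1 h1.symm).resolve_right hv
  have hc1 : (c : F) = 1 := by
    have hg : (c : F) ^ Nat.gcd r (q - 1) = 1 :=
      pow_gcd_eq_one.2 ⟨hcr, hq ▸ FiniteField.pow_card_sub_one_eq_one _ c.ne_zero⟩
    rwa [(hr.coprime_iff_not_dvd.2 hrq).gcd_eq_one, pow_one] at hg
  refine ⟨Matrix.toLin' M, fun v => ?_, ?_, Matrix.charpoly_toLin' M⟩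
  · rw [Matrix.toLin'_apply, hc, hc1, one_mul]
  · rw [← CfsgLib.Derange.toLin'_pow, hN, Matrix.toLin'_one]
    rfl

include hp in
theorem case_odd {q r : ℕ} (hq : Fintype.card F = q) (h2 : (2 : F) ≠ 0) (hr : r.Prime) (hr2 : r ≠ 2) (hrp : r ≠ p)
    (hB : Nondeg R) (hi : Odd (orderOf (q : ZMod r))) (h2i : 2 ≤ orderOf (q : ZMod r))
    (hin : orderOf (q : ZMod r) ≤ n)
    (h : ∀ x ∈ Cfsg.Geo.specialLinear (Fin n) F,
      (∃ z : F, ((x ^ r : GL (Fin n) F) : Matrix (Fin n) (Fin n) F) = z • (1 : Matrix (Fin n) (Fin n) F)) →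
      (∀ z : F, (x : Matrix (Fin n) (Fin n) F) ≠ z • (1 : Matrix (Fin n) (Fin n) F)) →
      ∃ g ∈ Cfsg.Geo.specialLinear (Fin n) F, g⁻¹ * x * g ∈ Cfsg.Geo.quadSimilarityGroup ⇑R) : False := by
  classical
  set i := orderOf (q : ZMod r) with hidef
  obtain ⟨X, P, hdet, hXr, hns, hPi, hPm, hPd, hcp⟩ := Lin.exists_block_element (p := p) hq hr hrp h2i hin
  obtain ⟨g, x, hx, hg⟩ := Lin.conj_of_all h X hdet (z := 1) (by rw [hXr, one_smul]) hns
  have hrq : ¬ r ∣ q - 1 := fun h' => by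
    have := (CfsgLib.Derange.orderOf_mod (p := p) hq hr hrp).2.2.2 h'
    omega
  have hxr : (x : Matrix (Fin n) (Fin n) F) ^ r = 1 := by rw [hx, hXr]
  have hreal := isometry_of_pow hq h2 hr hrq hB (by omega) (N := g⁻¹ * x * g) (by
    rw [Units.val_mul, Units.val_mul, Units.conj_pow', hxr, Matrix.mul_one, Units.inv_mul]) hg
  rw [Units.val_mul, Units.val_mul, Matrix.coe_units_inv, Matrix.charpoly_units_conj', hx, hcp] at hreal
  obtain ⟨t, D, Xc⟩ := exists_ctx (p := p) hq hr hr2 hrp hidef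
  have hT := isT_of_real Xc.facts hr.pos R hB hreal
  rw [Fintype.card_fin] at hT
  obtain ⟨e, K, hs, hd⟩ := exists_shaped Xc.facts hT
  obtain ⟨G, hG, hfree, hGd⟩ := hs
  have hP1 : P.eval 1 ≠ 0 := by
    intro h1
    have := natDegree_eq_of_degree_eq (degree_eq_degree_of_associated
      ((irreducible_X_sub_C (1 : F)).associated_of_dvd hPi (dvd_iff_isRoot.2 h1)))
    rw [natDegree_X_sub_C, hPd] at this
    omega
  have hG1 : G.eval 1 ≠ 0 := hfree.eval_one Xc.facts
  have hroot : ∀ (k : ℕ) (f : F[X]), f.eval 1 ≠ 0 → ((Polynomial.X - 1 : F[X]) ^ k * f).rootMultiplicity 1 = k := by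
    intro k f hf
    have hf0 : f ≠ 0 := fun h0 => hf (by simp [h0])
    rw [show (Polynomial.X - 1 : F[X]) = Polynomial.X - Polynomial.C 1 by simp,
      rootMultiplicity_mul (mul_ne_zero (pow_ne_zero _ (X_sub_C_ne_zero _)) hf0), rootMultiplicity_X_sub_C_pow,
      rootMultiplicity_eq_zero hf, add_zero]
  have he := congrArg (Polynomial.rootMultiplicity 1) hG
  rw [hroot _ _ hP1, hroot _ _ hG1] at he
  rw [unitDim_odd hi] at hd
  obtain ⟨j, hj⟩ := hi
  rcases K with _ | K
  · omega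
  · have : n - i + i = n := by omega
    nlinarith [Nat.zero_le (i * K)]

theorem qFac_even (q m : ℕ) : qFac q (2 * m) = (∏ j ∈ Finset.range m, (q ^ (2 * (j + 1)) - 1)) *
    ∏ j ∈ Finset.range m, (q ^ (2 * j + 1) - 1) := by
  induction m with
  | zero => simp [qFac]
  | succ m ih =>
    rw [Finset.prod_range_succ, Finset.prod_range_succ, qFac, show 2 * (m + 1) = 2 * m + 1 + 1 by ring,
      Finset.prod_range_succ, Finset.prod_range_succ, ← qFac, ih]
    ring

theorem card_gl (q : ℕ) (hq : Fintype.card F = q) :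
    Nat.card (GL (Fin n) F) = q ^ (∑ j ∈ Finset.range n, j) * qFac q n := by
  have h := frames_eq q (le_refl n)
  rw [Nat.sub_self, show qFac q 0 = 1 from rfl, mul_one] at h
  rw [Matrix.card_GL_field, hq, h]

theorem index_bound {r : ℕ} (h2 : (2 : F) ≠ 0) (hB : Nondeg R)
    (hΩ : r ∣ (Cfsg.Geo.quadSimilarityGroup ⇑R).relIndex (Cfsg.Geo.specialLinear (Fin n) F)) :
    r * Nat.card (Grp R) ∣ 2 * Nat.card (GL (Fin n) F) := by
  classical
  set O := Cfsg.isometryGroup F ⇑R
  set SL := Cfsg.Geo.specialLinear (Fin n) F with hSL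
  set S := Cfsg.Geo.quadSimilarityGroup ⇑R
  have hdet : ∀ g ∈ O, (g : Matrix (Fin n) (Fin n) F).det = 1 ∨ (g : Matrix (Fin n) (Fin n) F).det = -1 := by
    intro g hg
    have hmem : g ∈ S := ⟨1, fun v => by rw [Units.val_one, one_mul]; exact hg v v⟩
    obtain ⟨c, -, hc⟩ := (mem_sim_iff h2 g).1 hmem
    have e : (QuadraticMap.polarBilin R).compl₁₂ (Matrix.toLin' (g : Matrix (Fin n) (Fin n) F))
        (Matrix.toLin' (g : Matrix (Fin n) (Fin n) F)) = QuadraticMap.polarBilin R := by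
      refine LinearMap.ext₂ fun u v => ?_
      have hq : ∀ w, R ((g : Matrix (Fin n) (Fin n) F) *ᵥ w) = R w := fun w => hg w w
      simp only [LinearMap.compl₁₂_apply, QuadraticMap.polarBilin_apply_apply, Matrix.toLin'_apply, QuadraticMap.polar,
        ← Matrix.mulVec_add, hq]
    have h1 := congrArg (fun B => (LinearMap.toMatrix₂' F B).det) e
    simp only [gram_compl, Matrix.det_mul, Matrix.det_transpose] at h1
    rw [show LinearMap.toMatrix₂' F (QuadraticMap.polarBilin R) = gram R from rfl] at h1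
    exact mul_self_eq_one_iff.1 (mul_right_cancel₀ (gram_det hB)
      (show _ * (gram R).det = 1 * (gram R).det by rw [one_mul]; linear_combination h1))
  let φ : O →* Fˣ := (Matrix.GeneralLinearGroup.det).comp O.subtype
  have hrange : Nat.card φ.range ∣ 2 := by
    refine (Subgroup.card_dvd_of_le (K := Subgroup.zpowers (-1 : Fˣ)) ?_).trans ?_
    · rintro _ ⟨⟨g, hg⟩, rfl⟩
      rcases hdet g hg with h | h
      · rw [show φ ⟨g, hg⟩ = 1 from Units.ext h]; exact one_mem _
      · rw [show φ ⟨g, hg⟩ = -1 from Units.ext h]; exact Subgroup.mem_zpowers _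
    · rw [Nat.card_zpowers]
      exact orderOf_dvd_of_pow_eq_one (by simp)
  have hker : Nat.card φ.ker ∣ Nat.card ↥(S ⊓ SL) := by
    rw [Nat.card_congr (φ.ker.equivMapOfInjective O.subtype O.subtype_injective).toEquiv]
    refine Subgroup.card_dvd_of_le ?_
    rintro _ ⟨⟨g, hg⟩, hk, rfl⟩
    exact ⟨⟨1, fun v => by rw [Units.val_one, one_mul]; exact hg v v⟩, hk⟩
  have hO : Nat.card O ∣ 2 * Nat.card ↥(S ⊓ SL) := by
    rw [← φ.ker.card_mul_index, Subgroup.index_ker, mul_comm 2]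
    exact mul_dvd_mul hker hrange
  have hmul : Nat.card ↥(S ⊓ SL) * S.relIndex SL = Nat.card SL := by
    rw [← Subgroup.inf_relIndex_right S SL]
    rw [Subgroup.relIndex, ← Nat.card_congr
      (Subgroup.subgroupOfEquivOfLe (inf_le_right : S ⊓ SL ≤ SL)).toEquiv, Subgroup.card_mul_index]
  calc r * Nat.card (Grp R) ∣ S.relIndex SL * (2 * Nat.card ↥(S ⊓ SL)) := mul_dvd_mul hΩ hO
    _ = 2 * Nat.card SL := by rw [← hmul]; ring
    _ ∣ 2 * Nat.card (GL (Fin n) F) := mul_dvd_mul_left 2 (Subgroup.card_subgroup_dvd_card _)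

theorem not_dvd_pow_sub_one {q r : ℕ} (hr : r.Prime) (hq : 1 ≤ q) {i e : ℕ} (hi : i = orderOf (q : ZMod r))
    (heven : Even i) (he : Odd e) : ¬ r ∣ q ^ e - 1 := by
  intro h
  have h1 := (ZMod.natCast_eq_zero_iff _ _).2 h
  rw [Nat.cast_sub (Nat.one_le_pow _ _ hq), Nat.cast_pow, Nat.cast_one, sub_eq_zero] at h1
  exact Nat.not_even_iff_odd.2 he (even_iff_two_dvd.2 ((even_iff_two_dvd.1 heven).trans
    (hi ▸ orderOf_dvd_of_pow_eq_one h1)))

include hp in
theorem even_data {q r : ℕ} (hq : Fintype.card F = q) (h2 : (2 : F) ≠ 0) (hr : r.Prime) (hrp : r ≠ p)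
    (hB : Nondeg R) (hn : 3 ≤ n) (hi : Even (orderOf (q : ZMod r)))
    (hΩ : r ∣ (Cfsg.Geo.quadSimilarityGroup ⇑R).relIndex (Cfsg.Geo.specialLinear (Fin n) F)) :
    ∃ m, n = 2 * m ∧ 1 ≤ m ∧ ((q : ZMod r) ^ m = 1 ∨ (q : ZMod r) ^ m = -1) ∧
      (Iso (⇑R) (Cfsg.quadFormPlus m F) → (q : ZMod r) ^ m = -1) ∧
      (¬ Iso (⇑R) (Cfsg.quadFormPlus m F) → (q : ZMod r) ^ m = 1) := by
  classical
  obtain ⟨hrq, hq2⟩ := CfsgLib.Derange.not_dvd_card (p := p) hq hr hrp
  have hqc : Nat.card F = q := by rw [Nat.card_eq_fintype_card, hq]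
  have hbound := index_bound h2 hB hΩ
  rw [card_gl q hq] at hbound
  have hrpow : ∀ k, ¬ r ∣ q ^ k := fun k h => hrq (hr.dvd_of_dvd_pow h)
  obtain ⟨m, rfl | rfl⟩ : ∃ m, n = 2 * m ∨ n = 2 * m + 1 := ⟨n / 2, by omega⟩
  swap
  · exfalso
    obtain ⟨l, hl, φ, hφ⟩ := classify_odd R (bilin_nondeg hB) (by rw [Module.finrank_fin_fun])
    obtain ⟨S, hS, hSn⟩ := CfsgLib.Orth.exists_quadForm_odd h2 m
    have hlS : Nondeg (l • S) := fun x hx => hSn x fun y => by
      have := hx y
      rw [FunLike.coe_smul, QuadraticMap.polar_smul, smul_eq_mul, mul_eq_zero] at this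
      exact this.resolve_left hl
    have hcard : Nat.card (Grp R) = Nat.card (Grp S) := by
      rw [card_grp_congr hB hlS φ (fun x => by rw [← hφ x, QuadraticMap.smul_apply, smul_eq_mul, hS])]
      refine Nat.card_congr (Equiv.subtypeEquivRight fun g => ?_)
      show (∀ v w, (l • S) _ = (l • S) v) ↔ ∀ v w, S _ = S v
      simp only [QuadraticMap.smul_apply, smul_eq_mul, mul_right_inj' hl]
    rw [hcard, card_orth_odd h2 m hS hSn, hqc, qFac, Finset.prod_range_succ, ← qFac, qFac_even] at hbound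
    set A := ∏ j ∈ Finset.range m, (q ^ (2 * (j + 1)) - 1)
    set O := ∏ j ∈ Finset.range m, (q ^ (2 * j + 1) - 1)
    have hA : 0 < A := Finset.prod_pos fun t _ => Nat.sub_pos_of_lt (Nat.one_lt_pow (by omega) hq2)
    have h1 : r * q ^ (m ^ 2) ∣ q ^ (∑ j ∈ Finset.range (2 * m + 1), j) * O * (q ^ (2 * m + 1) - 1) := by
      refine Nat.dvd_of_mul_dvd_mul_left (Nat.mul_pos (by norm_num : 0 < 2) hA) ?_
      refine (dvd_of_eq (by ring)).trans (hbound.trans (dvd_of_eq (by ring)))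
    rcases hr.dvd_mul.1 ((dvd_mul_right r _).trans h1) with h | h
    · rcases hr.dvd_mul.1 h with h | h
      · exact hrpow _ h
      · obtain ⟨j, -, hj⟩ := (Prime.dvd_finsetProd_iff hr.prime _).1 h
        exact not_dvd_pow_sub_one hr (by omega) rfl hi ⟨j, rfl⟩ hj
    · exact not_dvd_pow_sub_one hr (by omega) rfl hi ⟨m, rfl⟩ h
  obtain ⟨m', rfl⟩ : ∃ m', m = m' + 1 := ⟨m - 1, by omega⟩
  obtain ⟨a, b, hab⟩ := RestrictScalars.exists_ab (F := F)
  set A := ∏ j ∈ Finset.range m', (q ^ (2 * (j + 1)) - 1) with hAdef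
  set O := ∏ j ∈ Finset.range (m' + 1), (q ^ (2 * j + 1) - 1)
  have hA : 0 < A := Finset.prod_pos fun t _ => Nat.sub_pos_of_lt (Nat.one_lt_pow (by omega) hq2)
  have hqm : 2 ≤ q ^ (m' + 1) := le_trans hq2 (Nat.le_self_pow (by omega) q)
  have hfac : qFac q (2 * (m' + 1)) = A * ((q ^ (m' + 1) - 1) * (q ^ (m' + 1) + 1)) * O := by
    rw [qFac_even, Finset.prod_range_succ, ← hAdef]
    congr 2
    rw [mul_comm 2, pow_mul, mul_comm (q ^ (m' + 1) - 1), ← Nat.sq_sub_sq, one_pow]
  rw [hfac] at hbound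
  have hnO : ¬ r ∣ O := fun h => by
    obtain ⟨j, -, hj⟩ := (Prime.dvd_finsetProd_iff hr.prime _).1 h
    exact not_dvd_pow_sub_one hr (by omega) rfl hi ⟨j, rfl⟩ hj
  set E := ∑ j ∈ Finset.range (2 * (m' + 1)), j
  have hfinish : ∀ w : ℕ, r * q ^ ((m' + 1) * m') ∣ q ^ E * w * O → r ∣ w := by
    intro w h
    rcases hr.dvd_mul.1 ((dvd_mul_right r _).trans h) with h | h
    · exact (hr.dvd_mul.1 h).resolve_left (hrpow _)
    · exact absurd h hnO
  refine ⟨m' + 1, rfl, by omega, ?_⟩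
  by_cases hiso : Iso (⇑R) (Cfsg.quadFormPlus (m' + 1) F)
  · obtain ⟨φ, hφ⟩ := hiso
    obtain ⟨S, hS, hSn⟩ := CfsgLib.Orth.exists_quadForm_plus (F := F) (m' + 1)
    rw [card_grp_congr hB hSn φ (fun x => by rw [hS]; exact hφ x), card_orth_plus (m' + 1) (by omega) hS hSn, hqc,
      Nat.add_sub_cancel, ← hAdef] at hbound
    have hr1 : r ∣ q ^ (m' + 1) + 1 := hfinish _ (by
      refine Nat.dvd_of_mul_dvd_mul_left (Nat.mul_pos (Nat.mul_pos (by norm_num : 0 < 2) hA) (by omega : 0 < q ^ (m' + 1) - 1)) ?_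
      exact (dvd_of_eq (by ring)).trans (hbound.trans (dvd_of_eq (by ring))))
    have hc := (ZMod.natCast_eq_zero_iff _ _).2 hr1
    rw [Nat.cast_add, Nat.cast_pow, Nat.cast_one, ← eq_neg_iff_add_eq_zero] at hc
    exact ⟨Or.inr hc, fun _ => hc, fun h => absurd ⟨φ, hφ⟩ h⟩
  · obtain ⟨j, hj, φ, hφ⟩ := (classify_even R (bilin_nondeg hB) (by rw [Module.finrank_fin_fun]) a b hab).resolve_left hiso
    obtain rfl : j = m' := by omega
    obtain ⟨S, hS, hSn⟩ := CfsgLib.Orth.exists_quadForm_minus j hab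
    have hcard : Nat.card (Grp S) = 2 * Nat.card F ^ ((j + 1) * (j + 1 - 1)) * (Nat.card F ^ (j + 1) + 1) *
        ∏ i ∈ Finset.range (j + 1 - 1), (Nat.card F ^ (2 * (i + 1)) - 1) :=
      card_orth_minus (j + 1) (by omega) hab hS hSn
    rw [card_grp_congr hB hSn φ (fun x => by rw [hS]; exact hφ x), hcard, hqc,
      Nat.add_sub_cancel, ← hAdef] at hbound
    have hr1 : r ∣ q ^ (j + 1) - 1 := hfinish _ (by
      refine Nat.dvd_of_mul_dvd_mul_left (Nat.mul_pos (Nat.mul_pos (by norm_num : 0 < 2) hA) (by omega : 0 < q ^ (j + 1) + 1)) ?_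
      exact (dvd_of_eq (by ring)).trans (hbound.trans (dvd_of_eq (by ring))))
    have hc := (ZMod.natCast_eq_zero_iff _ _).2 hr1
    rw [Nat.cast_sub (Nat.one_le_pow _ _ (by omega)), Nat.cast_pow, Nat.cast_one, sub_eq_zero] at hc
    exact ⟨Or.inl hc, fun h => absurd h hiso, fun _ => hc⟩

include hp in
theorem case_even {q r : ℕ} (hq : Fintype.card F = q) (h2 : (2 : F) ≠ 0) (hr : r.Prime) (hr2 : r ≠ 2) (hrp : r ≠ p)
    (hB : Nondeg R) (hn : 3 ≤ n) (hi : Even (orderOf (q : ZMod r))) (h2i : 2 ≤ orderOf (q : ZMod r))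
    (hΩ : r ∣ (Cfsg.Geo.quadSimilarityGroup ⇑R).relIndex (Cfsg.Geo.specialLinear (Fin n) F))
    (h : ∀ x ∈ Cfsg.Geo.specialLinear (Fin n) F,
      (∃ z : F, ((x ^ r : GL (Fin n) F) : Matrix (Fin n) (Fin n) F) = z • (1 : Matrix (Fin n) (Fin n) F)) →
      (∀ z : F, (x : Matrix (Fin n) (Fin n) F) ≠ z • (1 : Matrix (Fin n) (Fin n) F)) →
      ∃ g ∈ Cfsg.Geo.specialLinear (Fin n) F, g⁻¹ * x * g ∈ Cfsg.Geo.quadSimilarityGroup ⇑R) : False := by
  classical
  haveI := Fact.mk hr
  obtain ⟨m, rfl, hm, hpow, hP, hM⟩ := even_data (p := p) hq h2 hr hrp hB hn hi hΩ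
  set i := orderOf (q : ZMod r) with hidef
  obtain ⟨t, D, X⟩ := exists_ctx (p := p) hq hr hr2 hrp hidef
  have hne : (-1 : ZMod r) ≠ 1 := by
    haveI : Fact (2 < r) := ⟨lt_of_le_of_ne hr.two_le (Ne.symm hr2)⟩
    exact ZMod.neg_one_ne_one
  have hni : ¬ Odd i := Nat.not_odd_iff_even.2 hi
  have hdvd : i ∣ 2 * m := by
    have h1 : (q : ZMod r) ^ (2 * m) = 1 := by
      rw [mul_comm, pow_mul]; rcases hpow with h | h <;> rw [h] <;> simp
    exact hidef ▸ orderOf_dvd_of_pow_eq_one h1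
  set K := 2 * m / i with hK
  obtain ⟨hsgn, -⟩ := sign_mod hr hr2 hidef X.i_pos hni hdvd
  have hdim : unitDim i * K = 2 * m := by rw [unitDim_even hni, hK, Nat.mul_div_cancel' hdvd]
  obtain ⟨f, hf⟩ := exists_of_shape X.facts X.t_pos 0 K
  have hPF : PlusFree i K ↔ (q : ZMod r) ^ m = 1 := by
    rw [hsgn, PlusFree, or_iff_right hni]
    refine ⟨fun h => h.neg_one_pow, fun h => Nat.not_odd_iff_even.1 fun ho => ?_⟩
    rw [ho.neg_one_pow] at h
    exact hne h
  obtain ⟨M, hMr, hMc⟩ : ∃ M : Matrix (Fin (2 * m)) (Fin (2 * m)) F, M ^ r = 1 ∧ M.charpoly = f := by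
    have build : ∀ (κ : Type) [Fintype κ] [DecidableEq κ] (Qf : (κ → F) → F), Fintype.card κ = 2 * m →
        Real r Qf f → ∃ M : Matrix (Fin (2 * m)) (Fin (2 * m)) F, M ^ r = 1 ∧ M.charpoly = f := by
      intro κ _ _ Qf hκ hR
      obtain ⟨T, -, hTr, hTc⟩ := hR
      let R' := Matrix.reindexAlgEquiv F F (Fintype.equivFinOfCardEq hκ)
      refine ⟨R' (LinearMap.toMatrixAlgEquiv' T), ?_, ?_⟩
      · rw [← map_pow, ← map_pow, hTr, map_one, map_one]
      · rw [Matrix.coe_reindexAlgEquiv, Matrix.charpoly_reindex, ← hTc]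
        conv_rhs => rw [← LinearMap.charpoly_toMatrix T (Pi.basisFun F κ)]
        rw [LinearMap.toMatrix_eq_toMatrix']
        rfl
    by_cases hpf : PlusFree i K
    · exact build _ _ (by simp; omega) ((real_plus_iff (p := p) X m f).2 ⟨0, K, hf, by omega, Or.inr hpf⟩)
    · obtain ⟨a, b, hab⟩ := RestrictScalars.exists_ab (F := F)
      obtain ⟨j, rfl⟩ : ∃ j, m = j + 1 := ⟨m - 1, by omega⟩
      exact build _ _ (by simp; omega) ((real_minus_iff (p := p) X j a b hab f).2 ⟨0, K, hf, by omega, Or.inr hpf⟩)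
  have hrq : ¬ r ∣ q - 1 := fun h' => by
    have := (CfsgLib.Derange.orderOf_mod (p := p) hq hr hrp).2.2.2 h'
    omega
  have hdet : M.det = 1 := by
    have h1 : M.det ^ r = 1 := by rw [← Matrix.det_pow, hMr, Matrix.det_one]
    have h3 : M.det ≠ 0 := fun h0 => by rw [h0, zero_pow hr.ne_zero] at h1; exact zero_ne_one h1
    have hg : M.det ^ Nat.gcd r (q - 1) = 1 :=
      pow_gcd_eq_one.2 ⟨h1, hq ▸ FiniteField.pow_card_sub_one_eq_one _ h3⟩
    rwa [(hr.coprime_iff_not_dvd.2 hrq).gcd_eq_one, pow_one] at hg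
  have hns : ∀ c : F, M ≠ c • 1 := by
    intro c hc
    haveI : Nonempty (Fin (2 * m)) := ⟨⟨0, by omega⟩⟩
    have hcr : c ^ r = 1 := by
      have h1 := congrFun (congrFun hMr ⟨0, by omega⟩) ⟨0, by omega⟩
      rwa [hc, _root_.smul_pow, one_pow, Matrix.smul_apply, Matrix.one_apply_eq, smul_eq_mul, mul_one] at h1
    have hc0 : c ≠ 0 := fun h0 => by rw [h0, zero_pow hr.ne_zero] at hcr; exact zero_ne_one hcr
    have hg : c ^ Nat.gcd r (q - 1) = 1 :=
      pow_gcd_eq_one.2 ⟨hcr, hq ▸ FiniteField.pow_card_sub_one_eq_one _ hc0⟩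
    rw [(hr.coprime_iff_not_dvd.2 hrq).gcd_eq_one, pow_one] at hg
    have h1 := hf.eval_one_eq_zero_iff X.facts
    rw [← hMc, hc, hg, one_smul, Matrix.charpoly_one] at h1
    simp [show 0 < m by omega, Nat.pos_iff_ne_zero.1 (show 0 < m by omega)] at h1
  obtain ⟨g, x, hx, hgx⟩ := Lin.conj_of_all h M hdet (z := 1) (by rw [hMr, one_smul]) hns
  have hxr : (x : Matrix (Fin (2 * m)) (Fin (2 * m)) F) ^ r = 1 := by rw [hx, hMr]
  have hreal := isometry_of_pow hq h2 hr hrq hB (by omega) (N := g⁻¹ * x * g) (by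
    rw [Units.val_mul, Units.val_mul, Units.conj_pow', hxr, Matrix.mul_one, Units.inv_mul]) hgx
  rw [Units.val_mul, Units.val_mul, Matrix.coe_units_inv, Matrix.charpoly_units_conj', hx, hMc] at hreal
  obtain ⟨e', K', hs', -, hsign⟩ :=
    (real_even_iff (p := p) X R (bilin_nondeg hB) (by rw [Module.finrank_fin_fun]) f).1 hreal
  obtain ⟨rfl, rfl⟩ := hf.unique X.facts hs'
  have hiff := hsign.resolve_left (lt_irrefl 0)
  by_cases hiso : Iso (⇑R) (Cfsg.quadFormPlus m F)
  · exact hne ((hP hiso).symm.trans (hPF.1 (hiff.1 hiso)))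
  · exact hiso (hiff.2 (hPF.2 (hM hiso)))

include hp in
theorem case_split {q r : ℕ} (hq : Fintype.card F = q) (h2 : (2 : F) ≠ 0) (hr : r.Prime) (hr2 : r ≠ 2)
    (hB : Nondeg R) (hn : 3 ≤ n) (hgap : ¬ (n = 6 ∧ r = 3)) (hrq : r ∣ q - 1)
    (hcond : ¬ ((r = 3 ∨ r = 5) ∧ n = r ∧ padicValNat r (q - 1) = 1))
    (h : ∀ x ∈ Cfsg.Geo.specialLinear (Fin n) F,
      (∃ z : F, ((x ^ r : GL (Fin n) F) : Matrix (Fin n) (Fin n) F) = z • (1 : Matrix (Fin n) (Fin n) F)) →
      (∀ z : F, (x : Matrix (Fin n) (Fin n) F) ≠ z • (1 : Matrix (Fin n) (Fin n) F)) →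
      ∃ g ∈ Cfsg.Geo.specialLinear (Fin n) F, g⁻¹ * x * g ∈ Cfsg.Geo.quadSimilarityGroup ⇑R) : False := by
  classical
  haveI := Fact.mk hr
  let i₀ : Fin n := ⟨0, by omega⟩
  let i₁ : Fin n := ⟨1, by omega⟩
  let i₂ : Fin n := ⟨2, by omega⟩
  have h01 : i₀ ≠ i₁ := by simp [i₀, i₁]
  have h02 : i₀ ≠ i₂ := by simp [i₀, i₂]
  have h12 : i₁ ≠ i₂ := by simp [i₁, i₂]
  have hN : q - 1 ≠ 0 := by
    have := Fintype.one_lt_card (α := F); omega
  by_cases hv : padicValNat r n < padicValNat r (q - 1)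
  · obtain ⟨α, ζ, hα, hζ, hζr, hαζ⟩ := Lin.exists_homology (n := n) hq hr (by omega) hv
    have hζ0 : ζ ≠ 0 := fun h0 => by rw [h0, zero_pow hr.ne_zero] at hζr; exact zero_ne_one hζr
    let d : Fin n → F := fun k => if k = i₀ then α * ζ else α
    obtain ⟨g, x, hx, hg⟩ := Lin.conj_of_all h (Matrix.diagonal d) (by
      rw [Matrix.det_diagonal, show d = fun k => α * (if k = i₀ then ζ else 1) from
        funext fun k => by simp only [d]; split_ifs <;> simp, Finset.prod_mul_distrib]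
      simp [hαζ]) (z := α ^ r) (by
      rw [Matrix.diagonal_pow, Matrix.smul_one_eq_diagonal]
      congr 1
      funext k
      simp only [Pi.pow_apply, d]
      split_ifs
      · rw [mul_pow, hζr, mul_one]
      · rfl) (by
      intro c hc
      have e0 := congrFun (congrFun hc i₀) i₀
      have e1 := congrFun (congrFun hc i₁) i₁
      simp only [d, Matrix.diagonal_apply_eq, if_neg (Ne.symm h01), if_pos, Matrix.smul_apply, Matrix.one_apply_eq,
        smul_eq_mul, mul_one] at e0 e1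
      exact hζ (mul_left_cancel₀ hα (by rw [mul_one, e0, e1])))
    obtain ⟨c, hc, hcount⟩ := spectrum_symm h2 hB hx hg
    have hne : α * ζ ≠ α := fun h => hζ (mul_left_cancel₀ hα (h.trans (mul_one α).symm))
    have hd0 : d i₀ = α * ζ := if_pos rfl
    have hd1 : ∀ k, k ≠ i₀ → d k = α := fun k hk => if_neg hk
    have hone : ∀ t, t ≠ α → (Finset.univ.filter fun k => d k = t).card ≤ 1 := fun t ht => by
      refine (Finset.card_le_card (t := {i₀}) fun k hk => ?_).trans (Finset.card_singleton i₀).le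
      rw [Finset.mem_singleton]
      by_contra hk0
      exact ht ((Finset.mem_filter.1 hk).2.symm.trans (hd1 k hk0))
    have hcα : c / α = α := by
      by_contra hne'
      have h1 := hcount (c / α)
      have h3 : 2 ≤ (Finset.univ.filter fun k => c / d k = c / α).card := by
        refine le_trans ?_ (Finset.card_le_card (s := {i₁, i₂}) fun k hk => ?_)
        · rw [Finset.card_pair h12]
        · simp at hk; rcases hk with rfl | rfl <;> simp [hd1, Ne.symm h01, Ne.symm h02]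
      have := hone _ hne'
      omega
    have h1 := hcount (c / (α * ζ))
    have h3 : 0 < (Finset.univ.filter fun k => c / d k = c / (α * ζ)).card :=
      Finset.card_pos.2 ⟨i₀, by simp [hd0]⟩
    rw [← h1] at h3
    obtain ⟨k, hk⟩ := Finset.card_pos.1 h3
    have hk' : d k = c / (α * ζ) := (Finset.mem_filter.1 hk).2
    rw [← div_div, hcα, eq_div_iff hζ0] at hk'
    by_cases hk0 : k = i₀
    · rw [hk0, hd0] at hk'
      have : ζ ^ 2 = 1 := mul_left_cancel₀ hα (by linear_combination hk')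
      refine hζ ?_
      have hg : ζ ^ Nat.gcd 2 r = 1 := pow_gcd_eq_one.2 ⟨this, hζr⟩
      rwa [(Nat.coprime_primes Nat.prime_two hr).2 (Ne.symm hr2) |>.gcd_eq_one, pow_one] at hg
    · rw [hd1 k hk0] at hk'
      exact hne hk'
  have hv1 : 1 ≤ padicValNat r (q - 1) := one_le_padicValNat_of_dvd hN hrq
  have hrn : r ∣ n := dvd_of_one_le_padicValNat (by omega)
  have hn6 : 3 < n - 3 := by
    have hr3 : 3 ≤ r := by have := hr.two_le; omega
    rcases eq_or_ne n r with rfl | hne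
    · have h7 : n ≠ 3 ∧ n ≠ 5 := by
        constructor <;> intro h <;> apply hcond <;> refine ⟨by omega, rfl, ?_⟩ <;>
          · have hs : padicValNat n n = 1 := padicValNat_self
            omega
      have : n ≠ 4 ∧ n ≠ 6 := by constructor <;> (rintro rfl; norm_num at hr)
      omega
    · obtain ⟨k, rfl⟩ := hrn
      have hk : 2 ≤ k := by
        rcases k with _ | _ | k
        · simp at hn
        · simp at hne
        · omega
      by_cases hr3' : r = 3
      · subst hr3'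
        have : k ≠ 2 := fun hk2 => hgap ⟨by omega, rfl⟩
        omega
      · have : r ≠ 4 := by rintro rfl; norm_num at hr
        have : 2 * r ≤ r * k := by rw [mul_comm 2]; exact Nat.mul_le_mul_left r hk
        omega
  obtain ⟨ζ, hζ0, hζr, hζd⟩ := Lin.exists_root_of_unity hq hr hrq
  have hpow : ∀ m, 0 < m → m < r → ζ ^ m ≠ 1 := fun m h0 h1 h => by
    have := Nat.le_of_dvd h0 (hζd m h); omega
  obtain ⟨a, b, c', hr', habc, ha1, hb1, hc1, hnot⟩ : ∃ a b c' : F, (a ^ r = 1 ∧ b ^ r = 1 ∧ c' ^ r = 1) ∧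
      a * b * c' = 1 ∧ a ≠ 1 ∧ b ≠ 1 ∧ c' ≠ 1 ∧ (a⁻¹ ≠ a ∧ a⁻¹ ≠ b ∧ a⁻¹ ≠ c') := by
    by_cases hr3 : r = 3
    · subst hr3
      have h1 : ζ ≠ 1 := by simpa using hpow 1 one_pos (by norm_num)
      refine ⟨ζ, ζ, ζ, ⟨hζr, hζr, hζr⟩, by rw [← hζr]; ring, h1, h1, h1, ?_⟩
      have : ζ⁻¹ ≠ ζ := fun h => hpow 2 two_pos (by norm_num) (by
        rw [sq]; nth_rw 1 [← h]; exact inv_mul_cancel₀ hζ0)
      exact ⟨this, this, this⟩
    · have hr5 : 5 ≤ r := by
        have := hr.two_le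
        have : r ≠ 4 := by rintro rfl; norm_num at hr
        omega
      have p1 : ζ ≠ 1 := by simpa using hpow 1 one_pos (by omega)
      have p2 : ζ ^ 2 ≠ 1 := hpow 2 two_pos (by omega)
      have p3 : ζ ^ 3 ≠ 1 := hpow 3 (by norm_num) (by omega)
      refine ⟨ζ, ζ ^ 2, (ζ ^ 3)⁻¹, ⟨hζr, by rw [← pow_mul, mul_comm, pow_mul, hζr, one_pow],
        by rw [inv_pow, ← pow_mul, mul_comm, pow_mul, hζr, one_pow, inv_one]⟩, ?_, p1, p2, by simpa using p3,
        ?_, ?_, ?_⟩
      · rw [← pow_succ']; exact mul_inv_cancel₀ (pow_ne_zero _ hζ0)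
      · intro h; exact p2 (by rw [sq]; nth_rw 1 [← h]; exact inv_mul_cancel₀ hζ0)
      · intro h; exact p3 (by rw [pow_succ, ← h]; exact inv_mul_cancel₀ hζ0)
      · intro h
        rw [_root_.inv_inj] at h
        exact p2 (mul_left_cancel₀ hζ0 (by rw [mul_one, ← pow_succ']; exact h.symm))
  let d : Fin n → F := fun k => if k = i₀ then a else if k = i₁ then b else if k = i₂ then c' else 1
  have hd0 : d i₀ = a := if_pos rfl
  have hd1 : d i₁ = b := by simp [d, Ne.symm h01]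
  have hd2 : d i₂ = c' := by simp [d, Ne.symm h02, Ne.symm h12]
  have hdk : ∀ k ∉ ({i₀, i₁, i₂} : Finset (Fin n)), d k = 1 := fun k hk => by
    simp at hk; simp [d, hk.1, hk.2.1, hk.2.2]
  obtain ⟨g, x, hx, hg⟩ := Lin.conj_of_all h (Matrix.diagonal d) (by
    rw [Matrix.det_diagonal, ← Finset.prod_subset (Finset.subset_univ {i₀, i₁, i₂}) (fun k _ hk => hdk k hk),
      Finset.prod_insert (by simp [h01, h02]), Finset.prod_pair h12, hd0, hd1, hd2, ← mul_assoc, habc]) (z := 1) (by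
    rw [Matrix.diagonal_pow, one_smul, ← Matrix.diagonal_one]
    congr 1
    funext k
    simp only [Pi.pow_apply, d]
    split_ifs <;> simp [hr'.1, hr'.2.1, hr'.2.2]) (by
    intro c hc
    obtain ⟨k, hk⟩ : ∃ k, k ∉ ({i₀, i₁, i₂} : Finset (Fin n)) := by
      by_contra! h0
      have h1 := Finset.card_le_card (s := (Finset.univ : Finset (Fin n))) (t := {i₀, i₁, i₂}) fun k _ => h0 k
      have := (Finset.card_le_three : ({i₀, i₁, i₂} : Finset (Fin n)).card ≤ 3)
      rw [Finset.card_univ, Fintype.card_fin] at h1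
      omega
    have e0 := congrFun (congrFun hc i₀) i₀
    have e1 := congrFun (congrFun hc k) k
    rw [Matrix.diagonal_apply_eq, Matrix.smul_apply, Matrix.one_apply_eq, smul_eq_mul, mul_one] at e0 e1
    exact ha1 (by rw [← hd0, e0, ← e1, hdk k hk]))
  obtain ⟨c, hc, hcount⟩ := spectrum_symm h2 hB hx hg
  have hc1' : c = 1 := by
    by_contra hne
    have h1 := hcount (c / 1)
    have h3 : n - 3 ≤ (Finset.univ.filter fun k => c / d k = c / 1).card := by
      refine le_trans ?_ (Finset.card_le_card (s := Finset.univ \ {i₀, i₁, i₂}) fun k hk => ?_)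
      · have := (Finset.card_le_three : ({i₀, i₁, i₂} : Finset (Fin n)).card ≤ 3)
        rw [Finset.card_univ_diff, Fintype.card_fin]
        omega
      · simp only [Finset.mem_sdiff] at hk
        simp [hdk k hk.2]
    have h4 : (Finset.univ.filter fun k => d k = c / 1).card ≤ 3 := by
      refine (Finset.card_le_card (t := {i₀, i₁, i₂}) fun k hk => ?_).trans Finset.card_le_three
      by_contra hk'
      exact hne (by rw [← div_one c, ← (Finset.mem_filter.1 hk).2, hdk k hk'])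
    omega
  subst hc1'
  have h3 : 0 < (Finset.univ.filter fun k => 1 / d k = a⁻¹).card :=
    Finset.card_pos.2 ⟨i₀, by simp [hd0]⟩
  rw [← hcount] at h3
  obtain ⟨k, hk⟩ := Finset.card_pos.1 h3
  have hk' := (Finset.mem_filter.1 hk).2
  simp only [d] at hk'
  split_ifs at hk'
  · exact hnot.1 hk'.symm
  · exact hnot.2.1 hk'.symm
  · exact hnot.2.2 hk'.symm
  · exact ha1 (inv_eq_one.1 hk'.symm)

theorem exists_block_basis (x : GL (Fin n) F) {z : F} (hz0 : z ≠ 0)
    (hz : (x : Matrix (Fin n) (Fin n) F) ^ 2 = z • 1) (hs : ∀ c : F, c * c ≠ z) :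
    ∃ (j : ℕ) (ε : Fin 2 × Fin j ≃ Fin n) (B : GL (Fin n) F),
      (x : Matrix (Fin n) (Fin n) F) * (B : Matrix (Fin n) (Fin n) F) = (B : Matrix (Fin n) (Fin n) F) *
        Matrix.reindex ε ε (Matrix.blockDiagonal fun _ : Fin j => !![0, z; 1, 0]) := by
  classical
  set T := Matrix.toLin' (x : Matrix (Fin n) (Fin n) F) with hT
  have hT2 : T ^ 2 = z • 1 := by rw [hT, ← CfsgLib.Derange.toLin'_pow, hz, CfsgLib.Derange.toLin'_smul_one]
  have hTT : ∀ w, T (T w) = z • w := fun w => by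
    rw [← End.mul_apply, ← sq, hT2, LinearMap.smul_apply, End.one_apply]
  obtain ⟨j, k, bm, hmon⟩ :=
    CfsgLib.Derange.exists_monomial_basis_aux _ (Fin n → F) (Module.finrank_fin_fun F) T z hz0 hT2
  have hk : k = 0 := by
    by_contra hk
    obtain ⟨c, -, hc⟩ := hmon (Sum.inr ⟨0, Nat.pos_of_ne_zero hk⟩)
    have h2 := hTT (bm (Sum.inr ⟨0, Nat.pos_of_ne_zero hk⟩))
    rw [hc, map_smul] at h2
    simp only [Sum.map_inr, id] at h2 hc
    rw [hc, smul_smul] at h2
    exact hs c (smul_left_injective F (bm.ne_zero _) h2)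
  subst hk
  have hj : Fintype.card (Fin 2 × Fin j) = n := by
    have := Module.finrank_eq_card_basis bm
    simp at this ⊢
    omega
  choose c hc0 hc using hmon
  let η : (Fin j ⊕ Fin j) ⊕ Fin 0 ≃ Fin 2 × Fin j :=
    (Equiv.sumEmpty _ _).trans ((Equiv.boolProdEquivSum (Fin j)).symm.trans
      (Equiv.prodCongr finTwoEquiv.symm (Equiv.refl _)))
  let s : (Fin j ⊕ Fin j) ⊕ Fin 0 → Fˣ := Sum.elim (Sum.elim 1 fun l => Units.mk0 (c (Sum.inl (Sum.inl l))) (hc0 _)) 1
  let bb := (bm.unitsSMul s).reindex η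
  have hb0 : ∀ l, bb (0, l) = bm (Sum.inl (Sum.inl l)) := by
    intro l
    have : η.symm (0, l) = Sum.inl (Sum.inl l) := by rw [Equiv.symm_apply_eq]; rfl
    simp [bb, this, Basis.unitsSMul_apply, s]
  have hb1 : ∀ l, bb (1, l) = T (bm (Sum.inl (Sum.inl l))) := by
    intro l
    have : η.symm (1, l) = Sum.inl (Sum.inr l) := by rw [Equiv.symm_apply_eq]; rfl
    simp [bb, this, Basis.unitsSMul_apply, s, hc, Units.smul_def]
  let ε := Fintype.equivFinOfCardEq hj
  obtain ⟨B, hB⟩ := CfsgLib.Derange.exists_conj_toMatrix x (bb.reindex ε)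
  refine ⟨j, ε, B, ?_⟩
  have hmat : ((B⁻¹ * x * B : GL (Fin n) F) : Matrix (Fin n) (Fin n) F) =
      Matrix.reindex ε ε (Matrix.blockDiagonal fun _ : Fin j => !![0, z; 1, 0]) := by
    rw [hB]
    ext a b
    obtain ⟨⟨i, l⟩, rfl⟩ := ε.surjective a
    obtain ⟨⟨i', l'⟩, rfl⟩ := ε.surjective b
    simp only [LinearMap.toMatrix_apply, Basis.reindex_apply, Basis.repr_reindex_apply, Equiv.symm_apply_apply,
      Matrix.reindex_apply, Matrix.submatrix_apply, Matrix.blockDiagonal_apply, ← hT]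
    fin_cases i' <;> simp only [Fin.zero_eta, Fin.mk_one, Fin.isValue]
    · rw [hb0, ← hb1, bb.repr_self, Finsupp.single_apply]
      fin_cases i <;> simp [Prod.ext_iff, eq_comm]
    · rw [hb1, hTT, ← hb0, map_smul, bb.repr_self, Finsupp.smul_apply, Finsupp.single_apply]
      fin_cases i <;> simp [Prod.ext_iff, eq_comm]
  rw [← hmat, ← Units.val_mul, ← Units.val_mul]
  congr 1
  group

include hp in
theorem positive_two {q : ℕ} (hq : Fintype.card F = q) (hodd : Odd q) (hn : 3 ≤ n) (hB : Nondeg R)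
    (x : GL (Fin n) F) (hx : x ∈ Cfsg.Geo.specialLinear (Fin n) F) {z : F}
    (hz : (x : Matrix (Fin n) (Fin n) F) ^ 2 = z • 1) :
    ∃ g ∈ Cfsg.Geo.specialLinear (Fin n) F, g⁻¹ * x * g ∈ Cfsg.Geo.quadSimilarityGroup ⇑R := by
  classical
  have h2 := two_ne_zero_of_odd hq hodd
  have hdet : (x : Matrix (Fin n) (Fin n) F).det = 1 := congrArg Units.val (MonoidHom.mem_ker.1 hx)
  have hz0 : z ≠ 0 := CfsgLib.Derange.sq_scalar_ne_zero (by omega) (by rw [hdet]; exact one_ne_zero) hz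
  have hp2 : 2 ≠ p := by
    rintro rfl
    exact h2 (by exact_mod_cast CharP.cast_eq_zero F 2)
  by_cases hs : ∃ c : F, c * c = z
  · obtain ⟨c, hc⟩ := hs
    have hc0 : c ≠ 0 := fun h => hz0 (by rw [← hc, h, mul_zero])
    have hrq : 2 ∣ q - 1 := by
      obtain ⟨k, hk⟩ := hodd; exact ⟨k, by omega⟩
    obtain ⟨B, d, hd, hXB⟩ := Lin.exists_diagonal (p := p) hq Nat.prime_two hp2 hrq
      (c⁻¹ • (x : Matrix (Fin n) (Fin n) F))
      (by rw [_root_.smul_pow, hz, smul_smul, ← hc, ← sq, ← mul_pow, inv_mul_cancel₀ hc0, one_pow, one_smul])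
    have hxB : (x : Matrix (Fin n) (Fin n) F) * (B : Matrix (Fin n) (Fin n) F) =
        (B : Matrix (Fin n) (Fin n) F) * Matrix.diagonal (c • d) := by
      rw [Matrix.diagonal_smul, Matrix.mul_smul, ← hXB, Matrix.smul_mul, smul_smul, mul_inv_cancel₀ hc0, one_smul]
    let δ : Fin n → F := Function.update 1 ⟨0, by omega⟩ (gram R).det
    have hδ : (Matrix.diagonal δ).det = (gram R).det := by
      rw [Matrix.det_diagonal, Finset.prod_update_of_mem (Finset.mem_univ _)]
      simp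
    obtain ⟨P, hP⟩ := exists_congr_of_disc h2 hB (Matrix.diagonal δ) (Matrix.diagonal_transpose δ)
      (by rw [hδ]; exact gram_det hB) (by rw [hδ]; exact ⟨_, rfl⟩)
    have hM : (Matrix.diagonal (c • d))ᵀ * Matrix.diagonal δ * Matrix.diagonal (c • d) =
        z • Matrix.diagonal δ := by
      rw [Matrix.diagonal_transpose, Matrix.diagonal_mul_diagonal, Matrix.diagonal_mul_diagonal, ← Matrix.diagonal_smul]
      congr 1
      funext k
      simp only [Pi.smul_apply, smul_eq_mul]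
      linear_combination (δ k * c * c) * hd k + δ k * hc
    exact Lin.exists_special_conj (by omega) hxB (sim_conj h2 hxB hM hz0 one_ne_zero (by rw [one_smul]; exact hP))
  · push Not at hs
    obtain ⟨j, ε, B, hxB⟩ := exists_block_basis x hz0 hz hs
    have hj : 0 < j := by
      have := Fintype.card_congr ε
      simp at this; omega
    obtain ⟨a, b, hab⟩ : ∃ a b : F, z * a ^ 2 - b ^ 2 = (gram R).det * z ^ (j - 1) := by
      obtain ⟨a, b, h⟩ := FiniteField.exists_root_sum_quadratic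
        (f := Polynomial.C z * Polynomial.X ^ 2 - Polynomial.C ((gram R).det * z ^ (j - 1))) (g := -Polynomial.X ^ 2)
        (by rw [degree_sub_eq_left_of_degree_lt (by
              rw [degree_C_mul_X_pow 2 hz0]; exact lt_of_le_of_lt degree_C_le (by norm_num)),
              degree_C_mul_X_pow 2 hz0]; rfl)
        (by rw [degree_neg, degree_X_pow]; norm_num)
        (by rw [hq]; exact Nat.odd_iff.1 hodd)
      refine ⟨a, b, ?_⟩
      simp at h
      linear_combination h
    let j₀ : Fin j := ⟨0, hj⟩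
    let Pl : Fin j → Matrix (Fin 2) (Fin 2) F := fun l => if l = j₀ then !![a, b; b, z * a] else !![1, 0; 0, z]
    have hPls : ∀ l, (Pl l)ᵀ = Pl l := fun l => by
      simp only [Pl]; split_ifs <;> (ext i k; fin_cases i <;> fin_cases k <;> rfl)
    have hPlM : ∀ l, (!![0, z; 1, 0] : Matrix (Fin 2) (Fin 2) F)ᵀ * Pl l * !![0, z; 1, 0] = z • Pl l := fun l => by
      simp only [Pl]; split_ifs <;>
        (ext i k; fin_cases i <;> fin_cases k <;> simp [Matrix.mul_apply, Fin.sum_univ_two] <;> ring)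
    have hdetl : ∀ l, (Pl l).det = if l = j₀ then (gram R).det * z ^ (j - 1) else z := fun l => by
      simp only [Pl]; split_ifs
      · rw [Matrix.det_fin_two_of, ← hab]; ring
      · rw [Matrix.det_fin_two_of]; ring
    set H : Matrix (Fin n) (Fin n) F := Matrix.reindex ε ε (Matrix.blockDiagonal Pl) with hH
    have hHs : Hᵀ = H := by
      rw [hH, Matrix.transpose_reindex, Matrix.blockDiagonal_transpose]
      congr 1
      congr 1
      exact funext hPls
    have hHd : H.det = (gram R).det * z ^ (j - 1) * z ^ (j - 1) := by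
      rw [hH, Matrix.det_reindex_self, Matrix.det_blockDiagonal, ← Finset.mul_prod_erase _ _ (Finset.mem_univ j₀),
        hdetl, if_pos rfl, Finset.prod_congr rfl (fun l hl => by rw [hdetl, if_neg (Finset.mem_erase.1 hl).1]),
        Finset.prod_const, Finset.card_erase_of_mem (Finset.mem_univ _), Finset.card_univ, Fintype.card_fin]
    set M : Matrix (Fin n) (Fin n) F :=
      Matrix.reindex ε ε (Matrix.blockDiagonal fun _ : Fin j => !![0, z; 1, 0]) with hMdef
    have hM : Mᵀ * H * M = z • H := by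
      rw [hMdef, hH, ← Matrix.coe_reindexAlgEquiv F F ε, Matrix.coe_reindexAlgEquiv, Matrix.transpose_reindex,
        ← Matrix.coe_reindexAlgEquiv F F ε, ← map_mul, ← map_mul, ← map_smul, Matrix.blockDiagonal_transpose,
        ← Matrix.blockDiagonal_mul, ← Matrix.blockDiagonal_mul, ← Matrix.blockDiagonal_smul]
      congr 2
      exact funext hPlM
    have hHd0 : H.det ≠ 0 := by rw [hHd]; exact mul_ne_zero (mul_ne_zero (gram_det hB) (pow_ne_zero _ hz0)) (pow_ne_zero _ hz0)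
    obtain ⟨P, hP⟩ := exists_congr_of_disc h2 hB H hHs hHd0
      ⟨(gram R).det * z ^ (j - 1), by rw [hHd]; ring⟩
    have hg := sim_conj h2 hxB hM hz0 one_ne_zero (by rw [one_smul]; exact hP)
    let xs : Matrix.SpecialLinearGroup (Fin n) F := ⟨_, hdet⟩
    have hxs : Matrix.SpecialLinearGroup.toGL xs = x := Units.ext rfl
    obtain ⟨Q, hQ⟩ := CfsgLib.Derange.exists_sl_conj (p := p) (by omega) _ xs hz (B * P) (hxs ▸ hg)
    refine ⟨Matrix.SpecialLinearGroup.toGL Q, MonoidHom.mem_ker.2 (Units.ext Q.2), ?_⟩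
    rw [Subgroup.mem_comap, map_mul, map_mul, map_inv, hxs] at hQ
    exact hQ

theorem symmetric_three : ∀ a : ZMod 3, ∀ b : ZMod 3, 0 + a + b = 0 →
    ∃ s : ZMod 3, ∃ σ ∈ [![0, 1, 2], ![1, 0, 2], ![2, 1, 0], ![0, 2, 1]],
      (∀ k : Fin 3, σ (σ k) = k) ∧ ∀ k : Fin 3, ![0, a, b] (σ k) + ![0, a, b] k = s := by
  decide +kernel

theorem symmetric_five : ∀ a b c : ZMod 5,
    ∃ s : ZMod 5, ∃ σ ∈ [![0, 1, 2, 3, 4], ![1, 0, 3, 2, 4], ![1, 0, 4, 3, 2], ![1, 0, 2, 4, 3], ![2, 3, 0, 1, 4],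
        ![2, 4, 0, 3, 1], ![2, 1, 0, 4, 3], ![3, 2, 1, 0, 4], ![3, 4, 2, 0, 1], ![3, 1, 4, 0, 2], ![4, 2, 1, 3, 0],
        ![4, 3, 2, 1, 0], ![4, 1, 3, 2, 0], ![0, 2, 1, 4, 3], ![0, 3, 4, 1, 2], ![0, 4, 3, 2, 1],
        ![1, 0, 2, 3, 4], ![2, 1, 0, 3, 4], ![3, 1, 2, 0, 4], ![4, 1, 2, 3, 0], ![0, 2, 1, 3, 4], ![0, 3, 2, 1, 4],
        ![0, 4, 2, 3, 1], ![0, 1, 3, 2, 4], ![0, 1, 4, 3, 2], ![0, 1, 2, 4, 3]],
      (∀ k : Fin 5, σ (σ k) = k) ∧
        ∀ k : Fin 5, ![0, a, b, c, -(a + b + c)] (σ k) + ![0, a, b, c, -(a + b + c)] k = s := by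
  decide +kernel

/-- Exponents summing to zero are symmetric about some centre, in three or five dimensions. -/
theorem exists_symmetry {r : ℕ} [NeZero r] (h35 : r = 3 ∨ r = 5) (e : Fin r → ZMod r) (he : ∑ k, e k = 0) :
    ∃ (s : ZMod r) (σ : Fin r → Fin r), (∀ k, σ (σ k) = k) ∧ ∀ k, e (σ k) + e k = s := by
  rcases h35 with rfl | rfl
  · have hs : 0 + (e 1 - e 0) + (e 2 - e 0) = 0 := by
      rw [Fin.sum_univ_three] at he
      have h3 : (3 : ZMod 3) = 0 := by decide
      linear_combination he - e 0 * h3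
    obtain ⟨s, σ, -, hσ, h⟩ := symmetric_three (e 1 - e 0) (e 2 - e 0) hs
    refine ⟨s + (e 0 + e 0), σ, hσ, fun k => ?_⟩
    have hk : ∀ k, e k = ![0, e 1 - e 0, e 2 - e 0] k + e 0 := fun k => by fin_cases k <;> simp
    rw [hk, hk k]
    linear_combination h k
  · have h5 : (5 : ZMod 5) = 0 := by decide
    obtain ⟨s, σ, -, hσ, h⟩ := symmetric_five (e 1 - e 0) (e 2 - e 0) (e 3 - e 0)
    refine ⟨s + (e 0 + e 0), σ, hσ, fun k => ?_⟩
    have hk : ∀ k, e k = ![0, e 1 - e 0, e 2 - e 0, e 3 - e 0,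
        -((e 1 - e 0) + (e 2 - e 0) + (e 3 - e 0))] k + e 0 := fun k => by
      rw [Fin.sum_univ_five] at he
      fin_cases k <;> simp
      linear_combination he - e 0 * h5
    rw [hk, hk k]
    linear_combination h k

include hp in
theorem positive_odd {q r : ℕ} (hq : Fintype.card F = q) (h2 : (2 : F) ≠ 0) [Fact r.Prime] (h35 : r = 3 ∨ r = 5)
    (hv : padicValNat r (q - 1) = 1) {R : QuadraticForm F (Fin r → F)} (hB : Nondeg R)
    (x : GL (Fin r) F) (hx : x ∈ Cfsg.Geo.specialLinear (Fin r) F) {z : F}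
    (hz : (x : Matrix (Fin r) (Fin r) F) ^ r = z • 1) :
    ∃ g ∈ Cfsg.Geo.specialLinear (Fin r) F, g⁻¹ * x * g ∈ Cfsg.Geo.quadSimilarityGroup ⇑R := by
  classical
  have hr : r.Prime := Fact.out
  have hN : q - 1 ≠ 0 := fun h => by rw [h] at hv; simp at hv
  have hrq : r ∣ q - 1 := dvd_of_one_le_padicValNat hv.ge
  have hrp : r ≠ p := by
    intro h
    obtain ⟨k, -, hk⟩ := FiniteField.card F p
    have h1 : r ∣ q := by rw [← hq, hk, h]; exact dvd_pow_self p k.ne_zero
    have h3 := Nat.dvd_sub h1 hrq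
    rw [Nat.sub_sub_self (by omega)] at h3
    exact hr.not_dvd_one h3
  have hr2 : r ≠ 2 := by omega
  have hodd : Odd r := hr.odd_of_ne_two hr2
  have hdet : (x : Matrix (Fin r) (Fin r) F).det = 1 := congrArg Units.val (MonoidHom.mem_ker.1 hx)
  obtain ⟨b, hb⟩ := Lin.exists_power_of_dim_eq (p := p) hr hr2 _ hdet hz
  have hzr : z ^ r = 1 := by
    have := congrArg Matrix.det hz
    rw [Matrix.det_pow, hdet, one_pow, Matrix.det_smul, Matrix.det_one, mul_one, Fintype.card_fin] at this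
    exact this.symm
  have hb0 : b ≠ 0 := fun h => by
    rw [← hb, h, ← pow_mul, zero_pow (Nat.mul_ne_zero hr.ne_zero hr.ne_zero)] at hzr
    exact zero_ne_one hzr
  have hbr : b ^ r = 1 := by
    rw [← orderOf_dvd_iff_pow_eq_one]
    have h1 : orderOf b ∣ r ^ 2 := orderOf_dvd_of_pow_eq_one (by rw [sq, pow_mul, hb, hzr])
    have h3 : orderOf b ∣ q - 1 := orderOf_dvd_of_pow_eq_one (hq ▸ FiniteField.pow_card_sub_one_eq_one b hb0)
    obtain ⟨t, ht, he⟩ := (Nat.dvd_prime_pow hr).1 h1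
    rw [he] at h3 ⊢
    have : t ≤ 1 := hv ▸ (padicValNat_dvd_iff_le hN).1 h3
    exact (pow_dvd_pow r this).trans (dvd_of_eq (pow_one r))
  obtain ⟨B, d, hd, hXB⟩ := Lin.exists_diagonal (p := p) hq hr hrp hrq (x : Matrix (Fin r) (Fin r) F)
    (by rw [hz, ← hb, hbr, one_smul])
  obtain ⟨ζ, hζ0, hζr, hζd⟩ := Lin.exists_root_of_unity hq hr hrq
  have hprim : IsPrimitiveRoot ζ r := ⟨hζr, hζd⟩
  choose ex hexlt hex using fun k => hprim.eq_pow_of_pow_eq_one (hd k)
  let e : Fin r → ZMod r := fun k => (ex k : ZMod r)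
  have hsum : ∑ k, e k = 0 := by
    have hdd := congrArg Matrix.det hXB
    rw [Matrix.det_mul, Matrix.det_mul, hdet, Matrix.det_diagonal, one_mul] at hdd
    have hBd : (B : Matrix (Fin r) (Fin r) F).det ≠ 0 := (Matrix.GeneralLinearGroup.det B).ne_zero
    have hp1 : ∏ k, d k = 1 := mul_left_cancel₀ hBd (by rw [mul_one]; exact hdd.symm)
    simp only [← hex, Finset.prod_pow_eq_pow_sum] at hp1
    simp only [e, ← Nat.cast_sum]
    exact (ZMod.natCast_eq_zero_iff _ _).2 (hζd _ hp1)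
  obtain ⟨s, σ, hσ, hs⟩ := exists_symmetry h35 e hsum
  have hcd : ∀ k, d (σ k) * d k = ζ ^ s.val := by
    intro k
    rw [← hex, ← hex, ← pow_add]
    have hu : IsUnit ζ := isUnit_iff_ne_zero.2 hζ0
    obtain ⟨u, rfl⟩ := hu
    rw [← Units.val_pow_eq_pow_val, ← Units.val_pow_eq_pow_val]
    refine congrArg Units.val (pow_eq_pow_iff_modEq.2 ?_)
    rw [← orderOf_units, ← hprim.eq_orderOf, ← ZMod.natCast_eq_natCast_iff, Nat.cast_add, ZMod.natCast_val, ZMod.cast_id]
    exact hs k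
  let H : Matrix (Fin r) (Fin r) F := Matrix.of fun k l => if σ k = l then 1 else 0
  have hHs : Hᵀ = H := by
    ext k l
    simp only [Matrix.transpose_apply, H, Matrix.of_apply]
    by_cases h : σ k = l
    · rw [if_pos h, if_pos (h ▸ hσ k)]
    · rw [if_neg h, if_neg fun h' => h ((congrArg σ h').symm.trans (hσ l))]
  have hHH : H * H = 1 := by
    ext k l
    simp only [Matrix.mul_apply, H, Matrix.one_apply, Matrix.of_apply]
    rw [Finset.sum_eq_single (σ k) (fun j _ hj => by simp [Ne.symm hj]) (by simp)]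
    simp [hσ]
  have hHd : H.det ≠ 0 := fun h => by
    have := congrArg Matrix.det hHH
    rw [Matrix.det_mul, h, zero_mul, Matrix.det_one] at this
    exact zero_ne_one this
  have hM : (Matrix.diagonal d)ᵀ * H * Matrix.diagonal d = (ζ ^ s.val) • H := by
    ext k l
    rw [Matrix.diagonal_transpose, Matrix.mul_diagonal, Matrix.diagonal_mul, Matrix.smul_apply, smul_eq_mul]
    simp only [H, Matrix.of_apply]
    split_ifs with h
    · subst h; rw [mul_one, mul_one, mul_comm]; exact hcd k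
    · simp
  obtain ⟨P, l, hl, hP⟩ := exists_congr_odd h2 hodd hB H hHs hHd
  exact Lin.exists_special_conj hr.pos hXB (sim_conj h2 hXB hM (pow_ne_zero _ hζ0) hl hP)


/-- Elements of prime order of PSL_n(q), q odd, and the subgroups of orthogonal type. Here `T = PSL_n(F)` for a field `F` with `q` elements, `q` odd, `n ≥ 3`; `Q` is a non-degenerate quadratic form on `F^n` (of either type when `n` is even) and `H` is the subgroup of matrices of determinant 1 that preserve `Q` up to a scalar — a subgroup of type O^ε_n(q) (maximality is not assumed); Ω is the set of cosets of `H` in `T`, so an element of `T` of prime order `r` (a matrix `x` of determinant 1 with `x^r` scalar, `x` not scalar) fixes a point of Ω exactly when some conjugate of `x` by a matrix of determinant 1 preserves `Q` up to a scalar. Let `r` be a prime dividing the index of `H`, with `(n, r) ≠ (6, 3)`. Then every element of `T` of order `r` fixes a point of Ω if and only if `r =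 2`, or `r ∈ {3, 5}`, `n = r` and `(q − 1)_r = r` (the `r`-part of `q − 1` is exactly `r`). The case `(n, r) = (6, 3)` is not covered by this statement. -/
theorem result {F : Type*} [Field F] [Fintype F] {p : ℕ} [Fact p.Prime] [CharP F p] {q : ℕ} (hq : Fintype.card F = q)
    (hodd : Odd q) (n : ℕ) (hn : 3 ≤ n) (Q : (Fin n → F) → F) (hQ : Cfsg.Geo.IsNondegenerateQuadraticForm Q)
    (r : ℕ) [Fact r.Prime] (hgap : ¬ (n = 6 ∧ r = 3))
    (hΩ : r ∣ (Cfsg.Geo.quadSimilarityGroup Q).relIndex (Cfsg.Geo.specialLinear (Fin n) F)) :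
    (∀ x ∈ Cfsg.Geo.specialLinear (Fin n) F, (∃ z : F, ((x ^ r : GL (Fin n) F) : Matrix (Fin n) (Fin n) F) = z • (1 : Matrix (Fin n) (Fin n) F)) →
      (∀ z : F, (x : Matrix (Fin n) (Fin n) F) ≠ z • (1 : Matrix (Fin n) (Fin n) F)) →
      ∃ g ∈ Cfsg.Geo.specialLinear (Fin n) F, g⁻¹ * x * g ∈ Cfsg.Geo.quadSimilarityGroup Q) ↔
    (r = 2 ∨ ((r = 3 ∨ r = 5) ∧ n = r ∧ padicValNat r (q - 1) = 1)) := by
  have h2 := two_ne_zero_of_odd hq hodd
  obtain ⟨R, rfl, hB⟩ := CfsgLib.Orth.exists_quadForm hQ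
  have hr : r.Prime := Fact.out
  constructor
  · intro h
    by_contra hcond
    obtain ⟨hr2, hcond⟩ := not_or.1 hcond
    by_cases hrp : r = p
    · subst hrp
      exact case_transvection h2 hn hB h
    obtain ⟨hi0, -, hi1⟩ := CfsgLib.Derange.orderOf_mod (p := p) hq hr hrp
    by_cases hrq : r ∣ q - 1
    · exact case_split (p := p) hq h2 hr hr2 hB hn hgap hrq hcond h
    have h2i : 2 ≤ orderOf (q : ZMod r) := by
      by_contra h'
      exact hrq (hi1.1 (by omega))
    rcases Nat.even_or_odd (orderOf (q : ZMod r)) with he | ho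
    · exact case_even (p := p) hq h2 hr hr2 hrp hB hn he h2i hΩ h
    · refine case_odd (p := p) hq h2 hr hr2 hrp hB ho h2i ?_ h
      have hd : r ∣ Nat.card (GL (Fin n) F) :=
        (hΩ.trans (Subgroup.relIndex_dvd_card _ _)).trans (Subgroup.card_subgroup_dvd_card _)
      rw [card_gl q hq] at hd
      obtain ⟨t, ht, hd⟩ := (Prime.dvd_finsetProd_iff hr.prime _).1 ((hr.dvd_mul.1 hd).resolve_left fun h' =>
        (CfsgLib.Derange.not_dvd_card (p := p) hq hr hrp).1 (hr.dvd_of_dvd_pow h'))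
      have h1 := (ZMod.natCast_eq_zero_iff _ _).2 hd
      rw [Nat.cast_sub (Nat.one_le_pow _ _ (hq ▸ Fintype.card_pos)), Nat.cast_pow, Nat.cast_one, sub_eq_zero] at h1
      exact (orderOf_le_of_pow_eq_one (by omega) h1).trans (by have := Finset.mem_range.1 ht; omega)
  · rintro (rfl | ⟨h35, hnr, hv⟩) x hx ⟨z, hz⟩ -
    · rw [Units.val_pow_eq_pow_val] at hz
      exact positive_two (p := p) hq hodd hn hB x hx hz
    · subst hnr
      rw [Units.val_pow_eq_pow_val] at hz
      exact positive_odd (p := p) hq h2 h35 hv hB x hx hz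

end Cfsg.Agent.S5981
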