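import Cfsg.Statements.S5982
import Cfsg.Agent.Lib.Derange.LinearGroups
import Cfsg.Agent.Lib.Derange.SymmetricExponents
import Cfsg.Agent.Lib.Derange.Monomial
import Cfsg.Agent.Lib.Derange.InvolutionConj
import Cfsg.Agent.Lib.Derange.Window
import Cfsg.Agent.Lib.Derange.Count
import Cfsg.Agent.Lib.Classical.LinearHerm
import Cfsg.Agent.Lib.Classical.UnitaryOrder

set_option autoImplicit false
set_option linter.style.haveILetI false
set_option linter.unusedSectionVars false
open scoped MatrixGroups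
open Cfsg

namespace Cfsg.Agent.S5982

open Module Matrix Polynomial CfsgLib.Derange
open CfsgLib.ClassicalAut (Unitary.Conj)

universe u

variable {F : Type u} [Field F] [Fintype F] {p : ℕ} [hp : Fact p.Prime] [CharP F p] {n q₀ : ℕ}
  (K : CfsgLib.ClassicalAut.Unitary.Conj F q₀)

local notation "S₀" => Cfsg.Geo.similarityGroup (Cfsg.hermForm n F q₀)

/-- The conjugate matrix. -/
def mbar (M : Matrix (Fin n) (Fin n) F) : Matrix (Fin n) (Fin n) F := M.map K.bar

theorem mbar_mul (M N : Matrix (Fin n) (Fin n) F) : mbar K (M * N) = mbar K M * mbar K N :=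
  Matrix.map_mul (f := K.bar.toRingHom)

theorem mbar_one : mbar K (1 : Matrix (Fin n) (Fin n) F) = 1 :=
  Matrix.map_one _ (map_zero K.bar) (map_one K.bar)

theorem mbar_smul (c : F) (M : Matrix (Fin n) (Fin n) F) : mbar K (c • M) = K.bar c • mbar K M := by
  ext i j; simp [mbar]

theorem herm_matrix (A : Matrix (Fin n) (Fin n) F) (u v : Fin n → F) :
    Cfsg.hermForm n F q₀ (A *ᵥ u) (A *ᵥ v) = u ⬝ᵥ ((Aᵀ * mbar K A) *ᵥ fun k => K.bar (v k)) := by
  rw [CfsgLib.ClassicalAut.Unitary.herm_apply K, ← Matrix.mulVec_mulVec, Matrix.dotProduct_mulVec,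
    Matrix.vecMul_transpose]
  refine Finset.sum_congr rfl fun i _ => ?_
  congr 1
  simp [mbar, mulVec, dotProduct, map_sum]

theorem mem_sim_iff (g : GL (Fin n) F) :
    g ∈ S₀ ↔ ∃ c : F, c ≠ 0 ∧
      (g : Matrix (Fin n) (Fin n) F)ᵀ * mbar K (g : Matrix (Fin n) (Fin n) F) = c • 1 := by
  constructor
  · rintro ⟨c, hc⟩
    refine ⟨c, c.ne_zero, ?_⟩
    ext i j
    have h := hc (Pi.single i 1) (Pi.single j 1)
    have hb : (fun k => K.bar ((Pi.single j (1 : F) : Fin n → F) k)) = Pi.single j 1 := by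
      funext k
      rcases eq_or_ne k j with rfl | hk <;> simp [*]
    rw [herm_matrix K, hb, single_dotProduct, one_mul, mulVec_single_one, Matrix.col_apply] at h
    rw [h, CfsgLib.ClassicalAut.Unitary.herm_apply K, Matrix.smul_apply, smul_eq_mul, Matrix.one_apply]
    congr 1
    rw [Finset.sum_eq_single i (fun k _ hk => by simp [hk]) (by simp), Pi.single_eq_same, one_mul]
    rcases eq_or_ne i j with rfl | hij <;> simp [*]
  · rintro ⟨c, hc0, hc⟩
    refine ⟨Units.mk0 c hc0, fun u v => ?_⟩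
    rw [herm_matrix K, hc, Units.val_mk0, Matrix.smul_mulVec, Matrix.one_mulVec, dotProduct_smul, smul_eq_mul,
      CfsgLib.ClassicalAut.Unitary.herm_apply K]
    rfl

/-- The multiplier is fixed by the conjugation. -/
theorem bar_multiplier (hn : 0 < n) {M : Matrix (Fin n) (Fin n) F} {c : F} (h : Mᵀ * mbar K M = c • 1) :
    K.bar c = c := by
  have h1 := congrFun (congrFun h ⟨0, hn⟩) ⟨0, hn⟩
  simp only [mbar, Matrix.mul_apply, Matrix.transpose_apply, Matrix.map_apply, Matrix.smul_apply,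
    Matrix.one_apply_eq, smul_eq_mul, mul_one] at h1
  rw [← h1, map_sum]
  exact Finset.sum_congr rfl fun k _ => by rw [map_mul, K.bar_bar, mul_comm]

theorem fixed_pow {c : F} (hc : K.bar c = c) (hc0 : c ≠ 0) : c ^ (q₀ - 1) = 1 := by
  have h := K.bar_apply c
  rw [hc] at h
  refine mul_left_cancel₀ hc0 ?_
  rw [← pow_succ', mul_one, Nat.sub_add_cancel (Nat.one_le_iff_ne_zero.2 ?_), ← h]
  intro h0
  have := K.card
  rw [h0] at this
  exact absurd this (by simpa using Nat.card_pos.ne')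

theorem bar_root {r : ℕ} (hq0 : r ∣ q₀ - 1) {ζ : F} (h : ζ ^ r = 1) : K.bar ζ = ζ := by
  obtain ⟨t, ht⟩ := hq0
  have h2 := K.two_le
  rw [K.bar_apply]
  calc ζ ^ q₀ = ζ ^ (r * t + 1) := by rw [show q₀ = r * t + 1 by omega]
    _ = ζ := by rw [pow_succ, pow_mul, h, one_pow, one_mul]

theorem exists_congr_one (H : Matrix (Fin n) (Fin n) F) (hs : (mbar K H)ᵀ = H) (hd : H.det ≠ 0) :
    ∃ P : GL (Fin n) F,
      (P : Matrix (Fin n) (Fin n) F)ᵀ * H * mbar K (P : Matrix (Fin n) (Fin n) F) = 1 := by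
  classical
  let f : (Fin n → F) → (Fin n → F) → F := fun u v => u ⬝ᵥ (H *ᵥ fun k => K.bar (v k))
  have hherm : ∀ v w, f v w = K.bar (f w v) := by
    intro v w
    have h1 : K.bar (f w v) = (fun k => K.bar (w k)) ⬝ᵥ (mbar K H *ᵥ v) := by
      simp only [f, dotProduct, mulVec, map_sum, map_mul, mbar, Matrix.map_apply, K.bar_bar]
    rw [h1, Matrix.dotProduct_mulVec, ← Matrix.mulVec_transpose, hs, dotProduct_comm]
  have hHu : Function.Injective fun u => H *ᵥ u :=
    Matrix.mulVec_injective_iff_isUnit.2 ((Matrix.isUnit_iff_isUnit_det _).2 (isUnit_iff_ne_zero.2 hd))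
  have hf : Cfsg.Geo.IsUnitaryForm K.bar f := by
    refine ⟨?_, K.bar_bar, fun x y v => add_dotProduct _ _ _, fun c x v => smul_dotProduct c x _, hherm, ?_⟩
    · intro h
      obtain ⟨y, hy⟩ := K.exists_moved
      exact hy (by rw [h]; rfl)
    · intro v hv
      have h1 : ∃ x, f x v ≠ 0 := by
        have hne : H *ᵥ (fun k => K.bar (v k)) ≠ 0 := by
          intro h0
          have h1 : (fun k => K.bar (v k)) = 0 := hHu (by simp only [h0, Matrix.mulVec_zero])
          exact hv (funext fun k => K.bar.injective (by rw [congrFun h1 k]; simp))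
        obtain ⟨k, hk⟩ := Function.ne_iff.1 hne
        exact ⟨Pi.single k 1, by simp only [f, single_dotProduct, one_mul]; exact hk⟩
      obtain ⟨x, hx⟩ := h1
      exact ⟨⟨x, hx⟩, x, by rw [hherm]; exact fun h0 => hx (K.bar.injective (by rw [h0, map_zero]))⟩
  obtain ⟨q', ⟨K'⟩, P, hP⟩ := CfsgLib.Classical.HermSim.exists_coord K.bar f hf
  have hq' : q' = q₀ := Nat.pow_left_injective two_ne_zero (K'.card.symm.trans K.card)
  subst hq'
  refine ⟨P, ?_⟩
  ext i j
  have h := hP (Pi.single i 1) (Pi.single j 1)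
  have e1 : f ((P : Matrix (Fin n) (Fin n) F) *ᵥ Pi.single i 1) ((P : Matrix (Fin n) (Fin n) F) *ᵥ Pi.single j 1) =
      ((P : Matrix (Fin n) (Fin n) F)ᵀ * H * mbar K (P : Matrix (Fin n) (Fin n) F)) i j := by
    simp only [f, mulVec_single_one, Matrix.col_apply, mbar, Matrix.mul_apply, Matrix.transpose_apply,
      Matrix.map_apply, dotProduct, mulVec, Finset.sum_mul, Finset.mul_sum]
    rw [Finset.sum_comm]
    simp only [mul_assoc]
  rw [← e1, h, CfsgLib.ClassicalAut.Unitary.herm_apply K,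
    Finset.sum_eq_single i (fun k _ hk => by simp [hk]) (by simp), Pi.single_eq_same, one_mul, Matrix.one_apply]
  rcases eq_or_ne i j with rfl | hij <;> simp [*]

theorem sim_conj {x B P : GL (Fin n) F} {M H : Matrix (Fin n) (Fin n) F} {c : F}
    (hxB : (x : Matrix (Fin n) (Fin n) F) * (B : Matrix (Fin n) (Fin n) F) = (B : Matrix (Fin n) (Fin n) F) * M)
    (hM : Mᵀ * H * mbar K M = c • H) (hc : c ≠ 0)
    (hP : (P : Matrix (Fin n) (Fin n) F)ᵀ * H * mbar K (P : Matrix (Fin n) (Fin n) F) = 1) :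
    (B * P)⁻¹ * x * (B * P) ∈ S₀ := by
  rw [mem_sim_iff K]
  refine ⟨c, hc, ?_⟩
  set Pm := (P : Matrix (Fin n) (Fin n) F)
  set Pi' := ((P⁻¹ : GL (Fin n) F) : Matrix (Fin n) (Fin n) F)
  have hN : (((B * P)⁻¹ * x * (B * P) : GL (Fin n) F) : Matrix (Fin n) (Fin n) F) = Pi' * M * Pm := by
    rw [_root_.mul_inv_rev, Units.val_mul, Units.val_mul, Units.val_mul]
    simp only [Units.val_mul, Matrix.mul_assoc]
    rw [← Matrix.mul_assoc (x : Matrix (Fin n) (Fin n) F), hxB, Matrix.mul_assoc, Units.inv_mul_cancel_left]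
  have hPP : Pm * Pi' = 1 := Units.mul_inv P
  rw [hN]
  calc (Pi' * M * Pm)ᵀ * mbar K (Pi' * M * Pm)
      = (Pi' * M * Pm)ᵀ * (Pmᵀ * H * mbar K Pm) * mbar K (Pi' * M * Pm) := by rw [hP, Matrix.mul_one]
    _ = Pmᵀ * (Mᵀ * ((Pm * Pi')ᵀ * H * mbar K (Pm * Pi')) * mbar K M) * mbar K Pm := by
        simp only [Matrix.transpose_mul, mbar_mul, Matrix.mul_assoc]
    _ = c • 1 := by
        rw [hPP, Matrix.transpose_one, Matrix.one_mul, mbar_one, Matrix.mul_one, hM, Matrix.mul_smul, Matrix.smul_mul,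
          hP]

/-- Diagonal elements in the similarity group have symmetric spectrum. -/
theorem spectrum_symm [DecidableEq F] {g x : GL (Fin n) F} {d : Fin n → F}
    (hx : (x : Matrix (Fin n) (Fin n) F) = Matrix.diagonal d) (hg : g⁻¹ * x * g ∈ S₀) :
    ∃ c : F, c ≠ 0 ∧ ∀ t : F, (Finset.univ.filter fun k => d k = t).card =
      (Finset.univ.filter fun k => c / K.bar (d k) = t).card := by
  obtain ⟨c, hc, hN⟩ := (mem_sim_iff K _).1 hg
  have hd0 : ∀ k, d k ≠ 0 := by
    intro k h0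
    have h1 := (Matrix.isUnit_iff_isUnit_det _).1 x.isUnit
    rw [hx, Matrix.det_diagonal, Finset.prod_eq_zero (Finset.mem_univ k) h0] at h1
    exact not_isUnit_zero h1
  refine ⟨c, hc, fun t => Lin.card_eq_of_map_eq (Lin.map_eq_of_charpoly ?_) t⟩
  set N := ((g⁻¹ * x * g : GL (Fin n) F) : Matrix (Fin n) (Fin n) F) with hNdef
  set gm := (g : Matrix (Fin n) (Fin n) F) with hgm
  set gi := ((g⁻¹ : GL (Fin n) F) : Matrix (Fin n) (Fin n) F) with hgi
  set N' := mbar K gi * Matrix.diagonal (fun k => c / K.bar (d k)) * mbar K gm with hN'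
  have hNeq : N = gi * Matrix.diagonal d * gm := by rw [hNdef, Units.val_mul, Units.val_mul, hx]
  have hmg : mbar K gm * mbar K gi = 1 := by
    rw [← mbar_mul, show gm * gi = 1 from Units.mul_inv g, mbar_one]
  have hgg : mbar K gi * mbar K gm = 1 := by
    rw [← mbar_mul, show gi * gm = 1 from Units.inv_mul g, mbar_one]
  have hNN : mbar K N * N' = c • 1 := by
    calc mbar K N * N' = mbar K gi * (mbar K (Matrix.diagonal d) * (mbar K gm * mbar K gi) *
          Matrix.diagonal (fun k => c / K.bar (d k))) * mbar K gm := by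
          simp only [hNeq, N', mbar_mul, Matrix.mul_assoc]
      _ = c • 1 := by
          rw [hmg, Matrix.mul_one,
            show mbar K (Matrix.diagonal d) = Matrix.diagonal (fun k => K.bar (d k)) from Matrix.diagonal_map (map_zero K.bar),
            Matrix.diagonal_mul_diagonal,
            show (fun k => K.bar (d k) * (c / K.bar (d k))) = fun _ => c from
              funext fun k => mul_div_cancel₀ c ((map_ne_zero K.bar).2 (hd0 k)),
            ← Matrix.smul_one_eq_diagonal, Matrix.mul_smul, Matrix.smul_mul, Matrix.mul_one, hgg]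
  have h1 : Nᵀ = N' := by
    refine smul_right_injective _ hc ?_
    show c • Nᵀ = c • N'
    calc c • Nᵀ = Nᵀ * (mbar K N * N') := by rw [hNN, Matrix.mul_smul, Matrix.mul_one]
      _ = c • N' := by rw [← Matrix.mul_assoc, hN, Matrix.smul_mul, Matrix.one_mul]
  have h4 := congrArg Matrix.charpoly h1
  let G : GL (Fin n) F := ⟨mbar K gm, mbar K gi, hmg, hgg⟩
  have e1 : N' = ((G⁻¹ : GL (Fin n) F) : Matrix (Fin n) (Fin n) F) * Matrix.diagonal (fun k => c / K.bar (d k)) *
      (G : Matrix (Fin n) (Fin n) F) := rfl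
  rw [Matrix.charpoly_transpose, hNeq, e1, Matrix.coe_units_inv, Matrix.charpoly_units_conj'] at h4
  simp only [hgi, hgm, Matrix.coe_units_inv, Matrix.charpoly_units_conj'] at h4
  exact h4

include hp K in
theorem index_data {q r : ℕ} (hq : Fintype.card F = q) (hn : 3 ≤ n) (hr : r.Prime) (hrp : r ≠ p)
    (hΩ : r ∣ (S₀).relIndex (Cfsg.Geo.specialLinear (Fin n) F)) :
    ∃ j, 2 ≤ j ∧ j ≤ n ∧ (q₀ : ZMod r) ^ j = -(-1) ^ j := by
  classical
  haveI := Fact.mk hr
  set SL := Cfsg.Geo.specialLinear (Fin n) F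
  set U := Cfsg.GU n F q₀
  have h2 := K.two_le
  have hqq : q = q₀ ^ 2 := by rw [← hq, ← Nat.card_eq_fintype_card, K.card]
  let φ : U →* Fˣ := (Matrix.GeneralLinearGroup.det).comp U.subtype
  have hrange : Nat.card φ.range ∣ q₀ + 1 := by
    rw [← IsCyclic.exponent_eq_card]
    refine Monoid.exponent_dvd_of_forall_pow_eq_one fun u => ?_
    obtain ⟨_, ⟨⟨g, hg⟩, rfl⟩⟩ := u
    refine Subtype.ext (Units.ext ?_)
    obtain ⟨c, -, hc⟩ := (mem_sim_iff K g).1 ⟨1, fun v w => by rw [Units.val_one, one_mul]; exact hg v w⟩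
    have hc1 : (g : Matrix (Fin n) (Fin n) F)ᵀ * mbar K (g : Matrix (Fin n) (Fin n) F) = 1 := by
      ext i j
      have h := hg (Pi.single i 1) (Pi.single j 1)
      simp only [Units.coeHom_apply] at h
      have hb : (fun k => K.bar ((Pi.single j (1 : F) : Fin n → F) k)) = Pi.single j 1 := by
        funext k
        rcases eq_or_ne k j with rfl | hk <;> simp [*]
      rw [herm_matrix K, hb, single_dotProduct, one_mul, mulVec_single_one, Matrix.col_apply] at h
      rw [h, CfsgLib.ClassicalAut.Unitary.herm_apply K,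
        Finset.sum_eq_single i (fun k _ hk => by simp [hk]) (by simp), Pi.single_eq_same, one_mul, Matrix.one_apply]
      rcases eq_or_ne i j with rfl | hij <;> simp [*]
    have hd := congrArg Matrix.det hc1
    rw [Matrix.det_mul, Matrix.det_transpose, Matrix.det_one, mbar,
      show ((g : Matrix (Fin n) (Fin n) F).map K.bar).det = K.bar (g : Matrix (Fin n) (Fin n) F).det from
        ((K.bar : F →+* F).map_det _).symm, K.bar_apply] at hd
    show ((φ ⟨g, hg⟩ ^ (q₀ + 1) : Fˣ) : F) = 1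
    rw [Units.val_pow_eq_pow_val]
    show (g : Matrix (Fin n) (Fin n) F).det ^ (q₀ + 1) = 1
    rw [pow_succ']
    exact hd
  have hker : Nat.card φ.ker ∣ Nat.card ↥(S₀ ⊓ SL) := by
    rw [Nat.card_congr (φ.ker.equivMapOfInjective U.subtype U.subtype_injective).toEquiv]
    refine Subgroup.card_dvd_of_le ?_
    rintro _ ⟨⟨g, hg⟩, hk, rfl⟩
    exact ⟨⟨1, fun v w => by rw [Units.val_one, one_mul]; exact hg v w⟩, hk⟩
  have hU : Nat.card U ∣ (q₀ + 1) * Nat.card ↥(S₀ ⊓ SL) := by
    rw [← φ.ker.card_mul_index, Subgroup.index_ker, mul_comm (q₀ + 1)]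
    exact mul_dvd_mul hker hrange
  have hmul : Nat.card ↥(S₀ ⊓ SL) * (S₀).relIndex SL = Nat.card SL := by
    rw [← Subgroup.inf_relIndex_right (S₀) SL, Subgroup.relIndex, ← Nat.card_congr
      (Subgroup.subgroupOfEquivOfLe (inf_le_right : S₀ ⊓ SL ≤ SL)).toEquiv, Subgroup.card_mul_index]
  have hsurj : Function.Surjective (Matrix.GeneralLinearGroup.det : GL (Fin n) F →* Fˣ) := by
    intro a
    let δ : Fin n → F := Function.update 1 ⟨0, by omega⟩ (a : F)
    have hδ : (Matrix.diagonal δ).det = a := by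
      rw [Matrix.det_diagonal, Finset.prod_update_of_mem (Finset.mem_univ _)]
      simp
    obtain ⟨D, hD⟩ : IsUnit (Matrix.diagonal δ) := (Matrix.isUnit_iff_isUnit_det _).2
      (by rw [hδ]; exact a.isUnit)
    exact ⟨D, Units.ext (by rw [Matrix.GeneralLinearGroup.val_det_apply, hD, hδ])⟩
  have hGL : Nat.card SL * (q - 1) = Nat.card (GL (Fin n) F) := by
    rw [← (Matrix.GeneralLinearGroup.det : GL (Fin n) F →* Fˣ).ker.card_mul_index, Subgroup.index_ker,
      MonoidHom.range_eq_top.2 hsurj, Subgroup.card_top, Nat.card_eq_fintype_card (α := Fˣ), Fintype.card_units, hq]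
    rfl
  have hfr := frames_eq q (le_refl n)
  rw [Nat.sub_self, show qFac q 0 = 1 from rfl, mul_one] at hfr
  have hbound : r * Nat.card U * ((q₀ - 1) * (q₀ + 1)) ∣ (q₀ + 1) * Nat.card (GL (Fin n) F) := by
    rw [show (q₀ - 1) * (q₀ + 1) = q - 1 by rw [hqq, mul_comm, ← Nat.sq_sub_sq, one_pow], ← hGL, ← hmul]
    calc r * Nat.card U * (q - 1) ∣ (S₀).relIndex SL * ((q₀ + 1) * Nat.card ↥(S₀ ⊓ SL)) * (q - 1) :=
          mul_dvd_mul_right (mul_dvd_mul hΩ hU) _
      _ = _ := by ring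
  rw [CfsgLib.Classical.Herm.card_GU K, Matrix.card_GL_field, hq, hfr] at hbound
  obtain ⟨n', rfl⟩ : ∃ n', n = n' + 1 := ⟨n - 1, by omega⟩
  set A := ∏ i ∈ Finset.range (n' + 1), (if Even i then q₀ ^ (i + 1) + 1 else q₀ ^ (i + 1) - 1) with hA
  set B := ∏ i ∈ Finset.range n', (if Even (i + 1) then q₀ ^ (i + 1 + 1) - 1 else q₀ ^ (i + 1 + 1) + 1)
  have hfac : qFac q (n' + 1) = A * ((q₀ - 1) * B) := by
    have e0 : (q₀ - 1) * B =
        ∏ i ∈ Finset.range (n' + 1), (if Even i then q₀ ^ (i + 1) - 1 else q₀ ^ (i + 1) + 1) := by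
      rw [Finset.prod_range_succ', mul_comm]
      simp only [Even.zero, if_true, zero_add, pow_one]
      rfl
    rw [e0, qFac, hA, ← Finset.prod_mul_distrib]
    refine Finset.prod_congr rfl fun i _ => ?_
    have : q ^ (i + 1) - 1 = (q₀ ^ (i + 1) + 1) * (q₀ ^ (i + 1) - 1) := by
      rw [← Nat.sq_sub_sq, hqq, one_pow, ← pow_mul, ← pow_mul, mul_comm]
    split_ifs <;> rw [this]
    rw [mul_comm]
  rw [hfac] at hbound
  have hA0 : 0 < A := by
    refine Finset.prod_pos fun i _ => ?_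
    split_ifs
    · omega
    · exact Nat.sub_pos_of_lt (Nat.one_lt_pow (by omega) (by omega))
  have h1 : r * q₀ ^ ((n' + 1) * (n' + 1 - 1) / 2) ∣ q ^ (∑ j ∈ Finset.range (n' + 1), j) * B := by
    refine Nat.dvd_of_mul_dvd_mul_left
      (Nat.mul_pos (Nat.mul_pos hA0 (by omega : 0 < q₀ - 1)) (by omega : 0 < q₀ + 1)) ?_
    exact (dvd_of_eq (by ring)).trans (hbound.trans (dvd_of_eq (by ring)))
  obtain ⟨hrq, -⟩ := CfsgLib.Derange.not_dvd_card (p := p) hq hr hrp
  obtain ⟨i, hi, hd⟩ := (Prime.dvd_finsetProd_iff hr.prime _).1 ((hr.dvd_mul.1 ((dvd_mul_right r _).trans h1)).resolve_left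
    fun h => hrq (hr.dvd_of_dvd_pow h))
  refine ⟨i + 1 + 1, by omega, by have := Finset.mem_range.1 hi; omega, ?_⟩
  rw [pow_succ (-1 : ZMod r) (i + 1), mul_neg_one, neg_neg]
  have hd' := (ZMod.natCast_eq_zero_iff _ _).2 hd
  split_ifs at hd' with he
  · rw [Nat.cast_sub (Nat.one_le_pow _ _ (by omega)), Nat.cast_pow, Nat.cast_one, sub_eq_zero] at hd'
    rw [he.neg_one_pow, hd']
  · rw [Nat.cast_add, Nat.cast_pow, Nat.cast_one, ← eq_neg_iff_add_eq_zero] at hd'
    rw [(Nat.not_even_iff_odd.1 he).neg_one_pow, hd']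

/-- No odd power of `q₀` is `-1` modulo `r`. -/
theorem no_twist {r : ℕ} [Fact r.Prime] (hr2 : r ≠ 2) {a j e : ℕ} (hj : (a : ZMod r) ^ j = -(-1) ^ j) (he : Odd e) :
    (a : ZMod r) ^ e ≠ -1 := by
  intro h
  have hr : r.Prime := Fact.out
  haveI : Fact (2 < r) := ⟨lt_of_le_of_ne hr.two_le (Ne.symm hr2)⟩
  have h1 : (-(-1 : ZMod r) ^ j) ^ e = (-1 : ZMod r) ^ j := by
    rw [← hj, ← pow_mul, mul_comm, pow_mul, h]
  rw [he.neg_pow, ← pow_mul, mul_comm j, pow_mul, he.neg_one_pow] at h1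
  rcases Nat.even_or_odd j with hje | hjo
  · rw [hje.neg_one_pow] at h1; exact ZMod.neg_one_ne_one h1
  · rw [hjo.neg_one_pow, neg_neg] at h1; exact ZMod.neg_one_ne_one h1.symm

include hp K in
theorem case_block {q r : ℕ} (hq : Fintype.card F = q) (hr : r.Prime) (hrp : r ≠ p)
    (h2i : 2 ≤ orderOf (q : ZMod r)) (hin : orderOf (q : ZMod r) ≤ n)
    (hno : ∀ e : ℕ, Odd e → (q₀ : ZMod r) ^ e ≠ -1)
    (h : ∀ x ∈ Cfsg.Geo.specialLinear (Fin n) F,
      (∃ z : F, ((x ^ r : GL (Fin n) F) : Matrix (Fin n) (Fin n) F) = z • (1 : Matrix (Fin n) (Fin n) F)) →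
      (∀ z : F, (x : Matrix (Fin n) (Fin n) F) ≠ z • (1 : Matrix (Fin n) (Fin n) F)) →
      ∃ g ∈ Cfsg.Geo.specialLinear (Fin n) F, g⁻¹ * x * g ∈ S₀) : False := by
  classical
  haveI := Fact.mk hr
  set i := orderOf (q : ZMod r) with hidef
  obtain ⟨X, P, hdet, hXr, hns, hPi, hPm, hPd, hcp⟩ := Lin.exists_block_element (p := p) hq hr hrp h2i hin
  obtain ⟨g, x, hx, hg⟩ := Lin.conj_of_all h X hdet (z := 1) (by rw [hXr, one_smul]) hns
  have hrq : ¬ r ∣ q - 1 := fun h' => by
    have := (CfsgLib.Derange.orderOf_mod (p := p) hq hr hrp).2.2.2 h'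
    omega
  have h2 := K.two_le
  have hqq : q = q₀ ^ 2 := by rw [← hq, ← Nat.card_eq_fintype_card, K.card]
  set N := ((g⁻¹ * x * g : GL (Fin n) F) : Matrix (Fin n) (Fin n) F) with hNdef
  have hNr : N ^ r = 1 := by
    rw [hNdef, Units.val_mul, Units.val_mul, Units.conj_pow', hx, hXr, Matrix.mul_one, Units.inv_mul]
  have hNcp : N.charpoly = X.charpoly := by
    rw [hNdef, Units.val_mul, Units.val_mul, Matrix.coe_units_inv, Matrix.charpoly_units_conj', hx]
  obtain ⟨c, hc0, hc⟩ := (mem_sim_iff K _).1 hg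
  rw [← hNdef] at hc
  have hpow : ∀ k, (N ^ k)ᵀ * mbar K (N ^ k) = c ^ k • 1 := by
    intro k
    induction k with
    | zero => simp [mbar_one]
    | succ k ih =>
      calc (N ^ (k + 1))ᵀ * mbar K (N ^ (k + 1)) = Nᵀ * ((N ^ k)ᵀ * mbar K (N ^ k)) * mbar K N := by
            nth_rw 1 [pow_succ]; rw [pow_succ, Matrix.transpose_mul, mbar_mul]; simp only [Matrix.mul_assoc]
        _ = c ^ (k + 1) • 1 := by
            rw [ih, Matrix.mul_smul, Matrix.smul_mul, Matrix.mul_one, hc, smul_smul, pow_succ]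
  have hc1 : c = 1 := by
    have h1 := congrFun (congrFun (hpow r) ⟨0, by omega⟩) ⟨0, by omega⟩
    rw [hNr, mbar_one, Matrix.transpose_one, Matrix.mul_one, Matrix.smul_apply, Matrix.one_apply_eq, smul_eq_mul,
      mul_one] at h1
    have hg : c ^ Nat.gcd r (q - 1) = 1 :=
      pow_gcd_eq_one.2 ⟨h1.symm, hq ▸ FiniteField.pow_card_sub_one_eq_one _ hc0⟩
    rwa [(hr.coprime_iff_not_dvd.2 hrq).gcd_eq_one, pow_one] at hg
  rw [hc1, one_smul] at hc
  have hNbar : mbar K N = (N ^ (r - 1))ᵀ := by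
    calc mbar K N = (N ^ (r - 1 + 1))ᵀ * mbar K N := by
          rw [Nat.sub_add_cancel hr.pos, hNr, Matrix.transpose_one, Matrix.one_mul]
      _ = (N ^ (r - 1))ᵀ * (Nᵀ * mbar K N) := by rw [pow_succ', Matrix.transpose_mul, Matrix.mul_assoc]
      _ = (N ^ (r - 1))ᵀ := by rw [hc, Matrix.mul_one]
  have hcpbar : (N ^ (r - 1)).charpoly = X.charpoly.map (K.bar : F →+* F) := by
    rw [← hNcp, ← Matrix.charpoly_map, ← Matrix.charpoly_transpose (N ^ (r - 1)), ← hNbar]
    rfl
  haveI := Fact.mk hPi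
  let L := AdjoinRoot P
  let φ : F →+* L := AdjoinRoot.of P
  let ζ : L := AdjoinRoot.root P
  haveI : CharP L p := charP_of_injective_ringHom φ.injective p
  have hPζ : P.eval₂ φ ζ = 0 := AdjoinRoot.eval₂_root P
  have hNroot : (N.map φ).charpoly.eval ζ = 0 := by
    rw [Matrix.charpoly_map, Polynomial.eval_map, hNcp, hcp, Polynomial.eval₂_mul, hPζ, mul_zero]
  have hcm : ∀ k, (N.map φ ^ k).charpoly.eval (ζ ^ k) = 0 := by
    intro k
    rw [Matrix.eval_charpoly] at hNroot ⊢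
    rw [map_pow]
    have hco : Commute (Matrix.scalar (Fin n) ζ) (N.map φ) := Matrix.scalar_commute _ (fun _ => Commute.all _ _) _
    rw [← hco.mul_geom_sum₂, Matrix.det_mul, hNroot, zero_mul]
  have hζr : ζ ^ r = 1 := by
    have hd : P ∣ Polynomial.X ^ r - Polynomial.C (1 : F) := by
      refine factor_dvd_pow (Matrix.toLin' X) ?_ hPi ?_
      · rw [← CfsgLib.Derange.toLin'_pow, hXr, Matrix.toLin'_one, one_smul]; rfl
      · rw [Matrix.charpoly_toLin', hcp]; exact dvd_mul_left _ _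
    obtain ⟨w, hw⟩ := hd
    have := congrArg (Polynomial.eval₂ φ ζ) hw
    rw [Polynomial.eval₂_mul, hPζ, zero_mul, Polynomial.eval₂_sub, Polynomial.eval₂_X_pow, Polynomial.eval₂_C,
      map_one, sub_eq_zero] at this
    exact this
  have hζ1 : ζ ≠ 1 := by
    intro h1
    rw [h1, ← map_one φ, Polynomial.eval₂_at_apply] at hPζ
    have hroot : P.IsRoot 1 := φ.injective (by rw [hPζ, map_zero])
    have := natDegree_eq_of_degree_eq (degree_eq_degree_of_associated
      ((irreducible_X_sub_C (1 : F)).associated_of_dvd hPi (dvd_iff_isRoot.2 hroot)))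
    rw [natDegree_X_sub_C, hPd] at this
    omega
  have hord : orderOf ζ = r := orderOf_eq_prime hζr hζ1
  obtain ⟨hrnd, -⟩ := CfsgLib.Derange.not_dvd_card (p := p) hq hr hrp
  have hqne : (q : ZMod r) ≠ 0 := fun h0 => hrnd ((ZMod.natCast_eq_zero_iff _ _).1 h0)
  have hq0ne : (q₀ : ZMod r) ≠ 0 := fun h0 => hqne (by rw [hqq, Nat.cast_pow, h0, zero_pow two_ne_zero])
  set m := ((-1 : ZMod r) * (q₀ : ZMod r)⁻¹).val with hmdef
  have hm : ((m * q₀ : ℕ) : ZMod r) = ((r - 1 : ℕ) : ZMod r) := by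
    rw [Nat.cast_mul, hmdef, ZMod.natCast_val, ZMod.cast_id, mul_assoc, inv_mul_cancel₀ hq0ne, mul_one,
      Nat.cast_sub hr.pos, ZMod.natCast_self, Nat.cast_one, zero_sub]
  have hη : (ζ ^ m) ^ q₀ = ζ ^ (r - 1) := by
    rw [← pow_mul, ← pow_mod_orderOf, hord, ← pow_mod_orderOf ζ (r - 1), hord]
    congr 1
    exact (ZMod.natCast_eq_natCast_iff' _ _ _).1 hm
  obtain ⟨f₀, hf₀⟩ : ∃ f, q₀ = p ^ f := by
    obtain ⟨k, -, hk⟩ := FiniteField.card F p
    obtain ⟨f, -, hf⟩ := (Nat.dvd_prime_pow hp.out).1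
      (show q₀ ∣ p ^ (k : ℕ) from hk ▸ hq ▸ hqq ▸ dvd_pow_self q₀ two_ne_zero)
    exact ⟨f, hf⟩
  have hηroot : X.charpoly.eval₂ φ (ζ ^ m) = 0 := by
    have h1 := hcm (r - 1)
    rw [← Matrix.map_pow, Matrix.charpoly_map, Polynomial.eval_map, hcpbar, Polynomial.eval₂_map] at h1
    have e := Polynomial.hom_eval₂ X.charpoly φ (iterateFrobenius L p f₀) (ζ ^ m)
    rw [iterateFrobenius_def, iterateFrobenius_def, ← hf₀, hη] at e
    have hcomp : (iterateFrobenius L p f₀).comp φ = φ.comp (K.bar : F →+* F) := RingHom.ext fun a => by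
      rw [RingHom.comp_apply, RingHom.comp_apply, iterateFrobenius_def, ← hf₀, ← map_pow]
      exact congrArg φ (K.bar_apply a).symm
    rw [hcomp, h1] at e
    exact eq_zero_of_pow_eq_zero e
  rw [hcp, Polynomial.eval₂_mul, mul_eq_zero] at hηroot
  rcases hηroot with h1 | h1
  · rw [Polynomial.eval₂_pow, Polynomial.eval₂_sub, Polynomial.eval₂_X, Polynomial.eval₂_one] at h1
    have := eq_zero_of_pow_eq_zero h1
    rw [sub_eq_zero] at this
    rw [this, one_pow] at hη
    refine hζ1 ?_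
    calc ζ = ζ * ζ ^ (r - 1) := by rw [← hη, mul_one]
      _ = 1 := by rw [← pow_succ', Nat.sub_add_cancel hr.pos, hζr]
  · have hfrob : ∀ j : ℕ, P.eval₂ φ (ζ ^ q ^ j) = 0 := by
      intro j
      induction j with
      | zero => rw [pow_zero, pow_one]; exact hPζ
      | succ j ih =>
        have hF : ∀ a : F, φ a ^ q = φ a := fun a => by rw [← map_pow, ← hq, FiniteField.pow_card]
        obtain ⟨k, -, hk⟩ := FiniteField.card F p
        rw [hq] at hk
        have e := Polynomial.hom_eval₂ P φ (iterateFrobenius L p k) (ζ ^ q ^ j)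
        rw [iterateFrobenius_def, ih, zero_pow (pow_ne_zero _ hp.out.ne_zero), iterateFrobenius_def, ← hk,
          ← pow_mul, ← pow_succ, show (iterateFrobenius L p k).comp φ = φ from RingHom.ext fun a => by
            rw [RingHom.comp_apply, iterateFrobenius_def, ← hk, hF]] at e
        exact e.symm
    have hinj : Set.InjOn (fun j => ζ ^ q ^ j) (Finset.range i) := by
      intro a ha b hb hab
      rw [Finset.coe_range, Set.mem_Iio] at ha hb
      refine pow_injOn_Iio_orderOf (x := (q : ZMod r)) (hidef ▸ ha) (hidef ▸ hb) ?_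
      simp only
      rw [← Nat.cast_pow, ← Nat.cast_pow, ZMod.natCast_eq_natCast_iff']
      have hu := hab
      simp only at hu
      rw [← pow_mod_orderOf, ← pow_mod_orderOf ζ (q ^ b), hord] at hu
      exact pow_injOn_Iio_orderOf (x := ζ) (Set.mem_Iio.2 (by rw [hord]; exact Nat.mod_lt _ hr.pos))
        (Set.mem_Iio.2 (by rw [hord]; exact Nat.mod_lt _ hr.pos)) hu
    set R := (P.map φ).roots.toFinset with hR
    have hne : P.map φ ≠ 0 := (hPm.map φ).ne_zero
    have hmem : ∀ t : L, P.eval₂ φ t = 0 → t ∈ R := fun t ht => by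
      rw [hR, Multiset.mem_toFinset, Polynomial.mem_roots hne, IsRoot.def, Polynomial.eval_map]; exact ht
    have himg : (Finset.range i).image (fun j => ζ ^ q ^ j) = R := by
      refine Finset.eq_of_subset_of_card_le
        (Finset.image_subset_iff.2 fun j _ => hmem _ (hfrob j)) ?_
      rw [Finset.card_image_of_injOn hinj, Finset.card_range, hR]
      refine (Multiset.toFinset_card_le _).trans ((Polynomial.card_roots' _).trans ?_)
      rw [hPm.natDegree_map, hPd]
    have hmemη := hmem _ h1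
    rw [← himg, Finset.mem_image] at hmemη
    obtain ⟨j, -, hj⟩ := hmemη
    rw [← pow_mod_orderOf, ← pow_mod_orderOf ζ m, hord] at hj
    have hj' : q ^ j % r = m % r := pow_injOn_Iio_orderOf (x := ζ)
      (Set.mem_Iio.2 (by rw [hord]; exact Nat.mod_lt _ hr.pos))
      (Set.mem_Iio.2 (by rw [hord]; exact Nat.mod_lt _ hr.pos)) hj
    rw [← ZMod.natCast_eq_natCast_iff', Nat.cast_pow, hqq, Nat.cast_pow, hmdef, ZMod.natCast_val, ZMod.cast_id,
      ← pow_mul] at hj'
    refine hno (2 * j + 1) ⟨j, rfl⟩ ?_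
    rw [pow_succ, hj', mul_assoc, inv_mul_cancel₀ hq0ne, mul_one]

include hp K in
theorem case_split {q r : ℕ} (hq : Fintype.card F = q) (hr : r.Prime) (hr2 : r ≠ 2)
    (hq0 : r ∣ q₀ - 1) (hn : 3 ≤ n) (hgap : ¬ (n = 6 ∧ r = 3)) (hrq : r ∣ q - 1)
    (hcond : ¬ ((r = 3 ∨ r = 5) ∧ n = r ∧ padicValNat r (q - 1) = 1))
    (h : ∀ x ∈ Cfsg.Geo.specialLinear (Fin n) F,
      (∃ z : F, ((x ^ r : GL (Fin n) F) : Matrix (Fin n) (Fin n) F) = z • (1 : Matrix (Fin n) (Fin n) F)) →
      (∀ z : F, (x : Matrix (Fin n) (Fin n) F) ≠ z • (1 : Matrix (Fin n) (Fin n) F)) →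
      ∃ g ∈ Cfsg.Geo.specialLinear (Fin n) F, g⁻¹ * x * g ∈ S₀) : False := by
  classical
  haveI := Fact.mk hr
  let i₀ : Fin n := ⟨0, by omega⟩
  let i₁ : Fin n := ⟨1, by omega⟩
  let i₂ : Fin n := ⟨2, by omega⟩
  have h01 : i₀ ≠ i₁ := by simp [i₀, i₁]
  have h02 : i₀ ≠ i₂ := by simp [i₀, i₂]
  have h12 : i₁ ≠ i₂ := by simp [i₁, i₂]
  have hN : q - 1 ≠ 0 := by
    have := Fintype.one_lt_card (α := F); omega
  by_cases hv : padicValNat r n < padicValNat r (q - 1)
  · obtain ⟨α, ζ, hα, hζ, hζr, hαζ⟩ := Lin.exists_homology (n := n) hq hr (by omega) hv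
    have hζ0 : ζ ≠ 0 := fun h0 => by rw [h0, zero_pow hr.ne_zero] at hζr; exact zero_ne_one hζr
    let d : Fin n → F := fun k => if k = i₀ then α * ζ else α
    obtain ⟨g, x, hx, hg⟩ := Lin.conj_of_all h (Matrix.diagonal d) (by
      rw [Matrix.det_diagonal, show d = fun k => α * (if k = i₀ then ζ else 1) from
        funext fun k => by simp only [d]; split_ifs <;> simp, Finset.prod_mul_distrib]
      simp [hαζ]) (z := α ^ r) (by
      rw [Matrix.diagonal_pow, Matrix.smul_one_eq_diagonal]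
      congr 1
      funext k
      simp only [Pi.pow_apply, d]
      split_ifs
      · rw [mul_pow, hζr, mul_one]
      · rfl) (by
      intro c hc
      have e0 := congrFun (congrFun hc i₀) i₀
      have e1 := congrFun (congrFun hc i₁) i₁
      simp only [d, Matrix.diagonal_apply_eq, if_neg (Ne.symm h01), if_pos, Matrix.smul_apply, Matrix.one_apply_eq,
        smul_eq_mul, mul_one] at e0 e1
      exact hζ (mul_left_cancel₀ hα (by rw [mul_one, e0, e1])))
    obtain ⟨c, hc, hcount⟩ := spectrum_symm K hx hg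
    have hne : α * ζ ≠ α := fun h => hζ (mul_left_cancel₀ hα (h.trans (mul_one α).symm))
    have hd0 : d i₀ = α * ζ := if_pos rfl
    have hd1 : ∀ k, k ≠ i₀ → d k = α := fun k hk => if_neg hk
    have hone : ∀ t, t ≠ α → (Finset.univ.filter fun k => d k = t).card ≤ 1 := fun t ht => by
      refine (Finset.card_le_card (t := {i₀}) fun k hk => ?_).trans (Finset.card_singleton i₀).le
      rw [Finset.mem_singleton]
      by_contra hk0
      exact ht ((Finset.mem_filter.1 hk).2.symm.trans (hd1 k hk0))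
    have hcα : c / K.bar α = α := by
      by_contra hne'
      have h1 := hcount (c / K.bar α)
      have h3 : 2 ≤ (Finset.univ.filter fun k => c / K.bar (d k) = c / K.bar α).card := by
        refine le_trans ?_ (Finset.card_le_card (s := {i₁, i₂}) fun k hk => ?_)
        · rw [Finset.card_pair h12]
        · simp at hk; rcases hk with rfl | rfl <;> simp [hd1, Ne.symm h01, Ne.symm h02]
      have := hone _ hne'
      omega
    have h1 := hcount (c / K.bar (α * ζ))
    have h3 : 0 < (Finset.univ.filter fun k => c / K.bar (d k) = c / K.bar (α * ζ)).card :=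
      Finset.card_pos.2 ⟨i₀, by simp [hd0]⟩
    rw [← h1] at h3
    obtain ⟨k, hk⟩ := Finset.card_pos.1 h3
    have hk' : d k = c / K.bar (α * ζ) := (Finset.mem_filter.1 hk).2
    rw [map_mul, bar_root K hq0 hζr, ← div_div, hcα, eq_div_iff hζ0] at hk'
    by_cases hk0 : k = i₀
    · rw [hk0, hd0] at hk'
      have : ζ ^ 2 = 1 := mul_left_cancel₀ hα (by linear_combination hk')
      refine hζ ?_
      have hg : ζ ^ Nat.gcd 2 r = 1 := pow_gcd_eq_one.2 ⟨this, hζr⟩
      rwa [(Nat.coprime_primes Nat.prime_two hr).2 (Ne.symm hr2) |>.gcd_eq_one, pow_one] at hg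
    · rw [hd1 k hk0] at hk'
      exact hne hk'
  have hv1 : 1 ≤ padicValNat r (q - 1) := one_le_padicValNat_of_dvd hN hrq
  have hrn : r ∣ n := dvd_of_one_le_padicValNat (by omega)
  have hn6 : 3 < n - 3 := by
    have hr3 : 3 ≤ r := by have := hr.two_le; omega
    rcases eq_or_ne n r with rfl | hne
    · have h7 : n ≠ 3 ∧ n ≠ 5 := by
        constructor <;> intro h <;> apply hcond <;> refine ⟨by omega, rfl, ?_⟩ <;>
          · have hs : padicValNat n n = 1 := padicValNat_self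
            omega
      have : n ≠ 4 ∧ n ≠ 6 := by constructor <;> (rintro rfl; norm_num at hr)
      omega
    · obtain ⟨k, rfl⟩ := hrn
      have hk : 2 ≤ k := by
        rcases k with _ | _ | k
        · simp at hn
        · simp at hne
        · omega
      by_cases hr3' : r = 3
      · subst hr3'
        have : k ≠ 2 := fun hk2 => hgap ⟨by omega, rfl⟩
        omega
      · have : r ≠ 4 := by rintro rfl; norm_num at hr
        have : 2 * r ≤ r * k := by rw [mul_comm 2]; exact Nat.mul_le_mul_left r hk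
        omega
  obtain ⟨ζ, hζ0, hζr, hζd⟩ := Lin.exists_root_of_unity hq hr hrq
  have hpow : ∀ m, 0 < m → m < r → ζ ^ m ≠ 1 := fun m h0 h1 h => by
    have := Nat.le_of_dvd h0 (hζd m h); omega
  obtain ⟨a, b, c', hr', habc, ha1, hb1, hc1, hnot⟩ : ∃ a b c' : F, (a ^ r = 1 ∧ b ^ r = 1 ∧ c' ^ r = 1) ∧
      a * b * c' = 1 ∧ a ≠ 1 ∧ b ≠ 1 ∧ c' ≠ 1 ∧ (a⁻¹ ≠ a ∧ a⁻¹ ≠ b ∧ a⁻¹ ≠ c') := by
    by_cases hr3 : r = 3
    · subst hr3
      have h1 : ζ ≠ 1 := by simpa using hpow 1 one_pos (by norm_num)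
      refine ⟨ζ, ζ, ζ, ⟨hζr, hζr, hζr⟩, by rw [← hζr]; ring, h1, h1, h1, ?_⟩
      have : ζ⁻¹ ≠ ζ := fun h => hpow 2 two_pos (by norm_num) (by
        rw [sq]; nth_rw 1 [← h]; exact inv_mul_cancel₀ hζ0)
      exact ⟨this, this, this⟩
    · have hr5 : 5 ≤ r := by
        have := hr.two_le
        have : r ≠ 4 := by rintro rfl; norm_num at hr
        omega
      have p1 : ζ ≠ 1 := by simpa using hpow 1 one_pos (by omega)
      have p2 : ζ ^ 2 ≠ 1 := hpow 2 two_pos (by omega)
      have p3 : ζ ^ 3 ≠ 1 := hpow 3 (by norm_num) (by omega)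
      refine ⟨ζ, ζ ^ 2, (ζ ^ 3)⁻¹, ⟨hζr, by rw [← pow_mul, mul_comm, pow_mul, hζr, one_pow],
        by rw [inv_pow, ← pow_mul, mul_comm, pow_mul, hζr, one_pow, inv_one]⟩, ?_, p1, p2, by simpa using p3,
        ?_, ?_, ?_⟩
      · rw [← pow_succ']; exact mul_inv_cancel₀ (pow_ne_zero _ hζ0)
      · intro h; exact p2 (by rw [sq]; nth_rw 1 [← h]; exact inv_mul_cancel₀ hζ0)
      · intro h; exact p3 (by rw [pow_succ, ← h]; exact inv_mul_cancel₀ hζ0)
      · intro h
        rw [_root_.inv_inj] at h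
        exact p2 (mul_left_cancel₀ hζ0 (by rw [mul_one, ← pow_succ']; exact h.symm))
  let d : Fin n → F := fun k => if k = i₀ then a else if k = i₁ then b else if k = i₂ then c' else 1
  have hd0 : d i₀ = a := if_pos rfl
  have hd1 : d i₁ = b := by simp [d, Ne.symm h01]
  have hd2 : d i₂ = c' := by simp [d, Ne.symm h02, Ne.symm h12]
  have hdk : ∀ k ∉ ({i₀, i₁, i₂} : Finset (Fin n)), d k = 1 := fun k hk => by
    simp at hk; simp [d, hk.1, hk.2.1, hk.2.2]
  obtain ⟨g, x, hx, hg⟩ := Lin.conj_of_all h (Matrix.diagonal d) (by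
    rw [Matrix.det_diagonal, ← Finset.prod_subset (Finset.subset_univ {i₀, i₁, i₂}) (fun k _ hk => hdk k hk),
      Finset.prod_insert (by simp [h01, h02]), Finset.prod_pair h12, hd0, hd1, hd2, ← mul_assoc, habc]) (z := 1) (by
    rw [Matrix.diagonal_pow, one_smul, ← Matrix.diagonal_one]
    congr 1
    funext k
    simp only [Pi.pow_apply, d]
    split_ifs <;> simp [hr'.1, hr'.2.1, hr'.2.2]) (by
    intro c hc
    obtain ⟨k, hk⟩ : ∃ k, k ∉ ({i₀, i₁, i₂} : Finset (Fin n)) := by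
      by_contra! h0
      have h1 := Finset.card_le_card (s := (Finset.univ : Finset (Fin n))) (t := {i₀, i₁, i₂}) fun k _ => h0 k
      have := (Finset.card_le_three : ({i₀, i₁, i₂} : Finset (Fin n)).card ≤ 3)
      rw [Finset.card_univ, Fintype.card_fin] at h1
      omega
    have e0 := congrFun (congrFun hc i₀) i₀
    have e1 := congrFun (congrFun hc k) k
    rw [Matrix.diagonal_apply_eq, Matrix.smul_apply, Matrix.one_apply_eq, smul_eq_mul, mul_one] at e0 e1
    exact ha1 (by rw [← hd0, e0, ← e1, hdk k hk]))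
  obtain ⟨c, hc, hcount'⟩ := spectrum_symm K hx hg
  have hdr : ∀ k, K.bar (d k) = d k := fun k => by
    refine bar_root K hq0 ?_
    simp only [d]
    split_ifs <;> simp [hr'.1, hr'.2.1, hr'.2.2]
  have hcount : ∀ t : F,
      (Finset.univ.filter fun k => d k = t).card = (Finset.univ.filter fun k => c / d k = t).card := fun t => by
    rw [hcount' t]; simp only [hdr]
  have hc1' : c = 1 := by
    by_contra hne
    have h1 := hcount (c / 1)
    have h3 : n - 3 ≤ (Finset.univ.filter fun k => c / d k = c / 1).card := by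
      refine le_trans ?_ (Finset.card_le_card (s := Finset.univ \ {i₀, i₁, i₂}) fun k hk => ?_)
      · have := (Finset.card_le_three : ({i₀, i₁, i₂} : Finset (Fin n)).card ≤ 3)
        rw [Finset.card_univ_diff, Fintype.card_fin]
        omega
      · simp only [Finset.mem_sdiff] at hk
        simp [hdk k hk.2]
    have h4 : (Finset.univ.filter fun k => d k = c / 1).card ≤ 3 := by
      refine (Finset.card_le_card (t := {i₀, i₁, i₂}) fun k hk => ?_).trans Finset.card_le_three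
      by_contra hk'
      exact hne (by rw [← div_one c, ← (Finset.mem_filter.1 hk).2, hdk k hk'])
    omega
  subst hc1'
  have h3 : 0 < (Finset.univ.filter fun k => 1 / d k = a⁻¹).card :=
    Finset.card_pos.2 ⟨i₀, by simp [hd0]⟩
  rw [← hcount] at h3
  obtain ⟨k, hk⟩ := Finset.card_pos.1 h3
  have hk' := (Finset.mem_filter.1 hk).2
  simp only [d] at hk'
  split_ifs at hk'
  · exact hnot.1 hk'.symm
  · exact hnot.2.1 hk'.symm
  · exact hnot.2.2 hk'.symm
  · exact ha1 (inv_eq_one.1 hk'.symm)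

theorem exists_real_form (x : GL (Fin n) F) {z c : F} (hz0 : z ≠ 0) (hc : c * c = z)
    (hz : (x : Matrix (Fin n) (Fin n) F) ^ 2 = z • 1) :
    ∃ (B : GL (Fin n) F) (M H : Matrix (Fin n) (Fin n) F),
      (x : Matrix (Fin n) (Fin n) F) * (B : Matrix (Fin n) (Fin n) F) = (B : Matrix (Fin n) (Fin n) F) * M ∧
      (mbar K H)ᵀ = H ∧ H.det ≠ 0 ∧ Mᵀ * H * mbar K M = (c * K.bar c) • H := by
  classical
  set T := Matrix.toLin' (x : Matrix (Fin n) (Fin n) F) with hT
  have hT2 : T ^ 2 = z • 1 := by rw [hT, ← CfsgLib.Derange.toLin'_pow, hz, CfsgLib.Derange.toLin'_smul_one]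
  have hTT : ∀ w, T (T w) = z • w := fun w => by
    rw [← End.mul_apply, ← sq, hT2, LinearMap.smul_apply, End.one_apply]
  obtain ⟨j, k, bm, hmon⟩ :=
    CfsgLib.Derange.exists_monomial_basis_aux _ (Fin n → F) (Module.finrank_fin_fun F) T z hz0 hT2
  have hc0 : c ≠ 0 := fun h => hz0 (by rw [← hc, h, mul_zero])
  choose a ha0 ha using hmon
  have hcard : Fintype.card ((Fin j ⊕ Fin j) ⊕ Fin k) = n := by
    rw [← Module.finrank_eq_card_basis bm, Module.finrank_fin_fun]
  let s : (Fin j ⊕ Fin j) ⊕ Fin k → Fˣ :=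
    Sum.elim (Sum.elim 1 fun l => Units.mk0 (a (Sum.inl (Sum.inl l))) (ha0 _)) 1
  let bb := bm.unitsSMul s
  have h0 : ∀ l, T (bb (Sum.inl (Sum.inl l))) = bb (Sum.inl (Sum.inr l)) := by
    intro l; simp [bb, Basis.unitsSMul_apply, s, ha, Units.smul_def]
  have h1 : ∀ l, T (bb (Sum.inl (Sum.inr l))) = z • bb (Sum.inl (Sum.inl l)) := by
    intro l; rw [← h0, hTT]
  have h3 : ∀ l, T (bb (Sum.inr l)) = a (Sum.inr l) • bb (Sum.inr l) := by
    intro l; simp [bb, Basis.unitsSMul_apply, s, ha]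
  have hN : ∀ l, a (Sum.inr l) * K.bar (a (Sum.inr l)) = c * K.bar c := by
    intro l
    have h := hTT (bb (Sum.inr l))
    rw [h3, map_smul, h3, smul_smul] at h
    have h' := smul_left_injective F (bb.ne_zero _) h
    rcases mul_self_eq_mul_self_iff.1 (h'.trans hc.symm) with e | e <;> rw [e]
    rw [map_neg, neg_mul_neg]
  set μ := c * K.bar c with hμ
  have hbμ : K.bar μ = μ := by rw [hμ, map_mul, K.bar_bar, mul_comm]
  let ε := Fintype.equivFinOfCardEq hcard
  obtain ⟨B, hB⟩ := CfsgLib.Derange.exists_conj_toMatrix x (bb.reindex ε)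
  let M0 : Matrix ((Fin j ⊕ Fin j) ⊕ Fin k) ((Fin j ⊕ Fin j) ⊕ Fin k) F :=
    fromBlocks (fromBlocks 0 (Matrix.diagonal fun _ => z) (Matrix.diagonal fun _ => 1) 0) 0 0 (Matrix.diagonal fun l => a (Sum.inr l))
  let H0 : Matrix ((Fin j ⊕ Fin j) ⊕ Fin k) ((Fin j ⊕ Fin j) ⊕ Fin k) F :=
    fromBlocks (fromBlocks (Matrix.diagonal fun _ => 1) 0 0 (Matrix.diagonal fun _ => μ)) 0 0 (Matrix.diagonal fun _ => 1)
  have hM0 : LinearMap.toMatrix bb bb T = M0 := by
    ext u v
    rw [LinearMap.toMatrix_apply]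
    rcases v with (v | v) | v
    · rw [h0, bb.repr_self, Finsupp.single_apply]
      rcases u with (u | u) | u <;> simp [M0, Matrix.one_apply, Matrix.diagonal_apply, eq_comm]
    · rw [h1, map_smul, bb.repr_self, Finsupp.smul_apply, Finsupp.single_apply]
      rcases u with (u | u) | u <;> simp [M0, Matrix.one_apply, Matrix.diagonal_apply, eq_comm]
    · rw [h3, map_smul, bb.repr_self, Finsupp.smul_apply, Finsupp.single_apply]
      rcases u with (u | u) | u <;> simp [M0, Matrix.diagonal_apply, eq_comm]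
      split_ifs with h <;> simp [h]
  let R := Matrix.reindexAlgEquiv F F ε
  have hbarR : ∀ A, mbar K (R A) = R (A.map K.bar) := fun A => rfl
  have hT' : ∀ A : Matrix ((Fin j ⊕ Fin j) ⊕ Fin k) ((Fin j ⊕ Fin j) ⊕ Fin k) F, (R A)ᵀ = R Aᵀ := fun A => rfl
  have hμ0 : μ ≠ 0 := mul_ne_zero hc0 ((map_ne_zero K.bar).2 hc0)
  refine ⟨B, R M0, R H0, ?_, ?_, ?_, ?_⟩
  · have e : ((B⁻¹ * x * B : GL (Fin n) F) : Matrix (Fin n) (Fin n) F) = R M0 := by
      rw [hB, ← hM0]
      ext u v
      simp [R, LinearMap.toMatrix_apply, Basis.repr_reindex_apply, hT]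
    rw [← e, ← Units.val_mul, ← Units.val_mul]
    congr 1
    group
  · rw [hbarR, hT']
    congr 1
    simp only [H0, fromBlocks_map, fromBlocks_transpose, Matrix.map_zero, map_zero, map_one, Matrix.transpose_zero,
      Matrix.diagonal_map, Matrix.diagonal_transpose, hbμ]
  · rw [Matrix.det_reindexAlgEquiv]
    simp only [H0, det_fromBlocks_zero₁₂, Matrix.det_diagonal, Finset.prod_const_one, mul_one, one_mul,
      Finset.prod_const]
    simpa using pow_ne_zero _ hμ0
  · rw [hbarR, hT', ← map_mul, ← map_mul, ← map_smul]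
    congr 1
    have hzz : z * K.bar z = μ * μ := by rw [← hc, hμ, map_mul]; ring
    simp only [M0, H0, fromBlocks_transpose, fromBlocks_map, fromBlocks_multiply, fromBlocks_smul,
      Matrix.transpose_zero, Matrix.map_zero, map_zero, map_one, Matrix.diagonal_transpose, Matrix.diagonal_map,
      Matrix.zero_mul, Matrix.mul_zero, add_zero, zero_add, Matrix.diagonal_mul_diagonal, ← Matrix.diagonal_smul,
      smul_zero, one_mul, mul_one]
    congr 1
    · congr 1
      · congr 1; funext l; simp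
      · congr 1; funext l; simp [← hzz, mul_comm]
    · congr 1; funext l; simp [hN, Pi.smul_apply]

include hp K in
theorem positive_two {q : ℕ} (hq : Fintype.card F = q) (hn : 3 ≤ n)
    (hcond : p = 2 ∨ padicValNat 2 n ≤ padicValNat 2 (q - 1))
    (x : GL (Fin n) F) (hx : x ∈ Cfsg.Geo.specialLinear (Fin n) F) {z : F}
    (hz : (x : Matrix (Fin n) (Fin n) F) ^ 2 = z • 1) {H' : Subgroup (GL (Fin n) F)} {P₀ : GL (Fin n) F}
    (hH : ∀ y, y ∈ H' ↔ P₀⁻¹ * y * P₀ ∈ S₀) :
    ∃ g ∈ Cfsg.Geo.specialLinear (Fin n) F, g⁻¹ * x * g ∈ H' := by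
  classical
  have hdet : (x : Matrix (Fin n) (Fin n) F).det = 1 := congrArg Units.val (MonoidHom.mem_ker.1 hx)
  have hz0 : z ≠ 0 := CfsgLib.Derange.sq_scalar_ne_zero (by omega) (by rw [hdet]; exact one_ne_zero) hz
  obtain ⟨c, hc⟩ : ∃ c : F, c * c = z := by
    by_cases hp2 : p = 2
    · haveI : CharP F 2 := hp2 ▸ inferInstance
      obtain ⟨c, hc⟩ := surjective_frobenius F 2 z
      exact ⟨c, by rw [← sq]; exact hc⟩
    · have hv := hcond.resolve_left hp2
      obtain ⟨k, -, hk⟩ := FiniteField.card F p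
      have hodd : Odd q := by rw [← hq, hk]; exact (hp.out.odd_of_ne_two hp2).pow
      have h4 : q % 4 = 1 := by
        have hqq : q = q₀ ^ 2 := by rw [← hq, ← Nat.card_eq_fintype_card, K.card]
        rw [hqq, Nat.odd_pow_iff two_ne_zero, Nat.odd_iff] at hodd
        rw [hqq, Nat.pow_mod]
        have := Nat.mod_lt q₀ (show 4 > 0 by norm_num)
        rcases (show q₀ % 4 = 1 ∨ q₀ % 4 = 3 by omega) with h4 | h4 <;> simp [h4]
      obtain ⟨c, hc⟩ := CfsgLib.Derange.is_power_of_noTwist (p := p) hq Nat.prime_two (Ne.symm hp2)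
        (by obtain ⟨t, ht⟩ := hodd; exact ⟨t, by omega⟩) (Module.finrank_fin_fun F) (by omega)
        (Matrix.toLin' (x : Matrix (Fin n) (Fin n) F)) (by rw [LinearMap.det_toLin', hdet])
        (by rw [← CfsgLib.Derange.toLin'_pow, hz, CfsgLib.Derange.toLin'_smul_one]) ⟨hv, fun _ _ => h4⟩
      exact ⟨c, by rw [← sq]; exact hc⟩
  obtain ⟨B, M, H, hxB, hHs, hHd, hM⟩ := exists_real_form K x hz0 hc hz
  obtain ⟨P, hP⟩ := exists_congr_one K H hHs hHd
  have hc0 : c ≠ 0 := fun h => hz0 (by rw [← hc, h, mul_zero])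
  have hg := sim_conj K hxB hM (mul_ne_zero hc0 ((map_ne_zero K.bar).2 hc0)) hP
  have hg' : (B * P * P₀⁻¹)⁻¹ * x * (B * P * P₀⁻¹) ∈ H' := by
    rw [hH]
    convert hg using 1
    group
  let xs : Matrix.SpecialLinearGroup (Fin n) F := ⟨_, hdet⟩
  have hxs : Matrix.SpecialLinearGroup.toGL xs = x := Units.ext rfl
  obtain ⟨Q, hQ⟩ := CfsgLib.Derange.exists_sl_conj (p := p) (by omega) _ xs hz (B * P * P₀⁻¹) (hxs ▸ hg')
  refine ⟨Matrix.SpecialLinearGroup.toGL Q, MonoidHom.mem_ker.2 (Units.ext Q.2), ?_⟩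
  rw [Subgroup.mem_comap, map_mul, map_mul, map_inv, hxs] at hQ
  exact hQ

include hp K in
theorem negative_two {q : ℕ} (hq : Fintype.card F = q) (hp2 : p ≠ 2) (hn : 3 ≤ n)
    (hv : ¬ padicValNat 2 n ≤ padicValNat 2 (q - 1))
    (h : ∀ x ∈ Cfsg.Geo.specialLinear (Fin n) F,
      (∃ z : F, ((x ^ 2 : GL (Fin n) F) : Matrix (Fin n) (Fin n) F) = z • (1 : Matrix (Fin n) (Fin n) F)) →
      (∀ z : F, (x : Matrix (Fin n) (Fin n) F) ≠ z • (1 : Matrix (Fin n) (Fin n) F)) →
      ∃ g ∈ Cfsg.Geo.specialLinear (Fin n) F, g⁻¹ * x * g ∈ S₀) : False := by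
  classical
  obtain ⟨k, -, hk⟩ := FiniteField.card F p
  have hodd : Odd q := by rw [← hq, hk]; exact (hp.out.odd_of_ne_two hp2).pow
  obtain ⟨xs, z, hz, hxs⟩ := CfsgLib.Derange.exists_sl_not_power (p := p) hq Nat.prime_two (Ne.symm hp2)
    (by obtain ⟨t, ht⟩ := hodd; exact ⟨t, by omega⟩) (by omega : 1 ≤ n) (fun hh => hv hh.1)
  obtain ⟨g, x, hx, hg⟩ := Lin.conj_of_all h (xs : Matrix (Fin n) (Fin n) F) xs.2 hxs (fun c hc => by
    rw [hc, _root_.smul_pow, one_pow] at hxs
    haveI : Nonempty (Fin n) := ⟨⟨0, by omega⟩⟩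
    exact hz c (smul_left_injective F (one_ne_zero : (1 : Matrix (Fin n) (Fin n) F) ≠ 0) hxs))
  obtain ⟨c, hc0, hc⟩ := (mem_sim_iff K _).1 hg
  have hbc := bar_multiplier K (by omega) hc
  set N := ((g⁻¹ * x * g : GL (Fin n) F) : Matrix (Fin n) (Fin n) F)
  have hN2 : N * N = z • 1 := by
    rw [← sq, show N = ((g⁻¹ * x * g : GL (Fin n) F) : Matrix (Fin n) (Fin n) F) from rfl, Units.val_mul, Units.val_mul,
      Units.conj_pow', hx, hxs, Matrix.mul_smul, Matrix.smul_mul, Matrix.mul_one, Units.inv_mul]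
  have hzz : z * K.bar z = c * c := by
    have h1 : (N * N)ᵀ * mbar K (N * N) = (c * c) • 1 := by
      calc (N * N)ᵀ * mbar K (N * N) = Nᵀ * (Nᵀ * mbar K N) * mbar K N := by
            rw [Matrix.transpose_mul, mbar_mul]; simp only [Matrix.mul_assoc]
        _ = (c * c) • 1 := by rw [hc, Matrix.mul_smul, Matrix.smul_mul, Matrix.mul_one, hc, smul_smul]
    rw [hN2, Matrix.transpose_smul, Matrix.transpose_one, mbar_smul, mbar_one, Matrix.smul_mul, Matrix.one_mul,
      smul_smul] at h1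
    have := congrFun (congrFun h1 ⟨0, by omega⟩) ⟨0, by omega⟩
    simpa using this
  have hz0 : z ≠ 0 := fun h0 => hz 0 (by rw [h0, zero_pow two_ne_zero])
  have hchar : ringChar F ≠ 2 := by rw [ringChar.eq F p]; exact hp2
  have h2 := K.two_le
  have hqq : q = q₀ ^ 2 := by rw [← hq, ← Nat.card_eq_fintype_card, K.card]
  obtain ⟨t, ht⟩ : Odd q₀ := (Nat.odd_pow_iff two_ne_zero).1 (hqq ▸ hodd)
  have hsq : IsSquare z := by
    rw [FiniteField.isSquare_iff hchar hz0, hq, hqq]
    have e : q₀ ^ 2 / 2 = (q₀ + 1) * t := by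
      rw [ht, show (2 * t + 1) ^ 2 = 2 * ((2 * t + 1 + 1) * t) + 1 by ring]; omega
    rw [e, pow_mul, pow_succ', ← K.bar_apply, hzz, ← sq, ← pow_mul, show 2 * t = q₀ - 1 by omega]
    exact fixed_pow K hbc hc0
  obtain ⟨b, hb⟩ := hsq
  exact hz b (by rw [sq, hb])

include hp K in
theorem positive_odd {q r : ℕ} [Fact r.Prime] (hq : Fintype.card F = q) (h35 : r = 3 ∨ r = 5)
    (hv : padicValNat r (q₀ - 1) = 1) (hnr : n = r) (x : GL (Fin n) F)
    (hx : x ∈ Cfsg.Geo.specialLinear (Fin n) F) {z : F} (hz : (x : Matrix (Fin n) (Fin n) F) ^ r = z • 1)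
    {H' : Subgroup (GL (Fin n) F)} {P₀ : GL (Fin n) F} (hH : ∀ y, y ∈ H' ↔ P₀⁻¹ * y * P₀ ∈ S₀) :
    ∃ g ∈ Cfsg.Geo.specialLinear (Fin n) F, g⁻¹ * x * g ∈ H' := by
  classical
  subst hnr
  have hr : n.Prime := Fact.out
  have h2 := K.two_le
  have hr2 : n ≠ 2 := by omega
  have hr0 : n ∣ q₀ - 1 := dvd_of_one_le_padicValNat hv.ge
  have hnd : ¬ n ∣ q₀ + 1 := fun h => by
    have h3 := Nat.dvd_sub h hr0
    rw [show q₀ + 1 - (q₀ - 1) = 2 by omega] at h3
    have := Nat.le_of_dvd two_pos h3; omega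
  have hv' : padicValNat n (q - 1) = 1 := by
    rw [show q - 1 = (q₀ + 1) * (q₀ - 1) by rw [← Nat.sq_sub_sq, ← hq, ← Nat.card_eq_fintype_card, K.card, one_pow],
      padicValNat.mul (by omega) (by omega), hv, padicValNat.eq_zero_of_not_dvd hnd, zero_add]
  have hN : q - 1 ≠ 0 := fun h => by rw [h] at hv'; simp at hv'
  have hrq : n ∣ q - 1 := dvd_of_one_le_padicValNat hv'.ge
  have hrp : n ≠ p := by
    intro h
    obtain ⟨k, -, hk⟩ := FiniteField.card F p
    have h1 : n ∣ q := by rw [← hq, hk, h]; exact dvd_pow_self p k.ne_zero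
    have h3 := Nat.dvd_sub h1 hrq
    rw [Nat.sub_sub_self (by omega)] at h3
    exact hr.not_dvd_one h3
  have hdet : (x : Matrix (Fin n) (Fin n) F).det = 1 := congrArg Units.val (MonoidHom.mem_ker.1 hx)
  obtain ⟨b, hb⟩ := Lin.exists_power_of_dim_eq (p := p) hr hr2 _ hdet hz
  have hzr : z ^ n = 1 := by
    have := congrArg Matrix.det hz
    rw [Matrix.det_pow, hdet, one_pow, Matrix.det_smul, Matrix.det_one, mul_one, Fintype.card_fin] at this
    exact this.symm
  have hb0 : b ≠ 0 := fun h => by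
    rw [← hb, h, ← pow_mul, zero_pow (Nat.mul_ne_zero hr.ne_zero hr.ne_zero)] at hzr
    exact zero_ne_one hzr
  have hbr : b ^ n = 1 := by
    rw [← orderOf_dvd_iff_pow_eq_one]
    have h1 : orderOf b ∣ n ^ 2 := orderOf_dvd_of_pow_eq_one (by rw [sq, pow_mul, hb, hzr])
    have h3 : orderOf b ∣ q - 1 := orderOf_dvd_of_pow_eq_one (hq ▸ FiniteField.pow_card_sub_one_eq_one b hb0)
    obtain ⟨t, ht, he⟩ := (Nat.dvd_prime_pow hr).1 h1
    rw [he] at h3 ⊢
    have : t ≤ 1 := hv' ▸ (padicValNat_dvd_iff_le hN).1 h3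
    exact (pow_dvd_pow n this).trans (dvd_of_eq (pow_one n))
  obtain ⟨B, d, hd, hXB⟩ := Lin.exists_diagonal (p := p) hq hr hrp hrq (x : Matrix (Fin n) (Fin n) F)
    (by rw [hz, ← hb, hbr, one_smul])
  obtain ⟨ζ, hζ0, hζr, hζd⟩ := Lin.exists_root_of_unity hq hr hrq
  have hprim : IsPrimitiveRoot ζ n := ⟨hζr, hζd⟩
  choose ex hexlt hex using fun k => hprim.eq_pow_of_pow_eq_one (hd k)
  let e : Fin n → ZMod n := fun k => (ex k : ZMod n)
  have hsum : ∑ k, e k = 0 := by
    have hdd := congrArg Matrix.det hXB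
    rw [Matrix.det_mul, Matrix.det_mul, hdet, Matrix.det_diagonal, one_mul] at hdd
    have hBd : (B : Matrix (Fin n) (Fin n) F).det ≠ 0 := (Matrix.GeneralLinearGroup.det B).ne_zero
    have hp1 : ∏ k, d k = 1 := mul_left_cancel₀ hBd (by rw [mul_one]; exact hdd.symm)
    simp only [← hex, Finset.prod_pow_eq_pow_sum] at hp1
    simp only [e, ← Nat.cast_sum]
    exact (ZMod.natCast_eq_zero_iff _ _).2 (hζd _ hp1)
  obtain ⟨s, σ, hσ, hs⟩ := Lin.exists_symmetry h35 e hsum
  have hcd : ∀ k, d (σ k) * d k = ζ ^ s.val := by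
    intro k
    rw [← hex, ← hex, ← pow_add, ← pow_mod_orderOf, ← pow_mod_orderOf ζ s.val, ← hprim.eq_orderOf]
    congr 1
    rw [← ZMod.natCast_eq_natCast_iff', Nat.cast_add, ZMod.natCast_val, ZMod.cast_id]
    exact hs k
  let H : Matrix (Fin n) (Fin n) F := Matrix.of fun k l => if σ k = l then 1 else 0
  have hHs : (mbar K H)ᵀ = H := by
    ext k l
    simp only [Matrix.transpose_apply, mbar, Matrix.map_apply, H, Matrix.of_apply]
    by_cases h : σ k = l
    · rw [if_pos h, if_pos (h ▸ hσ k), map_one]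
    · rw [if_neg h, if_neg fun h' => h ((congrArg σ h').symm.trans (hσ l)), map_zero]
  have hHH : H * H = 1 := by
    ext k l
    simp only [Matrix.mul_apply, H, Matrix.one_apply, Matrix.of_apply]
    rw [Finset.sum_eq_single (σ k) (fun j _ hj => by simp [Ne.symm hj]) (by simp)]
    simp [hσ]
  have hHd : H.det ≠ 0 := fun h => by
    have := congrArg Matrix.det hHH
    rw [Matrix.det_mul, h, zero_mul, Matrix.det_one] at this
    exact zero_ne_one this
  have hM : (Matrix.diagonal d)ᵀ * H * mbar K (Matrix.diagonal d) = (ζ ^ s.val) • H := by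
    have hbd : mbar K (Matrix.diagonal d) = Matrix.diagonal d := by
      rw [mbar, Matrix.diagonal_map (map_zero K.bar)]
      congr 1
      exact funext fun k => bar_root K hr0 (hd k)
    rw [hbd]
    ext k l
    rw [Matrix.diagonal_transpose, Matrix.mul_diagonal, Matrix.diagonal_mul, Matrix.smul_apply, smul_eq_mul]
    simp only [H, Matrix.of_apply]
    split_ifs with h
    · subst h; rw [mul_one, mul_one, mul_comm]; exact hcd k
    · simp
  obtain ⟨P, hP⟩ := exists_congr_one K H hHs hHd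
  have hg := sim_conj K hXB hM (pow_ne_zero _ hζ0) hP
  refine Lin.exists_special_conj (g := B * P * P₀⁻¹) hr.pos hXB ?_
  rw [hH]
  convert hg using 1
  group


/-- Elements of prime order of PSL_n(q), q = q₀², and the subgroups of unitary type. Here `T = PSL_n(F)` for a field `F` with `q = q₀²` elements (`n ≥ 3`), `f` is a non-degenerate unitary form on `F^n` for the involutory automorphism `x ↦ x^{q₀}`, and `H` is the subgroup of matrices of determinant 1 that preserve `f` up to a scalar — a subgroup of type GU_n(q₀) (maximality is not assumed); Ω is the set of cosets of `H` in `T`, so an element of `T` of prime order `r` (a matrix `x` of determinant 1 with `x^r` scalar, `x` not scalar) fixes a point of Ω exactly when some conjugate of `x` by a matrix of determinant 1 preserves `f` up to a scalar. Let `r` be a prime dividing the index of `H`, with `r = 2` or `r` different from the characteristic `p`, and with `(n, r) ≠ (6, 3)`. Then every element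 of `T` of order `r` fixes a point of Ω if and only if either `r = 2` and (`p = 2` or `(n)_2 ≤ (q − 1)_2`), or `r ∈ {3, 5}`, `n = r` and `(q₀ − 1)_r = r`. (Odd `r = p` and the case `(n, r) = (6, 3)` are not covered by this statement.) -/
theorem result {F : Type*} [Field F] [Fintype F] {p : ℕ} [Fact p.Prime] [CharP F p] {q : ℕ} (hq : Fintype.card F = q)
    (q₀ : ℕ) (hq₀ : q = q₀ ^ 2) (n : ℕ) (hn : 3 ≤ n) (f : (Fin n → F) → (Fin n → F) → F) (hf : Cfsg.Geo.IsUnitaryFormPow q₀ f)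
    (r : ℕ) [Fact r.Prime] (hr : r = 2 ∨ r ≠ p) (hgap : ¬ (n = 6 ∧ r = 3))
    (hΩ : r ∣ (Cfsg.Geo.similarityGroup f).relIndex (Cfsg.Geo.specialLinear (Fin n) F)) :
    (∀ x ∈ Cfsg.Geo.specialLinear (Fin n) F, (∃ z : F, ((x ^ r : GL (Fin n) F) : Matrix (Fin n) (Fin n) F) = z • (1 : Matrix (Fin n) (Fin n) F)) →
      (∀ z : F, (x : Matrix (Fin n) (Fin n) F) ≠ z • (1 : Matrix (Fin n) (Fin n) F)) →
      ∃ g ∈ Cfsg.Geo.specialLinear (Fin n) F, g⁻¹ * x * g ∈ Cfsg.Geo.similarityGroup f) ↔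
    ((r = 2 ∧ (p = 2 ∨ padicValNat 2 n ≤ padicValNat 2 (q - 1))) ∨ ((r = 3 ∨ r = 5) ∧ n = r ∧ padicValNat r (q₀ - 1) = 1)) := by
  obtain ⟨K⟩ := CfsgLib.Classical.Herm.exists_conj_of_card (hq.trans hq₀)
  have hfu : Cfsg.Geo.IsUnitaryForm K.bar f := by
    refine ⟨?_, K.bar_bar, hf.add_left, hf.smul_left, fun v w => by rw [K.bar_apply]; exact hf.herm v w,
      hf.nondegenerate⟩
    intro h
    obtain ⟨y, hy⟩ := K.exists_moved
    exact hy (by rw [h]; rfl)
  obtain ⟨q', ⟨K'⟩, P₀, hP₀⟩ := CfsgLib.Classical.HermSim.exists_coord K.bar f hfu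
  have hq' : q' = q₀ := Nat.pow_left_injective two_ne_zero (K'.card.symm.trans K.card)
  subst hq'
  clear K'
  have hmem : ∀ y : GL (Fin n) F, y ∈ Cfsg.Geo.similarityGroup f ↔
      P₀⁻¹ * y * P₀ ∈ Cfsg.Geo.similarityGroup (Cfsg.hermForm n F q') := by
    intro y
    refine exists_congr fun c => ⟨fun h u v => ?_, fun h u v => ?_⟩
    · rw [← hP₀, ← hP₀, Units.val_mul, Units.val_mul, ← Matrix.mulVec_mulVec, ← Matrix.mulVec_mulVec,
        ← Matrix.mulVec_mulVec, ← Matrix.mulVec_mulVec]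
      simp only [Matrix.mulVec_mulVec _ (P₀ : Matrix (Fin n) (Fin n) F) ((P₀⁻¹ : GL (Fin n) F) : Matrix (Fin n) (Fin n) F),
        Units.mul_inv, Matrix.one_mulVec]
      exact h _ _
    · have h1 := h (((P₀⁻¹ : GL (Fin n) F) : Matrix (Fin n) (Fin n) F) *ᵥ u)
        (((P₀⁻¹ : GL (Fin n) F) : Matrix (Fin n) (Fin n) F) *ᵥ v)
      rw [← hP₀, ← hP₀] at h1
      simp only [Units.val_mul, ← Matrix.mulVec_mulVec] at h1
      simp only [Matrix.mulVec_mulVec _ (P₀ : Matrix (Fin n) (Fin n) F) ((P₀⁻¹ : GL (Fin n) F) : Matrix (Fin n) (Fin n) F),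
        Units.mul_inv, Matrix.one_mulVec] at h1
      exact h1
  have hmap : Cfsg.Geo.similarityGroup f =
      (Cfsg.Geo.similarityGroup (Cfsg.hermForm n F q')).map (MulAut.conj P₀).toMonoidHom := by
    ext y
    rw [hmem, Subgroup.mem_map_equiv, MulAut.conj_symm_apply]
  have hr' : r.Prime := Fact.out
  constructor
  · intro h
    by_contra hcond
    obtain ⟨hc2, hc35⟩ := not_or.1 hcond
    have h' : ∀ x ∈ Cfsg.Geo.specialLinear (Fin n) F,
        (∃ z : F, ((x ^ r : GL (Fin n) F) : Matrix (Fin n) (Fin n) F) = z • (1 : Matrix (Fin n) (Fin n) F)) →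
        (∀ z : F, (x : Matrix (Fin n) (Fin n) F) ≠ z • (1 : Matrix (Fin n) (Fin n) F)) →
        ∃ g ∈ Cfsg.Geo.specialLinear (Fin n) F, g⁻¹ * x * g ∈ Cfsg.Geo.similarityGroup (Cfsg.hermForm n F q') := by
      intro x hx hz hns
      have hN : (Cfsg.Geo.specialLinear (Fin n) F).Normal := MonoidHom.normal_ker _
      have hd : (x : Matrix (Fin n) (Fin n) F).det = 1 := congrArg Units.val (MonoidHom.mem_ker.1 hx)
      obtain ⟨z, hz⟩ := hz
      have hz' : ∃ w : F, (((P₀ * x * P₀⁻¹) ^ r : GL (Fin n) F) : Matrix (Fin n) (Fin n) F) =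
          w • (1 : Matrix (Fin n) (Fin n) F) := ⟨z, by
        rw [conj_pow, Units.val_mul, Units.val_mul, hz, Matrix.mul_smul, Matrix.smul_mul, Matrix.mul_one,
          Units.mul_inv]⟩
      obtain ⟨g, hg, hgm⟩ := h (P₀ * x * P₀⁻¹) (hN.conj_mem x hx P₀) hz' (fun w hw => hns w (by
        calc (x : Matrix (Fin n) (Fin n) F)
            = ((P₀⁻¹ : GL (Fin n) F) : Matrix (Fin n) (Fin n) F) *
                ((P₀ * x * P₀⁻¹ : GL (Fin n) F) : Matrix (Fin n) (Fin n) F) * (P₀ : Matrix (Fin n) (Fin n) F) := by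
              rw [← Units.val_mul, ← Units.val_mul]; congr 1; group
          _ = w • 1 := by rw [hw, Matrix.mul_smul, Matrix.smul_mul, Matrix.mul_one, Units.inv_mul]))
      refine ⟨P₀⁻¹ * g * P₀, by simpa using hN.conj_mem g hg P₀⁻¹, ?_⟩
      have h1 := (hmem _).1 hgm
      convert h1 using 1
      group
    by_cases hr2 : r = 2
    · subst hr2
      obtain ⟨hp2, hv⟩ := not_or.1 (fun hh => hc2 ⟨rfl, hh⟩)
      exact negative_two (p := p) K hq hp2 hn hv h'
    have hrp : r ≠ p := hr.resolve_left hr2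
    have hΩ' : r ∣ (Cfsg.Geo.similarityGroup (Cfsg.hermForm n F q')).relIndex (Cfsg.Geo.specialLinear (Fin n) F) := by
      have hN : (Cfsg.Geo.specialLinear (Fin n) F).Normal := MonoidHom.normal_ker _
      have hSL : (Cfsg.Geo.specialLinear (Fin n) F).map (MulAut.conj P₀).toMonoidHom =
          Cfsg.Geo.specialLinear (Fin n) F := by
        ext y
        rw [Subgroup.mem_map_equiv, MulAut.conj_symm_apply]
        constructor
        · intro hy
          have := hN.conj_mem _ hy P₀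
          simpa [mul_assoc] using this
        · intro hy
          have := hN.conj_mem _ hy P₀⁻¹
          simpa [mul_assoc] using this
      rw [hmap, ← hSL, Subgroup.relIndex_map_map_of_injective] at hΩ
      · exact hΩ
      · exact (MulAut.conj P₀).injective
    obtain ⟨j, hj2, hjn, hj⟩ := index_data (p := p) K hq hn hr' hrp hΩ'
    have hno : ∀ e : ℕ, Odd e → (q' : ZMod r) ^ e ≠ -1 := fun e he => no_twist hr2 hj he
    have hin : orderOf (q : ZMod r) ≤ n := by
      refine (orderOf_le_of_pow_eq_one (by omega) ?_).trans hjn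
      rw [hq₀, Nat.cast_pow, ← pow_mul, mul_comm, pow_mul, hj, neg_sq, ← pow_mul, mul_comm, pow_mul]
      simp
    obtain ⟨hi0, -, hi1⟩ := CfsgLib.Derange.orderOf_mod (p := p) hq hr' hrp
    by_cases hrq : r ∣ q - 1
    · have h2 := K.two_le
      have hd : ¬ r ∣ q' + 1 := fun hd => hno 1 odd_one (by
        have h1 := (ZMod.natCast_eq_zero_iff _ _).2 hd
        rw [Nat.cast_add, Nat.cast_one, ← eq_neg_iff_add_eq_zero] at h1
        rw [pow_one, h1])
      have hsplit : q - 1 = (q' + 1) * (q' - 1) := by rw [← Nat.sq_sub_sq, hq₀, one_pow]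
      have hd0 : r ∣ q' - 1 := (hr'.dvd_mul.1 (hsplit ▸ hrq)).resolve_left hd
      have hvv : padicValNat r (q - 1) = padicValNat r (q' - 1) := by
        rw [hsplit, padicValNat.mul (by omega) (by omega), padicValNat.eq_zero_of_not_dvd hd, zero_add]
      exact case_split (p := p) K hq hr' hr2 hd0 hn hgap hrq (hvv ▸ hc35) h'
    have h2i : 2 ≤ orderOf (q : ZMod r) := by
      by_contra h'
      exact hrq (hi1.1 (by omega))
    exact case_block (p := p) K hq hr' hrp h2i hin hno h'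
  · rintro hcond x hx ⟨z, hz⟩ -
    rw [Units.val_pow_eq_pow_val] at hz
    rcases hcond with ⟨rfl, hc⟩ | ⟨h35, hnr, hv⟩
    · exact positive_two (p := p) K hq hn hc x hx hz hmem
    · exact positive_odd (p := p) K hq h35 hv hnr x hx hz hmem

end Cfsg.Agent.S5982
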