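import Cfsg.Statements.S5983
import Cfsg.Agent.Lib.Derange.EvenQInvol
import Cfsg.Agent.Lib.Derange.Window
-- import your own Cfsg.Agent.* helpers here

set_option autoImplicit false
open scoped MatrixGroups
open Cfsg

namespace Cfsg.Agent.S5983

/-- Elements of prime order of PSp_n(q), q even, and the subgroups of orthogonal type. Here `T = Sp_{2d}(F)` for a field `F` of characteristic 2 with `q` elements (`d ≥ 2`, `(d, q) ≠ (2, 2)`), realised as the invertible matrices preserving the standard alternating form; `Q` is a non-degenerate quadratic form on `F^{2d}` whose polar form is that alternating form, and `H` is the subgroup of `T` preserving `Q` up to a scalar (equivalently preserving `Q`) — a subgroup of type O^±_{2d}(q) (maximality is not assumed); `Q` is of plus type when `F^{2d}` contains a `d`-dimensional subspace on which `Q` vanishes, of minus type otherwise. Ω is the set of cosets of `H` in `T`, so an element of `T` of prime order `r`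 (`x ∈ T` with `x^r` scalar, `x` not scalar) fixes a point of Ω exactly when some `T`-conjugate of `x` preserves `Q`. Let `r` be a prime dividing the index of `H`. Then every element of `T` of order `r` fixes a point of Ω if and only if `r = 2` and either `Q` is of plus type or `d` is odd. -/
theorem result {F : Type*} [Field F] [Fintype F] {p : ℕ} [Fact p.Prime] [CharP F p] {q : ℕ} (hq : Fintype.card F = q)
    (hp : p = 2) (d : ℕ) (hd : 2 ≤ d) (hT : (d, q) ≠ (2, 2)) (Q : (Fin d ⊕ Fin d → F) → F) (hQ : Cfsg.Geo.IsNondegenerateQuadraticForm Q)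
    (hQf : ∀ u v, QuadraticMap.polar Q u v = Cfsg.sympForm d F u v)
    (r : ℕ) [Fact r.Prime]
    (hΩ : r ∣ (Cfsg.Geo.quadSimilarityGroup Q).relIndex (Cfsg.spGL d F)) :
    (∀ x ∈ Cfsg.spGL d F, (∃ z : F, ((x ^ r : GL (Fin d ⊕ Fin d) F) : Matrix (Fin d ⊕ Fin d) (Fin d ⊕ Fin d) F) = z • (1 : Matrix (Fin d ⊕ Fin d) (Fin d ⊕ Fin d) F)) →
      (∀ z : F, (x : Matrix (Fin d ⊕ Fin d) (Fin d ⊕ Fin d) F) ≠ z • (1 : Matrix (Fin d ⊕ Fin d) (Fin d ⊕ Fin d) F)) →
      ∃ g ∈ Cfsg.spGL d F, g⁻¹ * x * g ∈ Cfsg.Geo.quadSimilarityGroup Q) ↔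
    (r = 2 ∧ (Cfsg.Geo.IsPlusTypeOn Q ⊤ ∨ Odd d)) := by
  haveI : CharP F 2 := hp ▸ (inferInstance : CharP F p)
  haveI : Fact (Nat.Prime 2) := ⟨Nat.prime_two⟩
  obtain ⟨Q, hQe, hB⟩ := CfsgLib.Orth.exists_quadForm hQ
  subst hQe
  have hpol : QuadraticMap.polar ⇑Q = Cfsg.sympForm d F := funext fun u => funext (hQf u)
  have hfin : Module.finrank F (Fin d ⊕ Fin d → F) = 2 * d := by
    rw [Module.finrank_fintype_fun_eq_card]; simp; omega
  have hd1 : 1 ≤ d := by omega
  have hiso := CfsgLib.Derange.sim_inf_spGL hB hd1 hpol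
  have hr : r.Prime := Fact.out
  by_cases hr2 : r = 2
  · subst hr2
    simp only [true_and]
    constructor
    · intro H
      by_contra hc
      push Not at hc
      obtain ⟨hnp, hnodd⟩ := hc
      obtain ⟨x, hxx, hxs, hxQ, -, hxf, hxr⟩ :=
        CfsgLib.Derange.exists_singular_involution (F := F) (Nat.not_odd_iff_even.1 hnodd) (by omega)
      have hxsp : x ∈ Cfsg.spGL d F := fun u v => by
        show Cfsg.sympForm d F ((x : Matrix _ _ F).mulVec u) ((x : Matrix _ _ F).mulVec v) = Cfsg.sympForm d F u v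
        simp only [← CfsgLib.Derange.polar_plus_eq_symp, QuadraticMap.polar, ← Matrix.mulVec_add, hxQ]
      obtain ⟨g, hg, hgx⟩ := H x hxsp ⟨1, by rw [pow_two, hxx, one_smul]; rfl⟩ hxs
      have hy : g⁻¹ * x * g ∈ Cfsg.isometryGroup F ⇑Q :=
        by
          rw [← hiso]
          exact ⟨hgx, Subgroup.mul_mem _ (Subgroup.mul_mem _ (Subgroup.inv_mem _ hg) hxsp) hg⟩
      set M : Matrix (Fin d ⊕ Fin d) (Fin d ⊕ Fin d) F := (x : Matrix (Fin d ⊕ Fin d) (Fin d ⊕ Fin d) F) - 1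
      set G : Matrix (Fin d ⊕ Fin d) (Fin d ⊕ Fin d) F := (↑(g⁻¹) : Matrix (Fin d ⊕ Fin d) (Fin d ⊕ Fin d) F)
      have hM : ∀ v, M.mulVec v = (x : Matrix _ _ F).mulVec v - v := fun v => by
        rw [Matrix.sub_mulVec, Matrix.one_mulVec]
      have hgsp : g⁻¹ ∈ Cfsg.spGL d F := Subgroup.inv_mem _ hg
      have hzero : ∀ v, Q (G.mulVec (M.mulVec v)) = 0 := fun v => by
        have h := hy (G.mulVec v) (G.mulVec v)
        have hG : ((g⁻¹ * x * g : GL (Fin d ⊕ Fin d) F) : Matrix _ _ F).mulVec (G.mulVec v) =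
            G.mulVec v + G.mulVec (M.mulVec v) := by
          rw [← Matrix.mulVec_add, hM, add_sub_cancel]
          simp only [G, Units.val_mul, Matrix.mulVec_mulVec, Matrix.mul_assoc, Units.mul_inv, mul_one]
        change Q (((g⁻¹ * x * g : GL (Fin d ⊕ Fin d) F) : Matrix _ _ F).mulVec (G.mulVec v)) = Q (G.mulVec v) at h
        rw [hG, CfsgLib.Orth.q_add, add_assoc, add_eq_left, hpol] at h
        have hb : Cfsg.sympForm d F (G.mulVec v) (G.mulVec (M.mulVec v)) = Cfsg.sympForm d F v (M.mulVec v) :=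
          hgsp v (M.mulVec v)
        have hvv : Cfsg.sympForm d F v v = 0 := by
          rw [← hpol, CfsgLib.Orth.b_self, CharTwo.two_eq_zero, zero_mul]
        rw [hb, hM, ← hpol, CfsgLib.Orth.b_sub_right, hpol, hxf, hvv, sub_zero, add_zero, ← hM] at h
        exact h
      refine hnp ⟨(LinearMap.range (Matrix.toLin' M)).map (Matrix.toLin' G), le_top, ?_, ?_⟩
      · rintro _ ⟨_, ⟨v, rfl⟩, rfl⟩
        simpa [Matrix.toLin'_apply] using hzero v
      · have hinj : Function.Injective (Matrix.toLin' G) :=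
          Matrix.mulVec_injective_of_isUnit (Units.isUnit _)
        rw [(Submodule.equivMapOfInjective _ hinj _).symm.finrank_eq, hxr, finrank_top, hfin]
    · intro hcase x hx hz _
      obtain ⟨z, hz⟩ := hz
      obtain ⟨P, hP, hPn⟩ := CfsgLib.Orth.exists_quadForm_plus (F := F) d
      have hPpol : QuadraticMap.polar ⇑P = Cfsg.sympForm d F := hP ▸ CfsgLib.Derange.polar_plus_eq_symp
      set T := Matrix.toLin' (x : Matrix (Fin d ⊕ Fin d) (Fin d ⊕ Fin d) F)
      have hTb : ∀ u v, QuadraticMap.polar ⇑P (T u) (T v) = QuadraticMap.polar ⇑P u v := fun u v => by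
        rw [hPpol, Matrix.toLin'_apply, Matrix.toLin'_apply]; exact hx u v
      have hTT : ∀ v, T (T v) = z • v := fun v => by
        rw [Matrix.toLin'_apply, Matrix.toLin'_apply, Matrix.mulVec_mulVec, ← Units.val_mul, ← pow_two, hz,
          Matrix.smul_mulVec, Matrix.one_mulVec]
      have hz1 : z = 1 := by
        let u : Fin d ⊕ Fin d → F := Pi.single (.inl ⟨0, by omega⟩) 1
        obtain ⟨v, hv⟩ : ∃ v, QuadraticMap.polar ⇑P u v ≠ 0 := by
          by_contra hcon
          push Not at hcon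
          have := congrFun (hPn u hcon) (.inl ⟨0, by omega⟩)
          simp [u] at this
        have h := hTb (T u) (T v)
        rw [hTT, hTT, CfsgLib.Orth.b_smul_left, CfsgLib.Orth.b_smul_right, hTb, ← mul_assoc] at h
        exact CfsgLib.Derange.eq_of_sq_eq ((mul_right_cancel₀ hv (h.trans (one_mul _).symm)).trans (one_mul 1).symm)
      have hT : CfsgLib.Derange.PolarInvol P T := ⟨hTb, fun v => by rw [hTT, hz1, one_smul]⟩
      obtain ⟨k, hk, hkp⟩ := CfsgLib.Derange.exists_plus_form hPn hfin hT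
      obtain ⟨R, hRn, hRpol, hRT, hRσ⟩ : ∃ R : QuadraticForm F (Fin d ⊕ Fin d → F), CfsgLib.Orth.Nondeg R ∧
          QuadraticMap.polar ⇑R = Cfsg.sympForm d F ∧ (∀ v, R (T v) = R v) ∧
          (Cfsg.Geo.IsPlusTypeOn ⇑Q ⊤ ↔ Cfsg.Geo.IsPlusTypeOn ⇑R ⊤) := by
        have hn1 := CfsgLib.Derange.addSq_nondeg hPn k
        have hp1 := (CfsgLib.Derange.addSq_polar (Q := P) k).trans hPpol
        by_cases hpl : Cfsg.Geo.IsPlusTypeOn ⇑Q ⊤
        · exact ⟨_, hn1, hp1, hk, iff_of_true hpl hkp⟩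
        · obtain ⟨v, hv, hqv⟩ :=
            CfsgLib.Derange.exists_fixed_nonsingular hn1 hfin (hT.addSq k) hk (hcase.resolve_left hpl)
          obtain ⟨k', hk', hkm⟩ := CfsgLib.Derange.exists_minus_form hn1 hfin (hT.addSq k) hk hkp hv hqv
          exact ⟨_, CfsgLib.Derange.addSq_nondeg hn1 k', (CfsgLib.Derange.addSq_polar k').trans hp1, hk',
            iff_of_false hpl hkm⟩
      obtain ⟨g, hg, hgR⟩ := CfsgLib.Derange.exists_sp_conj hB hRn hpol hRpol hRσ
      refine ⟨g, hg, 1, fun v => ?_⟩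
      rw [Units.val_one, one_mul, ← hgR, Matrix.mulVec_mulVec, ← Units.val_mul,
        show g * (g⁻¹ * x * g) = x * g by group, Units.val_mul, ← Matrix.mulVec_mulVec, ← Matrix.toLin'_apply,
        hRT, hgR]
  · refine iff_of_false (fun H => ?_) (fun h => hr2 h.1)
    have hrp : r ≠ 2 := hr2
    obtain ⟨hrq, hq2⟩ := CfsgLib.Derange.not_dvd_card (p := 2) hq hr hrp
    obtain ⟨hplus, hminus⟩ := CfsgLib.Derange.relIndex_mul_two hB hd1 hpol hq
    have hne1 : (-1 : ZMod r) ≠ 1 := by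
      haveI : Fact (2 < r) := ⟨lt_of_le_of_ne hr.two_le (Ne.symm hr2)⟩
      exact ZMod.neg_one_ne_one
    have key : ((q : ZMod r) ^ d = 1 ∨ (q : ZMod r) ^ d = -1) ∧
        ¬ (Cfsg.Geo.IsPlusTypeOn ⇑Q ⊤ ↔ (q : ZMod r) ^ d = 1) := by
      have hcast : ∀ n : ℕ, r ∣ q ^ d * n → ((n : ℕ) : ZMod r) = 0 := fun n h =>
        (ZMod.natCast_eq_zero_iff _ _).2 ((hr.dvd_mul.1 h).resolve_left fun h' => hrq (hr.dvd_of_dvd_pow h'))
      by_cases hpl : Cfsg.Geo.IsPlusTypeOn ⇑Q ⊤
      · have h := hcast _ (hplus hpl ▸ hΩ.mul_left 2)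
        rw [Nat.cast_add, Nat.cast_pow, Nat.cast_one, ← eq_neg_iff_add_eq_zero] at h
        exact ⟨Or.inr h, fun hiff => hne1 (h ▸ hiff.1 hpl)⟩
      · have h := hcast _ (hminus hpl ▸ hΩ.mul_left 2)
        rw [Nat.cast_sub (Nat.one_le_pow _ _ (by omega)), Nat.cast_pow, Nat.cast_one, sub_eq_zero] at h
        exact ⟨Or.inl h, fun hiff => hpl (hiff.2 h)⟩
    set i := orderOf (q : ZMod r) with hi
    obtain ⟨t, D, X⟩ := CfsgLib.Derange.exists_ctx hq hr hr2 hrp hi
    have hdvd := CfsgLib.Derange.unitDim_dvd hi key.1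
    have hpf := CfsgLib.Derange.plusFree_iff hr2 (by omega) hi key.1
    obtain ⟨R, hRn, hRpol, hRσ⟩ :=
      CfsgLib.Derange.exists_form_of_type (F := F) hd1 (CfsgLib.Derange.PlusFree i (2 * d / CfsgLib.Derange.unitDim i))
    obtain ⟨x, hxr, -, hxs, hxz, -⟩ :=
        CfsgLib.Derange.exists_free_element hRn (d := d) (by simp; omega) hd1 X hdvd hRσ
    have hxsp := CfsgLib.Derange.grp_mem_spGL hRpol x
    have hxr' : ((x : GL (Fin d ⊕ Fin d) F) : GL (Fin d ⊕ Fin d) F) ^ r = 1 := by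
      rw [← SubmonoidClass.coe_pow, hxr]; rfl
    obtain ⟨g, hg, hgx⟩ := H _ hxsp ⟨1, by rw [hxr', one_smul]; rfl⟩ hxz
    have hy : g⁻¹ * (x : GL (Fin d ⊕ Fin d) F) * g ∈ Cfsg.isometryGroup F ⇑Q :=
      by
          rw [← hiso]
          exact ⟨hgx, Subgroup.mul_mem _ (Subgroup.mul_mem _ (Subgroup.inv_mem _ hg) hxsp) hg⟩
    obtain ⟨w, hwr, hws⟩ := CfsgLib.Derange.exists_conj_shaped g x hxr' hy hxs
    exact key.2 ((CfsgLib.Derange.free_element_type hB (d := d) (by simp; omega) X hwr hws).trans hpf.symm)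

end Cfsg.Agent.S5983
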