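import Cfsg.Statements.S5984
import Cfsg.Agent.Lib.Derange.UnitaryPairsFix
import Cfsg.Agent.Lib.Derange.UnitaryPairsOrder

set_option autoImplicit false
open scoped MatrixGroups
open Cfsg

namespace Cfsg.Agent.S5984

open CfsgLib.Derange.UPair CfsgLib.Classical.Herm

/-- The characteristic is odd. -/
theorem two_ne_zero_of_char {F : Type*} [Field F] {p : ℕ} [Fact p.Prime] [CharP F p] (h : 2 ≠ p) :
    (2 : F) ≠ 0 := fun h0 => h (((Nat.prime_dvd_prime_iff_eq (Fact.out : p.Prime) Nat.prime_two).1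
      ((CharP.cast_eq_zero_iff F p 2).1 (by exact_mod_cast h0))).symm)

/-- A norm one scalar with `n`-th power `-1`. -/
theorem exists_neg_one {F : Type*} [Field F] [Finite F] {q : ℕ} (K : CfsgLib.ClassicalAut.Unitary.Conj F q)
    (n : ℕ) (hn : n ≠ 0) (hlt : padicValNat 2 n < padicValNat 2 (q + 1)) :
    ∃ μ : F, μ * K.bar μ = 1 ∧ μ ^ n = -1 := by
  haveI : Finite Fˣ := Finite.of_injective _ Units.val_injective
  set v := padicValNat 2 n
  obtain ⟨e, he⟩ : 2 ^ (v + 1) ∣ q + 1 := (padicValNat_dvd_iff_le (by omega)).2 hlt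
  obtain ⟨g, hg⟩ := IsCyclic.exists_ofOrder_eq_natCard (α := CfsgLib.ClassicalAut.Unitary.normOne K)
  rw [CfsgLib.ClassicalAut.Unitary.card_normOne K, he] at hg
  have he0 : e ≠ 0 := fun h => by rw [h, mul_zero] at he; omega
  have hord : orderOf (g ^ e) = 2 ^ (v + 1) := by
    rw [orderOf_pow, hg, Nat.gcd_mul_left_left, Nat.mul_div_cancel _ (Nat.pos_of_ne_zero he0)]
  set u := g ^ e
  set μ : F := ((u : Fˣ) : F)
  have hval : ∀ k : ℕ, (((u ^ k : CfsgLib.ClassicalAut.Unitary.normOne K) : Fˣ) : F) = μ ^ k := fun k => by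
    simp [μ]
  refine ⟨μ, (CfsgLib.ClassicalAut.Unitary.mem_normOne K).1 u.2, ?_⟩
  obtain ⟨o, ho⟩ : 2 ^ v ∣ n := pow_padicValNat_dvd
  have hoo : Odd o := Nat.not_even_iff_odd.1 fun hev => by
    obtain ⟨o', rfl⟩ := hev.two_dvd
    exact pow_succ_padicValNat_not_dvd (p := 2) hn ⟨o', ho.trans (by rw [pow_succ, mul_assoc])⟩
  have h1 : μ ^ (2 ^ v) * μ ^ (2 ^ v) = 1 := by
    rw [← pow_add, ← two_mul, ← pow_succ', ← hval, ← hord, pow_orderOf_eq_one]
    rfl
  have h2 : μ ^ (2 ^ v) ≠ 1 := fun h => by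
    have h' : u ^ (2 ^ v) = 1 := Subtype.ext (Units.ext (by rw [hval, h]; rfl))
    have h3 := orderOf_dvd_of_pow_eq_one h'
    rw [hord] at h3
    exact absurd (Nat.le_of_dvd (pow_pos two_pos _) h3) (by rw [pow_succ]; have := pow_pos (two_pos (α := ℕ)) v; omega)
  rw [ho, pow_mul, (mul_self_eq_one_iff.1 h1).resolve_left h2, hoo.neg_one_pow]

/-- A square root of the scalar square of a unitary matrix. -/
theorem exists_sqrt {F : Type*} [Field F] [Fintype F] {q : ℕ} (K : CfsgLib.ClassicalAut.Unitary.Conj F q)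
    (n : ℕ) (hn : n ≠ 0) (h2 : (2 : F) ≠ 0) (hqo : Odd q) (hv : padicValNat 2 (q + 1) ≤ padicValNat 2 n)
    {x : GL (Fin n) F} (hx : x ∈ Cfsg.GU n F q ⊓ Cfsg.Geo.specialLinear (Fin n) F) {z : F}
    (hxx : ∀ v, lmap x (lmap x v) = z • v) :
    ∃ μ : F, μ ≠ 0 ∧ z = μ * μ ∧ (μ * K.bar μ = 1 ∨ μ * K.bar μ = -1) ∧ (μ * K.bar μ = 1 → μ ^ n = 1) := by
  have hzn : z * K.bar z = 1 := by
    have h1 := lmap_h hx.1 (lmap x (Pi.single (⟨0, by omega⟩ : Fin n) 1)) (lmap x (Pi.single ⟨0, by omega⟩ 1))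
    rw [hxx, lmap_h hx.1 (Pi.single _ 1) (Pi.single _ 1), h_smul_left K, h_smul_right K, h_single K] at h1
    simpa using h1
  have hz0 : z ≠ 0 := bar_mul_self_ne K hzn
  have hsq : IsSquare z := by
    have hF : ringChar F ≠ 2 := fun h => h2 (by
      have := (ringChar.spec F 2).2 (by rw [h])
      exact_mod_cast this)
    rw [FiniteField.isSquare_iff hF hz0]
    obtain ⟨t, rfl⟩ := hqo
    rw [show Fintype.card F / 2 = (2 * t + 1 + 1) * t from ?_, pow_mul]
    · rw [pow_succ, ← K.bar_apply, mul_comm, hzn, one_pow]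
    · rw [← Nat.card_eq_fintype_card, K.card,
        show (2 * t + 1) ^ 2 = 1 + 2 * ((2 * t + 1 + 1) * t) by ring]
      omega
  obtain ⟨μ, hμ⟩ := hsq
  have hμ0 : μ ≠ 0 := fun h => hz0 (by rw [hμ, h, mul_zero])
  refine ⟨μ, hμ0, hμ, mul_self_eq_one_iff.1 ?_, fun hμn => ?_⟩
  · rw [← hzn, hμ, map_mul]; ring
  have hdet : (μ ^ n) * (μ ^ n) = 1 := by
    have hM : lmap x * lmap x = z • (1 : Module.End F (Fin n → F)) := LinearMap.ext fun v => by simpa using hxx v
    have := congrArg LinearMap.det hM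
    rw [map_mul, LinearMap.det_smul, map_one, mul_one, Module.finrank_fin_fun, LinearMap.det_toLin'] at this
    rw [← mul_pow, ← hμ, ← this, show ((x : Matrix (Fin n) (Fin n) F)).det = 1 from
      congrArg Units.val (MonoidHom.mem_ker.1 hx.2), mul_one]
  refine (mul_self_eq_one_iff.1 hdet).resolve_right fun hneg => ?_
  set v := padicValNat 2 n
  obtain ⟨o, ho⟩ : 2 ^ v ∣ n := pow_padicValNat_dvd
  haveI : Fact (Nat.Prime 2) := ⟨Nat.prime_two⟩
  have hne : (-1 : F) ≠ 1 := fun h => h2 (by linear_combination -h)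
  have hw : (μ ^ o) ^ (2 ^ v) = -1 := by rw [← pow_mul, mul_comm, ← ho, hneg]
  have hord : orderOf (μ ^ o) = 2 ^ (v + 1) := orderOf_eq_prime_pow (by rw [hw]; exact hne)
    (by rw [pow_succ, pow_mul, hw, neg_one_sq])
  have hdiv : 2 ^ (v + 1) ∣ q + 1 := hord ▸ orderOf_dvd_of_pow_eq_one (by
    rw [← pow_mul, mul_comm, pow_mul, pow_succ, ← K.bar_apply, mul_comm, hμn, one_pow])
  have := (padicValNat_dvd_iff_le (p := 2) (by omega)).1 hdiv
  omega

/-- Elements of prime order of PSU_n(q) and the stabilizers of pairs of complementary totally singular subspaces. Here `T = PSU_n(q)` is realised through `SU_n(q)`, the matrices of determinant 1 over the field `F` with `q²` elements preserving the hermitian form `Σ uᵢ vᵢ^q`, with `n ≥ 4` even; `D` is a pair of complementary subspaces of dimension `n/2` on each of which the form vanishes identically, and `H` is the subgroup of `SU_n(q)` fixing or interchanging the two members — a subgroup of type GL_{n/2}(q²).2 (maximality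 is not assumed). Ω is the set of cosets of `H`, so an element of `T` of prime order `r` (`x ∈ SU_n(q)` with `x^r` scalar, `x` not scalar) fixes a point of Ω exactly when some `SU_n(q)`-conjugate of `x` lies in `H`. Let `r` be a prime dividing the index of `H`. Then every element of `T` of order `r` fixes a point of Ω if and only if `r = 2`, `q` is odd and `(q + 1)_2 ≤ (n)_2` (2-parts). -/
theorem result {F : Type*} [Field F] [Fintype F] {p : ℕ} [Fact p.Prime] [CharP F p] {q : ℕ} (hq : Fintype.card F = q ^ 2)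
    (n : ℕ) (hn : 4 ≤ n) (he : Even n) (D : Fin 2 → Submodule F (Fin n → F)) (hD : Cfsg.Geo.IsMDecomposition (n / 2) D)
    (hDs : ∀ i, Cfsg.Geo.IsTotallySingularFor (Cfsg.hermForm n F q) (D i))
    (r : ℕ) [Fact r.Prime]
    (hΩ : r ∣ (Cfsg.Geo.decompositionStabilizer D).relIndex (Cfsg.GU n F q ⊓ Cfsg.Geo.specialLinear (Fin n) F)) :
    (∀ x ∈ Cfsg.GU n F q ⊓ Cfsg.Geo.specialLinear (Fin n) F, (∃ z : F, ((x ^ r : GL (Fin n) F) : Matrix (Fin n) (Fin n) F) = z • (1 : Matrix (Fin n) (Fin n) F)) →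
      (∀ z : F, (x : Matrix (Fin n) (Fin n) F) ≠ z • (1 : Matrix (Fin n) (Fin n) F)) →
      ∃ g ∈ Cfsg.GU n F q ⊓ Cfsg.Geo.specialLinear (Fin n) F, g⁻¹ * x * g ∈ Cfsg.Geo.decompositionStabilizer D) ↔
    (r = 2 ∧ Odd q ∧ padicValNat 2 (q + 1) ≤ padicValNat 2 n) := by
  classical
  obtain ⟨K⟩ := CfsgLib.Classical.Herm.exists_conj_of_card hq
  obtain ⟨m, rfl⟩ := he
  have hD' : Cfsg.Geo.IsMDecomposition m D := by rwa [show (m + m) / 2 = m by omega] at hD
  have hr := (Fact.out : r.Prime)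
  have hp := (Fact.out : p.Prime)
  obtain ⟨f, -, hf⟩ : ∃ f, 0 < f ∧ q = p ^ f := by
    obtain ⟨k, -, hk⟩ := FiniteField.card F p
    obtain ⟨f, -, hf⟩ := (Nat.dvd_prime_pow hp).1 (show q ∣ p ^ (k : ℕ) from hk ▸ hq ▸ dvd_pow_self q two_ne_zero)
    refine ⟨f, Nat.pos_of_ne_zero fun h => ?_, hf⟩
    have := K.two_le
    rw [hf, h, pow_zero] at this
    omega
  constructor
  · intro hall
    -- derangements
    have key : ∀ x ∈ Cfsg.GU (m + m) F q ⊓ Cfsg.Geo.specialLinear (Fin (m + m)) F, ∀ z μ : F,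
        ((x ^ r : GL (Fin (m + m)) F) : Matrix (Fin (m + m)) (Fin (m + m)) F) = z • (1 : Matrix _ _ F) →
        μ * K.bar μ = 1 → Odd (Module.finrank F (eig x μ)) → (m < Module.finrank F (eig x μ) ∨ Odd r) → False := by
      intro x hx z μ hz hμ hodd hsw
      obtain ⟨g, hg, hgx⟩ := hall x hx ⟨z, hz⟩ fun c hc => by
        have hlm : ∀ v, lmap x v = c • v := fun v => by simp [lmap, hc]
        by_cases hcμ : c = μ
        · rw [show eig x μ = ⊤ from eq_top_iff.2 fun v _ => mem_eig.2 (hcμ ▸ hlm v), finrank_top,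
            Module.finrank_fin_fun] at hodd
          exact Nat.not_even_iff_odd.2 hodd ⟨m, rfl⟩
        · rw [show eig x μ = ⊥ from (Submodule.eq_bot_iff _).2 fun v hv => by
              have := (hlm v).symm.trans (mem_eig.1 hv)
              rw [← sub_eq_zero, ← sub_smul, smul_eq_zero] at this
              exact this.resolve_left (sub_ne_zero.2 hcμ), finrank_bot] at hodd
          exact Nat.not_even_iff_odd.2 hodd ⟨0, rfl⟩
      exact not_mem_stab K rfl hD' hDs hx.1 hg.1 hμ hodd (hsw.imp id fun h => ⟨r, h, z, hz⟩) hgx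
    have hrp : r ≠ p := by
      rintro rfl
      obtain ⟨x, hx, hxr, hfix⟩ := exists_transvection K (n := m + m) (by omega) r
      refine key x hx 1 1 (by rw [hxr, one_smul]; rfl) (by rw [map_one, mul_one]) ?_ (Or.inl (by omega))
      rw [hfix, Nat.odd_iff]
      omega
    have hrq : ¬ r ∣ q := fun h => hrp ((Nat.prime_dvd_prime_iff_eq hr hp).1 (hr.dvd_of_dvd_pow (hf ▸ h)))
    by_cases hr2 : r = 2
    · subst hr2
      have hqo : Odd q := Nat.not_even_iff_odd.1 fun h => hrq h.two_dvd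
      refine ⟨rfl, hqo, not_lt.1 fun hlt => ?_⟩
      obtain ⟨μ, hμ, hμn⟩ := exists_neg_one K (m + m) (by omega) hlt
      obtain ⟨k, hk⟩ : ∃ k, m + m = k + 1 := ⟨m + m - 1, by omega⟩
      let d : Fin (m + m) → F := fun i => if (i : ℕ) = 0 then -μ else μ
      have hd : ∀ i, d i * K.bar (d i) = 1 := fun i => by
        simp only [d]; split <;> simp [hμ]
      have hne : -μ ≠ μ := fun h => bar_mul_self_ne K hμ (by
        have h2 : (2 : F) ≠ 0 := two_ne_zero_of_char hrp
        exact (mul_eq_zero.1 (show (2 : F) * μ = 0 by linear_combination -h)).resolve_left h2)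
      have hdet : ∏ i, d i = 1 := by
        rw [← (finCongr hk).symm.prod_comp, Fin.prod_univ_succ]
        simp only [d, finCongr_symm, finCongr_apply, Fin.val_cast, Fin.val_zero, if_true, Fin.val_succ,
          Nat.succ_ne_zero, if_false, Finset.prod_const, Finset.card_univ, Fintype.card_fin]
        rw [neg_mul, ← pow_succ', ← hk, hμn, neg_neg]
      obtain ⟨x, hx, hz, hfix⟩ := exists_diag K d hd hdet 2 (μ ^ 2) (fun i => by
        simp only [d]; split <;> simp) μ
      have hc : Nat.card {i // d i ≠ μ} = 1 := Nat.card_eq_one_iff_unique.2 ⟨⟨fun a c => by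
        have : ∀ i, d i ≠ μ → (i : ℕ) = 0 := fun i hi => by
          by_contra h0; exact hi (by simp [d, h0])
        exact Subtype.ext (Fin.ext ((this _ a.2).trans (this _ c.2).symm))⟩, ⟨⟨⟨0, by omega⟩, by simpa [d] using hne⟩⟩⟩
      refine key x hx _ μ hz hμ ?_ (Or.inl (by omega))
      rw [Nat.odd_iff]
      omega
    exfalso
    have hro : Odd r := hr.odd_of_ne_two hr2
    obtain ⟨k, hk, hkd⟩ := exists_dvd_of_relIndex K rfl hD' hDs hr hrq hΩ
    have hex : ∃ c, Odd c ∧ r ∣ q ^ c + 1 := ⟨2 * k + 1, ⟨k, rfl⟩, hkd⟩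
    obtain ⟨hbo, hbd⟩ := Nat.find_spec hex
    have hbn : Nat.find hex ≤ 2 * k + 1 := Nat.find_min' hex ⟨⟨k, rfl⟩, hkd⟩
    rcases Nat.lt_or_ge 1 (Nat.find hex) with hb1 | hb1
    · obtain ⟨x, hx, hxr, hfix⟩ := exists_block K (p := p) (n := m + m) hr hr2 hrp hbo hb1 (by omega) hbd
        fun c hc hlt hd => Nat.find_min hex hlt ⟨hc, hd⟩
      refine key x hx 1 1 (by rw [hxr, one_smul]; rfl) (by rw [map_one, mul_one]) ?_ (Or.inr hro)
      obtain ⟨s, hs⟩ := hbo
      rw [hfix, Nat.odd_iff]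
      omega
    · have hb : Nat.find hex = 1 := by
        obtain ⟨s, hs⟩ := hbo
        omega
      rw [hb, pow_one] at hbd
      obtain ⟨ζ, hζ⟩ := exists_prime_orderOf_dvd_card' r (CfsgLib.ClassicalAut.Unitary.card_normOne K ▸ hbd)
      set a : F := ((ζ : Fˣ) : F) with ha
      have han : a * K.bar a = 1 := (CfsgLib.ClassicalAut.Unitary.mem_normOne K).1 ζ.2
      have ha0 : a ≠ 0 := bar_mul_self_ne K han
      have har : a ^ r = 1 := by
        have := congrArg (fun w : CfsgLib.ClassicalAut.Unitary.normOne K => ((w : Fˣ) : F)) (pow_orderOf_eq_one ζ)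
        simpa [hζ] using this
      have hane : ∀ j, j = 1 ∨ j = 2 → a ^ j ≠ 1 := fun j hj h => by
        have h' : ζ ^ j = 1 := Subtype.ext (Units.ext (by simpa using h))
        have := Nat.le_of_dvd (by omega) (hζ ▸ orderOf_dvd_of_pow_eq_one h')
        have := hr.two_le
        omega
      let d : Fin (m + m) → F := fun i => if (i : ℕ) < 2 then a else if (i : ℕ) = 2 then (a ^ 2)⁻¹ else 1
      obtain ⟨l, hl⟩ : ∃ l, m + m = l + 1 + 1 + 1 := ⟨m + m - 3, by omega⟩
      have hdet : ∏ i, d i = 1 := by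
        rw [← (finCongr hl).symm.prod_comp, Fin.prod_univ_succ, Fin.prod_univ_succ, Fin.prod_univ_succ]
        simp only [d, finCongr_symm, finCongr_apply, Fin.val_cast, Fin.val_zero, Fin.val_succ]
        simp
        field_simp
      obtain ⟨x, hx, hz, hfix⟩ := exists_diag K d (fun i => by
          simp only [d]
          split
          · exact han
          split
          · rw [map_inv₀, ← mul_inv, map_pow, ← mul_pow, han, one_pow, inv_one]
          · rw [map_one, mul_one]) hdet r 1 (fun i => by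
          simp only [d]
          split
          · exact har
          split
          · rw [inv_pow, ← pow_mul, mul_comm, pow_mul, har, one_pow, inv_one]
          · rw [one_pow]) 1
      have hiff : ∀ i, d i ≠ 1 ↔ (i : ℕ) < 3 := fun i => by
        simp only [d]
        split
        · exact iff_of_true (by simpa using hane 1 (Or.inl rfl)) (by omega)
        split
        · exact iff_of_true (by rw [ne_eq, inv_eq_one]; exact hane 2 (Or.inr rfl)) (by omega)
        · exact iff_of_false (fun h => h rfl) (by omega)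
      have hc : Nat.card {i // d i ≠ 1} = 3 := by
        rw [← Nat.card_fin 3]
        exact Nat.card_congr
          { toFun := fun i => ⟨i.1, (hiff _).1 i.2⟩
            invFun := fun j => ⟨⟨j, by omega⟩, (hiff _).2 j.2⟩
            left_inv := fun i => rfl
            right_inv := fun j => rfl }
      refine key x hx 1 1 hz (by rw [map_one, mul_one]) ?_ (Or.inr hro)
      rw [Nat.odd_iff]
      omega
  · rintro ⟨rfl, hqo, hv⟩ x hx ⟨z, hz⟩ -
    have h2p : 2 ≠ p := by
      rintro rfl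
      have hev : Even q := hf ▸ (Nat.even_pow.2 ⟨even_two, fun h => by
        subst h; rw [pow_zero] at hf; have := K.two_le; omega⟩)
      exact Nat.not_even_iff_odd.2 hqo hev
    have h2 : (2 : F) ≠ 0 := two_ne_zero_of_char h2p
    have hxx : ∀ v, lmap x (lmap x v) = z • v := fun v => by
      rw [← lmap_mul, ← sq]; simp [lmap, hz]
    obtain ⟨μ, hμ0, hμ, hμ2, hμn⟩ := exists_sqrt K (m + m) (by omega) h2 hqo hv hx hxx
    obtain ⟨e, f, E, he, hf'⟩ := exists_dual_of_sq K h2 rfl hx hμ0 (fun v => by rw [hxx, hμ]) hμ2 hμn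
    exact exists_conj_stab K rfl hD' hDs x E he hf'

end Cfsg.Agent.S5984
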