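import Cfsg.Statements.S5985
import Cfsg.Agent.Lib.Derange.NonsingularPoints
-- import your own Cfsg.Agent.* helpers here

set_option autoImplicit false
open scoped MatrixGroups
open Cfsg

namespace Cfsg.Agent.S5985

/-- Elements of prime order of Ω⁺_n(q), q even, with no fixed nonsingular 1-space. Here `T = PΩ⁺_n(F)`, `n = 2d ≥ 8`, realised through `Ω⁺_n(q)`, the commutator subgroup of the isometry group of `Q = Σ xᵢyᵢ` over the field `F` with `q` elements; an element of `T` of prime order `r` is an element `x` of `Ω⁺_n(q)` with `x^r` scalar and `x` not scalar; `q` is even (so the centre is trivial). Let Ω be the set of 1-dimensional subspaces spanned by a vector `v` with `Q(v) ≠ 0`, and let `r` be a prime dividing their number. Then every element of `T` of order `r` fixes some nonsingular 1-space if and only if `r = 2` and `n ≡ 2 (mod 4)` (that is, `d` is odd). -/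
theorem result {F : Type*} [Field F] [Fintype F] {p : ℕ} [Fact p.Prime] [CharP F p] {q : ℕ} (hq : Fintype.card F = q)
    (hp : p = 2) (d : ℕ) (hd : 4 ≤ d) (r : ℕ) [Fact r.Prime]
    (hrΩ : r ∣ Nat.card {W : Submodule F (Fin d ⊕ Fin d → F) // Module.finrank F ↥W = 1 ∧ ∃ v ∈ W, Cfsg.quadFormPlus d F v ≠ 0}) :
    (∀ x : GL (Fin d ⊕ Fin d) F, x ∈ Cfsg.Geo.omegaGL (Cfsg.quadFormPlus d F) →
      (∃ z : F, ((x ^ r : GL (Fin d ⊕ Fin d) F) : Matrix (Fin d ⊕ Fin d) (Fin d ⊕ Fin d) F) = z • (1 : Matrix (Fin d ⊕ Fin d) (Fin d ⊕ Fin d) F)) →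
      (∀ z : F, (x : Matrix (Fin d ⊕ Fin d) (Fin d ⊕ Fin d) F) ≠ z • (1 : Matrix (Fin d ⊕ Fin d) (Fin d ⊕ Fin d) F)) →
      ∃ W : Submodule F (Fin d ⊕ Fin d → F), (Module.finrank F ↥W = 1 ∧ ∃ v ∈ W, Cfsg.quadFormPlus d F v ≠ 0) ∧ W.map (Matrix.toLin' (x : Matrix (Fin d ⊕ Fin d) (Fin d ⊕ Fin d) F)) ≤ W) ↔ (r = 2 ∧ Odd d) := by
  haveI : CharP F 2 := hp ▸ (inferInstance : CharP F p)
  obtain ⟨Q, hQ, hB⟩ := CfsgLib.Orth.exists_quadForm_plus (F := F) d
  rw [← hQ] at hrΩ ⊢
  have hfin : Module.finrank F (Fin d ⊕ Fin d → F) = 2 * d := by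
    rw [Module.finrank_fintype_fun_eq_card]; simp; omega
  have hr : r.Prime := Fact.out
  by_cases hr2 : r = 2
  · subst hr2
    simp only [true_and]
    constructor
    · intro H
      by_contra hodd
      obtain ⟨x, hxx, hxs, hxQ, hxf, -, hxr⟩ :=
        CfsgLib.Derange.exists_singular_involution (F := F) (Nat.not_odd_iff_even.1 hodd) (by omega)
      let g : CfsgLib.Orth.Grp Q := ⟨x, fun u _ => by
        show Q ((x : Matrix (Fin d ⊕ Fin d) (Fin d ⊕ Fin d) F).mulVec u) = Q u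
        rw [hQ]; exact hxQ u⟩
      have hg : g ∈ Cfsg.Omega F ⇑Q :=
        (CfsgLib.Classical.InvolutionOrth.mem_omega_iff hB (by omega) (fun h => by omega) g).2 (by
          show Even (Module.finrank F ↥(LinearMap.range (Matrix.toLin' ((x : Matrix (Fin d ⊕ Fin d) (Fin d ⊕ Fin d) F) - 1))))
          exact hxr.symm ▸ Nat.not_odd_iff_even.1 hodd)
      obtain ⟨W, ⟨hW, v, hv, hqv⟩, hWx⟩ := H x ⟨g, hg, rfl⟩ ⟨1, by rw [pow_two, hxx, one_smul]; rfl⟩ hxs
      refine hqv ?_
      rw [hQ]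
      exact hxf v (CfsgLib.Derange.fixed_of_stable g hW hv hqv hWx)
    · rintro hodd _ ⟨g, hg, rfl⟩ ⟨z, hz⟩ -
      exact (CfsgLib.Derange.fixed_or_even hB (d := d) (by simp; omega) (by omega) g hg hz).resolve_right
        fun h => Nat.not_even_iff_odd.2 hodd h.1
  · refine iff_of_false (fun H => ?_) (fun h => hr2 h.1)
    obtain ⟨hrq, hq2⟩ := CfsgLib.Derange.not_dvd_card (p := 2) hq hr hr2
    have hN := CfsgLib.Derange.points_mul Q (ε := 1) hq (d := d) (by simp; omega) (by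
      rw [hQ, ← hq, CfsgLib.Classical.OrthPrimeReal.card_zero_plus]; ring)
    have hqd : (q : ZMod r) ^ d = 1 := by
      have h := congrArg (Int.cast (R := ZMod r)) hN
      push_cast at h
      rw [(ZMod.natCast_eq_zero_iff _ _).2 hrΩ, mul_zero] at h
      have hq0 : (q : ZMod r) ^ d ≠ 0 := pow_ne_zero _ fun h0 => hrq ((ZMod.natCast_eq_zero_iff _ _).1 h0)
      exact sub_eq_zero.1 ((mul_eq_zero.1 h.symm).resolve_left hq0)
    refine CfsgLib.Derange.not_all_fix hB (d := d) (by simp; omega) (by omega) hq hr hr2 (Or.inl hqd)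
      (iff_of_true ((CfsgLib.Derange.plus_top_iff hB hfin).2 (hQ ▸ CfsgLib.Classical.OrthModels.Iso.refl _)) hqd) H

end Cfsg.Agent.S5985
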