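import Cfsg.Statements.S5986
import Cfsg.Agent.Lib.Derange.NonsingularPoints
-- import your own Cfsg.Agent.* helpers here

set_option autoImplicit false
open scoped MatrixGroups
open Cfsg

namespace Cfsg.Agent.S5986

/-- Elements of prime order of Ω⁻_n(q), q even, with no fixed nonsingular 1-space. Here `T = PΩ⁻_n(F)`, `n = 2d ≥ 8`, realised through `Ω⁻_n(q)`, the commutator subgroup of the isometry group of `Q = Σ_{i<d−1} xᵢyᵢ + z₁² + a z₁z₂ + b z₂²` with `z₁² + a z₁z₂ + b z₂²` anisotropic, over the field `F` with `q` elements; an element of `T` of prime order `r` is an element `x` of `Ω⁻_n(q)` with `x^r` scalar and `x` not scalar; `q` is even (so the centre is trivial). Let Ω be the set of 1-dimensional subspaces spanned by a vector `v` with `Q(v) ≠ 0`, and let `r` be a prime dividing their number. Then every element of `T` of order `r` fixes some nonsingular 1-space if and only if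 `r = 2`. -/
theorem result {F : Type*} [Field F] [Fintype F] {p : ℕ} [Fact p.Prime] [CharP F p] {q : ℕ} (hq : Fintype.card F = q)
    (hp : p = 2) (d : ℕ) (hd : 4 ≤ d) (a b : F) (hab : ∀ x y : F, x ^ 2 + a * x * y + b * y ^ 2 = 0 → x = 0 ∧ y = 0) (r : ℕ) [Fact r.Prime]
    (hrΩ : r ∣ Nat.card {W : Submodule F ((Fin (d - 1) ⊕ Fin (d - 1)) ⊕ Fin 2 → F) // Module.finrank F ↥W = 1 ∧ ∃ v ∈ W, Cfsg.quadFormMinus (d - 1) F a b v ≠ 0}) :
    (∀ x : GL ((Fin (d - 1) ⊕ Fin (d - 1)) ⊕ Fin 2) F, x ∈ Cfsg.Geo.omegaGL (Cfsg.quadFormMinus (d - 1) F a b) →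
      (∃ z : F, ((x ^ r : GL ((Fin (d - 1) ⊕ Fin (d - 1)) ⊕ Fin 2) F) : Matrix ((Fin (d - 1) ⊕ Fin (d - 1)) ⊕ Fin 2) ((Fin (d - 1) ⊕ Fin (d - 1)) ⊕ Fin 2) F) = z • (1 : Matrix ((Fin (d - 1) ⊕ Fin (d - 1)) ⊕ Fin 2) ((Fin (d - 1) ⊕ Fin (d - 1)) ⊕ Fin 2) F)) →
      (∀ z : F, (x : Matrix ((Fin (d - 1) ⊕ Fin (d - 1)) ⊕ Fin 2) ((Fin (d - 1) ⊕ Fin (d - 1)) ⊕ Fin 2) F) ≠ z • (1 : Matrix ((Fin (d - 1) ⊕ Fin (d - 1)) ⊕ Fin 2) ((Fin (d - 1) ⊕ Fin (d - 1)) ⊕ Fin 2) F)) →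
      ∃ W : Submodule F ((Fin (d - 1) ⊕ Fin (d - 1)) ⊕ Fin 2 → F), (Module.finrank F ↥W = 1 ∧ ∃ v ∈ W, Cfsg.quadFormMinus (d - 1) F a b v ≠ 0) ∧ W.map (Matrix.toLin' (x : Matrix ((Fin (d - 1) ⊕ Fin (d - 1)) ⊕ Fin 2) ((Fin (d - 1) ⊕ Fin (d - 1)) ⊕ Fin 2) F)) ≤ W) ↔ r = 2 := by
  haveI : CharP F 2 := hp ▸ (inferInstance : CharP F p)
  obtain ⟨Q, hQ, hB⟩ := CfsgLib.Orth.exists_quadForm_minus (d - 1) hab
  rw [← hQ] at hrΩ ⊢
  have hcard : Fintype.card ((Fin (d - 1) ⊕ Fin (d - 1)) ⊕ Fin 2) = 2 * d := by simp; omega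
  have hfin : Module.finrank F ((Fin (d - 1) ⊕ Fin (d - 1)) ⊕ Fin 2 → F) = 2 * d := by
    rw [Module.finrank_fintype_fun_eq_card, hcard]
  have hno : ∀ K : Submodule F ((Fin (d - 1) ⊕ Fin (d - 1)) ⊕ Fin 2 → F), (∀ v ∈ K, Q v = 0) →
      Module.finrank F K ≠ d := fun K hK hKd =>
    CfsgLib.Orth.minus_no_half (d - 1) hab hQ hB K ⟨hK, by rw [hfin, hKd]⟩
  have hr : r.Prime := Fact.out
  by_cases hr2 : r = 2
  · subst hr2
    refine iff_of_true ?_ rfl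
    rintro _ ⟨g, hg, rfl⟩ ⟨z, hz⟩ -
    exact (CfsgLib.Derange.fixed_or_even hB (d := d) hcard (by omega) g hg hz).resolve_right
      fun ⟨_, K, hK, hKd⟩ => hno K hK hKd
  · refine iff_of_false (fun H => ?_) hr2
    obtain ⟨hrq, hq2⟩ := CfsgLib.Derange.not_dvd_card (p := 2) hq hr hr2
    have hN := CfsgLib.Derange.points_mul Q (ε := -1) hq (d := d) hcard (by
      rw [hQ, ← hq, CfsgLib.Classical.OrthPrimeReal.card_zero_minus (d - 1) a b hab, show d - 1 + 2 = d + 1 by omega,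
        show d - 1 + 1 = d by omega]
      ring)
    have hqd : (q : ZMod r) ^ d = -1 := by
      have h := congrArg (Int.cast (R := ZMod r)) hN
      push_cast at h
      rw [(ZMod.natCast_eq_zero_iff _ _).2 hrΩ, mul_zero] at h
      have hq0 : (q : ZMod r) ^ d ≠ 0 := pow_ne_zero _ fun h0 => hrq ((ZMod.natCast_eq_zero_iff _ _).1 h0)
      exact sub_eq_zero.1 ((mul_eq_zero.1 h.symm).resolve_left hq0)
    haveI : Fact (2 < r) := ⟨lt_of_le_of_ne hr.two_le (Ne.symm hr2)⟩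
    refine CfsgLib.Derange.not_all_fix hB (d := d) hcard (by omega) hq hr hr2 (Or.inr hqd) (iff_of_false ?_ ?_) H
    · rintro ⟨K, -, hK, hKd⟩
      rw [finrank_top, hfin] at hKd
      exact hno K hK (by omega)
    · rw [hqd]
      exact ZMod.neg_one_ne_one

end Cfsg.Agent.S5986
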