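import Cfsg.Statements.S5987
import Cfsg.Agent.Lib.Derange.SingEvenMain
import Cfsg.Agent.Lib.Derange.EvenParabolicMain
-- import your own Cfsg.Agent.* helpers here

set_option autoImplicit false
open scoped MatrixGroups
open Cfsg

namespace Cfsg.Agent.S5987

/-- Elements of prime order of PΩ⁻_n(q) with no fixed totally singular `m`-space. Here `T = PΩ⁻_n(F)`, `n = 2d ≥ 8`, realised through `Ω⁻_n(q)`, the commutator subgroup of the isometry group of `Q = Σ_{i<d−1} xᵢyᵢ + z₁² + a z₁z₂ + b z₂²` with `z₁² + a z₁z₂ + b z₂²` anisotropic, over the field `F` with `q` elements; an element of `T` of prime order `r` is an element `x` of `Ω⁻_n(q)` with `x^r` scalar and `x` not scalar. Let `1 ≤ m ≤ d − 1` and let `r` be a prime dividing the number of totally singular `m`-spaces (subspaces of dimension `m` on which `Q` vanishes); for `r ≠ p` let `i` be the multiplicative order of `q` modulo `r`, `c = i` for `i` even and `c = 2i` for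 `i` odd, and write `k = n mod c`, `ℓ = m mod i`, `n' = ⌊n/i⌋`, `m' = ⌊m/i⌋`, `t = (r−1)/i`. Then every element of `T` of order `r` fixes some totally singular `m`-space if and only if one of: (i) `r = 2 ≠ p` and (`n ≡ 0 (mod 4)`, or `m` is even, or `q ≢ 7 (mod 8)`); (ii) `r ≠ p` odd, `i` odd, `i ≤ m` and (`k = 0` or `k > 2ℓ`); (iii) `r ≠ p` odd, `i` even, `i ≤ m`, `n' − 2m' ≥ t`, and one of: (a) `i ≥ 2ℓ`, `k = 0`, `n/i` even and `n' − 2m' > t` (all four); (b) `k ≥ 2ℓ` and `n'` odd; (c) `k > 2ℓ` and `n'` even. -/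
theorem result {F : Type*} [Field F] [Fintype F] {p : ℕ} [Fact p.Prime] [CharP F p] {q : ℕ} (hq : Fintype.card F = q)
    (d m : ℕ) (hd : 4 ≤ d) (hm : 1 ≤ m) (hmd : m + 1 ≤ d) (a b : F) (hab : ∀ x y : F, x ^ 2 + a * x * y + b * y ^ 2 = 0 → x = 0 ∧ y = 0)
    (r : ℕ) [Fact r.Prime]
    (hrΩ : r ∣ Nat.card {W : Submodule F ((Fin (d - 1) ⊕ Fin (d - 1)) ⊕ Fin 2 → F) // Module.finrank F ↥W = m ∧ Cfsg.Geo.IsTotallySingularQuad (Cfsg.quadFormMinus (d - 1) F a b) W})
    (i c : ℕ) (hi : i = orderOf (q : ZMod r)) (hc : c = if Even i then i else 2 * i) :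
    (∀ x : GL ((Fin (d - 1) ⊕ Fin (d - 1)) ⊕ Fin 2) F, x ∈ Cfsg.Geo.omegaGL (Cfsg.quadFormMinus (d - 1) F a b) →
      (∃ z : F, ((x ^ r : GL ((Fin (d - 1) ⊕ Fin (d - 1)) ⊕ Fin 2) F) : Matrix ((Fin (d - 1) ⊕ Fin (d - 1)) ⊕ Fin 2) ((Fin (d - 1) ⊕ Fin (d - 1)) ⊕ Fin 2) F) = z • (1 : Matrix ((Fin (d - 1) ⊕ Fin (d - 1)) ⊕ Fin 2) ((Fin (d - 1) ⊕ Fin (d - 1)) ⊕ Fin 2) F)) →
      (∀ z : F, (x : Matrix ((Fin (d - 1) ⊕ Fin (d - 1)) ⊕ Fin 2) ((Fin (d - 1) ⊕ Fin (d - 1)) ⊕ Fin 2) F) ≠ z • (1 : Matrix ((Fin (d - 1) ⊕ Fin (d - 1)) ⊕ Fin 2) ((Fin (d - 1) ⊕ Fin (d - 1)) ⊕ Fin 2) F)) →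
      ∃ W : Submodule F ((Fin (d - 1) ⊕ Fin (d - 1)) ⊕ Fin 2 → F), (Module.finrank F ↥W = m ∧ Cfsg.Geo.IsTotallySingularQuad (Cfsg.quadFormMinus (d - 1) F a b) W) ∧ W.map (Matrix.toLin' (x : Matrix ((Fin (d - 1) ⊕ Fin (d - 1)) ⊕ Fin 2) ((Fin (d - 1) ⊕ Fin (d - 1)) ⊕ Fin 2) F)) ≤ W) ↔
    ((r = 2 ∧ p ≠ 2 ∧ (Even d ∨ Even m ∨ q % 8 ≠ 7)) ∨
     (r ≠ p ∧ 2 < r ∧ Odd i ∧ i ≤ m ∧ ((2 * d) % c = 0 ∨ 2 * (m % i) < (2 * d) % c)) ∨
     (r ≠ p ∧ 2 < r ∧ Even i ∧ i ≤ m ∧ (r - 1) / i + 2 * (m / i) ≤ (2 * d) / i ∧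
       ((2 * (m % i) ≤ i ∧ (2 * d) % c = 0 ∧ Even ((2 * d) / i) ∧ (r - 1) / i + 2 * (m / i) < (2 * d) / i) ∨
        (2 * (m % i) ≤ (2 * d) % c ∧ Odd ((2 * d) / i)) ∨
        (2 * (m % i) < (2 * d) % c ∧ Even ((2 * d) / i))))) := by
  classical
  unfold Cfsg.Geo.IsTotallySingularQuad at hrΩ ⊢
  obtain ⟨Q, hQ, hB⟩ := CfsgLib.Orth.exists_quadForm_minus (d - 1) hab
  rw [← hQ] at hrΩ ⊢
  simp only [and_assoc]
  have hι : Fintype.card ((Fin (d - 1) ⊕ Fin (d - 1)) ⊕ Fin 2) = 2 * d := by simp; omega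
  rw [CfsgLib.Derange.even_singular_main (p := p) (σ := False) hq hB hι (by omega) hm (by omega)
    (iff_of_false not_false fun h => CfsgLib.Derange.not_plus_minus hab (k := d - 1)
      (by rwa [Nat.sub_add_cancel (by omega : 1 ≤ d)])
      (by rw [hQ]; exact CfsgLib.Classical.OrthModels.Iso.refl _)) (Fact.out) hrΩ hi]
  have hcu : CfsgLib.Derange.unitDim i = c := hc.symm
  refine or_congr ?_ ?_
  · refine and_congr_right fun _ => and_congr_right fun hp2 => ?_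
    have hF : (2 : F) ≠ 0 := (CfsgLib.Derange.two_ne_zero_iff_char (p := p)).2 hp2
    have hdisc := CfsgLib.Derange.minus_disc hF hab hQ
    have hodd : q % 2 = 1 := hq ▸ FiniteField.odd_card_of_char_ne_two (by rw [ringChar.eq F p]; exact hp2)
    have h4 : IsSquare (-1 : F) ↔ q % 4 ≠ 3 := by rw [FiniteField.isSquare_neg_one_iff, hq]
    have h8 : IsSquare (2 : F) ↔ q % 8 ≠ 3 ∧ q % 8 ≠ 5 := by rw [FiniteField.isSquare_two_iff, hq]
    rw [hdisc, Nat.sub_add_cancel (by omega : 1 ≤ d)]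
    rcases Nat.even_or_odd d with hev | hod
    · simp only [hev.isSquare_pow, not_true, false_and, not_false_eq_true, and_true, IsEmpty.forall_iff, hev,
        true_or, or_true]
    · obtain ⟨w, hw⟩ := hod
      rw [hw]
      have hpow : ∀ u : F, u ≠ 0 → (IsSquare (u ^ (2 * w + 1)) ↔ IsSquare u) := fun u hu => by
        rw [pow_succ, CfsgLib.Orth.isSquare_mul_iff (pow_ne_zero _ hu)]
        simp [hu, (even_two_mul w).isSquare_pow u]
      simp only [hpow _ (neg_ne_zero.2 one_ne_zero), hpow _ hF, h4, h8, IsEmpty.forall_iff, true_and,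
        Nat.odd_iff, Nat.even_iff]
      omega
  · have h2r : ∀ X : Prop, (r ≠ p ∧ 2 < r ∧ X) ↔ ((r ≠ p ∧ 2 < r) ∧ X) := fun X => and_assoc.symm
    simp only [h2r, ← and_or_left]
    refine and_congr_right fun _ => ?_
    rw [hcu]
    rcases Nat.even_or_odd i with hev | hodd
    · have hci : c = i := hc.trans (if_pos hev)
      subst hci
      simp only [CfsgLib.Derange.Sgn, CfsgLib.Derange.PlusFree, hev, Nat.not_odd_iff_even.2 hev, not_false_eq_true,
        true_and, false_and, false_or, or_false, false_iff, not_not, and_true, not_true, and_false]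
      refine and_congr_right fun _ => and_congr_right fun _ => ?_
      rcases Nat.even_or_odd (2 * d / c) with hN | hN
      · simp only [hN, Nat.not_odd_iff_even.2 hN, not_true, and_true, and_false, false_and, false_or, or_false, true_and]
      · simp only [hN, Nat.not_even_iff_odd.2 hN, not_false_eq_true, and_true, and_false, false_and, false_or, or_false, true_and]
        omega
    · simp only [hodd, Nat.not_even_iff_odd.2 hodd, not_true, true_and, false_and, or_false, and_true, and_false,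
        not_false_eq_true, false_or]
      refine and_congr_right fun _ => ?_
      exact or_comm

end Cfsg.Agent.S5987
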