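import Cfsg.Statements.S5988
import Cfsg.Agent.Lib.Derange.NondegEvenMain
-- import your own Cfsg.Agent.* helpers here

set_option autoImplicit false
open scoped MatrixGroups
open Cfsg

namespace Cfsg.Agent.S5988

/-- Elements of prime order of PΩ⁺_n(q) with no fixed elliptic `m`-space. Here `T = PΩ⁺_n(F)`, `n = 2d ≥ 8`, realised through `Ω⁺_n(q)`, the commutator subgroup of the isometry group of `Q = Σ xᵢyᵢ` over the field `F` with `q` elements; an element of `T` of prime order `r` is an element `x` of `Ω⁺_n(q)` with `x^r` scalar and `x` not scalar; a nondegenerate `m`-space (even `m`) is a subspace on which the polar form of `Q` is nondegenerate; it is hyperbolic if it contains an `m/2`-dimensional subspace on which `Q` vanishes, elliptic otherwise. Let `m` be even with `2 ≤ m < n/2` and let `r` be a prime dividing the number of elliptic `m`-spaces; for `r ≠ p` let `i` be the multiplicative order of `q` modulo `r`, `c = i` for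 `i` even and `c = 2i` for `i` odd, and write `k = n mod c`, `ℓ = m mod i`, `ℓ' = m mod c`, `n' = ⌊n/i⌋`, `m' = ⌊m/i⌋`, `t = (r−1)/i`. Then every element of `T` of order `r` fixes some elliptic `m`-space if and only if one of: (i) `r = 2 ≠ p` and either `n ≡ 0 (mod 4)`, `q ≡ 3 (mod 4)` and `m ≡ 2 (mod 4)`, or `n ≡ 2 (mod 4)` and `q ≢ 1 (mod 8)`; (ii) `r ≠ p` odd, `i` odd, `c ≤ m` and `k > ℓ' > 0`; (iii) `r ≠ p` odd, `i` even, and either `k = 0` and (`n/i` odd, or `ℓ' = 0` and `m/i` odd), or `i ≤ m` and (`k > ℓ' > 0`, or `k = ℓ' > 0` and `(n + m − 2k)/i` odd, or `k > ℓ' = 0` and `m/i` odd). (For `r = p` there is always an element of order `p` fixing no elliptic `m`-space.) -/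
theorem result {F : Type*} [Field F] [Fintype F] {p : ℕ} [Fact p.Prime] [CharP F p] {q : ℕ} (hq : Fintype.card F = q)
    (d m : ℕ) (hd : 4 ≤ d) (hm : 2 ≤ m) (hme : Even m) (hmd : m < d)
    (r : ℕ) [Fact r.Prime]
    (hrΩ : r ∣ Nat.card {W : Submodule F (Fin d ⊕ Fin d → F) // Module.finrank F ↥W = m ∧ Cfsg.Geo.IsNondegenerateOn (QuadraticMap.polar (Cfsg.quadFormPlus d F)) W ∧ ¬ Cfsg.Geo.IsPlusTypeOn (Cfsg.quadFormPlus d F) W})
    (i c : ℕ) (hi : i = orderOf (q : ZMod r)) (hc : c = if Even i then i else 2 * i) :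
    (∀ x : GL (Fin d ⊕ Fin d) F, x ∈ Cfsg.Geo.omegaGL (Cfsg.quadFormPlus d F) →
      (∃ z : F, ((x ^ r : GL (Fin d ⊕ Fin d) F) : Matrix (Fin d ⊕ Fin d) (Fin d ⊕ Fin d) F) = z • (1 : Matrix (Fin d ⊕ Fin d) (Fin d ⊕ Fin d) F)) →
      (∀ z : F, (x : Matrix (Fin d ⊕ Fin d) (Fin d ⊕ Fin d) F) ≠ z • (1 : Matrix (Fin d ⊕ Fin d) (Fin d ⊕ Fin d) F)) →
      ∃ W : Submodule F (Fin d ⊕ Fin d → F), (Module.finrank F ↥W = m ∧ Cfsg.Geo.IsNondegenerateOn (QuadraticMap.polar (Cfsg.quadFormPlus d F)) W ∧ ¬ Cfsg.Geo.IsPlusTypeOn (Cfsg.quadFormPlus d F) W) ∧ W.map (Matrix.toLin' (x : Matrix (Fin d ⊕ Fin d) (Fin d ⊕ Fin d) F)) ≤ W) ↔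
    ((r = 2 ∧ p ≠ 2 ∧ ((Even d ∧ q % 4 = 3 ∧ m % 4 = 2) ∨ (Odd d ∧ q % 8 ≠ 1))) ∨
     (r ≠ p ∧ 2 < r ∧ Odd i ∧ c ≤ m ∧ 0 < m % c ∧ m % c < (2 * d) % c) ∨
     (r ≠ p ∧ 2 < r ∧ Even i ∧
       (((2 * d) % c = 0 ∧ (Odd ((2 * d) / i) ∨ (m % c = 0 ∧ Odd (m / i)))) ∨
        (i ≤ m ∧ ((0 < m % c ∧ m % c < (2 * d) % c) ∨
                  (0 < m % c ∧ m % c = (2 * d) % c ∧ Odd ((2 * d + m - 2 * ((2 * d) % c)) / i)) ∨
                  (m % c = 0 ∧ 0 < (2 * d) % c ∧ Odd (m / i))))))) := by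
  classical
  obtain ⟨Q, hQ, hB⟩ := CfsgLib.Orth.exists_quadForm_plus (F := F) d
  obtain ⟨a, rfl⟩ : ∃ a, m = 2 * a := ⟨m / 2, by obtain ⟨w, hw⟩ := hme; omega⟩
  rw [← hQ] at hrΩ ⊢
  have hι : Fintype.card (Fin d ⊕ Fin d) = 2 * d := by simp; ring
  have ha : 1 ≤ a := by omega
  have had : a < d := by omega
  have hiso : CfsgLib.Classical.OrthModels.Iso (⇑Q) (Cfsg.quadFormPlus d F) := by
    rw [hQ]; exact CfsgLib.Classical.OrthModels.Iso.refl _
  have hσ : True ↔ CfsgLib.Classical.OrthModels.Iso (⇑Q) (Cfsg.quadFormPlus d F) := iff_of_true trivial hiso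
  have hr' : r.Prime := Fact.out
  have hpred : ∀ W : Submodule F (Fin d ⊕ Fin d → F), (Module.finrank F ↥W = 2 * a ∧
      Cfsg.Geo.IsNondegenerateOn (QuadraticMap.polar ⇑Q) W ∧ ¬ Cfsg.Geo.IsPlusTypeOn ⇑Q W) ↔
      CfsgLib.Derange.TypedSub Q a False W := fun W => by
    rw [← CfsgLib.Derange.typedSub_iff, iff_false]
  simp only [hpred] at hrΩ ⊢
  have hN := hrΩ
  by_cases hrp : r = p
  · subst hrp
    refine iff_of_false (CfsgLib.Derange.no_minus_of_plus (p := r) hB (by omega) hι ha had hiso) ?_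
    rintro (⟨h, h', -⟩ | ⟨h, -⟩ | ⟨h, -⟩)
    exacts [h' h, h rfl, h rfl]
  by_cases hr2 : r = 2
  · subst hr2
    have hp2 : p ≠ 2 := Ne.symm hrp
    simp only [lt_irrefl, false_and, and_false, or_false, true_and, hp2, ne_eq, not_false_eq_true]
    have h2 : (2 : F) ≠ 0 := (CfsgLib.Derange.two_ne_zero_iff_char (p := p)).2 hp2
    obtain ⟨e, he, hpp, hprod⟩ := CfsgLib.Orth.frame_plus h2 d hQ
    haveI : Nonempty (Fin d ⊕ Fin d) := ⟨Sum.inl ⟨0, by omega⟩⟩
    have hdisc : CfsgLib.Derange.DiscSq Q ↔ IsSquare ((-1 : F) ^ d) := by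
      rw [CfsgLib.Derange.discSq_iff h2 hι hι e he hpp, hprod]
    have h4 : IsSquare (-1 : F) ↔ q % 4 ≠ 3 := by rw [FiniteField.isSquare_neg_one_iff, hq]
    have h8 : IsSquare (2 : F) ↔ q % 8 ≠ 3 ∧ q % 8 ≠ 5 := by rw [FiniteField.isSquare_two_iff, hq]
    have hodd : q % 2 = 1 := hq ▸ FiniteField.odd_card_of_char_ne_two (by rw [ringChar.eq F p]; exact hp2)
    have hpow : ∀ (u : F) k, u ≠ 0 → (IsSquare (u ^ k) ↔ (k % 2 = 0 ∨ IsSquare u)) := fun u k hu => by
      rcases Nat.even_or_odd k with hk | ⟨w, rfl⟩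
      · simp [hk.isSquare_pow, Nat.even_iff.1 hk]
      · rw [pow_succ, CfsgLib.Orth.isSquare_mul_iff (pow_ne_zero _ hu)]
        simp [(even_two_mul w).isSquare_pow u, hu, Nat.add_mod]
    rw [CfsgLib.Derange.nondeg_two_iff hB h2 hι (by omega) ha had False, hdisc,
      hpow _ _ (neg_ne_zero.2 one_ne_zero), hpow _ _ (neg_ne_zero.2 one_ne_zero), hpow _ _ h2, h4, h8,
      false_iff, Nat.odd_iff, Nat.even_iff]
    omega
  have hrp' : r ≠ p := hrp
  rw [CfsgLib.Derange.even_nondeg_main (p := p) hq hB hι (by omega) ha had hσ hr' hr2 hrp' hN hi]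
  have h2r : 2 < r := lt_of_le_of_ne hr'.two_le (Ne.symm hr2)
  have hcu : CfsgLib.Derange.unitDim i = c := hc.symm
  simp only [hcu, hr2, hrp', h2r, ne_eq, not_false_eq_true, true_and, false_and, false_or]
  rcases Nat.even_or_odd i with hev | hodd
  · have hci : c = i := hc.trans (if_pos hev)
    subst hci
    have hc0 : 0 < c := by rw [hi]; exact (CfsgLib.Derange.exists_ctx hq hr' hr2 hrp' hi).choose_spec.choose_spec.i_pos.trans_le (by rw [← hi])
    simp only [CfsgLib.Derange.Sgn, CfsgLib.Derange.PlusFree, hev, Nat.not_odd_iff_even.2 hev, true_and, false_and,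
      false_or, or_false, true_iff, false_iff, iff_false, iff_true, not_not, not_true, not_false_eq_true]
    have hN' := Nat.mod_add_div (2 * d) c
    have hM' := Nat.mod_add_div (2 * a) c
    have hle : 2 * a / c ≤ 2 * d / c := Nat.div_le_div_right (by omega)
    have hsum : (2 * a) % c = (2 * d) % c →
        (2 * d + 2 * a - 2 * ((2 * d) % c)) / c = 2 * d / c + 2 * a / c := fun h => by
      refine Nat.div_eq_of_eq_mul_left hc0 ?_
      rw [Nat.add_mul, mul_comm _ c, mul_comm _ c]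
      omega
    have hci' : (2 * a) % c = 0 → c ≤ 2 * a := fun h => Nat.le_of_dvd (by omega) (Nat.dvd_of_mod_eq_zero h)
    simp only [Nat.odd_iff, Nat.even_iff]
    omega
  · simp only [CfsgLib.Derange.Sgn, CfsgLib.Derange.PlusFree, hodd, Nat.not_even_iff_odd.2 hodd, true_and, false_and,
      true_or, or_false, false_or, true_iff, false_iff, iff_false, iff_true, not_not, not_true, not_false_eq_true]
    try simp only [and_false, and_true, or_true, true_or, true_and, false_and, false_or, or_false]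
    omega

end Cfsg.Agent.S5988
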