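import Cfsg.Statements.S5989
import Cfsg.Agent.Lib.Derange.EvenParabolicMain
-- import your own Cfsg.Agent.* helpers here

set_option autoImplicit false
open scoped MatrixGroups
open Cfsg

namespace Cfsg.Agent.S5989

/-- Elements of prime order of PΩ⁺_n(q), q odd, with no fixed nondegenerate `m`-space of odd dimension. Here `T = PΩ⁺_n(F)`, `n = 2d ≥ 8`, realised through `Ω⁺_n(q)`, the commutator subgroup of the isometry group of `Q = Σ xᵢyᵢ` over the field `F` with `q` elements; an element of `T` of prime order `r` is an element `x` of `Ω⁺_n(q)` with `x^r` scalar and `x` not scalar; `q` and `m` are odd, `1 ≤ m < n/2`. The nondegenerate `m`-spaces (subspaces on which the polar form is nondegenerate) fall into two isometry classes, each an orbit of `T`, and the two actions are equivalent; fix one such space `W₀` and let Ω be the set of nondegenerate `m`-spaces isometric to `W₀` (some linear isomorphism preserves `Q`). Let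 `r` be a prime dividing the size of Ω; for `r ≠ p` let `i` be the multiplicative order of `q` modulo `r`, `c = i` for `i` even and `c = 2i` for `i` odd, and write `k = n mod c`, `ℓ = m mod i`, `ℓ' = m mod c`, `n' = ⌊n/i⌋`, `m' = ⌊m/i⌋`, `t = (r−1)/i`. Then every element of `T` of order `r` fixes a member of Ω if and only if one of: (i) `r = 2`, `n ≡ 2 (mod 4)` and `q ≢ 1 (mod 8)`; (ii) `r ≠ p` odd, `i` odd, `c ≤ m` and `k > ℓ' > 0`; (iii) `r ≠ p` odd, `i` even, and either `k = 0` and `n/i` odd, or `i ≤ m` and `k > ℓ' > 0`. (For `r = p` there is always an element of order `p` fixing no member of Ω.) -/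
theorem result {F : Type*} [Field F] [Fintype F] {p : ℕ} [Fact p.Prime] [CharP F p] {q : ℕ} (hq : Fintype.card F = q)
    (hodd : Odd q) (d m : ℕ) (hd : 4 ≤ d) (hm : Odd m) (hmd : m < d)
    (W₀ : Submodule F (Fin d ⊕ Fin d → F)) (hW₀ : Module.finrank F ↥W₀ = m ∧ Cfsg.Geo.IsNondegenerateOn (QuadraticMap.polar (Cfsg.quadFormPlus d F)) W₀)
    (r : ℕ) [Fact r.Prime]
    (hrΩ : r ∣ Nat.card {W : Submodule F (Fin d ⊕ Fin d → F) // Module.finrank F ↥W = m ∧ Cfsg.Geo.IsNondegenerateOn (QuadraticMap.polar (Cfsg.quadFormPlus d F)) W ∧ Cfsg.Geo.AreIsometricFor (Cfsg.quadFormPlus d F) W W₀})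
    (i c : ℕ) (hi : i = orderOf (q : ZMod r)) (hc : c = if Even i then i else 2 * i) :
    (∀ x : GL (Fin d ⊕ Fin d) F, x ∈ Cfsg.Geo.omegaGL (Cfsg.quadFormPlus d F) →
      (∃ z : F, ((x ^ r : GL (Fin d ⊕ Fin d) F) : Matrix (Fin d ⊕ Fin d) (Fin d ⊕ Fin d) F) = z • (1 : Matrix (Fin d ⊕ Fin d) (Fin d ⊕ Fin d) F)) →
      (∀ z : F, (x : Matrix (Fin d ⊕ Fin d) (Fin d ⊕ Fin d) F) ≠ z • (1 : Matrix (Fin d ⊕ Fin d) (Fin d ⊕ Fin d) F)) →
      ∃ W : Submodule F (Fin d ⊕ Fin d → F), (Module.finrank F ↥W = m ∧ Cfsg.Geo.IsNondegenerateOn (QuadraticMap.polar (Cfsg.quadFormPlus d F)) W ∧ Cfsg.Geo.AreIsometricFor (Cfsg.quadFormPlus d F) W W₀) ∧ W.map (Matrix.toLin' (x : Matrix (Fin d ⊕ Fin d) (Fin d ⊕ Fin d) F)) ≤ W) ↔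
    ((r = 2 ∧ Odd d ∧ q % 8 ≠ 1) ∨
     (r ≠ p ∧ 2 < r ∧ Odd i ∧ c ≤ m ∧ 0 < m % c ∧ m % c < (2 * d) % c) ∨
     (r ≠ p ∧ 2 < r ∧ Even i ∧ (((2 * d) % c = 0 ∧ Odd ((2 * d) / i)) ∨ (i ≤ m ∧ 0 < m % c ∧ m % c < (2 * d) % c)))) := by
  classical
  obtain ⟨Q, hQ, hB⟩ := CfsgLib.Orth.exists_quadForm_plus (F := F) d
  obtain ⟨a, rfl⟩ : ∃ a, m = 2 * a + 1 := hm
  rw [← hQ] at hW₀ hrΩ ⊢
  have hr : r.Prime := Fact.out
  have hF : (2 : F) ≠ 0 := CfsgLib.Orth.two_ne_zero_of_odd hq hodd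
  have hι : Fintype.card (Fin d ⊕ Fin d) = 2 * d := by simp; ring
  rw [CfsgLib.Derange.parabolic_main (p := p) hq hodd hB hι hd (by omega) (CfsgLib.Orth.nondegOn_of hW₀.2) hW₀.1 hr
    hrΩ hi]
  have htop := CfsgLib.Derange.plus_top hQ hB
  have hcu : CfsgLib.Derange.unitDim i = c := hc.symm
  obtain ⟨e, he, hp, hprod⟩ := CfsgLib.Orth.frame_plus hF d hQ
  haveI : Nonempty (Fin d ⊕ Fin d) := ⟨Sum.inl ⟨0, by omega⟩⟩
  have hdisc : CfsgLib.Derange.DiscSq Q ↔ IsSquare ((-1 : F) ^ d) := by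
    rw [CfsgLib.Derange.discSq_iff hF hι hι e he hp, hprod]
  have htwo : ¬ (CfsgLib.Derange.DiscSq Q ∧ IsSquare ((2 : F) ^ d)) ↔ (Odd d ∧ q % 8 ≠ 1) := by
    rw [hdisc]
    rcases Nat.even_or_odd d with hev | ⟨w, rfl⟩
    · exact iff_of_false (fun h => h ⟨hev.isSquare_pow _, hev.isSquare_pow _⟩)
        (fun h => Nat.not_odd_iff_even.2 hev h.1)
    · have hpow : ∀ u : F, u ≠ 0 → (IsSquare (u ^ (2 * w + 1)) ↔ IsSquare u) := fun u hu => by
        rw [pow_succ, CfsgLib.Orth.isSquare_mul_iff (pow_ne_zero _ hu)]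
        simp [hu, (even_two_mul w).isSquare_pow u]
      rw [hpow _ (neg_ne_zero.2 one_ne_zero), hpow _ hF, FiniteField.isSquare_neg_one_iff,
        FiniteField.isSquare_two_iff, hq]
      have := Nat.odd_iff.1 hodd
      simp only [odd_two_mul_add_one, true_and]
      omega
  rw [htwo]
  simp only [htop, true_iff, CfsgLib.Derange.PlusFree, hcu]
  rcases Nat.even_or_odd i with hev | hodd'
  · have hci : c = i := hc.trans (if_pos hev)
    subst hci
    simp [Nat.not_odd_iff_even.2 hev, hev]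
  · simp [Nat.not_even_iff_odd.2 hodd', hodd']

end Cfsg.Agent.S5989
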