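import Cfsg.Statements.S5990
import Cfsg.Agent.Lib.Derange.NondegEvenMain
-- import your own Cfsg.Agent.* helpers here

set_option autoImplicit false
open scoped MatrixGroups
open Cfsg

namespace Cfsg.Agent.S5990

/-- Elements of prime order of PΩ⁻_n(q) with no fixed elliptic `m`-space. Here `T = PΩ⁻_n(F)`, `n = 2d ≥ 8`, realised through `Ω⁻_n(q)`, the commutator subgroup of the isometry group of `Q = Σ_{i<d−1} xᵢyᵢ + z₁² + a z₁z₂ + b z₂²` with `z₁² + a z₁z₂ + b z₂²` anisotropic, over the field `F` with `q` elements; an element of `T` of prime order `r` is an element `x` of `Ω⁻_n(q)` with `x^r` scalar and `x` not scalar; a nondegenerate `m`-space (even `m`) is a subspace on which the polar form of `Q` is nondegenerate; it is hyperbolic if it contains an `m/2`-dimensional subspace on which `Q` vanishes, elliptic otherwise. Let `m` be even with `2 ≤ m ≤ n − 2` (no restriction `m < n/2`: fixing an elliptic `m`-space is the same as fixing its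 hyperbolic orthogonal complement) and let `r` be a prime dividing the number of elliptic `m`-spaces, with `r = 2` or `r ≠ p`; for `r ≠ p` let `i` be the multiplicative order of `q` modulo `r`, `c = i` for `i` even and `c = 2i` for `i` odd, and write `k = n mod c`, `ℓ = m mod i`, `ℓ' = m mod c`, `n' = ⌊n/i⌋`, `m' = ⌊m/i⌋`, `t = (r−1)/i`. Then every element of `T` of order `r` fixes some elliptic `m`-space if and only if one of: (i) `r = p = 2` and (`n ≡ 0 (mod 4)` or `m ≡ 2 (mod 4)`); (ii) `r = 2 ≠ p` and (`n ≡ 0 (mod 4)`, or `q ≢ 7 (mod 8)`, or `m ≡ 2 (mod 4)`); (iii) `r ≠ p` odd, `i` odd, and `k = 0` or (`c ≤ m` and `k ≥ ℓ' > 0`); (iv) `r ≠ p` odd, `i` even, and either `k = 0` and (`n/i` even, or `ℓ' = 0` and `m/i` odd), or `k > 0`, `i ≤ m` and (`k > ℓ' > 0`, or `ℓ' = 0` and `m/i` odd, or `k = ℓ'` and `(n + m − 2k)/i` even). (Odd `r = p` is not covered by this statement.) -/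
theorem result {F : Type*} [Field F] [Fintype F] {p : ℕ} [Fact p.Prime] [CharP F p] {q : ℕ} (hq : Fintype.card F = q)
    (d m : ℕ) (hd : 4 ≤ d) (hm : 2 ≤ m) (hme : Even m) (hmn : m + 2 ≤ 2 * d) (a b : F) (hab : ∀ x y : F, x ^ 2 + a * x * y + b * y ^ 2 = 0 → x = 0 ∧ y = 0)
    (r : ℕ) [Fact r.Prime] (hr : r = 2 ∨ r ≠ p)
    (hrΩ : r ∣ Nat.card {W : Submodule F ((Fin (d - 1) ⊕ Fin (d - 1)) ⊕ Fin 2 → F) // Module.finrank F ↥W = m ∧ Cfsg.Geo.IsNondegenerateOn (QuadraticMap.polar (Cfsg.quadFormMinus (d - 1) F a b)) W ∧ ¬ Cfsg.Geo.IsPlusTypeOn (Cfsg.quadFormMinus (d - 1) F a b) W})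
    (i c : ℕ) (hi : i = orderOf (q : ZMod r)) (hc : c = if Even i then i else 2 * i) :
    (∀ x : GL ((Fin (d - 1) ⊕ Fin (d - 1)) ⊕ Fin 2) F, x ∈ Cfsg.Geo.omegaGL (Cfsg.quadFormMinus (d - 1) F a b) →
      (∃ z : F, ((x ^ r : GL ((Fin (d - 1) ⊕ Fin (d - 1)) ⊕ Fin 2) F) : Matrix ((Fin (d - 1) ⊕ Fin (d - 1)) ⊕ Fin 2) ((Fin (d - 1) ⊕ Fin (d - 1)) ⊕ Fin 2) F) = z • (1 : Matrix ((Fin (d - 1) ⊕ Fin (d - 1)) ⊕ Fin 2) ((Fin (d - 1) ⊕ Fin (d - 1)) ⊕ Fin 2) F)) →
      (∀ z : F, (x : Matrix ((Fin (d - 1) ⊕ Fin (d - 1)) ⊕ Fin 2) ((Fin (d - 1) ⊕ Fin (d - 1)) ⊕ Fin 2) F) ≠ z • (1 : Matrix ((Fin (d - 1) ⊕ Fin (d - 1)) ⊕ Fin 2) ((Fin (d - 1) ⊕ Fin (d - 1)) ⊕ Fin 2) F)) →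
      ∃ W : Submodule F ((Fin (d - 1) ⊕ Fin (d - 1)) ⊕ Fin 2 → F), (Module.finrank F ↥W = m ∧ Cfsg.Geo.IsNondegenerateOn (QuadraticMap.polar (Cfsg.quadFormMinus (d - 1) F a b)) W ∧ ¬ Cfsg.Geo.IsPlusTypeOn (Cfsg.quadFormMinus (d - 1) F a b) W) ∧ W.map (Matrix.toLin' (x : Matrix ((Fin (d - 1) ⊕ Fin (d - 1)) ⊕ Fin 2) ((Fin (d - 1) ⊕ Fin (d - 1)) ⊕ Fin 2) F)) ≤ W) ↔
    ((r = 2 ∧ p = 2 ∧ (Even d ∨ m % 4 = 2)) ∨
     (r = 2 ∧ p ≠ 2 ∧ (Even d ∨ q % 8 ≠ 7 ∨ m % 4 = 2)) ∨
     (r ≠ p ∧ 2 < r ∧ Odd i ∧ ((2 * d) % c = 0 ∨ (c ≤ m ∧ 0 < m % c ∧ m % c ≤ (2 * d) % c))) ∨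
     (r ≠ p ∧ 2 < r ∧ Even i ∧
       (((2 * d) % c = 0 ∧ (Even ((2 * d) / i) ∨ (m % c = 0 ∧ Odd (m / i)))) ∨
        (0 < (2 * d) % c ∧ i ≤ m ∧ ((0 < m % c ∧ m % c < (2 * d) % c) ∨ (m % c = 0 ∧ Odd (m / i)) ∨
                                    (m % c = (2 * d) % c ∧ Even ((2 * d + m - 2 * ((2 * d) % c)) / i))))))) := by
  classical
  obtain ⟨Q, hQ, hB⟩ := CfsgLib.Orth.exists_quadForm_minus (d - 1) hab
  obtain ⟨a', rfl⟩ : ∃ a', m = 2 * a' := ⟨m / 2, by obtain ⟨w, hw⟩ := hme; omega⟩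
  rw [← hQ] at hrΩ ⊢
  have hι : Fintype.card ((Fin (d - 1) ⊕ Fin (d - 1)) ⊕ Fin 2) = 2 * d := by simp; omega
  have ha : 1 ≤ a' := by omega
  have had : a' < d := by omega
  have hσ : False ↔ CfsgLib.Classical.OrthModels.Iso (⇑Q) (Cfsg.quadFormPlus d F) :=
    iff_of_false not_false fun h => CfsgLib.Derange.not_plus_minus hab (k := d - 1)
      (by rwa [Nat.sub_add_cancel (by omega : 1 ≤ d)]) (by rw [hQ]; exact CfsgLib.Classical.OrthModels.Iso.refl _)
  have hr' : r.Prime := Fact.out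
  have hpred : ∀ W : Submodule F ((Fin (d - 1) ⊕ Fin (d - 1)) ⊕ Fin 2 → F), (Module.finrank F ↥W = 2 * a' ∧
      Cfsg.Geo.IsNondegenerateOn (QuadraticMap.polar ⇑Q) W ∧ ¬ Cfsg.Geo.IsPlusTypeOn ⇑Q W) ↔
      CfsgLib.Derange.TypedSub Q a' False W := fun W => by
    rw [← CfsgLib.Derange.typedSub_iff, iff_false]
  simp only [hpred] at hrΩ ⊢
  have hN := hrΩ
  by_cases hr2 : r = 2
  · subst hr2
    simp only [lt_irrefl, false_and, and_false, or_false, true_and]
    by_cases hp2 : p = 2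
    · subst hp2
      simp only [ne_eq, not_true, false_and, or_false, true_and]
      have h2 : (2 : F) = 0 := by exact_mod_cast CharP.cast_eq_zero F 2
      constructor
      · intro H
        by_contra hcon
        simp only [Nat.even_iff] at hcon
        obtain ⟨s, hs⟩ : ∃ s, d = s + s + 1 := ⟨d / 2, by omega⟩
        obtain ⟨e, f, h, -, -⟩ := CfsgLib.Derange.exists_hyp_in (Q := Q) (E := ⊤) (k := s + s)
          (fun x _ h => hB x fun y => h y trivial) (Or.inl (by rw [finrank_top, Module.finrank_pi, hι]; omega))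
        obtain ⟨x, y, hx, hy, hxy, hxa, hyb, hτ, -⟩ :=
          CfsgLib.Derange.ranks_of_char2 (p := 2) hB rfl hι (by omega) had.le (by omega) hσ h H
        rw [Nat.even_iff] at hx hy
        by_cases hxe : x = a'
        · exact hτ hxe
        omega
      · rintro hcase x ⟨g, -, rfl⟩ ⟨z, hz⟩ -
        obtain ⟨v, hv⟩ := CfsgLib.Orth.exists_aniso hB (by rw [Module.finrank_pi]; omega)
        have hap : ∀ w, CfsgLib.Orth.ap g (CfsgLib.Orth.ap g w) = z • w := fun w => by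
          rw [← CfsgLib.Orth.ap_mul, ← pow_two, CfsgLib.Orth.ap, SubmonoidClass.coe_pow,
            show ((g : GL ((Fin (d - 1) ⊕ Fin (d - 1)) ⊕ Fin 2) F) ^ 2 : GL _ F).1 = z • (1 : Matrix _ _ F) from hz,
            Matrix.smul_mulVec, Matrix.one_mulVec]
        obtain rfl : z = 1 := by
          have h1 := congrArg Q (hap v)
          rw [CfsgLib.Orth.ap_q, CfsgLib.Orth.ap_q, CfsgLib.Orth.q_smul] at h1
          rcases mul_self_eq_one_iff.1 (mul_right_cancel₀ hv (h1.symm.trans (one_mul _).symm)) with h | h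
          · exact h
          · rw [h]; linear_combination -h2
        refine CfsgLib.Derange.exists_invariant_char2 hB h2 hι ha had hσ (fun t ht htd htd' => ?_) g
          (CfsgLib.Orth.ext_ap fun w => by rw [CfsgLib.Orth.ap_mul, hap, one_smul, CfsgLib.Orth.ap_one])
        have htd'' := htd' not_false
        simp only [imp_false, false_iff, iff_false, not_false_eq_true, implies_true, and_true, Nat.even_iff] at ht hcase ⊢
        rcases Nat.mod_two_eq_zero_or_one a' with h | h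
        · exact ⟨max 2 (a' - t), by omega, by omega, by omega, by omega, by omega⟩
        · exact ⟨max 1 (a' - t), by omega, by omega, by omega, by omega, by omega⟩
    · simp only [hp2, ne_eq, not_false_eq_true, false_and, false_or, true_and]
      have h2 : (2 : F) ≠ 0 := (CfsgLib.Derange.two_ne_zero_iff_char (p := p)).2 hp2
      have hdisc := CfsgLib.Derange.minus_disc h2 hab hQ
      rw [Nat.sub_add_cancel (by omega : 1 ≤ d)] at hdisc
      have h4 : IsSquare (-1 : F) ↔ q % 4 ≠ 3 := by rw [FiniteField.isSquare_neg_one_iff, hq]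
      have h8 : IsSquare (2 : F) ↔ q % 8 ≠ 3 ∧ q % 8 ≠ 5 := by rw [FiniteField.isSquare_two_iff, hq]
      have hodd : q % 2 = 1 := hq ▸ FiniteField.odd_card_of_char_ne_two (by rw [ringChar.eq F p]; exact hp2)
      have hpow : ∀ (u : F) k, u ≠ 0 → (IsSquare (u ^ k) ↔ (k % 2 = 0 ∨ IsSquare u)) := fun u k hu => by
        rcases Nat.even_or_odd k with hk | ⟨w, rfl⟩
        · simp [hk.isSquare_pow, Nat.even_iff.1 hk]
        · rw [pow_succ, CfsgLib.Orth.isSquare_mul_iff (pow_ne_zero _ hu)]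
          simp [(even_two_mul w).isSquare_pow u, hu, Nat.add_mod]
      rw [CfsgLib.Derange.nondeg_two_iff hB h2 hι (by omega) ha had False, hdisc,
        hpow _ _ (neg_ne_zero.2 one_ne_zero), hpow _ _ (neg_ne_zero.2 one_ne_zero), hpow _ _ h2, h4, h8,
        false_iff, Nat.even_iff]
      omega
  have hrp' : r ≠ p := hr.resolve_left hr2
  rw [CfsgLib.Derange.even_nondeg_main (p := p) hq hB hι (by omega) ha had hσ hr' hr2 hrp' hN hi]
  have h2r : 2 < r := lt_of_le_of_ne hr'.two_le (Ne.symm hr2)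
  have hcu : CfsgLib.Derange.unitDim i = c := hc.symm
  simp only [hcu, hr2, hrp', h2r, ne_eq, not_false_eq_true, true_and, false_and, false_or]
  rcases Nat.even_or_odd i with hev | hodd
  · have hci : c = i := hc.trans (if_pos hev)
    subst hci
    have hc0 : 0 < c := by rw [hi]; exact (CfsgLib.Derange.exists_ctx hq hr' hr2 hrp' hi).choose_spec.choose_spec.i_pos.trans_le (by rw [← hi])
    simp only [CfsgLib.Derange.Sgn, CfsgLib.Derange.PlusFree, hev, Nat.not_odd_iff_even.2 hev, true_and, false_and,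
      false_or, or_false, true_iff, false_iff, iff_false, iff_true, not_not, not_true, not_false_eq_true]
    have hN' := Nat.mod_add_div (2 * d) c
    have hM' := Nat.mod_add_div (2 * a') c
    have hle : 2 * a' / c ≤ 2 * d / c := Nat.div_le_div_right (by omega)
    have hsum : (2 * a') % c = (2 * d) % c →
        (2 * d + 2 * a' - 2 * ((2 * d) % c)) / c = 2 * d / c + 2 * a' / c := fun h => by
      refine Nat.div_eq_of_eq_mul_left hc0 ?_
      rw [Nat.add_mul, mul_comm _ c, mul_comm _ c]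
      omega
    have hci' : (2 * a') % c = 0 → c ≤ 2 * a' := fun h => Nat.le_of_dvd (by omega) (Nat.dvd_of_mod_eq_zero h)
    simp only [Nat.odd_iff, Nat.even_iff]
    omega
  · simp only [CfsgLib.Derange.Sgn, CfsgLib.Derange.PlusFree, hodd, Nat.not_even_iff_odd.2 hodd, true_and, false_and,
      true_or, or_false, false_or, true_iff, false_iff, iff_false, iff_true, not_not, not_true, not_false_eq_true]
    try simp only [and_false, and_true, or_true, true_or, true_and, false_and, false_or, or_false]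
    omega

end Cfsg.Agent.S5990
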