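import Cfsg.Statements.S5991
import Cfsg.Agent.Lib.Derange.EvenParabolicMain
-- import your own Cfsg.Agent.* helpers here

set_option autoImplicit false
open scoped MatrixGroups
open Cfsg

namespace Cfsg.Agent.S5991

/-- Elements of prime order of PΩ⁻_n(q), q odd, with no fixed nondegenerate `m`-space of odd dimension. Here `T = PΩ⁻_n(F)`, `n = 2d ≥ 8`, realised through `Ω⁻_n(q)`, the commutator subgroup of the isometry group of `Q = Σ_{i<d−1} xᵢyᵢ + z₁² + a z₁z₂ + b z₂²` with `z₁² + a z₁z₂ + b z₂²` anisotropic, over the field `F` with `q` elements; an element of `T` of prime order `r` is an element `x` of `Ω⁻_n(q)` with `x^r` scalar and `x` not scalar; `q` and `m` are odd, `1 ≤ m < n/2`. The nondegenerate `m`-spaces fall into two isometry classes, each an orbit of `T`, with equivalent actions; fix one such space `W₀` and let Ω be the set of nondegenerate `m`-spaces isometric to `W₀`.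 Let `r` be a prime dividing the size of Ω; for `r ≠ p` let `i` be the multiplicative order of `q` modulo `r`, `c = i` for `i` even and `c = 2i` for `i` odd, and write `k = n mod c`, `ℓ = m mod i`, `ℓ' = m mod c`, `n' = ⌊n/i⌋`, `m' = ⌊m/i⌋`, `t = (r−1)/i`. Then every element of `T` of order `r` fixes a member of Ω if and only if one of: (i) `r = 2` and (`n ≡ 0 (mod 4)` or `q ≢ 7 (mod 8)`); (ii) `r ≠ p` odd, `i` odd, and `k = 0` or (`c ≤ m` and `k > ℓ' > 0`); (iii) `r ≠ p` odd, `i` even, and either `k = 0` and `n/i` even, or `k > 0`, `i ≤ m` and `k > ℓ' > 0`. (For `r = p` there is always an element of order `p` fixing no member of Ω.) -/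
theorem result {F : Type*} [Field F] [Fintype F] {p : ℕ} [Fact p.Prime] [CharP F p] {q : ℕ} (hq : Fintype.card F = q)
    (hodd : Odd q) (d m : ℕ) (hd : 4 ≤ d) (hm : Odd m) (hmd : m < d) (a b : F) (hab : ∀ x y : F, x ^ 2 + a * x * y + b * y ^ 2 = 0 → x = 0 ∧ y = 0)
    (W₀ : Submodule F ((Fin (d - 1) ⊕ Fin (d - 1)) ⊕ Fin 2 → F)) (hW₀ : Module.finrank F ↥W₀ = m ∧ Cfsg.Geo.IsNondegenerateOn (QuadraticMap.polar (Cfsg.quadFormMinus (d - 1) F a b)) W₀)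
    (r : ℕ) [Fact r.Prime]
    (hrΩ : r ∣ Nat.card {W : Submodule F ((Fin (d - 1) ⊕ Fin (d - 1)) ⊕ Fin 2 → F) // Module.finrank F ↥W = m ∧ Cfsg.Geo.IsNondegenerateOn (QuadraticMap.polar (Cfsg.quadFormMinus (d - 1) F a b)) W ∧ Cfsg.Geo.AreIsometricFor (Cfsg.quadFormMinus (d - 1) F a b) W W₀})
    (i c : ℕ) (hi : i = orderOf (q : ZMod r)) (hc : c = if Even i then i else 2 * i) :
    (∀ x : GL ((Fin (d - 1) ⊕ Fin (d - 1)) ⊕ Fin 2) F, x ∈ Cfsg.Geo.omegaGL (Cfsg.quadFormMinus (d - 1) F a b) →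
      (∃ z : F, ((x ^ r : GL ((Fin (d - 1) ⊕ Fin (d - 1)) ⊕ Fin 2) F) : Matrix ((Fin (d - 1) ⊕ Fin (d - 1)) ⊕ Fin 2) ((Fin (d - 1) ⊕ Fin (d - 1)) ⊕ Fin 2) F) = z • (1 : Matrix ((Fin (d - 1) ⊕ Fin (d - 1)) ⊕ Fin 2) ((Fin (d - 1) ⊕ Fin (d - 1)) ⊕ Fin 2) F)) →
      (∀ z : F, (x : Matrix ((Fin (d - 1) ⊕ Fin (d - 1)) ⊕ Fin 2) ((Fin (d - 1) ⊕ Fin (d - 1)) ⊕ Fin 2) F) ≠ z • (1 : Matrix ((Fin (d - 1) ⊕ Fin (d - 1)) ⊕ Fin 2) ((Fin (d - 1) ⊕ Fin (d - 1)) ⊕ Fin 2) F)) →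
      ∃ W : Submodule F ((Fin (d - 1) ⊕ Fin (d - 1)) ⊕ Fin 2 → F), (Module.finrank F ↥W = m ∧ Cfsg.Geo.IsNondegenerateOn (QuadraticMap.polar (Cfsg.quadFormMinus (d - 1) F a b)) W ∧ Cfsg.Geo.AreIsometricFor (Cfsg.quadFormMinus (d - 1) F a b) W W₀) ∧ W.map (Matrix.toLin' (x : Matrix ((Fin (d - 1) ⊕ Fin (d - 1)) ⊕ Fin 2) ((Fin (d - 1) ⊕ Fin (d - 1)) ⊕ Fin 2) F)) ≤ W) ↔
    ((r = 2 ∧ (Even d ∨ q % 8 ≠ 7)) ∨
     (r ≠ p ∧ 2 < r ∧ Odd i ∧ ((2 * d) % c = 0 ∨ (c ≤ m ∧ 0 < m % c ∧ m % c < (2 * d) % c))) ∨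
     (r ≠ p ∧ 2 < r ∧ Even i ∧ (((2 * d) % c = 0 ∧ Even ((2 * d) / i)) ∨ (0 < (2 * d) % c ∧ i ≤ m ∧ 0 < m % c ∧ m % c < (2 * d) % c)))) := by
  classical
  obtain ⟨Q, hQ, hB⟩ := CfsgLib.Orth.exists_quadForm_minus (d - 1) hab
  obtain ⟨a', rfl⟩ : ∃ a', m = 2 * a' + 1 := hm
  rw [← hQ] at hW₀ hrΩ ⊢
  have hr : r.Prime := Fact.out
  have hF : (2 : F) ≠ 0 := CfsgLib.Orth.two_ne_zero_of_odd hq hodd
  have hι : Fintype.card ((Fin (d - 1) ⊕ Fin (d - 1)) ⊕ Fin 2) = 2 * d := by simp; omega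
  rw [CfsgLib.Derange.parabolic_main (p := p) hq hodd hB hι hd (by omega) (CfsgLib.Orth.nondegOn_of hW₀.2) hW₀.1 hr
    hrΩ hi]
  have htop := CfsgLib.Derange.minus_top hab hQ hB
  have hcu : CfsgLib.Derange.unitDim i = c := hc.symm
  have hdisc : CfsgLib.Derange.DiscSq Q ↔ ¬ IsSquare ((-1 : F) ^ d) := by
    rw [CfsgLib.Derange.minus_disc hF hab hQ, show d - 1 + 1 = d by omega]
  have htwo : ¬ (CfsgLib.Derange.DiscSq Q ∧ IsSquare ((2 : F) ^ d)) ↔ (Even d ∨ q % 8 ≠ 7) := by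
    rw [hdisc]
    rcases Nat.even_or_odd d with hev | ⟨w, rfl⟩
    · exact iff_of_true (fun h => h.1 (hev.isSquare_pow _)) (Or.inl hev)
    · have hpow : ∀ u : F, u ≠ 0 → (IsSquare (u ^ (2 * w + 1)) ↔ IsSquare u) := fun u hu => by
        rw [pow_succ, CfsgLib.Orth.isSquare_mul_iff (pow_ne_zero _ hu)]
        simp [hu, (even_two_mul w).isSquare_pow u]
      rw [hpow _ (neg_ne_zero.2 one_ne_zero), hpow _ hF, FiniteField.isSquare_neg_one_iff,
        FiniteField.isSquare_two_iff, hq]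
      have := Nat.odd_iff.1 hodd
      simp only [Nat.not_even_iff_odd.2 (odd_two_mul_add_one w), false_or]
      omega
  rw [htwo]
  simp only [htop, false_iff, not_not, CfsgLib.Derange.PlusFree, hcu]
  rcases Nat.even_or_odd i with hev | hodd'
  · have hci : c = i := hc.trans (if_pos hev)
    subst hci
    have hlt : (2 * a' + 1) % c < 2 * d % c → 0 < 2 * d % c := fun h => by omega
    simp [Nat.not_odd_iff_even.2 hev, hev]
    exact or_congr Iff.rfl (and_congr Iff.rfl (and_congr Iff.rfl (or_congr Iff.rfl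
      ⟨fun h => ⟨hlt h.2.2, h⟩, And.right⟩)))
  · simp [Nat.not_even_iff_odd.2 hodd', hodd']

end Cfsg.Agent.S5991
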