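import Cfsg.Statements.S5992
import Cfsg.Agent.Lib.Derange.OddNondeg
import Cfsg.Agent.Lib.UnipForm.PSplit
-- import your own Cfsg.Agent.* helpers here

set_option autoImplicit false
open scoped MatrixGroups
open Cfsg

namespace Cfsg.Agent.S5992

/-- Elements of prime order r ≠ p of Ω_n(q), nq odd, with no fixed hyperbolic `m`-space. Here `T = Ω_n(F)`, `n = 2d+1 ≥ 7`, `q` odd, realised as the commutator subgroup of the isometry group of `Q = x₀² + Σ xᵢyᵢ` over the field `F` with `q` elements (trivial centre, so its elements of prime order `r` are used directly); a nondegenerate `m`-space (even `m`) is a subspace on which the polar form of `Q` is nondegenerate; it is hyperbolic if it contains an `m/2`-dimensional subspace on which `Q` vanishes, elliptic otherwise. Let `m` be even with `2 ≤ m ≤ n − 1` (no restriction `m < n/2`) and let `r ≠ p` be a prime dividing the number of hyperbolic `m`-spaces; for `r ≠ p` let `i` be the multiplicative order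 of `q` modulo `r`, `c = i` for `i` even and `c = 2i` for `i` odd, and write `k = n mod c`, `ℓ' = m mod c`. Then every element of `T` of order `r` fixes some hyperbolic `m`-space if and only if `r = 2`, or `r` is odd and one of: (i) `i` odd, `c ≤ m` and either `k > ℓ' > 0` or `ℓ' = 0`; (ii) `i` even, `i ≤ m`, `k > ℓ'`, and `m/i` even whenever `ℓ' = 0`. (`r = p` is not covered by this statement.) -/
theorem result {F : Type*} [Field F] [Fintype F] {p : ℕ} [Fact p.Prime] [CharP F p] {q : ℕ} (hq : Fintype.card F = q) (hqodd : Odd q)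
    (d m : ℕ) (hd : 3 ≤ d) (hm : 2 ≤ m) (hme : Even m) (hmn : m ≤ 2 * d)
    (r : ℕ) [Fact r.Prime] (hrp : r ≠ p)
    (hrΩ : r ∣ Nat.card {W : Submodule F (Unit ⊕ (Fin d ⊕ Fin d) → F) // Module.finrank F ↥W = m ∧ Cfsg.Geo.IsNondegenerateOn (QuadraticMap.polar (Cfsg.quadFormOdd d F)) W ∧ Cfsg.Geo.IsPlusTypeOn (Cfsg.quadFormOdd d F) W})
    (i c : ℕ) (hi : i = orderOf (q : ZMod r)) (hc : c = if Even i then i else 2 * i) :
    (∀ x : GL (Unit ⊕ (Fin d ⊕ Fin d)) F, x ∈ Cfsg.Geo.omegaGL (Cfsg.quadFormOdd d F) → orderOf x = r →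
      ∃ W : Submodule F (Unit ⊕ (Fin d ⊕ Fin d) → F), (Module.finrank F ↥W = m ∧ Cfsg.Geo.IsNondegenerateOn (QuadraticMap.polar (Cfsg.quadFormOdd d F)) W ∧ Cfsg.Geo.IsPlusTypeOn (Cfsg.quadFormOdd d F) W) ∧ W.map (Matrix.toLin' (x : Matrix (Unit ⊕ (Fin d ⊕ Fin d)) (Unit ⊕ (Fin d ⊕ Fin d)) F)) ≤ W) ↔
    (r = 2 ∨
     (2 < r ∧ Odd i ∧ c ≤ m ∧ (m % c = 0 ∨ (0 < m % c ∧ m % c < (2 * d + 1) % c))) ∨
     (2 < r ∧ Even i ∧ i ≤ m ∧ m % c < (2 * d + 1) % c ∧ (0 < m % c ∨ Even (m / i)))) := by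
  have hF : (2 : F) ≠ 0 := (CfsgLib.UnipForm.odd_char (p := p) (hq.symm ▸ hqodd)).2
  obtain ⟨Q, hQ, hB⟩ := CfsgLib.Orth.exists_quadForm_odd hF d
  obtain ⟨a, rfl⟩ : ∃ a, m = 2 * a := ⟨m / 2, by obtain ⟨w, rfl⟩ := hme; omega⟩
  rw [← hQ] at hrΩ ⊢
  have hr : r.Prime := Fact.out
  by_cases hr2 : r = 2
  · subst hr2
    refine iff_of_true ?_ (Or.inl rfl)
    rintro x ⟨g, -, rfl⟩ hx
    have hgg : g * g = 1 := Subtype.ext (by
      rw [Subgroup.coe_mul, ← pow_two, Subgroup.coe_one]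
      exact hx ▸ pow_orderOf_eq_one _)
    obtain ⟨W, hWn, hWd, hWt, hWp⟩ := CfsgLib.Derange.exists_invariant_plus hB hF g hgg a fun _ => by
      simp [Module.finrank_fintype_fun_eq_card]; omega
    exact ⟨W, ⟨hWd, CfsgLib.Derange.nondegOn_geo hWn, hWp⟩, by rintro _ ⟨w, hw, rfl⟩; exact hWt w hw⟩
  have hU := CfsgLib.Derange.exists_typedSub hF (a := a) (by omega) (by omega) hQ hB True
  have hN : r ∣ Nat.card {W // CfsgLib.Derange.TypedSub Q a True W} := by
    refine hrΩ.trans (dvd_of_eq (Nat.card_congr (Equiv.subtypeEquivRight fun W => ?_)))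
    exact ⟨fun h => ⟨h.1, CfsgLib.Orth.nondegOn_of h.2.1, iff_of_true h.2.2 trivial⟩,
      fun h => ⟨h.1, CfsgLib.Derange.nondegOn_geo h.2.1, h.2.2.2 trivial⟩⟩
  obtain ⟨j, hj, hjd, hdvd⟩ :=
    CfsgLib.Derange.odd_nondeg_window hq hr hrp hi hF (by omega) hQ hB True hU hN
  obtain ⟨t, D, X⟩ := CfsgLib.Derange.exists_ctx hq hr hr2 hrp hi
  have hcu : c = CfsgLib.Derange.unitDim i := hc
  rw [← hcu] at hdvd
  have hle : c ≤ 2 * d := (Nat.le_of_dvd (by omega) hdvd).trans (by omega)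
  have key := CfsgLib.Derange.odd_nondeg_iff X hF hB (d := d) (a := a) (by omega) (by simp; omega)
    (by omega) True hU (by omega)
  simp only [iff_true, true_iff, ← hcu] at key
  have h2c : 2 ∣ c := hcu ▸ even_iff_two_dvd.1 CfsgLib.Derange.even_unitDim
  have hge := CfsgLib.Derange.le_of_window h2c hj hjd hdvd
  have h2r : 2 < r := lt_of_le_of_ne hr.two_le (Ne.symm hr2)
  rw [key]
  rcases Nat.even_or_odd i with he | ho
  · have hodd : ¬ Odd i := Nat.not_odd_iff_even.2 he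
    rw [show c = i from hc.trans (if_pos he)] at *
    simp only [CfsgLib.Derange.PlusFree, hodd, false_or, hr2, false_and, and_false, h2r, he, true_and]
    exact ⟨fun h => ⟨hge h.1, h⟩, fun h => h.2⟩
  · have heven : ¬ Even i := Nat.not_even_iff_odd.2 ho
    simp only [CfsgLib.Derange.PlusFree, ho, true_or, or_true, and_true, hr2, heven, false_and, and_false,
      or_false, false_or, h2r, true_and]
    refine ⟨fun h => ⟨hge h, (Nat.eq_zero_or_pos _).imp_right fun h' => ⟨h', h⟩⟩, fun h =>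
      h.2.elim (fun h' => ?_) And.right⟩
    rw [h', Nat.pos_iff_ne_zero]
    intro h0
    have := h2c.trans (Nat.dvd_of_mod_eq_zero h0)
    omega

end Cfsg.Agent.S5992
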