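import Cfsg.Statements.S5993
import Cfsg.Agent.Lib.Derange.OddNondeg
import Cfsg.Agent.Lib.Derange.InvolutionMinus
import Cfsg.Agent.Lib.UnipForm.PSplit
-- import your own Cfsg.Agent.* helpers here

set_option autoImplicit false
open scoped MatrixGroups
open Cfsg

namespace Cfsg.Agent.S5993

/-- Elements of prime order of Ω_n(q), nq odd, with no fixed elliptic `m`-space. Here `T = Ω_n(F)`, `n = 2d+1 ≥ 7`, `q` odd, realised as the commutator subgroup of the isometry group of `Q = x₀² + Σ xᵢyᵢ` over the field `F` with `q` elements (trivial centre, so its elements of prime order `r` are used directly); a nondegenerate `m`-space (even `m`) is a subspace on which the polar form of `Q` is nondegenerate; it is hyperbolic if it contains an `m/2`-dimensional subspace on which `Q` vanishes, elliptic otherwise. Let `m` be even with `2 ≤ m ≤ n − 1` (no restriction `m < n/2`) and let `r` be a prime dividing the number of elliptic `m`-spaces; for `r ≠ p` let `i` be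 the multiplicative order of `q` modulo `r`, `c = i` for `i` even and `c = 2i` for `i` odd, and write `k = n mod c`, `ℓ' = m mod c`. Then every element of `T` of order `r` fixes some elliptic `m`-space if and only if `r = 2`, or `r ≠ p` is odd and one of: (i) `i` odd, `c ≤ m` and `k > ℓ' > 0`; (ii) `i` even, `i ≤ m`, `k > ℓ'`, and `m/i` odd whenever `ℓ' = 0`. (For `r = p` there is always an element of order `p` fixing no elliptic `m`-space.) -/
theorem result {F : Type*} [Field F] [Fintype F] {p : ℕ} [Fact p.Prime] [CharP F p] {q : ℕ} (hq : Fintype.card F = q) (hqodd : Odd q)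
    (d m : ℕ) (hd : 3 ≤ d) (hm : 2 ≤ m) (hme : Even m) (hmn : m ≤ 2 * d)
    (r : ℕ) [Fact r.Prime]
    (hrΩ : r ∣ Nat.card {W : Submodule F (Unit ⊕ (Fin d ⊕ Fin d) → F) // Module.finrank F ↥W = m ∧ Cfsg.Geo.IsNondegenerateOn (QuadraticMap.polar (Cfsg.quadFormOdd d F)) W ∧ ¬ Cfsg.Geo.IsPlusTypeOn (Cfsg.quadFormOdd d F) W})
    (i c : ℕ) (hi : i = orderOf (q : ZMod r)) (hc : c = if Even i then i else 2 * i) :
    (∀ x : GL (Unit ⊕ (Fin d ⊕ Fin d)) F, x ∈ Cfsg.Geo.omegaGL (Cfsg.quadFormOdd d F) → orderOf x = r →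
      ∃ W : Submodule F (Unit ⊕ (Fin d ⊕ Fin d) → F), (Module.finrank F ↥W = m ∧ Cfsg.Geo.IsNondegenerateOn (QuadraticMap.polar (Cfsg.quadFormOdd d F)) W ∧ ¬ Cfsg.Geo.IsPlusTypeOn (Cfsg.quadFormOdd d F) W) ∧ W.map (Matrix.toLin' (x : Matrix (Unit ⊕ (Fin d ⊕ Fin d)) (Unit ⊕ (Fin d ⊕ Fin d)) F)) ≤ W) ↔
    (r = 2 ∨
     (r ≠ p ∧ 2 < r ∧ Odd i ∧ c ≤ m ∧ 0 < m % c ∧ m % c < (2 * d + 1) % c) ∨
     (r ≠ p ∧ 2 < r ∧ Even i ∧ i ≤ m ∧ m % c < (2 * d + 1) % c ∧ (0 < m % c ∨ Odd (m / i)))) := by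
  have hF : (2 : F) ≠ 0 := (CfsgLib.UnipForm.odd_char (p := p) (hq.symm ▸ hqodd)).2
  obtain ⟨Q, hQ, hB⟩ := CfsgLib.Orth.exists_quadForm_odd hF d
  obtain ⟨a, rfl⟩ : ∃ a, m = 2 * a := ⟨m / 2, by obtain ⟨w, rfl⟩ := hme; omega⟩
  rw [← hQ] at hrΩ ⊢
  have hr : r.Prime := Fact.out
  by_cases hr2 : r = 2
  · subst hr2
    refine iff_of_true ?_ (Or.inl rfl)
    rintro x ⟨g, -, rfl⟩ hx
    have hgg : g * g = 1 := Subtype.ext (by
      rw [Subgroup.coe_mul, ← pow_two, Subgroup.coe_one]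
      exact hx ▸ pow_orderOf_eq_one _)
    obtain ⟨b, rfl⟩ : ∃ b, a = b + 1 := ⟨a - 1, by omega⟩
    obtain ⟨W, hWn, hWd, hWt, hWp⟩ := CfsgLib.Derange.exists_invariant_minus hB hF g hgg b (by
      simp [Module.finrank_fintype_fun_eq_card]; omega)
    exact ⟨W, ⟨hWd, CfsgLib.Derange.nondegOn_geo hWn, hWp⟩, by rintro _ ⟨w, hw, rfl⟩; exact hWt w hw⟩
  by_cases hrp : r = p
  · subst hrp
    have hodd : Odd r := hr.odd_of_ne_two hr2
    refine iff_of_false (fun H => ?_) (by simp [hr2])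
    obtain ⟨o, b, ho, hb, hs⟩ : ∃ o b, (o = 1 ∨ o = 3) ∧ Even b ∧ o + b * 2 = 2 * d + 1 := by
      rcases Nat.even_or_odd d with ⟨w, hw⟩ | ⟨w, hw⟩
      · exact ⟨1, d, Or.inl rfl, ⟨w, hw⟩, by omega⟩
      · exact ⟨3, d - 1, Or.inr rfl, ⟨w, by omega⟩, by omega⟩
    have hr3 : 3 ≤ r := lt_of_le_of_ne hr.two_le (Ne.symm hr2)
    obtain ⟨W, hWp, hWd, ν, hle, hsum, hev, hsing⟩ := CfsgLib.UnipForm.exists_stable_type hodd hF hB (m := 2 * a)
      (by simp; omega) _ (fun x hx hxr _ => H x hx hxr) (μ := o ::ₘ Multiset.replicate b 2) (fun e he => by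
        rcases Multiset.mem_cons.1 he with rfl | he
        · omega
        · obtain rfl := Multiset.eq_of_mem_replicate he; omega)
      (fun e he => by
        rw [Multiset.count_cons_of_ne (by rintro rfl; rcases ho with rfl | rfl <;> exact absurd he (by decide)),
          Multiset.count_replicate]
        split_ifs
        · exact hb
        · exact Even.zero)
      (by rw [Multiset.sum_cons, Multiset.sum_replicate, smul_eq_mul]; simp; omega)
      ⟨o, Multiset.mem_cons_self _ _, by rcases ho with rfl | rfl <;> decide⟩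
      ⟨2, Multiset.mem_cons_of_mem (Multiset.mem_replicate.2 ⟨by omega, rfl⟩), by omega⟩
    have ho' : o ∉ ν := fun ho' => by
      obtain ⟨s, rfl⟩ := Multiset.exists_cons_of_mem ho'
      rw [Multiset.cons_le_cons_iff, Multiset.le_replicate_iff] at hle
      obtain ⟨b', -, rfl⟩ := hle
      rw [Multiset.sum_cons, Multiset.sum_replicate, smul_eq_mul] at hsum
      omega
    obtain ⟨b', -, rfl⟩ := Multiset.le_replicate_iff.1 ((Multiset.le_cons_of_notMem ho').1 hle)
    obtain ⟨U, hUW, hUs, hUd⟩ := hsing fun e he => (Multiset.eq_of_mem_replicate he).le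
    rw [Multiset.sum_replicate, smul_eq_mul] at hsum
    rw [Multiset.map_replicate, Multiset.sum_replicate, smul_eq_mul] at hUd
    exact hWp ⟨U, hUW, hUs, by omega⟩
  have hU := CfsgLib.Derange.exists_typedSub hF (a := a) (by omega) (by omega) hQ hB False
  have hN : r ∣ Nat.card {W // CfsgLib.Derange.TypedSub Q a False W} := by
    refine hrΩ.trans (dvd_of_eq (Nat.card_congr (Equiv.subtypeEquivRight fun W => ?_)))
    exact ⟨fun h => ⟨h.1, CfsgLib.Orth.nondegOn_of h.2.1, iff_of_false h.2.2 id⟩,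
      fun h => ⟨h.1, CfsgLib.Derange.nondegOn_geo h.2.1, fun h' => h.2.2.1 h'⟩⟩
  obtain ⟨j, hj, hjd, hdvd⟩ :=
    CfsgLib.Derange.odd_nondeg_window hq hr hrp hi hF (by omega) hQ hB False hU hN
  obtain ⟨t, D, X⟩ := CfsgLib.Derange.exists_ctx hq hr hr2 hrp hi
  have hcu : c = CfsgLib.Derange.unitDim i := hc
  rw [← hcu] at hdvd
  have hle : c ≤ 2 * d := (Nat.le_of_dvd (by omega) hdvd).trans (by omega)
  have key := CfsgLib.Derange.odd_nondeg_iff X hF hB (d := d) (a := a) (by omega) (by simp; omega)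
    (by omega) False hU (by omega)
  simp only [iff_false, false_iff, ← hcu] at key
  have h2c : 2 ∣ c := hcu ▸ even_iff_two_dvd.1 CfsgLib.Derange.even_unitDim
  have hge := CfsgLib.Derange.le_of_window h2c hj hjd hdvd
  have h2r : 2 < r := lt_of_le_of_ne hr.two_le (Ne.symm hr2)
  rw [key]
  rcases Nat.even_or_odd i with he | ho
  · have hodd : ¬ Odd i := Nat.not_odd_iff_even.2 he
    rw [show c = i from hc.trans (if_pos he)] at *
    simp only [CfsgLib.Derange.PlusFree, hodd, false_or, hr2, false_and, and_false, h2r, he, true_and, Ne, hrp,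
      not_false_eq_true, Nat.not_even_iff_odd]
    exact ⟨fun h => ⟨hge h.1, h⟩, fun h => h.2⟩
  · have heven : ¬ Even i := Nat.not_even_iff_odd.2 ho
    simp only [CfsgLib.Derange.PlusFree, ho, true_or, not_true, or_false, false_or, hr2, heven, false_and,
      and_false, h2r, true_and, Ne, hrp, not_false_eq_true]
    exact ⟨fun h => ⟨hge h.1, h.2, h.1⟩, fun h => ⟨h.2.2, h.2.1⟩⟩

end Cfsg.Agent.S5993
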