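import Cfsg.Statements.S5994
import Cfsg.Agent.Lib.UnipForm.PSplit
import Cfsg.Agent.Lib.Classical.OrthForms
-- import your own Cfsg.Agent.* helpers here

set_option autoImplicit false
open scoped MatrixGroups
open Cfsg

namespace Cfsg.Agent.S5994

/-- A necessary condition for every element of order p of PΩ⁻_n(q), q odd, to fix an elliptic `m`-space. Here `T = PΩ⁻_n(F)`, `n = 2d ≥ 8`, realised through `Ω⁻_n(q)`, the commutator subgroup of the isometry group of `Q = Σ_{i<d−1} xᵢyᵢ + z₁² + a z₁z₂ + b z₂²` with `z₁² + a z₁z₂ + b z₂²` anisotropic, over the field `F` with `q` elements; an element of `T` of prime order `r` is an element `x` of `Ω⁻_n(q)` with `x^r` scalar and `x` not scalar; `q` is odd; a nondegenerate `m`-space (even `m`) is a subspace on which the polar form of `Q` is nondegenerate; it is hyperbolic if it contains an `m/2`-dimensional subspace on which `Q` vanishes, elliptic otherwise. Let `m` be even with `2 ≤ m ≤ n − 2` and suppose `p` divides the number of elliptic `m`-spaces.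 If every element of `T` of order `p` fixes some elliptic `m`-space, then `n ≡ m (mod 4)` and every partition of `n` into parts of size at most `p` in which every even part has even multiplicity contains (as a sub-multiset) a partition of `m` in which every even part has even multiplicity. -/
theorem result {F : Type*} [Field F] [Fintype F] {p : ℕ} [Fact p.Prime] [CharP F p] {q : ℕ} (hq : Fintype.card F = q) (hqodd : Odd q)
    (d m : ℕ) (hd : 4 ≤ d) (hm : 2 ≤ m) (hme : Even m) (hmn : m + 2 ≤ 2 * d) (a b : F) (hab : ∀ x y : F, x ^ 2 + a * x * y + b * y ^ 2 = 0 → x = 0 ∧ y = 0)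
    (hpΩ : p ∣ Nat.card {W : Submodule F ((Fin (d - 1) ⊕ Fin (d - 1)) ⊕ Fin 2 → F) // Module.finrank F ↥W = m ∧ Cfsg.Geo.IsNondegenerateOn (QuadraticMap.polar (Cfsg.quadFormMinus (d - 1) F a b)) W ∧ ¬ Cfsg.Geo.IsPlusTypeOn (Cfsg.quadFormMinus (d - 1) F a b) W}) :
    (∀ x : GL ((Fin (d - 1) ⊕ Fin (d - 1)) ⊕ Fin 2) F, x ∈ Cfsg.Geo.omegaGL (Cfsg.quadFormMinus (d - 1) F a b) →
      (∃ z : F, ((x ^ p : GL ((Fin (d - 1) ⊕ Fin (d - 1)) ⊕ Fin 2) F) : Matrix ((Fin (d - 1) ⊕ Fin (d - 1)) ⊕ Fin 2) ((Fin (d - 1) ⊕ Fin (d - 1)) ⊕ Fin 2) F) = z • (1 : Matrix ((Fin (d - 1) ⊕ Fin (d - 1)) ⊕ Fin 2) ((Fin (d - 1) ⊕ Fin (d - 1)) ⊕ Fin 2) F)) →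
      (∀ z : F, (x : Matrix ((Fin (d - 1) ⊕ Fin (d - 1)) ⊕ Fin 2) ((Fin (d - 1) ⊕ Fin (d - 1)) ⊕ Fin 2) F) ≠ z • (1 : Matrix ((Fin (d - 1) ⊕ Fin (d - 1)) ⊕ Fin 2) ((Fin (d - 1) ⊕ Fin (d - 1)) ⊕ Fin 2) F)) →
      ∃ W : Submodule F ((Fin (d - 1) ⊕ Fin (d - 1)) ⊕ Fin 2 → F), (Module.finrank F ↥W = m ∧ Cfsg.Geo.IsNondegenerateOn (QuadraticMap.polar (Cfsg.quadFormMinus (d - 1) F a b)) W ∧ ¬ Cfsg.Geo.IsPlusTypeOn (Cfsg.quadFormMinus (d - 1) F a b) W) ∧ W.map (Matrix.toLin' (x : Matrix ((Fin (d - 1) ⊕ Fin (d - 1)) ⊕ Fin 2) ((Fin (d - 1) ⊕ Fin (d - 1)) ⊕ Fin 2) F)) ≤ W) →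
    ((2 * d) % 4 = m % 4 ∧ (∀ μ : Multiset ℕ, (∀ e ∈ μ, 0 < e ∧ e ≤ p) → (∀ e : ℕ, Even e → Even (μ.count e)) → μ.sum = 2 * d →
        ∃ ν : Multiset ℕ, ν ≤ μ ∧ ν.sum = m ∧ ∀ e : ℕ, Even e → Even (ν.count e))) := by
  obtain ⟨hodd, h2⟩ := CfsgLib.UnipForm.odd_char (p := p) (hq.symm ▸ hqodd)
  obtain ⟨Q, hQ, hB⟩ := CfsgLib.Orth.exists_quadForm_minus (d - 1) hab
  intro H
  rw [← hQ] at H
  have hcard : Fintype.card ((Fin (d - 1) ⊕ Fin (d - 1)) ⊕ Fin 2) = 2 * d := by simp; omega
  have H' := fun x hx (hxp : orderOf x = p) hxs => H x hx ⟨1, by rw [one_smul, ← hxp, pow_orderOf_eq_one]; rfl⟩ hxs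
  have hall := CfsgLib.UnipForm.split_of_stable hodd h2 hB (n := 2 * d) hcard (by omega) hme (by omega) _ H'
  refine ⟨?_, hall⟩
  by_contra h4
  have hp3 : 3 ≤ p := by
    have := (Fact.out : p.Prime).two_le
    obtain ⟨c, rfl⟩ := hodd
    omega
  by_cases hd2 : Even d
  · have hm4 : m % 4 = 2 := by obtain ⟨c, rfl⟩ := hme; obtain ⟨c', rfl⟩ := hd2; omega
    obtain ⟨ν, hle, hsum, hev⟩ := hall (3 ::ₘ 1 ::ₘ Multiset.replicate (d - 2) 2) (fun e he => by
        rw [Multiset.mem_cons, Multiset.mem_cons] at he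
        rcases he with rfl | rfl | he
        · omega
        · omega
        · obtain rfl := Multiset.eq_of_mem_replicate he; omega)
      (fun e he => by
        rw [Multiset.count_cons_of_ne (by rintro rfl; exact absurd he (by decide)),
          Multiset.count_cons_of_ne (by rintro rfl; exact absurd he (by decide)), Multiset.count_replicate]
        split_ifs
        · obtain ⟨c, rfl⟩ := hd2; exact ⟨c - 1, by omega⟩
        · exact Even.zero)
      (by simp only [Multiset.sum_cons, Multiset.sum_replicate, smul_eq_mul]; omega)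
    have key : ∀ s : Multiset ℕ, s ≤ Multiset.replicate (d - 2) 2 → ∀ e ∈ s, e = 2 := fun s hs e he =>
      Multiset.eq_of_mem_replicate (Multiset.mem_of_le hs he)
    have h22 := hev 2 even_two
    by_cases h3 : 3 ∈ ν
    · obtain ⟨s, rfl⟩ := Multiset.exists_cons_of_mem h3
      rw [Multiset.cons_le_cons_iff] at hle
      by_cases h1 : 1 ∈ s
      · obtain ⟨s', rfl⟩ := Multiset.exists_cons_of_mem h1
        rw [Multiset.cons_le_cons_iff, Multiset.le_replicate_iff] at hle
        obtain ⟨b, -, rfl⟩ := hle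
        rw [Multiset.count_cons_of_ne (by decide), Multiset.count_cons_of_ne (by decide),
          Multiset.count_replicate, if_pos rfl] at h22
        simp only [Multiset.sum_cons, Multiset.sum_replicate, smul_eq_mul] at hsum
        obtain ⟨c, rfl⟩ := h22
        omega
      · have := (Multiset.le_cons_of_notMem h1).1 hle
        rw [Multiset.le_replicate_iff] at this
        obtain ⟨b, -, rfl⟩ := this
        simp only [Multiset.sum_cons, Multiset.sum_replicate, smul_eq_mul] at hsum
        omega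
    · have hle' := (Multiset.le_cons_of_notMem h3).1 hle
      by_cases h1 : 1 ∈ ν
      · obtain ⟨s, rfl⟩ := Multiset.exists_cons_of_mem h1
        rw [Multiset.cons_le_cons_iff, Multiset.le_replicate_iff] at hle'
        obtain ⟨b, -, rfl⟩ := hle'
        simp only [Multiset.sum_cons, Multiset.sum_replicate, smul_eq_mul] at hsum
        omega
      · have := (Multiset.le_cons_of_notMem h1).1 hle'
        rw [Multiset.le_replicate_iff] at this
        obtain ⟨b, -, rfl⟩ := this
        rw [Multiset.count_replicate, if_pos rfl] at h22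
        rw [Multiset.sum_replicate, smul_eq_mul] at hsum
        obtain ⟨c, rfl⟩ := h22
        omega
  · obtain ⟨k, hk⟩ := Nat.not_even_iff_odd.1 hd2
    have hm4 : m % 4 = 0 := by obtain ⟨c, rfl⟩ := hme; omega
    obtain ⟨W, hW, hWm, ν, hle, hsum, hev, hU⟩ := CfsgLib.UnipForm.exists_stable_type hodd h2 hB
      (by omega) _ H' (μ := 1 ::ₘ 1 ::ₘ Multiset.replicate (d - 1) 2) (fun e he => by
        rw [Multiset.mem_cons, Multiset.mem_cons] at he
        rcases he with rfl | rfl | he
        · omega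
        · omega
        · obtain rfl := Multiset.eq_of_mem_replicate he; omega)
      (fun e he => by
        rw [Multiset.count_cons_of_ne (by rintro rfl; exact absurd he (by decide)),
          Multiset.count_cons_of_ne (by rintro rfl; exact absurd he (by decide)), Multiset.count_replicate]
        split_ifs
        · exact ⟨k, by omega⟩
        · exact Even.zero)
      (by rw [hcard]; simp only [Multiset.sum_cons, Multiset.sum_replicate, smul_eq_mul]; omega)
      ⟨1, Multiset.mem_cons_self _ _, odd_one⟩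
      ⟨2, Multiset.mem_cons_of_mem (Multiset.mem_cons_of_mem (Multiset.mem_replicate.2 ⟨by omega, rfl⟩)), one_lt_two⟩
    refine hW ?_
    have hν : ∀ e ∈ ν, e = 1 ∨ e = 2 := fun e he => by
      have := Multiset.mem_of_le hle he
      rw [Multiset.mem_cons, Multiset.mem_cons, Multiset.mem_replicate] at this
      tauto
    have hdec : ν = Multiset.replicate (ν.count 1) 1 + Multiset.replicate (ν.count 2) 2 := by
      ext e
      rw [Multiset.count_add, Multiset.count_replicate, Multiset.count_replicate]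
      by_cases h1 : e = 1
      · subst h1; simp
      by_cases h2' : e = 2
      · subst h2'; simp
      rw [if_neg (Ne.symm h1), if_neg (Ne.symm h2'), Multiset.count_eq_zero.2 fun h => by
        rcases hν e h with h | h <;> contradiction]
    have hc1 : ν.count 1 ≤ 2 := by
      refine (Multiset.count_le_of_le 1 hle).trans ?_
      simp [Multiset.count_replicate]
    have h22 := hev 2 even_two
    have hs := hsum
    rw [hdec, Multiset.sum_add, Multiset.sum_replicate, Multiset.sum_replicate, smul_eq_mul, smul_eq_mul] at hs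
    obtain ⟨U, hUW, hUs, hUd⟩ := hU fun e he => by rcases hν e he with rfl | rfl <;> omega
    refine ⟨U, hUW, hQ ▸ hUs, ?_⟩
    rw [hWm, hUd, hdec, Multiset.map_add, Multiset.sum_add, Multiset.map_replicate, Multiset.map_replicate,
      Multiset.sum_replicate, Multiset.sum_replicate, smul_eq_mul, smul_eq_mul]
    obtain ⟨c, hc⟩ := h22
    omega

end Cfsg.Agent.S5994
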