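import Cfsg.Statements.S5995
import Cfsg.Agent.Lib.UnipForm.PSplit
import Cfsg.Agent.Lib.Classical.OrthForms
-- import your own Cfsg.Agent.* helpers here

set_option autoImplicit false
open scoped MatrixGroups
open Cfsg

namespace Cfsg.Agent.S5995

/-- A necessary condition for every element of order p of Ω_n(q), nq odd, to fix a hyperbolic `m`-space. Here `T = Ω_n(F)`, `n = 2d+1 ≥ 7`, `q` odd, realised as the commutator subgroup of the isometry group of `Q = x₀² + Σ xᵢyᵢ` over the field `F` with `q` elements (trivial centre, so its elements of prime order `r` are used directly); a nondegenerate `m`-space (even `m`) is a subspace on which the polar form of `Q` is nondegenerate; it is hyperbolic if it contains an `m/2`-dimensional subspace on which `Q` vanishes, elliptic otherwise. Let `m` be even with `2 ≤ m ≤ n − 1` and suppose `p` divides the number of hyperbolic `m`-spaces. If every element of `T` of order `p` fixes some hyperbolic `m`-space, then `m ≡ 0 (mod 4)` and every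 partition of `n` into parts of size at most `p` in which every even part has even multiplicity contains (as a sub-multiset) a partition of `m` in which every even part has even multiplicity. -/
theorem result {F : Type*} [Field F] [Fintype F] {p : ℕ} [Fact p.Prime] [CharP F p] {q : ℕ} (hq : Fintype.card F = q) (hqodd : Odd q)
    (d m : ℕ) (hd : 3 ≤ d) (hm : 2 ≤ m) (hme : Even m) (hmn : m ≤ 2 * d)
    (hpΩ : p ∣ Nat.card {W : Submodule F (Unit ⊕ (Fin d ⊕ Fin d) → F) // Module.finrank F ↥W = m ∧ Cfsg.Geo.IsNondegenerateOn (QuadraticMap.polar (Cfsg.quadFormOdd d F)) W ∧ Cfsg.Geo.IsPlusTypeOn (Cfsg.quadFormOdd d F) W}) :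
    (∀ x : GL (Unit ⊕ (Fin d ⊕ Fin d)) F, x ∈ Cfsg.Geo.omegaGL (Cfsg.quadFormOdd d F) → orderOf x = p →
      ∃ W : Submodule F (Unit ⊕ (Fin d ⊕ Fin d) → F), (Module.finrank F ↥W = m ∧ Cfsg.Geo.IsNondegenerateOn (QuadraticMap.polar (Cfsg.quadFormOdd d F)) W ∧ Cfsg.Geo.IsPlusTypeOn (Cfsg.quadFormOdd d F) W) ∧ W.map (Matrix.toLin' (x : Matrix (Unit ⊕ (Fin d ⊕ Fin d)) (Unit ⊕ (Fin d ⊕ Fin d)) F)) ≤ W) →
    (m % 4 = 0 ∧ (∀ μ : Multiset ℕ, (∀ e ∈ μ, 0 < e ∧ e ≤ p) → (∀ e : ℕ, Even e → Even (μ.count e)) → μ.sum = 2 * d + 1 →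
        ∃ ν : Multiset ℕ, ν ≤ μ ∧ ν.sum = m ∧ ∀ e : ℕ, Even e → Even (ν.count e))) := by
  obtain ⟨hodd, h2⟩ := CfsgLib.UnipForm.odd_char (p := p) (hq.symm ▸ hqodd)
  obtain ⟨Q, hQ, hB⟩ := CfsgLib.Orth.exists_quadForm_odd h2 d
  intro H
  rw [← hQ] at H
  have hall := CfsgLib.UnipForm.split_of_stable hodd h2 hB (n := 2 * d + 1) (by simp; omega) (by omega) hme
    (by omega) _ fun x hx hxp _ => H x hx hxp
  refine ⟨?_, hall⟩
  by_contra h4
  have hm4 : m % 4 = 2 := by obtain ⟨c, rfl⟩ := hme; omega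
  have hp3 : 3 ≤ p := by
    have := (Fact.out : p.Prime).two_le
    obtain ⟨c, rfl⟩ := hodd
    omega
  obtain ⟨o, a, ho, ha, hs⟩ : ∃ o a, (o = 1 ∨ o = 3) ∧ Even a ∧ o + a * 2 = 2 * d + 1 := by
    rcases Nat.even_or_odd d with ⟨c, hc⟩ | ⟨c, hc⟩
    · exact ⟨1, d, Or.inl rfl, ⟨c, hc⟩, by omega⟩
    · exact ⟨3, d - 1, Or.inr rfl, ⟨c, by omega⟩, by omega⟩
  obtain ⟨ν, hle, hsum, hev⟩ := hall (o ::ₘ Multiset.replicate a 2) (fun e he => by
      rw [Multiset.mem_cons] at he
      rcases he with rfl | he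
      · omega
      · obtain rfl := Multiset.eq_of_mem_replicate he; omega)
    (fun e he => by
      rw [Multiset.count_cons_of_ne (by rintro rfl; rcases ho with rfl | rfl <;> exact absurd he (by decide)),
        Multiset.count_replicate]
      split_ifs
      · exact ha
      · exact Even.zero)
    (by rw [Multiset.sum_cons, Multiset.sum_replicate, smul_eq_mul]; omega)
  by_cases ho' : o ∈ ν
  · obtain ⟨s, rfl⟩ := Multiset.exists_cons_of_mem ho'
    rw [Multiset.cons_le_cons_iff, Multiset.le_replicate_iff] at hle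
    obtain ⟨b, -, rfl⟩ := hle
    rw [Multiset.sum_cons, Multiset.sum_replicate, smul_eq_mul] at hsum
    omega
  · have hle' := (Multiset.le_cons_of_notMem ho').1 hle
    rw [Multiset.le_replicate_iff] at hle'
    obtain ⟨b, -, rfl⟩ := hle'
    rw [Multiset.sum_replicate, smul_eq_mul] at hsum
    have := hev 2 even_two
    rw [Multiset.count_replicate, if_pos rfl] at this
    obtain ⟨c, rfl⟩ := this
    omega

end Cfsg.Agent.S5995
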