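import Cfsg.Statements.S5997
import Cfsg.Agent.Lib.Derange.TwoByTwo

set_option autoImplicit false
open scoped MatrixGroups
open Cfsg

namespace Cfsg.Agent.S5997

open Matrix CfsgLib.Derange.TwoByTwo

section

variable {F : Type*} [Field F]

local notation "M2" => Matrix (Fin 2) (Fin 2) F

/-- An anticommuting pair of square roots of `-1`. -/
structure IsQuatPair (a b : M2) : Prop where
  ha : a * a = -1
  hb : b * b = -1
  hba : b * a = -(a * b)

theorem IsQuatPair.not_scalar {a b : M2} (h : IsQuatPair a b) (h2 : (2 : F) ≠ 0) :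
    ∀ c : F, a ≠ c • 1 := by
  intro c hc
  have h1 : b * a = a * b := by rw [hc, Matrix.mul_smul, Matrix.smul_mul, Matrix.mul_one, Matrix.one_mul]
  have h3 : (2 : F) • (a * b) = 0 := by
    rw [two_smul]
    nth_rewrite 1 [← h1]
    rw [h.hba, neg_add_cancel]
  have h4 : a * b = 0 := (smul_eq_zero.1 h3).resolve_left h2
  have h5 : a * a * (b * b) = 0 := by
    rw [Matrix.mul_assoc, ← Matrix.mul_assoc a b b, h4, Matrix.zero_mul, Matrix.mul_zero]
  rw [h.ha, h.hb, neg_mul_neg, Matrix.one_mul] at h5
  exact one_ne_zero h5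

theorem trace_det_of_sq {a : M2} (ha : a * a = -1) (hns : ∀ c : F, a ≠ c • 1) : a.trace = 0 ∧ a.det = 1 := by
  have h := cayley_two a
  rw [ha] at h
  have ht : a.trace = 0 := by
    by_contra ht
    refine hns (a.trace⁻¹ * (a.det - 1)) ?_
    have h' : a.trace • a = (a.det - 1) • (1 : M2) := by
      rw [sub_smul, one_smul]
      linear_combination (norm := module) -h
    rw [← smul_smul, ← h', smul_smul, inv_mul_cancel₀ ht, one_smul]
  refine ⟨ht, ?_⟩
  rw [ht, zero_smul, zero_sub, neg_inj] at h
  have := congrFun (congrFun h 0) 0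
  simpa using this.symm

/-- The element of order three permuting `a`, `b`, `ab`. -/
theorem IsQuatPair.three {a b : M2} (h : IsQuatPair a b) (h2 : (2 : F) ≠ 0) (h3 : (3 : F) ≠ 0) :
    ∃ y : M2, y.det = 1 ∧ y.trace = -1 ∧ (∀ c : F, y ≠ c • 1) ∧ y * a = (a * b) * y ∧ y * b = a * y := by
  set u := a + b + a * b with hu
  have hab : ∀ m : M2, a * (a * m) = -m := fun m => by rw [← Matrix.mul_assoc, h.ha, Matrix.neg_mul, Matrix.one_mul]
  have hbb : ∀ m : M2, b * (b * m) = -m := fun m => by rw [← Matrix.mul_assoc, h.hb, Matrix.neg_mul, Matrix.one_mul]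
  have hbam : ∀ m : M2, b * (a * m) = -(a * (b * m)) := fun m => by
    rw [← Matrix.mul_assoc, h.hba, Matrix.neg_mul, Matrix.mul_assoc]
  have huu : u * u = (-3 : F) • (1 : M2) := by
    simp only [hu, Matrix.add_mul, Matrix.mul_add, Matrix.mul_assoc, hab, hbb, hbam, h.ha, h.hb, h.hba,
      Matrix.mul_neg, Matrix.mul_one, neg_neg]
    module
  have huns : ∀ c : F, u ≠ c • 1 := by
    intro c hc
    have hcomm : u * a = a * u := by rw [hc, Matrix.mul_smul, Matrix.smul_mul, Matrix.mul_one, Matrix.one_mul]
    simp only [hu, Matrix.add_mul, Matrix.mul_add, Matrix.mul_assoc, hab, hbam, h.ha, h.hba,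
      Matrix.mul_neg, Matrix.mul_one, neg_neg] at hcomm
    have e : a * b = b := by
      have : (2 : F) • (a * b) = (2 : F) • b := by linear_combination (norm := module) -hcomm
      exact smul_right_injective _ h2 this
    have e' : a = 1 := by
      have := congrArg (· * b) e
      simp only [Matrix.mul_assoc, h.hb, Matrix.mul_neg, Matrix.mul_one] at this
      exact neg_inj.1 this
    exact h.not_scalar h2 1 (by rw [e', one_smul])
  set y : M2 := (2 : F)⁻¹ • (u - 1) with hy
  have hyns : ∀ c : F, y ≠ c • 1 := fun c hc => huns (2 * c + 1) (by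
    rw [add_smul, one_smul, ← smul_smul, ← hc, hy, smul_smul, mul_inv_cancel₀ h2, one_smul, sub_add_cancel])
  have hyy : y * y = -y - 1 := by
    rw [hy, Matrix.smul_mul, Matrix.mul_smul, smul_smul, sub_mul, mul_sub, mul_sub, Matrix.one_mul, Matrix.mul_one,
      huu, Matrix.one_mul]
    match_scalars <;> field_simp <;> ring
  have h' := cayley_two y
  rw [hyy] at h'
  have ht : y.trace = -1 := by
    by_contra ht
    have h0 : y.trace + 1 ≠ 0 := fun e => ht (eq_neg_of_add_eq_zero_left e)
    refine hyns ((y.trace + 1)⁻¹ * (y.det - 1)) ?_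
    have h'' : (y.trace + 1) • y = (y.det - 1) • (1 : M2) := by
      linear_combination (norm := module) -h'
    rw [← smul_smul, ← h'', smul_smul, inv_mul_cancel₀ h0, one_smul]
  refine ⟨y, ?_, ht, hyns, ?_, ?_⟩
  · rw [ht, neg_smul, one_smul, sub_right_inj] at h'
    have := congrFun (congrFun h' 0) 0
    simpa using this.symm
  all_goals
    rw [hy, Matrix.smul_mul, Matrix.mul_smul]
    congr 1
    simp only [hu, Matrix.add_mul, Matrix.mul_add, Matrix.sub_mul, Matrix.mul_sub, Matrix.one_mul, Matrix.mul_assoc,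
      hab, hbb, hbam, h.ha, h.hb, h.hba, Matrix.mul_neg, Matrix.mul_one, neg_neg]
    abel

theorem commutant {a b : M2} (h : IsQuatPair a b) (h2 : (2 : F) ≠ 0) {x : M2} (hxa : x * a = a * x)
    (hxb : x * b = b * x) : ∃ c : F, x = c • 1 := by
  obtain ⟨P, hP, hPa⟩ := exists_frame a (h.not_scalar h2)
  have hPu : IsUnit P.det := isUnit_iff_ne_zero.2 hP
  obtain ⟨ht, hd⟩ := trace_det_of_sq h.ha (h.not_scalar h2)
  rw [ht, hd] at hPa
  set x' := P⁻¹ * x * P with hx'
  set C₀ : M2 := !![0, -1; 1, 0]
  have hPa' : P⁻¹ * a * P = C₀ := by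
    rw [Matrix.mul_assoc, hPa, ← Matrix.mul_assoc, Matrix.nonsing_inv_mul _ hPu, Matrix.one_mul]
  have hcC : x' * C₀ = C₀ * x' := by
    rw [← hPa', hx']
    simp only [Matrix.mul_assoc, Matrix.mul_nonsing_inv_cancel_left _ _ hPu]
    rw [← Matrix.mul_assoc x, hxa, Matrix.mul_assoc]
  have hx : x' = x' 0 0 • 1 + x' 1 0 • C₀ := by
    have h00 := congrFun (congrFun hcC 0) 0
    have h10 := congrFun (congrFun hcC 1) 0
    simp [C₀, Matrix.mul_apply, Fin.sum_univ_two] at h00 h10
    ext i j
    fin_cases i <;> fin_cases j <;> simp [C₀]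
    · exact h00
    · exact h10
  have hxe : x = x' 0 0 • 1 + x' 1 0 • a := by
    have e1 : P * x' * P⁻¹ = x := by
      rw [hx']
      simp only [Matrix.mul_assoc, Matrix.mul_nonsing_inv _ hPu, Matrix.mul_one,
        Matrix.mul_nonsing_inv_cancel_left _ _ hPu]
    rw [← e1]
    nth_rewrite 1 [hx]
    rw [Matrix.mul_add, Matrix.add_mul, Matrix.mul_smul, Matrix.smul_mul, Matrix.mul_smul, Matrix.smul_mul,
      Matrix.mul_one, Matrix.mul_nonsing_inv _ hPu, ← hPa]
    rw [Matrix.mul_assoc, Matrix.mul_nonsing_inv _ hPu, Matrix.mul_one]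
  refine ⟨x' 0 0, ?_⟩
  rw [hxe] at hxb ⊢
  simp only [Matrix.add_mul, Matrix.mul_add, Matrix.smul_mul, Matrix.mul_smul, Matrix.one_mul, Matrix.mul_one,
    h.hba] at hxb
  have h0 : (x' 1 0 * 2) • (a * b) = 0 := by linear_combination (norm := module) hxb
  rcases smul_eq_zero.1 h0 with h0 | h0
  · rw [(mul_eq_zero.1 h0).resolve_right h2, zero_smul, add_zero]
  · exfalso
    have h5 : a * a * (b * b) = 0 := by
      rw [Matrix.mul_assoc, ← Matrix.mul_assoc a b b, h0, Matrix.zero_mul, Matrix.mul_zero]
    rw [h.ha, h.hb, neg_mul_neg, Matrix.one_mul] at h5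
    exact one_ne_zero h5

/-- A finite subgroup element of order two that is central and unique is `-1`. -/
theorem quat_data [Fintype F] {R : Subgroup (GL (Fin 2) F)} (e : ↥R ≃* QuaternionGroup 2) (h2 : (2 : F) ≠ 0) :
    ∃ a b : GL (Fin 2) F, a ∈ R ∧ b ∈ R ∧ IsQuatPair (a : M2) (b : M2) ∧ R ≤ Subgroup.closure {a, b} := by
  set A : QuaternionGroup 2 := QuaternionGroup.a 1
  set B : QuaternionGroup 2 := QuaternionGroup.xa 0
  set a : GL (Fin 2) F := ((e.symm A : R) : GL (Fin 2) F)
  set b : GL (Fin 2) F := ((e.symm B : R) : GL (Fin 2) F)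
  set z : GL (Fin 2) F := ((e.symm (A * A) : R) : GL (Fin 2) F)
  let f : QuaternionGroup 2 →* GL (Fin 2) F := R.subtype.comp e.symm.toMonoidHom
  have haa : a * a = z := (map_mul f A A).symm
  have hbb : b * b = z := by
    show f B * f B = f (A * A)
    rw [← map_mul]; congr 1
  have hba : b * a = z * (a * b) := by
    show f B * f A = f (A * A) * (f A * f B)
    rw [← map_mul, ← map_mul, ← map_mul]; congr 1
  have hza : z * a = a * z := by rw [← haa, mul_assoc]
  have hzb : z * b = b * z := by rw [← hbb, mul_assoc]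
  have hz2 : z * z = 1 := by
    show f (A * A) * f (A * A) = 1
    rw [← map_mul, ← map_one f]; congr 1
  have hz1 : z ≠ 1 := by
    intro h
    have h' : f (A * A) = f 1 := by rw [map_one]; exact h
    have hinj : Function.Injective f := Subtype.val_injective.comp e.symm.injective
    exact absurd (hinj h') (by decide)
  have hzm : (z : M2) * (z : M2) = 1 := by rw [← Units.val_mul, hz2, Units.val_one]
  -- `z` is scalar
  have hzs : ∃ c : F, (z : M2) = c • 1 := by
    by_contra hns
    push Not at hns
    obtain ⟨P, hP, hPz⟩ := exists_frame (z : M2) hns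
    have hPu : IsUnit P.det := isUnit_iff_ne_zero.2 hP
    -- everything commuting with `z` is in `F + F z`, hence `a` and `b` commute
    have hspan : ∀ x : M2, (z : M2) * x = x * (z : M2) → ∃ u v : F, x = u • 1 + v • (z : M2) := by
      intro x hx
      set C₀ : M2 := !![0, -(z : M2).det; 1, (z : M2).trace]
      set x' := P⁻¹ * x * P with hx'
      have hC : P⁻¹ * (z : M2) * P = C₀ := by
        rw [Matrix.mul_assoc, hPz, ← Matrix.mul_assoc, Matrix.nonsing_inv_mul _ hPu, Matrix.one_mul]
      have hcC : x' * C₀ = C₀ * x' := by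
        rw [← hC, hx']
        simp only [Matrix.mul_assoc, Matrix.mul_nonsing_inv_cancel_left _ _ hPu]
        rw [← Matrix.mul_assoc x, ← hx, Matrix.mul_assoc]
      refine ⟨x' 0 0, x' 1 0, ?_⟩
      have h00 := congrFun (congrFun hcC 0) 0
      have h10 := congrFun (congrFun hcC 1) 0
      simp [C₀, Matrix.mul_apply, Fin.sum_univ_two] at h00 h10
      have hx2 : x' = x' 0 0 • 1 + x' 1 0 • C₀ := by
        ext i j
        fin_cases i <;> fin_cases j <;> simp [C₀]
        · linear_combination h00
        · linear_combination h10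
      have e1 : P * x' * P⁻¹ = x := by
        rw [hx']
        simp only [Matrix.mul_assoc, Matrix.mul_nonsing_inv _ hPu, Matrix.mul_one,
          Matrix.mul_nonsing_inv_cancel_left _ _ hPu]
      rw [← e1]
      nth_rewrite 1 [hx2]
      rw [Matrix.mul_add, Matrix.add_mul, Matrix.mul_smul, Matrix.smul_mul, Matrix.mul_smul, Matrix.smul_mul,
        Matrix.mul_one, Matrix.mul_nonsing_inv _ hPu, ← hPz, Matrix.mul_assoc, Matrix.mul_nonsing_inv _ hPu,
        Matrix.mul_one]
    obtain ⟨u, v, hu⟩ := hspan (a : M2) (by rw [← Units.val_mul, ← Units.val_mul, hza])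
    obtain ⟨u', v', hu'⟩ := hspan (b : M2) (by rw [← Units.val_mul, ← Units.val_mul, hzb])
    have hc : b * a = a * b := Units.ext (by
      rw [Units.val_mul, Units.val_mul, hu, hu']
      simp only [Matrix.add_mul, Matrix.mul_add, Matrix.smul_mul, Matrix.mul_smul, Matrix.one_mul, Matrix.mul_one]
      module)
    rw [hba] at hc
    exact hz1 (mul_eq_right.1 hc)
  obtain ⟨c, hc⟩ := hzs
  have hcm : (z : M2) = -1 := by
    rw [hc, Matrix.smul_mul, Matrix.one_mul, smul_smul] at hzm
    have hcc : c * c = 1 := by simpa using congrFun (congrFun hzm 0) 0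
    rcases mul_self_eq_one_iff.1 hcc with e' | e'
    · exact absurd (Units.ext (by rw [hc, e', one_smul, Units.val_one])) hz1
    · rw [hc, e', neg_one_smul]
  refine ⟨a, b, (e.symm A).2, (e.symm B).2, ⟨?_, ?_, ?_⟩, ?_⟩
  · rw [← Units.val_mul, haa, hcm]
  · rw [← Units.val_mul, hbb, hcm]
  · rw [← Units.val_mul, hba, Units.val_mul, Units.val_mul, hcm, Matrix.neg_mul, Matrix.one_mul]
  · intro x hx
    obtain ⟨w, hw⟩ : ∃ w, f w = x := ⟨e ⟨x, hx⟩, congrArg Subtype.val (e.symm_apply_apply _)⟩
    have key : ∀ w : QuaternionGroup 2, ∃ i j : Fin 4, w = A ^ (i : ℕ) * B ^ (j : ℕ) := by decide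
    obtain ⟨i, j, hij⟩ := key w
    have ha' : f A ∈ Subgroup.closure {a, b} := Subgroup.subset_closure (Set.mem_insert a {b})
    have hb' : f B ∈ Subgroup.closure {a, b} := Subgroup.subset_closure (Set.mem_insert_of_mem a rfl)
    rw [← hw, hij, map_mul, map_pow, map_pow]
    exact mul_mem (pow_mem ha' _) (pow_mem hb' _)

end

/-- Elements of prime order of PSL_2(p) and the normalizer of a quaternion subgroup. Here `T = PSL_2(F)` for the field `F` with `p` elements, `p ≥ 5` prime; `R` is a subgroup of GL_2(F) isomorphic to the quaternion group of order 8 (an absolutely irreducible 2-group of symplectic type), and `H` is the subgroup of matrices of determinant 1 normalizing `R` — a subgroup of type 2^{1+2}.O₂⁻(2), isomorphic modulo scalars to A₄ or S₄ (maximality is not assumed). Ω is the set of cosets of `H` in `T`, so an element of `T` of prime order `r` (a matrix `x` of determinant 1 with `x^r` scalar, `x` not scalar) fixes a point of Ω exactly when some conjugate of `x` by a matrix of determinant 1 normalizes `R`. Let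 `r` be a prime dividing the index of `H`. Then every element of `T` of order `r` fixes a point of Ω if and only if `r = 2` or `r = 3`. -/
theorem result {F : Type*} [Field F] [Fintype F] {p : ℕ} [Fact p.Prime] [CharP F p] (hF : Fintype.card F = p) (hp : 5 ≤ p)
    (R : Subgroup (GL (Fin 2) F)) (hR : Nonempty (↥R ≃* QuaternionGroup 2))
    (r : ℕ) [Fact r.Prime]
    (hΩ : r ∣ (Cfsg.Geo.subgroupNormalizer R).relIndex (Cfsg.Geo.specialLinear (Fin 2) F)) :
    (∀ x ∈ Cfsg.Geo.specialLinear (Fin 2) F, (∃ z : F, ((x ^ r : GL (Fin 2) F) : Matrix (Fin 2) (Fin 2) F) = z • (1 : Matrix (Fin 2) (Fin 2) F)) →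
      (∀ z : F, (x : Matrix (Fin 2) (Fin 2) F) ≠ z • (1 : Matrix (Fin 2) (Fin 2) F)) →
      ∃ g ∈ Cfsg.Geo.specialLinear (Fin 2) F, g⁻¹ * x * g ∈ Cfsg.Geo.subgroupNormalizer R) ↔ (r = 2 ∨ r = 3) := by
  classical
  have hcast : ∀ m : ℕ, 0 < m → m < p → (m : F) ≠ 0 := fun m h0 hm h =>
    absurd (Nat.le_of_dvd h0 ((CharP.cast_eq_zero_iff F p m).1 h)) (not_le.2 hm)
  have h2 : (2 : F) ≠ 0 := by exact_mod_cast hcast 2 (by norm_num) (by omega)
  have h3 : (3 : F) ≠ 0 := by exact_mod_cast hcast 3 (by norm_num) (by omega)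
  have h4 : (4 : F) ≠ 0 := by exact_mod_cast hcast 4 (by norm_num) (by omega)
  obtain ⟨e⟩ := hR
  obtain ⟨a, b, haR, hbR, hq, hgen⟩ := quat_data e h2
  haveI : Finite R := Finite.of_equiv _ e.symm.toEquiv
  have hmemSL : ∀ x : GL (Fin 2) F, x ∈ Cfsg.Geo.specialLinear (Fin 2) F ↔
      (x : Matrix (Fin 2) (Fin 2) F).det = 1 := fun x => by
    rw [Cfsg.Geo.specialLinear, MonoidHom.mem_ker, Units.ext_iff]
    exact Iff.rfl
  constructor
  · intro h
    by_contra hne
    push Not at hne
    have hr := (Fact.out : r.Prime)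
    have hr5 : 5 ≤ r := by
      have := hr.two_le
      by_contra h
      interval_cases r
      · exact hne.1 rfl
      · exact hne.2 rfl
      · norm_num at hr
    obtain ⟨x, hx⟩ := exists_prime_orderOf_dvd_card' (G := Cfsg.Geo.specialLinear (Fin 2) F) r
      (hΩ.trans (Subgroup.relIndex_dvd_card _ _))
    have hxr : ((x : GL (Fin 2) F)) ^ r = 1 := by rw [← Subgroup.coe_pow, ← hx, pow_orderOf_eq_one]; rfl
    have hxns : ∀ z : F, ((x : GL (Fin 2) F) : Matrix (Fin 2) (Fin 2) F) ≠ z • 1 := by
      intro z hz
      have hd := (hmemSL _).1 x.2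
      rw [hz, Matrix.det_smul, Matrix.det_one, mul_one, Fintype.card_fin] at hd
      have h1 : x ^ 2 = 1 := Subtype.ext (Units.ext (by
        rw [Subgroup.coe_pow, Units.val_pow_eq_pow_val, hz, smul_pow, one_pow, hd, one_smul]; rfl))
      have := Nat.le_of_dvd (by norm_num) (hx ▸ orderOf_dvd_of_pow_eq_one h1)
      omega
    obtain ⟨g, -, hg⟩ := h x x.2 ⟨1, by rw [hxr, one_smul]; rfl⟩ hxns
    set w := g⁻¹ * (x : GL (Fin 2) F) * g with hw
    have hwo : orderOf w = r := by
      rw [← hx, ← Subgroup.orderOf_coe, hw]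
      exact (orderOf_injective (MulAut.conj g⁻¹).toMonoidHom (MulAut.conj g⁻¹).injective _).symm.trans
        (by simp [MulAut.conj_apply]) |>.symm
    -- the conjugation action of `w` on the eight elements of `R` is trivial
    let act : Subgroup.normalizer (R : Set (GL (Fin 2) F)) →* Equiv.Perm R :=
      { toFun := fun n =>
          { toFun := fun y => ⟨(n : GL (Fin 2) F) * y * (n : GL (Fin 2) F)⁻¹,
              (Subgroup.mem_normalizer_iff.1 n.2 y).1 y.2⟩
            invFun := fun y => ⟨(n : GL (Fin 2) F)⁻¹ * y * (n : GL (Fin 2) F), by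
              refine (Subgroup.mem_normalizer_iff.1 n.2 _).2 ?_
              have : (n : GL (Fin 2) F) * ((n : GL (Fin 2) F)⁻¹ * y * n) * (n : GL (Fin 2) F)⁻¹ = y := by group
              rw [this]; exact y.2⟩
            left_inv := fun y => Subtype.ext (by simp only; group)
            right_inv := fun y => Subtype.ext (by simp only; group) }
        map_one' := Equiv.ext fun y => Subtype.ext (by simp)
        map_mul' := fun m n => Equiv.ext fun y => Subtype.ext (by
          simp [Equiv.Perm.mul_apply, mul_assoc]) }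
    set σ := act ⟨w, hg⟩ with hσ
    have hσr : σ ^ r = 1 := by
      rw [hσ, ← map_pow, ← map_one act]
      congr 1
      exact Subtype.ext (by rw [Subgroup.coe_pow, ← hwo, pow_orderOf_eq_one]; rfl)
    have hfixed : ∀ y : R, σ y = y := by
      haveI : Fintype R := Fintype.ofFinite _
      have hcard : Fintype.card R = 8 := by
        rw [← Nat.card_eq_fintype_card, Nat.card_congr e.toEquiv, Nat.card_eq_fintype_card, QuaternionGroup.card]
      by_contra hmove
      push Not at hmove
      obtain ⟨y₀, hy₀⟩ := hmove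
      have hsig1 : σ ≠ 1 := fun h => hy₀ (by rw [h]; rfl)
      haveI := Fact.mk hr
      have hord : orderOf σ = r := orderOf_eq_prime hσr hsig1
      have hct : ∀ m ∈ σ.cycleType, m = r := fun m hm => by
        have h' := Equiv.Perm.dvd_of_mem_cycleType hm
        rw [hord] at h'
        exact (hr.eq_one_or_self_of_dvd m h').resolve_left (by
          have := Equiv.Perm.two_le_of_mem_cycleType hm; omega)
      have hsum : σ.cycleType.sum = σ.cycleType.card * r := by
        rw [Multiset.eq_replicate_of_mem hct, Multiset.sum_replicate, Multiset.card_replicate, smul_eq_mul]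
      rw [Equiv.Perm.sum_cycleType] at hsum
      have hpos : 0 < σ.cycleType.card := Equiv.Perm.card_cycleType_pos.2 hsig1
      -- `1`, `-1` and, if some generator is fixed, its powers are fixed
      have hone : σ 1 = 1 := Subtype.ext (by simp [hσ, act])
      have hfix3 : ∀ y : R, σ y = y → y * y = 1 ∨ ¬ r ≤ σ.support.card ∨ r ≤ 4 := by
        intro y hy
        by_cases hyy : y * y = 1
        · exact Or.inl hyy
        · right; left
          intro hle
          have hy3 : ∀ m : ℕ, σ (y ^ m) = y ^ m := fun m => Subtype.ext (by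
            have h1 : w * (y : GL (Fin 2) F) * w⁻¹ = y := congrArg Subtype.val hy
            show w * ((y ^ m : R) : GL (Fin 2) F) * w⁻¹ = _
            rw [Subgroup.coe_pow, ← conj_pow, h1])
          have hsub : σ.support ⊆ Finset.univ \ {1, y, y ^ 2, y ^ 3} := by
            intro t ht
            rw [Finset.mem_sdiff]
            refine ⟨Finset.mem_univ _, fun h => ?_⟩
            simp only [Finset.mem_insert, Finset.mem_singleton] at h
            rw [Equiv.Perm.mem_support] at ht
            rcases h with rfl | rfl | rfl | rfl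
            exacts [ht hone, ht hy, ht (hy3 2), ht (hy3 3)]
          have h4' : ({1, y, y ^ 2, y ^ 3} : Finset R).card = 4 := by
            have key : ∀ w : QuaternionGroup 2, w * w ≠ 1 →
                ({1, w, w ^ 2, w ^ 3} : Finset (QuaternionGroup 2)).card = 4 := by decide
            have := key (e y) (by rw [← map_mul, ← map_one e]; exact fun h => hyy (e.injective h))
            rw [← Finset.card_image_of_injective _ e.injective]
            simpa using this
          have := Finset.card_le_card hsub
          rw [Finset.card_univ_diff, hcard, h4'] at this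
          omega
      have hsupp : r ≤ σ.support.card := by rw [hsum]; exact Nat.le_mul_of_pos_left r hpos
      have hsub : (Finset.univ : Finset R) \ σ.support ⊆ (Finset.univ.filter fun y : R => y * y = 1) := by
        intro t ht
        simp only [Finset.mem_sdiff, Finset.mem_univ, true_and, Equiv.Perm.mem_support, not_not] at ht
        rcases hfix3 t ht with h | h | h
        · simp [h]
        · exact absurd hsupp h
        · omega
      have h2' : (Finset.univ.filter fun y : R => y * y = 1).card = 2 := by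
        have key : ((Finset.univ : Finset (QuaternionGroup 2)).filter fun y => y * y = 1).card = 2 := by decide
        refine Eq.trans ?_ key
        rw [← Finset.card_image_of_injective _ e.injective]
        congr 1
        ext t
        simp only [Finset.mem_image, Finset.mem_filter, Finset.mem_univ, true_and]
        constructor
        · rintro ⟨y, hy, rfl⟩; rw [← map_mul, hy, map_one]
        · intro ht; exact ⟨e.symm t, by rw [← map_mul, ht, map_one], e.apply_symm_apply t⟩
      have hle := Finset.card_le_card hsub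
      rw [Finset.card_univ_diff, hcard, h2'] at hle
      -- the fixed central involution
      have hz : σ ⟨a * a, mul_mem haR haR⟩ = ⟨a * a, mul_mem haR haR⟩ := Subtype.ext (by
        have ez : ((a * a : GL (Fin 2) F) : Matrix (Fin 2) (Fin 2) F) = -1 := by rw [Units.val_mul, hq.ha]
        show w * (a * a) * w⁻¹ = a * a
        rw [mul_inv_eq_iff_eq_mul]
        exact Units.ext (by rw [Units.val_mul w, Units.val_mul (a * a), ez, Matrix.mul_neg, Matrix.mul_one,
          Matrix.neg_mul, Matrix.one_mul]))
      have h12 : σ.support.card ≤ 6 := by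
        have hsub2 : σ.support ⊆ Finset.univ \ {1, ⟨a * a, mul_mem haR haR⟩} := by
          intro t ht
          rw [Finset.mem_sdiff]
          refine ⟨Finset.mem_univ _, fun h => ?_⟩
          simp only [Finset.mem_insert, Finset.mem_singleton] at h
          rw [Equiv.Perm.mem_support] at ht
          rcases h with rfl | rfl
          exacts [ht hone, ht hz]
        have := Finset.card_le_card hsub2
        rw [Finset.card_univ_diff, hcard, Finset.card_insert_of_notMem, Finset.card_singleton] at this
        · omega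
        · rw [Finset.mem_singleton]
          intro h
          have h' : (a * a : GL (Fin 2) F) = 1 := (congrArg Subtype.val h).symm
          have h'' := congrArg (fun u : GL (Fin 2) F => (u : Matrix (Fin 2) (Fin 2) F) 0 0) h'
          simp only [Units.val_mul, hq.ha, Units.val_one, Matrix.neg_apply, Matrix.one_apply_eq] at h''
          exact h2 (by linear_combination -h'')
      have : σ.cycleType.card ≤ 1 := by
        by_contra h
        have : 2 * r ≤ σ.cycleType.card * r := Nat.mul_le_mul_right r (by omega)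
        omega
      have hc1 : σ.cycleType.card = 1 := by omega
      rw [hc1, one_mul] at hsum
      have hr6 : r = 6 := by omega
      exact absurd hr (by rw [hr6]; norm_num)
    have hc : ∀ y ∈ R, (w : Matrix (Fin 2) (Fin 2) F) * (y : GL (Fin 2) F) = (y : GL (Fin 2) F) * (w : Matrix (Fin 2) (Fin 2) F) := by
      intro y hy
      have h1 : w * y * w⁻¹ = y := congrArg Subtype.val (hfixed ⟨y, hy⟩)
      rw [mul_inv_eq_iff_eq_mul] at h1
      rw [← Units.val_mul, ← Units.val_mul, h1]
    obtain ⟨c, hc'⟩ := commutant hq h2 (hc a haR) (hc b hbR)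
    refine hxns c ?_
    have h1 : (x : GL (Fin 2) F) = g * w * g⁻¹ := by rw [hw]; group
    rw [h1, Units.val_mul, Units.val_mul, hc', Matrix.mul_smul, Matrix.mul_one, Matrix.smul_mul, Units.mul_inv]
  · intro hr x hx ⟨z, hz⟩ hns
    set X := (x : Matrix (Fin 2) (Fin 2) F) with hX
    have hdet : X.det = 1 := (hmemSL x).1 hx
    have hz' : X ^ r = z • 1 := by rw [hX, ← Units.val_pow_eq_pow_val]; exact hz
    have hxx := cayley_two X
    rw [hdet, one_smul] at hxx
    -- finish by conjugacy
    have finish : ∀ Y : GL (Fin 2) F, Y ∈ Cfsg.Geo.subgroupNormalizer R → (Y : Matrix (Fin 2) (Fin 2) F).det = 1 →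
        (∀ c : F, (Y : Matrix (Fin 2) (Fin 2) F) ≠ c • 1) → (Y : Matrix (Fin 2) (Fin 2) F).trace = X.trace →
        X.trace ^ 2 - 4 ≠ 0 → ∃ g ∈ Cfsg.Geo.specialLinear (Fin 2) F, g⁻¹ * x * g ∈ Cfsg.Geo.subgroupNormalizer R := by
      intro Y hY hYd hYs htr ht4
      obtain ⟨g, hgd, hg⟩ := conj_of_trace h2 hdet hYd ht4 htr hns hYs
      let gu : GL (Fin 2) F := Matrix.GeneralLinearGroup.mkOfDetNeZero g (by rw [hgd]; exact one_ne_zero)
      refine ⟨gu, (hmemSL gu).2 hgd, ?_⟩
      have : gu⁻¹ * x * gu = Y := by
        rw [mul_assoc, inv_mul_eq_iff_eq_mul]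
        exact Units.ext hg
      rwa [this]
    rcases hr with rfl | rfl
    · have ht : X.trace = 0 := by
        by_contra ht
        refine hns (X.trace⁻¹ * (z + 1)) ?_
        rw [sq, hxx] at hz'
        have h' : X.trace • X = (z + 1) • (1 : Matrix (Fin 2) (Fin 2) F) := by
          linear_combination (norm := module) hz'
        rw [← smul_smul, ← h', smul_smul, inv_mul_cancel₀ ht, one_smul]
      obtain ⟨hat, had⟩ := trace_det_of_sq hq.ha (hq.not_scalar h2)
      refine finish a (Subgroup.le_normalizer haR) had (hq.not_scalar h2) (by rw [hat, ht]) ?_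
      rw [ht, zero_pow two_ne_zero, zero_sub, neg_ne_zero]
      exact h4
    · obtain ⟨y, hyd, hyt, hys, hya, hyb⟩ := hq.three h2 h3
      have h3' : X ^ 3 = (X.trace ^ 2 - 1) • X - X.trace • 1 := by
        rw [pow_three, hxx, Matrix.mul_sub, Matrix.mul_smul, Matrix.mul_one, hxx]
        module
      have ht : X.trace * X.trace = 1 := by
        by_contra ht
        have h0 : X.trace ^ 2 - 1 ≠ 0 := by rw [sq]; exact sub_ne_zero.2 ht
        refine hns ((X.trace ^ 2 - 1)⁻¹ * (z + X.trace)) ?_
        rw [h3'] at hz'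
        have h' : (X.trace ^ 2 - 1) • X = (z + X.trace) • (1 : Matrix (Fin 2) (Fin 2) F) := by
          linear_combination (norm := module) hz'
        rw [← smul_smul, ← h', smul_smul, inv_mul_cancel₀ h0, one_smul]
      have ht4 : X.trace ^ 2 - 4 ≠ 0 := by
        rw [sq, ht]; intro h; exact h3 (by linear_combination -h)
      let Y : GL (Fin 2) F := Matrix.GeneralLinearGroup.mkOfDetNeZero y (by rw [hyd]; exact one_ne_zero)
      have hYN : Y ∈ Cfsg.Geo.subgroupNormalizer R := by
        have h1 : Y * a * Y⁻¹ = a * b := by rw [mul_inv_eq_iff_eq_mul]; exact Units.ext hya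
        have h2' : Y * b * Y⁻¹ = a := by rw [mul_inv_eq_iff_eq_mul]; exact Units.ext hyb
        have hle : R.map (MulAut.conj Y).toMonoidHom ≤ R := by
          refine (Subgroup.map_mono hgen).trans ?_
          rw [MonoidHom.map_closure, Subgroup.closure_le]
          rintro _ ⟨u, hu, rfl⟩
          simp only [Set.mem_insert_iff, Set.mem_singleton_iff] at hu
          rcases hu with rfl | rfl
          · show Y * _ * Y⁻¹ ∈ R; rw [h1]; exact mul_mem haR hbR
          · show Y * _ * Y⁻¹ ∈ R; rw [h2']; exact haR
        have heq : R.map (MulAut.conj Y).toMonoidHom = R := by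
          refine Subgroup.eq_of_le_of_card_ge hle (le_of_eq ?_)
          exact Nat.card_congr (R.equivMapOfInjective _ (MulAut.conj Y).injective).toEquiv
        refine Subgroup.mem_normalizer_iff.2 fun u => ⟨fun hu => ?_, fun hu => ?_⟩
        · rw [← heq]; exact ⟨u, hu, rfl⟩
        · rw [← heq] at hu
          obtain ⟨v, hv, hve⟩ := hu
          rw [← (MulAut.conj Y).injective hve]; exact hv
      have h1t : X.trace = 1 ∨ X.trace = -1 := mul_self_eq_one_iff.1 ht
      rcases h1t with h | h
      · let Y' : GL (Fin 2) F := -Y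
        refine finish Y' ?_ ?_ ?_ ?_ ht4
        · refine Subgroup.mem_normalizer_iff.2 fun u => ?_
          have e1 : Y' * u * Y'⁻¹ = Y * u * Y⁻¹ := by simp [Y']
          rw [e1]
          exact Subgroup.mem_normalizer_iff.1 hYN u
        · show (-y).det = 1; rw [Matrix.det_neg, hyd]; simp
        · intro c hc; exact hys (-c) (by rw [neg_smul, ← hc]; exact (neg_neg y).symm)
        · show (-y).trace = X.trace; rw [Matrix.trace_neg, hyt, h, neg_neg]
      · exact finish Y hYN hyd hys (hyt.trans h.symm) ht4

end Cfsg.Agent.S5997
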