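import Cfsg.Statements.S5998
import Cfsg.Agent.Lib.Derange.HeisThree
import Cfsg.Agent.Lib.Classical.Card
-- import your own Cfsg.Agent.* helpers here

set_option autoImplicit false
open scoped MatrixGroups
open Cfsg

namespace Cfsg.Agent.S5998

/-- Elements of prime order of PSL_3(p), p ≡ 1 (mod 3), and the normalizer of an extraspecial subgroup of order 27. Here `T = PSL_3(F)` for the field `F` with `p` elements, `p` a prime with `p ≡ 1 (mod 3)`; `R` is a non-abelian subgroup of GL_3(F) of order 27 and exponent 3 (an extraspecial group 3^{1+2}, acting absolutely irreducibly), and `H` is the subgroup of matrices of determinant 1 normalizing `R` — a subgroup of type 3^{1+2}.Sp₂(3) (maximality is not assumed). Ω is the set of cosets of `H` in `T`, so an element of `T` of prime order `r` (a matrix `x` of determinant 1 with `x^r` scalar, `x` not scalar) fixes a point of Ω exactly when some conjugate of `x` by a matrix of determinant 1 normalizes `R`. Let `r` be a prime dividing the index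 of `H`. Then every element of `T` of order `r` fixes a point of Ω if and only if `r = 2`, or `r = 3` and `p ≡ 1 (mod 9)`. -/
theorem result {F : Type*} [Field F] [Fintype F] {p : ℕ} [Fact p.Prime] [CharP F p] (hF : Fintype.card F = p) (hp3 : p % 3 = 1)
    (R : Subgroup (GL (Fin 3) F)) (hR : Nat.card R = 27) (hRe : Monoid.exponent R = 3) (hRna : ¬ IsMulCommutative R)
    (r : ℕ) [Fact r.Prime]
    (hΩ : r ∣ (Cfsg.Geo.subgroupNormalizer R).relIndex (Cfsg.Geo.specialLinear (Fin 3) F)) :
    (∀ x ∈ Cfsg.Geo.specialLinear (Fin 3) F, (∃ z : F, ((x ^ r : GL (Fin 3) F) : Matrix (Fin 3) (Fin 3) F) = z • (1 : Matrix (Fin 3) (Fin 3) F)) →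
      (∀ z : F, (x : Matrix (Fin 3) (Fin 3) F) ≠ z • (1 : Matrix (Fin 3) (Fin 3) F)) →
      ∃ g ∈ Cfsg.Geo.specialLinear (Fin 3) F, g⁻¹ * x * g ∈ Cfsg.Geo.subgroupNormalizer R) ↔ (r = 2 ∨ (r = 3 ∧ p % 9 = 1)) := by
  classical
  have hr : r.Prime := Fact.out
  have hp : p.Prime := Fact.out
  have hp1 : p ≠ 2 := fun h => by omega
  have hp2 : p ≠ 3 := fun h => by omega
  have h3 : (3 : F) ≠ 0 := fun h => hp2 ((Nat.prime_dvd_prime_iff_eq hp Nat.prime_three).1
    ((CharP.cast_eq_zero_iff F p 3).1 (by exact_mod_cast h)))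
  obtain ⟨ω, hω⟩ := CfsgLib.Derange.Heis.exists_prim (F := F) (m := 3) (by rw [hF]; omega)
  obtain ⟨P, hf⟩ := CfsgLib.Derange.Heis.exists_frame hω h3 hR hRe hRna
  set SL := Cfsg.Geo.specialLinear (Fin 3) F with hSL
  set Nz := Cfsg.Geo.subgroupNormalizer R with hNz
  have hcardSL : Nat.card SL = Nat.card (Matrix.SpecialLinearGroup (Fin 3) F) :=
    CfsgLib.Classical.card_SL_eq_card_ker_det.symm
  constructor
  · intro H
    by_cases hr2 : r = 2
    · exact Or.inl hr2
    refine Or.inr ?_
    by_cases hr3 : r = 3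
    · refine ⟨hr3, ?_⟩
      by_contra h9
      have h27 : 27 ∣ Nat.card (Nz.subgroupOf SL) := by
        have h1 : Nat.card (R.subgroupOf SL) = 27 :=
          (Nat.card_congr (Subgroup.subgroupOfEquivOfLe hf.le_sl).toEquiv).trans hR
        rw [← h1]
        exact Subgroup.card_dvd_of_le fun g hg => Subgroup.le_normalizer hg
      have hidx : Nat.card SL = Nat.card (Nz.subgroupOf SL) * Nz.relIndex SL :=
        ((Nz.subgroupOf SL).card_mul_index).symm
      have h81 : 27 * 3 ∣ Nat.card SL := hidx ▸ Nat.mul_dvd_mul h27 (hr3 ▸ hΩ)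
      have h243 : 243 ∣ (p - 1) * Nat.card SL := by
        rw [show (243 : ℕ) = 3 * (27 * 3) by norm_num]
        exact Nat.mul_dvd_mul (by omega) h81
      rw [hcardSL, ← hF, CfsgLib.Classical.sub_one_mul_card_SL (by norm_num), Fin.prod_univ_three, hF] at h243
      have hz := (ZMod.natCast_eq_zero_iff _ 243).2 h243
      have hle : ∀ i, i ≤ 3 → p ^ i ≤ p ^ 3 := fun i hi => Nat.pow_le_pow_right hp.pos hi
      simp only [Fin.val_zero, Fin.val_one, Fin.val_two] at hz
      rw [Nat.cast_mul, Nat.cast_mul, Nat.cast_sub (hle 0 (by norm_num)), Nat.cast_sub (hle 1 (by norm_num)),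
        Nat.cast_sub (hle 2 (by norm_num))] at hz
      simp only [Nat.cast_pow, pow_zero, pow_one] at hz
      have key : ∀ a : ZMod 243, a.val % 3 = 1 → a.val % 9 ≠ 1 →
          (a ^ 3 - 1) * (a ^ 3 - a) * (a ^ 3 - a ^ 2) ≠ 0 := by decide +kernel
      refine key (p : ZMod 243) ?_ ?_ hz
      · rw [ZMod.val_natCast]; omega
      · rw [ZMod.val_natCast]; omega
    · exfalso
      have hdvd : r ∣ Nat.card SL := hΩ.trans (Nz.subgroupOf SL).index_dvd_card
      obtain ⟨⟨x, hx⟩, hxo⟩ := exists_prime_orderOf_dvd_card' r hdvd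
      have hxr : x ^ r = 1 := by
        have := pow_orderOf_eq_one (⟨x, hx⟩ : SL)
        rw [hxo] at this
        exact congrArg Subtype.val this
      have hns : ∀ z : F, (x : Matrix (Fin 3) (Fin 3) F) ≠ z • (1 : Matrix (Fin 3) (Fin 3) F) := fun z hz => by
        have hz3 : z ^ 3 = 1 := by
          have h := congrArg Matrix.det hz
          have h1 : (x : Matrix (Fin 3) (Fin 3) F).det = 1 := congrArg Units.val (MonoidHom.mem_ker.1 hx)
          rw [h1, Matrix.det_smul, Fintype.card_fin, Matrix.det_one, mul_one] at h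
          exact h.symm
        have hzr : z ^ r = 1 := by
          have h : ((x ^ r : GL (Fin 3) F) : Matrix (Fin 3) (Fin 3) F) = z ^ r • 1 := by
            rw [Units.val_pow_eq_pow_val, hz, smul_pow, one_pow]
          rw [hxr] at h
          simpa using (congrFun (congrFun h 0) 0).symm
        have hz1 : z = 1 := orderOf_eq_one_iff.1 (Nat.eq_one_of_dvd_coprimes
          ((Nat.coprime_primes Nat.prime_three hr).2 (Ne.symm hr3)) (orderOf_dvd_of_pow_eq_one hz3)
          (orderOf_dvd_of_pow_eq_one hzr))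
        have : (⟨x, hx⟩ : SL) = 1 := Subtype.ext (Units.ext (by rw [hz, hz1, one_smul]; rfl))
        rw [this, orderOf_one] at hxo
        exact hr.one_lt.ne hxo
      obtain ⟨g, -, hg⟩ := H x hx ⟨1, by rw [hxr, one_smul]; rfl⟩ hns
      obtain ⟨z, hz⟩ := hf.scalar_of_order hR hr hr2 hr3 hg (by
        rw [show g⁻¹ * x * g = g⁻¹ * x * g⁻¹⁻¹ by rw [inv_inv], conj_pow, hxr, mul_one, mul_inv_cancel])
      refine hns z ?_
      rw [show x = g * (g⁻¹ * x * g) * g⁻¹ by group, Units.val_mul, Units.val_mul, hz, mul_smul_comm, mul_one,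
        smul_mul_assoc, ← Units.val_mul, mul_inv_cancel, Units.val_one]
  · intro hcase x hx ⟨z, hz⟩ hns
    have hr23 : r = 2 ∨ r = 3 := hcase.imp id fun h => h.1
    have hxd : (x : Matrix (Fin 3) (Fin 3) F).det = 1 := congrArg Units.val (MonoidHom.mem_ker.1 hx)
    obtain ⟨N, hN, hxN, hN18, -⟩ := hf.exists_model hp1 hp2 hr23 (fun h3' => by
      obtain ⟨ζ, hζ⟩ := CfsgLib.Derange.Heis.exists_prim (F := F) (m := 9)
        (by rw [hF]; rcases hcase with h | h <;> omega)
      obtain ⟨j, -, hj⟩ := hω.eq_pow_of_pow_eq_one (show (ζ ^ 3) ^ 3 = 1 by rw [← pow_mul]; exact hζ.pow_eq_one)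
      have hωj : ω = (ζ ^ j) ^ 3 := by
        have h1 : ω ^ j ≠ 1 := fun h => hζ.pow_ne_one_of_pos_of_lt (by norm_num : (3 : ℕ) ≠ 0) (by norm_num) (hj ▸ h)
        have h4 : ω ^ (j * j) = ω := by
          rw [← pow_mod_orderOf, ← hω.eq_orderOf]
          have h5 : j % 3 ≠ 0 := fun h => h1 (by rw [← pow_mod_orderOf, ← hω.eq_orderOf, h, pow_zero])
          have h6 : j * j % 3 = 1 := by
            rw [Nat.mul_mod]
            rcases (show j % 3 = 1 ∨ j % 3 = 2 by omega) with h | h <;> rw [h]
          rw [h6, pow_one]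
        rw [← pow_mul, mul_comm, pow_mul, ← hj, ← pow_mul, h4]
      exact ⟨_, hωj.symm⟩) x hxd hz hns
    have hxn : IsConj x (P * N * P⁻¹) := hxN.trans (isConj_iff.2 ⟨P, rfl⟩)
    obtain ⟨e, he⟩ := isConj_iff.1 hxN
    have hx18 : x ^ (9 * 2) = 1 := by
      rw [show x = e⁻¹ * N * e⁻¹⁻¹ by rw [← he]; group, conj_pow, hN18]; group
    have hx3r : x ^ (3 * r) = 1 := by
      have hz3 : z ^ 3 = 1 := by
        have h := congrArg Matrix.det hz
        rw [Units.val_pow_eq_pow_val, Matrix.det_pow, hxd, one_pow, Matrix.det_smul, Fintype.card_fin, Matrix.det_one,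
          mul_one] at h
        exact h.symm
      refine Units.ext ?_
      rw [mul_comm, pow_mul, Units.val_pow_eq_pow_val, hz, smul_pow, one_pow, hz3, one_smul]; rfl
    haveI : NeZero (3 * r) := ⟨mul_ne_zero (by norm_num) hr.ne_zero⟩
    obtain ⟨g, hg, hgx⟩ := CfsgLib.Derange.Heis.exists_sl_conj (p := p) (m := 3 * r)
      (fun h => by
        rcases hp.dvd_mul.1 h with h | h
        · exact hp2 ((Nat.prime_dvd_prime_iff_eq hp Nat.prime_three).1 h)
        · have := (Nat.prime_dvd_prime_iff_eq hp hr).1 h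
          rcases hr23 with h' | h' <;> omega)
      (by
        rw [hF]
        rcases hcase with h | ⟨h, h9⟩ <;> subst h
        · have := hp.eq_two_or_odd.resolve_left hp1
          omega
        · omega)
      hx3r hxn
    exact ⟨g, hg, hgx ▸ hN⟩

end Cfsg.Agent.S5998
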