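import Cfsg.Statements.S5999
import Cfsg.Agent.Lib.Derange.HeisThree
import Cfsg.Agent.Lib.Classical.UnitarySemisimple
import Cfsg.Agent.Lib.Classical.UnitaryThreeInvol
import Cfsg.Agent.Lib.ClassicalAut.UnitaryTwist
-- import your own Cfsg.Agent.* helpers here

set_option autoImplicit false
open scoped MatrixGroups
open Cfsg

namespace Cfsg.Agent.S5999
open scoped Matrix


/-- Elements of prime order of PSU_3(p), p ≡ 2 (mod 3), and the normalizer of an extraspecial subgroup of order 27. Here `T = PSU_3(p)` for a prime `p ≥ 5` with `p ≡ 2 (mod 3)`, realised through `SU_3(p)`, the matrices of determinant 1 over the field `F` with `p²` elements preserving the hermitian form `Σ uᵢvᵢ^p`; `R` is a non-abelian subgroup of order 27 and exponent 3 of the full unitary group of that form (an extraspecial group 3^{1+2}, acting absolutely irreducibly), and `H` is the subgroup of `SU_3(p)` normalizing `R` — a subgroup of type 3^{1+2}.Sp₂(3) (maximality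 is not assumed). Ω is the set of cosets of `H`, so an element of `T` of prime order `r` (`x ∈ SU_3(p)` with `x^r` scalar, `x` not scalar) fixes a point of Ω exactly when some `SU_3(p)`-conjugate of `x` normalizes `R`. Let `r` be a prime dividing the index of `H`. Then every element of `T` of order `r` fixes a point of Ω if and only if `r = 2`, or `r = 3` and `p ≡ 8 (mod 9)`. -/
theorem result {F : Type*} [Field F] [Fintype F] {p : ℕ} [Fact p.Prime] [CharP F p] (hF : Fintype.card F = p ^ 2) (hp : 5 ≤ p) (hp3 : p % 3 = 2)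
    (R : Subgroup (GL (Fin 3) F)) (hRU : R ≤ Cfsg.GU 3 F p) (hR : Nat.card R = 27) (hRe : Monoid.exponent R = 3) (hRna : ¬ IsMulCommutative R)
    (r : ℕ) [Fact r.Prime]
    (hΩ : r ∣ (Cfsg.Geo.subgroupNormalizer R).relIndex (Cfsg.GU 3 F p ⊓ Cfsg.Geo.specialLinear (Fin 3) F)) :
    (∀ x ∈ Cfsg.GU 3 F p ⊓ Cfsg.Geo.specialLinear (Fin 3) F, (∃ z : F, ((x ^ r : GL (Fin 3) F) : Matrix (Fin 3) (Fin 3) F) = z • (1 : Matrix (Fin 3) (Fin 3) F)) →
      (∀ z : F, (x : Matrix (Fin 3) (Fin 3) F) ≠ z • (1 : Matrix (Fin 3) (Fin 3) F)) →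
      ∃ g ∈ Cfsg.GU 3 F p ⊓ Cfsg.Geo.specialLinear (Fin 3) F, g⁻¹ * x * g ∈ Cfsg.Geo.subgroupNormalizer R) ↔ (r = 2 ∨ (r = 3 ∧ p % 9 = 8)) := by
  classical
  have hr : r.Prime := Fact.out
  have hpp : p.Prime := Fact.out
  have hp1 : p ≠ 2 := fun h => by omega
  have hp2 : p ≠ 3 := fun h => by omega
  have h3 : (3 : F) ≠ 0 := fun h => hp2 ((Nat.prime_dvd_prime_iff_eq hpp Nat.prime_three).1
    ((CharP.cast_eq_zero_iff F p 3).1 (by exact_mod_cast h)))
  have hF' : Nat.card F = p ^ 2 := by rw [Nat.card_eq_fintype_card, hF]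
  obtain ⟨K⟩ := CfsgLib.ClassicalAut.Unitary.exists_conj (F := F) (p := p) (f := 1) (pow_one p).symm hF'
  have hmod9 : p ^ 2 % 9 = (p % 9) ^ 2 % 9 := Nat.pow_mod p 2 9
  have h3dvd : 3 ∣ Fintype.card F - 1 := by
    rw [hF]
    have h := Nat.pow_mod p 2 3
    rw [hp3] at h
    norm_num at h
    have : 1 ≤ p ^ 2 := Nat.one_le_pow _ _ hpp.pos
    omega
  obtain ⟨ω, hω⟩ := CfsgLib.Derange.Heis.exists_prim (F := F) h3dvd
  obtain ⟨P, hf⟩ := CfsgLib.Derange.Heis.exists_frame hω h3 hR hRe hRna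
  have hbar : ∀ a : F, a ^ 9 = 1 → K.bar a * a = 1 := fun a ha => by
    have ha0 : a ≠ 0 := fun h => by simp [h] at ha
    have h1 : orderOf a ∣ (p + 1) * (p - 1) := by
      refine orderOf_dvd_of_pow_eq_one ?_
      rw [← Nat.sq_sub_sq, one_pow, ← hF]
      exact FiniteField.pow_card_sub_one_eq_one a ha0
    have h2 : Nat.Coprime (orderOf a) (p - 1) :=
      Nat.Coprime.coprime_dvd_left (show orderOf a ∣ 3 ^ 2 from orderOf_dvd_of_pow_eq_one (by simpa using ha))
        (Nat.Coprime.pow_left 2 ((Nat.prime_three.coprime_iff_not_dvd).2 (by omega)))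
    rw [K.bar_apply, ← pow_succ]
    exact orderOf_dvd_iff_pow_eq_one.1 (h2.dvd_of_dvd_mul_right h1)
  let φ : ↥(Cfsg.SU 3 F p) →* GL (Fin 3) F :=
    (Cfsg.GU 3 F p).subtype.comp (CfsgLib.Classical.UnitarySemisimple.suIncl 3 F p)
  set SL := Cfsg.GU 3 F p ⊓ Cfsg.Geo.specialLinear (Fin 3) F with hSL
  set Nz := Cfsg.Geo.subgroupNormalizer R with hNz
  have hdet : ∀ g ∈ SL, (g : Matrix (Fin 3) (Fin 3) F).det = 1 := fun g hg =>
    congrArg Units.val (MonoidHom.mem_ker.1 hg.2)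
  have hφmem : ∀ g, φ g ∈ SL := fun g =>
    ⟨((CfsgLib.Classical.UnitarySemisimple.suIncl 3 F p) g).2, MonoidHom.mem_ker.2 (Units.ext g.1.2)⟩
  obtain ⟨lift, hlift, hlm⟩ : ∃ lift : ∀ g : GL (Fin 3) F, g ∈ SL → ↥(Cfsg.SU 3 F p),
      (∀ g hg, φ (lift g hg) = g) ∧
      ∀ g hg, ((lift g hg).1 : Matrix (Fin 3) (Fin 3) F) = (g : Matrix (Fin 3) (Fin 3) F) :=
    ⟨fun g hg => ⟨⟨g, hdet g hg⟩, fun u v => hg.1 u v⟩, fun g hg => Units.ext rfl, fun g hg => rfl⟩
  have hφinj : Function.Injective φ := fun a b h =>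
    Subtype.ext (Subtype.ext (congrArg (fun g : GL (Fin 3) F => (g : Matrix (Fin 3) (Fin 3) F)) h))
  constructor
  · intro H
    by_cases hr2 : r = 2
    · exact Or.inl hr2
    refine Or.inr ?_
    by_cases hr3 : r = 3
    · refine ⟨hr3, ?_⟩
      by_contra h9
      have hRle : R ≤ SL := le_inf hRU hf.le_sl
      have h27 : 27 ∣ Nat.card (Nz.subgroupOf SL) := by
        have h1 : Nat.card (R.subgroupOf SL) = 27 :=
          (Nat.card_congr (Subgroup.subgroupOfEquivOfLe hRle).toEquiv).trans hR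
        rw [← h1]
        exact Subgroup.card_dvd_of_le fun g hg => Subgroup.le_normalizer hg
      have hidx : Nat.card SL = Nat.card (Nz.subgroupOf SL) * Nz.relIndex SL :=
        ((Nz.subgroupOf SL).card_mul_index).symm
      have hcardSL : Nat.card SL = p ^ 3 * (p ^ 2 - 1) * (p ^ 3 + 1) := by
        rw [← CfsgLib.Classical.SU3Invol.card_SU_three (F := F) K]
        exact (Nat.card_eq_of_bijective (fun g => (⟨φ g, hφmem g⟩ : SL))
          ⟨fun a b h => hφinj (Subtype.mk.inj h), fun g => ⟨lift g.1 g.2, Subtype.ext (hlift g.1 g.2)⟩⟩).symm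
      have h81 : 27 * 3 ∣ p ^ 3 * (p ^ 2 - 1) * (p ^ 3 + 1) :=
        hcardSL ▸ hidx ▸ Nat.mul_dvd_mul h27 (hr3 ▸ hΩ)
      have hz := (ZMod.natCast_eq_zero_iff _ 81).2 h81
      rw [Nat.cast_mul, Nat.cast_mul, Nat.cast_sub (Nat.one_le_pow _ _ hpp.pos)] at hz
      simp only [Nat.cast_pow, Nat.cast_one, Nat.cast_add] at hz
      have key : ∀ a : ZMod 81, a.val % 3 = 2 → a.val % 9 ≠ 8 →
          a ^ 3 * (a ^ 2 - 1) * (a ^ 3 + 1) ≠ 0 := by decide +kernel
      refine key (p : ZMod 81) ?_ ?_ hz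
      · rw [ZMod.val_natCast]; omega
      · rw [ZMod.val_natCast]; omega
    · exfalso
      have hdvd : r ∣ Nat.card SL := hΩ.trans (Nz.subgroupOf SL).index_dvd_card
      obtain ⟨⟨x, hx⟩, hxo⟩ := exists_prime_orderOf_dvd_card' r hdvd
      have hxr : x ^ r = 1 := by
        have := pow_orderOf_eq_one (⟨x, hx⟩ : SL)
        rw [hxo] at this
        exact congrArg Subtype.val this
      have hns : ∀ z : F, (x : Matrix (Fin 3) (Fin 3) F) ≠ z • (1 : Matrix (Fin 3) (Fin 3) F) := fun z hz => by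
        have hz3 : z ^ 3 = 1 := by
          have h := congrArg Matrix.det hz
          rw [hdet x hx, Matrix.det_smul, Fintype.card_fin, Matrix.det_one, mul_one] at h
          exact h.symm
        have hzr : z ^ r = 1 := by
          have h : ((x ^ r : GL (Fin 3) F) : Matrix (Fin 3) (Fin 3) F) = z ^ r • 1 := by
            rw [Units.val_pow_eq_pow_val, hz, smul_pow, one_pow]
          rw [hxr] at h
          simpa using (congrFun (congrFun h 0) 0).symm
        have hz1 : z = 1 := orderOf_eq_one_iff.1 (Nat.eq_one_of_dvd_coprimes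
          ((Nat.coprime_primes Nat.prime_three hr).2 (Ne.symm hr3)) (orderOf_dvd_of_pow_eq_one hz3)
          (orderOf_dvd_of_pow_eq_one hzr))
        have : (⟨x, hx⟩ : SL) = 1 := Subtype.ext (Units.ext (by rw [hz, hz1, one_smul]; rfl))
        rw [this, orderOf_one] at hxo
        exact hr.one_lt.ne hxo
      obtain ⟨g, -, hg⟩ := H x hx ⟨1, by rw [hxr, one_smul]; rfl⟩ hns
      obtain ⟨z, hz⟩ := hf.scalar_of_order hR hr hr2 hr3 hg (by
        rw [show g⁻¹ * x * g = g⁻¹ * x * g⁻¹⁻¹ by rw [inv_inv], conj_pow, hxr, mul_one, mul_inv_cancel])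
      refine hns z ?_
      rw [show x = g * (g⁻¹ * x * g) * g⁻¹ by group, Units.val_mul, Units.val_mul, hz, mul_smul_comm, mul_one,
        smul_mul_assoc, ← Units.val_mul, mul_inv_cancel, Units.val_one]
  · intro hcase x hx ⟨z, hz⟩ hns
    have hr23 : r = 2 ∨ r = 3 := hcase.imp id fun h => h.1
    obtain ⟨N, hN, hxN, hN18, hNu⟩ := hf.exists_model hp1 hp2 hr23 (fun h3' => by
      obtain ⟨ζ, hζ⟩ := CfsgLib.Derange.Heis.exists_prim (F := F) (m := 9) (by
        have h9 : p % 9 = 8 := by rcases hcase with h | h <;> omega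
        rw [h9] at hmod9
        norm_num at hmod9
        rw [hF]; omega)
      obtain ⟨j, -, hj⟩ := hω.eq_pow_of_pow_eq_one (show (ζ ^ 3) ^ 3 = 1 by rw [← pow_mul]; exact hζ.pow_eq_one)
      have hωj : ω = (ζ ^ j) ^ 3 := by
        have h1 : ω ^ j ≠ 1 := fun h => hζ.pow_ne_one_of_pos_of_lt (by norm_num : (3 : ℕ) ≠ 0) (by norm_num) (hj ▸ h)
        have h4 : ω ^ (j * j) = ω := by
          rw [← pow_mod_orderOf, ← hω.eq_orderOf]
          have h5 : j % 3 ≠ 0 := fun h => h1 (by rw [← pow_mod_orderOf, ← hω.eq_orderOf, h, pow_zero])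
          have h6 : j * j % 3 = 1 := by
            rw [Nat.mul_mod]
            rcases (show j % 3 = 1 ∨ j % 3 = 2 by omega) with h | h <;> rw [h]
          rw [h6, pow_one]
        rw [← pow_mul, mul_comm, pow_mul, ← hj, ← pow_mul, h4]
      exact ⟨_, hωj.symm⟩) x (hdet x hx) hz hns
    have hNu' : (N : Matrix (Fin 3) (Fin 3) F)ᵀ * (N : Matrix (Fin 3) (Fin 3) F).map K.bar = 1 := by
      have h := congrArg Matrix.transpose (hNu K.bar.toRingHom hbar)
      rwa [Matrix.transpose_mul, Matrix.transpose_transpose, Matrix.transpose_one] at h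
    obtain ⟨Pm, hPm⟩ : ∃ Pm, Pm = (P : Matrix (Fin 3) (Fin 3) F) := ⟨_, rfl⟩
    obtain ⟨Gm, hGm⟩ : ∃ Gm, Gm = Pmᵀ * Pm.map K.bar := ⟨_, rfl⟩
    have hmap : ∀ A B : Matrix (Fin 3) (Fin 3) F, (A * B).map K.bar = A.map K.bar * B.map K.bar := fun A B =>
      Matrix.map_mul
    have hinv : ∀ (g : GL (Fin 3) F) (A : Matrix (Fin 3) (Fin 3) F),
        (g : Matrix (Fin 3) (Fin 3) F)ᵀ * (g : Matrix (Fin 3) (Fin 3) F).map K.bar = 1 →
        (g : Matrix (Fin 3) (Fin 3) F) * Pm = Pm * A → Gm = Aᵀ * Gm * A.map K.bar := fun g A hg h => by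
      have h' := congrArg (fun X : Matrix (Fin 3) (Fin 3) F => Xᵀ * X.map K.bar) h
      simp only [Matrix.transpose_mul, hmap] at h'
      rw [mul_assoc (Pm : Matrix (Fin 3) (Fin 3) F)ᵀ, ← mul_assoc (g : Matrix (Fin 3) (Fin 3) F)ᵀ, hg, one_mul, ← hGm,
        mul_assoc Aᵀ, ← mul_assoc Pmᵀ, ← hGm, ← mul_assoc] at h'
      exact h'
    have hω3 : ω ^ 3 = 1 := hω.pow_eq_one
    obtain ⟨a, haR, haP⟩ := hf.clock
    obtain ⟨b, hbR, hbP⟩ := hf.shift
    rw [← hPm] at haP hbP
    have hGd : Gm * CfsgLib.Derange.Heis.dM ω = CfsgLib.Derange.Heis.dM ω * Gm := by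
      have h := hinv a _ ((CfsgLib.ClassicalAut.Unitary.mem_GU_iff K).1 (hRU haR)) haP
      have e1 : (CfsgLib.Derange.Heis.dM ω)ᵀ = CfsgLib.Derange.Heis.dM ω := Matrix.diagonal_transpose _
      have e2 : (CfsgLib.Derange.Heis.dM ω).map K.bar * CfsgLib.Derange.Heis.dM ω = 1 := by
        rw [CfsgLib.Derange.Heis.dM, Matrix.diagonal_map (map_zero _), Matrix.diagonal_mul_diagonal,
          ← Matrix.diagonal_one]
        congr 1
        funext i
        exact hbar _ (by rw [← pow_mul, show (i : ℕ) * 9 = 3 * (3 * i) by ring, pow_mul, hω3, one_pow])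
      rw [e1] at h
      conv_lhs => rw [h, mul_assoc, e2, mul_one]
    have hGy : Gm * CfsgLib.Derange.Heis.yM = CfsgLib.Derange.Heis.yM * Gm := by
      have h := hinv b _ ((CfsgLib.ClassicalAut.Unitary.mem_GU_iff K).1 (hRU hbR)) hbP
      have e1 : (CfsgLib.Derange.Heis.yM : Matrix (Fin 3) (Fin 3) F) * (CfsgLib.Derange.Heis.yM)ᵀ = 1 := by
        ext i j
        fin_cases i <;> fin_cases j <;> simp [CfsgLib.Derange.Heis.yM, Matrix.mul_apply, Fin.sum_univ_three]
      have e2 : (CfsgLib.Derange.Heis.yM : Matrix (Fin 3) (Fin 3) F).map K.bar = CfsgLib.Derange.Heis.yM := by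
        ext i j
        fin_cases i <;> fin_cases j <;> simp [CfsgLib.Derange.Heis.yM]
      rw [e2] at h
      conv_rhs => rw [h, ← mul_assoc, ← mul_assoc, e1, one_mul]
    have hGs := CfsgLib.Derange.Heis.scalar_of_comm hω hGd hGy
    set n := P * N * P⁻¹ with hn
    have hnP : (n : Matrix (Fin 3) (Fin 3) F) * Pm = Pm * (N : Matrix (Fin 3) (Fin 3) F) := by
      rw [hPm, ← Units.val_mul, hn, inv_mul_cancel_right, Units.val_mul]
    have hnU : n ∈ Cfsg.GU 3 F p := by
      rw [CfsgLib.ClassicalAut.Unitary.mem_GU_iff K]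
      have h := congrArg (fun X : Matrix (Fin 3) (Fin 3) F => Xᵀ * X.map K.bar) hnP
      simp only [Matrix.transpose_mul, hmap] at h
      rw [mul_assoc (N : Matrix (Fin 3) (Fin 3) F)ᵀ, ← mul_assoc Pmᵀ (Pm.map K.bar), ← hGm, hGs, smul_mul_assoc,
        one_mul, mul_smul_comm, hNu', ← hGs, hGm, mul_assoc Pmᵀ, ← mul_assoc (n : Matrix (Fin 3) (Fin 3) F)ᵀ] at h
      have hu : IsUnit Pmᵀ := (Matrix.isUnit_transpose Pm).2 (hPm ▸ P.isUnit)
      have hv : IsUnit (Pm.map K.bar) := (hPm ▸ P.isUnit : IsUnit Pm).map K.bar.toRingHom.mapMatrix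
      exact hv.mul_left_injective ((hu.mul_right_injective h).trans (one_mul _).symm)
    obtain ⟨e, he⟩ := isConj_iff.1 hxN
    have hxn : IsConj x n := hxN.trans (isConj_iff.2 ⟨P, rfl⟩)
    have hnS : n ∈ SL := by
      refine ⟨hnU, MonoidHom.mem_ker.2 ?_⟩
      obtain ⟨f, hf'⟩ := isConj_iff.1 hxn
      rw [← hf', map_mul, map_mul, map_inv, mul_inv_cancel_comm]
      exact MonoidHom.mem_ker.1 hx.2
    have hx18 : x ^ (9 * 2) = 1 := by
      rw [show x = e⁻¹ * N * e⁻¹⁻¹ by rw [← he]; group, conj_pow, hN18]; group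
    have hn18 : n ^ (9 * 2) = 1 := by
      rw [hn, conj_pow, hN18]; group
    have hcop : ∀ g hg, g ^ (9 * 2) = 1 → (orderOf (lift g hg)).Coprime p := fun g hg h => by
      rw [← orderOf_injective φ hφinj, hlift g hg]
      refine ((hpp.coprime_iff_not_dvd).2 fun h' => ?_).symm
      have h18 := h'.trans (orderOf_dvd_of_pow_eq_one h)
      rcases hpp.dvd_mul.1 h18 with h9 | h9
      · exact hp2 ((Nat.prime_dvd_prime_iff_eq hpp Nat.prime_three).1 (hpp.dvd_of_dvd_pow (show p ∣ 3 ^ 2 from h9)))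
      · exact hp1 ((Nat.prime_dvd_prime_iff_eq hpp Nat.prime_two).1 h9)
    obtain ⟨c, hc⟩ := isConj_iff.1 (CfsgLib.Classical.UnitarySemisimple.su_conj_of_charpoly_eq (p := p) hF
      (lift x hx) (lift n hnS) (hcop x hx hx18) (hcop n hnS hn18)
      (by rw [hlm x hx, hlm n hnS]; exact CfsgLib.Classical.UnitarySemisimple.charpoly_conj_eq hxn))
    refine ⟨(φ c)⁻¹, inv_mem (hφmem c), ?_⟩
    have h := congrArg φ hc
    rw [map_mul, map_mul, map_inv, hlift, hlift] at h
    rw [inv_inv, h]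
    exact hN

end Cfsg.Agent.S5999
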